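import Mathlib
import Groth.Prelude.Def_HMNum
import Groth.Agent.H4.OsA

/-!
# The numerical function `μ` under translation of the point / conjugation of the
one-parameter subgroup (helper4)
-/

namespace Groth.Agent.H4.MuA

universe u

open CategoryTheory CategoryTheory.Limits MonoidalCategory CartesianMonoidalCategory MonObj
  AlgebraicGeometry Opposite

noncomputable section

section Alg

theorem conj_eq {Γ : Type*} [Group Γ] (c l : Γ) : c * (c⁻¹ * l * c) = l * c := by group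

theorem conj_swap {Γ : Type*} [Group Γ] {c l l' : Γ} (h : c * l' = l * c) :
    c⁻¹ * l = l' * c⁻¹ := by
  have h1 : l = c * l' * c⁻¹ := by rw [h]; group
  rw [h1]; group

theorem conj_mul {Γ : Type*} [Group Γ] (c A B : Γ) :
    c * (A * B) * c⁻¹ = (c * A * c⁻¹) * (c * B * c⁻¹) := by group

theorem conj_one {Γ : Type*} [Group Γ] (c : Γ) : c * 1 * c⁻¹ = 1 := by group

end Alg

section AppLE

theorem appLE_appLE_apply {X Y Z : Scheme.{u}} (f : X ⟶ Y) (g : Y ⟶ Z) (U : Z.Opens)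
    (V : Y.Opens) (W : X.Opens) (e₁ : V ≤ g ⁻¹ᵁ U) (e₂ : W ≤ f ⁻¹ᵁ V)
    (e₃ : W ≤ (f ≫ g) ⁻¹ᵁ U) (s : Γ(Z, U)) :
    f.appLE V W e₂ (g.appLE U V e₁ s) = (f ≫ g).appLE U W e₃ s := by
  have h := Scheme.Hom.appLE_comp_appLE f g U V W e₁ e₂
  exact congrArg (fun φ => φ s) h

theorem appLE_congr_hom {X Y : Scheme.{u}} {f f' : X ⟶ Y} (h : f = f') (U : Y.Opens)
    (V : X.Opens) (e : V ≤ f ⁻¹ᵁ U) (e' : V ≤ f' ⁻¹ᵁ U) (s : Γ(Y, U)) :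
    f.appLE U V e s = f'.appLE U V e' s := by
  subst h; rfl

end AppLE

variable {S : Scheme.{u}} {G X V : Over S} [GrpObj G]

theorem evalFn_congr (π : V ⟶ X) {U : X.left.Opens} (y : Γ(V.left, π.left ⁻¹ᵁ U))
    {T' : Over S} {v v' : T' ⟶ V} (h : v = v') (hv : ⊤ ≤ v.left ⁻¹ᵁ (π.left ⁻¹ᵁ U))
    (hv' : ⊤ ≤ v'.left ⁻¹ᵁ (π.left ⁻¹ᵁ U)) :
    HMNum.evalFn π y v hv = HMNum.evalFn π y v' hv' := by
  subst h; rfl

theorem preim_top {T T' : Over S} {x₀ : T ⟶ X} {U : X.left.Opens} (hU : x₀.left ⁻¹ᵁ U = ⊤)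
    {z : T' ⟶ X} {t : T' ⟶ T} (hz : z = t ≫ x₀) : ⊤ ≤ z.left ⁻¹ᵁ U := by
  subst hz
  have h2 : (t ≫ x₀).left ⁻¹ᵁ U = t.left ⁻¹ᵁ (x₀.left ⁻¹ᵁ U) := rfl
  rw [h2, hU]
  exact le_of_eq rfl

/-- evaluating the linearity identity of a lifted action at a point -/
theorem lin_eval (a : AlgGrp.Action G X) (π : V ⟶ X) (Φ : AlgGrp.Action G V)
    (hπ : Φ.act ≫ π = (G ◁ π) ≫ a.act)
    {U U' : X.left.Opens} (y : Γ(V.left, π.left ⁻¹ᵁ U)) (y' : Γ(V.left, π.left ⁻¹ᵁ U'))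
    (c : Γ((G ⊗ X).left, a.act.left ⁻¹ᵁ U' ⊓ (snd G X).left ⁻¹ᵁ U))
    (hc : Φ.act.left.appLE (π.left ⁻¹ᵁ U') (GLinSh.liftOpen a π U U')
        (GLinSh.liftOpen_le_act a π Φ hπ) y' =
      (G ◁ π).left.appLE _ (GLinSh.liftOpen a π U U') (GLinSh.liftOpen_le_base a π) c *
        (snd G V).left.appLE (π.left ⁻¹ᵁ U) (GLinSh.liftOpen a π U U')
          (GLinSh.liftOpen_le_snd a π) y)
    {T' : Over S} (gm : T' ⟶ G) (u : T' ⟶ V) (z : T' ⟶ X) (hz : u ≫ π = z)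
    (hu : ⊤ ≤ u.left ⁻¹ᵁ (π.left ⁻¹ᵁ U))
    (hgmu : ⊤ ≤ (lift gm u ≫ Φ.act).left ⁻¹ᵁ (π.left ⁻¹ᵁ U'))
    (hE : ⊤ ≤ (lift gm z).left ⁻¹ᵁ (a.act.left ⁻¹ᵁ U' ⊓ (snd G X).left ⁻¹ᵁ U)) :
    HMNum.evalFn π y' (lift gm u ≫ Φ.act) hgmu =
      (lift gm z).left.appLE _ ⊤ hE c * HMNum.evalFn π y u hu := by
  subst hz
  have e1 : lift gm u ≫ (G ◁ π) = lift gm (u ≫ π) := lift_whiskerLeft gm u π
  have e1' : (lift gm u ≫ (G ◁ π)).left = (lift gm (u ≫ π)).left :=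
    congrArg CommaMorphism.left e1
  have e2 : (lift gm u ≫ snd G V).left = u.left := congrArg CommaMorphism.left (lift_snd gm u)
  have hE' : ⊤ ≤ (lift gm u ≫ (G ◁ π)).left ⁻¹ᵁ
      (a.act.left ⁻¹ᵁ U' ⊓ (snd G X).left ⁻¹ᵁ U) := by
    rw [e1']; exact hE
  have hL : ⊤ ≤ (lift gm u).left ⁻¹ᵁ (GLinSh.liftOpen a π U U') := hE'
  have hu2 : ⊤ ≤ (lift gm u ≫ snd G V).left ⁻¹ᵁ (π.left ⁻¹ᵁ U) := by
    rw [e2]; exact hu
  have key : (lift gm u).left.appLE (GLinSh.liftOpen a π U U') ⊤ hL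
        (Φ.act.left.appLE (π.left ⁻¹ᵁ U') (GLinSh.liftOpen a π U U')
          (GLinSh.liftOpen_le_act a π Φ hπ) y') =
      (lift gm u).left.appLE (GLinSh.liftOpen a π U U') ⊤ hL
          ((G ◁ π).left.appLE _ (GLinSh.liftOpen a π U U') (GLinSh.liftOpen_le_base a π) c) *
        (lift gm u).left.appLE (GLinSh.liftOpen a π U U') ⊤ hL
          ((snd G V).left.appLE (π.left ⁻¹ᵁ U) (GLinSh.liftOpen a π U U')
            (GLinSh.liftOpen_le_snd a π) y) := by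
    rw [hc, map_mul]
  have k1 := appLE_appLE_apply (lift gm u).left Φ.act.left (π.left ⁻¹ᵁ U')
    (GLinSh.liftOpen a π U U') ⊤ (GLinSh.liftOpen_le_act a π Φ hπ) hL hgmu y'
  have k2 := appLE_appLE_apply (lift gm u).left (G ◁ π).left
    (a.act.left ⁻¹ᵁ U' ⊓ (snd G X).left ⁻¹ᵁ U)
    (GLinSh.liftOpen a π U U') ⊤ (GLinSh.liftOpen_le_base a π) hL hE' c
  have k2' := appLE_congr_hom e1' (a.act.left ⁻¹ᵁ U' ⊓ (snd G X).left ⁻¹ᵁ U) ⊤ hE' hE c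
  have k3 := appLE_appLE_apply (lift gm u).left (snd G V).left (π.left ⁻¹ᵁ U)
    (GLinSh.liftOpen a π U U') ⊤ (GLinSh.liftOpen_le_snd a π) hL hu2 y
  have k3' := appLE_congr_hom e2 (π.left ⁻¹ᵁ U) ⊤ hu2 hu y
  rw [k1, k2, k3] at key
  exact key.trans (congrArg₂ (· * ·) k2' k3')

/-- translating a point commutes with pulling back -/
theorem comp_translate (a : AlgGrp.Action G X) (g₀ : 𝟙_ (Over S) ⟶ G) {T T' : Over S}
    (y' : T ⟶ X) (t : T' ⟶ T) :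
    t ≫ lift (toUnit T ≫ g₀) y' ≫ a.act = lift (toUnit T' ≫ g₀) (t ≫ y') ≫ a.act := by
  have e0 : t ≫ toUnit T ≫ g₀ = toUnit T' ≫ g₀ := by
    rw [← Category.assoc, toUnit_unique (t ≫ toUnit T) (toUnit T')]
  calc t ≫ lift (toUnit T ≫ g₀) y' ≫ a.act
      = (t ≫ lift (toUnit T ≫ g₀) y') ≫ a.act := (Category.assoc _ _ _).symm
    _ = lift (t ≫ toUnit T ≫ g₀) (t ≫ y') ≫ a.act := by rw [comp_lift]
    _ = lift (toUnit T' ≫ g₀) (t ≫ y') ≫ a.act := by rw [e0]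

theorem isFixedBy_conj (a : AlgGrp.Action G X) (g₀ : 𝟙_ (Over S) ⟶ G)
    (l l' : Red.Gm S ⟶ G)
    (hl : ∀ (T' : Over S) (g : T' ⟶ Red.Gm S),
      (toUnit T' ≫ g₀) * (g ≫ l') = (g ≫ l) * (toUnit T' ≫ g₀))
    {T : Over S} (y' : T ⟶ X) (h : HMNum.IsFixedBy a l' y') :
    HMNum.IsFixedBy a l (lift (toUnit T ≫ g₀) y' ≫ a.act) := by
  intro T' t g
  rw [comp_translate a g₀ y' t, ← AlgGrp.Action.lift_mul_act, ← hl T' g,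
    AlgGrp.Action.lift_mul_act, h T' t g]

theorem mem_conj (a : AlgGrp.Action G X) (g₀ : 𝟙_ (Over S) ⟶ G)
    (l l' : Red.Gm S ⟶ G) [IsMonHom l] [IsMonHom l']
    (hl : ∀ (T' : Over S) (g : T' ⟶ Red.Gm S),
      (toUnit T' ≫ g₀) * (g ≫ l') = (g ≫ l) * (toUnit T' ≫ g₀))
    {T : Over S} (φ' : HMNum.A1 S ⊗ T ⟶ X)
    (h' : Magnet.MonAct.IsEquivariant
      ((Magnet.subAct S ℤ HMNum.plus).prod (Magnet.MonAct.trivial _ T)) (HMNum.gmAct a l') φ') :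
    Magnet.MonAct.IsEquivariant
      ((Magnet.subAct S ℤ HMNum.plus).prod (Magnet.MonAct.trivial _ T)) (HMNum.gmAct a l)
      (lift (toUnit _ ≫ g₀) φ' ≫ a.act) := by
  rw [Magnet.MonAct.mem_eqvHom_iff] at h' ⊢
  intro T' g b t
  have h1 := h' T' g b t
  rw [comp_translate a g₀ φ' (lift (lift g b ≫ (Magnet.subAct S ℤ HMNum.plus).act) t),
    comp_translate a g₀ φ' (lift b t), h1]
  simp only [Magnet.MonAct.lift_restrict_act, Magnet.MonAct.ofAction_act]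
  rw [← AlgGrp.Action.lift_mul_act, ← AlgGrp.Action.lift_mul_act, hl T' g]

theorem isLimitPt_conj (a : AlgGrp.Action G X) (g₀ : 𝟙_ (Over S) ⟶ G)
    (l l' : Red.Gm S ⟶ G) [IsMonHom l] [IsMonHom l']
    (hl : ∀ (T' : Over S) (g : T' ⟶ Red.Gm S),
      (toUnit T' ≫ g₀) * (g ≫ l') = (g ≫ l) * (toUnit T' ≫ g₀))
    {T : Over S} (x y' : T ⟶ X) (h : HMNum.IsLimitPt a l' x y') :
    HMNum.IsLimitPt a l (lift (toUnit T ≫ g₀) x ≫ a.act)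
      (lift (toUnit T ≫ g₀) y' ≫ a.act) := by
  obtain ⟨φ', hφx, hφy⟩ := h
  have hx : lift (toUnit T ≫ η[HMNum.A1 S]) (𝟙 T) ≫ φ'.1 = x := hφx
  have hy : lift (toUnit T ≫ HMNum.origin S) (𝟙 T) ≫ φ'.1 = y' := by
    rw [← HMNum.limitPt_eq]; exact hφy
  refine ⟨⟨lift (toUnit _ ≫ g₀) φ'.1 ≫ a.act, mem_conj a g₀ l l' hl φ'.1 φ'.2⟩, ?_, ?_⟩
  · show lift (toUnit T ≫ η[HMNum.A1 S]) (𝟙 T) ≫ lift (toUnit _ ≫ g₀) φ'.1 ≫ a.act = _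
    rw [comp_translate a g₀ φ'.1 (lift (toUnit T ≫ η[HMNum.A1 S]) (𝟙 T)), hx]
  · rw [HMNum.limitPt_eq]
    show lift (toUnit T ≫ HMNum.origin S) (𝟙 T) ≫ lift (toUnit _ ≫ g₀) φ'.1 ≫ a.act = _
    rw [comp_translate a g₀ φ'.1 (lift (toUnit T ≫ HMNum.origin S) (𝟙 T)), hy]

theorem hasFibreWt_conj {a : AlgGrp.Action G X} (B : GLinSh.LinBun G a)
    (g₀ : 𝟙_ (Over S) ⟶ G) (l l' : Red.Gm S ⟶ G)
    (hl : ∀ (T' : Over S) (g : T' ⟶ Red.Gm S),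
      (toUnit T' ≫ g₀) * (g ≫ l') = (g ≫ l) * (toUnit T' ≫ g₀))
    {T : Over S} (y' : T ⟶ X) (w : ℤ)
    (hch : ∃ (U : X.left.Opens) (yc : Γ(B.V.left, B.π.left ⁻¹ᵁ U)), yc ∈ B.atlas.chart U ∧
      (lift (toUnit T ≫ g₀) y' ≫ a.act).left ⁻¹ᵁ U = ⊤)
    (h : HMNum.HasFibreWt a B.π B.atlas.chart B.lift l' y' w) :
    HMNum.HasFibreWt a B.π B.atlas.chart B.lift l (lift (toUnit T ≫ g₀) y' ≫ a.act) w := by
  obtain ⟨hfix', U', yc', hyc', hU', hw'⟩ := h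
  obtain ⟨U, yc, hyc, hU⟩ := hch
  refine ⟨isFixedBy_conj a g₀ l l' hl y' hfix', U, yc, hyc, hU, ?_⟩
  intro T' t g v hv hgv
  obtain ⟨cc, hcc⟩ := B.lift_linear U' U yc' yc hyc' hyc
  obtain ⟨c, hc⟩ : ∃ c : T' ⟶ G, c = toUnit T' ≫ g₀ := ⟨_, rfl⟩
  have ht : t ≫ lift (toUnit T ≫ g₀) y' ≫ a.act = lift c (t ≫ y') ≫ a.act := by
    rw [hc]; exact comp_translate a g₀ y' t
  have hlc : c * (g ≫ l') = (g ≫ l) * c := by rw [hc]; exact hl T' g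
  have act_π : ∀ (gm : T' ⟶ G) (u : T' ⟶ B.V),
      (lift gm u ≫ B.lift.act) ≫ B.π = lift gm (u ≫ B.π) ≫ a.act := by
    intro gm u
    rw [Category.assoc, B.lift_π, ← Category.assoc, lift_whiskerLeft]
  obtain ⟨v', hv'⟩ : ∃ v' : T' ⟶ B.V, v' = lift c⁻¹ v ≫ B.lift.act := ⟨_, rfl⟩
  have hv'π : v' ≫ B.π = t ≫ y' := by
    rw [hv', act_π, hv, ht, ← AlgGrp.Action.lift_mul_act, _root_.inv_mul_cancel,
      AlgGrp.Action.lift_one_act]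
  have hvv' : lift c v' ≫ B.lift.act = v := by
    rw [hv', ← AlgGrp.Action.lift_mul_act, _root_.mul_inv_cancel, AlgGrp.Action.lift_one_act]
  obtain ⟨v'', hv''⟩ : ∃ v'' : T' ⟶ B.V, v'' = lift (g ≫ l') v' ≫ B.lift.act := ⟨_, rfl⟩
  have hv''π : v'' ≫ B.π = t ≫ y' := by
    rw [hv'', act_π, hv'π]; exact hfix' T' t g
  have hgv'' : lift c v'' ≫ B.lift.act = lift (g ≫ l) v ≫ B.lift.act := by
    rw [hv'', ← AlgGrp.Action.lift_mul_act, hlc, AlgGrp.Action.lift_mul_act, hvv']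
  have hgv0 : (lift (g ≫ l') v' ≫ B.lift.act) ≫ B.π = t ≫ y' := by
    rw [← hv'']; exact hv''π
  have hw := hw' T' t g v' hv'π hgv0
  have hu' : ⊤ ≤ v'.left ⁻¹ᵁ (B.π.left ⁻¹ᵁ U') := HMNum.top_le_preimage B.π hU' hv'π
  have hu'' : ⊤ ≤ v''.left ⁻¹ᵁ (B.π.left ⁻¹ᵁ U') := HMNum.top_le_preimage B.π hU' hv''π
  have h1 : ⊤ ≤ (lift c v' ≫ B.lift.act).left ⁻¹ᵁ (B.π.left ⁻¹ᵁ U) :=
    HMNum.top_le_preimage B.π hU (by rw [hvv']; exact hv)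
  have h2 : ⊤ ≤ (lift c v'' ≫ B.lift.act).left ⁻¹ᵁ (B.π.left ⁻¹ᵁ U) :=
    HMNum.top_le_preimage B.π hU (by rw [hgv'']; exact hgv)
  have hEa : ⊤ ≤ (lift c (t ≫ y') ≫ a.act).left ⁻¹ᵁ U := preim_top hU ht.symm
  have hEb : ⊤ ≤ (lift c (t ≫ y') ≫ snd G X).left ⁻¹ᵁ U' := preim_top hU' (lift_snd _ _)
  have hE : ⊤ ≤ (lift c (t ≫ y')).left ⁻¹ᵁ (a.act.left ⁻¹ᵁ U ⊓ (snd G X).left ⁻¹ᵁ U') := by
    show ⊤ ≤ (lift c (t ≫ y')).left ⁻¹ᵁ (a.act.left ⁻¹ᵁ U) ⊓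
      (lift c (t ≫ y')).left ⁻¹ᵁ ((snd G X).left ⁻¹ᵁ U')
    exact le_inf hEa hEb
  have L1 := lin_eval a B.π B.lift B.lift_π yc' yc cc hcc c v'' (t ≫ y') hv''π hu'' h2 hE
  have L2 := lin_eval a B.π B.lift B.lift_π yc' yc cc hcc c v' (t ≫ y') hv'π hu' h1 hE
  have hw'' : HMNum.evalFn B.π yc' v'' hu'' =
      ((GmPts.unitOfPt g ^ w : (Γ(T'.left, ⊤))ˣ) : Γ(T'.left, ⊤)) *
        HMNum.evalFn B.π yc' v' hu' :=
    (evalFn_congr B.π yc' hv'' hu'' (HMNum.top_le_preimage B.π hU' hgv0)).trans hw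
  calc HMNum.evalFn B.π yc (lift (g ≫ l) v ≫ B.lift.act) (HMNum.top_le_preimage B.π hU hgv)
      = HMNum.evalFn B.π yc (lift c v'' ≫ B.lift.act) h2 :=
        evalFn_congr B.π yc hgv''.symm _ _
    _ = (lift c (t ≫ y')).left.appLE _ ⊤ hE cc * HMNum.evalFn B.π yc' v'' hu'' := L1
    _ = (lift c (t ≫ y')).left.appLE _ ⊤ hE cc *
        (((GmPts.unitOfPt g ^ w : (Γ(T'.left, ⊤))ˣ) : Γ(T'.left, ⊤)) *
          HMNum.evalFn B.π yc' v' hu') := by rw [hw'']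
    _ = ((GmPts.unitOfPt g ^ w : (Γ(T'.left, ⊤))ˣ) : Γ(T'.left, ⊤)) *
        ((lift c (t ≫ y')).left.appLE _ ⊤ hE cc * HMNum.evalFn B.π yc' v' hu') :=
        _root_.mul_left_comm _ _ _
    _ = ((GmPts.unitOfPt g ^ w : (Γ(T'.left, ⊤))ˣ) : Γ(T'.left, ⊤)) *
        HMNum.evalFn B.π yc (lift c v' ≫ B.lift.act) h1 := by rw [L2]
    _ = ((GmPts.unitOfPt g ^ w : (Γ(T'.left, ⊤))ˣ) : Γ(T'.left, ⊤)) *
        HMNum.evalFn B.π yc v (HMNum.top_le_preimage B.π hU hv) := by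
        rw [evalFn_congr B.π yc hvv' h1 (HMNum.top_le_preimage B.π hU hv)]

theorem isMu_conj {a : AlgGrp.Action G X} (B : GLinSh.LinBun G a)
    (g₀ : 𝟙_ (Over S) ⟶ G) (l l' : Red.Gm S ⟶ G) [IsMonHom l] [IsMonHom l']
    (hl : ∀ (T' : Over S) (g : T' ⟶ Red.Gm S),
      (toUnit T' ≫ g₀) * (g ≫ l') = (g ≫ l) * (toUnit T' ≫ g₀))
    {T : Over S} (x : T ⟶ X) (m : ℤ)
    (hch : ∀ z : T ⟶ X, ∃ (U : X.left.Opens) (yc : Γ(B.V.left, B.π.left ⁻¹ᵁ U)),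
      yc ∈ B.atlas.chart U ∧ z.left ⁻¹ᵁ U = ⊤)
    (h : HMNum.IsMu B l' x m) : HMNum.IsMu B l (lift (toUnit T ≫ g₀) x ≫ a.act) m := by
  obtain ⟨y', hlim, hwt⟩ := h
  exact ⟨lift (toUnit T ≫ g₀) y' ≫ a.act, isLimitPt_conj a g₀ l l' hl x y' hlim,
    hasFibreWt_conj B g₀ l l' hl y' (-m) (hch _) hwt⟩

/-- over a field, every rational point lands in a chart domain -/
theorem exists_chart (k : Type u) [Field k] {G X : Over (Spec (CommRingCat.of k))} [GrpObj G]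
    {a : AlgGrp.Action G X} (B : GLinSh.LinBun G a)
    (z : 𝟙_ (Over (Spec (CommRingCat.of k))) ⟶ X) :
    ∃ (U : X.left.Opens) (yc : Γ(B.V.left, B.π.left ⁻¹ᵁ U)),
      yc ∈ B.atlas.chart U ∧ z.left ⁻¹ᵁ U = ⊤ := by
  haveI : Subsingleton ↥(𝟙_ (Over (Spec (CommRingCat.of k)))).left :=
    Groth.Agent.H4.OsA.subsingleton_of_iso (Ω := k) (Iso.refl _)
  obtain ⟨p₀⟩ : Nonempty ↥(𝟙_ (Over (Spec (CommRingCat.of k)))).left :=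
    (inferInstance : Nonempty (PrimeSpectrum k))
  obtain ⟨U, hpU, yc, hyc⟩ := B.atlas.cover (z.left p₀)
  refine ⟨U, yc, hyc, le_antisymm le_top ?_⟩
  intro p _
  have hp : p = p₀ := Subsingleton.elim _ _
  rw [hp]
  exact hpU

theorem toUnit_unit_comp {Y : Over S} (g : 𝟙_ (Over S) ⟶ Y) :
    toUnit (𝟙_ (Over S)) ≫ g = g := by
  rw [toUnit_unique (toUnit (𝟙_ (Over S))) (𝟙 _), Category.id_comp]

theorem hl_of_eq (g₀ : 𝟙_ (Over S) ⟶ G) (l l' : Red.Gm S ⟶ G)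
    (hl' : l' = (toUnit _ ≫ g₀)⁻¹ * l * (toUnit _ ≫ g₀)) (T' : Over S) (g : T' ⟶ Red.Gm S) :
    (toUnit T' ≫ g₀) * (g ≫ l') = (g ≫ l) * (toUnit T' ≫ g₀) := by
  have e : g ≫ toUnit (Red.Gm S) ≫ g₀ = toUnit T' ≫ g₀ := by
    rw [← Category.assoc, toUnit_unique (g ≫ toUnit _) (toUnit T')]
  rw [hl', MonObj.comp_mul, MonObj.comp_mul, GrpObj.comp_inv, e]
  exact conj_eq _ _

theorem main86 (k : Type u) [Field k] (G X : Over (Spec (CommRingCat.of k))) [GrpObj G]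
    (a : AlgGrp.Action G X) (B : GLinSh.LinBun G a)
    (x : 𝟙_ (Over (Spec (CommRingCat.of k))) ⟶ X)
    (l : Red.Gm (Spec (CommRingCat.of k)) ⟶ G) [IsMonHom l]
    (g₀ : 𝟙_ (Over (Spec (CommRingCat.of k))) ⟶ G)
    (l' : Red.Gm (Spec (CommRingCat.of k)) ⟶ G) [IsMonHom l']
    (hl' : l' = (toUnit _ ≫ g₀)⁻¹ * l * (toUnit _ ≫ g₀)) (m : ℤ) :
    HMNum.IsMu B l (lift g₀ x ≫ a.act) m ↔ HMNum.IsMu B l' x m := by
  have hl1 := hl_of_eq g₀ l l' hl'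
  have hl2 : ∀ (T' : Over (Spec (CommRingCat.of k))) (g : T' ⟶ Red.Gm _),
      (toUnit T' ≫ g₀⁻¹) * (g ≫ l) = (g ≫ l') * (toUnit T' ≫ g₀⁻¹) := by
    intro T' g
    rw [GrpObj.comp_inv]
    exact conj_swap (hl1 T' g)
  constructor
  · intro h
    have h2 := isMu_conj B g₀⁻¹ l' l hl2 (lift g₀ x ≫ a.act) m (exists_chart k B) h
    have e : lift (toUnit (𝟙_ _) ≫ g₀⁻¹) (lift g₀ x ≫ a.act) ≫ a.act = x := by
      rw [toUnit_unit_comp, ← AlgGrp.Action.lift_mul_act, _root_.inv_mul_cancel,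
        AlgGrp.Action.lift_one_act]
    rw [e] at h2
    exact h2
  · intro h
    have h2 := isMu_conj B g₀ l l' hl1 x m (exists_chart k B) h
    rw [toUnit_unit_comp] at h2
    exact h2

end

end Groth.Agent.H4.MuA
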