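import Mathlib
import Groth.Prelude.Def_HMNum
import Groth.Agent.H4.MuA

/-!
# Invariance of the normalised values of `μ` under translation (helper4)
-/

namespace Groth.Agent.H4.MuB

universe u

open CategoryTheory CategoryTheory.Limits MonoidalCategory CartesianMonoidalCategory MonObj
  AlgebraicGeometry Opposite

noncomputable section

variable {S : Scheme.{u}} {G M : Over S} [GrpObj G] [MonObj M]

/-- conjugating a monoid homomorphism by a constant point gives a monoid homomorphism -/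
theorem isMonHom_conj (c₀ : 𝟙_ (Over S) ⟶ G) (l : M ⟶ G) [IsMonHom l] :
    IsMonHom ((toUnit M ≫ c₀) * l * (toUnit M ≫ c₀)⁻¹) where
  one_hom := by
    rw [MonObj.comp_mul, MonObj.comp_mul, GrpObj.comp_inv, IsMonHom.one_hom l, MonObj.one_eq_one]
    exact Groth.Agent.H4.MuA.conj_one _
  mul_hom := by
    have e1 : μ[M] ≫ toUnit M ≫ c₀ = toUnit (M ⊗ M) ≫ c₀ := by
      rw [← Category.assoc, toUnit_unique (μ[M] ≫ toUnit M) (toUnit (M ⊗ M))]
    have e2 : fst M M ≫ toUnit M ≫ c₀ = toUnit (M ⊗ M) ≫ c₀ := by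
      rw [← Category.assoc, toUnit_unique (fst M M ≫ toUnit M) (toUnit (M ⊗ M))]
    have e3 : snd M M ≫ toUnit M ≫ c₀ = toUnit (M ⊗ M) ≫ c₀ := by
      rw [← Category.assoc, toUnit_unique (snd M M ≫ toUnit M) (toUnit (M ⊗ M))]
    have e4 : μ[M] ≫ l = (fst M M ≫ l) * (snd M M ≫ l) := by
      rw [IsMonHom.mul_hom l, Hom.mul_def, lift_fst_comp_snd_comp]
    rw [← lift_fst_comp_snd_comp, ← Hom.mul_def]
    rw [MonObj.comp_mul, MonObj.comp_mul, GrpObj.comp_inv, e1, e4]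
    rw [MonObj.comp_mul, MonObj.comp_mul, GrpObj.comp_inv, e2]
    rw [MonObj.comp_mul, MonObj.comp_mul, GrpObj.comp_inv, e3]
    exact Groth.Agent.H4.MuA.conj_mul _ _ _

theorem isMonHom_conj' (c₀ : 𝟙_ (Over S) ⟶ G) (l : M ⟶ G) [IsMonHom l] :
    IsMonHom ((toUnit M ≫ c₀)⁻¹ * l * (toUnit M ≫ c₀)) := by
  have h := isMonHom_conj c₀⁻¹ l
  rw [GrpObj.comp_inv, inv_inv] at h
  exact h

theorem grp_a {Γ : Type*} [Group Γ] (c l : Γ) : c * (c⁻¹ * l * c) * c⁻¹ = l := by group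

theorem grp_b {Γ : Type*} [Group Γ] (c l : Γ) : c⁻¹ * (c * l * c⁻¹) * c = l := by group

theorem grp_c {Γ : Type*} [Group Γ] (c : Γ) : c⁻¹ * 1 * c = 1 := by group

theorem main91 (k : Type u) [Field k] (G X : Over (Spec (CommRingCat.of k))) [GrpObj G]
    (a : AlgGrp.Action G X) (B : GLinSh.LinBun G a)
    (nrm : (Red.Gm (Spec (CommRingCat.of k)) ⟶ G) → ℝ)
    (hnrm : ∀ (l : Red.Gm (Spec (CommRingCat.of k)) ⟶ G) [IsMonHom l]
      (g : 𝟙_ (Over (Spec (CommRingCat.of k))) ⟶ G),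
      nrm ((toUnit _ ≫ g) * l * (toUnit _ ≫ g)⁻¹) = nrm l)
    (x : 𝟙_ (Over (Spec (CommRingCat.of k))) ⟶ X)
    (g : 𝟙_ (Over (Spec (CommRingCat.of k))) ⟶ G) (q : ℝ) :
    (∃ (l : Red.Gm (Spec (CommRingCat.of k)) ⟶ G) (_ : IsMonHom l) (m : ℤ),
        l ≠ 1 ∧ HMNum.IsMu B l (lift g x ≫ a.act) m ∧ q = (m : ℝ) / nrm l) ↔
      ∃ (l : Red.Gm (Spec (CommRingCat.of k)) ⟶ G) (_ : IsMonHom l) (m : ℤ),
        l ≠ 1 ∧ HMNum.IsMu B l x m ∧ q = (m : ℝ) / nrm l := by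
  constructor
  · rintro ⟨l, hlm, m, hne, hmu, hq⟩
    haveI := hlm
    haveI hl'm : IsMonHom ((toUnit _ ≫ g)⁻¹ * l * (toUnit _ ≫ g)) := isMonHom_conj' g l
    refine ⟨(toUnit _ ≫ g)⁻¹ * l * (toUnit _ ≫ g), hl'm, m, ?_, ?_, ?_⟩
    · intro h1
      apply hne
      have h2 := grp_a (toUnit _ ≫ g) l
      rw [h1] at h2
      rw [← h2]
      exact Groth.Agent.H4.MuA.conj_one _
    · exact (Groth.Agent.H4.MuA.main86 k G X a B x l g _ rfl m).mp hmu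
    · have h2 := hnrm ((toUnit _ ≫ g)⁻¹ * l * (toUnit _ ≫ g)) g
      rw [grp_a] at h2
      rw [hq, h2]
  · rintro ⟨l, hlm, m, hne, hmu, hq⟩
    haveI := hlm
    haveI hLm : IsMonHom ((toUnit _ ≫ g) * l * (toUnit _ ≫ g)⁻¹) := isMonHom_conj g l
    refine ⟨(toUnit _ ≫ g) * l * (toUnit _ ≫ g)⁻¹, hLm, m, ?_, ?_, ?_⟩
    · intro h1
      apply hne
      have h2 := grp_b (toUnit _ ≫ g) l
      rw [h1] at h2
      rw [← h2]
      exact grp_c _
    · exact (Groth.Agent.H4.MuA.main86 k G X a B x _ g l (grp_b _ _).symm m).mpr hmu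
    · rw [hq, hnrm l g]

end

end Groth.Agent.H4.MuB
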