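import Mathlib
import Groth.Prelude.Def_HMNum
import Groth.Agent.H4.A1Main
import Groth.Agent.Lib.Helper9.Misc.MagDef

/-!
# Limits under a one-parameter subgroup: the limit point is fixed, limits are unique for
separated targets, and `μ(x, λ) = μ(lim, λ)` (helper4)
-/

namespace Groth.Agent.H4.MuC

universe u

open CategoryTheory CategoryTheory.Limits MonoidalCategory CartesianMonoidalCategory MonObj
  AlgebraicGeometry Opposite
open Magnet Polynomial
open Groth.Agent.H4.A1Pts Groth.Agent.H4.A1Model Groth.Agent.H4.A1Cover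

noncomputable section

variable {S : Scheme.{u}}

theorem val_eq_chr {T : Over S} (m : T ⟶ A1 S) :
    val m = Groth.Agent.H9.MagChr.chr m gen := by
  show m.left.appTop.hom ((prA S).appTop.hom x0') = _
  rw [Groth.Agent.H9.MagChr.chr_apply, Scheme.Hom.comp_appTop]
  rfl

theorem val_origin {T : Over S} : val (toUnit T ≫ HMNum.origin S) = 0 := by
  rw [val_eq_chr]
  have h : toUnit T ≫ HMNum.origin S =
      (toUnit T ≫ η[AMonS S ↥(⊥ : AddSubmonoid ℤ)]) ≫ AMonS.faceMap S HMNum.isFace_bot := by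
    rw [HMNum.origin, Category.assoc]
  rw [h]
  apply Groth.Agent.H9.MagDef.chr_faceMap_of_not_mem HMNum.isFace_bot
  intro hmem
  rw [AddSubmonoid.mem_bot] at hmem
  exact one_ne_zero (α := ℤ) hmem

theorem comp_lift_unit {T T' A Z : Over S} (e : 𝟙_ (Over S) ⟶ A) (t : T' ⟶ T) (ψ : A ⊗ T ⟶ Z) :
    t ≫ lift (toUnit T ≫ e) (𝟙 T) ≫ ψ = lift (toUnit T' ≫ e) t ≫ ψ := by
  have e0 : t ≫ toUnit T ≫ e = toUnit T' ≫ e := by
    rw [← Category.assoc, toUnit_unique (t ≫ toUnit T) (toUnit T')]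
  calc t ≫ lift (toUnit T ≫ e) (𝟙 T) ≫ ψ
      = (t ≫ lift (toUnit T ≫ e) (𝟙 T)) ≫ ψ := (Category.assoc _ _ _).symm
    _ = lift (t ≫ toUnit T ≫ e) (t ≫ 𝟙 T) ≫ ψ := by rw [comp_lift]
    _ = lift (toUnit T' ≫ e) t ≫ ψ := by rw [Category.comp_id, e0]

variable {G X : Over S} [GrpObj G]

/-- on `𝔾_m`-points an attractor point is the orbit map of its base point -/
theorem orbit_on_gm (a : AlgGrp.Action G X) (l : Red.Gm S ⟶ G) [IsMonHom l] {T : Over S}
    (φ : (HMNum.attrPlus a l).obj (op T)) {T' : Over S} (g : T' ⟶ Gm S) (t : T' ⟶ T) :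
    lift (g ≫ jj S) t ≫ φ.1 =
      lift (g ≫ l) (t ≫ lift (toUnit T ≫ η[A1 S]) (𝟙 T) ≫ φ.1) ≫ a.act := by
  have hφ := (MonAct.mem_eqvHom_iff φ.1).mp φ.2 T' g (toUnit T' ≫ η[A1 S]) t
  have hb : lift g (toUnit T' ≫ η[A1 S]) ≫ (subAct S ℤ HMNum.plus).act = g ≫ jj S := by
    rw [Groth.Agent.H9.MagDef.lift_subAct, ← Hom.one_def, _root_.mul_one]
  rw [hb] at hφ
  rw [comp_lift_unit η[A1 S] t φ.1, hφ, MonAct.lift_restrict_act, MonAct.ofAction_act]

/-- the limit point of an attractor point is fixed -/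
theorem limit_fixed (a : AlgGrp.Action G X) (l : Red.Gm S ⟶ G) [IsMonHom l] {T : Over S}
    (φ : (HMNum.attrPlus a l).obj (op T)) : HMNum.IsFixedBy a l (HMNum.limitPt φ) := by
  intro T' t g
  rw [HMNum.limitPt_eq, comp_lift_unit (HMNum.origin S) t φ.1]
  have hφ := (MonAct.mem_eqvHom_iff φ.1).mp φ.2 T' g (toUnit T' ≫ HMNum.origin S) t
  have hb : lift g (toUnit T' ≫ HMNum.origin S) ≫ (subAct S ℤ HMNum.plus).act =
      toUnit T' ≫ HMNum.origin S := by
    apply val_injective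
    rw [Groth.Agent.H9.MagDef.lift_subAct, val_mul, val_origin, mul_zero]
  rw [hb, MonAct.lift_restrict_act, MonAct.ofAction_act] at hφ
  exact hφ.symm

/-- a fixed point is its own limit -/
theorem isLimitPt_of_fixed (a : AlgGrp.Action G X) (l : Red.Gm S ⟶ G) [IsMonHom l] {T : Over S}
    (y : T ⟶ X) (hy : HMNum.IsFixedBy a l y) : HMNum.IsLimitPt a l y y := by
  have hmem : MonAct.IsEquivariant ((subAct S ℤ HMNum.plus).prod (MonAct.trivial _ T))
      (HMNum.gmAct a l) (snd (A1 S) T ≫ y) := by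
    rw [MonAct.mem_eqvHom_iff]
    intro T' g b t
    rw [lift_snd_assoc, lift_snd_assoc, MonAct.lift_restrict_act, MonAct.ofAction_act]
    exact (hy T' t g).symm
  refine ⟨⟨snd (A1 S) T ≫ y, hmem⟩, ?_, ?_⟩
  · show lift (toUnit T ≫ η[A1 S]) (𝟙 T) ≫ snd (A1 S) T ≫ y = y
    rw [lift_snd_assoc, Category.id_comp]
  · rw [HMNum.limitPt_eq]
    show lift (toUnit T ≫ HMNum.origin S) (𝟙 T) ≫ snd (A1 S) T ≫ y = y
    rw [lift_snd_assoc, Category.id_comp]

/-- the generic point of the affine line over a field-valued point, as a point of `PP` -/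
def xi' {K : Type u} [Field K] (hY : Spec (CommRingCat.of K) ⟶ S) : TKF hY ⟶ PP hY :=
  Over.homMk (Spec.map (toKF (CommRingCat.of K))) rfl

/-- uniqueness of attractor points with given base point, for a separated target and a field-valued
parameter -/
theorem attr_unique {K : Type u} [Field K] (hY : Spec (CommRingCat.of K) ⟶ S)
    [IsSeparated X.hom] (a : AlgGrp.Action G X) (l : Red.Gm S ⟶ G) [IsMonHom l]
    (φ₁ φ₂ : (HMNum.attrPlus a l).obj (op (YY hY)))
    (h : lift (toUnit (YY hY) ≫ η[A1 S]) (𝟙 (YY hY)) ≫ φ₁.1 =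
      lift (toUnit (YY hY) ≫ η[A1 S]) (𝟙 (YY hY)) ≫ φ₂.1) : φ₁ = φ₂ := by
  apply Subtype.ext
  apply Over.OverMorphism.ext
  haveI : IsDomain ↑(CommRingCat.of K) := inferInstanceAs (IsDomain K)
  haveI : IsReduced (Spec (RX (CommRingCat.of K))) := inferInstance
  haveI : IsReduced (A1 S ⊗ YY hY).left :=
    isReduced_of_isOpenImmersion (inv (Groth.Agent.H4.A1Main.eeL hY))
  haveI hdom0 : IsDominant (Spec.map (toKF (CommRingCat.of K))) := by
    refine ⟨?_⟩
    have h0 := (PrimeSpectrum.denseRange_comap_iff_ker_le_nilRadical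
      (algebraMap (Polynomial K) (FractionRing (Polynomial K)))).mpr (by
        rw [(RingHom.injective_iff_ker_eq_bot _).mp
          (IsFractionRing.injective (Polynomial K) (FractionRing (Polynomial K)))]
        exact bot_le)
    exact h0
  haveI : IsDominant (Spec.map (toKF (CommRingCat.of K)) ≫ Groth.Agent.H4.A1Main.eeL hY) :=
    inferInstance
  refine ext_of_isDominant_of_isSeparated X.hom ?_
    (Spec.map (toKF (CommRingCat.of K)) ≫ Groth.Agent.H4.A1Main.eeL hY) ?_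
  · rw [Over.w φ₁.1, Over.w φ₂.1]
  · have hXne : algebraMap K[X] (FractionRing K[X]) Polynomial.X ≠ 0 := by
      rw [Ne, map_eq_zero_iff _ (IsFractionRing.injective K[X] (FractionRing K[X]))]
      exact Polynomial.X_ne_zero
    obtain ⟨v, hv⟩ : ∃ v : Γ((TKF hY).left, ⊤)ˣ, (v : Γ((TKF hY).left, ⊤)) =
        (Scheme.ΓSpecIso (KF (CommRingCat.of K))).inv.hom
          (algebraMap K[X] (FractionRing K[X]) Polynomial.X) :=
      ⟨Units.map (Scheme.ΓSpecIso (KF (CommRingCat.of K))).inv.hom.toMonoidHom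
        (Units.mk0 _ hXne), rfl⟩
    have e1 : xi' hY ≫ mX hY = gmOf v ≫ jj S := by
      apply val_injective
      rw [val_comp, val_mX, val_gmOf_jj, hv]
      show (Spec.map (toKF (CommRingCat.of K))).appTop.hom
        ((Scheme.ΓSpecIso (RX (CommRingCat.of K))).inv.hom Polynomial.X) = _
      rw [ΓSpecIso_inv_apply_SpecMap]
      rfl
    have e2 : xi' hY ≫ ee hY = lift (gmOf v ≫ jj S) (xi' hY ≫ yC hY) := by
      unfold ee
      rw [comp_lift, e1]
    have key : (xi' hY ≫ ee hY) ≫ φ₁.1 = (xi' hY ≫ ee hY) ≫ φ₂.1 := by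
      rw [e2, orbit_on_gm a l φ₁ (gmOf v) (xi' hY ≫ yC hY),
        orbit_on_gm a l φ₂ (gmOf v) (xi' hY ≫ yC hY), h]
    have key2 : ((xi' hY ≫ ee hY) ≫ φ₁.1).left = ((xi' hY ≫ ee hY) ≫ φ₂.1).left :=
      congrArg CommaMorphism.left key
    exact key2

theorem main87 (k : Type u) [Field k] (G X : Over (Spec (CommRingCat.of k))) [GrpObj G]
    [IsSeparated X.hom] (a : AlgGrp.Action G X) (B : GLinSh.LinBun G a)
    (x : 𝟙_ (Over (Spec (CommRingCat.of k))) ⟶ X)
    (l : Red.Gm (Spec (CommRingCat.of k)) ⟶ G) [IsMonHom l]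
    (y : 𝟙_ (Over (Spec (CommRingCat.of k))) ⟶ X) (hy : HMNum.IsLimitPt a l x y) (m : ℤ) :
    HMNum.IsMu B l x m ↔ HMNum.IsMu B l y m := by
  have huniq : ∀ (x' y₁ y₂ : 𝟙_ (Over (Spec (CommRingCat.of k))) ⟶ X),
      HMNum.IsLimitPt a l x' y₁ → HMNum.IsLimitPt a l x' y₂ → y₁ = y₂ := by
    rintro x' y₁ y₂ ⟨φ₁, h1, h1'⟩ ⟨φ₂, h2, h2'⟩
    have e : φ₁ = φ₂ :=
      attr_unique (K := k) (𝟙 (Spec (CommRingCat.of k))) a l φ₁ φ₂ (h1.trans h2.symm)
    rw [← h1', ← h2', e]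
  have hyfix : HMNum.IsFixedBy a l y := by
    obtain ⟨φ, _, h2⟩ := hy
    rw [← h2]
    exact limit_fixed a l φ
  have hyy : HMNum.IsLimitPt a l y y := isLimitPt_of_fixed a l y hyfix
  constructor
  · rintro ⟨y₁, h1, hw⟩
    have e := huniq x y₁ y h1 hy
    rw [e] at hw
    exact ⟨y, hyy, hw⟩
  · rintro ⟨y₂, h2, hw⟩
    have e := huniq y y₂ y h2 hyy
    rw [e] at hw
    exact ⟨y, hy, hw⟩

end

end Groth.Agent.H4.MuC
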