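import Mathlib
import Groth.Prelude.Def_HMNum
import Groth.Agent.H4.MuA
import Groth.Agent.H4.MuC
import Groth.Agent.Lib.Helper9.Misc.MagDef

/-!
# `μ(x, λ) = μ(x, γ⁻¹λγ)` for `γ` in the parabolic subgroup `P(λ)` (helper4)
-/

namespace Groth.Agent.H4.MuD

universe u

open CategoryTheory CategoryTheory.Limits MonoidalCategory CartesianMonoidalCategory MonObj
  AlgebraicGeometry Opposite
open Magnet
open Groth.Agent.H4.A1Pts Groth.Agent.H4.A1Model Groth.Agent.H4.A1Cover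
open Groth.Agent.H9.MagKun

noncomputable section

section Alg

theorem conj_conj {Γ : Type*} [Group Γ] (p q c : Γ) :
    (p * q) * c * (p * q)⁻¹ = p * (q * c * q⁻¹) * p⁻¹ := by group

theorem comm_of_conj {Γ : Type*} [Group Γ] {x p : Γ} (h : x = p * x * p⁻¹) : x * p = p * x := by
  have h1 : x * p = p * x * p⁻¹ * p := by rw [← h]
  rw [h1]; group

theorem inv_conj {Γ : Type*} [Group Γ] (p c : Γ) : (p * c * p⁻¹)⁻¹ = p * c⁻¹ * p⁻¹ := by group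

theorem one_conj {Γ : Type*} [Group Γ] (c : Γ) : 1 * c * 1⁻¹ = c := by group

end Alg

variable {S : Scheme.{u}}

theorem isAffineHom_AMonS (N : Type) [AddCommMonoid N] : IsAffineHom (AMonS S N).hom := by
  change IsAffineHom (pullback.snd _ _)
  have : IsAffineHom (AMon (ULift.{u} ℤ) N).hom := by
    change IsAffineHom (Spec.map _)
    infer_instance
  exact MorphismProperty.pullback_snd (P := @IsAffineHom) _ _ this

/-- restriction of functions from `A¹ × T` to `𝔾_m × T` is injective (`T` affine) -/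
theorem appTop_injective_jj (T : Over S) [IsAffine T.left] :
    Function.Injective (jj S ▷ T).left.appTop.hom := by
  intro w w' h
  obtain ⟨y, rfl⟩ := (kappa_bijective S ↥NN T).2 w
  obtain ⟨y', rfl⟩ := (kappa_bijective S ↥NN T).2 w'
  have h1 := kappa_natM S ℤ T NN.subtype y
  have h1' := kappa_natM S ℤ T NN.subtype y'
  have h2 : kappa S ℤ T (MonoidAlgebra.mapDomainRingHom _
        (AddMonoidHom.toMultiplicative NN.subtype) y) =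
      kappa S ℤ T (MonoidAlgebra.mapDomainRingHom _
        (AddMonoidHom.toMultiplicative NN.subtype) y') := by
    rw [← h1, ← h1']; exact h
  have h3 := (kappa_bijective S ℤ T).1 h2
  have hinj : Function.Injective (AddMonoidHom.toMultiplicative NN.subtype) := by
    intro p q hpq
    apply Multiplicative.toAdd.injective
    apply Subtype.ext
    exact congrArg Multiplicative.toAdd hpq
  have h4 : y = y' := MonoidAlgebra.mapDomain_injective hinj h3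
  rw [h4]

variable {G X : Over S} [GrpObj G]

theorem hfpt_of (l : Red.Gm S ⟶ G) (g₀ : 𝟙_ (Over S) ⟶ G) (f : A1 S ⟶ G)
    (hf : jj S ≫ f = l * (toUnit _ ≫ g₀) * l⁻¹) (T' : Over S) (u : T' ⟶ Gm S) :
    (u ≫ jj S) ≫ f = (u ≫ l) * (toUnit T' ≫ g₀) * (u ≫ l)⁻¹ := by
  have e : u ≫ toUnit (Gm S) ≫ g₀ = toUnit T' ≫ g₀ := by
    rw [← Category.assoc, toUnit_unique (u ≫ toUnit _) (toUnit T')]
  calc (u ≫ jj S) ≫ f = u ≫ (jj S ≫ f) := Category.assoc _ _ _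
    _ = u ≫ (l * (toUnit _ ≫ g₀) * l⁻¹) := by rw [hf]
    _ = (u ≫ l) * (toUnit T' ≫ g₀) * (u ≫ l)⁻¹ := by
        rw [MonObj.comp_mul, MonObj.comp_mul, GrpObj.comp_inv, e]

/-- `f(g·b) = λ(g) f(b) λ(g)⁻¹` on `𝔾_m × A¹` -/
theorem conj_formula [IsAffine (Gm S).left] [IsAffine G.left]
    (l : Red.Gm S ⟶ G) [IsMonHom l] (g₀ : 𝟙_ (Over S) ⟶ G) (f : A1 S ⟶ G)
    (hfpt : ∀ (T' : Over S) (u : T' ⟶ Gm S),
      (u ≫ jj S) ≫ f = (u ≫ l) * (toUnit T' ≫ g₀) * (u ≫ l)⁻¹)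
    (T' : Over S) (g : T' ⟶ Gm S) (b : T' ⟶ A1 S) :
    ((g ≫ jj S) * b) ≫ f = (g ≫ l) * (b ≫ f) * (g ≫ l)⁻¹ := by
  obtain ⟨F₁, hF₁⟩ : ∃ F₁ : A1 S ⊗ Gm S ⟶ G,
      F₁ = ((snd (A1 S) (Gm S) ≫ jj S) * fst (A1 S) (Gm S)) ≫ f := ⟨_, rfl⟩
  obtain ⟨F₂, hF₂⟩ : ∃ F₂ : A1 S ⊗ Gm S ⟶ G,
      F₂ = (snd (A1 S) (Gm S) ≫ l) * (fst (A1 S) (Gm S) ≫ f) * (snd (A1 S) (Gm S) ≫ l)⁻¹ :=
    ⟨_, rfl⟩
  have hpt₁ : ∀ (T' : Over S) (b : T' ⟶ A1 S) (g : T' ⟶ Gm S),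
      lift b g ≫ F₁ = ((g ≫ jj S) * b) ≫ f := by
    intro T' b g
    calc lift b g ≫ F₁
        = (lift b g ≫ ((snd (A1 S) (Gm S) ≫ jj S) * fst (A1 S) (Gm S))) ≫ f := by
          rw [hF₁]; exact (Category.assoc _ _ _).symm
      _ = ((g ≫ jj S) * b) ≫ f := by rw [MonObj.comp_mul, lift_snd_assoc, lift_fst]
  have hpt₂ : ∀ (T' : Over S) (b : T' ⟶ A1 S) (g : T' ⟶ Gm S),
      lift b g ≫ F₂ = (g ≫ l) * (b ≫ f) * (g ≫ l)⁻¹ := by
    intro T' b g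
    rw [hF₂, MonObj.comp_mul, MonObj.comp_mul, GrpObj.comp_inv, lift_snd_assoc, lift_fst_assoc]
  have key : (jj S ▷ Gm S) ≫ F₁ = (jj S ▷ Gm S) ≫ F₂ := by
    apply Magnet.hom_ext_lift₂
    intro T' u g
    rw [lift_whiskerRight_assoc, lift_whiskerRight_assoc, hpt₁, hpt₂]
    have e1 : (g ≫ jj S) * (u ≫ jj S) = (g * u) ≫ jj S := (MonObj.mul_comp g u (jj S)).symm
    rw [e1, hfpt T' (g * u), hfpt T' u, MonObj.mul_comp g u l]
    exact conj_conj _ _ _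
  have hF : F₁ = F₂ := by
    apply Over.OverMorphism.ext
    apply ext_of_isAffine
    have hj := appTop_injective_jj (S := S) (Gm S)
    have k1 : ((jj S ▷ Gm S) ≫ F₁).left.appTop = ((jj S ▷ Gm S) ≫ F₂).left.appTop := by
      rw [key]
    rw [Over.comp_left, Over.comp_left, Scheme.Hom.comp_appTop, Scheme.Hom.comp_appTop] at k1
    apply CommRingCat.hom_ext
    apply RingHom.ext
    intro r
    apply hj
    exact congrArg (fun φ => φ.hom r) k1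
  rw [← hpt₁ T' b g, hF, hpt₂]

/-- the limit `γ₀ = f(0)` commutes with `λ` -/
theorem gamma_commute (l : Red.Gm S ⟶ G) (f : A1 S ⟶ G)
    (hconj : ∀ (T' : Over S) (g : T' ⟶ Gm S) (b : T' ⟶ A1 S),
      ((g ≫ jj S) * b) ≫ f = (g ≫ l) * (b ≫ f) * (g ≫ l)⁻¹)
    (T' : Over S) (g : T' ⟶ Red.Gm S) :
    (toUnit T' ≫ HMNum.origin S ≫ f) * (g ≫ l) = (g ≫ l) * (toUnit T' ≫ HMNum.origin S ≫ f) := by
  have hb : (g ≫ jj S) * (toUnit T' ≫ HMNum.origin S) = toUnit T' ≫ HMNum.origin S := by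
    apply val_injective
    rw [val_mul, Groth.Agent.H4.MuC.val_origin, mul_zero]
  have h := hconj T' g (toUnit T' ≫ HMNum.origin S)
  rw [hb, Category.assoc] at h
  exact comm_of_conj h

/-- twisting an attractor point by `f` -/
theorem isLimitPt_twist (a : AlgGrp.Action G X) (l : Red.Gm S ⟶ G) [IsMonHom l]
    (g₀ : 𝟙_ (Over S) ⟶ G) (f : A1 S ⟶ G)
    (hfpt : ∀ (T' : Over S) (u : T' ⟶ Gm S),
      (u ≫ jj S) ≫ f = (u ≫ l) * (toUnit T' ≫ g₀) * (u ≫ l)⁻¹)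
    (hconj : ∀ (T' : Over S) (g : T' ⟶ Gm S) (b : T' ⟶ A1 S),
      ((g ≫ jj S) * b) ≫ f = (g ≫ l) * (b ≫ f) * (g ≫ l)⁻¹)
    {T : Over S} (x y : T ⟶ X) (h : HMNum.IsLimitPt a l x y) :
    HMNum.IsLimitPt a l (lift (toUnit T ≫ g₀) x ≫ a.act)
      (lift (toUnit T ≫ HMNum.origin S ≫ f) y ≫ a.act) := by
  obtain ⟨φ, hφx, hφy⟩ := h
  have hx : lift (toUnit T ≫ η[A1 S]) (𝟙 T) ≫ φ.1 = x := hφx
  have hy : lift (toUnit T ≫ HMNum.origin S) (𝟙 T) ≫ φ.1 = y := by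
    rw [← HMNum.limitPt_eq]; exact hφy
  obtain ⟨ψ, hψ⟩ : ∃ ψ : A1 S ⊗ T ⟶ X, ψ = lift (fst (A1 S) T ≫ f) φ.1 ≫ a.act := ⟨_, rfl⟩
  have hψpt : ∀ (T' : Over S) (b' : T' ⟶ A1 S) (t : T' ⟶ T),
      lift b' t ≫ ψ = lift (b' ≫ f) (lift b' t ≫ φ.1) ≫ a.act := by
    intro T' b' t
    calc lift b' t ≫ ψ = (lift b' t ≫ lift (fst (A1 S) T ≫ f) φ.1) ≫ a.act := by
          rw [hψ]; exact (Category.assoc _ _ _).symm
      _ = lift (b' ≫ f) (lift b' t ≫ φ.1) ≫ a.act := by rw [comp_lift, lift_fst_assoc]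
  have hmem : MonAct.IsEquivariant ((subAct S ℤ HMNum.plus).prod (MonAct.trivial _ T))
      (HMNum.gmAct a l) ψ := by
    rw [MonAct.mem_eqvHom_iff]
    intro T' g b t
    have hφe := (MonAct.mem_eqvHom_iff φ.1).mp φ.2 T' g b t
    rw [hψpt, hψpt, hφe, Groth.Agent.H9.MagDef.lift_subAct]
    simp only [MonAct.lift_restrict_act, MonAct.ofAction_act]
    rw [← AlgGrp.Action.lift_mul_act, ← AlgGrp.Action.lift_mul_act, hconj T' g b,
      _root_.inv_mul_cancel_right]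
  have e1 : (toUnit T ≫ η[A1 S]) ≫ f = toUnit T ≫ g₀ := by
    have h0 : toUnit T ≫ η[A1 S] = (1 : T ⟶ Gm S) ≫ jj S := by
      rw [MonObj.one_comp]; rfl
    rw [h0, hfpt T 1, MonObj.one_comp]
    exact one_conj _
  refine ⟨⟨ψ, hmem⟩, ?_, ?_⟩
  · show lift (toUnit T ≫ η[A1 S]) (𝟙 T) ≫ ψ = _
    rw [hψpt, e1, hx]
  · rw [HMNum.limitPt_eq]
    show lift (toUnit T ≫ HMNum.origin S) (𝟙 T) ≫ ψ = _
    rw [hψpt, hy, Category.assoc]

theorem isMu_twist {a : AlgGrp.Action G X} (B : GLinSh.LinBun G a)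
    (l : Red.Gm S ⟶ G) [IsMonHom l]
    (g₀ : 𝟙_ (Over S) ⟶ G) (f : A1 S ⟶ G)
    (hfpt : ∀ (T' : Over S) (u : T' ⟶ Gm S),
      (u ≫ jj S) ≫ f = (u ≫ l) * (toUnit T' ≫ g₀) * (u ≫ l)⁻¹)
    (hconj : ∀ (T' : Over S) (g : T' ⟶ Gm S) (b : T' ⟶ A1 S),
      ((g ≫ jj S) * b) ≫ f = (g ≫ l) * (b ≫ f) * (g ≫ l)⁻¹)
    {T : Over S} (x : T ⟶ X) (m : ℤ)
    (hch : ∀ z : T ⟶ X, ∃ (U : X.left.Opens) (yc : Γ(B.V.left, B.π.left ⁻¹ᵁ U)),
      yc ∈ B.atlas.chart U ∧ z.left ⁻¹ᵁ U = ⊤)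
    (h : HMNum.IsMu B l x m) : HMNum.IsMu B l (lift (toUnit T ≫ g₀) x ≫ a.act) m := by
  obtain ⟨y, hlim, hwt⟩ := h
  refine ⟨lift (toUnit T ≫ HMNum.origin S ≫ f) y ≫ a.act,
    isLimitPt_twist a l g₀ f hfpt hconj x y hlim, ?_⟩
  exact Groth.Agent.H4.MuA.hasFibreWt_conj B (HMNum.origin S ≫ f) l l
    (gamma_commute l f hconj) y (-m) (hch _) hwt

theorem main85 (k : Type u) [Field k] (G X : Over (Spec (CommRingCat.of k))) [GrpObj G]
    [IsAffine G.left]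
    (a : AlgGrp.Action G X) (B : GLinSh.LinBun G a)
    (x : 𝟙_ (Over (Spec (CommRingCat.of k))) ⟶ X)
    (l : Red.Gm (Spec (CommRingCat.of k)) ⟶ G) [IsMonHom l]
    (g₀ : 𝟙_ (Over (Spec (CommRingCat.of k))) ⟶ G)
    (hg₀ : ∃ f : HMNum.A1 (Spec (CommRingCat.of k)) ⟶ G,
      HMNum.incl (Spec (CommRingCat.of k)) ≫ f = l * (toUnit _ ≫ g₀) * l⁻¹)
    (l' : Red.Gm (Spec (CommRingCat.of k)) ⟶ G) [IsMonHom l']
    (hl' : l' = (toUnit _ ≫ g₀)⁻¹ * l * (toUnit _ ≫ g₀)) (m : ℤ) :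
    HMNum.IsMu B l x m ↔ HMNum.IsMu B l' x m := by
  obtain ⟨f, hf⟩ := hg₀
  haveI : IsAffineHom (Gm (Spec (CommRingCat.of k))).hom := isAffineHom_AMonS ℤ
  haveI : IsAffine (Gm (Spec (CommRingCat.of k))).left :=
    @isAffine_of_isAffineHom _ _ (Gm (Spec (CommRingCat.of k))).hom inferInstance
      (inferInstanceAs (IsAffine (Spec (CommRingCat.of k))))
  have hfpt := hfpt_of l g₀ f hf
  have hconj := conj_formula l g₀ f hfpt
  have hfpt' : ∀ (T' : Over (Spec (CommRingCat.of k))) (u : T' ⟶ Gm _),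
      (u ≫ jj _) ≫ f⁻¹ = (u ≫ l) * (toUnit T' ≫ g₀⁻¹) * (u ≫ l)⁻¹ := by
    intro T' u
    rw [GrpObj.comp_inv, hfpt T' u, GrpObj.comp_inv]
    exact inv_conj _ _
  have hconj' := conj_formula l g₀⁻¹ f⁻¹ hfpt'
  have step : HMNum.IsMu B l x m ↔ HMNum.IsMu B l (lift g₀ x ≫ a.act) m := by
    constructor
    · intro h
      have h2 := isMu_twist B l g₀ f hfpt hconj x m (Groth.Agent.H4.MuA.exists_chart k B) h
      rw [Groth.Agent.H4.MuA.toUnit_unit_comp] at h2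
      exact h2
    · intro h
      have h2 := isMu_twist B l g₀⁻¹ f⁻¹ hfpt' hconj' (lift g₀ x ≫ a.act) m
        (Groth.Agent.H4.MuA.exists_chart k B) h
      have e : lift (toUnit (𝟙_ _) ≫ g₀⁻¹) (lift g₀ x ≫ a.act) ≫ a.act = x := by
        rw [Groth.Agent.H4.MuA.toUnit_unit_comp, ← AlgGrp.Action.lift_mul_act,
          _root_.inv_mul_cancel, AlgGrp.Action.lift_one_act]
      rw [e] at h2
      exact h2
  exact step.trans (Groth.Agent.H4.MuA.main86 k G X a B x l g₀ l' hl' m)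

end

end Groth.Agent.H4.MuD
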