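import Mathlib
import Groth.Agent.Lib.Helper3.PerfAux
import Groth.Agent.H4.PC1

/-!
# Witnesses and bounded complexes of finite free modules over a (not necessarily commutative) ring
(port of parts of `PC1`–`PC4` from commutative rings)
-/

set_option autoImplicit false
universe u
open CategoryTheory CategoryTheory.Limits CategoryTheory.Pretriangulated

namespace Groth.Agent.H4.NCPC

attribute [local instance] HasDerivedCategory.standard

open DerivedCategory ZeroObject

/-- cochain complexes of modules over a ring. -/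
abbrev Cx (R : Type u) [Ring R] := CochainComplex (ModuleCat.{u} R) ℤ

/-- the derived category of a ring. -/
abbrev DR (R : Type u) [Ring R] := DerivedCategory (ModuleCat.{u} R)

variable {R : Type u} [Ring R]

/-- a complex as an object of the derived category. -/
noncomputable abbrev toD (E : Cx R) : DR R := DerivedCategory.Q.obj E

section Tri

variable {T T' : Triangle (DR R)} (hT : T ∈ distinguishedTriangles)
  (hT' : T' ∈ distinguishedTriangles) (Φ : T ⟶ T')

include hT hT' in
lemma epi_hom₃ (i j : ℤ) (hij : i + 1 = j)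
    (h2 : Epi ((homologyFunctor (ModuleCat.{u} R) i).map Φ.hom₂))
    (h1 : Epi ((homologyFunctor (ModuleCat.{u} R) j).map Φ.hom₁))
    (h2' : Mono ((homologyFunctor (ModuleCat.{u} R) j).map Φ.hom₂)) :
    Epi ((homologyFunctor (ModuleCat.{u} R) i).map Φ.hom₃) := by
  refine Groth.Agent.H4.PC.four_epi ((homologyFunctor (ModuleCat.{u} R) i).map T.mor₂)
    (HomologySequence.δ T i j hij) ((homologyFunctor (ModuleCat.{u} R) j).map T.mor₁)
    ((homologyFunctor (ModuleCat.{u} R) i).map T'.mor₂)
    (HomologySequence.δ T' i j hij) ((homologyFunctor (ModuleCat.{u} R) j).map T'.mor₁)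
    _ _ _ _ ?_ ?_ ?_ (HomologySequence.δ_comp T hT i j hij) (HomologySequence.exact₁ T hT i j hij)
    (HomologySequence.comp_δ T' hT' i j hij) (HomologySequence.exact₃ T' hT' i j hij)
    (HomologySequence.δ_comp T' hT' i j hij) h2 h1 h2'
  · rw [← Functor.map_comp, ← Functor.map_comp, Φ.comm₂]
  · exact ((homologyFunctor (ModuleCat.{u} R) 0).homologySequenceδ_naturality T T' Φ i j hij).symm
  · rw [← Functor.map_comp, ← Functor.map_comp, Φ.comm₁]

include hT hT' in
lemma mono_hom₃ (i j : ℤ) (hij : i + 1 = j)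
    (h1 : Epi ((homologyFunctor (ModuleCat.{u} R) i).map Φ.hom₁))
    (h2 : Mono ((homologyFunctor (ModuleCat.{u} R) i).map Φ.hom₂))
    (h1' : Mono ((homologyFunctor (ModuleCat.{u} R) j).map Φ.hom₁)) :
    Mono ((homologyFunctor (ModuleCat.{u} R) i).map Φ.hom₃) := by
  refine Groth.Agent.H4.PC.four_mono ((homologyFunctor (ModuleCat.{u} R) i).map T.mor₁)
    ((homologyFunctor (ModuleCat.{u} R) i).map T.mor₂) (HomologySequence.δ T i j hij)
    ((homologyFunctor (ModuleCat.{u} R) i).map T'.mor₁)
    ((homologyFunctor (ModuleCat.{u} R) i).map T'.mor₂) (HomologySequence.δ T' i j hij)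
    _ _ _ _ ?_ ?_ ?_ ?_ (HomologySequence.comp_δ T hT i j hij)
    (HomologySequence.exact₃ T hT i j hij) ?_ (HomologySequence.exact₂ T' hT' i) h1 h2 h1'
  · rw [← Functor.map_comp, ← Functor.map_comp, Φ.comm₁]
  · rw [← Functor.map_comp, ← Functor.map_comp, Φ.comm₂]
  · exact ((homologyFunctor (ModuleCat.{u} R) 0).homologySequenceδ_naturality T T' Φ i j hij).symm
  · rw [← Functor.map_comp, comp_distTriang_mor_zero₁₂ _ hT, Functor.map_zero]
  · rw [← Functor.map_comp, comp_distTriang_mor_zero₁₂ _ hT', Functor.map_zero]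

end Tri

/-- witness: iso on `H^i`, `i > m`, and epi on `H^m`. -/
def IsWit (m : ℤ) {X Y : DR R} (α : X ⟶ Y) : Prop :=
  (∀ i : ℤ, m < i → IsIso ((homologyFunctor (ModuleCat.{u} R) i).map α)) ∧
    Epi ((homologyFunctor (ModuleCat.{u} R) m).map α)

lemma IsWit.comp {m : ℤ} {X Y Z : DR R} {α : X ⟶ Y} {β : Y ⟶ Z} (hα : IsWit m α)
    (hβ : IsWit m β) : IsWit m (α ≫ β) := by
  refine ⟨fun i hi => ?_, ?_⟩
  · haveI := hα.1 i hi
    haveI := hβ.1 i hi
    rw [Functor.map_comp]; infer_instance
  · haveI := hα.2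
    haveI := hβ.2
    rw [Functor.map_comp]; infer_instance

lemma IsWit.of_isIso {m : ℤ} {X Y : DR R} (α : X ⟶ Y) [IsIso α] : IsWit m α :=
  ⟨fun _ _ => inferInstance, inferInstance⟩

lemma IsWit.mono {m n : ℤ} (h : m ≤ n) {X Y : DR R} {α : X ⟶ Y} (hα : IsWit m α) :
    IsWit n α := by
  refine ⟨fun i hi => hα.1 i (by omega), ?_⟩
  rcases h.lt_or_eq with h | rfl
  · haveI := hα.1 n h; infer_instance
  · exact hα.2

lemma IsWit.mono_map {m : ℤ} {X Y : DR R} {α : X ⟶ Y} (hα : IsWit m α) (i : ℤ) (hi : m < i) :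
    Mono ((homologyFunctor (ModuleCat.{u} R) i).map α) := by
  haveI := hα.1 i hi; infer_instance

lemma IsWit.epi {m : ℤ} {X Y : DR R} {α : X ⟶ Y} (hα : IsWit m α) (i : ℤ) (hi : m ≤ i) :
    Epi ((homologyFunctor (ModuleCat.{u} R) i).map α) := (hα.mono hi).2

/-- the cone of a morphism which is epi on `H^i` and mono on `H^{i+1}` has vanishing `H^i`. -/
lemma isZero_homology_obj₃ (T : Triangle (DR R)) (hT : T ∈ distinguishedTriangles) (i j : ℤ)
    (hij : i + 1 = j)
    (hepi : Epi ((homologyFunctor (ModuleCat.{u} R) i).map T.mor₁))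
    (hmono : Mono ((homologyFunctor (ModuleCat.{u} R) j).map T.mor₁)) :
    IsZero ((homologyFunctor (ModuleCat.{u} R) i).obj T.obj₃) := by
  have h1 := (HomologySequence.epi_homologyMap_mor₁_iff T hT i).1 hepi
  have h2 := (HomologySequence.mono_homologyMap_mor₁_iff T hT i j hij).1 hmono
  have h3 := HomologySequence.exact₃ T hT i j hij
  rw [IsZero.iff_id_eq_zero]
  have := h3.mono_g h1
  dsimp only at this
  rw [← cancel_mono (HomologySequence.δ T i j hij), h2, comp_zero, zero_comp]


lemma isWit_iff_isLE (T : Triangle (DR R)) (hT : T ∈ distinguishedTriangles) (m : ℤ) :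
    IsWit m T.mor₁ ↔ T.obj₃.IsLE (m - 1) := by
  constructor
  · intro h
    rw [isLE_iff]
    intro i hi
    refine isZero_homology_obj₃ T hT i (i + 1) rfl (h.epi i (by omega)) ?_
    haveI := h.1 (i + 1) (by omega)
    infer_instance
  · intro h
    refine ⟨fun i hi => ?_, ?_⟩
    · haveI : Mono ((homologyFunctor (ModuleCat.{u} R) i).map T.mor₁) := by
        rw [HomologySequence.mono_homologyMap_mor₁_iff T hT (i - 1) i (by omega)]
        exact (isZero_of_isLE T.obj₃ (m - 1) (i - 1) (by omega)).eq_of_src _ _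
      haveI : Epi ((homologyFunctor (ModuleCat.{u} R) i).map T.mor₁) := by
        rw [HomologySequence.epi_homologyMap_mor₁_iff T hT i]
        exact (isZero_of_isLE T.obj₃ (m - 1) i (by omega)).eq_of_tgt _ _
      exact isIso_of_mono_of_epi _
    · rw [HomologySequence.epi_homologyMap_mor₁_iff T hT m]
      exact (isZero_of_isLE T.obj₃ (m - 1) m (by omega)).eq_of_tgt _ _



/-- bounded complexes of finite free modules. -/
def IsBFF (E : Cx R) : Prop := ∃ a b : ℤ, (∀ i : ℤ, i < a ∨ b < i → IsZero (E.X i)) ∧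
  ∀ i : ℤ, Module.Finite R (E.X i) ∧ Module.Free R (E.X i)

lemma isBFF_zero : IsBFF (0 : Cx R) := by
  refine ⟨0, 0, fun i _ => ?_, fun i => ?_⟩
  · exact (HomologicalComplex.eval _ _ i).map_isZero (isZero_zero _)
  · have hz : IsZero ((0 : Cx R).X i) :=
      (HomologicalComplex.eval _ _ i).map_isZero (isZero_zero _)
    haveI := ModuleCat.subsingleton_of_isZero hz
    exact ⟨inferInstance, inferInstance⟩


lemma isKProjective_of_vanishesAbove_projective (E : Cx R) (b : ℤ)
    (hb : ∀ i : ℤ, b < i → IsZero (E.X i))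
    (hP : ∀ i, Module.Projective R (E.X i)) : E.IsKProjective := by
  haveI : E.IsStrictlyLE b := by
    rw [CochainComplex.isStrictlyLE_iff]; exact hb
  haveI : ∀ n, Projective (E.X n) := fun n => by
    haveI := hP n
    exact ModuleCat.projective_of_categoryTheory_projective (E.X n)
  exact CochainComplex.isKProjective_of_projective E b

lemma IsBFF.cone {E₁ E₂ : Cx R} (h₁ : IsBFF E₁) (h₂ : IsBFF E₂) (f : E₁ ⟶ E₂) :
    IsBFF (CochainComplex.mappingCone f) := by
  obtain ⟨a₁, b₁, hz₁, hP₁⟩ := h₁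
  obtain ⟨a₂, b₂, hz₂, hP₂⟩ := h₂
  refine ⟨min a₁ a₂ - 1, max b₁ b₂, ?_, ?_⟩
  · intro i hi
    refine Groth.Agent.H3.PerfAux.mappingCone_X_isZero f i (hz₁ _ ?_) (hz₂ _ ?_)
    · rcases hi with hi | hi
      · left; have := min_le_left a₁ a₂; omega
      · right; have := le_max_left b₁ b₂; omega
    · rcases hi with hi | hi
      · left; have := min_le_right a₁ a₂; omega
      · right; have := le_max_right b₁ b₂; omega
  · intro i
    have e : (CochainComplex.mappingCone f).X i ≅ E₁.X (i + 1) ⊞ E₂.X i :=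
      HomologicalComplex.homotopyCofiber.XIsoBiprod f i (i + 1) rfl
    have e' := (e ≪≫ ModuleCat.biprodIsoProd _ _).toLinearEquiv
    haveI := (hP₁ (i + 1)).1
    haveI := (hP₁ (i + 1)).2
    haveI := (hP₂ i).1
    haveI := (hP₂ i).2
    exact ⟨Module.Finite.equiv e'.symm, Module.Free.of_equiv e'.symm⟩

lemma IsBFF.projective {E : Cx R} (hE : IsBFF E) (i : ℤ) : Module.Projective R (E.X i) := by
  obtain ⟨a, b, h1, h2⟩ := hE
  haveI := (h2 i).2; infer_instance

lemma IsBFF.isKProjective {E : Cx R} (hE : IsBFF E) : E.IsKProjective := by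
  obtain ⟨a, b, h1, h2⟩ := hE
  exact isKProjective_of_vanishesAbove_projective E b (fun i hi => h1 i (Or.inr hi))
    (fun i => by haveI := (h2 i).2; infer_instance)


/-- single complexes -/
noncomputable abbrev sgl (N : ModuleCat.{u} R) (n : ℤ) : Cx R :=
  (HomologicalComplex.single (ModuleCat.{u} R) (ComplexShape.up ℤ) n).obj N

lemma isBFF_sgl (N : ModuleCat.{u} R) [Module.Finite R N] [Module.Free R N] (n : ℤ) :
    IsBFF (sgl N n) := by
  refine ⟨n, n, fun i hi => ?_, fun i => ?_⟩
  · exact HomologicalComplex.isZero_single_obj_X _ _ _ _ (by omega)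
  · by_cases hi : i = n
    · subst hi
      have e := (HomologicalComplex.singleObjXSelf (ComplexShape.up ℤ) i N).toLinearEquiv
      exact ⟨Module.Finite.equiv e.symm, Module.Free.of_equiv e.symm⟩
    · haveI := ModuleCat.subsingleton_of_isZero
        (HomologicalComplex.isZero_single_obj_X (ComplexShape.up ℤ) n N i hi)
      exact ⟨inferInstance, inferInstance⟩


/-- homology of `toD E` vs homology of `E`. -/
noncomputable def homologyToDIso (E : Cx R) (i : ℤ) :
    (homologyFunctor (ModuleCat.{u} R) i).obj (toD E) ≅ E.homology i :=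
  (homologyFunctorFactors (ModuleCat.{u} R) i).app E

end Groth.Agent.H4.NCPC
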