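import Mathlib
import Groth.Agent.H4.NCPC1

/-!
# Bounded above resolutions by finite free modules over a (not necessarily commutative) ring
(port of `PC4`–`PC6`)
-/

set_option autoImplicit false
universe u
open CategoryTheory CategoryTheory.Limits CategoryTheory.Pretriangulated

namespace Groth.Agent.H4.NCPC2

open Groth.Agent.H4.NCPC

attribute [local instance] HasDerivedCategory.standard

variable {R : Type u} [Ring R]

open DerivedCategory ZeroObject
open CochainComplex (mappingCone)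
open CochainComplex.HomComplex

/-- the chain map `F[-b] → X` attached to `p : F → X^b` when `X^{b+1} = 0`. -/
noncomputable def fromSgl (X : Cx R) (b : ℤ) (hX : ∀ i : ℤ, b < i → IsZero (X.X i))
    (F : ModuleCat.{u} R) (p : F ⟶ X.X b) : sgl F b ⟶ X :=
  HomologicalComplex.mkHomFromSingle p (fun k hk => by
    simp only [ComplexShape.up_Rel] at hk
    exact (hX k (by omega)).eq_of_tgt _ _)

lemma fromSgl_f (X : Cx R) (b : ℤ) (hX : ∀ i : ℤ, b < i → IsZero (X.X i))
    (F : ModuleCat.{u} R) (p : F ⟶ X.X b) : (fromSgl X b hX F p).f b =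
      (HomologicalComplex.singleObjXSelf (ComplexShape.up ℤ) b F).hom ≫ p :=
  HomologicalComplex.mkHomFromSingle_f _ _

lemma cone_fromSgl_isZero (X : Cx R) (b : ℤ) (hX : ∀ i : ℤ, b < i → IsZero (X.X i))
    (F : ModuleCat.{u} R) (p : F ⟶ X.X b) (i : ℤ) (hi : b < i) :
    IsZero ((mappingCone (fromSgl X b hX F p)).X i) := by
  apply Groth.Agent.H3.PerfAux.mappingCone_X_isZero
  · exact HomologicalComplex.isZero_single_obj_X _ _ _ _ (by omega)
  · exact hX i hi

lemma cone_fromSgl_exactAt' (X : Cx R) (b : ℤ) (hX : ∀ i : ℤ, b < i → IsZero (X.X i))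
    (F : ModuleCat.{u} R) (p : F ⟶ X.X b)
    (hp : ∀ y : X.X b, ∃ (f : F) (x : X.X (b - 1)), y = p.hom f + (X.d (b - 1) b).hom x) :
    (mappingCone (fromSgl X b hX F p)).ExactAt b := by
  set g := fromSgl X b hX F p with hg
  rw [HomologicalComplex.exactAt_iff' _ (b - 1) b (b + 1) (by simp) (by simp),
    ShortComplex.moduleCat_exact_iff]
  intro y _
  change (mappingCone g).X b at y
  obtain ⟨f, x, hf⟩ := hp ((mappingCone.snd g).v b b (add_zero b) y)
  have hy : y = (mappingCone.inr g).f b ((mappingCone.snd g).v b b (add_zero b) y) := by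
    have h1 := congrArg (fun ψ => ψ.hom y) (mappingCone.id_X g b (b + 1) rfl)
    have h2 : (mappingCone.fst g).1.v b (b + 1) rfl = 0 :=
      (HomologicalComplex.isZero_single_obj_X _ _ _ _ (by omega)).eq_of_tgt _ _
    rw [h2, zero_comp, zero_add] at h1
    exact h1.symm
  refine ⟨(mappingCone.inl g).v b (b - 1) (by omega)
      ((HomologicalComplex.singleObjXSelf (ComplexShape.up ℤ) b F).inv f) +
      (mappingCone.inr g).f (b - 1) x, ?_⟩
  change ((mappingCone g).d (b - 1) b).hom _ = y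
  have h3 := congrArg (fun ψ => ψ.hom ((HomologicalComplex.singleObjXSelf (ComplexShape.up ℤ) b F).inv f))
    (mappingCone.inl_v_d g b (b - 1) (b + 1) (by omega) (by omega))
  have h5 : (sgl F b).d b (b + 1) = 0 := HomologicalComplex.single_obj_d _ _ _ _ _
  rw [h5, zero_comp, sub_zero, hg, fromSgl_f] at h3
  simp only [ModuleCat.hom_comp, LinearMap.comp_apply] at h3
  have h4 := congrArg (fun ψ => ψ.hom x) ((mappingCone.inr g).comm (b - 1) b)
  simp only [ModuleCat.hom_comp, LinearMap.comp_apply] at h4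
  have h6 : (HomologicalComplex.singleObjXSelf (ComplexShape.up ℤ) b F).hom.hom
      ((HomologicalComplex.singleObjXSelf (ComplexShape.up ℤ) b F).inv.hom f) = f :=
    congrArg (fun ψ => ψ.hom f) (HomologicalComplex.singleObjXSelf (ComplexShape.up ℤ) b F).inv_hom_id
  rw [map_add, h3]
  erw [h4, h6]
  rw [hy, hf, map_add]

lemma mapTriangle_distinguished {K L : Cx R} (f : K ⟶ L) :
    Q.mapTriangle.obj (mappingCone.triangle f) ∈ distinguishedTriangles := by
  rw [mem_distTriang_iff]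
  exact ⟨_, _, f, ⟨Iso.refl _⟩⟩

/-- objects of `D^{≤ m}` with finitely generated `H^m` receive a witness from a finite free module
placed in degree `m`. -/
theorem exists_wit_from_sgl (K : DR R) (m : ℤ) [K.IsLE m]
    (hfin : Module.Finite R ((homologyFunctor (ModuleCat.{u} R) m).obj K)) :
    ∃ (k : ℕ) (ψ : toD (sgl (ModuleCat.of R (Fin k → R)) m) ⟶ K), IsWit m ψ := by
  obtain ⟨X, hX, ⟨e⟩⟩ := exists_iso_Q_obj_of_isLE K m
  have hX' : ∀ i : ℤ, m < i → IsZero (X.X i) := fun i hi => X.isZero_of_isStrictlyLE m i hi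
  have hd : X.d m (m + 1) = 0 := (hX' (m + 1) (by omega)).eq_of_tgt _ _
  -- `opcycles m` is finite
  have e1 : (homologyFunctor (ModuleCat.{u} R) m).obj K ≅ X.opcycles m :=
    (homologyFunctor (ModuleCat.{u} R) m).mapIso e ≪≫ homologyToDIso X m ≪≫
      X.isoHomologyι m (m + 1) (by simp) hd
  haveI : Module.Finite R (X.opcycles m) := Module.Finite.equiv e1.toLinearEquiv
  obtain ⟨k, p₀, hp₀⟩ := Module.Finite.exists_fin' R (X.opcycles m)
  have hq : Function.Surjective (X.pOpcycles m).hom :=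
    (ModuleCat.epi_iff_surjective _).1 inferInstance
  obtain ⟨p, hp⟩ := Module.projective_lifting_property (X.pOpcycles m).hom p₀ hq
  let F : ModuleCat.{u} R := ModuleCat.of R (Fin k → R)
  let p' : F ⟶ X.X m := ModuleCat.ofHom p
  have hex : (ShortComplex.mk (X.d (m - 1) m) (X.pOpcycles m) (by simp)).Exact :=
    ShortComplex.exact_of_g_is_cokernel _ (X.opcyclesIsCokernel (m - 1) m (by simp))
  rw [ShortComplex.moduleCat_exact_iff] at hex
  have hsurj : ∀ y : X.X m, ∃ (f : F) (x : X.X (m - 1)),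
      y = p'.hom f + (X.d (m - 1) m).hom x := by
    intro y
    obtain ⟨f, hf⟩ := hp₀ ((X.pOpcycles m).hom y)
    have h1 : (X.pOpcycles m).hom (y - p f) = 0 := by
      rw [map_sub, ← hf]
      have := LinearMap.congr_fun hp f
      simp only [LinearMap.comp_apply] at this
      rw [this, sub_self]
    obtain ⟨x, hx⟩ := hex (y - p f) h1
    refine ⟨f, x, ?_⟩
    change y = p f + _
    rw [hx]; abel
  set g := fromSgl X m hX' F p' with hg
  have hTg := mapTriangle_distinguished g
  have hw : IsWit m (Q.map g) := by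
    refine (isWit_iff_isLE _ hTg m).2 ?_
    change (Q.obj (mappingCone g)).IsLE (m - 1)
    rw [isLE_iff]
    intro i hi
    refine ((homologyToDIso (mappingCone g) i).symm).isZero_iff.1 ?_
    by_cases him : i = m
    · subst him
      exact (HomologicalComplex.exactAt_iff_isZero_homology _ _).1
        (cone_fromSgl_exactAt' X i hX' F p' hsurj)
    · have hz : IsZero ((mappingCone g).X i) := cone_fromSgl_isZero X m hX' F p' i (by omega)
      exact (HomologicalComplex.exactAt_iff_isZero_homology _ _).1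
        (ShortComplex.exact_of_isZero_X₂ _ hz)
  exact ⟨k, Q.map g ≫ e.inv, hw.comp (IsWit.of_isIso e.inv)⟩

theorem homotopy_of_Q_map_eq_zero (M K : Cx R) [M.IsKProjective] (f : M ⟶ K)
    (hf : Q.map f = 0) : Nonempty (Homotopy f 0) := by
  have h3 := quotientCompQhIso_hom_naturality f
  rw [hf, comp_zero] at h3
  have h4 : Qh.map ((HomotopyCategory.quotient _ _).map f) =
      Qh.map ((HomotopyCategory.quotient _ _).map (0 : M ⟶ K)) := by
    rw [Functor.map_zero, Functor.map_zero]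
    exact (cancel_mono ((quotientCompQhIso (ModuleCat.{u} R)).hom.app K)).1 (h3.trans zero_comp.symm)
  exact ⟨HomotopyCategory.homotopyOfEq _ _
    ((CochainComplex.IsKProjective.Qh_map_bijective M _).1 h4)⟩

set_option maxHeartbeats 800000 in
theorem exists_step_aux (X E S : Cx R) (a : E ⟶ X) (n : ℤ) (hSB : IsBFF S)
    (ψ₀ : toD S ⟶ (toD (mappingCone a))⟦(-1 : ℤ)⟧)
    (hψ₀ : IsWit n ψ₀) :
    ∃ (φ : S ⟶ E) (a' : mappingCone φ ⟶ X), mappingCone.inr φ ≫ a' = a ∧
      IsWit (n - 1) (Q.map a') := by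
  have hTa := mapTriangle_distinguished a
  have hT₂ := inv_rot_of_distTriang _ hTa
  haveI : S.IsKProjective := hSB.isKProjective
  let μ : (toD (mappingCone a))⟦(-1 : ℤ)⟧ ⟶ toD E :=
    (Q.mapTriangle.obj (mappingCone.triangle a)).invRotate.mor₁
  have hμ : μ ≫ Q.map a = 0 := comp_distTriang_mor_zero₁₂ _ hT₂
  obtain ⟨φ, hφ⟩ := Groth.Agent.H3.PerfAux.exists_map_of_isKProjective S E (ψ₀ ≫ μ)
  have hTφ := mapTriangle_distinguished φ
  have comm₁ : (Q.mapTriangle.obj (mappingCone.triangle φ)).mor₁ ≫ 𝟙 (toD E) =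
      ψ₀ ≫ (Q.mapTriangle.obj (mappingCone.triangle a)).invRotate.mor₁ :=
    (Category.comp_id _).trans hφ
  obtain ⟨α'', hα'₁, hα'₂⟩ := complete_distinguished_triangle_morphism _ _ hTφ hT₂ ψ₀
    (𝟙 (toD E)) comm₁
  let Φ : Q.mapTriangle.obj (mappingCone.triangle φ) ⟶
      (Q.mapTriangle.obj (mappingCone.triangle a)).invRotate :=
    { hom₁ := ψ₀, hom₂ := 𝟙 (toD E), hom₃ := α'', comm₁ := comm₁, comm₂ := hα'₁, comm₃ := hα'₂ }
  let α' : toD (mappingCone φ) ⟶ toD X := α''
  have hα1 : Q.map (mappingCone.inr φ) ≫ α' = Q.map a := hα'₁.trans (Category.id_comp _)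
  -- 6. witness
  have hm : ∀ i : ℤ, n - 1 < i → Mono ((homologyFunctor (ModuleCat.{u} R) i).map α') :=
    fun i hi => mono_hom₃ hTφ hT₂ Φ i (i + 1) rfl (hψ₀.epi i (by omega))
      (by change Mono ((homologyFunctor (ModuleCat.{u} R) i).map (𝟙 (toD E))); infer_instance)
      (hψ₀.mono_map (i + 1) (by omega))
  have he : ∀ i : ℤ, n - 1 ≤ i → Epi ((homologyFunctor (ModuleCat.{u} R) i).map α') :=
    fun i hi => epi_hom₃ hTφ hT₂ Φ i (i + 1) rfl
      (by change Epi ((homologyFunctor (ModuleCat.{u} R) i).map (𝟙 (toD E))); infer_instance)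
      (hψ₀.epi (i + 1) (by omega))
      (by change Mono ((homologyFunctor (ModuleCat.{u} R) (i + 1)).map (𝟙 (toD E))); infer_instance)
  have hwα' : IsWit (n - 1) α' :=
    ⟨fun i hi => @isIso_of_mono_of_epi _ _ _ _ _ _ (hm i hi) (he i hi.le), he (n - 1) le_rfl⟩
  -- 7. strictify
  have h0 : Q.map (φ ≫ a) = 0 := by
    rw [Functor.map_comp, hφ, Category.assoc, hμ, comp_zero]
  obtain ⟨h⟩ := homotopy_of_Q_map_eq_zero S X (φ ≫ a) h0
  obtain ⟨z, hz⟩ := Cochain.equivHomotopy _ _ h
  have hz' : δ (-1) 0 z = Cochain.ofHom (φ ≫ a) := by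
    rw [hz, Cochain.ofHom_zero, add_zero]
  let a₀ : mappingCone φ ⟶ X := mappingCone.desc φ z a hz'
  have ha₀ : mappingCone.inr φ ≫ a₀ = a := mappingCone.inr_desc φ z a hz'
  have hdiff : Q.map (mappingCone.inr φ) ≫ (α' - Q.map a₀) = 0 := by
    rw [Preadditive.comp_sub, hα1, ← Functor.map_comp, ha₀, sub_self]
  obtain ⟨ξ, hξ⟩ := Triangle.yoneda_exact₃ _ hTφ (α' - Q.map a₀) hdiff
  haveI : (S⟦(1 : ℤ)⟧).IsKProjective := inferInstance
  obtain ⟨c, hc⟩ := Groth.Agent.H3.PerfAux.exists_map_of_isKProjective (S⟦(1 : ℤ)⟧) X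
    ((Q.commShiftIso (1 : ℤ)).hom.app S ≫ ξ)
  let dl : mappingCone φ ⟶ S⟦(1 : ℤ)⟧ := (mappingCone.triangle φ).mor₃
  refine ⟨φ, a₀ + dl ≫ c, ?_, ?_⟩
  · rw [Preadditive.comp_add, ha₀]
    have : mappingCone.inr φ ≫ dl = 0 := mappingCone.inr_triangleδ φ
    rw [← Category.assoc, this, zero_comp, add_zero]
  · have ha' : Q.map (a₀ + dl ≫ c) = α' := by
      rw [Functor.map_add, Functor.map_comp, hc]
      have : Q.map dl ≫ (Q.commShiftIso (1 : ℤ)).hom.app S ≫ ξ =
          α' - Q.map a₀ := by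
        rw [hξ]
        exact (Category.assoc _ _ _).symm
      rw [this]
      abel
    rw [ha']; exact hwα'

/-- the finiteness hypothesis replacing pseudo-coherence. -/
def FinHyp (X : Cx R) : Prop :=
  ∀ (E : Cx R) (a : E ⟶ X) (n : ℤ), IsBFF E → (toD (mappingCone a)).IsLE (n - 1) →
    Module.Finite R ((homologyFunctor (ModuleCat.{u} R) (n - 1)).obj (toD (mappingCone a)))

set_option maxHeartbeats 800000 in
/-- the inductive step in the construction of a bounded above resolution by finite free modules. -/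
theorem exists_step (X : Cx R) (hX : FinHyp X) (n b : ℤ)
    (hnb : n ≤ b + 1) (E : Cx R) (hE : IsBFF E) (hlow : ∀ i : ℤ, i < n → IsZero (E.X i))
    (hup : ∀ i : ℤ, b < i → IsZero (E.X i)) (a : E ⟶ X) (ha : IsWit n (Q.map a)) :
    ∃ (E' : Cx R) (ι : E ⟶ E') (a' : E' ⟶ X), ι ≫ a' = a ∧ IsBFF E' ∧
      (∀ i : ℤ, i < n - 1 → IsZero (E'.X i)) ∧ (∀ i : ℤ, b < i → IsZero (E'.X i)) ∧
      (∀ i : ℤ, n ≤ i → IsIso (ι.f i)) ∧ IsWit (n - 1) (Q.map a') := by
  have hTa := mapTriangle_distinguished a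
  haveI hC : (toD (mappingCone a)).IsLE (n - 1) := (isWit_iff_isLE _ hTa n).1 ha
  have hfin : Module.Finite R ((homologyFunctor (ModuleCat.{u} R) (n - 1)).obj (toD (mappingCone a))) :=
    hX E a n hE hC
  haveI : ((toD (mappingCone a))⟦(-1 : ℤ)⟧).IsLE n :=
    TStructure.t.isLE_shift (toD (mappingCone a)) (n - 1) (-1) n (by omega)
  have hfinY : Module.Finite R ((homologyFunctor (ModuleCat.{u} R) n).obj
      ((toD (mappingCone a))⟦(-1 : ℤ)⟧)) := by
    haveI : Module.Finite R (((homologyFunctor (ModuleCat.{u} R) 0).shift (n - 1)).obj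
      (toD (mappingCone a))) := hfin
    exact Module.Finite.equiv (((homologyFunctor (ModuleCat.{u} R) 0).shiftIso (-1) n (n - 1)
      (by omega)).app (toD (mappingCone a))).symm.toLinearEquiv
  obtain ⟨k, ψ₀, hψ₀⟩ := exists_wit_from_sgl _ n hfinY
  have hSB : IsBFF (sgl (ModuleCat.of R (Fin k → R)) n) := isBFF_sgl _ n
  obtain ⟨φ, a', h1, h2⟩ := exists_step_aux X E _ a n hSB ψ₀ hψ₀
  refine ⟨mappingCone φ, mappingCone.inr φ, a', h1, hSB.cone hE φ, ?_, ?_, ?_, h2⟩
  · intro i hi
    exact Groth.Agent.H3.PerfAux.mappingCone_X_isZero φ i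
      (HomologicalComplex.isZero_single_obj_X _ _ _ _ (by omega)) (hlow i (by omega))
  · intro i hi
    exact Groth.Agent.H3.PerfAux.mappingCone_X_isZero φ i
      (HomologicalComplex.isZero_single_obj_X _ _ _ _ (by omega)) (hup i hi)
  · intro i hi
    refine ⟨(mappingCone.snd φ).v i i (add_zero i), by simp, ?_⟩
    have h1 := mappingCone.id_X φ i (i + 1) rfl
    have h2 : (mappingCone.fst φ).1.v i (i + 1) rfl = 0 :=
      (HomologicalComplex.isZero_single_obj_X _ _ _ _ (by omega)).eq_of_tgt _ _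
    rw [h2, zero_comp, zero_add] at h1
    exact h1

/-- stage data in the construction of a resolution. -/
structure Stage (X : Cx R) (b : ℤ) where
  n : ℤ
  hn : n ≤ b + 1
  E : Cx R
  a : E ⟶ X
  bff : IsBFF E
  low : ∀ i : ℤ, i < n → IsZero (E.X i)
  up : ∀ i : ℤ, b < i → IsZero (E.X i)
  wit : IsWit n (Q.map a)

variable {X : Cx R} {b : ℤ}

noncomputable def Stage.init (hb : ∀ i : ℤ, b < i → IsZero ((homologyFunctor (ModuleCat.{u} R) i).obj (toD X))) :
    Stage X b where
  n := b + 1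
  hn := le_rfl
  E := 0
  a := 0
  bff := isBFF_zero
  low := fun i _ => (HomologicalComplex.eval _ _ i).map_isZero (isZero_zero _)
  up := fun i _ => (HomologicalComplex.eval _ _ i).map_isZero (isZero_zero _)
  wit := by
    refine ⟨fun i hi => ?_, ?_⟩
    · have h1 : IsZero ((homologyFunctor (ModuleCat.{u} R) i).obj (toD (0 : Cx R))) :=
        (homologyFunctor (ModuleCat.{u} R) i).map_isZero (Q.map_isZero (isZero_zero _))
      exact ⟨0, h1.eq_of_src _ _, (hb i (by omega)).eq_of_src _ _⟩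
    · exact ⟨fun _ _ _ => (hb (b + 1) (by omega)).eq_of_src _ _⟩

variable (hX : FinHyp X)

noncomputable def Stage.next (s : Stage X b) : Stage X b where
  n := s.n - 1
  hn := by have := s.hn; omega
  E := (exists_step X hX s.n b s.hn s.E s.bff s.low s.up s.a s.wit).choose
  a := (exists_step X hX s.n b s.hn s.E s.bff s.low s.up s.a s.wit).choose_spec.choose_spec.choose
  bff := (exists_step X hX s.n b s.hn s.E s.bff s.low s.up s.a s.wit).choose_spec.choose_spec.choose_spec.2.1
  low := (exists_step X hX s.n b s.hn s.E s.bff s.low s.up s.a s.wit).choose_spec.choose_spec.choose_spec.2.2.1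
  up := (exists_step X hX s.n b s.hn s.E s.bff s.low s.up s.a s.wit).choose_spec.choose_spec.choose_spec.2.2.2.1
  wit := (exists_step X hX s.n b s.hn s.E s.bff s.low s.up s.a s.wit).choose_spec.choose_spec.choose_spec.2.2.2.2.2

noncomputable def Stage.ι (s : Stage X b) : s.E ⟶ (s.next hX).E :=
  (exists_step X hX s.n b s.hn s.E s.bff s.low s.up s.a s.wit).choose_spec.choose

lemma Stage.ι_a (s : Stage X b) : s.ι hX ≫ (s.next hX).a = s.a :=
  (exists_step X hX s.n b s.hn s.E s.bff s.low s.up s.a s.wit).choose_spec.choose_spec.choose_spec.1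

lemma Stage.isIso_ι (s : Stage X b) (i : ℤ) (hi : s.n ≤ i) : IsIso ((s.ι hX).f i) :=
  (exists_step X hX s.n b s.hn s.E s.bff s.low s.up s.a s.wit).choose_spec.choose_spec.choose_spec.2.2.2.2.1 i hi

variable (hb : ∀ i : ℤ, b < i → IsZero ((homologyFunctor (ModuleCat.{u} R) i).obj (toD X)))

noncomputable def st : ℕ → Stage X b
  | 0 => Stage.init hb
  | k + 1 => (st k).next hX

lemma st_n (k : ℕ) : (st hX hb k).n = b + 1 - k := by
  induction k with
  | zero => simp [st, Stage.init]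
  | succ k ih =>
    change (st hX hb k).n - 1 = _
    rw [ih]; push_cast; ring

/-- the sequence of complexes -/
noncomputable def seqF : ℕ ⥤ Cx R :=
  Functor.ofSequence (X := fun k => (st hX hb k).E) (fun k => (st hX hb k).ι hX)

lemma seqF_map_succ (k : ℕ) :
    (seqF hX hb).map (homOfLE (Nat.le_add_right k 1)) = (st hX hb k).ι hX :=
  Functor.ofSequence_map_homOfLE_succ (X := fun k => (st hX hb k).E)
    (fun k => (st hX hb k).ι hX) k

lemma isIso_seqF_map (i : ℤ) (k₀ : ℕ) (hk₀ : b + 1 - k₀ ≤ i) (j : ℕ) (f : k₀ ⟶ j) :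
    IsIso (((seqF hX hb).map f).f i) := by
  obtain ⟨d, rfl⟩ := Nat.exists_eq_add_of_le (leOfHom f)
  obtain rfl := Subsingleton.elim f (homOfLE (by omega))
  induction d with
  | zero =>
    have : (homOfLE (by omega) : k₀ ⟶ k₀ + 0) = 𝟙 k₀ := Subsingleton.elim _ _
    rw [this, CategoryTheory.Functor.map_id]
    change IsIso (𝟙 _)
    infer_instance
  | succ d ih =>
    have h1 : (homOfLE (by omega) : k₀ ⟶ k₀ + (d + 1)) =
      (homOfLE (by omega) : k₀ ⟶ k₀ + d) ≫ (homOfLE (Nat.le_add_right (k₀ + d) 1)) :=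
      Subsingleton.elim _ _
    rw [h1, Functor.map_comp, HomologicalComplex.comp_f]
    haveI := ih
    haveI : IsIso (((seqF hX hb).map (homOfLE (Nat.le_add_right (k₀ + d) 1))).f i) := by
      rw [seqF_map_succ]
      refine Stage.isIso_ι hX _ i ?_
      rw [st_n]; push_cast; omega
    infer_instance


noncomputable def Einf : Cx R := colimit (seqF hX hb)

noncomputable def cinf (k : ℕ) : (st hX hb k).E ⟶ Einf hX hb := colimit.ι (seqF hX hb) k

noncomputable def coconeX : Cocone (seqF hX hb) where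
  pt := X
  ι := NatTrans.ofSequence (F := seqF hX hb) (G := (Functor.const ℕ).obj X)
    (fun k => (st hX hb k).a) (fun k => by
      rw [seqF_map_succ]
      exact (Stage.ι_a hX (st hX hb k)).trans (Category.comp_id _).symm)

noncomputable def ainf : Einf hX hb ⟶ X := colimit.desc (seqF hX hb) (coconeX hX hb)

lemma cinf_ainf (k : ℕ) : cinf hX hb k ≫ ainf hX hb = (st hX hb k).a :=
  colimit.ι_desc (coconeX hX hb) k

lemma isIso_cinf_f (i : ℤ) (k : ℕ) (hk : b + 1 - k ≤ i) : IsIso ((cinf hX hb k).f i) := by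
  have h : (seqF hX hb ⋙ HomologicalComplex.eval _ _ i).IsEventuallyConstantFrom k :=
    fun j f => isIso_seqF_map hX hb i k hk j f
  exact h.isIso_ι_of_isColimit
    (isColimitOfPreserves (HomologicalComplex.eval _ _ i) (colimit.isColimit (seqF hX hb)))

lemma Einf_isZero (i : ℤ) (hi : b < i) : IsZero ((Einf hX hb).X i) := by
  haveI := isIso_cinf_f hX hb i 0 (by push_cast; omega)
  exact ((st hX hb 0).up i hi).of_iso (asIso ((cinf hX hb 0).f i)).symm

lemma Einf_finiteFree (i : ℤ) :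
    Module.Finite R ((Einf hX hb).X i) ∧ Module.Free R ((Einf hX hb).X i) := by
  set k := (b + 1 - i).toNat with hk
  haveI := isIso_cinf_f hX hb i k (by have := Int.self_le_toNat (b + 1 - i); omega)
  have e := (asIso ((cinf hX hb k).f i)).toLinearEquiv
  obtain ⟨a', b', h1, h2⟩ := (st hX hb k).bff
  haveI := (h2 i).1
  haveI := (h2 i).2
  exact ⟨Module.Finite.equiv e, Module.Free.of_equiv e⟩

lemma isIso_homologyMap_of_isIso_f {K L : Cx R} (f : K ⟶ L) (i : ℤ)
    (h₀ : IsIso (f.f (i - 1))) (h₁ : IsIso (f.f i)) (h₂ : IsIso (f.f (i + 1))) :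
    IsIso (HomologicalComplex.homologyMap f i) := by
  rw [← quasiIsoAt_iff_isIso_homologyMap,
    quasiIsoAt_iff' _ (i - 1) i (i + 1) (by simp) (by simp)]
  let φ := (HomologicalComplex.shortComplexFunctor' (ModuleCat.{u} R) (ComplexShape.up ℤ)
    (i - 1) i (i + 1)).map f
  haveI : IsIso φ.τ₁ := h₀
  haveI : IsIso φ.τ₂ := h₁
  haveI : IsIso φ.τ₃ := h₂
  exact ShortComplex.quasiIso_of_epi_of_isIso_of_mono φ

lemma isIso_homologyMap_iff {K L : Cx R} (f : K ⟶ L) (i : ℤ) :
    IsIso (HomologicalComplex.homologyMap f i) ↔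
      IsIso ((homologyFunctor (ModuleCat.{u} R) i).map (Q.map f)) :=
  (NatIso.isIso_map_iff (homologyFunctorFactors (ModuleCat.{u} R) i) f).symm

lemma quasiIso_ainf : QuasiIso (ainf hX hb) := by
  rw [quasiIso_iff]
  intro i
  rw [quasiIsoAt_iff_isIso_homologyMap]
  set k := (b + 2 - i).toNat with hk
  have hk' : b + 2 - i ≤ k := Int.self_le_toNat _
  have h1 : IsIso (HomologicalComplex.homologyMap (cinf hX hb k) i) :=
    isIso_homologyMap_of_isIso_f _ i (isIso_cinf_f hX hb _ k (by omega))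
      (isIso_cinf_f hX hb _ k (by omega)) (isIso_cinf_f hX hb _ k (by omega))
  have h2 : IsIso (HomologicalComplex.homologyMap (st hX hb k).a i) := by
    rw [isIso_homologyMap_iff]
    refine (st hX hb k).wit.1 i ?_
    rw [st_n]; omega
  have h3 : HomologicalComplex.homologyMap (cinf hX hb k) i ≫
      HomologicalComplex.homologyMap (ainf hX hb) i =
      HomologicalComplex.homologyMap (st hX hb k).a i := by
    rw [← HomologicalComplex.homologyMap_comp, cinf_ainf]
  exact IsIso.of_isIso_fac_left h3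

lemma isZero_homology_toD_of_isZero (E : Cx R) (i : ℤ) (h : IsZero (E.X i)) :
    IsZero ((homologyFunctor (ModuleCat.{u} R) i).obj (toD E)) :=
  ((HomologicalComplex.exactAt_iff_isZero_homology _ _).1
    (ShortComplex.exact_of_isZero_X₂ _ h)).of_iso (homologyToDIso E i)

/-- the resolution. -/
theorem exists_resolution (X : Cx R) (hX : FinHyp X) (b : ℤ)
    (hb : ∀ i : ℤ, b < i → IsZero ((homologyFunctor (ModuleCat.{u} R) i).obj (toD X))) :
    ∃ F : Cx R, (∀ i : ℤ, b < i → IsZero (F.X i)) ∧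
      (∀ i : ℤ, Module.Finite R (F.X i) ∧ Module.Free R (F.X i)) ∧ Nonempty (toD F ≅ toD X) := by
  haveI := quasiIso_ainf hX hb
  exact ⟨Einf hX hb, Einf_isZero hX hb, Einf_finiteFree hX hb, ⟨asIso (Q.map (ainf hX hb))⟩⟩

end Groth.Agent.H4.NCPC2
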