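import Mathlib
import Groth.Agent.H4.NCPC2
import Groth.Agent.H4.PC7

/-!
# Pseudo-coherence over a finite free (not necessarily commutative) algebra
-/

set_option autoImplicit false
universe u
open CategoryTheory CategoryTheory.Limits CategoryTheory.Pretriangulated

namespace Groth.Agent.H4.NCPC3

open Groth.Agent.H4.NCPC Groth.Agent.H4.NCPC2

attribute [local instance] HasDerivedCategory.standard

open DerivedCategory ZeroObject
open CochainComplex (mappingCone)

section Mod

variable {A : Type u} [CommRing A] {R : Type u} [Ring R] [Algebra A R]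

lemma finite_free_res [Module.Finite A R] [Module.Free A R] (N : ModuleCat.{u} R)
    [Module.Finite R N] [Module.Free R N] :
    Module.Finite A ((ModuleCat.restrictScalars.{u} (algebraMap A R)).obj N) ∧
      Module.Free A ((ModuleCat.restrictScalars.{u} (algebraMap A R)).obj N) := by
  letI : Module A N := Module.compHom N (algebraMap A R)
  haveI : IsScalarTower A R N := ⟨fun a r n => by
    change (a • r) • n = (algebraMap A R a) • (r • n)
    rw [Algebra.smul_def, mul_smul]⟩
  have h1 : Module.Finite A N := Module.Finite.trans R N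
  have h2 : Module.Free A N :=
    Module.Free.of_basis ((Module.Free.chooseBasis A R).smulTower (Module.Free.chooseBasis R N))
  exact ⟨h1, h2⟩

lemma finite_of_res (N : ModuleCat.{u} R)
    (h : Module.Finite A ((ModuleCat.restrictScalars.{u} (algebraMap A R)).obj N)) :
    Module.Finite R N := by
  letI : Module A N := Module.compHom N (algebraMap A R)
  haveI : IsScalarTower A R N := ⟨fun a r n => by
    change (a • r) • n = (algebraMap A R a) • (r • n)
    rw [Algebra.smul_def, mul_smul]⟩
  haveI h1 : Module.Finite A N := h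
  exact Module.Finite.of_restrictScalars_finite A R N

lemma isZero_of_res (N : ModuleCat.{u} R)
    (h : IsZero ((ModuleCat.restrictScalars.{u} (algebraMap A R)).obj N)) : IsZero N := by
  have h0 : Subsingleton ((ModuleCat.restrictScalars.{u} (algebraMap A R)).obj N) :=
    ModuleCat.subsingleton_of_isZero h
  haveI : Subsingleton N := h0
  exact ModuleCat.isZero_of_subsingleton N

end Mod

variable (A : Type u) [CommRing A] (R : Type u) [Ring R] [Algebra A R]
  [PreservesFiniteLimits (ModuleCat.restrictScalars.{u} (algebraMap A R))]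
  [PreservesFiniteColimits (ModuleCat.restrictScalars.{u} (algebraMap A R))]

/-- restriction of scalars -/
noncomputable abbrev Φ : ModuleCat.{u} R ⥤ ModuleCat.{u} A := ModuleCat.restrictScalars.{u} (algebraMap A R)

/-- restriction of scalars on derived categories -/
noncomputable abbrev Res : DR R ⥤ DR A := (Φ A R).mapDerivedCategory

/-- cohomology commutes with restriction of scalars. -/
noncomputable def resHomologyIso (C : Cx R) (c : ℤ) :
    (homologyFunctor (ModuleCat.{u} A) c).obj ((Res A R).obj (toD C)) ≅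
      (Φ A R).obj ((homologyFunctor (ModuleCat.{u} R) c).obj (toD C)) :=
  (homologyFunctor (ModuleCat.{u} A) c).mapIso ((Φ A R).mapDerivedCategoryFactors.app C) ≪≫
    (homologyFunctorFactors (ModuleCat.{u} A) c).app _ ≪≫ (C.sc c).mapHomologyIso (Φ A R) ≪≫
    (Φ A R).mapIso ((homologyFunctorFactors (ModuleCat.{u} R) c).app C).symm

variable [Module.Finite A R] [Module.Free A R]

lemma isBFF_res (E : Cx R) (hE : IsBFF E) :
    Groth.Agent.H4.PC.IsBFF (((Φ A R).mapHomologicalComplex (ComplexShape.up ℤ)).obj E) := by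
  obtain ⟨a, b, h1, h2⟩ := hE
  refine ⟨a, b, fun i hi => ?_, fun i => ?_⟩
  · exact (Φ A R).map_isZero (h1 i hi)
  · haveI := (h2 i).1
    haveI := (h2 i).2
    exact finite_free_res (E.X i)

set_option maxHeartbeats 800000 in
theorem finHyp (X : Cx R) (hX : DRing.IsPseudoCoherent' A ((Res A R).obj (toD X))) :
    FinHyp X := by
  intro E a n hE hC
  have hTa := mapTriangle_distinguished a
  have hT := (Res A R).map_distinguished _ hTa
  have h1 : DRing.IsPseudoCoherent A (n - 1 + 1) ((Res A R).obj (toD E)) :=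
    Groth.Agent.H4.PC.isPC_of_iso ((Φ A R).mapDerivedCategoryFactors.app E).symm
      (Groth.Agent.H4.PC.isPC_toD _ _ (isBFF_res A R E hE))
  have h2 : DRing.IsPseudoCoherent A (n - 1) ((Res A R).obj (toD X)) :=
    Groth.Agent.H4.PC.isPC_of_isPC' _ hX (n - 1)
  have h3 : DRing.IsPseudoCoherent A (n - 1) ((Res A R).obj (toD (mappingCone a))) :=
    Groth.Agent.H4.PC.isPC_obj₃ _ hT (n - 1) h1 h2
  have hz : ∀ i : ℤ, n - 1 < i → IsZero ((homologyFunctor (ModuleCat.{u} A) i).obj
      ((Res A R).obj (toD (mappingCone a)))) := fun i hi =>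
    ((Φ A R).map_isZero (isZero_of_isLE _ (n - 1) i hi)).of_iso (resHomologyIso A R _ i)
  have h4 := Groth.Agent.H4.PC.finite_homology _ (n - 1) h3 hz
  have h5 : Module.Finite A ((Φ A R).obj ((homologyFunctor (ModuleCat.{u} R) (n - 1)).obj
      (toD (mappingCone a)))) :=
    Module.Finite.equiv (resHomologyIso A R (mappingCone a) (n - 1)).toLinearEquiv
  exact finite_of_res _ h5

theorem main (M : DR R) (hM : DRing.IsPseudoCoherent' A ((Res A R).obj M)) :
    ∃ (F : CochainComplex (ModuleCat.{u} R) ℤ) (b : ℤ), (∀ i : ℤ, b < i → IsZero (F.X i)) ∧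
      (∀ i : ℤ, Module.Finite R (F.X i) ∧ Module.Free R (F.X i)) ∧
      Nonempty (DerivedCategory.Q.obj F ≅ M) := by
  let X := Q.objPreimage M
  let e : toD X ≅ M := Q.objObjPreimageIso M
  have hX : DRing.IsPseudoCoherent' A ((Res A R).obj (toD X)) := by
    obtain ⟨E, b, h1, h2, ⟨i⟩⟩ := hM
    exact ⟨E, b, h1, h2, ⟨i ≪≫ (Res A R).mapIso e.symm⟩⟩
  obtain ⟨E, b, h1, h2, ⟨i⟩⟩ := id hX
  have hb : ∀ j : ℤ, b < j → IsZero ((homologyFunctor (ModuleCat.{u} R) j).obj (toD X)) := by
    intro j hj
    have h3 : IsZero ((homologyFunctor (ModuleCat.{u} A) j).obj ((Res A R).obj (toD X))) :=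
      (isZero_homology_toD_of_isZero E j (h1 j hj)).of_iso
        ((homologyFunctor (ModuleCat.{u} A) j).mapIso i.symm)
    exact isZero_of_res _ (h3.of_iso (resHomologyIso A R X j).symm)
  obtain ⟨F, hF1, hF2, ⟨eF⟩⟩ := exists_resolution X (finHyp A R X hX) b hb
  exact ⟨F, b, hF1, hF2, ⟨eF ≪≫ e⟩⟩

end Groth.Agent.H4.NCPC3
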