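import Mathlib
import Groth.Prelude.Def_SheafNL
import Groth.Agent.Lib.Helper1.NLFlat

/-!
# Base change of the naive cotangent complex of a flat algebra
-/

set_option autoImplicit false
universe u
open CategoryTheory CategoryTheory.Limits TensorProduct

namespace Groth.Agent.H4.NLF1

open Groth.Agent.H8.NLBC Groth.Agent.H1.NLFlat

section Cot

variable (R : Type*) {S : Type*} [CommRing R] [CommRing S] [Algebra R S]
variable (T : Type*) [CommRing T] [Algebra R T] (I : Ideal S)

set_option backward.isDefEq.respectTransparency.types false in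
set_option backward.defeqAttrib.useBackward true in
/-- If `S ⧸ I` is a flat `R`-module, the canonical map `tensorCotangentHom R T I` is injective. -/
lemma tensorCotangentHom_injective_of_flat_quot [Module.Flat R (S ⧸ I)] :
    Function.Injective (I.tensorCotangentHom R T) := by
  let a : S →+* T ⊗[R] S := Algebra.TensorProduct.includeRight.toRingHom
  let f : (I.map a).Cotangent →ₗ[T] T ⊗[R] S ⧸ (I.map a) ^ 2 :=
    (Ideal.cotangentToQuotientSquare _).restrictScalars T
  suffices h : Function.Injective (f ∘ₗ Ideal.tensorCotangentHom R T I) from .of_comp h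
  let g : T ⊗[R] I.Cotangent →ₗ[T] T ⊗[R] (S ⧸ I ^ 2) :=
    AlgebraTensorModule.lTensor T T I.cotangentToQuotientSquare
  let hₐ : T ⊗[R] (S ⧸ I ^ 2) ≃ₐ[T] T ⊗[R] S ⧸ (I.map a) ^ 2 :=
    (Algebra.TensorProduct.tensorQuotientEquiv _ _ _ _).trans
      (Ideal.quotientEquivAlgOfEq T (Ideal.map_pow _ _ _))
  have : f ∘ₗ Ideal.tensorCotangentHom R T I = hₐ.toLinearMap ∘ₗ g := by
    ext x
    obtain ⟨x, rfl⟩ := I.toCotangent_surjective x
    dsimp [f, g, hₐ]
    rw [Ideal.tensorCotangentHom_tmul, one_smul, Ideal.toCotangent_to_quotient_square]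
    simp
  rw [this, LinearMap.coe_comp]
  apply hₐ.injective.comp
  -- the quotient map `S ⧸ I ^ 2 → S ⧸ I`
  have hle : I ^ 2 ≤ I := Ideal.pow_le_self two_ne_zero
  let q : (S ⧸ I ^ 2) →ₗ[R] (S ⧸ I) := (Ideal.Quotient.factorₐ R hle).toLinearMap
  have hq : Function.Surjective q := Ideal.Quotient.factor_surjective hle
  have hex : Function.Exact (I.cotangentToQuotientSquare.restrictScalars R) q := by
    intro y
    constructor
    · intro hy
      obtain ⟨y, rfl⟩ := Ideal.Quotient.mk_surjective y
      have hyI : y ∈ I := by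
        have : Ideal.Quotient.mk I y = 0 := hy
        exact Ideal.Quotient.eq_zero_iff_mem.1 this
      exact ⟨I.toCotangent ⟨y, hyI⟩, Ideal.toCotangent_to_quotient_square I ⟨y, hyI⟩⟩
    · rintro ⟨x, rfl⟩
      obtain ⟨x, rfl⟩ := I.toCotangent_surjective x
      change q (I.cotangentToQuotientSquare (I.toCotangent x)) = 0
      rw [Ideal.toCotangent_to_quotient_square]
      exact Ideal.Quotient.eq_zero_iff_mem.2 x.2
  exact LinearMap.lTensor_injective_of_exact_of_flat q hq
    (I.cotangentToQuotientSquare.restrictScalars R) (Ideal.cotangentToQuotientSquare_injective I)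
    hex T

/-- the equivalence `T ⊗ I/I² ≃ (I·(T ⊗ S))/(I·(T ⊗ S))²` when `S ⧸ I` is flat. -/
noncomputable def tcEquiv [Module.Flat R (S ⧸ I)] :
    T ⊗[R] I.Cotangent ≃ₗ[T]
      (I.map (Algebra.TensorProduct.includeRight.toRingHom : _ →+* T ⊗[R] S)).Cotangent :=
  LinearEquiv.ofBijective (I.tensorCotangentHom R T)
    ⟨tensorCotangentHom_injective_of_flat_quot R T I, I.tensorCotangentHom_surjective R T⟩

lemma tcEquiv_tmul [Module.Flat R (S ⧸ I)] (t : T) (x : I) :
    tcEquiv R T I (t ⊗ₜ I.toCotangent x) =
      t • (I.map (Algebra.TensorProduct.includeRight.toRingHom : S →+* T ⊗[R] S)).toCotangent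
        ⟨1 ⊗ₜ x, Ideal.mem_map_of_mem _ x.2⟩ :=
  rfl

end Cot

section FlatS

variable {R S R' S' : Type u} [CommRing R] [CommRing S] [CommRing R'] [CommRing S']
  [Algebra R S] [Algebra R' S'] [Algebra R R'] [Algebra S S'] [Algebra R S']
  [IsScalarTower R R' S'] [IsScalarTower R S S'] [Algebra.IsPushout R R' S S'] [Module.Flat R S]
  {P : Algebra.Extension.{u} R S} {P' : Algebra.Extension.{u} R' S'}

/-- the extended ideal in `R' ⊗ P`. -/
noncomputable abbrev I1' (P : Algebra.Extension.{u} R S) (R' : Type u) [CommRing R'] [Algebra R R'] :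
    Ideal (R' ⊗[R] P.Ring) :=
  P.ker.map (Algebra.TensorProduct.includeRight.toRingHom : P.Ring →+* R' ⊗[R] P.Ring)

theorem toCotangent_congr' (x y : P'.Ring) (hx : x ∈ P'.ker) (hy : y ∈ P'.ker) (hxy : x = y) :
    P'.ker.toCotangent ⟨x, hx⟩ = P'.ker.toCotangent ⟨y, hy⟩ := by
  subst hxy
  rfl

set_option backward.isDefEq.respectTransparency.types false in
/-- flat base change: the degree `-1` component is injective. -/
theorem TT_injective_of_flat' (f : P.Hom P') (ψ : R' ⊗[R] P.Ring ≃ₐ[R'] P'.Ring)
    (hψ : ∀ a : P.Ring, ψ (1 ⊗ₜ a) = f.toRingHom a)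
    (hker : P'.ker ≤ Ideal.map f.toRingHom P.ker) :
    Function.Injective (TT (S' := S') f) := by
  haveI : Module.Flat R (P.Ring ⧸ P.ker) := by
    have hk : P.ker = RingHom.ker (IsScalarTower.toAlgHom R P.Ring S) := rfl
    have hsurj : Function.Surjective (IsScalarTower.toAlgHom R P.Ring S) := P.algebraMap_surjective
    exact Module.Flat.of_linearEquiv
      ((Ideal.quotientEquivAlgOfEq R hk).trans
        (Ideal.quotientKerAlgEquivOfSurjective hsurj)).toLinearEquiv
  have hfker : ∀ a ∈ P.ker, f.toRingHom a ∈ P'.ker := by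
    intro a ha
    rw [Algebra.Extension.ker, RingHom.mem_ker] at ha ⊢
    rw [f.algebraMap_toRingHom, ha, map_zero]
  have h12 : I1' P R' ≤ P'.ker.comap ψ.toAlgHom := by
    rw [Ideal.map_le_iff_le_comap]
    intro a ha
    change ψ (1 ⊗ₜ a) ∈ P'.ker
    rw [hψ]
    exact hfker a ha
  have h21 : P'.ker ≤ (I1' P R').comap ψ.symm.toAlgHom := by
    refine hker.trans ?_
    rw [Ideal.map_le_iff_le_comap]
    intro a ha
    change ψ.symm (f.toRingHom a) ∈ I1' P R'
    rw [← hψ, AlgEquiv.symm_apply_apply]
    exact Ideal.mem_map_of_mem _ ha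
  let m₂ := Ideal.mapCotangent (R := R') (I1' P R') P'.ker ψ.toAlgHom h12
  let m₂' := Ideal.mapCotangent (R := R') P'.ker (I1' P R') ψ.symm.toAlgHom h21
  have hm₂ : ∀ y, m₂' (m₂ y) = y := by
    intro y
    obtain ⟨y, rfl⟩ := Ideal.toCotangent_surjective _ y
    show Ideal.mapCotangent (R := R') P'.ker (I1' P R') ψ.symm.toAlgHom h21
      (Ideal.mapCotangent (R := R') (I1' P R') P'.ker ψ.toAlgHom h12 ((I1' P R').toCotangent y)) = _
    rw [Ideal.mapCotangent_toCotangent, Ideal.mapCotangent_toCotangent]
    congr 1
    exact Subtype.ext (ψ.symm_apply_apply y.1)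
  let m₁ : R' ⊗[R] P.Cotangent ≃ₗ[R'] (I1' P R').Cotangent :=
    TensorProduct.AlgebraTensorModule.congr (LinearEquiv.refl R' R')
      (P.cotangentEquivCotangentKer.restrictScalars R) ≪≫ₗ tcEquiv R R' P.ker
  let κ := Algebra.IsPushout.cancelBaseChange R R' S S' P.Cotangent
  have key : ∀ w : R' ⊗[R] P.Cotangent,
      (TT (S' := S') f (κ.symm w)).val = m₂ (m₁ w) := by
    intro w
    induction w using TensorProduct.induction_on with
    | zero => simp only [map_zero, Algebra.Extension.Cotangent.val_zero]
    | add x y hx hy => simp only [map_add, Algebra.Extension.Cotangent.val_add, hx, hy]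
    | tmul t x =>
      obtain ⟨a, rfl⟩ := Algebra.Extension.Cotangent.mk_surjective x
      have e1 : κ.symm (t ⊗ₜ Algebra.Extension.Cotangent.mk a) =
          algebraMap R' S' t ⊗ₜ Algebra.Extension.Cotangent.mk a :=
        Algebra.IsPushout.cancelBaseChange_symm_tmul R R' S S' P.Cotangent t _
      have e2 : m₁ (t ⊗ₜ Algebra.Extension.Cotangent.mk a) =
          t • (I1' P R').toCotangent ⟨1 ⊗ₜ a.1, Ideal.mem_map_of_mem _ a.2⟩ := by
        simp only [m₁, LinearEquiv.trans_apply, TensorProduct.AlgebraTensorModule.congr_tmul,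
          LinearEquiv.refl_apply, LinearEquiv.restrictScalars_apply,
          Algebra.Extension.cotangentEquivCotangentKer_apply, Algebra.Extension.Cotangent.val_mk,
          tcEquiv_tmul]
      rw [e1, e2, LinearMap.liftBaseChange_tmul, Algebra.Extension.Cotangent.map_mk,
        algebraMap_smul, Algebra.Extension.Cotangent.val_smul'',
        Algebra.Extension.Cotangent.val_mk, map_smul]
      show t • _ = t • Ideal.mapCotangent (R := R') (I1' P R') P'.ker ψ.toAlgHom h12
        ((I1' P R').toCotangent ⟨1 ⊗ₜ a.1, Ideal.mem_map_of_mem _ a.2⟩)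
      rw [Ideal.mapCotangent_toCotangent]
      refine congrArg (fun z => t • z) ?_
      exact toCotangent_congr' _ _ _ _ (hψ a.1).symm
  rw [injective_iff_map_eq_zero]
  intro z hz
  have h1 := key (κ z)
  rw [LinearEquiv.symm_apply_apply, hz, Algebra.Extension.Cotangent.val_zero] at h1
  have h2 : m₁ (κ z) = 0 := by
    have h3 := congrArg m₂' h1.symm
    rw [hm₂, map_zero] at h3
    exact h3
  have h4 : κ z = 0 := m₁.injective (h2.trans (map_zero m₁).symm)
  exact κ.injective (h4.trans (map_zero κ).symm)

end FlatS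

section GenS

variable {R S R' S' : Type u} [CommRing R] [CommRing S] [CommRing R'] [CommRing S']
  [Algebra R S] [Algebra R' S'] [Algebra R R'] [Algebra S S'] [Algebra R S']
  [IsScalarTower R R' S'] [IsScalarTower R S S'] [Algebra.IsPushout R R' S S'] [Module.Flat R S]
  {ι : Type u} (G : Algebra.Generators R S ι) (G' : Algebra.Generators R' S' ι)
  (h : ∀ i, G'.val i = algebraMap S S' (G.val i))

theorem sv_apply' (p : MvPolynomial ι R) :
    (NLCx.sameVarsHom G G' h).toAlgHom p = MvPolynomial.map (algebraMap R R') p := by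
  induction p using MvPolynomial.induction_on with
  | C a => rw [Algebra.Generators.Hom.toAlgHom_C, MvPolynomial.map_C]
  | add p q hp hq => rw [map_add, map_add, hp, hq]
  | mul_X p i hp =>
    rw [map_mul, map_mul, hp, Algebra.Generators.Hom.toAlgHom_X, MvPolynomial.map_X]
    rfl

set_option backward.isDefEq.respectTransparency false in
theorem TT_injective_sv' :
    Function.Injective (TT (S' := S') (NLCx.sameVarsHom G G' h).toExtensionHom) :=
  TT_injective_of_flat' (NLCx.sameVarsHom G G' h).toExtensionHom
    (MvPolynomial.algebraTensorAlgEquiv R R')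
    (fun a => (MvPolynomial.algebraTensorAlgEquiv_tmul R R' (1 : R') a).trans
      ((one_smul R' _).trans (sv_apply' G G' h a).symm))
    (ker_le_map G G' h)

theorem WW_bijective_sv' :
    Function.Bijective (WW (S' := S') (NLCx.sameVarsHom G G' h).toExtensionHom) := by
  have hW : WW (S' := S') (NLCx.sameVarsHom G G' h).toExtensionHom =
      ((G.cotangentSpaceBasis.baseChange S').equiv G'.cotangentSpaceBasis
        (Equiv.refl ι)).toLinearMap := by
    refine (G.cotangentSpaceBasis.baseChange S').ext fun i => ?_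
    rw [LinearEquiv.coe_coe, Module.Basis.equiv_apply, Equiv.refl_apply,
      Module.Basis.baseChange_apply, LinearMap.liftBaseChange_tmul, one_smul,
      Algebra.Generators.cotangentSpaceBasis_apply, Algebra.Generators.cotangentSpaceBasis_apply]
    have key := Algebra.Extension.CotangentSpace.map_tmul
      (NLCx.sameVarsHom G G' h).toExtensionHom (1 : S) (MvPolynomial.X i)
    rw [map_one] at key
    have hX : (NLCx.sameVarsHom G G' h).toExtensionHom.toAlgHom (MvPolynomial.X i) =
        MvPolynomial.X i :=
      Algebra.Generators.Hom.toAlgHom_X (NLCx.sameVarsHom G G' h) i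
    rw [hX] at key
    exact key
  rw [hW]
  exact ((G.cotangentSpaceBasis.baseChange S').equiv G'.cotangentSpaceBasis
    (Equiv.refl ι)).bijective

theorem isIso_sv' :
    IsIso (NLCx.bcMap (S' := S') (NLCx.sameVarsHom G G' h).toExtensionHom) :=
  isIso_bcMap _ ⟨TT_injective_sv' G G' h, TT_surjective _ (ker_le_map G G' h)⟩
    (WW_bijective_sv' G G' h)

end GenS

section SelfS

variable {R S R' S' : Type u} [CommRing R] [CommRing S] [CommRing R'] [CommRing S']
  [Algebra R S] [Algebra R' S'] [Algebra R R'] [Algebra S S'] [Algebra R S']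
  [IsScalarTower R R' S'] [IsScalarTower R S S'] [Algebra.IsPushout R R' S S'] [Module.Flat R S]

theorem d_eq' (G'' : Algebra.Generators R' S' S)
    (hG'' : ∀ i, G''.val i = algebraMap S S' ((Algebra.Generators.self R S).val i)) :
    ((Algebra.Generators.self R S).defaultHom (Algebra.Generators.self R' S')).toExtensionHom =
      (G''.defaultHom (Algebra.Generators.self R' S')).toExtensionHom.comp
        (NLCx.sameVarsHom (Algebra.Generators.self R S) G'' hG'').toExtensionHom := by
  apply Algebra.Extension.Hom.ext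
  refine MvPolynomial.ringHom_ext (fun r => ?_) (fun s => ?_)
  · change ((Algebra.Generators.self R S).defaultHom
        (Algebra.Generators.self R' S')).toAlgHom (MvPolynomial.C r) =
      (G''.defaultHom (Algebra.Generators.self R' S')).toAlgHom
        ((NLCx.sameVarsHom (Algebra.Generators.self R S) G'' hG'').toAlgHom (MvPolynomial.C r))
    rw [Algebra.Generators.Hom.toAlgHom_C, Algebra.Generators.Hom.toAlgHom_C,
      Algebra.Generators.Hom.toAlgHom_C]
    rfl
  · change ((Algebra.Generators.self R S).defaultHom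
        (Algebra.Generators.self R' S')).toAlgHom (MvPolynomial.X s) =
      (G''.defaultHom (Algebra.Generators.self R' S')).toAlgHom
        ((NLCx.sameVarsHom (Algebra.Generators.self R S) G'' hG'').toAlgHom (MvPolynomial.X s))
    have e1 : (NLCx.sameVarsHom (Algebra.Generators.self R S) G'' hG'').toAlgHom
        (MvPolynomial.X s) = MvPolynomial.X s :=
      Algebra.Generators.Hom.toAlgHom_X _ s
    rw [e1, Algebra.Generators.Hom.toAlgHom_X, Algebra.Generators.Hom.toAlgHom_X]
    show (Algebra.Generators.self R' S').σ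
        (algebraMap S S' ((Algebra.Generators.self R S).val s)) =
      (Algebra.Generators.self R' S').σ (algebraMap S' S' (G''.val s))
    rw [hG'' s]
    rfl

theorem part2' (G'' : Algebra.Generators R' S' S)
    (hG'' : ∀ i, G''.val i = algebraMap S S' ((Algebra.Generators.self R S).val i)) :
    ∃ e : HomotopyEquiv (NLCx.bcCx (Algebra.Generators.self R S).toExtension S')
        (NLCx.cx (Algebra.Generators.self R' S').toExtension),
      e.hom = NLCx.bcMapSelf R S R' S' := by
  haveI ia : IsIso (NLCx.bcMap (S' := S')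
      (NLCx.sameVarsHom (Algebra.Generators.self R S) G'' hG'').toExtensionHom) :=
    isIso_sv' (Algebra.Generators.self R S) G'' hG''
  have hd : NLCx.bcMap (S' := S')
      ((Algebra.Generators.self R S).defaultHom (Algebra.Generators.self R' S')).toExtensionHom =
      NLCx.bcMap (S' := S')
        (NLCx.sameVarsHom (Algebra.Generators.self R S) G'' hG'').toExtensionHom ≫
      NLCx.map (G''.defaultHom (Algebra.Generators.self R' S')).toExtensionHom := by
    rw [d_eq' G'' hG'']
    exact bcMap_comp _ _
  have hUV : Homotopy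
      (NLCx.map (G''.defaultHom (Algebra.Generators.self R' S')).toExtensionHom ≫
        NLCx.map ((Algebra.Generators.self R' S').defaultHom G'').toExtensionHom) (𝟙 _) :=
    (Homotopy.ofEq (Groth.Agent.H1.NLFlat.map_comp _ _).symm).trans
      ((mapHomotopy _ (Algebra.Extension.Hom.id _)).trans (Homotopy.ofEq Groth.Agent.H1.NLFlat.map_id))
  have hVU : Homotopy
      (NLCx.map ((Algebra.Generators.self R' S').defaultHom G'').toExtensionHom ≫
        NLCx.map (G''.defaultHom (Algebra.Generators.self R' S')).toExtensionHom) (𝟙 _) :=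
    (Homotopy.ofEq (Groth.Agent.H1.NLFlat.map_comp _ _).symm).trans
      ((mapHomotopy _ (Algebra.Extension.Hom.id _)).trans (Homotopy.ofEq Groth.Agent.H1.NLFlat.map_id))
  refine ⟨{ hom := NLCx.bcMap (S' := S') ((Algebra.Generators.self R S).defaultHom
              (Algebra.Generators.self R' S')).toExtensionHom
            inv := NLCx.map ((Algebra.Generators.self R' S').defaultHom G'').toExtensionHom ≫
              inv (NLCx.bcMap (S' := S')
                (NLCx.sameVarsHom (Algebra.Generators.self R S) G'' hG'').toExtensionHom)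
            homotopyHomInvId := ?_
            homotopyInvHomId := ?_ }, rfl⟩
  · rw [hd]
    exact (Homotopy.ofEq (by simp only [Category.assoc])).trans
      (((hUV.compRight (inv (NLCx.bcMap (S' := S')
          (NLCx.sameVarsHom (Algebra.Generators.self R S) G'' hG'').toExtensionHom))).compLeft
        (NLCx.bcMap (S' := S')
          (NLCx.sameVarsHom (Algebra.Generators.self R S) G'' hG'').toExtensionHom)).trans
        (Homotopy.ofEq (by simp)))
  · rw [hd]
    exact (Homotopy.ofEq (by simp)).trans hVU

theorem main' {ι : Type u} (G : Algebra.Generators R S ι) (G' : Algebra.Generators R' S' ι)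
    (h : ∀ i, G'.val i = algebraMap S S' (G.val i)) :
    IsIso (NLCx.bcMap (S' := S') (NLCx.sameVarsHom G G' h).toExtensionHom) ∧
      ∃ e : HomotopyEquiv (NLCx.bcCx (Algebra.Generators.self R S).toExtension S')
          (NLCx.cx (Algebra.Generators.self R' S').toExtension),
        e.hom = NLCx.bcMapSelf R S R' S' := by
  refine ⟨isIso_sv' G G' h, ?_⟩
  obtain ⟨G'', hG''⟩ : ∃ G'' : Algebra.Generators R' S' S,
      ∀ i, G''.val i = algebraMap S S' ((Algebra.Generators.self R S).val i) :=
    ⟨Algebra.Generators.ofSurjective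
      (fun i => algebraMap S S' ((Algebra.Generators.self R S).val i))
      (aeval_bc_surjective (Algebra.Generators.self R S)), fun _ => rfl⟩
  exact part2' G'' hG''

theorem quasiIso_bcMapSelf : QuasiIso (NLCx.bcMapSelf R S R' S') := by
  obtain ⟨G'', hG''⟩ : ∃ G'' : Algebra.Generators R' S' S,
      ∀ i, G''.val i = algebraMap S S' ((Algebra.Generators.self R S).val i) :=
    ⟨Algebra.Generators.ofSurjective
      (fun i => algebraMap S S' ((Algebra.Generators.self R S).val i))
      (aeval_bc_surjective (Algebra.Generators.self R S)), fun _ => rfl⟩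
  obtain ⟨e, he⟩ := part2' G'' hG''
  rw [← he]
  exact e.quasiIso_hom

end SelfS

end Groth.Agent.H4.NLF1
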