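import Mathlib
import Groth.Prelude.Def_DerSch
import Groth.Prelude.Def_DTor2
import Groth.Prelude.Def_DCoh4
import Groth.Agent.H4.RelTor8
import Groth.Agent.H4.LDS22
import Groth.Agent.H4.BC1
import Groth.Agent.H4.BCSq

set_option autoImplicit false
universe u
open CategoryTheory CategoryTheory.Limits AlgebraicGeometry MonoidalCategory
attribute [local instance] HasDerivedCategory.standard

namespace Groth.Agent.H4.RTBC1

open Groth.Agent.H4.TC3 Groth.Agent.H4.TC4 Groth.Agent.H4.TC5 Groth.Agent.H4.TC6 Groth.Agent.H4.TC11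
open Groth.Agent.H4.LK2 Groth.Agent.H4.LK4 Groth.Agent.H4.LK6 Groth.Agent.H4.LK7
open Groth.Agent.H4.TP1 Groth.Agent.H4.TA1 Groth.Agent.H4.TA2 Groth.Agent.H4.TA3
  Groth.Agent.H4.TorAmp DRing Groth.Agent.H4.RelTor3 Groth.Agent.H4.RelTor4
  Groth.Agent.H4.RelTor5 Groth.Agent.H4.RelTor8

section A

variable {R A : Type u} [CommRing R] [CommRing A] (φ : R →+* A)

/-- restriction of scalars along a flat ring map preserves K-flatness -/
theorem kflat_res_of_flat (hφ : Module.Flat R (Ares φ)) (L : DRing.Cx A) (hL : KFlat L) :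
    KFlat ((DTen.resCx φ).obj L) := by
  intro N hN
  rw [acyc_iff_exactAt] at hN ⊢
  intro n
  have e0 : N ⊗ (DTen.resCx φ).obj L ≅ (DTen.resCx φ).obj L ⊗ N := Groth.Agent.H4.TC10.braid _ _
  rw [exactAt_iff_of_iso e0 n, exactAt_iff_of_iso (asIso (pfCx φ L N)) n, exactAt_res_iff]
  have h1 : Acyc ((DTen.extCx φ).obj N) := by
    rw [acyc_iff_exactAt]
    intro i
    exact exactAt_ext_of_flat φ hφ N i (hN i)
  have h2 := hL _ h1
  rw [acyc_iff_exactAt] at h2
  have e1 : L ⊗ (DTen.extCx φ).obj N ≅ (DTen.extCx φ).obj N ⊗ L := Groth.Agent.H4.TC10.braid _ _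
  exact (exactAt_iff_of_iso e1 n).2 (h2 n)

end A


section B

open Groth.Agent.H4.LDS22 Groth.Agent.H4.LDS3 DerivedCategory

variable {R R' : Type u} [CommRing R] [CommRing R'] (γ : R →+* R')

lemma isIso_αB_app [DRing.HasLBaseChange γ] (E : DRing.Cx R) (hE : KFlat E) :
    IsIso ((αB γ).app ((HomotopyCategory.quotient _ _).obj E)) :=
  isIso_counit_app (ModuleCat.extendScalars.{u, u, u} γ) adm_kflatR hasResCx_kflatR
    (fun E hE hac => (acyc_iff_exactAt _).1
      (Groth.Agent.H4.TC13.acyc_extendScalars γ E hE ((acyc_iff_exactAt _).2 hac)))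
    Qh (DRing.LBaseChange γ) (αB γ) E hE

/-- derived base change is computed termwise on K-flat complexes -/
noncomputable def lbcObjIso [DRing.HasLBaseChange γ] (E : DRing.Cx R) (hE : KFlat E) :
    (DRing.LBaseChange γ).obj (toD E) ≅ toD ((DTen.extCx γ).obj E) :=
  (@asIso _ _ _ _ ((αB γ).app ((HomotopyCategory.quotient _ _).obj E)) (isIso_αB_app γ E hE)) ≪≫
    Qh.mapIso (((ModuleCat.extendScalars.{u, u, u} γ).mapHomotopyCategoryFactors
      (ComplexShape.up ℤ)).app E)

lemma termwiseFlat_ext (G : DRing.Cx R) (hG : DRing.TermwiseFlat G) :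
    DRing.TermwiseFlat ((DTen.extCx γ).obj G) := fun i =>
  Groth.Agent.H4.LDS15.flat_extendScalars γ (G.X i) (hG i)

/-- base change of tor amplitude for K-flat complexes -/
theorem hasTorAmp_ext_of_kflat (Z : DRing.Cx R) (hZ : KFlat Z) (a b : ℤ)
    (h : HasTorAmplitudeIn R a b (toD Z)) :
    HasTorAmplitudeIn R' a b (toD ((DTen.extCx γ).obj Z)) := by
  obtain ⟨G, hv, hfl, ⟨e⟩⟩ := h
  haveI := Groth.Agent.H4.KProj.hasLBaseChange γ
  have hGk : KFlat G := kflat_of_bounded G a b (fun i hi => hv i (Or.inl hi))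
    (fun i hi => hv i (Or.inr hi)) hfl
  refine ⟨(DTen.extCx γ).obj G, fun i hi =>
    (ModuleCat.extendScalars.{u, u, u} γ).map_isZero (hv i hi), termwiseFlat_ext γ G hfl,
    ⟨(lbcObjIso γ G hGk).symm ≪≫ (DRing.LBaseChange γ).mapIso e ≪≫ lbcObjIso γ Z hZ⟩⟩

/-- base change of tor amplitude along a flat ring map -/
theorem hasTorAmp_ext_of_flat (hγ : γ.Flat) (Z : DRing.Cx R) (a b : ℤ)
    (h : HasTorAmplitudeIn R a b (toD Z)) :
    HasTorAmplitudeIn R' a b (toD ((DTen.extCx γ).obj Z)) := by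
  obtain ⟨G, hv, hfl, ⟨e⟩⟩ := h
  haveI := Groth.Agent.H4.KProj.hasLBaseChange γ
  refine ⟨(DTen.extCx γ).obj G, fun i hi =>
    (ModuleCat.extendScalars.{u, u, u} γ).map_isZero (hv i hi), termwiseFlat_ext γ G hfl,
    ⟨(Groth.Agent.H4.BC.isoOfFlatMap γ hγ G).symm ≪≫ (DRing.LBaseChange γ).mapIso e ≪≫
      Groth.Agent.H4.BC.isoOfFlatMap γ hγ Z⟩⟩

/-- restriction of scalars along a flat map preserves tor amplitude -/
theorem hasTorAmp_res_of_flat (hγ : Module.Flat R (Ares γ)) (W : DRing.Cx R') (a b : ℤ)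
    (h : HasTorAmplitudeIn R' a b (toD W)) :
    HasTorAmplitudeIn R a b (toD ((DTen.resCx γ).obj W)) := by
  obtain ⟨G, hv, hfl, ⟨e⟩⟩ := h
  refine ⟨(DTen.resCx γ).obj G, fun i hi =>
    (ModuleCat.restrictScalars.{u} γ).map_isZero (hv i hi),
    fun i => flat_restrictScalars γ hγ (G.X i) (hfl i),
    ⟨((DTen.resFactors γ).app G).symm ≪≫ (DRing.restrictD γ).mapIso e ≪≫
      (DTen.resFactors γ).app W⟩⟩

end B


section C

open Groth.Agent.H4.BCSq DerivedCategory

variable (R R' A A' : Type u) [CommRing R] [CommRing R'] [CommRing A] [CommRing A']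
  [Algebra R R'] [Algebra R A] [Algebra R A'] [Algebra R' A'] [Algebra A A']
  [IsScalarTower R R' A'] [IsScalarTower R A A'] [Algebra.IsPushout R R' A A']
  {A₀ A₀' : Type u} [CommRing A₀] [CommRing A₀']
  (lam : A →+* A₀) (lam' : A' →+* A₀') (α : A₀ →+* A₀')
  (hα : α.comp lam = lam'.comp (algebraMap A A'))
  (S : Submonoid A) (hlam : @IsLocalization A _ S A₀ _ lam.toAlgebra)
  (hlam' : Module.Flat A' (Ares lam'))
  (htor : Module.Flat R A ∨ Module.Flat R R')

include hα hlam hlam' htor in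
/-- base change of relative tor amplitude on an affine pushout chart, followed by localizations -/
theorem hasTorAmp_bc_chart (K : DRing.Cx A₀) (hK : KFlat K) (a b : ℤ)
    (h : HasTorAmplitudeIn R a b (toD ((DTen.resCx (lam.comp (algebraMap R A))).obj K))) :
    HasTorAmplitudeIn R' a b
      (toD ((DTen.resCx (lam'.comp (algebraMap R' A'))).obj ((DTen.extCx α).obj K))) := by
  have hlamfl : Module.Flat A (Ares lam) := by
    letI := lam.toAlgebra
    haveI := hlam
    exact flat_ares_of_isLocalization A S A₀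
  let K₁ : DRing.Cx A := (DTen.resCx lam).obj K
  have hK₁ : KFlat K₁ := kflat_res_of_flat lam hlamfl K hK
  let e1 : (DTen.extCx lam).obj K₁ ≅ K := extResCxIso lam S hlam K
  let Y : DRing.Cx A' := (DTen.extCx (algebraMap A A')).obj K₁
  let e2 : (DTen.extCx α).obj K ≅ (DTen.extCx lam').obj Y :=
    (DTen.extCx α).mapIso e1.symm ≪≫ (DTen.extCompCx lam α).app K₁ ≪≫
      extCxEqIso hα K₁ ≪≫ ((DTen.extCompCx (algebraMap A A') lam').app K₁).symm
  rw [hasTorAmp_iff_of_iso (Q.mapIso ((DTen.resCx (lam'.comp (algebraMap R' A'))).mapIso e2))]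
  refine hasTorAmp_res_ext_of_flat (algebraMap R' A') lam' hlam' Y a b ?_
  let Z : DRing.Cx R := (DTen.resCx (algebraMap R A)).obj K₁
  have e3 : (DTen.extCx (algebraMap R R')).obj Z ≅ (DTen.resCx (algebraMap R' A')).obj Y :=
    tauCx R R' A A' K₁
  rw [← hasTorAmp_iff_of_iso (Q.mapIso e3)]
  have hZ : HasTorAmplitudeIn R a b (toD Z) := by
    have e4 : Z ≅ (DTen.resCx (lam.comp (algebraMap R A))).obj K :=
      resCxCompIso (algebraMap R A) lam _ rfl K
    exact (hasTorAmp_iff_of_iso (Q.mapIso e4)).2 h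
  rcases htor with hfl | hfl
  · have hρ : Module.Flat R (Ares (algebraMap R A)) :=
      Module.Flat.of_linearEquiv (aresEquiv R A).symm
    exact hasTorAmp_ext_of_kflat _ Z (kflat_res_of_flat _ hρ K₁ hK₁) a b hZ
  · exact hasTorAmp_ext_of_flat _ ((RingHom.flat_algebraMap_iff).2 hfl) Z a b hZ

end C

end Groth.Agent.H4.RTBC1
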