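import Mathlib
import Groth.Agent.H4.TorAmp4
import Groth.Agent.H4.FAmp1
import Groth.Agent.H4.KProj5
import Groth.Agent.Lib.Helper2.CAlgA
import Groth.Agent.Lib.Helper9.Flat

set_option autoImplicit false
universe u
open CategoryTheory CategoryTheory.Limits CategoryTheory.Pretriangulated MonoidalCategory

namespace Groth.Agent.H4.TorAmp5

attribute [local instance] HasDerivedCategory.standard

open DerivedCategory DRing Groth.Agent.H4.PC Groth.Agent.H4.ResP Groth.Agent.H4.DRing1
  Groth.Agent.H4.LDer Groth.Agent.H4.SubCx Groth.Agent.H4.TorAmp Groth.Agent.H4.FAmp1 ZeroObject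

variable {R : Type u} [CommRing R]

/-- flat modules are closed under kernels of epimorphisms -/
lemma kerClosed_flat : KerClosed (fun M : ModuleCat.{u} R => Module.Flat R M) where
  iso e h := by
    haveI := h
    exact Module.Flat.of_linearEquiv e.symm.toLinearEquiv
  zero h := by
    haveI := ModuleCat.subsingleton_of_isZero h
    infer_instance
  ker {X Y} p _ hM hN := by
    haveI := hM
    haveI := hN
    have hs : Function.Surjective p.hom := (ModuleCat.epi_iff_surjective p).1 inferInstance
    have hi : Function.Injective (kernel.ι p).hom :=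
      (ModuleCat.mono_iff_injective (kernel.ι p)).1 inferInstance
    have hex : Function.Exact (kernel.ι p).hom p.hom := by
      have := (ShortComplex.exact_of_f_is_kernel
        (ShortComplex.mk (kernel.ι p) p (kernel.condition p)) (kernelIsKernel p))
      exact (ShortComplex.ShortExact.moduleCat_exact_iff_function_exact _).1 this
    exact (Groth.Agent.H2.CAlgA.flat_of_ses (kernel.ι p).hom p.hom hi hex hs).2 hM
  biprod {X Y} hM hN := by
    haveI := hM
    haveI := hN
    have hprod : Module.Flat R (↑X × ↑Y) := Groth.Agent.H9.flat_prod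
    exact Module.Flat.of_linearEquiv (M := ↑X × ↑Y) (ModuleCat.biprodIsoProd X Y).toLinearEquiv

/-- the upper bound of the tor amplitude is the top cohomological degree -/
theorem hasTorAmp_of_isLE (K : Dual.D R) (a b b' : ℤ) (h : HasTorAmplitudeIn R a b' K)
    [K.IsLE b] : HasTorAmplitudeIn R a b K := by
  obtain ⟨E, hz, hfl, ⟨e⟩⟩ := h
  haveI : (Q.obj E).IsLE b := TStructure.t.isLE_of_iso e.symm b
  haveI : E.IsLE b := (isLE_Q_obj_iff E b).1 inferInstance
  have hex : ∀ i, b < i → E.ExactAt i := fun i hi => E.exactAt_of_isLE b i hi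
  have hker : Module.Flat R (kernel (E.d b (b + 1)) : ModuleCat.{u} R) :=
    prop_kernel_d kerClosed_flat E b' (fun i hi => hz i (Or.inr hi)) b (fun i _ => hfl i)
      hex b le_rfl
  have hι : IsIso (Q.map (E.ιTruncLE b)) := by
    rw [isIso_Q_map_iff_quasiIso]; infer_instance
  have eZ : E.cycles b ≅ kernel (E.d b (b + 1)) :=
    IsLimit.conePointUniqueUpToIso (E.cyclesIsKernel b (b + 1) (by simp)) (limit.isLimit _)
  refine ⟨E.truncLE b, ?_, ?_, ⟨(@asIso _ _ _ _ (Q.map (E.ιTruncLE b)) hι) ≪≫ e⟩⟩
  · intro i hi
    by_cases hib : b < i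
    · exact CochainComplex.isZero_of_isStrictlyLE (E.truncLE b) b i hib
    · have hia : i < a := by omega
      rcases lt_or_eq_of_le (not_lt.mp hib) with h | h
      · exact (hz i (Or.inl hia)).of_iso (E.truncLEXIso b i h)
      · subst h
        have hz0 : IsZero (E.X i) := hz i (Or.inl hia)
        have : IsZero (E.cycles i) := IsZero.of_mono (E.iCycles i) hz0
        exact this.of_iso (E.truncLEXIsoCycles i)
  · intro i
    rcases lt_trichotomy i b with h | h | h
    · haveI := hfl i
      exact Module.Flat.of_linearEquiv (E.truncLEXIso b i h).toLinearEquiv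
    · subst h
      haveI := hker
      exact Module.Flat.of_linearEquiv ((E.truncLEXIsoCycles i) ≪≫ eZ).toLinearEquiv
    · haveI := ModuleCat.subsingleton_of_isZero
        (CochainComplex.isZero_of_isStrictlyLE (E.truncLE b) b i h)
      infer_instance

/-- a module of tor amplitude `[0, c]` is flat -/
theorem flat_of_hasTorAmp_nonneg (N : ModuleCat.{u} R) (c : ℤ)
    (h : HasTorAmplitudeIn R 0 c ((singleFunctor (ModuleCat.{u} R) 0).obj N)) :
    Module.Flat R N := by
  haveI : ((singleFunctor (ModuleCat.{u} R) 0).obj N).IsLE 0 := inferInstance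
  obtain ⟨E, hv, hfl, ⟨e⟩⟩ := hasTorAmp_of_isLE _ 0 0 c h
  haveI : E.IsStrictlyGE 0 := by
    rw [CochainComplex.isStrictlyGE_iff]
    intro i hi
    exact hv i (Or.inl hi)
  haveI : E.IsStrictlyLE 0 := by
    rw [CochainComplex.isStrictlyLE_iff]
    intro i hi
    exact hv i (Or.inr hi)
  obtain ⟨M, ⟨e'⟩⟩ := CochainComplex.exists_iso_single E 0
  have eM : E.X 0 ≅ M := (HomologicalComplex.eval _ _ 0).mapIso e' ≪≫
    HomologicalComplex.singleObjXSelf (ComplexShape.up ℤ) 0 M
  have e2 : (singleFunctor (ModuleCat.{u} R) 0).obj M ≅ (singleFunctor (ModuleCat.{u} R) 0).obj N :=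
    (singleFunctorIsoCompQ _ 0).app M ≪≫ (Q.mapIso e').symm ≪≫ e
  have e3 : M ≅ N := (singleFunctor (ModuleCat.{u} R) 0).preimageIso e2
  haveI := hfl 0
  exact Module.Flat.of_linearEquiv (eM ≪≫ e3).symm.toLinearEquiv

/-- the bottom term of a complex with flat higher terms and tor amplitude `≥ a` is flat -/
theorem flat_bottom_of_hasTorAmp (D : Cx R) (a b b' : ℤ) (h0 : ∀ i, i < a → IsZero (D.X i))
    (h1 : ∀ i, b' < i → IsZero (D.X i)) (hfl : ∀ i, a < i → Module.Flat R (D.X i))
    (h : HasTorAmplitudeIn R a b (toD D)) : Module.Flat R (D.X a) := by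
  haveI : ∀ M : ModuleCat.{u} R, (Gh (tensorRight M)).HasLeftDerivedFunctor (WA R) :=
    fun M => Groth.Agent.H4.KProj.hasLeftDerivedFunctor _
  set B : ℤ := max (max b b') a with hB
  have hS := brutal_stable D (a + 1)
  have hT := triangleOfSES_distinguished (shortExact D (brutal D (a + 1)) hS)
  have hsub : HasTorAmplitudeIn R (a + 1) (B + 1) (toD (sub D (brutal D (a + 1)) hS)) := by
    apply hasTorAmp_of_termwise (a + 1) (B + 1) _ (a + 1) (max b' (a + 1))
    · intro i hi
      rcases hi with hi | hi
      · have hb := brutal_of_lt D hi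
        haveI : Subsingleton (brutal D (a + 1) i) := by rw [hb]; infer_instance
        exact ModuleCat.isZero_of_subsingleton (ModuleCat.of R (brutal D (a + 1) i))
      · haveI := ModuleCat.subsingleton_of_isZero (h1 i (by omega))
        haveI : Subsingleton (brutal D (a + 1) i) := inferInstance
        exact ModuleCat.isZero_of_subsingleton (ModuleCat.of R (brutal D (a + 1) i))
    · intro i
      by_cases hia : i < a + 1
      · have hb := brutal_of_lt D hia
        haveI : Subsingleton (brutal D (a + 1) i) := by rw [hb]; infer_instance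
        exact hasTorAmp_single_of_subsingleton _ _ 0 (ModuleCat.of R (brutal D (a + 1) i))
      · by_cases hib : b' < i
        · haveI := ModuleCat.subsingleton_of_isZero (h1 i hib)
          haveI : Subsingleton (brutal D (a + 1) i) := inferInstance
          exact hasTorAmp_single_of_subsingleton _ _ 0 (ModuleCat.of R (brutal D (a + 1) i))
        · have hb := brutal_of_le D (not_lt.mp hia)
          haveI := hfl i (by omega)
          have h00 : HasTorAmplitudeIn R 0 0
              ((singleFunctor (ModuleCat.{u} R) 0).obj (D.X i)) := by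
            refine ⟨(HomologicalComplex.single _ (ComplexShape.up ℤ) 0).obj (D.X i), ?_, ?_,
              ⟨((singleFunctorIsoCompQ _ 0).app (D.X i)).symm⟩⟩
            · intro j hj
              exact HomologicalComplex.isZero_single_obj_X _ _ _ _ (by omega)
            · intro j
              by_cases hj : j = 0
              · subst hj
                exact Module.Flat.of_linearEquiv
                  (HomologicalComplex.singleObjXSelf (ComplexShape.up ℤ) 0 (D.X i)).toLinearEquiv
              · haveI := ModuleCat.subsingleton_of_isZero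
                  (HomologicalComplex.isZero_single_obj_X (ComplexShape.up ℤ) 0 (D.X i) j hj)
                infer_instance
          exact hasTorAmp_single_of_iso (LinearEquiv.ofTop _ hb).symm.toModuleIso
            (hasTorAmp_mono (by omega) (by omega) h00)
  have hD : HasTorAmplitudeIn R a B (toD D) := hasTorAmp_mono le_rfl (by omega) h
  have hq : HasTorAmplitudeIn R a B (toD (quot D (brutal D (a + 1)) hS)) :=
    hasTorAmp_obj₃ _ hT a B hsub hD
  -- the quotient is concentrated in degree `a`
  set E := quot D (brutal D (a + 1)) hS with hE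
  have hEz : ∀ i, i ≠ a → IsZero (E.X i) := by
    intro i hi
    by_cases hia : i < a + 1
    · haveI := ModuleCat.subsingleton_of_isZero (h0 i (by omega))
      haveI : Subsingleton (D.X i ⧸ brutal D (a + 1) i) := inferInstance
      exact ModuleCat.isZero_of_subsingleton (ModuleCat.of R (D.X i ⧸ brutal D (a + 1) i))
    · have hb := brutal_of_le D (not_lt.mp hia)
      haveI : Subsingleton (D.X i ⧸ brutal D (a + 1) i) := by
        rw [Submodule.Quotient.subsingleton_iff]; exact hb
      exact ModuleCat.isZero_of_subsingleton (ModuleCat.of R (D.X i ⧸ brutal D (a + 1) i))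
  haveI : E.IsStrictlyGE a := by
    rw [CochainComplex.isStrictlyGE_iff]
    intro i hi
    exact hEz i (by omega)
  haveI : E.IsStrictlyLE a := by
    rw [CochainComplex.isStrictlyLE_iff]
    intro i hi
    exact hEz i (by omega)
  obtain ⟨M, ⟨e⟩⟩ := CochainComplex.exists_iso_single E a
  have eM : E.X a ≅ M := (HomologicalComplex.eval _ _ a).mapIso e ≪≫
    HomologicalComplex.singleObjXSelf (ComplexShape.up ℤ) a M
  have hM : HasTorAmplitudeIn R a B ((singleFunctor (ModuleCat.{u} R) a).obj M) :=
    hasTorAmp_of_iso ((singleFunctorIsoCompQ _ a).app M ≪≫ (Q.mapIso e).symm).symm hq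
  have hM0 : HasTorAmplitudeIn R 0 (B - a) ((singleFunctor (ModuleCat.{u} R) 0).obj M) :=
    hasTorAmp_of_iso (((singleFunctors (ModuleCat.{u} R)).shiftIso a 0 a (by omega)).app M)
      (hasTorAmp_shift hM a 0 (B - a) (by omega) (by omega))
  haveI := flat_of_hasTorAmp_nonneg M (B - a) hM0
  have hb := brutal_of_lt D (by omega : a < a + 1)
  have e4 : D.X a ≅ E.X a := (Submodule.quotEquivOfEqBot _ hb).symm.toModuleIso
  exact Module.Flat.of_linearEquiv (e4 ≪≫ eM).toLinearEquiv

end Groth.Agent.H4.TorAmp5
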