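import Mathlib
import Groth.Prelude.Def_SheafNL
import Groth.Prelude.Def_LCI2
import Groth.Agent.H4.NLF1
import Groth.Agent.H4.TorAmp5
import Groth.Agent.H4.RTBC1

/-!
# Derived base change of the naive cotangent complex of a flat algebra
-/

set_option autoImplicit false
universe u
open CategoryTheory CategoryTheory.Limits TensorProduct HomologicalComplex
attribute [local instance] HasDerivedCategory.standard

namespace Groth.Agent.H4.NLF2

open Groth.Agent.H4.TC3 Groth.Agent.H4.TC4 Groth.Agent.H4.TC5 Groth.Agent.H4.TC6 Groth.Agent.H4.TC11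
open Groth.Agent.H4.LK2 Groth.Agent.H4.LK4 Groth.Agent.H4.LK6 Groth.Agent.H4.LK7
open DRing DerivedCategory

section MapDouble

variable {C D : Type*} [Category C] [Category D] [Preadditive C] [Preadditive D]
  [HasZeroObject C] [HasZeroObject D]
  (F : C ⥤ D) [F.Additive] {X₀ X₁ : C} (f : X₀ ⟶ X₁) {ι : Type*} {c : ComplexShape ι}
  {i₀ i₁ : ι} (hi : c.Rel i₀ i₁) (h : i₀ ≠ i₁)

/-- the comparison `double (F f) ⟶ F (double f)`. -/
noncomputable def mapDoubleHom :
    double (F.map f) hi ⟶ (F.mapHomologicalComplex c).obj (double f hi) :=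
  mkHomFromDouble hi h (F.map (doubleXIso₀ f hi).inv) (F.map (doubleXIso₁ f hi h).inv)
    (by
      change _ ≫ F.map ((double f hi).d i₀ i₁) = _
      rw [double_d f hi h, ← F.map_comp, Iso.inv_hom_id_assoc, F.map_comp]
      rfl)
    (by
      intro k hk
      change _ ≫ F.map ((double f hi).d i₁ k) = 0
      rw [double_d_eq_zero₀ f hi i₁ k h.symm, F.map_zero, comp_zero])

lemma isIso_mapDoubleHom : IsIso (mapDoubleHom F f hi h) := by
  haveI : ∀ k, IsIso ((mapDoubleHom F f hi h).f k) := by
    intro k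
    by_cases h₀ : k = i₀
    · subst h₀
      rw [mapDoubleHom, mkHomFromDouble_f₀]
      exact ((doubleXIso₀ (F.map f) hi) ≪≫ F.mapIso (doubleXIso₀ f hi).symm).isIso_hom
    · by_cases h₁ : k = i₁
      · subst h₁
        rw [mapDoubleHom, mkHomFromDouble_f₁]
        exact ((doubleXIso₁ (F.map f) hi h) ≪≫ F.mapIso (doubleXIso₁ f hi h).symm).isIso_hom
      · have hz1 := isZero_double_X (F.map f) hi k h₀ h₁
        have hz2 : IsZero (((F.mapHomologicalComplex c).obj (double f hi)).X k) :=
          F.map_isZero (isZero_double_X f hi k h₀ h₁)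
        exact ⟨⟨0, hz1.eq_of_src _ _, hz2.eq_of_src _ _⟩⟩
  exact HomologicalComplex.Hom.isIso_of_components _

end MapDouble

theorem rel : (ComplexShape.up ℤ).Rel (-1) 0 := by simp

/-- termwise extension of scalars of a two-term complex. -/
theorem nonempty_extCx_double_iso {B B' : Type u} [CommRing B] [CommRing B'] (γ : B →+* B')
    [inst : Algebra B B'] (hγ : algebraMap B B' = γ)
    {M N : Type u} [AddCommGroup M] [Module B M] [AddCommGroup N] [Module B N] (f : M →ₗ[B] N) :
    Nonempty ((DTen.extCx γ).obj (HomologicalComplex.double (ModuleCat.ofHom f) rel) ≅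
      HomologicalComplex.double (ModuleCat.ofHom (f.baseChange B')) rel) := by
  obtain rfl : inst = γ.toAlgebra := Algebra.algebra_ext _ _ (fun r => by rw [hγ]; rfl)
  have hne : (-1 : ℤ) ≠ 0 := by decide
  haveI := isIso_mapDoubleHom (ModuleCat.extendScalars.{u, u, u} γ) (ModuleCat.ofHom f) rel hne
  exact ⟨(asIso (mapDoubleHom (ModuleCat.extendScalars.{u, u, u} γ) (ModuleCat.ofHom f) rel
    hne)).symm⟩

section Main

variable (A B A' B' : Type u) [CommRing A] [CommRing B] [CommRing A'] [CommRing B']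
  [Algebra A B] [Algebra A' B'] [Algebra A A'] [Algebra B B'] [Algebra A B']
  [IsScalarTower A A' B'] [IsScalarTower A B B'] [Algebra.IsPushout A A' B B'] [Module.Flat A B]

theorem main :
    QuasiIso (NLCx.bcMapSelf A B A' B') ∧
      (DRing.HasTorAmplitudeIn B (-1) 0 (LCI.NL A B) →
        ∀ [DRing.HasLBaseChange (algebraMap B B')],
          Nonempty ((DRing.LBaseChange (algebraMap B B')).obj (LCI.NL A B) ≅ LCI.NL A' B')) := by
  have hq : QuasiIso (NLCx.bcMapSelf A B A' B') :=
    Groth.Agent.H4.NLF1.quasiIso_bcMapSelf (R := A) (S := B) (R' := A') (S' := B')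
  refine ⟨hq, ?_⟩
  intro htor _
  set X : DRing.Cx B := LCI.NLcx A B with hX
  have hne : (-1 : ℤ) ≠ 0 := by decide
  have hz : ∀ i : ℤ, i ≠ -1 → i ≠ 0 → IsZero (X.X i) := fun i h0 h1 =>
    HomologicalComplex.isZero_double_X _ _ i h0 h1
  have hfl0 : Module.Flat B (X.X 0) := by
    have e : X.X 0 ≅ ModuleCat.of B (Algebra.Generators.self A B).toExtension.CotangentSpace :=
      HomologicalComplex.doubleXIso₁ _ _ hne
    exact Module.Flat.of_linearEquiv e.toLinearEquiv
  have hflz : ∀ i : ℤ, i ≠ -1 → i ≠ 0 → Module.Flat B (X.X i) := fun i h0 h1 => by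
    haveI := ModuleCat.subsingleton_of_isZero (hz i h0 h1)
    infer_instance
  have hflm1 : Module.Flat B (X.X (-1)) :=
    Groth.Agent.H4.TorAmp5.flat_bottom_of_hasTorAmp X (-1) 0 0
      (fun i hi => hz i (by omega) (by omega)) (fun i hi => hz i (by omega) (by omega))
      (fun i hi => by
        by_cases h0 : i = 0
        · subst h0; exact hfl0
        · exact hflz i (by omega) h0) htor
  have hfl : ∀ i : ℤ, Module.Flat B (X.X i) := fun i => by
    by_cases h1 : i = -1
    · subst h1; exact hflm1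
    · by_cases h0 : i = 0
      · subst h0; exact hfl0
      · exact hflz i h1 h0
  have hK : KFlat X := kflat_of_bounded X (-1) 0 (fun i hi => hz i (by omega) (by omega))
    (fun i hi => hz i (by omega) (by omega)) hfl
  have e1 := Groth.Agent.H4.RTBC1.lbcObjIso (algebraMap B B') X hK
  obtain ⟨e2⟩ := nonempty_extCx_double_iso (algebraMap B B') rfl
    (Algebra.Generators.self A B).toExtension.cotangentComplex
  have hiso : IsIso (Q.map (NLCx.bcMapSelf A B A' B')) := by
    rw [isIso_Q_map_iff_quasiIso]; exact hq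
  have e3 := @asIso _ _ _ _ (Q.map (NLCx.bcMapSelf A B A' B')) hiso
  exact ⟨e1 ≪≫ Q.mapIso e2 ≪≫ e3⟩

end Main

end Groth.Agent.H4.NLF2
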