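import Mathlib
import Groth.Prelude.Def_MoreMor

set_option autoImplicit false
universe u

open AlgebraicGeometry CategoryTheory

namespace Groth.Agent.H4.NT1

/-- abstract local algebra: nilpotence of the kernel passes to localizations -/
lemma ker_pow_eq_bot {R' R A' A : Type u} [CommRing R'] [CommRing R] [CommRing A'] [CommRing A]
    (φ : R' →+* R) (hφ : Function.Surjective φ) (n : ℕ) (hn : (RingHom.ker φ) ^ n = ⊥)
    (g' : R' →+* A') (g : R →+* A) (σ : A' →+* A) (hσ : σ.comp g' = g.comp φ)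
    [IsLocalHom σ]
    (loc' : ∀ a : A', ∃ s t : R', IsUnit (g' t) ∧ a * g' t = g' s)
    (loc : ∀ r : R, g r = 0 → ∃ u : R, IsUnit (g u) ∧ u * r = 0) :
    (RingHom.ker σ) ^ n = ⊥ := by
  rw [eq_bot_iff, Submodule.pow_eq_span_pow_set, Submodule.span_le]
  intro z hz
  rw [Set.mem_pow] at hz
  obtain ⟨f, rfl⟩ := hz
  rw [List.prod_ofFn]
  -- choose data for each factor
  have key : ∀ k : Fin n, ∃ w : R', w ∈ RingHom.ker φ ∧ ∃ c : A', IsUnit c ∧
      ((f k : A') : A') * c = g' w := by
    intro k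
    obtain ⟨s, t, ht, hst⟩ := loc' (f k : A')
    have h0 : g (φ s) = 0 := by
      have h1 : σ (g' s) = g (φ s) := by
        have := congrArg (fun ψ : R' →+* A => ψ s) hσ
        simpa using this
      rw [← h1, ← hst, map_mul]
      have h2 : σ (f k : A') = 0 := (f k).2
      rw [h2, zero_mul]
    obtain ⟨u, hu, hus⟩ := loc (φ s) h0
    obtain ⟨v, rfl⟩ := hφ u
    have hv : IsUnit (g' v) := by
      apply isUnit_of_map_unit σ
      have h1 : σ (g' v) = g (φ v) := by
        have := congrArg (fun ψ : R' →+* A => ψ v) hσ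
        simpa using this
      rw [h1]; exact hu
    refine ⟨v * s, ?_, g' t * g' v, ht.mul hv, ?_⟩
    · rw [RingHom.mem_ker, map_mul]; exact hus
    · rw [← mul_assoc, hst, map_mul, mul_comm]
  choose w hw c hc hfc using key
  have hprod : (∏ k, w k) = 0 := by
    have h1 : (∏ k, w k) ∈ (RingHom.ker φ) ^ n := by
      have := Ideal.prod_mem_prod (s := Finset.univ) (I := fun _ : Fin n => RingHom.ker φ)
        (x := w) (fun k _ => hw k)
      simpa using this
    rw [hn] at h1
    simpa using h1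
  have h2 : (∏ k, ((f k : A') : A')) * ∏ k, c k = 0 := by
    rw [← Finset.prod_mul_distrib]
    simp_rw [hfc]
    rw [← map_prod, hprod, map_zero]
  have hcu : IsUnit (∏ k, c k) := by
    rw [IsUnit.prod_univ_iff]
    exact hc
  have h3 := hcu.mul_left_eq_zero.mp h2
  simpa using h3

/-- a morphism of schemes which is a homeomorphism, surjective on stalks, with kernels on stalks
of uniformly bounded nilpotence order -/
structure NilThick (n : ℕ) {X X' : Scheme.{u}} (i : X ⟶ X') : Prop where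
  homeo : IsHomeomorph i
  surj : ∀ x : X, Function.Surjective (i.stalkMap x).hom
  nil : ∀ x : X, (RingHom.ker (i.stalkMap x).hom) ^ n = ⊥

theorem exists_nilThick {X X' : Scheme.{u}} (i : X ⟶ X')
    (hi : MoreMor.IsFiniteOrderThickening i) : ∃ n, NilThick n i := by
  obtain ⟨⟨hcl, hsurj⟩, n, hn⟩ := hi
  haveI := hcl
  refine ⟨n, ?_, ?_, ?_⟩
  · exact (i.isClosedEmbedding.isEmbedding.toHomeomorphOfSurjective hsurj.surj).isHomeomorph
  · intro x
    exact i.stalkMap_surjective x
  · intro x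
    obtain ⟨U', hU', hxU', -⟩ := exists_isAffineOpen_mem_and_subset (x := i x) (U := ⊤) trivial
    have hU : IsAffineOpen (i ⁻¹ᵁ U') := hU'.preimage i
    have hxU : x ∈ i ⁻¹ᵁ U' := hxU'
    letI := (X'.presheaf.germ U' (i x) hxU').hom.toAlgebra
    haveI := hU'.isLocalization_stalk ⟨i x, hxU'⟩
    letI := (X.presheaf.germ (i ⁻¹ᵁ U') x hxU).hom.toAlgebra
    haveI := hU.isLocalization_stalk ⟨x, hxU⟩
    refine ker_pow_eq_bot (i.app U').hom (i.app_surjective U' hU') n ?_
      (X'.presheaf.germ U' (i x) hxU').hom (X.presheaf.germ (i ⁻¹ᵁ U') x hxU).hom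
      (i.stalkMap x).hom ?_ ?_ ?_
    · rw [← Scheme.Hom.ker_apply i ⟨U', hU'⟩]
      have h1 : (i.ker ^ n).ideal ⟨U', hU'⟩ = (i.ker.ideal ⟨U', hU'⟩) ^ n := by
        rw [Scheme.IdealSheafData.ideal_pow]; rfl
      rw [← h1, hn]
      rfl
    · rw [← CommRingCat.hom_comp, ← CommRingCat.hom_comp, Scheme.Hom.germ_stalkMap]
    · intro a
      obtain ⟨⟨s, t⟩, hst⟩ := IsLocalization.surj (hU'.primeIdealOf ⟨i x, hxU'⟩).asIdeal.primeCompl a
      exact ⟨s, t, IsLocalization.map_units _ t, hst⟩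
    · intro r hr
      obtain ⟨m, hm⟩ := (IsLocalization.map_eq_zero_iff
        (hU.primeIdealOf ⟨x, hxU⟩).asIdeal.primeCompl (X.presheaf.stalk x) r).1 hr
      exact ⟨m, IsLocalization.map_units _ m, hm⟩

lemma of_arrow_iso {A B A' B' : CommRingCat.{u}} (f : A ⟶ B) (g : A' ⟶ B')
    (e : Arrow.mk f ≅ Arrow.mk g) :
    (Function.Surjective g.hom → Function.Surjective f.hom) ∧
      (∀ n : ℕ, RingHom.ker g.hom ^ n = ⊥ → RingHom.ker f.hom ^ n = ⊥) := by
  let a : A ⟶ A' := e.hom.left
  let b : B ⟶ B' := e.hom.right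
  haveI : IsIso a := inferInstanceAs (IsIso e.hom.left)
  haveI : IsIso b := inferInstanceAs (IsIso e.hom.right)
  have hw : a ≫ g = f ≫ b := e.hom.w
  have hw' : ∀ z, g.hom (a.hom z) = b.hom (f.hom z) := fun z => by
    have := congrArg (fun ψ : A ⟶ B' => ψ.hom z) hw
    simpa using this
  have ha := ConcreteCategory.bijective_of_isIso a
  have hb := ConcreteCategory.bijective_of_isIso b
  constructor
  · intro hg y
    obtain ⟨z', hz'⟩ := hg (b.hom y)
    obtain ⟨z, rfl⟩ := ha.2 z'
    refine ⟨z, hb.1 ?_⟩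
    exact (hw' z).symm.trans hz'
  · intro n hn
    rw [eq_bot_iff]
    have h1 : RingHom.ker f.hom ≤ (RingHom.ker g.hom).comap a.hom := by
      intro z hz
      rw [Ideal.mem_comap, RingHom.mem_ker, hw', RingHom.mem_ker.1 hz, map_zero]
    intro z hz
    have h2 := Ideal.le_comap_pow a.hom n (Ideal.pow_right_mono h1 n hz)
    rw [hn] at h2
    have h3 : a.hom z = 0 := by simpa using h2
    have : z = 0 := ha.1 (by rw [h3]; exact (map_zero _).symm)
    simpa using this

lemma NilThick.restrict {n : ℕ} {X X' : Scheme.{u}} {i : X ⟶ X'} (h : NilThick n i)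
    (V' : X'.Opens) : NilThick n (i ∣_ V') := by
  refine ⟨?_, ?_, ?_⟩
  · have hb : ⇑(i ∣_ V') = V'.1.restrictPreimage i := morphismRestrict_base i V'
    rw [hb]
    refine ⟨h.homeo.continuous.restrictPreimage, h.homeo.isOpenMap.restrictPreimage _, ?_, ?_⟩
    · exact h.homeo.bijective.1.restrictPreimage _
    · exact h.homeo.bijective.2.restrictPreimage _
  · intro x
    exact (of_arrow_iso _ _ (morphismRestrictStalkMap i V' x)).1 (h.surj x.1)
  · intro x
    exact (of_arrow_iso _ _ (morphismRestrictStalkMap i V' x)).2 n (h.nil x.1)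

end Groth.Agent.H4.NT1
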