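import Mathlib
set_option autoImplicit false
universe u
open CategoryTheory TensorProduct

namespace Groth.Agent.H4.NT3
variable {R : Type u} [CommRing R] {S : Type u} [CommRing S] (σ : R →+* S)

lemma top_eq_smul_top_of_subsingleton_tensor (hσ : Function.Surjective σ) (M : Type u)
    [AddCommGroup M] [Module R M]
    (h : letI := σ.toAlgebra; Subsingleton (S ⊗[R] M)) :
    (⊤ : Submodule R M) = RingHom.ker σ • (⊤ : Submodule R M) := by
  letI := σ.toAlgebra
  refine le_antisymm ?_ le_top
  intro m _
  let J := RingHom.ker σ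
  -- the exact sequence J ⊗ M → R ⊗ M → S ⊗ M
  have hex : Function.Exact (Submodule.subtype (J.restrictScalars R)) (Algebra.linearMap R S) := by
    intro r
    constructor
    · intro hr
      exact ⟨⟨r, hr⟩, rfl⟩
    · rintro ⟨⟨a, ha⟩, rfl⟩
      exact ha
  have hex2 := rTensor_exact M hex (fun s => hσ s)
  have h0 : (Algebra.linearMap R S).rTensor M ((1 : R) ⊗ₜ[R] m) = 0 := Subsingleton.elim _ _
  obtain ⟨z, hz⟩ := (hex2 _).1 h0
  have h1 : TensorProduct.lid R M (((Submodule.subtype (J.restrictScalars R)).rTensor M) z) = m := by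
    rw [hz]; simp
  rw [← h1]
  clear h1 hz
  induction z using TensorProduct.induction_on with
  | zero => simp
  | tmul a x =>
    simp only [LinearMap.rTensor_tmul, Submodule.subtype_apply, TensorProduct.lid_tmul]
    exact Submodule.smul_mem_smul a.2 trivial
  | add x y hx hy =>
    rw [map_add, map_add]
    exact Submodule.add_mem _ (hx) (hy)

/-- Nakayama's lemma along a surjection with nilpotent kernel -/
theorem subsingleton_of_subsingleton_tensor (hσ : Function.Surjective σ) (n : ℕ)
    (hn : (RingHom.ker σ) ^ n = ⊥) (M : Type u) [AddCommGroup M] [Module R M]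
    (h : letI := σ.toAlgebra; Subsingleton (S ⊗[R] M)) : Subsingleton M := by
  have h1 := top_eq_smul_top_of_subsingleton_tensor σ hσ M h
  have key : ∀ k : ℕ, (⊤ : Submodule R M) = (RingHom.ker σ) ^ k • (⊤ : Submodule R M) := by
    intro k
    induction k with
    | zero => simp
    | succ k ih =>
      rw [pow_succ, mul_smul, ← h1]
      exact ih
  have h2 := key n
  rw [hn, Submodule.bot_smul] at h2
  exact (Submodule.subsingleton_iff R).1 (subsingleton_of_bot_eq_top h2.symm)

theorem isZero_of_isZero_extendScalars (hσ : Function.Surjective σ) (n : ℕ)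
    (hn : (RingHom.ker σ) ^ n = ⊥) (M : ModuleCat.{u} R)
    (h : Limits.IsZero ((ModuleCat.extendScalars.{u, u, u} σ).obj M)) : Limits.IsZero M := by
  haveI : Subsingleton M := by
    apply subsingleton_of_subsingleton_tensor σ hσ n hn M
    exact ModuleCat.subsingleton_of_isZero h
  exact ModuleCat.isZero_of_subsingleton M

/-- finite generation descends along a surjection with nilpotent kernel -/
theorem finite_of_finite_tensor (hσ : Function.Surjective σ) (n : ℕ)
    (hn : (RingHom.ker σ) ^ n = ⊥) (N : Type u) [AddCommGroup N] [Module R N]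
    (h : letI := σ.toAlgebra; Module.Finite S (S ⊗[R] N)) : Module.Finite R N := by
  letI := σ.toAlgebra
  -- everything is in the `S`-span of the `1 ⊗ n`
  have hspan : ∀ z : S ⊗[R] N, z ∈ Submodule.span S (Set.range fun x : N => (1 : S) ⊗ₜ[R] x) := by
    intro z
    induction z using TensorProduct.induction_on with
    | zero => exact Submodule.zero_mem _
    | tmul s x =>
      have : s ⊗ₜ[R] x = s • ((1 : S) ⊗ₜ[R] x) := by
        rw [TensorProduct.smul_tmul', smul_eq_mul, mul_one]
      rw [this]
      exact Submodule.smul_mem _ _ (Submodule.subset_span ⟨x, rfl⟩)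
    | add x y hx hy => exact Submodule.add_mem _ hx hy
  obtain ⟨T, hT⟩ := h.fg_top
  -- a finite set of elements of `N` suffices
  have key : ∀ t : S ⊗[R] N, ∃ c : N →₀ S, (c.sum fun x a => a • ((1 : S) ⊗ₜ[R] x)) = t := by
    intro t
    exact (Finsupp.mem_span_range_iff_exists_finsupp).1 (hspan t)
  choose c hc using key
  classical
  let F : Finset N := T.biUnion fun t => (c t).support
  let N' : Submodule R N := Submodule.span R (F : Set N)
  -- the quotient vanishes after tensoring
  let q : S ⊗[R] N →ₗ[S] S ⊗[R] (N ⧸ N') := N'.mkQ.baseChange S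
  have hq0 : ∀ z, q z = 0 := by
    have h1 : (⊤ : Submodule S (S ⊗[R] N)) ≤ LinearMap.ker q := by
      rw [← hT, Submodule.span_le]
      intro t ht
      rw [SetLike.mem_coe, LinearMap.mem_ker, ← hc t, Finsupp.sum, map_sum]
      refine Finset.sum_eq_zero (fun x hx => ?_)
      rw [map_smul, LinearMap.baseChange_tmul]
      have hxN : x ∈ N' := Submodule.subset_span (Finset.mem_biUnion.2 ⟨t, ht, hx⟩)
      rw [Submodule.mkQ_apply, (Submodule.Quotient.mk_eq_zero N').2 hxN, TensorProduct.tmul_zero,
        smul_zero]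
    intro z
    exact h1 (Submodule.mem_top (x := z))
  have hqs : Function.Surjective q := by
    intro w
    obtain ⟨z, hz⟩ := LinearMap.lTensor_surjective S (Submodule.mkQ_surjective N') w
    exact ⟨z, hz⟩
  haveI : Subsingleton (S ⊗[R] (N ⧸ N')) := ⟨fun a b => by
    obtain ⟨a', rfl⟩ := hqs a
    obtain ⟨b', rfl⟩ := hqs b
    rw [hq0, hq0]⟩
  haveI : Subsingleton (N ⧸ N') :=
    subsingleton_of_subsingleton_tensor σ hσ n hn (N ⧸ N') inferInstance
  have htop : N' = ⊤ := Submodule.Quotient.subsingleton_iff.1 inferInstance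
  exact ⟨⟨F, htop⟩⟩

theorem finite_of_finite_extendScalars (hσ : Function.Surjective σ) (n : ℕ)
    (hn : (RingHom.ker σ) ^ n = ⊥) (N : ModuleCat.{u} R)
    (h : Module.Finite S ((ModuleCat.extendScalars.{u, u, u} σ).obj N)) : Module.Finite R N :=
  finite_of_finite_tensor σ hσ n hn N h

end Groth.Agent.H4.NT3
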