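import Mathlib
import Groth.Prelude.Def_DerSch
import Groth.Agent.H4.NT1
import Groth.Agent.H4.NT2
import Groth.Agent.H4.NT3
import Groth.Agent.H4.LDS18

set_option autoImplicit false
universe u
attribute [local instance] HasDerivedCategory.standard
open CategoryTheory CategoryTheory.Limits AlgebraicGeometry DerivedCategory
open Groth.Agent.H4.NT1 Groth.Agent.H4.NT2 Groth.Agent.H4.NT3 Groth.Agent.H4.SPt5 Groth.Agent.H4.SPt6
open Groth.Agent.H4.LDS14 Groth.Agent.H4.LDS15 Groth.Agent.H4.LDS16 Groth.Agent.H4.LDS17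

namespace Groth.Agent.H4.NT4

variable {X X' : Scheme.{u}} {n : ℕ} {i : X ⟶ X'}

/-- Nakayama for modules along a nilpotent thickening -/
theorem isZero_of_isZero_pullback (hi : NilThick n i) (M : X'.Modules)
    (h : IsZero ((Scheme.Modules.pullback i).obj M)) : IsZero M := by
  rw [isZero_iff_stalk]
  intro x'
  obtain ⟨x, rfl⟩ := hi.homeo.bijective.2 x'
  apply isZero_of_isZero_extendScalars (i.stalkMap x).hom (hi.surj x) n (hi.nil x)
  exact IsZero.of_iso ((DerSch.stalkFunctor X x).map_isZero h) ((stalkPullbackIso i x).app M).symm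

/-- Nakayama for complexes along a nilpotent thickening -/
theorem isLE_of_isLE_lpull (hi : NilThick n i) [DCoh.HasLpull i] (K' : DCoh.D X') (b : ℤ)
    (h : ((DCoh.Lpull i).obj K').IsLE b) : K'.IsLE b := by
  obtain ⟨F, c, hc, hSKF, hflat⟩ := exists_skf_resolution (Q.objPreimage K')
  haveI := hc
  have e : DCoh.toD X' F ≅ K' := asIso (Q.map c) ≪≫ Q.objObjPreimageIso K'
  have e2 : (DCoh.Lpull i).obj K' ≅ DCoh.toD X ((pullCx i).obj F) :=
    (DCoh.Lpull i).mapIso e.symm ≪≫ lpullObjIso i F hSKF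
  haveI : (DCoh.toD X ((pullCx i).obj F)).IsLE b := TStructure.t.isLE_of_iso e2 b
  have hex : ∀ j, b < j → ((pullCx i).obj F).ExactAt j := by
    intro j hj
    rw [HomologicalComplex.exactAt_iff_isZero_homology]
    exact IsZero.of_iso (isZero_of_isLE (DCoh.toD X ((pullCx i).obj F)) b j hj)
      ((homologyFunctorFactors _ j).app _).symm
  suffices hF : (DCoh.toD X' F).IsLE b from TStructure.t.isLE_of_iso e b
  rw [DerivedCategory.isLE_iff]
  intro j hj
  refine IsZero.of_iso ?_ ((homologyFunctorFactors _ j).app F)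
  change IsZero (F.homology j)
  rw [← HomologicalComplex.exactAt_iff_isZero_homology, exactAt_iff_stalk]
  intro x'
  obtain ⟨x, rfl⟩ := hi.homeo.bijective.2 x'
  refine exactAt_of_ext_of_nilpotent (i.stalkMap x).hom (hi.surj x) n (hi.nil x)
    ((stalkCx (i x)).obj F) (hSKF (i x)) (fun q => hflat q (i x)) b (fun q hq => ?_) j hj
  refine (Groth.Agent.H4.TA1.exactAt_iff_of_iso (stalkPullCxIso i x F) q).1 ?_
  exact (exactAt_iff_stalk _ q).1 (hex q hq) x

end Groth.Agent.H4.NT4
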