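import Mathlib
import Groth.Prelude.Def_DerSch
import Groth.Agent.H4.NT4
import Groth.Agent.H4.LFP1
import Groth.Agent.H4.PCS7
import Groth.Agent.H4.FlatPull1

set_option autoImplicit false
universe u
attribute [local instance] HasDerivedCategory.standard
open CategoryTheory CategoryTheory.Limits AlgebraicGeometry DerivedCategory
open Groth.Agent.H4.NT1 Groth.Agent.H4.NT2 Groth.Agent.H4.NT3 Groth.Agent.H4.NT4
open Groth.Agent.H4.SPt5 Groth.Agent.H4.SPt6
open Groth.Agent.H4.LDS14 Groth.Agent.H4.LDS15 Groth.Agent.H4.LDS16 Groth.Agent.H4.LDS17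

namespace Groth.Agent.H4.NT5

section Top

variable {C D : Type*} [Category C] [Category D] [Abelian C] [Abelian D]

/-- top cohomology commutes with right exact functors -/
noncomputable def topHomologyMapIso (F : C ⥤ D) [F.Additive] [PreservesFiniteColimits F]
    (K : CochainComplex C ℤ) (b : ℤ) (hK : IsZero (K.X (b + 1))) :
    (((F.mapHomologicalComplex (ComplexShape.up ℤ)).obj K).homology b) ≅ F.obj (K.homology b) :=
  haveI : F.PreservesLeftHomologyOf (K.sc b) :=
    Functor.preservesLeftHomology_of_zero_g F (K.sc b) (by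
      apply IsZero.eq_of_tgt
      have : (ComplexShape.up ℤ).next b = b + 1 := by simp
      change IsZero (K.X ((ComplexShape.up ℤ).next b))
      rw [this]
      exact hK)
  (K.sc b).mapHomologyIso F

end Top

section SB

variable {X Y : Scheme.{u}}

instance extendScalars_preservesFiniteColimits {A B : Type u} [CommRing A] [CommRing B]
    (φ : A →+* B) : PreservesFiniteColimits (ModuleCat.extendScalars.{u, u, u} φ) :=
  haveI : (ModuleCat.extendScalars.{u, u, u} φ).IsLeftAdjoint :=
    (ModuleCat.extendRestrictScalarsAdj.{u, u, u} φ).isLeftAdjoint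
  inferInstance

/-- the stalk of the top cohomology sheaf of a derived pullback -/
theorem nonempty_stalk_top_lpull_iso (f : X ⟶ Y) [DCoh.HasLpull f] (C : DCoh.D Y) (b : ℤ)
    [C.IsLE b] (x : X) :
    Nonempty ((DerSch.stalkFunctor X x).obj (DCoh.HD ((DCoh.Lpull f).obj C) b) ≅
      (ModuleCat.extendScalars.{u, u, u} (f.stalkMap x).hom).obj
        ((DerSch.stalkFunctor Y (f.base x)).obj (DCoh.HD C b))) := by
  obtain ⟨K, hK, ⟨e⟩⟩ := C.exists_iso_Q_obj_of_isLE b
  obtain ⟨P, q, -, hfl, hq, hz⟩ := Groth.Agent.H4.GKS8.exists_bddAbove_resolution_sch K b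
    (fun i hi => K.isZero_of_isStrictlyLE b i hi)
  have hP : SKF P := skf_of_boundedAbove_flat P b hz hfl
  haveI : IsIso (Q.map q) := by
    rw [DerivedCategory.isIso_Q_map_iff_quasiIso]; exact hq
  have eC : DCoh.toD Y P ≅ C := asIso (Q.map q) ≪≫ e.symm
  have e1 : (DCoh.Lpull f).obj C ≅ DCoh.toD X ((pullCx f).obj P) :=
    (DCoh.Lpull f).mapIso eC.symm ≪≫ lpullObjIso f P hP
  have e2 : DCoh.HD ((DCoh.Lpull f).obj C) b ≅ ((pullCx f).obj P).homology b :=
    (homologyFunctor _ b).mapIso e1 ≪≫ (homologyFunctorFactors _ b).app _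
  have e3 : (DerSch.stalkFunctor X x).obj (((pullCx f).obj P).homology b) ≅
      ((stalkCx x).obj ((pullCx f).obj P)).homology b :=
    ((((pullCx f).obj P).sc b).mapHomologyIso (DerSch.stalkFunctor X x)).symm
  have e4 : ((stalkCx x).obj ((pullCx f).obj P)).homology b ≅
      (((ModuleCat.extendScalars.{u,u,u} (f.stalkMap x).hom).mapHomologicalComplex
        (ComplexShape.up ℤ)).obj ((stalkCx (f.base x)).obj P)).homology b :=
    (HomologicalComplex.homologyFunctor _ _ b).mapIso (stalkPullCxIso f x P)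
  have e5 := topHomologyMapIso (ModuleCat.extendScalars.{u,u,u} (f.stalkMap x).hom)
    ((stalkCx (f.base x)).obj P) b ((DerSch.stalkFunctor Y (f.base x)).map_isZero (hz (b + 1) (by omega)))
  have e6 : ((stalkCx (f.base x)).obj P).homology b ≅
      (DerSch.stalkFunctor Y (f.base x)).obj (P.homology b) :=
    ((P.sc b).mapHomologyIso (DerSch.stalkFunctor Y (f.base x)))
  have e7 : P.homology b ≅ DCoh.HD C b :=
    ((homologyFunctorFactors _ b).app P).symm ≪≫ (homologyFunctor _ b).mapIso eC
  exact ⟨(DerSch.stalkFunctor X x).mapIso e2 ≪≫ e3 ≪≫ e4 ≪≫ e5 ≪≫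
    (ModuleCat.extendScalars.{u,u,u} (f.stalkMap x).hom).mapIso
      (e6 ≪≫ (DerSch.stalkFunctor Y (f.base x)).mapIso e7)⟩

end SB

section FG

open Groth.Agent.LD.QC Groth.Agent.H1.CohLen Groth.Agent.H4.FAmp3 Groth.Agent.H4.FAmp8
  Groth.Agent.H4.PCS7 Groth.Agent.H4.FlatPull1

variable {Y : Scheme.{u}}

/-- stalks of modules of finite type are finitely generated (no quasi-coherence needed) -/
theorem finite_stalk_of_isFiniteType (N : Y.Modules) (hN : N.IsFiniteType) (y : Y) :
    Module.Finite (Y.presheaf.stalk y) (N.presheaf.stalk y) := by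
  obtain ⟨U, hyU, σ, hσ⟩ := (isFiniteType_iff_forall_exists N).mp hN y
  obtain ⟨k, ⟨eI⟩⟩ := Finite.exists_equiv_fin σ.I
  let F := FlatMod.freeMod (U : Scheme.{u}) k
  let p : F ⟶ N.restrict U.ι := (freeIsoFreeMod σ.I k eI).hom ≫ σ.π
  haveI : @Epi (U : Scheme.{u}).Modules _ _ _ σ.π := σ.epi
  haveI : Epi p := epi_comp _ _
  let y' : (U : Scheme.{u}) := ⟨y, hyU⟩
  have hF : FlatMod.IsFinLocFree F := isFinLocFree_freeMod _ k
  haveI : F.IsQuasicoherent := qc_of_isFinLocFree F hF
  have hfp : F.IsFinitePresentation := isFinitePresentation_of_isFinLocFree F hF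
  have hft : F.IsFiniteType := inferInstance
  haveI h2 : Module.Finite ((U : Scheme.{u}).presheaf.stalk y') (F.presheaf.stalk y') :=
    finite_stalk F hft y'
  haveI hepi : Epi ((DerSch.stalkFunctor (U : Scheme.{u}) y').map p) := (epi_iff_stalk p).1 inferInstance y'
  haveI h2' : Module.Finite ((U : Scheme.{u}).presheaf.stalk y')
      ((DerSch.stalkFunctor (U : Scheme.{u}) y').obj F) := h2
  haveI h3 : Module.Finite ((U : Scheme.{u}).presheaf.stalk y') ((N.restrict U.ι).presheaf.stalk y') :=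
    Module.Finite.of_surjective ((DerSch.stalkFunctor (U : Scheme.{u}) y').map p).hom
      ((ModuleCat.epi_iff_surjective _).1 hepi)
  exact finite_of_semilinear (stalkRingEquiv U.ι y') (stalkRestrictAddEquiv U.ι N y')
    (stalkRestrictAddEquiv_smul U.ι N y')

end FG

end Groth.Agent.H4.NT5
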