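import Mathlib
import Groth.Prelude.Def_DerSch
import Groth.Agent.H4.NT4
import Groth.Agent.H4.LFP1
import Groth.Agent.H4.PCS7
import Groth.Agent.H4.FlatPull1
import Groth.Agent.Lib.Lead.QC.FreeHom

set_option autoImplicit false
universe u
attribute [local instance] HasDerivedCategory.standard
open CategoryTheory CategoryTheory.Limits AlgebraicGeometry DerivedCategory Opposite
open Groth.Agent.LD.QC Groth.Agent.H4.FAmp3
open Groth.Agent.H4.PSch1 Groth.Agent.H4.PSch2 Groth.Agent.H4.FlatPull1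

namespace Groth.Agent.H4.NT6


lemma eq_top_of_semilinear {R S M N : Type*} [CommRing R] [CommRing S] [AddCommGroup M]
    [Module R M] [AddCommGroup N] [Module S N] (σ : R ≃+* S) (e : M ≃+ N)
    (he : ∀ a m, e (a • m) = σ a • e m) (P : Submodule R M) (T : Set N)
    (hT : Submodule.span S T = ⊤) (h : ∀ t ∈ T, e.symm t ∈ P) : P = ⊤ := by
  have hsymm : ∀ (s : S) (n : N), e.symm (s • n) = σ.symm s • e.symm n := by
    intro s n
    apply e.injective
    rw [he]
    simp
  let P' : Submodule S N :=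
    { carrier := {n | e.symm n ∈ P}
      add_mem' := fun {a b} ha hb => by
        change e.symm (a + b) ∈ P
        rw [map_add]
        exact P.add_mem ha hb
      zero_mem' := by
        change e.symm 0 ∈ P
        rw [map_zero]
        exact P.zero_mem
      smul_mem' := fun s n hn => by
        change e.symm (s • n) ∈ P
        rw [hsymm]
        exact P.smul_mem _ hn }
  have h1 : Submodule.span S T ≤ P' := Submodule.span_le.2 h
  rw [hT] at h1
  rw [eq_top_iff]
  intro m _
  have : e m ∈ P' := h1 trivial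
  have h2 : e.symm (e m) ∈ P := this
  simpa using h2

variable {Y : Scheme.{u}}

/-- generators of a stalk spread out to a map from a free module on a neighbourhood, lifted
through a map which is surjective on the stalk -/
theorem exists_free_hom_epi_stalk {G M : Y.Modules} (p : G ⟶ M) (y : Y)
    (hp : Epi ((DerSch.stalkFunctor Y y).map p))
    [hfin : Module.Finite (Y.presheaf.stalk y) (M.presheaf.stalk y)] :
    ∃ (U : Y.Opens) (hy : y ∈ U) (k : ℕ) (ψ : freeMod (U : Scheme.{u}) k ⟶ G.restrict U.ι),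
      Epi ((DerSch.stalkFunctor (U : Scheme.{u}) ⟨y, hy⟩).map
        (ψ ≫ (Scheme.Modules.restrictFunctor U.ι).map p)) := by
  obtain ⟨k, s, hs⟩ := Module.Finite.exists_fin (R := Y.presheaf.stalk y)
    (M := M.presheaf.stalk y)
  have hsurj : Function.Surjective ((DerSch.stalkFunctor Y y).map p).hom :=
    (ModuleCat.epi_iff_surjective _).1 hp
  have key0 := fun l => hsurj (s l)
  choose r hr using key0
  have key := fun l => TopCat.Presheaf.exists_germ_eq G.presheaf (r l)
  choose W hyW t ht using key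
  have hopen : IsOpen (⋂ l, (W l : Set Y)) := isOpen_iInter_of_finite fun l => (W l).2
  let U : Y.Opens := ⟨⋂ l, (W l : Set Y), hopen⟩
  have hyU : y ∈ U := Set.mem_iInter.mpr hyW
  have hUW : ∀ l, U.ι ''ᵁ ⊤ ≤ W l := by
    rintro l z ⟨w, -, rfl⟩
    exact Set.mem_iInter.mp w.2 l
  let t' : Fin k → Γ(G.restrict U.ι, ⊤) := fun l => G.presheaf.map (homOfLE (hUW l)).op (t l)
  let ψ : freeMod (U : Scheme.{u}) k ⟶ G.restrict U.ι := homOfSections (G.restrict U.ι) t'
  refine ⟨U, hyU, k, ψ, ?_⟩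
  let y' : (U : Scheme.{u}) := ⟨y, hyU⟩
  rw [ModuleCat.epi_iff_surjective, ← LinearMap.range_eq_top]
  refine eq_top_of_semilinear (stalkRingEquiv U.ι y') (stalkRestrictAddEquiv U.ι M y')
    (stalkRestrictAddEquiv_smul U.ι M y') _ (Set.range s) hs ?_
  rintro _ ⟨l, rfl⟩
  have h1 : (stalkRestrictAddEquiv U.ι M y').symm (s l) =
      (M.restrict U.ι).presheaf.germ ⊤ y' trivial
        (((Scheme.Modules.restrictFunctor U.ι).map p).app ⊤ (t' l)) := by
    rw [AddEquiv.symm_apply_eq, stalkRestrictAddEquiv_germ, ← hr l, ← ht l]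
    have h4 := DerSch.stalkFunctor_map_germ y p (W l) (hyW l) (t l)
    refine h4.trans ?_
    have h5 := (TopCat.Presheaf.germ_res_apply M.presheaf (homOfLE (hUW l)) y
      ⟨y', trivial, rfl⟩ (p.app (W l) (t l))).symm
    refine h5.trans ?_
    congr 1
    exact (app_res p (hUW l) (t l)).symm
  rw [h1]
  let el : Γ(freeMod (U : Scheme.{u}) k, ⊤) :=
    (Sigma.ι (fun _ : Fin k => unitMod (U : Scheme.{u})) l).app ⊤ (1 : Γ((U : Scheme.{u}), ⊤))
  refine ⟨(freeMod (U : Scheme.{u}) k).presheaf.germ ⊤ y' trivial el, ?_⟩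
  have h2 := DerSch.stalkFunctor_map_germ y' (ψ ≫ (Scheme.Modules.restrictFunctor U.ι).map p)
    ⊤ trivial el
  have h3 : ψ.app ⊤ el = t' l := by
    have := congrFun (sectionsOfHom_homOfSections (G.restrict U.ι) t') l
    exact this
  have h3' : (ψ ≫ (Scheme.Modules.restrictFunctor U.ι).map p).app ⊤ el =
      ((Scheme.Modules.restrictFunctor U.ι).map p).app ⊤ (t' l) := by
    rw [← h3]; rfl
  rw [h3'] at h2
  exact h2



section
variable {C D : Type*} [Category C] [Category D] [Abelian C] [Abelian D]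

lemma singleIso_inv_homologyMap_homologyι (F' : CochainComplex C ℤ) (b : ℤ) (A : C)
    (ψ : A ⟶ F'.X b) (hψ : ∀ j, (ComplexShape.up ℤ).Rel b j → ψ ≫ F'.d b j = 0) :
    (HomologicalComplex.singleObjHomologySelfIso (ComplexShape.up ℤ) b A).inv ≫
      HomologicalComplex.homologyMap (HomologicalComplex.mkHomFromSingle ψ hψ) b ≫
        F'.homologyι b = ψ ≫ F'.pOpcycles b := by
  rw [HomologicalComplex.homologyι_naturality,
    HomologicalComplex.singleObjHomologySelfIso_inv_homologyι_assoc]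
  simp [HomologicalComplex.singleObjOpcyclesSelfIso]

lemma pOpcycles_mapOpcyclesIso (Φ : C ⥤ D) [Φ.Additive] [PreservesFiniteColimits Φ]
    [PreservesFiniteLimits Φ]
    (F : CochainComplex C ℤ) (b : ℤ) :
    ((Φ.mapHomologicalComplex (ComplexShape.up ℤ)).obj F).pOpcycles b ≫
      ((F.sc b).mapOpcyclesIso Φ).hom = Φ.map (F.pOpcycles b) := by
  exact ShortComplex.RightHomologyData.pOpcycles_comp_opcyclesIso_hom _

end

lemma epi_map_of_sq {C D : Type*} [Category C] [Category D] (St : C ⥤ D) {A B A' B' : C}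
    (u : A ⟶ B) (v : A' ⟶ B') (i₁ : A ≅ A') (i₂ : B ≅ B')
    (h : u ≫ i₂.hom = i₁.hom ≫ v) (hv : Epi (St.map v)) : Epi (St.map u) := by
  have : u = i₁.hom ≫ v ≫ i₂.inv := by
    rw [← Category.assoc, ← h, Category.assoc, Iso.hom_inv_id, Category.comp_id]
  rw [this, St.map_comp, St.map_comp]
  infer_instance


lemma finite_stalk_of_iso {M N : Y.Modules} (e : M ≅ N) (y : Y)
    [h : Module.Finite (Y.presheaf.stalk y) (M.presheaf.stalk y)] :
    Module.Finite (Y.presheaf.stalk y) (N.presheaf.stalk y) :=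
  haveI : Module.Finite (Y.presheaf.stalk y) ((DerSch.stalkFunctor Y y).obj M) := h
  Module.Finite.equiv ((DerSch.stalkFunctor Y y).mapIso e).toLinearEquiv

/-- top degree generators: a map from a finite free module in degree `b` which is surjective on
the stalk of `H^b` at the given point -/
theorem exists_single_hom_epi_stalk (K : DCoh.D Y) (b : ℤ) [K.IsLE b] (y : Y)
    [hfin : Module.Finite (Y.presheaf.stalk y) ((DCoh.HD K b).presheaf.stalk y)] :
    ∃ (U : Y.Opens) (hy : y ∈ U) (k : ℕ)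
      (α : Q.obj ((HomologicalComplex.single (U : Scheme.{u}).Modules (ComplexShape.up ℤ) b).obj
        (freeMod (U : Scheme.{u}) k)) ⟶ (RD U.ι).obj K),
      Epi ((DerSch.stalkFunctor (U : Scheme.{u}) ⟨y, hy⟩).map
        ((homologyFunctor (U : Scheme.{u}).Modules b).map α)) := by
  obtain ⟨F, hF, ⟨e⟩⟩ := K.exists_iso_Q_obj_of_isLE b
  have hd : F.d b (b + 1) = 0 := (F.isZero_of_isStrictlyLE b (b + 1) (by omega)).eq_of_tgt _ _
  haveI : IsIso (F.homologyι b) := F.isIso_homologyι b (b + 1) (by simp) hd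
  have e0 : F.homology b ≅ F.opcycles b := asIso (F.homologyι b)
  have e1 : DCoh.HD K b ≅ F.opcycles b :=
    (homologyFunctor _ b).mapIso e ≪≫ (homologyFunctorFactors _ b).app F ≪≫ e0
  haveI : Module.Finite (Y.presheaf.stalk y) ((F.opcycles b).presheaf.stalk y) :=
    finite_stalk_of_iso e1 y
  have hp : Epi ((DerSch.stalkFunctor Y y).map (F.pOpcycles b)) :=
    (epi_iff_stalk (F.pOpcycles b)).1 inferInstance y
  obtain ⟨U, hy, k, ψ, hψ⟩ := exists_free_hom_epi_stalk (F.pOpcycles b) y hp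
  refine ⟨U, hy, k, ?_⟩
  let Φ := Scheme.Modules.restrictFunctor U.ι
  let F' := (resCx U.ι).obj F
  have hz : IsZero (F'.X (b + 1)) := Φ.map_isZero (F.isZero_of_isStrictlyLE b (b + 1) (by omega))
  have hd' : F'.d b (b + 1) = 0 := hz.eq_of_tgt _ _
  haveI : IsIso (F'.homologyι b) := F'.isIso_homologyι b (b + 1) (by simp) hd'
  let ψ' : freeMod (U : Scheme.{u}) k ⟶ F'.X b := ψ
  have hψ' : ∀ j, (ComplexShape.up ℤ).Rel b j → ψ' ≫ F'.d b j = 0 := by
    intro j hj
    obtain rfl : b + 1 = j := hj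
    rw [hd', comp_zero]
  let g := HomologicalComplex.mkHomFromSingle ψ' hψ'
  refine ⟨Q.map g ≫ (RDfac U.ι F).inv ≫ (RD U.ι).map e.inv, ?_⟩
  let S := (HomologicalComplex.single (U : Scheme.{u}).Modules (ComplexShape.up ℤ) b).obj
    (freeMod (U : Scheme.{u}) k)
  let si : S.homology b ≅ freeMod (U : Scheme.{u}) k :=
    HomologicalComplex.singleObjHomologySelfIso (ComplexShape.up ℤ) b _
  let mo : F'.opcycles b ≅ Φ.obj (F.opcycles b) := (F.sc b).mapOpcyclesIso Φ
  let e0' : F'.homology b ≅ F'.opcycles b := asIso (F'.homologyι b)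
  have h1 : si.inv ≫ HomologicalComplex.homologyMap g b ≫ e0'.hom = ψ' ≫ F'.pOpcycles b :=
    singleIso_inv_homologyMap_homologyι F' b _ ψ' hψ'
  have h2 : F'.pOpcycles b ≫ mo.hom = Φ.map (F.pOpcycles b) := pOpcycles_mapOpcyclesIso Φ F b
  have h3 : HomologicalComplex.homologyMap g b ≫ (e0' ≪≫ mo).hom =
      si.hom ≫ (ψ ≫ Φ.map (F.pOpcycles b)) := by
    rw [← h2, ← cancel_epi si.inv, Iso.inv_hom_id_assoc, Iso.trans_hom, ← Category.assoc,
      ← Category.assoc, Category.assoc si.inv, h1, Category.assoc]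
    rfl
  have h4 : (homologyFunctor (U : Scheme.{u}).Modules b).map (Q.map g) ≫
      ((homologyFunctorFactors (U : Scheme.{u}).Modules b).app F').hom =
      ((homologyFunctorFactors (U : Scheme.{u}).Modules b).app S).hom ≫
        HomologicalComplex.homologyMap g b :=
    (homologyFunctorFactors (U : Scheme.{u}).Modules b).hom.naturality g
  have hE1 : Epi ((DerSch.stalkFunctor (U : Scheme.{u}) ⟨y, hy⟩).map
      (HomologicalComplex.homologyMap g b)) := epi_map_of_sq _ _ _ si (e0' ≪≫ mo) h3 hψ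
  have hE2 : Epi ((DerSch.stalkFunctor (U : Scheme.{u}) ⟨y, hy⟩).map
      ((homologyFunctor (U : Scheme.{u}).Modules b).map (Q.map g))) :=
    epi_map_of_sq _ _ _ _ _ h4 hE1
  rw [Functor.map_comp, Functor.map_comp]
  infer_instance

end Groth.Agent.H4.NT6
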