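import Mathlib
import Groth.Prelude.Def_DerSch
import Groth.Agent.H4.NT5
import Groth.Agent.H4.NT6
import Groth.Agent.H4.FAmp5
import Groth.Agent.H4.PCS8
import Groth.Agent.Lib.Lead.QC.StalkNbhd

set_option autoImplicit false
universe u
attribute [local instance] HasDerivedCategory.standard
open CategoryTheory CategoryTheory.Limits AlgebraicGeometry DerivedCategory Opposite
open Groth.Agent.LD.QC Groth.Agent.H4.FAmp3 Groth.Agent.H4.FAmp5
open Groth.Agent.H4.PSch1 Groth.Agent.H4.PSch2 Groth.Agent.H4.FlatPull1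
open Groth.Agent.H4.NT1 Groth.Agent.H4.NT2 Groth.Agent.H4.NT3 Groth.Agent.H4.NT4
open Groth.Agent.H4.NT5 Groth.Agent.H4.NT6
open Groth.Agent.H4.TilD9 Groth.Agent.H4.TilD10 Groth.Agent.H4.TilD11
open Groth.Agent.H4.PCS4 Groth.Agent.H4.PCS6 Groth.Agent.H4.PCS7 Groth.Agent.H4.PCS8
open Groth.Agent.H4.LDS14 Groth.Agent.H4.LDS17 Groth.Agent.H4.LDS18 Pretriangulated

namespace Groth.Agent.H4.NT7

variable {X X' : Scheme.{u}}

/-- derived restriction to an open is right t-exact -/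
lemma isLE_RD {U : Scheme.{u}} (j : U ⟶ X) [IsOpenImmersion j] (C : DCoh.D X) (b : ℤ)
    [C.IsLE b] : ((RD j).obj C).IsLE b := by
  rw [DerivedCategory.isLE_iff]
  intro q hq
  exact IsZero.of_iso ((Scheme.Modules.restrictFunctor j).map_isZero (isZero_of_isLE C b q hq))
    ((mapDerivedCategoryHomologyIso (Scheme.Modules.restrictFunctor j) q).app C)

lemma isLE_pred_of_isZero (C : DCoh.D X) (b : ℤ) [C.IsLE b]
    (h : IsZero ((homologyFunctor _ b).obj C)) : C.IsLE (b - 1) := by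
  rw [DerivedCategory.isLE_iff]
  intro q hq
  by_cases hqb : q = b
  · subst hqb; exact h
  · exact isZero_of_isLE C b q (by omega)

/-- the top cohomology sheaf has finitely generated stalks -/
theorem finite_stalk_top {n : ℕ} {i : X ⟶ X'} (hi : NilThick n i) [DCoh.HasLpull i]
    (K' : DCoh.D X') (b : ℤ) [K'.IsLE b]
    (hpc : DCoh.IsPseudoCoherentD b ((DCoh.Lpull i).obj K')) (x : X) :
    Module.Finite (X'.presheaf.stalk (i x)) ((DCoh.HD K' b).presheaf.stalk (i x)) := by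
  haveI := isLE_lpull i K' b
  let L := (DCoh.Lpull i).obj K'
  have hH : (DCoh.HD L b).IsFiniteType :=
    (S0890 b L hpc).1 (fun j hj => isZero_of_isLE L b j hj)
  have h1 := finite_stalk_of_isFiniteType (DCoh.HD L b) hH x
  obtain ⟨e⟩ := nonempty_stalk_top_lpull_iso i K' b x
  have h2 : Module.Finite (X.presheaf.stalk x) ((DerSch.stalkFunctor X x).obj (DCoh.HD L b)) := h1
  have h3 : Module.Finite (X.presheaf.stalk x)
      ((ModuleCat.extendScalars.{u, u, u} (i.stalkMap x).hom).obj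
        ((DerSch.stalkFunctor X' (i x)).obj (DCoh.HD K' b))) :=
    Module.Finite.equiv e.toLinearEquiv
  exact finite_of_finite_extendScalars (i.stalkMap x).hom (hi.surj x) n (hi.nil x) _ h3

/-- if the top cohomology sheaf has zero stalk at a point then, near that point, the complex
lives in lower degrees -/
theorem exists_isLE_pred {n : ℕ} {i : X ⟶ X'} (hi : NilThick n i) [DCoh.HasLpull i]
    (C : DCoh.D X') (b : ℤ) [C.IsLE b]
    (hpc : DCoh.IsPseudoCoherentD b ((DCoh.Lpull i).obj C)) (x : X)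
    (hz : Subsingleton ((DCoh.HD C b).presheaf.stalk (i x))) :
    ∃ V' : X'.Opens, i x ∈ V' ∧ ((RD V'.ι).obj C).IsLE (b - 1) := by
  haveI := isLE_lpull i C b
  let L := (DCoh.Lpull i).obj C
  have hH : (DCoh.HD L b).IsFiniteType :=
    (S0890 b L hpc).1 (fun j hj => isZero_of_isLE L b j hj)
  have hstalk : ∀ y : X, Subsingleton ((DCoh.HD L b).presheaf.stalk y) ↔
      Subsingleton ((DCoh.HD C b).presheaf.stalk (i y)) := by
    intro y
    obtain ⟨e⟩ := nonempty_stalk_top_lpull_iso i C b y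
    constructor
    · intro h
      have h1 : IsZero ((DerSch.stalkFunctor X y).obj (DCoh.HD L b)) :=
        @ModuleCat.isZero_of_subsingleton _ _ _ h
      have h2 := isZero_of_isZero_extendScalars (i.stalkMap y).hom (hi.surj y) n (hi.nil y) _
        (h1.of_iso e.symm)
      exact ModuleCat.subsingleton_of_isZero h2
    · intro h
      have h1 : IsZero ((DerSch.stalkFunctor X' (i y)).obj (DCoh.HD C b)) :=
        @ModuleCat.isZero_of_subsingleton _ _ _ h
      have h2 := ((ModuleCat.extendScalars.{u, u, u} (i.stalkMap y).hom).map_isZero h1).of_iso e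
      exact ModuleCat.subsingleton_of_isZero h2
  obtain ⟨V, hxV, hV⟩ := exists_nbhd_stalks_zero (DCoh.HD L b) hH x ((hstalk x).2 hz)
  let V' : X'.Opens := ⟨i '' (V : Set X), hi.homeo.isOpenMap _ V.2⟩
  refine ⟨V', ⟨x, hxV, rfl⟩, ?_⟩
  have hV' : ∀ y' ∈ V', Subsingleton ((DCoh.HD C b).presheaf.stalk y') := by
    rintro _ ⟨y, hy, rfl⟩
    exact (hstalk y).1 (hV y hy)
  have h0 := isZero_restrict_of_stalks (DCoh.HD C b) V' hV'
  haveI := isLE_RD V'.ι C b
  apply isLE_pred_of_isZero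
  exact IsZero.of_iso h0
    ((mapDerivedCategoryHomologyIso (Scheme.Modules.restrictFunctor V'.ι) b).app C)

/-- the cone of a map which is surjective on the stalk of the top cohomology -/
theorem cone_isLE_and_stalk {Y : Scheme.{u}} (T : Triangle (DCoh.D Y)) (hT : T ∈ distTriang _)
    (b : ℤ) [h₁ : T.obj₁.IsLE b] [h₂ : T.obj₂.IsLE b] (y : Y)
    (hepi : Epi ((DerSch.stalkFunctor Y y).map ((homologyFunctor _ b).map T.mor₁))) :
    T.obj₃.IsLE b ∧ Subsingleton ((DCoh.HD T.obj₃ b).presheaf.stalk y) := by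
  have h3 : T.obj₃.IsLE b := by
    have hrot := rot_of_distTriang _ hT
    haveI : (T.obj₁⟦(1 : ℤ)⟧).IsLE (b - 1) := TStructure.t.isLE_shift T.obj₁ b 1 (b - 1) (by omega)
    haveI : (T.obj₁⟦(1 : ℤ)⟧).IsLE b := TStructure.t.isLE_of_le _ (b - 1) b (by omega)
    exact TStructure.t.isLE₂ _ hrot b h₂ this
  refine ⟨h3, ?_⟩
  have hδ : HomologySequence.δ T b (b + 1) rfl = 0 :=
    (isZero_of_isLE T.obj₁ b (b + 1) (by omega)).eq_of_tgt _ _
  haveI : Epi ((homologyFunctor _ b).map T.mor₂) :=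
    (HomologySequence.epi_homologyMap_mor₂_iff T hT b (b + 1) rfl).2 hδ
  haveI hepi2 : Epi ((DerSch.stalkFunctor Y y).map ((homologyFunctor _ b).map T.mor₂)) :=
    (epi_iff_stalk _).1 inferInstance y
  have hzero : (DerSch.stalkFunctor Y y).map ((homologyFunctor _ b).map T.mor₂) = 0 := by
    haveI := hepi
    rw [← cancel_epi ((DerSch.stalkFunctor Y y).map ((homologyFunctor _ b).map T.mor₁)),
      ← Functor.map_comp, ← Functor.map_comp, comp_distTriang_mor_zero₁₂ _ hT, comp_zero,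
      Functor.map_zero, Functor.map_zero]
  have hz : IsZero ((DerSch.stalkFunctor Y y).obj (DCoh.HD T.obj₃ b)) :=
    IsZero.of_epi_eq_zero _ hzero
  exact ModuleCat.subsingleton_of_isZero hz

/-- all-`m` pseudo-coherence -/
def AllPC {Y : Scheme.{u}} (L : DCoh.D Y) : Prop := ∀ (m : ℤ) (y : Y), PCAt m L y

lemma AllPC.of_iso {Y : Scheme.{u}} {L L' : DCoh.D Y} (e : L ≅ L') (h : AllPC L) : AllPC L' :=
  fun m y => PCAt.of_iso e y (h m y)

lemma AllPC.restrict {Y U : Scheme.{u}} (j : U ⟶ Y) [IsOpenImmersion j] {L : DCoh.D Y}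
    (h : AllPC L) : AllPC ((RD j).obj L) :=
  fun m y => PCAt.restrict j L y (h m (j y))

/-- restriction of the hypothesis to an open of the thickening -/
lemma AllPC.lpull_restrict (i : X ⟶ X') [DCoh.HasLpull i] (V' : X'.Opens)
    [DCoh.HasLpull (i ∣_ V')] (K' : DCoh.D X')
    (h : AllPC ((DCoh.Lpull i).obj K')) :
    AllPC ((DCoh.Lpull (i ∣_ V')).obj ((RD V'.ι).obj K')) :=
  (h.restrict (i ⁻¹ᵁ V').ι).of_iso
    ((lpullRestrictIso i (i ⁻¹ᵁ V').ι V'.ι (i ∣_ V') (morphismRestrict_ι i V').symm).app K')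

/-- the derived pullback of the third vertex of a triangle -/
lemma AllPC.lpull_obj₃ (f : X ⟶ X') [DCoh.HasLpull f] (T : Triangle (DCoh.D X'))
    (hT : T ∈ distTriang _) (h₁ : AllPC ((DCoh.Lpull f).obj T.obj₁))
    (h₂ : AllPC ((DCoh.Lpull f).obj T.obj₂)) : AllPC ((DCoh.Lpull f).obj T.obj₃) := by
  obtain ⟨T', hT', e₁, e₂, e₃, -, -⟩ := Groth.Agent.H4.LDS11.exists_distTriang_LG
    (Scheme.Modules.pullback f) adm_skf hasResCx_skf
    (fun E hE hac => acyclic_pullback f E hE hac) _ hT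
  have e₁' : T'.obj₁ ≅ (DCoh.Lpull f).obj T.obj₁ := e₁
  have e₂' : T'.obj₂ ≅ (DCoh.Lpull f).obj T.obj₂ := e₂
  have e₃' : T'.obj₃ ≅ (DCoh.Lpull f).obj T.obj₃ := e₃
  intro m x
  exact PCAt.of_iso e₃' x (PCAt.obj₃ T' hT' m x (PCAt.of_iso e₁'.symm x (h₁ (m + 1) x))
    (PCAt.of_iso e₂'.symm x (h₂ m x)))

end Groth.Agent.H4.NT7
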