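import Mathlib
import Groth.Prelude.Def_DerSch
import Groth.Agent.H4.NT7

set_option autoImplicit false
universe u
attribute [local instance] HasDerivedCategory.standard
open CategoryTheory CategoryTheory.Limits AlgebraicGeometry DerivedCategory Opposite
open Groth.Agent.LD.QC Groth.Agent.H4.FAmp3 Groth.Agent.H4.FAmp5
open Groth.Agent.H4.PSch1 Groth.Agent.H4.PSch2 Groth.Agent.H4.FlatPull1
open Groth.Agent.H4.NT1 Groth.Agent.H4.NT2 Groth.Agent.H4.NT3 Groth.Agent.H4.NT4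
open Groth.Agent.H4.NT5 Groth.Agent.H4.NT6 Groth.Agent.H4.NT7
open Groth.Agent.H4.TilD9 Groth.Agent.H4.TilD10 Groth.Agent.H4.TilD11
open Groth.Agent.H4.PSch5 Groth.Agent.H4.PCS4 Groth.Agent.H4.PCS6 Groth.Agent.H4.PCS7 Groth.Agent.H4.PCS8
open Groth.Agent.H4.LDS14 Groth.Agent.H4.LDS17 Groth.Agent.H4.LDS18 Pretriangulated

namespace Groth.Agent.H4.NT8

variable {X X' : Scheme.{u}}

lemma isStrictlyPerfect_single' (M : X.Modules) (hM : FlatMod.IsFinLocFree M) (b : ℤ) :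
    DCoh.IsStrictlyPerfect ((HomologicalComplex.single X.Modules (ComplexShape.up ℤ) b).obj M) := by
  refine ⟨⟨b, b, fun i hi => ?_⟩, fun i => ?_⟩
  · exact HomologicalComplex.isZero_single_obj_X (ComplexShape.up ℤ) b M i (by omega)
  · by_cases hi : i = b
    · subst hi
      exact isFinLocFree_of_iso (HomologicalComplex.singleObjXSelf (ComplexShape.up ℤ) i M).symm hM
    · exact isFinLocFree_of_isZero
        (HomologicalComplex.isZero_single_obj_X (ComplexShape.up ℤ) b M i hi)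

lemma allPC_single (M : X.Modules) (hM : FlatMod.IsFinLocFree M) (b : ℤ) :
    AllPC (Q.obj ((HomologicalComplex.single X.Modules (ComplexShape.up ℤ) b).obj M)) :=
  fun _ x => PCAt.of_global _ (isStrictlyPerfect_single' M hM b) (𝟙 _) (IsWitD.of_isIso _) x

lemma AllPC.lpull (f : X ⟶ X') [DCoh.HasLpull f] {K : DCoh.D X'} (h : AllPC K) :
    AllPC ((DCoh.Lpull f).obj K) :=
  fun m x => pcAt_lpull f m K x (h m (f.base x))

instance isLE_Q_single (M : X.Modules) (b : ℤ) :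
    (Q.obj ((HomologicalComplex.single X.Modules (ComplexShape.up ℤ) b).obj M)).IsLE b := by
  haveI : CochainComplex.IsStrictlyLE
      (((HomologicalComplex.single X.Modules (ComplexShape.up ℤ) b).obj M :
        CochainComplex X.Modules ℤ)) b := by
    rw [CochainComplex.isStrictlyLE_iff]
    intro i hi
    exact HomologicalComplex.isZero_single_obj_X (ComplexShape.up ℤ) b M i (by omega)
  infer_instance

/-- the inductive statement -/
theorem pcAt_of_nilThick (n : ℕ) (d : ℕ) : ∀ (X X' : Scheme.{u}) (i : X ⟶ X') (_ : NilThick n i)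
    (K' : DCoh.D X') (b m : ℤ), K'.IsLE b → b < m + d →
    AllPC ((@DCoh.Lpull _ _ i (hasLpull i)).obj K') → ∀ x : X, PCAt m K' (i x) := by
  induction d with
  | zero =>
    intro X X' i hi K' b m hb hbm _ x
    haveI : K'.IsLE (m - 1) := TStructure.t.isLE_of_le K' b (m - 1) (by push_cast at hbm; omega)
    exact PCAt.of_isLE m K' (i x)
  | succ d ih =>
    intro X X' i hi K' b m hb hbm hL x
    haveI := hasLpull i
    haveI := hb
    have hLb : DCoh.IsPseudoCoherentD b ((DCoh.Lpull i).obj K') :=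
      (isPseudoCoherentD_iff_pcAt b _).2 (hL b)
    haveI hfin := finite_stalk_top hi K' b hLb x
    obtain ⟨U, hy, k, α, hα⟩ := exists_single_hom_epi_stalk K' b (i x)
    obtain ⟨C, β, δ, hT⟩ := distinguished_cocone_triangle α
    let Tr := Triangle.mk α β δ
    haveI : Tr.obj₂.IsLE b := isLE_RD U.ι K' b
    haveI : Tr.obj₁.IsLE b := isLE_Q_single _ b
    obtain ⟨hC, hz⟩ := cone_isLE_and_stalk Tr hT b ⟨i x, hy⟩ hα
    -- the restricted thickening
    let i₀ := i ∣_ U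
    have hi₀ : NilThick n i₀ := hi.restrict U
    haveI := hasLpull i₀
    let x₀ : ↥(i ⁻¹ᵁ U) := ⟨x, hy⟩
    have hpt : i₀ x₀ = ⟨i x, hy⟩ := Subtype.ext (morphismRestrict_base_coe i U x₀)
    have hA : AllPC Tr.obj₁ := allPC_single _ (isFinLocFree_freeMod _ k) b
    have hLC : AllPC ((DCoh.Lpull i₀).obj C) :=
      AllPC.lpull_obj₃ i₀ Tr hT (AllPC.lpull i₀ hA) (AllPC.lpull_restrict i U K' hL)
    have hLCb : DCoh.IsPseudoCoherentD b ((DCoh.Lpull i₀).obj C) :=
      (isPseudoCoherentD_iff_pcAt b _).2 (hLC b)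
    haveI : C.IsLE b := hC
    have hz' : Subsingleton ((DCoh.HD C b).presheaf.stalk (i₀ x₀)) := by
      rw [hpt]; exact hz
    obtain ⟨V', hxV', hCV'⟩ := exists_isLE_pred hi₀ C b hLCb x₀ hz'
    let i₁ := i₀ ∣_ V'
    have hi₁ : NilThick n i₁ := hi₀.restrict V'
    haveI := hasLpull i₁
    let x₁ : ↥(i₀ ⁻¹ᵁ V') := ⟨x₀, hxV'⟩
    have hLC₁ : AllPC ((DCoh.Lpull i₁).obj ((RD V'.ι).obj C)) :=
      AllPC.lpull_restrict i₀ V' C hLC
    have h3 : PCAt m ((RD V'.ι).obj C) (i₁ x₁) :=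
      ih _ _ i₁ hi₁ ((RD V'.ι).obj C) (b - 1) m hCV' (by push_cast at hbm; omega) hLC₁ x₁
    have hT' := (RD V'.ι).map_distinguished _ hT
    have h1 : PCAt m ((RD V'.ι).obj Tr.obj₁) (i₁ x₁) := (AllPC.restrict V'.ι hA) m _
    have h2 : PCAt m ((RD V'.ι).obj ((RD U.ι).obj K')) (i₁ x₁) :=
      PCAt.obj₂ _ hT' m _ h1 h3
    have h4 := PCAt.of_restrict U.ι K' _ (PCAt.of_restrict V'.ι _ _ h2)
    have hpt2 : U.ι (V'.ι (i₁ x₁)) = i x := by
      have e1 : (V'.ι (i₁ x₁)) = i₀ x₀ := morphismRestrict_base_coe i₀ V' x₁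
      rw [e1, hpt]
      rfl
    rw [hpt2] at h4
    exact h4

/-- pseudo-coherence of the pullback bounds the complex above, locally -/
theorem exists_isLE_nbhd {n : ℕ} {i : X ⟶ X'} (hi : NilThick n i) [DCoh.HasLpull i]
    (K' : DCoh.D X') (hL : AllPC ((DCoh.Lpull i).obj K')) (x : X) :
    ∃ (V' : X'.Opens) (b : ℤ), i x ∈ V' ∧ ((RD V'.ι).obj K').IsLE b := by
  let L := (DCoh.Lpull i).obj K'
  obtain ⟨U, j, hj, E, α, ⟨u₀, hu₀⟩, ⟨⟨a, b₀, hv⟩, -⟩, hα⟩ := hL 0 x
  let b := max b₀ 0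
  have hst : ∀ q : ℤ, b < q → ∀ u : U, Subsingleton ((DCoh.HD L q).presheaf.stalk (j u)) := by
    intro q hq u
    have hq0 : 0 < q := lt_of_le_of_lt (le_max_right b₀ 0) hq
    have hqb : b₀ < q := lt_of_le_of_lt (le_max_left b₀ 0) hq
    haveI := hα.1 q hq0
    have h1 : IsZero ((homologyFunctor _ q).obj (Q.obj E)) := by
      refine IsZero.of_iso ?_ ((homologyFunctorFactors _ q).app E)
      exact ShortComplex.isZero_homology_of_isZero_X₂ _ (hv q (Or.inr hqb))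
    have h2 : IsZero ((homologyFunctor _ q).obj ((RD j).obj L)) :=
      h1.of_iso (asIso ((homologyFunctor _ q).map α)).symm
    have h3 : IsZero ((Scheme.Modules.restrictFunctor j).obj (DCoh.HD L q)) :=
      h2.of_iso ((mapDerivedCategoryHomologyIso (Scheme.Modules.restrictFunctor j) q).app L).symm
    have h4 : IsZero ((DerSch.stalkFunctor U u).obj ((DCoh.HD L q).restrict j)) :=
      (DerSch.stalkFunctor U u).map_isZero h3
    haveI h5 : Subsingleton (((DCoh.HD L q).restrict j).presheaf.stalk u) :=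
      ModuleCat.subsingleton_of_isZero h4
    exact (stalkRestrictAddEquiv j (DCoh.HD L q) u).symm.subsingleton
  let V' : X'.Opens := ⟨i '' (Set.range j), hi.homeo.isOpenMap _ j.isOpenEmbedding.isOpen_range⟩
  refine ⟨V', b, ⟨x, ⟨u₀, hu₀⟩, rfl⟩, ?_⟩
  let i₀ := i ∣_ V'
  haveI := hasLpull i₀
  apply isLE_of_isLE_lpull (hi.restrict V') ((RD V'.ι).obj K') b
  have e := (lpullRestrictIso i (i ⁻¹ᵁ V').ι V'.ι (i ∣_ V') (morphismRestrict_ι i V').symm).app K'
  suffices h : ((RD (i ⁻¹ᵁ V').ι).obj L).IsLE b by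
    haveI : ((DCoh.Lpull i ⋙ RD (i ⁻¹ᵁ V').ι).obj K').IsLE b := h
    exact TStructure.t.isLE_of_iso e b
  rw [DerivedCategory.isLE_iff]
  intro q hq
  refine IsZero.of_iso ?_
    ((mapDerivedCategoryHomologyIso (Scheme.Modules.restrictFunctor (i ⁻¹ᵁ V').ι) q).app L)
  apply isZero_restrict_of_stalks
  rintro y ⟨z, ⟨u, rfl⟩, hz⟩
  have : j u = y := hi.homeo.injective hz
  rw [← this]
  exact hst q hq u

theorem S7231 {X X' : Scheme.{u}} (i : X ⟶ X')
    (hi : MoreMor.IsFiniteOrderThickening i) [DCoh.HasLpull i] (K' : DCoh.D X')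
    (hK : ∀ m : ℤ, DCoh.IsPseudoCoherentD m ((DCoh.Lpull i).obj K')) (m : ℤ) :
    DCoh.IsPseudoCoherentD m K' := by
  obtain ⟨n, hn⟩ := exists_nilThick i hi
  rw [isPseudoCoherentD_iff_pcAt]
  intro x'
  obtain ⟨x, rfl⟩ := hn.homeo.surjective x'
  have hL : AllPC ((DCoh.Lpull i).obj K') := fun m' => (isPseudoCoherentD_iff_pcAt m' _).1 (hK m')
  obtain ⟨V', b, hxV', hb⟩ := exists_isLE_nbhd hn K' hL x
  let i₀ := i ∣_ V'
  haveI := hasLpull i₀
  let x₀ : ↥(i ⁻¹ᵁ V') := ⟨x, hxV'⟩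
  have h1 : PCAt m ((RD V'.ι).obj K') (i₀ x₀) :=
    pcAt_of_nilThick n (b - m + 1).toNat _ _ i₀ (hn.restrict V') _ b m hb
      (by have := Int.self_le_toNat (b - m + 1); omega)
      (AllPC.lpull_restrict i V' K' hL) x₀
  have h2 := PCAt.of_restrict V'.ι K' _ h1
  have hpt : V'.ι (i₀ x₀) = i x := morphismRestrict_base_coe i V' x₀
  rw [hpt] at h2
  exact h2

end Groth.Agent.H4.NT8
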