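import Mathlib
set_option autoImplicit false
universe u
open CategoryTheory TensorProduct

namespace Groth.Agent.H4.NT9

section A0
variable {R : Type u} [CommRing R] {S : Type u} [CommRing S] [Algebra R S]

/-- an element killed in `S ⊗ M` lies in `(ker σ) M` -/
lemma mem_smul_top_of_tmul_eq_zero (hσ : Function.Surjective (algebraMap R S)) (M : Type u)
    [AddCommGroup M] [Module R M] (m : M)
    (h : (1 : S) ⊗ₜ[R] m = 0) :
    m ∈ RingHom.ker (algebraMap R S) • (⊤ : Submodule R M) := by
  let J := RingHom.ker (algebraMap R S)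
  have hex : Function.Exact (Submodule.subtype (J.restrictScalars R)) (Algebra.linearMap R S) := by
    intro r
    constructor
    · intro hr
      exact ⟨⟨r, hr⟩, rfl⟩
    · rintro ⟨⟨a, ha⟩, rfl⟩
      exact ha
  have hex2 := rTensor_exact M hex (fun s => hσ s)
  have h0 : (Algebra.linearMap R S).rTensor M ((1 : R) ⊗ₜ[R] m) = 0 := by
    simpa using h
  obtain ⟨z, hz⟩ := (hex2 _).1 h0
  have h1 : TensorProduct.lid R M (((Submodule.subtype (J.restrictScalars R)).rTensor M) z) = m := by
    rw [hz]; simp
  rw [← h1]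
  clear h1 hz
  induction z using TensorProduct.induction_on with
  | zero => simp
  | tmul a x =>
    simp only [LinearMap.rTensor_tmul, Submodule.subtype_apply, TensorProduct.lid_tmul]
    exact Submodule.smul_mem_smul a.2 trivial
  | add x y hx hy =>
    rw [map_add, map_add]
    exact Submodule.add_mem _ (hx) (hy)

end A0

section A1

variable (B' B A₀' A₀ : Type u) [CommRing B'] [CommRing B] [CommRing A₀'] [CommRing A₀]
  [Algebra B' B] [Algebra B' A₀'] [Algebra B' A₀] [Algebra B A₀] [Algebra A₀' A₀]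
  [IsScalarTower B' B A₀] [IsScalarTower B' A₀' A₀] [Algebra.IsPushout B' B A₀' A₀]

include B in
/-- in a pushout square with one leg surjective, the opposite leg is surjective -/
lemma surjective_of_isPushout (hσ : Function.Surjective (algebraMap B' B)) :
    Function.Surjective (algebraMap A₀' A₀) := by
  intro a
  obtain ⟨z, rfl⟩ := (Algebra.IsPushout.equiv B' B A₀' A₀).surjective a
  induction z using TensorProduct.induction_on with
  | zero => exact ⟨0, by simp⟩
  | tmul s x =>
    obtain ⟨b, rfl⟩ := hσ s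
    refine ⟨algebraMap B' A₀' b * x, ?_⟩
    rw [Algebra.IsPushout.equiv_tmul, map_mul, ← IsScalarTower.algebraMap_apply,
      ← IsScalarTower.algebraMap_apply]
  | add x y hx hy =>
    obtain ⟨x', hx'⟩ := hx
    obtain ⟨y', hy'⟩ := hy
    exact ⟨x' + y', by rw [map_add, map_add, hx', hy']⟩

include B in
/-- in a pushout square with one leg surjective, the kernel of the opposite leg is the extension
of the kernel -/
lemma ker_le_of_isPushout (hσ : Function.Surjective (algebraMap B' B)) :
    RingHom.ker (algebraMap A₀' A₀) ≤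
      Ideal.map (algebraMap B' A₀') (RingHom.ker (algebraMap B' B)) := by
  intro a ha
  have h1 : (Algebra.IsPushout.equiv B' B A₀' A₀) ((1 : B) ⊗ₜ[B'] a) = 0 := by
    rw [Algebra.IsPushout.equiv_tmul, map_one, one_mul]
    exact ha
  have h2 : (1 : B) ⊗ₜ[B'] a = 0 := by
    apply (Algebra.IsPushout.equiv B' B A₀' A₀).injective
    rw [h1, map_zero]
  have h3 := mem_smul_top_of_tmul_eq_zero hσ A₀' a h2
  refine Submodule.smul_induction_on h3 ?_ ?_
  · intro r hr x _
    rw [Algebra.smul_def]
    exact Ideal.mul_mem_right _ _ (Ideal.mem_map_of_mem _ hr)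
  · intro x y hx hy
    exact Ideal.add_mem _ hx hy

end A1

section L1

/-- the kernel of a localized map is the extension of the kernel -/
lemma ker_le_map_of_localization {R' R A' A : Type u} [CommRing R'] [CommRing R] [CommRing A']
    [CommRing A]
    (φ : R' →+* R) (hφ : Function.Surjective φ)
    (g' : R' →+* A') (g : R →+* A) (σ : A' →+* A) (hσ : σ.comp g' = g.comp φ)
    [IsLocalHom σ]
    (loc' : ∀ a : A', ∃ s t : R', IsUnit (g' t) ∧ a * g' t = g' s)
    (loc : ∀ r : R, g r = 0 → ∃ u : R, IsUnit (g u) ∧ u * r = 0) :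
    RingHom.ker σ ≤ Ideal.map g' (RingHom.ker φ) := by
  intro a ha
  obtain ⟨s, t, ht, hst⟩ := loc' a
  have hc : ∀ z, σ (g' z) = g (φ z) := fun z => by
    have := congrArg (fun ψ : R' →+* A => ψ z) hσ
    simpa using this
  have h0 : g (φ s) = 0 := by
    rw [← hc, ← hst, map_mul, RingHom.mem_ker.1 ha, zero_mul]
  obtain ⟨u, hu, hus⟩ := loc (φ s) h0
  obtain ⟨v, rfl⟩ := hφ u
  have hv : IsUnit (g' v) := by
    apply isUnit_of_map_unit σ
    rw [hc]; exact hu
  have hvs : g' (v * s) ∈ Ideal.map g' (RingHom.ker φ) := by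
    apply Ideal.mem_map_of_mem
    rw [RingHom.mem_ker, map_mul]; exact hus
  have h2 : a * (g' t * g' v) = g' (v * s) := by
    rw [← mul_assoc, hst, map_mul, mul_comm]
  have h3 : a * (g' t * g' v) ∈ Ideal.map g' (RingHom.ker φ) := by rw [h2]; exact hvs
  exact (Ideal.mul_unit_mem_iff_mem _ (ht.mul hv)).1 h3

end L1

section QuotPO

variable (R' R A' A : Type u) [CommRing R'] [CommRing R] [CommRing A'] [CommRing A]
  [Algebra R' R] [Algebra R' A'] [Algebra R' A] [Algebra R A] [Algebra A' A]
  [IsScalarTower R' R A] [IsScalarTower R' A' A]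

/-- a square with surjective legs whose kernels correspond is a pushout -/
theorem isPushout_of_surjective_of_ker_le (hσ : Function.Surjective (algebraMap R' R))
    (hα : Function.Surjective (algebraMap A' A))
    (hker : RingHom.ker (algebraMap A' A) ≤
      Ideal.map (algebraMap R' A') (RingHom.ker (algebraMap R' R))) :
    Algebra.IsPushout R' R A' A := by
  let f : A' →ₗ[R'] A := (IsScalarTower.toAlgHom R' A' A).toLinearMap
  let L : R ⊗[R'] A' →ₗ[R] A := f.liftBaseChange R
  have hL : ∀ (r : R) (a : A'), L (r ⊗ₜ a) = r • algebraMap A' A a := fun r a => by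
    simp [L, f]
  have hone : ∀ z : R ⊗[R'] A', ∃ a : A', z = (1 : R) ⊗ₜ[R'] a := by
    intro z
    induction z using TensorProduct.induction_on with
    | zero => exact ⟨0, by simp⟩
    | tmul r a =>
      obtain ⟨r', rfl⟩ := hσ r
      refine ⟨r' • a, ?_⟩
      rw [TensorProduct.tmul_smul, TensorProduct.smul_tmul', Algebra.smul_def, mul_one]
    | add x y hx hy =>
      obtain ⟨a, rfl⟩ := hx
      obtain ⟨b, rfl⟩ := hy
      exact ⟨a + b, by rw [TensorProduct.tmul_add]⟩
  have hinj : Function.Injective L := by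
    rw [injective_iff_map_eq_zero]
    intro z hz
    obtain ⟨a, rfl⟩ := hone z
    rw [hL, one_smul] at hz
    have ha : a ∈ Ideal.map (algebraMap R' A') (RingHom.ker (algebraMap R' R)) := hker hz
    rw [Ideal.map] at ha
    refine Submodule.span_induction ?_ ?_ ?_ ?_ ha
    · rintro _ ⟨k, hk, rfl⟩
      have : (1 : R) ⊗ₜ[R'] (algebraMap R' A' k) = (algebraMap R' R k) ⊗ₜ[R'] (1 : A') := by
        rw [Algebra.algebraMap_eq_smul_one, Algebra.algebraMap_eq_smul_one,
          TensorProduct.tmul_smul, TensorProduct.smul_tmul']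
      rw [this, RingHom.mem_ker.1 hk, TensorProduct.zero_tmul]
    · simp
    · intro x y _ _ hx hy
      rw [TensorProduct.tmul_add, hx, hy, add_zero]
    · intro c x _ hx
      obtain ⟨w, hw⟩ := hone ((1 : R) ⊗ₜ[R'] x)
      -- multiplication by `c` on the right factor is a linear endomorphism
      let μ : A' →ₗ[R'] A' := LinearMap.mulLeft R' c
      have : (1 : R) ⊗ₜ[R'] (c • x) = (LinearMap.lTensor R μ) ((1 : R) ⊗ₜ[R'] x) := by
        simp [μ]
      rw [this, hx, map_zero]
  have hsurj : Function.Surjective L := by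
    intro a
    obtain ⟨a', rfl⟩ := hα a
    exact ⟨(1 : R) ⊗ₜ a', by rw [hL, one_smul]⟩
  refine ⟨IsBaseChange.of_equiv (LinearEquiv.ofBijective L ⟨hinj, hsurj⟩) ?_⟩
  intro x
  change L ((1 : R) ⊗ₜ x) = _
  rw [hL, one_smul]
  rfl

end QuotPO

end Groth.Agent.H4.NT9
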