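import Mathlib
import Groth.Prelude.Def_DerSch
import Groth.Prelude.Def_DTor2
import Groth.Prelude.Def_DCoh4
import Groth.Agent.H4.RTBC1
import Groth.Agent.H4.RelTor9
import Groth.Agent.H4.LDS16
import Groth.Agent.H4.LDS18
import Groth.Agent.Lib.Lead.QC.FlatBC

set_option autoImplicit false
universe u
open CategoryTheory CategoryTheory.Limits AlgebraicGeometry MonoidalCategory
attribute [local instance] HasDerivedCategory.standard

namespace Groth.Agent.H4.RTBC2

open Groth.Agent.H4.TorAmp DRing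
open Groth.Agent.H4.TC3 Groth.Agent.H4.TC4 Groth.Agent.H4.RelTor3 Groth.Agent.H4.LK6
open Groth.Agent.H4.TA1 Groth.Agent.H4.TA2 Groth.Agent.H4.TA3
open Groth.Agent.H4.SPt6 Groth.Agent.H4.LDS14 Groth.Agent.H4.LDS15
  Groth.Agent.H4.RelTor5 Groth.Agent.H4.RelTor8 Groth.Agent.H4.RTBC1
open Groth.Agent.LD.QC

variable {X S X' S' : Scheme.{u}} {f : X ⟶ S} {f' : X' ⟶ S'} {g' : X' ⟶ X} {g : S' ⟶ S}

set_option maxHeartbeats 1600000 in
/-- base change of relative tor amplitude at a point, for stalkwise K-flat complexes -/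
theorem hasTorAmplitudeAt_pull_of_isPullback (hc : IsPullback g' f' f g) (hfl : Flat f ∨ Flat g)
    (F : CochainComplex X.Modules ℤ) (hF : SKF F) (a b : ℤ) (x' : X')
    (h : DerSch.HasTorAmplitudeAt f a b F (g' x')) :
    DerSch.HasTorAmplitudeAt f' a b ((pullCx g').obj F) x' := by
  obtain ⟨W, W', U, U', hW'W, hUW, e1, e2, hW, hW', hU, hU', hx', hpo⟩ :=
    exists_affine_pushout_chart hc x'
  have hxU : g' x' ∈ U := e1 hx'
  have hsW' : f' x' ∈ W' := e2 hx'
  have hsW : f (g' x') ∈ W := hUW hxU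
  letI aRR' : Algebra Γ(S, W) Γ(S', W') := (g.appLE W W' hW'W).hom.toAlgebra
  letI aRT : Algebra Γ(S, W) Γ(X, U) := (f.appLE W U hUW).hom.toAlgebra
  letI aR'T' : Algebra Γ(S', W') Γ(X', U') := (f'.appLE W' U' e2).hom.toAlgebra
  letI aTT' : Algebra Γ(X, U) Γ(X', U') := (g'.appLE U U' e1).hom.toAlgebra
  letI aRT' : Algebra Γ(S, W) Γ(X', U') :=
    ((g'.appLE U U' e1).hom.comp (f.appLE W U hUW).hom).toAlgebra
  haveI t1 : IsScalarTower Γ(S, W) Γ(X, U) Γ(X', U') := IsScalarTower.of_algebraMap_eq fun _ => rfl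
  haveI t2 : IsScalarTower Γ(S, W) Γ(S', W') Γ(X', U') := IsScalarTower.of_algebraMap_eq fun r => by
    have := congr($(hpo.w) r)
    exact this
  haveI hPO : Algebra.IsPushout Γ(S, W) Γ(S', W') Γ(X, U) Γ(X', U') :=
    CommRingCat.isPushout_iff_isPushout.mp hpo.flip
  -- ring maps
  let lam : Γ(X, U) →+* X.presheaf.stalk (g' x') := (X.presheaf.germ U (g' x') hxU).hom
  let lam' : Γ(X', U') →+* X'.presheaf.stalk x' := (X'.presheaf.germ U' x' hx').hom
  let γ : Γ(S, W) →+* S.presheaf.stalk (f (g' x')) := (S.presheaf.germ W (f (g' x')) hsW).hom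
  let γ' : Γ(S', W') →+* S'.presheaf.stalk (f' x') := (S'.presheaf.germ W' (f' x') hsW').hom
  let α : X.presheaf.stalk (g' x') →+* X'.presheaf.stalk x' := (g'.stalkMap x').hom
  let φ : S.presheaf.stalk (f (g' x')) →+* X.presheaf.stalk (g' x') := (f.stalkMap (g' x')).hom
  let φ' : S'.presheaf.stalk (f' x') →+* X'.presheaf.stalk x' := (f'.stalkMap x').hom
  have hα : α.comp lam = lam'.comp (algebraMap Γ(X, U) Γ(X', U')) := by
    ext t
    exact stalkMap_germ_appLE g' e1 x' hx' t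
  have hχ : lam.comp (algebraMap Γ(S, W) Γ(X, U)) = φ.comp γ := by
    ext t
    exact (stalkMap_germ_appLE f hUW (g' x') hxU t).symm
  have hχ' : lam'.comp (algebraMap Γ(S', W') Γ(X', U')) = φ'.comp γ' := by
    ext t
    exact (stalkMap_germ_appLE f' e2 x' hx' t).symm
  have hlam : @IsLocalization Γ(X, U) _ (hU.primeIdealOf ⟨g' x', hxU⟩).asIdeal.primeCompl
      (X.presheaf.stalk (g' x')) _ lam.toAlgebra := hU.isLocalization_stalk ⟨g' x', hxU⟩
  have hlam'0 : @IsLocalization Γ(X', U') _ (hU'.primeIdealOf ⟨x', hx'⟩).asIdeal.primeCompl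
      (X'.presheaf.stalk x') _ lam'.toAlgebra := hU'.isLocalization_stalk ⟨x', hx'⟩
  have hγ0 : @IsLocalization Γ(S, W) _ (hW.primeIdealOf ⟨f (g' x'), hsW⟩).asIdeal.primeCompl
      (S.presheaf.stalk (f (g' x'))) _ γ.toAlgebra := hW.isLocalization_stalk ⟨f (g' x'), hsW⟩
  have hγ' : @IsLocalization Γ(S', W') _ (hW'.primeIdealOf ⟨f' x', hsW'⟩).asIdeal.primeCompl
      (S'.presheaf.stalk (f' x')) _ γ'.toAlgebra := hW'.isLocalization_stalk ⟨f' x', hsW'⟩
  have hlam' : Module.Flat Γ(X', U') (Ares lam') := by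
    letI := lam'.toAlgebra
    haveI := hlam'0
    exact flat_ares_of_isLocalization Γ(X', U') (hU'.primeIdealOf ⟨x', hx'⟩).asIdeal.primeCompl (X'.presheaf.stalk x')
  have hγ : Module.Flat Γ(S, W) (Ares γ) := by
    letI := γ.toAlgebra
    haveI := hγ0
    exact flat_ares_of_isLocalization Γ(S, W) (hW.primeIdealOf ⟨f (g' x'), hsW⟩).asIdeal.primeCompl (S.presheaf.stalk (f (g' x')))
  have htor : Module.Flat Γ(S, W) Γ(X, U) ∨ Module.Flat Γ(S, W) Γ(S', W') := by
    rcases hfl with hfl | hfl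
    · exact Or.inl ((RingHom.flat_algebraMap_iff).1 (Flat.flat_appLE f hW hU hUW))
    · exact Or.inr ((RingHom.flat_algebraMap_iff).1 (Flat.flat_appLE g hW hW' hW'W))
  let K : DRing.Cx (X.presheaf.stalk (g' x')) := (stalkCx (g' x')).obj F
  have hK : KFlat K := hF (g' x')
  -- input
  have h1 : HasTorAmplitudeIn Γ(S, W) a b
      (toD ((DTen.resCx (lam.comp (algebraMap Γ(S, W) Γ(X, U)))).obj K)) := by
    have h0 : HasTorAmplitudeIn Γ(S, W) a b
        (toD ((DTen.resCx γ).obj ((DTen.resCx φ).obj K))) :=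
      hasTorAmp_res_of_flat γ hγ _ a b h
    exact (hasTorAmp_iff_of_iso (DerivedCategory.Q.mapIso (resCxCompIso γ φ _ hχ K))).1 h0
  have h2 := hasTorAmp_bc_chart Γ(S, W) Γ(S', W') Γ(X, U) Γ(X', U') lam lam' α hα _ hlam hlam'
    htor K hK a b h1
  -- output
  refine hasTorAmp_of_res_isLocalization γ' _ hγ' _ a b ?_
  let Z : DRing.Cx (X'.presheaf.stalk x') := (stalkCx x').obj ((pullCx g').obj F)
  have e3 : (DTen.resCx γ').obj ((DTen.resCx φ').obj Z) ≅
      (DTen.resCx (lam'.comp (algebraMap Γ(S', W') Γ(X', U')))).obj ((DTen.extCx α).obj K) :=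
    resCxCompIso γ' φ' _ hχ' Z ≪≫ (DTen.resCx _).mapIso (stalkPullCxIso g' x' F)
  exact (hasTorAmp_iff_of_iso (DerivedCategory.Q.mapIso e3)).2 h2

/-- derived-category version: base change of relative tor amplitude at a point -/
theorem hasTorAmplitudeAt_lpull_of_isPullback (hc : IsPullback g' f' f g) (hfl : Flat f ∨ Flat g)
    [DCoh.HasLpull g'] (F : CochainComplex X.Modules ℤ) (a b : ℤ) (x' : X')
    (h : DerSch.HasTorAmplitudeAt f a b F (g' x'))
    (F' : CochainComplex X'.Modules ℤ)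
    (e : DCoh.toD X' F' ≅ (DCoh.Lpull g').obj (DCoh.toD X F)) :
    DerSch.HasTorAmplitudeAt f' a b F' x' := by
  obtain ⟨N, c, hcq, hN, -⟩ := exists_skf_resolution F
  haveI := hcq
  have e0 : DCoh.toD X N ≅ DCoh.toD X F := asIso (DerivedCategory.Q.map c)
  have hN' : DerSch.HasTorAmplitudeAt f a b N (g' x') :=
    Groth.Agent.H4.RelTor9.hasTorAmplitudeAt_of_isoD f _ e0.symm a b h
  have h1 := hasTorAmplitudeAt_pull_of_isPullback hc hfl N hN a b x' hN'
  exact Groth.Agent.H4.RelTor9.hasTorAmplitudeAt_of_isoD f' x'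
    ((Groth.Agent.H4.LDS16.lpullObjIso g' N hN).symm ≪≫ (DCoh.Lpull g').mapIso e0 ≪≫ e.symm)
    a b h1

theorem S6189 {X Y Y' : Scheme.{u}} (f : X ⟶ Y) (h : Y' ⟶ Y) [Flat h]
    [DCoh.HasLpull (pullback.fst f h)] (F : CochainComplex X.Modules ℤ) (a b : ℤ)
    (hF : DerSch.HasTorAmplitude f a b F) :
    DerSch.HasTorAmplitudeD (pullback.snd f h) a b
      ((DCoh.Lpull (pullback.fst f h)).obj (DCoh.toD X F)) := by
  intro F' ⟨e⟩ x'
  exact hasTorAmplitudeAt_lpull_of_isPullback (IsPullback.of_hasPullback f h)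
    (Or.inr inferInstance) F a b x' (hF _) F' e

theorem S1100 {X S S' : Scheme.{u}} (f : X ⟶ S) [Flat f] [LocallyOfFinitePresentation f]
    (g : S' ⟶ S) [DCoh.HasLpull (pullback.fst f g)] (K : DCoh.D X)
    (hK : ((∀ m : ℤ, DCoh.IsPseudoCoherentD m K) ∧ DCoh.LocHasFiniteRelTorDim f K)) :
    ((∀ m : ℤ, DCoh.IsPseudoCoherentD m ((DCoh.Lpull (pullback.fst f g)).obj K)) ∧
      DCoh.LocHasFiniteRelTorDim (pullback.snd f g) ((DCoh.Lpull (pullback.fst f g)).obj K)) := by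
  refine ⟨fun m => Groth.Agent.H4.LDS18.S0910 _ m K (hK.1 m), ?_⟩
  rw [Groth.Agent.H4.RelTor9.locHasFiniteRelTorDim_iff]
  have h0 := (Groth.Agent.H4.RelTor9.locHasFiniteRelTorDim_iff f K).1 hK.2
  intro x'
  obtain ⟨V, a, b, hxV, hV⟩ := h0 ((pullback.fst f g) x')
  refine ⟨(pullback.fst f g) ⁻¹ᵁ V, a, b, hxV, fun v' hv' => ?_⟩
  let F : CochainComplex X.Modules ℤ := DerivedCategory.Q.objPreimage K
  let e : DCoh.toD X F ≅ K := DerivedCategory.Q.objObjPreimageIso K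
  let F' : CochainComplex (pullback f g).Modules ℤ :=
    DerivedCategory.Q.objPreimage ((DCoh.Lpull (pullback.fst f g)).obj K)
  let e' : DCoh.toD _ F' ≅ (DCoh.Lpull (pullback.fst f g)).obj K :=
    DerivedCategory.Q.objObjPreimageIso _
  have h1 : DerSch.HasTorAmplitudeAt f a b F ((pullback.fst f g) v') := by
    rw [Groth.Agent.H4.RelTor9.hasTorAmplitudeAt_iff_relStalkD]
    exact hasTorAmp_of_iso ((Groth.Agent.H4.RelTor9.relStalkD f _).mapIso e.symm) (hV _ hv')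
  have h2 := hasTorAmplitudeAt_lpull_of_isPullback (IsPullback.of_hasPullback f g)
    (Or.inl inferInstance) F a b v' h1 F' (e' ≪≫ (DCoh.Lpull (pullback.fst f g)).mapIso e.symm)
  rw [Groth.Agent.H4.RelTor9.hasTorAmplitudeAt_iff_relStalkD] at h2
  exact hasTorAmp_of_iso ((Groth.Agent.H4.RelTor9.relStalkD (pullback.snd f g) _).mapIso e') h2

end Groth.Agent.H4.RTBC2
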