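import Mathlib
import Groth.Prelude.Def_DerSch
import Groth.Agent.H4.NT8
import Groth.Agent.H4.NT9
import Groth.Agent.H4.NT10
import Groth.Agent.H4.RTBC2
import Groth.Agent.Lib.Lead.QC.FlatBC

set_option autoImplicit false
universe u
open CategoryTheory CategoryTheory.Limits AlgebraicGeometry
attribute [local instance] HasDerivedCategory.standard

namespace Groth.Agent.H4.NT11

open Groth.Agent.H4.NT1 Groth.Agent.H4.NT9 Groth.Agent.LD.QC

variable {X X' Y Y' : Scheme.{u}} {f : X ⟶ Y} {f' : X' ⟶ Y'} {i : X ⟶ X'} {j : Y ⟶ Y'}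

/-- affine chart around a point of the base change of a closed immersion -/
theorem exists_chart (sq : IsPullback i f f' j) [IsAffineHom j] (x : X) :
    ∃ (W : Y'.Opens) (U : X'.Opens) (U' : X.Opens) (hUW : U ≤ f' ⁻¹ᵁ W)
      (e1 : U' ≤ i ⁻¹ᵁ U) (e2 : U' ≤ f ⁻¹ᵁ (j ⁻¹ᵁ W)),
      IsAffineOpen W ∧ IsAffineOpen (j ⁻¹ᵁ W) ∧ IsAffineOpen U ∧ IsAffineOpen U' ∧ x ∈ U' ∧
      IsPushout (f'.appLE W U hUW) (j.appLE W (j ⁻¹ᵁ W) le_rfl) (i.appLE U U' e1)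
        (f.appLE (j ⁻¹ᵁ W) U' e2) := by
  have hpt : j (f x) = f' (i x) := by
    have := congr($(sq.w) x)
    simpa using this.symm
  obtain ⟨W, hW, hsW, -⟩ := exists_isAffineOpen_mem_and_subset (x := f' (i x)) (U := ⊤) trivial
  have hW' : IsAffineOpen (j ⁻¹ᵁ W) := hW.preimage j
  obtain ⟨U, hU, hxU, hUW⟩ := exists_isAffineOpen_mem_and_subset (x := i x) (U := f' ⁻¹ᵁ W) hsW
  have hx' : x ∈ i ⁻¹ᵁ U ⊓ f ⁻¹ᵁ (j ⁻¹ᵁ W) := ⟨hxU, by change j (f x) ∈ W; rw [hpt]; exact hsW⟩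
  have hU' : IsAffineOpen (i ⁻¹ᵁ U ⊓ f ⁻¹ᵁ (j ⁻¹ᵁ W)) := by
    haveI : IsAffine _ := hW
    haveI : IsAffine _ := hW'
    haveI : IsAffine _ := hU
    exact .of_isIso (Scheme.Hom.isPullback_resLE sq le_rfl hUW rfl).isoPullback.hom
  have hpo := (isIso_pushoutSection_iff sq le_rfl hUW rfl).mp
    (isIso_pushoutSection_of_isAffineOpen sq le_rfl hUW rfl hW hW' hU)
  exact ⟨W, U, _, hUW, inf_le_left, inf_le_right, hW, hW', hU, hU', hx', hpo⟩

/-- the kernel of the stalk map of the base change of a closed immersion is generated by the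
kernel on the chart of the base -/
theorem ker_stalkMap_le [IsClosedImmersion j] (x : X)
    (W : Y'.Opens) (U : X'.Opens) (U' : X.Opens) (hUW : U ≤ f' ⁻¹ᵁ W)
    (e1 : U' ≤ i ⁻¹ᵁ U) (e2 : U' ≤ f ⁻¹ᵁ (j ⁻¹ᵁ W))
    (hW : IsAffineOpen W) (hU : IsAffineOpen U) (hU' : IsAffineOpen U') (hx : x ∈ U')
    (hpo : IsPushout (f'.appLE W U hUW) (j.appLE W (j ⁻¹ᵁ W) le_rfl) (i.appLE U U' e1)
        (f.appLE (j ⁻¹ᵁ W) U' e2)) :
    Function.Surjective (i.appLE U U' e1).hom ∧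
    RingHom.ker (i.stalkMap x).hom ≤
      Ideal.map ((X'.presheaf.germ U (i x) (e1 hx)).hom.comp (f'.appLE W U hUW).hom)
        (RingHom.ker (j.appLE W (j ⁻¹ᵁ W) le_rfl).hom) := by
  letI aB'B : Algebra Γ(Y', W) Γ(Y, j ⁻¹ᵁ W) := (j.appLE W (j ⁻¹ᵁ W) le_rfl).hom.toAlgebra
  letI aB'A' : Algebra Γ(Y', W) Γ(X', U) := (f'.appLE W U hUW).hom.toAlgebra
  letI aBA : Algebra Γ(Y, j ⁻¹ᵁ W) Γ(X, U') := (f.appLE (j ⁻¹ᵁ W) U' e2).hom.toAlgebra
  letI aA'A : Algebra Γ(X', U) Γ(X, U') := (i.appLE U U' e1).hom.toAlgebra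
  letI aB'A : Algebra Γ(Y', W) Γ(X, U') :=
    ((i.appLE U U' e1).hom.comp (f'.appLE W U hUW).hom).toAlgebra
  haveI t1 : IsScalarTower Γ(Y', W) Γ(X', U) Γ(X, U') := IsScalarTower.of_algebraMap_eq fun _ => rfl
  haveI t2 : IsScalarTower Γ(Y', W) Γ(Y, j ⁻¹ᵁ W) Γ(X, U') :=
    IsScalarTower.of_algebraMap_eq fun r => by
      have := congr($(hpo.w) r)
      exact this
  haveI hPO : Algebra.IsPushout Γ(Y', W) Γ(Y, j ⁻¹ᵁ W) Γ(X', U) Γ(X, U') :=
    CommRingCat.isPushout_iff_isPushout.mp hpo.flip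
  have hσ₀ : Function.Surjective (algebraMap Γ(Y', W) Γ(Y, j ⁻¹ᵁ W)) := by
    change Function.Surjective (j.appLE W (j ⁻¹ᵁ W) le_rfl).hom
    rw [Scheme.Hom.appLE_eq_app]
    exact j.app_surjective W hW
  have hα₀ : Function.Surjective (algebraMap Γ(X', U) Γ(X, U')) :=
    surjective_of_isPushout Γ(Y', W) Γ(Y, j ⁻¹ᵁ W) Γ(X', U) Γ(X, U') hσ₀
  have hk₀ := ker_le_of_isPushout Γ(Y', W) Γ(Y, j ⁻¹ᵁ W) Γ(X', U) Γ(X, U') hσ₀
  refine ⟨hα₀, ?_⟩
  have hxU : i x ∈ U := e1 hx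
  letI := (X'.presheaf.germ U (i x) hxU).hom.toAlgebra
  haveI := hU.isLocalization_stalk ⟨i x, hxU⟩
  letI := (X.presheaf.germ U' x hx).hom.toAlgebra
  haveI := hU'.isLocalization_stalk ⟨x, hx⟩
  have h1 : RingHom.ker (i.stalkMap x).hom ≤
      Ideal.map (X'.presheaf.germ U (i x) hxU).hom
        (RingHom.ker (algebraMap Γ(X', U) Γ(X, U'))) := by
    refine ker_le_map_of_localization (algebraMap Γ(X', U) Γ(X, U')) hα₀
      (X'.presheaf.germ U (i x) hxU).hom (X.presheaf.germ U' x hx).hom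
      (i.stalkMap x).hom ?_ ?_ ?_
    · ext t
      exact stalkMap_germ_appLE i e1 x hx t
    · intro a
      obtain ⟨⟨s, t⟩, hst⟩ := IsLocalization.surj (hU.primeIdealOf ⟨i x, hxU⟩).asIdeal.primeCompl a
      exact ⟨s, t, IsLocalization.map_units _ t, hst⟩
    · intro r hr
      obtain ⟨m, hm⟩ := (IsLocalization.map_eq_zero_iff
        (hU'.primeIdealOf ⟨x, hx⟩).asIdeal.primeCompl (X.presheaf.stalk x) r).1 hr
      exact ⟨m, IsLocalization.map_units _ m, hm⟩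
  refine h1.trans ?_
  rw [← Ideal.map_map]
  exact Ideal.map_mono hk₀

/-- the base change of a finite order thickening is a (stalkwise) nilpotent thickening -/
theorem nilThick_of_isPullback (sq : IsPullback i f f' j)
    (hj : MoreMor.IsFiniteOrderThickening j) : ∃ n, NilThick n i := by
  obtain ⟨⟨hcl, hsurj⟩, n, hn⟩ := hj
  haveI := hcl
  haveI := hsurj
  haveI hi : IsClosedImmersion i := MorphismProperty.of_isPullback sq.flip hcl
  haveI hs : Surjective i := MorphismProperty.of_isPullback (P := @Surjective) sq.flip hsurj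
  refine ⟨n, ?_, ?_, ?_⟩
  · exact (i.isClosedEmbedding.isEmbedding.toHomeomorphOfSurjective hs.surj).isHomeomorph
  · intro x
    exact i.stalkMap_surjective x
  · intro x
    obtain ⟨W, U, U', hUW, e1, e2, hW, hW', hU, hU', hx, hpo⟩ := exists_chart sq x
    obtain ⟨-, hk⟩ := ker_stalkMap_le x W U U' hUW e1 e2 hW hU hU' hx hpo
    have h0 : (RingHom.ker (j.appLE W (j ⁻¹ᵁ W) le_rfl).hom) ^ n = ⊥ := by
      rw [Scheme.Hom.appLE_eq_app, ← Scheme.Hom.ker_apply j ⟨W, hW⟩]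
      have h1 : (j.ker ^ n).ideal ⟨W, hW⟩ = (j.ker.ideal ⟨W, hW⟩) ^ n := by
        rw [Scheme.IdealSheafData.ideal_pow]; rfl
      rw [← h1, hn]
      rfl
    rw [eq_bot_iff]
    refine (Ideal.pow_right_mono hk n).trans ?_
    rw [← Ideal.map_pow, h0, Ideal.map_bot]

open Groth.Agent.H4.TorAmp DRing
open Groth.Agent.H4.TC3 Groth.Agent.H4.TC4 Groth.Agent.H4.RelTor3 Groth.Agent.H4.LK6
open Groth.Agent.H4.TA1 Groth.Agent.H4.TA2 Groth.Agent.H4.TA3
open Groth.Agent.H4.SPt6 Groth.Agent.H4.LDS14 Groth.Agent.H4.LDS15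
  Groth.Agent.H4.RelTor5 Groth.Agent.H4.RelTor8 Groth.Agent.H4.RTBC1 Groth.Agent.H4.BCSq
  Groth.Agent.H4.NT10

set_option maxHeartbeats 1600000 in
/-- descent of relative tor amplitude along the base change of a finite order thickening, for
stalkwise K-flat complexes with flat terms -/
theorem hasTorAmplitudeAt_of_pull (sq : IsPullback i f f' j) [Flat f']
    (hj : MoreMor.IsFiniteOrderThickening j)
    (P : CochainComplex X'.Modules ℤ) (hP : SKF P) (hPfl : ∀ q, FlatMod.IsFlat (P.X q))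
    (a b : ℤ) (x : X)
    (h : DerSch.HasTorAmplitudeAt f a b ((pullCx i).obj P) x) :
    DerSch.HasTorAmplitudeAt f' a b P (i x) := by
  obtain ⟨⟨hcl, hsurj⟩, n, hn⟩ := hj
  haveI := hcl
  haveI hi : IsClosedImmersion i := MorphismProperty.of_isPullback sq.flip hcl
  obtain ⟨W, U, U', hUW, e1, e2, hW, hW', hU, hU', hx, hpo⟩ := exists_chart sq x
  obtain ⟨-, hk⟩ := ker_stalkMap_le x W U U' hUW e1 e2 hW hU hU' hx hpo
  have h0 : (RingHom.ker (j.appLE W (j ⁻¹ᵁ W) le_rfl).hom) ^ n = ⊥ := by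
    rw [Scheme.Hom.appLE_eq_app, ← Scheme.Hom.ker_apply j ⟨W, hW⟩]
    have h1 : (j.ker ^ n).ideal ⟨W, hW⟩ = (j.ker.ideal ⟨W, hW⟩) ^ n := by
      rw [Scheme.IdealSheafData.ideal_pow]; rfl
    rw [← h1, hn]
    rfl
  have hxU : i x ∈ U := e1 hx
  have hyW' : f x ∈ j ⁻¹ᵁ W := e2 hx
  have hyW : f' (i x) ∈ W := hUW hxU
  -- ring maps
  let σ₀ : Γ(Y', W) →+* Γ(Y, j ⁻¹ᵁ W) := (j.appLE W (j ⁻¹ᵁ W) le_rfl).hom
  let lam' : Γ(X', U) →+* X'.presheaf.stalk (i x) := (X'.presheaf.germ U (i x) hxU).hom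
  let lam : Γ(X, U') →+* X.presheaf.stalk x := (X.presheaf.germ U' x hx).hom
  let γ' : Γ(Y', W) →+* Y'.presheaf.stalk (f' (i x)) := (Y'.presheaf.germ W (f' (i x)) hyW).hom
  let γ : Γ(Y, j ⁻¹ᵁ W) →+* Y.presheaf.stalk (f x) := (Y.presheaf.germ (j ⁻¹ᵁ W) (f x) hyW').hom
  let α : X'.presheaf.stalk (i x) →+* X.presheaf.stalk x := (i.stalkMap x).hom
  let φ' : Y'.presheaf.stalk (f' (i x)) →+* X'.presheaf.stalk (i x) := (f'.stalkMap (i x)).hom
  let φ : Y.presheaf.stalk (f x) →+* X.presheaf.stalk x := (f.stalkMap x).hom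
  let ψ : Γ(Y', W) →+* X'.presheaf.stalk (i x) := lam'.comp (f'.appLE W U hUW).hom
  let χ : Γ(Y, j ⁻¹ᵁ W) →+* X.presheaf.stalk x := lam.comp (f.appLE (j ⁻¹ᵁ W) U' e2).hom
  have hψ : ψ = φ'.comp γ' := by
    ext t
    exact (stalkMap_germ_appLE f' hUW (i x) hxU t).symm
  have hχ : χ = φ.comp γ := by
    ext t
    exact (stalkMap_germ_appLE f e2 x hx t).symm
  have hαlam : ∀ t, α (lam' t) = lam ((i.appLE U U' e1).hom t) := fun t =>
    stalkMap_germ_appLE i e1 x hx t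
  have hsq : α.comp ψ = χ.comp σ₀ := by
    ext t
    change α (lam' ((f'.appLE W U hUW).hom t)) = lam ((f.appLE (j ⁻¹ᵁ W) U' e2).hom (σ₀ t))
    rw [hαlam]
    congr 1
    have := congr($(hpo.w) t)
    exact this
  have hσ₀ : Function.Surjective σ₀ := by
    change Function.Surjective (j.appLE W (j ⁻¹ᵁ W) le_rfl).hom
    rw [Scheme.Hom.appLE_eq_app]
    exact j.app_surjective W hW
  -- algebra structures for the pushout square `B' → B`, `B' → A'`, `A' → A`, `B → A`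
  letI aB'B : Algebra Γ(Y', W) Γ(Y, j ⁻¹ᵁ W) := σ₀.toAlgebra
  letI aB'A' : Algebra Γ(Y', W) (X'.presheaf.stalk (i x)) := ψ.toAlgebra
  letI aBA : Algebra Γ(Y, j ⁻¹ᵁ W) (X.presheaf.stalk x) := χ.toAlgebra
  letI aA'A : Algebra (X'.presheaf.stalk (i x)) (X.presheaf.stalk x) := α.toAlgebra
  letI aB'A : Algebra Γ(Y', W) (X.presheaf.stalk x) := (α.comp ψ).toAlgebra
  haveI t1 : IsScalarTower Γ(Y', W) (X'.presheaf.stalk (i x)) (X.presheaf.stalk x) :=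
    IsScalarTower.of_algebraMap_eq fun _ => rfl
  haveI t2 : IsScalarTower Γ(Y', W) Γ(Y, j ⁻¹ᵁ W) (X.presheaf.stalk x) :=
    IsScalarTower.of_algebraMap_eq fun r => by
      have := congrArg (fun ρ : Γ(Y', W) →+* X.presheaf.stalk x => ρ r) hsq
      exact this
  haveI hPO : Algebra.IsPushout Γ(Y', W) Γ(Y, j ⁻¹ᵁ W) (X'.presheaf.stalk (i x))
      (X.presheaf.stalk x) :=
    isPushout_of_surjective_of_ker_le _ _ _ _ hσ₀ (i.stalkMap_surjective x) hk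
  -- flatness
  have hγ'0 : @IsLocalization Γ(Y', W) _ (hW.primeIdealOf ⟨f' (i x), hyW⟩).asIdeal.primeCompl
      (Y'.presheaf.stalk (f' (i x))) _ γ'.toAlgebra := hW.isLocalization_stalk ⟨f' (i x), hyW⟩
  have hγ0 : @IsLocalization Γ(Y, j ⁻¹ᵁ W) _ (hW'.primeIdealOf ⟨f x, hyW'⟩).asIdeal.primeCompl
      (Y.presheaf.stalk (f x)) _ γ.toAlgebra := hW'.isLocalization_stalk ⟨f x, hyW'⟩
  have hlam'0 : @IsLocalization Γ(X', U) _ (hU.primeIdealOf ⟨i x, hxU⟩).asIdeal.primeCompl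
      (X'.presheaf.stalk (i x)) _ lam'.toAlgebra := hU.isLocalization_stalk ⟨i x, hxU⟩
  have hγ : Module.Flat Γ(Y, j ⁻¹ᵁ W) (Ares γ) := by
    letI := γ.toAlgebra
    haveI := hγ0
    exact flat_ares_of_isLocalization Γ(Y, j ⁻¹ᵁ W)
      (hW'.primeIdealOf ⟨f x, hyW'⟩).asIdeal.primeCompl (Y.presheaf.stalk (f x))
  have hψfl : Module.Flat Γ(Y', W) (Ares ψ) := by
    have h1 : (f'.appLE W U hUW).hom.Flat := Flat.flat_appLE f' hW hU hUW
    have h2 : lam'.Flat := by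
      letI := lam'.toAlgebra
      haveI := hlam'0
      exact (RingHom.flat_algebraMap_iff).2
        (IsLocalization.flat _ (hU.primeIdealOf ⟨i x, hxU⟩).asIdeal.primeCompl)
    have h3 : ψ.Flat := RingHom.Flat.comp h1 h2
    have h4 : Module.Flat Γ(Y', W) (X'.presheaf.stalk (i x)) := h3
    exact Module.Flat.of_linearEquiv (aresEquiv Γ(Y', W) (X'.presheaf.stalk (i x))).symm
  -- the complex of stalks
  let K : DRing.Cx (X'.presheaf.stalk (i x)) := (stalkCx (i x)).obj P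
  have hK : KFlat K := hP (i x)
  have hKfl : ∀ q, Module.Flat (X'.presheaf.stalk (i x)) (K.X q) := fun q => hPfl q (i x)
  -- reduce to the chart ring
  refine hasTorAmp_of_res_isLocalization γ' _ hγ'0 _ a b ?_
  have e3 : (DTen.resCx γ').obj ((DTen.resCx φ').obj K) ≅ (DTen.resCx ψ).obj K :=
    resCxCompIso γ' φ' ψ hψ K
  refine (hasTorAmp_iff_of_iso (DerivedCategory.Q.mapIso e3)).2 ?_
  -- the nilpotent descent
  refine hasTorAmp_of_ext_of_nilpotent σ₀ hσ₀ n h0 _ (kflat_res_of_flat ψ hψfl K hK)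
    (fun q => flat_restrictScalars ψ hψfl (K.X q) (hKfl q)) a b ?_
  -- base change square
  have e4 : (DTen.extCx σ₀).obj ((DTen.resCx ψ).obj K) ≅
      (DTen.resCx χ).obj ((DTen.extCx α).obj K) :=
    tauCx Γ(Y', W) Γ(Y, j ⁻¹ᵁ W) (X'.presheaf.stalk (i x)) (X.presheaf.stalk x) K
  refine (hasTorAmp_iff_of_iso (DerivedCategory.Q.mapIso e4)).2 ?_
  let Z : DRing.Cx (X.presheaf.stalk x) := (stalkCx x).obj ((pullCx i).obj P)
  have e5 : (DTen.resCx γ).obj ((DTen.resCx φ).obj Z) ≅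
      (DTen.resCx χ).obj ((DTen.extCx α).obj K) :=
    resCxCompIso γ φ χ hχ Z ≪≫ (DTen.resCx χ).mapIso (stalkPullCxIso i x P)
  refine (hasTorAmp_iff_of_iso (DerivedCategory.Q.mapIso e5)).1 ?_
  exact hasTorAmp_res_of_flat γ hγ _ a b h

end Groth.Agent.H4.NT11
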