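import Mathlib
import Groth.Prelude.Def_DerSch
import Groth.Agent.H4.NT11

set_option autoImplicit false
universe u
open CategoryTheory CategoryTheory.Limits AlgebraicGeometry DerivedCategory
attribute [local instance] HasDerivedCategory.standard

namespace Groth.Agent.H4.NT12

open Groth.Agent.H4.NT1 Groth.Agent.H4.NT7 Groth.Agent.H4.NT8 Groth.Agent.H4.NT11
open Groth.Agent.H4.TilD10 Groth.Agent.H4.TilD11 Groth.Agent.H4.PCS7
open Groth.Agent.H4.LDS14 Groth.Agent.H4.LDS15 Groth.Agent.H4.LDS16 Groth.Agent.H4.PSch2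

variable {X X' Y Y' : Scheme.{u}}

/-- descent of pseudo-coherence along a stalkwise nilpotent thickening -/
theorem isPseudoCoherentD_of_nilThick {n : ℕ} (i : X ⟶ X') (hn : NilThick n i)
    [DCoh.HasLpull i] (K' : DCoh.D X')
    (hK : ∀ m : ℤ, DCoh.IsPseudoCoherentD m ((DCoh.Lpull i).obj K')) (m : ℤ) :
    DCoh.IsPseudoCoherentD m K' := by
  rw [isPseudoCoherentD_iff_pcAt]
  intro x'
  obtain ⟨x, rfl⟩ := hn.homeo.surjective x'
  have hL : AllPC ((DCoh.Lpull i).obj K') := fun m' => (isPseudoCoherentD_iff_pcAt m' _).1 (hK m')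
  obtain ⟨V', b, hxV', hb⟩ := exists_isLE_nbhd hn K' hL x
  let i₀ := i ∣_ V'
  haveI := hasLpull i₀
  let x₀ : ↥(i ⁻¹ᵁ V') := ⟨x, hxV'⟩
  have h1 : PCAt m ((RD V'.ι).obj K') (i₀ x₀) :=
    pcAt_of_nilThick n (b - m + 1).toNat _ _ i₀ (hn.restrict V') _ b m hb
      (by have := Int.self_le_toNat (b - m + 1); omega)
      (AllPC.lpull_restrict i V' K' hL) x₀
  have h2 := PCAt.of_restrict V'.ι K' _ h1
  have hpt : V'.ι (i₀ x₀) = i x := morphismRestrict_base_coe i V' x₀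
  rw [hpt] at h2
  exact h2

theorem S7232 (f : X ⟶ Y) (f' : X' ⟶ Y')
    (i : X ⟶ X') (j : Y ⟶ Y') (sq : IsPullback i f f' j) [Flat f']
    (hj : MoreMor.IsFiniteOrderThickening j) [DCoh.HasLpull i] (E' : DCoh.D X')
    (hE : ∃ F : CochainComplex X.Modules ℤ, Nonempty (DCoh.toD X F ≅ (DCoh.Lpull i).obj E') ∧
      (∀ m : ℤ, DCoh.IsPseudoCoherentD m (DCoh.toD X F)) ∧ DerSch.LocFiniteTorAmplitude f F) :
    (∀ m : ℤ, DCoh.IsPseudoCoherentD m E') ∧ DerSch.LocFiniteTorAmplitudeD f' E' := by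
  obtain ⟨F, ⟨e⟩, hpc, hloc⟩ := hE
  obtain ⟨n, hn⟩ := nilThick_of_isPullback sq hj
  refine ⟨fun m => isPseudoCoherentD_of_nilThick i hn E'
    (fun m' => isPseudoCoherentD_of_iso e (hpc m')) m, ?_⟩
  intro F' ⟨e'⟩ x'
  obtain ⟨x, rfl⟩ := hn.homeo.surjective x'
  obtain ⟨V, a, b, hxV, hV⟩ := hloc x
  let V' : X'.Opens := ⟨i '' (V : Set X), hn.homeo.isOpenMap _ V.2⟩
  refine ⟨V', a, b, ⟨x, hxV, rfl⟩, ?_⟩
  rintro _ ⟨u, hu, rfl⟩
  obtain ⟨P, c, hcq, hP, hPfl⟩ := exists_skf_resolution F'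
  haveI := hcq
  have e0 : DCoh.toD X' P ≅ DCoh.toD X' F' := asIso (DerivedCategory.Q.map c)
  have e1 : DCoh.toD X F ≅ DCoh.toD X ((pullCx i).obj P) :=
    e ≪≫ (DCoh.Lpull i).mapIso (e'.symm ≪≫ e0.symm) ≪≫ lpullObjIso i P hP
  have h1 : DerSch.HasTorAmplitudeAt f a b ((pullCx i).obj P) u :=
    Groth.Agent.H4.RelTor9.hasTorAmplitudeAt_of_isoD f u e1 a b (hV u hu)
  have h2 := hasTorAmplitudeAt_of_pull sq hj P hP hPfl a b u h1
  exact Groth.Agent.H4.RelTor9.hasTorAmplitudeAt_of_isoD f' (i u) e0 a b h2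

end Groth.Agent.H4.NT12
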