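import Mathlib
import Groth.Agent.Lib.Helper7.Neron1
import Groth.Agent.Lib.Helper7.Neron2

open CategoryTheory Limits AlgebraicGeometry

namespace Groth.Agent.H4.NerA

open Groth.Agent.H7.Neron

universe v u

section general
variable {C : Type u} [Category.{v} C]

lemma preBij_iff_of_iso_target {S : C} {N N' : Over S} (e : N ≅ N') {W Z : Over S} (p : W ⟶ Z) :
    PreBij N p ↔ PreBij N' p := by
  have h1 : Function.Bijective (fun g : Z ⟶ N => g ≫ e.hom) :=
    ⟨fun a b h => by simpa using h, fun a => ⟨a ≫ e.inv, by simp⟩⟩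
  have h2 : Function.Bijective (fun g : W ⟶ N => g ≫ e.hom) :=
    ⟨fun a b h => by simpa using h, fun a => ⟨a ≫ e.inv, by simp⟩⟩
  have hc : (fun g : Z ⟶ N' => p ≫ g) ∘ (fun g : Z ⟶ N => g ≫ e.hom) =
      (fun g : W ⟶ N => g ≫ e.hom) ∘ (fun g : Z ⟶ N => p ≫ g) := by
    funext g
    simp
  unfold PreBij
  constructor
  · intro h
    have h3 : Function.Bijective
        ((fun g : Z ⟶ N' => p ≫ g) ∘ (fun g : Z ⟶ N => g ≫ e.hom)) := by
      rw [hc]; exact h2.comp h
    exact (Function.Bijective.of_comp_iff _ h1).1 h3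
  · intro h
    have h3 : Function.Bijective
        ((fun g : W ⟶ N => g ≫ e.hom) ∘ (fun g : Z ⟶ N => p ≫ g)) := by
      rw [← hc]; exact h.comp h1
    exact (Function.Bijective.of_comp_iff' h2 _).1 h3

lemma preBij_of_family {S : C} (N : Over S) {W Z : Over S} (p : W ⟶ Z) {I : Type*}
    (Zi Wi : I → Over S) (z : ∀ i, Zi i ⟶ Z) (w : ∀ i, Wi i ⟶ W) (q : ∀ i, Wi i ⟶ Zi i)
    (hsq : ∀ i, q i ≫ z i = w i ≫ p)
    (ha : ∀ i, PreBij N (q i))
    (hz_ext : ∀ g g' : Z ⟶ N, (∀ i, z i ≫ g = z i ≫ g') → g = g')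
    (hz_glue : ∀ gi : ∀ i, Zi i ⟶ N, ∃ g : Z ⟶ N, ∀ i, z i ≫ g = gi i)
    (hw_ext : ∀ h h' : W ⟶ N, (∀ i, w i ≫ h = w i ≫ h') → h = h') :
    PreBij N p := by
  constructor
  · intro g g' hgg
    have hgg' : p ≫ g = p ≫ g' := hgg
    apply hz_ext
    intro i
    apply (ha i).1
    show q i ≫ z i ≫ g = q i ≫ z i ≫ g'
    rw [← Category.assoc, ← Category.assoc, hsq, Category.assoc, Category.assoc, hgg']
  · intro h
    have hex : ∀ i, ∃ gi : Zi i ⟶ N, q i ≫ gi = w i ≫ h := fun i => (ha i).2 (w i ≫ h)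
    choose gi hgi using hex
    obtain ⟨g, hg⟩ := hz_glue gi
    refine ⟨g, hw_ext _ _ fun i => ?_⟩
    show w i ≫ p ≫ g = w i ≫ h
    rw [← Category.assoc, ← hsq, Category.assoc, hg, hgi]

variable [HasPullbacks C]

lemma nmpAt_iff_of_iso_target {S S₀ : C} (j : S₀ ⟶ S) {N N' : Over S} (e : N ≅ N') (Z : Over S) :
    NMPAt j N Z ↔ NMPAt j N' Z := by
  rw [nmpAt_iff_counit, nmpAt_iff_counit]
  exact preBij_iff_of_iso_target e _

lemma nmpAt_baseChange_iff {S S' U U' : C} (g : S' ⟶ S) (j : U ⟶ S) (j' : U' ⟶ S') (t : U' ⟶ U)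
    (h : IsPullback t j' j g) (N : Over S) (Y' : Over S') :
    NMPAt j' ((Over.pullback g).obj N) Y' ↔ NMPAt j N ((Over.map g).obj Y') := by
  rw [nmpAt_iff_counit, preBij_pullback_iff]
  refine (nmpAt_iff_of_isPullback j N ((Over.map g).obj Y') _ (pullback.snd Y'.hom j' ≫ t) ?_).symm
  have h1 : IsPullback (pullback.snd Y'.hom j') (pullback.fst Y'.hom j') j' Y'.hom :=
    (IsPullback.of_hasPullback _ _).flip
  have h2 := (h1.paste_horiz h).flip
  simpa using h2

lemma counit_sq {S S₀ : C} (j : S₀ ⟶ S) {Z' Z : Over S} (z : Z' ⟶ Z) :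
    (Over.mapPullbackAdj j).counit.app Z' ≫ z =
      (Over.map j).map ((Over.pullback j).map z) ≫ (Over.mapPullbackAdj j).counit.app Z :=
  ((Over.mapPullbackAdj j).counit.naturality z).symm

lemma pullback_map_left_fst {S S₀ : C} (j : S₀ ⟶ S) {Z' Z : Over S} (k : Z' ⟶ Z) :
    ((Over.pullback j).map k).left ≫ pullback.fst Z.hom j = pullback.fst Z'.hom j ≫ k.left := by
  simp only [Over.pullback_map_left, pullback.lift_fst]

lemma pullback_map_left_snd {S S₀ : C} (j : S₀ ⟶ S) {Z' Z : Over S} (k : Z' ⟶ Z) :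
    ((Over.pullback j).map k).left ≫ pullback.snd Z.hom j = pullback.snd Z'.hom j := by
  simp only [Over.pullback_map_left, pullback.lift_snd]

lemma counit_left {S B : C} (ι : B ⟶ S) (Z : Over S) :
    ((Over.mapPullbackAdj ι).counit.app Z).left = pullback.fst Z.hom ι := by
  simp

lemma exists_u {S S₀ B : C} (j : S₀ ⟶ S) (ι : B ⟶ S) (Z : Over S)
    (c : (Over.map ι).obj ((Over.pullback ι).obj Z) ⟶ Z) (hc : c.left = pullback.fst Z.hom ι)
    (c' : (Over.map ι).obj ((Over.pullback ι).obj ((Over.map j).obj ((Over.pullback j).obj Z))) ⟶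
      (Over.map j).obj ((Over.pullback j).obj Z))
    (hc' : c'.left = pullback.fst (pullback.snd Z.hom j ≫ j) ι) :
    ∃ u : (Over.map ι).obj ((Over.pullback ι).obj ((Over.map j).obj ((Over.pullback j).obj Z))) ⟶
        (Over.map j).obj ((Over.pullback j).obj ((Over.map ι).obj ((Over.pullback ι).obj Z))),
      u ≫ (Over.map j).map ((Over.pullback j).map c) = c' := by
  have c1 : (pullback.fst (pullback.snd Z.hom j ≫ j) ι ≫ pullback.fst Z.hom j) ≫ Z.hom =
      pullback.snd (pullback.snd Z.hom j ≫ j) ι ≫ ι := by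
    rw [Category.assoc, pullback.condition]
    exact pullback.condition
  have c2 : pullback.lift (pullback.fst (pullback.snd Z.hom j ≫ j) ι ≫ pullback.fst Z.hom j)
      (pullback.snd (pullback.snd Z.hom j ≫ j) ι) c1 ≫ (pullback.snd Z.hom ι ≫ ι) =
      (pullback.fst (pullback.snd Z.hom j ≫ j) ι ≫ pullback.snd Z.hom j) ≫ j := by
    rw [← Category.assoc, pullback.lift_snd, Category.assoc]
    exact pullback.condition.symm
  obtain ⟨u₀, hu1, hu2⟩ : ∃ u₀ : pullback (pullback.snd Z.hom j ≫ j) ι ⟶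
      pullback (pullback.snd Z.hom ι ≫ ι) j,
      u₀ ≫ pullback.fst (pullback.snd Z.hom ι ≫ ι) j =
        pullback.lift (pullback.fst (pullback.snd Z.hom j ≫ j) ι ≫ pullback.fst Z.hom j)
          (pullback.snd (pullback.snd Z.hom j ≫ j) ι) c1 ∧
      u₀ ≫ pullback.snd (pullback.snd Z.hom ι ≫ ι) j =
        pullback.fst (pullback.snd Z.hom j ≫ j) ι ≫ pullback.snd Z.hom j :=
    ⟨pullback.lift _ _ c2, pullback.lift_fst _ _ _, pullback.lift_snd _ _ _⟩
  have hw : u₀ ≫ (pullback.snd (pullback.snd Z.hom ι ≫ ι) j ≫ j) =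
      pullback.snd (pullback.snd Z.hom j ≫ j) ι ≫ ι := by
    rw [← Category.assoc, hu2, Category.assoc]
    exact pullback.condition
  refine ⟨Over.homMk u₀ hw, ?_⟩
  apply Over.OverMorphism.ext
  have e1 : ((Over.pullback j).map c).left ≫ pullback.fst Z.hom j =
      pullback.fst (pullback.snd Z.hom ι ≫ ι) j ≫ c.left := pullback_map_left_fst j c
  have e2 : ((Over.pullback j).map c).left ≫ pullback.snd Z.hom j =
      pullback.snd (pullback.snd Z.hom ι ≫ ι) j := pullback_map_left_snd j c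
  show u₀ ≫ ((Over.pullback j).map c).left = c'.left
  rw [hc']
  refine pullback.hom_ext (f := Z.hom) (g := j) ?_ ?_
  · rw [Category.assoc, e1, hc, ← Category.assoc, hu1, pullback.lift_fst]
  · rw [Category.assoc, e2, hu2]

end general

section sch
variable {I : Type u} (B N : I → Scheme.{u}) (f : ∀ i, N i ⟶ B i)

lemma range_sigma_aux {T : Scheme.{u}} (i : I) (a : T ⟶ ∐ N) (b : T ⟶ B i)
    (hab : a ≫ Limits.Sigma.map f = b ≫ Sigma.ι B i) :
    Set.range a ⊆ Set.range (Sigma.ι N i) := by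
  rintro _ ⟨t, rfl⟩
  obtain ⟨⟨k, n⟩, hn⟩ := (sigmaMk N).surjective (a t)
  rw [sigmaMk_mk] at hn
  have h1 : Sigma.ι B k (f k n) = Sigma.ι B i (b t) :=
    calc Sigma.ι B k (f k n) = (f k ≫ Sigma.ι B k) n := (Scheme.Hom.comp_apply _ _ _).symm
      _ = (Sigma.ι N k ≫ Limits.Sigma.map f) n := by rw [Limits.Sigma.ι_map]
      _ = Limits.Sigma.map f (Sigma.ι N k n) := Scheme.Hom.comp_apply _ _ _
      _ = Limits.Sigma.map f (a t) := by rw [hn]
      _ = (a ≫ Limits.Sigma.map f) t := (Scheme.Hom.comp_apply _ _ _).symm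
      _ = (b ≫ Sigma.ι B i) t := by rw [hab]
      _ = Sigma.ι B i (b t) := Scheme.Hom.comp_apply _ _ _
  have hk : k = i := (Sigma.mk.inj_iff.1 ((sigmaι_eq_iff B k i (f k n) (b t)).1 h1)).1
  subst hk
  exact ⟨n, hn⟩

lemma isPullback_sigma (i : I) :
    IsPullback (Sigma.ι N i) (f i) (Limits.Sigma.map f) (Sigma.ι B i) := by
  have w : Sigma.ι N i ≫ Limits.Sigma.map f = f i ≫ Sigma.ι B i := Limits.Sigma.ι_map f i
  refine ⟨⟨w⟩, ⟨PullbackCone.IsLimit.mk w
    (fun s => IsOpenImmersion.lift (Sigma.ι N i) s.fst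
      (range_sigma_aux B N f i s.fst s.snd s.condition))
    (fun s => IsOpenImmersion.lift_fac _ _ _) (fun s => ?_) (fun s m h1 h2 => ?_)⟩⟩
  · rw [← cancel_mono (Sigma.ι B i), Category.assoc, ← Limits.Sigma.ι_map f i,
      IsOpenImmersion.lift_fac_assoc, s.condition]
  · rw [← cancel_mono (Sigma.ι N i), h1, IsOpenImmersion.lift_fac]

lemma smooth_sigma_iff : Smooth (Limits.Sigma.map f) ↔ ∀ i, Smooth (f i) := by
  constructor
  · intro h i
    exact IsZariskiLocalAtTarget.of_isPullback (P := @Smooth) (isPullback_sigma B N f i) h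
  · intro h
    refine IsZariskiLocalAtTarget.of_openCover (P := @Smooth) (sigmaOpenCover B) fun i => ?_
    have h2 : Smooth ((isPullback_sigma B N f i).isoPullback.hom ≫
        pullback.snd (Limits.Sigma.map f) (Sigma.ι B i)) := by
      rw [IsPullback.isoPullback_hom_snd]; exact h i
    exact (MorphismProperty.cancel_left_of_respectsIso @Smooth _ _).1 h2

noncomputable def eIso (i : I) :
    (Over.pullback (Sigma.ι B i)).obj (Over.mk (Limits.Sigma.map f)) ≅ Over.mk (f i) :=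
  Over.isoMk (isPullback_sigma B N f i).isoPullback.symm (by simp)

lemma z_ext (Z N' : Over (∐ B)) (g g' : Z ⟶ N')
    (h : ∀ i, (Over.mapPullbackAdj (Sigma.ι B i)).counit.app Z ≫ g =
      (Over.mapPullbackAdj (Sigma.ι B i)).counit.app Z ≫ g') : g = g' := by
  apply Over.OverMorphism.ext
  refine Scheme.Cover.hom_ext ((sigmaOpenCover B).pullback₁ Z.hom) _ _ fun i => ?_
  have hi := congrArg (fun m => m.left) (h i)
  have hi' : pullback.fst Z.hom (Sigma.ι B i) ≫ g.left =
      pullback.fst Z.hom (Sigma.ι B i) ≫ g'.left := by simpa using hi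
  exact hi'

lemma z_glue (Z N' : Over (∐ B))
    (gi : ∀ i, (Over.map (Sigma.ι B i)).obj ((Over.pullback (Sigma.ι B i)).obj Z) ⟶ N') :
    ∃ g : Z ⟶ N', ∀ i, (Over.mapPullbackAdj (Sigma.ι B i)).counit.app Z ≫ g = gi i := by
  have hcompat : ∀ x y : I, pullback.fst (pullback.fst Z.hom (Sigma.ι B x))
      (pullback.fst Z.hom (Sigma.ι B y)) ≫ (gi x).left =
      pullback.snd (pullback.fst Z.hom (Sigma.ι B x)) (pullback.fst Z.hom (Sigma.ι B y)) ≫
        (gi y).left := by
    intro x y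
    by_cases hxy : x = y
    · subst hxy
      rw [fst_eq_snd_of_mono_eq]
    · have e1 : pullback.snd Z.hom (Sigma.ι B x) ≫ Sigma.ι B x =
          pullback.fst Z.hom (Sigma.ι B x) ≫ Z.hom := pullback.condition.symm
      have e2 : pullback.snd Z.hom (Sigma.ι B y) ≫ Sigma.ι B y =
          pullback.fst Z.hom (Sigma.ι B y) ≫ Z.hom := pullback.condition.symm
      have e3 : pullback.fst (pullback.fst Z.hom (Sigma.ι B x)) (pullback.fst Z.hom (Sigma.ι B y)) ≫
          pullback.fst Z.hom (Sigma.ι B x) =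
          pullback.snd (pullback.fst Z.hom (Sigma.ι B x)) (pullback.fst Z.hom (Sigma.ι B y)) ≫
            pullback.fst Z.hom (Sigma.ι B y) := pullback.condition
      haveI : IsEmpty ↑(pullback (pullback.fst Z.hom (Sigma.ι B x))
          (pullback.fst Z.hom (Sigma.ι B y))) :=
        isEmpty_of_commSq_sigmaι_of_ne (g := B)
          (a := pullback.fst _ _ ≫ pullback.snd Z.hom (Sigma.ι B x))
          (b := pullback.snd _ _ ≫ pullback.snd Z.hom (Sigma.ι B y)) ⟨by
            rw [Category.assoc, Category.assoc, e1, e2, ← Category.assoc, ← Category.assoc, e3]⟩ hxy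
      exact (isInitialOfIsEmpty).hom_ext _ _
  let 𝒰 : Z.left.OpenCover := (sigmaOpenCover B).pullback₁ Z.hom
  let g₀ : Z.left ⟶ N'.left := 𝒰.glueMorphisms (fun i => (gi i).left) hcompat
  have hg₀ : ∀ i, pullback.fst Z.hom (Sigma.ι B i) ≫ g₀ = (gi i).left :=
    fun i => 𝒰.ι_glueMorphisms _ hcompat i
  have hw : g₀ ≫ N'.hom = Z.hom := by
    refine Scheme.Cover.hom_ext 𝒰 _ _ fun i => ?_
    show pullback.fst Z.hom (Sigma.ι B i) ≫ g₀ ≫ N'.hom =
      pullback.fst Z.hom (Sigma.ι B i) ≫ Z.hom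
    rw [← Category.assoc, hg₀, Over.w (gi i)]
    show pullback.snd Z.hom (Sigma.ι B i) ≫ Sigma.ι B i = _
    exact pullback.condition.symm
  refine ⟨Over.homMk g₀ hw, fun i => ?_⟩
  apply Over.OverMorphism.ext
  have hl : ((Over.mapPullbackAdj (Sigma.ι B i)).counit.app Z).left =
      pullback.fst Z.hom (Sigma.ι B i) := by simp
  rw [Over.comp_left, hl]
  exact hg₀ i

lemma w_ext {S₀ : Scheme.{u}} (j : S₀ ⟶ ∐ B) (Z N' : Over (∐ B))
    (h h' : (Over.map j).obj ((Over.pullback j).obj Z) ⟶ N')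
    (hh : ∀ i, (Over.map j).map ((Over.pullback j).map
        ((Over.mapPullbackAdj (Sigma.ι B i)).counit.app Z)) ≫ h =
      (Over.map j).map ((Over.pullback j).map
        ((Over.mapPullbackAdj (Sigma.ι B i)).counit.app Z)) ≫ h') :
    h = h' := by
  apply z_ext B
  intro i
  obtain ⟨u, hu⟩ := exists_u j (Sigma.ι B i) Z
    ((Over.mapPullbackAdj (Sigma.ι B i)).counit.app Z) (counit_left _ _)
    ((Over.mapPullbackAdj (Sigma.ι B i)).counit.app ((Over.map j).obj ((Over.pullback j).obj Z)))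
    (counit_left _ _)
  have hu' : (Over.mapPullbackAdj (Sigma.ι B i)).counit.app
      ((Over.map j).obj ((Over.pullback j).obj Z)) = u ≫ (Over.map j).map ((Over.pullback j).map
        ((Over.mapPullbackAdj (Sigma.ι B i)).counit.app Z)) := hu.symm
  rw [hu', Category.assoc, Category.assoc, hh i]

theorem main (U : (∐ B).Opens) :
    (Smooth (Limits.Sigma.map f) ∧ ∀ Y : Over (∐ B), Smooth Y.hom →
        Function.Bijective (fun g : Y ⟶ Over.mk (Limits.Sigma.map f) =>
          (Over.pullback U.ι).map g)) ↔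
    ∀ i, Smooth (f i) ∧ ∀ Y : Over (B i), Smooth Y.hom →
        Function.Bijective (fun g : Y ⟶ Over.mk (f i) =>
          (Over.pullback ((Limits.Sigma.ι B i) ⁻¹ᵁ U).ι).map g) := by
  constructor
  · rintro ⟨hs, hN⟩ i
    refine ⟨(smooth_sigma_iff B N f).1 hs i, fun Y' hY' => ?_⟩
    haveI := hY'
    have h1 := S13203_main (Sigma.ι B i) U (Over.mk (Limits.Sigma.map f)) hN Y'
    exact (nmpAt_iff_of_iso_target _ (eIso B N f i) Y').1 h1
  · intro h
    refine ⟨(smooth_sigma_iff B N f).2 fun i => (h i).1, fun Y hY => ?_⟩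
    haveI := hY
    refine (nmpAt_iff_counit U.ι (Over.mk (Limits.Sigma.map f)) Y).2 ?_
    refine preBij_of_family (Over.mk (Limits.Sigma.map f)) _
      (fun i => (Over.map (Sigma.ι B i)).obj ((Over.pullback (Sigma.ι B i)).obj Y))
      (fun i => (Over.map U.ι).obj ((Over.pullback U.ι).obj
        ((Over.map (Sigma.ι B i)).obj ((Over.pullback (Sigma.ι B i)).obj Y))))
      (fun i => (Over.mapPullbackAdj (Sigma.ι B i)).counit.app Y)
      (fun i => (Over.map U.ι).map ((Over.pullback U.ι).map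
        ((Over.mapPullbackAdj (Sigma.ι B i)).counit.app Y)))
      (fun i => (Over.mapPullbackAdj U.ι).counit.app _)
      (fun i => counit_sq U.ι _) ?_ (z_ext B Y _) (z_glue B Y _) (w_ext B U.ι Y _)
    intro i
    have hsm : Smooth ((Over.pullback (Sigma.ι B i)).obj Y).hom := by
      change Smooth (pullback.snd Y.hom (Sigma.ι B i))
      infer_instance
    exact (nmpAt_iff_counit _ _ _).1
      ((nmpAt_baseChange_iff (Sigma.ι B i) U.ι _ _
        (isPullback_morphismRestrict (Sigma.ι B i) U) _ _).1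
        ((nmpAt_iff_of_iso_target _ (eIso B N f i) _).2 ((h i).2 _ hsm)))

end sch

end Groth.Agent.H4.NerA
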