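import Mathlib
import Groth.Agent.Lib.Helper2.DimFG

set_option autoImplicit false
set_option linter.unusedSectionVars false
set_option linter.unusedVariables false
set_option linter.style.haveILetI false

universe u
open Module

namespace Groth.Agent.H4.NilCone

/-- flag basis for a nilpotent endomorphism -/
theorem tri (K : Type*) [Field K] : ∀ (n : ℕ) (V : Type u) [AddCommGroup V] [Module K V]
    [FiniteDimensional K V] (f : V →ₗ[K] V), IsNilpotent f → finrank K V = n →
    ∃ b : Basis (Fin n) K V, ∀ j, f (b j) ∈ Submodule.span K (b '' {i | i < j}) := by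
  intro n
  induction n with
  | zero =>
    intro V _ _ _ f hf hn
    exact ⟨Module.finBasisOfFinrankEq K V hn, fun j => j.elim0⟩
  | succ n ih =>
    intro V _ _ _ f hf hn
    haveI : Nontrivial V := Module.nontrivial_of_finrank_pos (R := K) (by omega)
    have hrange : LinearMap.range f < ⊤ := by
      rw [lt_top_iff_ne_top]
      intro htop
      have hsurj : Function.Surjective f := LinearMap.range_eq_top.mp htop
      obtain ⟨m, hm⟩ := hf
      have hs : Function.Surjective ⇑(f ^ m) := by
        rw [Module.End.coe_pow]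
        exact hsurj.iterate m
      rw [hm] at hs
      obtain ⟨v, hv⟩ := exists_ne (0 : V)
      obtain ⟨w, hw⟩ := hs v
      exact hv (by rw [← hw]; rfl)
    obtain ⟨φ, hφ0, hφ⟩ := Submodule.exists_le_ker_of_lt_top _ hrange
    have hW : ∀ x ∈ LinearMap.ker φ, f x ∈ LinearMap.ker φ :=
      fun x _ => hφ (LinearMap.mem_range_self f x)
    have hfin : finrank K (LinearMap.ker φ) = n := by
      have := Module.Dual.finrank_ker_add_one_of_ne_zero hφ0
      omega
    have hg : IsNilpotent (f.restrict hW) := by
      obtain ⟨m, hm⟩ := hf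
      refine ⟨m, ?_⟩
      rw [Module.End.pow_restrict m hW]
      ext x
      simp [hm]
    obtain ⟨b', hb'⟩ := ih (LinearMap.ker φ) (f.restrict hW) hg hfin
    obtain ⟨y, hy⟩ : ∃ y, φ y ≠ 0 := by
      by_contra h
      push Not at h
      exact hφ0 (LinearMap.ext h)
    let b : Basis (Fin (n+1)) K V := Basis.mkFinSnoc b' y
      (fun c x hx hc => by
        have := congrArg φ hc
        rw [map_add, map_smul, LinearMap.mem_ker.mp hx, add_zero, map_zero, smul_eq_mul] at this
        exact (mul_eq_zero.mp this).resolve_right hy)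
      (fun z => ⟨-(φ z / φ y), by
        rw [LinearMap.mem_ker, map_add, map_smul, smul_eq_mul]
        field_simp
        ring⟩)
    have hbcoe : (b : Fin (n+1) → V) = Fin.snoc ((↑) ∘ b') y := Basis.coe_mkFinSnoc _ _ _ _
    have hb_cast : ∀ i : Fin n, b (Fin.castSucc i) = (b' i : V) := by
      intro i
      rw [hbcoe]
      simp [Fin.snoc_castSucc]
    have hb_last : b (Fin.last n) = y := by
      rw [hbcoe]
      simp
    refine ⟨b, ?_⟩
    intro j
    refine Fin.lastCases ?_ (fun j' => ?_) j
    · rw [hb_last]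
      have h1 : f y ∈ LinearMap.ker φ := hφ (LinearMap.mem_range_self f y)
      have h2 : (⟨f y, h1⟩ : LinearMap.ker φ) ∈ Submodule.span K (Set.range b') := by
        rw [b'.span_eq]
        trivial
      have h3 := Submodule.mem_map_of_mem (f := (LinearMap.ker φ).subtype) h2
      rw [Submodule.map_span, ← Set.range_comp] at h3
      refine Submodule.span_mono ?_ h3
      rintro _ ⟨i, rfl⟩
      exact ⟨Fin.castSucc i, Fin.castSucc_lt_last i, hb_cast i⟩
    · rw [hb_cast]
      have h1 := hb' j'
      have h3 := Submodule.mem_map_of_mem (f := (LinearMap.ker φ).subtype) h1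
      rw [Submodule.map_span, ← Set.image_comp] at h3
      refine Submodule.span_mono ?_ h3
      rintro _ ⟨i, hi, rfl⟩
      exact ⟨Fin.castSucc i, Fin.castSucc_lt_castSucc_iff.mpr hi, hb_cast i⟩

theorem exists_conj {K : Type u} [Field K] {n : ℕ} (M : Matrix (Fin n) (Fin n) K)
    (hM : IsNilpotent M) :
    ∃ (P u : Matrix (Fin n) (Fin n) K), IsUnit P.det ∧ (∀ i j, ¬ i < j → u i j = 0) ∧
      M = P * u * P.adjugate := by
  classical
  set f : (Fin n → K) →ₗ[K] (Fin n → K) := Matrix.toLin' M with hf
  have hfn : IsNilpotent f := by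
    obtain ⟨m, hm⟩ := hM
    refine ⟨m, ?_⟩
    rw [hf, ← Matrix.toLin'_pow, hm, map_zero]
  obtain ⟨b, hb⟩ := tri K n (Fin n → K) f hfn (Module.finrank_fin_fun K)
  have hu₀ : ∀ i j, ¬ i < j → LinearMap.toMatrix b b f i j = 0 := by
    intro i j hij
    rw [LinearMap.toMatrix_apply]
    have hsub := Basis.repr_support_subset_of_mem_span b _ (hb j)
    by_contra hne
    have hmem : i ∈ (b.repr (f (b j))).support := Finsupp.mem_support_iff.mpr hne
    exact hij (hsub hmem)
  have hPQ : (Pi.basisFun K (Fin n)).toMatrix b * b.toMatrix (Pi.basisFun K (Fin n)) = 1 :=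
    Basis.toMatrix_mul_toMatrix_flip _ b
  have hM' : (Pi.basisFun K (Fin n)).toMatrix b * LinearMap.toMatrix b b f
      * b.toMatrix (Pi.basisFun K (Fin n)) = M := by
    rw [basis_toMatrix_mul_linearMap_toMatrix_mul_basis_toMatrix, LinearMap.toMatrix_eq_toMatrix',
      hf, LinearMap.toMatrix'_toLin']
  have hdet : IsUnit ((Pi.basisFun K (Fin n)).toMatrix b).det :=
    Matrix.isUnit_det_of_right_inverse hPQ
  have hQ : b.toMatrix (Pi.basisFun K (Fin n))
      = (((Pi.basisFun K (Fin n)).toMatrix b).det)⁻¹ • ((Pi.basisFun K (Fin n)).toMatrix b).adjugate := by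
    have h1 : b.toMatrix (Pi.basisFun K (Fin n)) = ((Pi.basisFun K (Fin n)).toMatrix b)⁻¹ :=
      (Matrix.inv_eq_right_inv hPQ).symm
    rw [h1, Matrix.inv_def, Ring.inverse_eq_inv']
  refine ⟨(Pi.basisFun K (Fin n)).toMatrix b,
    (((Pi.basisFun K (Fin n)).toMatrix b).det)⁻¹ • LinearMap.toMatrix b b f, hdet, ?_, ?_⟩
  · intro i j hij
    simp [hu₀ i j hij]
  · rw [← hM', hQ]
    simp [Matrix.mul_smul, Matrix.smul_mul]

theorem charpoly_eq_X_pow {R : Type*} [CommRing R] {n : ℕ} (M : Matrix (Fin n) (Fin n) R)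
    (h : ∀ i : Fin n, M.charpoly.coeff i = 0) : M.charpoly = Polynomial.X ^ n := by
  rcases subsingleton_or_nontrivial R with hR | hR
  · exact Subsingleton.elim _ _
  ext j
  rw [Polynomial.coeff_X_pow]
  rcases lt_trichotomy j n with hj | hj | hj
  · rw [if_neg hj.ne]
    exact h ⟨j, hj⟩
  · rw [if_pos hj]
    have h1 : M.charpoly.natDegree = n := by
      rw [Matrix.charpoly_natDegree_eq_dim, Fintype.card_fin]
    have h2 := (Matrix.charpoly_monic M).coeff_natDegree
    rw [h1] at h2
    rw [hj]
    exact h2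
  · rw [if_neg hj.ne']
    apply Polynomial.coeff_eq_zero_of_natDegree_lt
    rw [Matrix.charpoly_natDegree_eq_dim, Fintype.card_fin]
    exact hj

theorem charpoly_strict_upper {R : Type*} [CommRing R] {n : ℕ} (A : Matrix (Fin n) (Fin n) R)
    (hA : ∀ i j, ¬ i < j → A i j = 0) : A.charpoly = Polynomial.X ^ n := by
  have h : A.IsUpperTriangular := fun i j hij => hA i j (not_lt.mpr (le_of_lt hij))
  rw [Matrix.charpoly_of_isUpperTriangular A h]
  have h0 : ∀ i, A i i = 0 := fun i => hA i i (lt_irrefl i)
  simp [h0]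

section Cone

open MvPolynomial

variable (k : Type u) [Field k] (n : ℕ)

theorem mem_span_X_of_aeval_zero {σ : Type*} (f : MvPolynomial σ k)
    (hf : aeval (0 : σ → k) f = 0) :
    f ∈ Ideal.span (Set.range (X : σ → MvPolynomial σ k)) := by
  have key : ∀ g : MvPolynomial σ k, g - C (aeval (0 : σ → k) g)
      ∈ Ideal.span (Set.range (X : σ → MvPolynomial σ k)) := by
    intro g
    induction g using MvPolynomial.induction_on with
    | C a => simp
    | add p q hp hq =>
      have h1 : p + q - C (aeval (0 : σ → k) (p + q))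
          = (p - C (aeval (0 : σ → k) p)) + (q - C (aeval (0 : σ → k) q)) := by
        rw [map_add, map_add]
        ring
      rw [h1]
      exact Ideal.add_mem _ hp hq
    | mul_X p i hp =>
      have h1 : p * X i - C (aeval (0 : σ → k) (p * X i)) = p * X i := by simp
      rw [h1]
      exact Ideal.mul_mem_left _ _ (Ideal.subset_span ⟨i, rfl⟩)
  have h2 := key f
  rwa [hf, map_zero, sub_zero] at h2

noncomputable def cc (i : Fin n) : MvPolynomial (Fin n × Fin n) k :=
  (Matrix.charpoly (Matrix.mvPolynomialX (Fin n) (Fin n) k)).coeff (i : ℕ)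

theorem map_cc {S : Type*} [CommRing S] (φ : MvPolynomial (Fin n × Fin n) k →+* S) (i : Fin n) :
    φ (cc k n i) = (((Matrix.mvPolynomialX (Fin n) (Fin n) k).map φ).charpoly).coeff (i : ℕ) := by
  rw [Matrix.charpoly_map, Polynomial.coeff_map]
  rfl

noncomputable def GG :
    Matrix (Fin n) (Fin n) (MvPolynomial ((Fin n × Fin n) ⊕ (Fin n × Fin n)) k) :=
  Matrix.of fun i j => X (Sum.inl (i, j))

noncomputable def UU :
    Matrix (Fin n) (Fin n) (MvPolynomial ((Fin n × Fin n) ⊕ (Fin n × Fin n)) k) :=
  Matrix.of fun i j => if i < j then X (Sum.inr (i, j)) else 0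

noncomputable def NN :
    Matrix (Fin n) (Fin n) (MvPolynomial ((Fin n × Fin n) ⊕ (Fin n × Fin n)) k) :=
  GG k n * UU k n * (GG k n).adjugate

noncomputable def Φ : MvPolynomial (Fin n × Fin n) k →ₐ[k]
    MvPolynomial ((Fin n × Fin n) ⊕ (Fin n × Fin n)) k :=
  aeval (fun p => NN k n p.1 p.2)

theorem charpoly_NN : (NN k n).charpoly = Polynomial.X ^ n := by
  have h1 : NN k n = GG k n * (UU k n * (GG k n).adjugate) := by rw [NN, Matrix.mul_assoc]
  rw [h1, Matrix.charpoly_mul_comm, Matrix.mul_assoc, Matrix.adjugate_mul, Matrix.mul_smul,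
    Matrix.mul_one]
  apply charpoly_strict_upper
  intro i j hij
  simp [UU, hij]

theorem map_Φ :
    (Matrix.mvPolynomialX (Fin n) (Fin n) k).map (Φ k n).toRingHom = NN k n := by
  ext i j
  simp [Φ]

theorem Φ_cc (i : Fin n) : Φ k n (cc k n i) = 0 := by
  have h := map_cc k n (Φ k n).toRingHom i
  rw [map_Φ, charpoly_NN, Polynomial.coeff_X_pow, if_neg (ne_of_lt i.2)] at h
  exact h

noncomputable def pp : Ideal (MvPolynomial (Fin n × Fin n) k) := RingHom.ker (Φ k n).toRingHom

instance pp_isPrime : (pp k n).IsPrime := RingHom.ker_isPrime _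

theorem span_le_pp : Ideal.span (Set.range (cc k n)) ≤ pp k n := by
  rw [Ideal.span_le]
  rintro _ ⟨i, rfl⟩
  exact Φ_cc k n i

theorem pp_le_radical [IsAlgClosed k] :
    pp k n ≤ (Ideal.span (Set.range (cc k n))).radical := by
  classical
  rw [← MvPolynomial.vanishingIdeal_zeroLocus_eq_radical (K := k)]
  intro f hf
  rw [MvPolynomial.mem_vanishingIdeal_iff]
  intro x hx
  rw [MvPolynomial.mem_zeroLocus_iff] at hx
  set M : Matrix (Fin n) (Fin n) k := Matrix.of fun i j => x (i, j) with hMdef
  have hXM : (Matrix.mvPolynomialX (Fin n) (Fin n) k).map (eval x) = M := by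
    ext i j
    simp [hMdef]
  have hcoef : ∀ i : Fin n, M.charpoly.coeff i = 0 := by
    intro i
    rw [← hXM, ← map_cc]
    exact hx _ (Ideal.subset_span ⟨i, rfl⟩)
  have hchar := charpoly_eq_X_pow M hcoef
  have hnil : IsNilpotent M := by
    refine ⟨n, ?_⟩
    have h := Matrix.aeval_self_charpoly M
    rw [hchar] at h
    simpa using h
  obtain ⟨P, u, hdet, hu, hMeq⟩ := exists_conj M hnil
  set y : (Fin n × Fin n) ⊕ (Fin n × Fin n) → k :=
    Sum.elim (fun p => P p.1 p.2) (fun p => u p.1 p.2) with hy
  have hG : (eval y).mapMatrix (GG k n) = P := by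
    ext i j
    simp [GG, hy]
  have hU : (eval y).mapMatrix (UU k n) = u := by
    ext i j
    by_cases hij : i < j
    · simp [UU, hij, hy]
    · simp [UU, hij, hu i j hij]
  have hN : (eval y).mapMatrix (NN k n) = M := by
    rw [NN, map_mul, map_mul, RingHom.map_adjugate, hG, hU, hMeq]
  have hcomp : (eval y).comp (Φ k n).toRingHom = eval x := by
    apply MvPolynomial.ringHom_ext
    · intro c
      simp
    · intro p
      have h := congrFun (congrFun hN p.1) p.2
      simp only [RingHom.mapMatrix_apply, Matrix.map_apply] at h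
      simp [Φ, h, hMdef]
  have h3 : eval x f = eval y (Φ k n f) := by
    rw [← hcomp]
    rfl
  show eval x f = 0
  rw [h3, show Φ k n f = 0 from hf, map_zero]

theorem diag_pow_mem (i : Fin n) :
    (X (i, i) : MvPolynomial (Fin n × Fin n) k) ^ n ∈
      Ideal.span (Set.range (cc k n)) ⊔
        Ideal.span ((fun p => (X p : MvPolynomial (Fin n × Fin n) k)) ''
          {p : Fin n × Fin n | p.1 ≠ p.2}) := by
  classical
  set L := Ideal.span (Set.range (cc k n)) ⊔
        Ideal.span ((fun p => (X p : MvPolynomial (Fin n × Fin n) k)) ''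
          {p : Fin n × Fin n | p.1 ≠ p.2}) with hL
  rw [← Ideal.Quotient.eq_zero_iff_mem, map_pow]
  set d : Fin n → MvPolynomial (Fin n × Fin n) k ⧸ L :=
    fun i => Ideal.Quotient.mk L (X (i, i)) with hd
  have hdiag : (Matrix.mvPolynomialX (Fin n) (Fin n) k).map (Ideal.Quotient.mk L)
      = Matrix.diagonal d := by
    ext a b
    by_cases hab : a = b
    · subst hab
      simp [hd]
    · rw [Matrix.diagonal_apply_ne _ hab, Matrix.map_apply, Matrix.mvPolynomialX_apply]
      exact Ideal.Quotient.eq_zero_iff_mem.mpr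
        (Ideal.mem_sup_right (Ideal.subset_span ⟨(a, b), hab, rfl⟩))
  have hcoef : ∀ j : Fin n, ((Matrix.diagonal d).charpoly).coeff j = 0 := by
    intro j
    rw [← hdiag, ← map_cc]
    exact Ideal.Quotient.eq_zero_iff_mem.mpr
      (Ideal.mem_sup_left (Ideal.subset_span ⟨j, rfl⟩))
  have hchar := charpoly_eq_X_pow (Matrix.diagonal d) hcoef
  have h := Matrix.aeval_self_charpoly (Matrix.diagonal d)
  rw [hchar, map_pow, Polynomial.aeval_X, Matrix.diagonal_pow] at h
  have h2 := congrFun (congrFun h i) i
  simpa using h2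

theorem main [IsAlgClosed k] (I : Ideal (MvPolynomial (Fin n × Fin n) k))
    (hI : I = Ideal.span (Set.range (fun i : Fin n =>
      (Matrix.charpoly (Matrix.mvPolynomialX (Fin n) (Fin n) k)).coeff (i : ℕ)))) :
    IrreducibleSpace (PrimeSpectrum (MvPolynomial (Fin n × Fin n) k ⧸ I)) ∧
      ringKrullDim (MvPolynomial (Fin n × Fin n) k ⧸ I) = ((n ^ 2 - n : ℕ) : WithBot ℕ∞) := by
  classical
  have hI' : I = Ideal.span (Set.range (cc k n)) := hI
  have hIp : I ≤ pp k n := hI' ▸ span_le_pp k n
  have hpI : pp k n ≤ I.radical := hI' ▸ pp_le_radical k n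
  have hrad : I.radical = pp k n :=
    le_antisymm ((Ideal.IsPrime.radical_le_iff (pp_isPrime k n)).mpr hIp) hpI
  constructor
  · rw [PrimeSpectrum.irreducibleSpace_iff_isPrime_nilradical]
    have hcomap : (nilradical (MvPolynomial (Fin n × Fin n) k ⧸ I)).comap (Ideal.Quotient.mk I)
        = I.radical := by
      ext x
      rw [Ideal.mem_comap, mem_nilradical, Ideal.mem_radical_iff]
      constructor
      · rintro ⟨m, hm⟩
        exact ⟨m, by rw [← Ideal.Quotient.eq_zero_iff_mem, map_pow]; exact hm⟩
      · rintro ⟨m, hm⟩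
        exact ⟨m, by rw [← map_pow]; exact Ideal.Quotient.eq_zero_iff_mem.mpr hm⟩
    have hnil : nilradical (MvPolynomial (Fin n × Fin n) k ⧸ I)
        = (pp k n).map (Ideal.Quotient.mk I) := by
      rw [← hrad, ← hcomap, Ideal.map_comap_of_surjective _ Ideal.Quotient.mk_surjective]
    rw [hnil]
    exact Ideal.map_isPrime_of_surjective Ideal.Quotient.mk_surjective
      (by rw [Ideal.mk_ker]; exact hIp)
  · have hdimI : ringKrullDim (MvPolynomial (Fin n × Fin n) k ⧸ I)
        = ringKrullDim (MvPolynomial (Fin n × Fin n) k ⧸ pp k n) := by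
      rw [ringKrullDim_quotient, ringKrullDim_quotient, ← hrad, PrimeSpectrum.zeroLocus_radical]
    rw [hdimI]
    have hdimP : ringKrullDim (MvPolynomial (Fin n × Fin n) k) = ((n * n : ℕ) : WithBot ℕ∞) := by
      rw [MvPolynomial.ringKrullDim_of_isNoetherianRing, ringKrullDim_eq_zero_of_field, zero_add]
      simp [Nat.card_eq_fintype_card]
    have hmin : pp k n ∈ I.minimalPrimes := by
      refine ⟨⟨pp_isPrime k n, hIp⟩, fun Q hQ hQp => ?_⟩
      rw [← hrad]
      exact (hQ.1.radical_le_iff).mpr hQ.2
    have hht : (pp k n).height ≤ n := by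
      have hspan : I = Ideal.span ((Finset.univ.image (cc k n) : Finset _) : Set _) := by
        rw [hI']
        congr 1
        simp
      rw [hspan] at hmin
      refine (Ideal.height_le_card_of_mem_minimalPrimes_span_finset hmin).trans ?_
      exact_mod_cast (Finset.card_image_le.trans (by simp))
    obtain ⟨h, hh, hhn⟩ := ENat.le_natCast_iff.mp hht
    haveI : Algebra.FiniteType k (MvPolynomial (Fin n × Fin n) k ⧸ pp k n) :=
      Algebra.FiniteType.of_surjective (Ideal.Quotient.mkₐ k (pp k n))
        (Ideal.Quotient.mkₐ_surjective k (pp k n))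
    obtain ⟨a, ha⟩ := Groth.Agent.H2.DimFG.exists_ringKrullDim_eq_nat k
      (MvPolynomial (Fin n × Fin n) k ⧸ pp k n)
    have hsum := Groth.Agent.H2.DimFG.height_add_ringKrullDim_quotient k
      (MvPolynomial (Fin n × Fin n) k) (pp k n)
    rw [hh, ha, hdimP] at hsum
    have hsum' : h + a = n * n := by exact_mod_cast hsum
    -- upper bound
    have hev0 : pp k n ≤ RingHom.ker (aeval (0 : Fin n × Fin n → k) :
        MvPolynomial (Fin n × Fin n) k →ₐ[k] k).toRingHom := by
      rw [← hrad]
      refine (Ideal.IsPrime.radical_le_iff (RingHom.ker_isPrime _)).mpr ?_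
      rw [hI', Ideal.span_le]
      rintro _ ⟨i, rfl⟩
      have h1 := map_cc k n (aeval (0 : Fin n × Fin n → k) :
        MvPolynomial (Fin n × Fin n) k →ₐ[k] k).toRingHom i
      have hz : (Matrix.mvPolynomialX (Fin n) (Fin n) k).map (aeval (0 : Fin n × Fin n → k) :
          MvPolynomial (Fin n × Fin n) k →ₐ[k] k).toRingHom = 0 := by
        ext i j
        simp
      rw [hz, Matrix.charpoly_zero, Fintype.card_fin, Polynomial.coeff_X_pow,
        if_neg (ne_of_lt i.2)] at h1
      exact h1
    let evR : (MvPolynomial (Fin n × Fin n) k ⧸ pp k n) →ₐ[k] k :=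
      Ideal.Quotient.liftₐ (pp k n) (aeval (0 : Fin n × Fin n → k)) (fun a ha => hev0 ha)
    have hevR : ∀ f, evR (Ideal.Quotient.mk (pp k n) f) = aeval (0 : Fin n × Fin n → k) f :=
      fun f => rfl
    have hsurj : Function.Surjective evR.toRingHom := fun c =>
      ⟨algebraMap k _ c, by simp⟩
    haveI hmax : (RingHom.ker evR.toRingHom).IsMaximal :=
      RingHom.ker_isMaximal_of_surjective _ hsurj
    set Sb : Finset (MvPolynomial (Fin n × Fin n) k ⧸ pp k n) :=
      (Finset.univ : Finset (Fin n)).offDiag.image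
        (fun p => Ideal.Quotient.mk (pp k n) (X p)) with hSb
    have hminm : RingHom.ker evR.toRingHom ∈ (Ideal.span (Sb : Set _)).minimalPrimes := by
      refine ⟨⟨hmax.isPrime, ?_⟩, fun Q hQ hQm => ?_⟩
      · rw [Ideal.span_le]
        intro z hz
        obtain ⟨p, hp, rfl⟩ := Finset.mem_image.mp (Finset.mem_coe.mp hz)
        show evR (Ideal.Quotient.mk (pp k n) (X p)) = 0
        rw [hevR]
        simp
      · intro z hz
        obtain ⟨f, rfl⟩ := Ideal.Quotient.mk_surjective z
        have hf0 : aeval (0 : Fin n × Fin n → k) f = 0 := hz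
        have hfspan := mem_span_X_of_aeval_zero k f hf0
        have hX : ∀ p : Fin n × Fin n, Ideal.Quotient.mk (pp k n) (X p) ∈ Q := by
          rintro ⟨i, j⟩
          by_cases hij : i = j
          · subst hij
            have hpow := diag_pow_mem k n i
            have hle : Ideal.span (Set.range (cc k n)) ⊔
                Ideal.span ((fun p => (X p : MvPolynomial (Fin n × Fin n) k)) ''
                  {p : Fin n × Fin n | p.1 ≠ p.2})
                ≤ Q.comap (Ideal.Quotient.mk (pp k n)) := by
              refine sup_le ?_ ?_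
              · intro g hg
                rw [Ideal.mem_comap, Ideal.Quotient.eq_zero_iff_mem.mpr (span_le_pp k n hg)]
                exact Q.zero_mem
              · rw [Ideal.span_le]
                rintro _ ⟨p, hp, rfl⟩
                refine hQ.2 (Ideal.subset_span (Finset.mem_coe.mpr (Finset.mem_image.mpr
                  ⟨p, ?_, rfl⟩)))
                simpa [Finset.mem_offDiag] using hp
            have h5 := hle hpow
            rw [Ideal.mem_comap, map_pow] at h5
            exact hQ.1.mem_of_pow_mem _ h5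
          · refine hQ.2 (Ideal.subset_span (Finset.mem_coe.mpr (Finset.mem_image.mpr
              ⟨(i, j), ?_, rfl⟩)))
            simp [Finset.mem_offDiag, hij]
        have hle2 : Ideal.span (Set.range (X : Fin n × Fin n → MvPolynomial (Fin n × Fin n) k))
            ≤ Q.comap (Ideal.Quotient.mk (pp k n)) := by
          rw [Ideal.span_le]
          rintro _ ⟨p, rfl⟩
          exact hX p
        exact hle2 hfspan
    have hhtm : (RingHom.ker evR.toRingHom).height ≤ (n * n - n : ℕ) := by
      refine (Ideal.height_le_card_of_mem_minimalPrimes_span_finset hminm).trans ?_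
      have hcard : Sb.card ≤ n * n - n := by
        refine Finset.card_image_le.trans ?_
        rw [Finset.offDiag_card]
        simp
      exact_mod_cast hcard
    have hmdim := Groth.Agent.H2.DimFG.height_eq_ringKrullDim_of_isMaximal k
      (MvPolynomial (Fin n × Fin n) k ⧸ pp k n) (RingHom.ker evR.toRingHom)
    rw [ha] at hmdim
    have hle3 : ((RingHom.ker evR.toRingHom).height : WithBot ℕ∞)
        ≤ (((n * n - n : ℕ) : ℕ∞) : WithBot ℕ∞) := WithBot.coe_le_coe.mpr hhtm
    rw [hmdim] at hle3
    have hupper : a ≤ n * n - n := by exact_mod_cast hle3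
    rw [ha]
    have hfinal : a = n ^ 2 - n := by
      rw [pow_two]
      omega
    rw [hfinal]

end Cone

end Groth.Agent.H4.NilCone
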