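import Mathlib

/-! helper4: pseudo-inverses of maps which become isomorphisms after localization. -/

set_option autoImplicit false

universe u

namespace Groth.Agent.H4.NmA

open Module

section PI

variable {R : Type*} [CommRing R] (S : Submonoid R)
  {M N M' N' : Type*} [AddCommGroup M] [Module R M] [AddCommGroup N] [Module R N]
  [AddCommGroup M'] [Module R M'] [AddCommGroup N'] [Module R N']
  (f : M →ₗ[R] M') [IsLocalizedModule S f] (g : N →ₗ[R] N') [IsLocalizedModule S g]

/-- a map between finitely presented modules whose localization is bijective has a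
pseudo-inverse up to an element of the submonoid -/
theorem exists_pseudo_inverse [Module.Finite R M] [Module.FinitePresentation R N]
    (l : M →ₗ[R] N) (hf : Function.Bijective (IsLocalizedModule.map S f g l)) :
    ∃ (l' : N →ₗ[R] M) (s : S), l ∘ₗ l' = (s : R) • LinearMap.id ∧
      l' ∘ₗ l = (s : R) • LinearMap.id := by
  let e : M' ≃ₗ[R] N' := LinearEquiv.ofBijective _ hf
  obtain ⟨l', s₀, H⟩ := Module.FinitePresentation.exists_lift_of_isLocalizedModule S f
    (e.symm.toLinearMap.comp g)
  have H₁ : g ∘ₗ l ∘ₗ l' = g ∘ₗ (s₀ • LinearMap.id) := by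
    ext a; simpa [-EmbeddingLike.apply_eq_iff_eq, e] using congr(e ($H a))
  obtain ⟨s₁, hs₁⟩ := Module.Finite.exists_smul_of_comp_eq_of_isLocalizedModule S g _ _ H₁
  have H₂ : f ∘ₗ l' ∘ₗ l = f ∘ₗ (s₀ • LinearMap.id) := by
    rw [← LinearMap.comp_assoc, H, LinearMap.smul_comp, LinearMap.comp_assoc,
      ← IsLocalizedModule.map_comp S f g l, ← LinearMap.comp_assoc]
    change s₀ • (e.symm.toLinearMap ∘ₗ e.toLinearMap) ∘ₗ _ = _
    simp [LinearMap.comp_smul]
  obtain ⟨s₂, hs₂⟩ := Module.Finite.exists_smul_of_comp_eq_of_isLocalizedModule S f _ _ H₂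
  refine ⟨((s₁ * s₂ : S) : R) • l', s₀ * s₁ * s₂, ?_, ?_⟩
  · ext x
    have h1 : (s₁ : R) • l (l' x) = (s₁ : R) • (s₀ : R) • x := congr($hs₁ x)
    simp only [LinearMap.comp_apply, LinearMap.smul_apply, map_smul, LinearMap.id_apply,
      Submonoid.coe_mul]
    rw [mul_comm (s₁ : R) (s₂ : R), mul_smul, h1, ← mul_smul, ← mul_smul]
    congr 1
    ring
  · ext x
    have h2 : (s₂ : R) • l' (l x) = (s₂ : R) • (s₀ : R) • x := congr($hs₂ x)
    simp only [LinearMap.comp_apply, LinearMap.smul_apply, LinearMap.id_apply,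
      Submonoid.coe_mul]
    rw [mul_smul, h2, ← mul_smul, ← mul_smul]
    congr 1
    ring

include f g in
/-- finitely presented modules with isomorphic localizations are pseudo-isomorphic -/
theorem exists_pseudo_iso [Module.FinitePresentation R M] [Module.FinitePresentation R N]
    (l : M' ≃ₗ[R] N') :
    ∃ (α : M →ₗ[R] N) (β : N →ₗ[R] M) (s : S), α ∘ₗ β = (s : R) • LinearMap.id ∧
      β ∘ₗ α = (s : R) • LinearMap.id := by
  obtain ⟨l', s, H⟩ := Module.FinitePresentation.exists_lift_of_isLocalizedModule S g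
    (l.toLinearMap ∘ₗ f)
  have : Function.Bijective (IsLocalizedModule.map S f g l') := by
    have : IsLocalizedModule.map S f g l' = ((s : R) • LinearMap.id) ∘ₗ l.toLinearMap := by
      apply IsLocalizedModule.ext S f (IsLocalizedModule.map_units g)
      apply LinearMap.ext fun x ↦ ?_
      simp only [LinearMap.coe_comp, Function.comp_apply, IsLocalizedModule.map_apply]
      rw [← LinearMap.comp_apply, H]
      simp
      rfl
    rw [this]
    exact ((Module.End.isUnit_iff _).mp (IsLocalizedModule.map_units g s)).comp l.bijective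
  obtain ⟨β, s', h1, h2⟩ := exists_pseudo_inverse S f g l' this
  exact ⟨l', β, s', h1, h2⟩

end PI

end Groth.Agent.H4.NmA
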