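import Mathlib
import Groth.Agent.H4.NmA

/-! helper4: local structure of finite locally free algebras and rank one modules over them. -/

set_option autoImplicit false

universe u

namespace Groth.Agent.H4.NmB

open Module TensorProduct

/-- a finite algebra over a local ring is semilocal -/
theorem finite_maxSpec (R S : Type*) [CommRing R] [CommRing S] [Algebra R S] [IsLocalRing R]
    [Module.Finite R S] : Finite (MaximalSpectrum S) := by
  have hfin := Algebra.QuasiFinite.finite_primesOver (R := R) (S := S) (IsLocalRing.maximalIdeal R)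
  have hmem : ∀ P : MaximalSpectrum S, P.asIdeal ∈ (IsLocalRing.maximalIdeal R).primesOver S := by
    intro P
    have := P.isMaximal
    refine ⟨P.isMaximal.isPrime, ⟨?_⟩⟩
    have hmax : (P.asIdeal.comap (algebraMap R S)).IsMaximal :=
      Ideal.isMaximal_comap_of_isIntegral_of_isMaximal P.asIdeal
    exact (IsLocalRing.eq_maximalIdeal hmax).symm
  have := hfin.to_subtype
  exact Finite.of_injective
    (fun P : MaximalSpectrum S =>
      (⟨P.asIdeal, hmem P⟩ : (IsLocalRing.maximalIdeal R).primesOver S))
    (fun P Q h => MaximalSpectrum.ext (congrArg Subtype.val h))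

/-- rank at a maximal ideal via the quotient field -/
theorem finrank_quot_eq (R : Type*) [CommRing R] (M : Type*) [AddCommGroup M] [Module R M]
    [Module.Finite R M] [Module.Flat R M] (P : Ideal R) [hP : P.IsMaximal] :
    finrank (R ⧸ P) ((R ⧸ P) ⊗[R] M) = rankAtStalk M ⟨P, hP.isPrime⟩ := by
  let _ := Ideal.Quotient.field P
  rw [rankAtStalk_eq, ← (AlgebraTensorModule.cancelBaseChange R (R ⧸ P) P.ResidueField
    P.ResidueField M).finrank_eq]
  exact (Module.finrank_baseChange (R := P.ResidueField) (S := R ⧸ P)
    (M' := (R ⧸ P) ⊗[R] M)).symm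


section Local

variable (A B : Type*) [CommRing A] [CommRing B] [Algebra A B] [Module.Finite A B]

/-- a rank one projective module over a finite `A`-algebra `B` is free after localizing at a
prime of `A` -/
theorem exists_equiv_localized (q : PrimeSpectrum A) (M : Type*) [AddCommGroup M] [Module B M]
    [Module.Finite B M] [Module.Projective B M]
    (hM : ∀ p : PrimeSpectrum B, rankAtStalk M p = 1) :
    Nonempty (LocalizedModule (Algebra.algebraMapSubmonoid B q.asIdeal.primeCompl) M
      ≃ₗ[Localization (Algebra.algebraMapSubmonoid B q.asIdeal.primeCompl)]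
      Localization (Algebra.algebraMapSubmonoid B q.asIdeal.primeCompl)) := by
  set S := Algebra.algebraMapSubmonoid B q.asIdeal.primeCompl with hS
  have : Finite (MaximalSpectrum (Localization S)) :=
    finite_maxSpec (Localization.AtPrime q.asIdeal) (Localization S)
  have rk : ∀ P : MaximalSpectrum (Localization S),
      finrank (Localization S ⧸ P.1) ((Localization S ⧸ P.1) ⊗[Localization S]
        LocalizedModule S M) = 1 := by
    intro P
    have := P.isMaximal
    rw [finrank_quot_eq, rankAtStalk_isBaseChange (LocalizedModule.isBaseChange S M)]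
    exact hM _
  obtain ⟨b⟩ := Module.nonempty_basis_of_flat_of_finrank_eq (Localization S)
    (LocalizedModule S M) 1 rk
  exact ⟨b.equivFun.trans (LinearEquiv.funUnique (Fin 1) _ _)⟩

/-- local pseudo-trivialization of a rank one module -/
theorem local_datum_M (q : PrimeSpectrum A) (M : Type*) [AddCommGroup M] [Module B M]
    [Module.Finite B M] [Module.Projective B M]
    (hM : ∀ p : PrimeSpectrum B, rankAtStalk M p = 1) :
    ∃ (t : A) (_ : t ∉ q.asIdeal) (α : B →ₗ[B] M) (β : M →ₗ[B] B),
      α ∘ₗ β = (algebraMap A B t) • LinearMap.id ∧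
      β ∘ₗ α = (algebraMap A B t) • LinearMap.id := by
  obtain ⟨e⟩ := exists_equiv_localized A B q M hM
  have : Module.FinitePresentation B M := Module.finitePresentation_of_projective B M
  obtain ⟨α, β, s, h1, h2⟩ := Groth.Agent.H4.NmA.exists_pseudo_iso
    (Algebra.algebraMapSubmonoid B q.asIdeal.primeCompl)
    (Algebra.linearMap B (Localization (Algebra.algebraMapSubmonoid B q.asIdeal.primeCompl)))
    (LocalizedModule.mkLinearMap (Algebra.algebraMapSubmonoid B q.asIdeal.primeCompl) M)
    (e.symm.restrictScalars B)
  obtain ⟨t, ht, hts⟩ := s.2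
  exact ⟨t, ht, α, β, by rw [hts]; exact h1, by rw [hts]; exact h2⟩

/-- local pseudo-trivialization of a finite locally free algebra of rank `n` -/
theorem local_datum_B [Module.Projective A B] (n : ℕ)
    (hn : ∀ q : PrimeSpectrum A, rankAtStalk B q = n) (q : PrimeSpectrum A) :
    ∃ (s : A) (_ : s ∉ q.asIdeal) (α : (Fin n → A) →ₗ[A] B) (β : B →ₗ[A] (Fin n → A)),
      α ∘ₗ β = s • LinearMap.id ∧ β ∘ₗ α = s • LinearMap.id := by
  have : Nontrivial A :=
    nontrivial_of_ne (0 : A) 1 (fun h => q.isPrime.one_notMem (h ▸ q.asIdeal.zero_mem))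
  have : Module.FinitePresentation A B := Module.finitePresentation_of_projective A B
  have f1 : Module.Free (Localization.AtPrime q.asIdeal)
      (LocalizedModule q.asIdeal.primeCompl B) := Module.free_of_flat_of_isLocalRing
  have f2 : Module.Free (Localization.AtPrime q.asIdeal)
      (LocalizedModule q.asIdeal.primeCompl (Fin n → A)) := Module.free_of_flat_of_isLocalRing
  have r1 : finrank (Localization.AtPrime q.asIdeal)
      (LocalizedModule q.asIdeal.primeCompl B) = n := hn q
  have r2 : finrank (Localization.AtPrime q.asIdeal)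
      (LocalizedModule q.asIdeal.primeCompl (Fin n → A)) = n := by
    have := congrFun (rankAtStalk_eq_finrank_of_free (R := A) (M := Fin n → A)) q
    simpa [rankAtStalk] using this
  let l : LocalizedModule q.asIdeal.primeCompl (Fin n → A) ≃ₗ[Localization.AtPrime q.asIdeal]
      LocalizedModule q.asIdeal.primeCompl B := LinearEquiv.ofFinrankEq _ _ (r2.trans r1.symm)
  obtain ⟨α, β, s, h1, h2⟩ := Groth.Agent.H4.NmA.exists_pseudo_iso q.asIdeal.primeCompl
    (LocalizedModule.mkLinearMap q.asIdeal.primeCompl (Fin n → A))
    (LocalizedModule.mkLinearMap q.asIdeal.primeCompl B)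
    (l.restrictScalars A)
  exact ⟨s, s.2, α, β, h1, h2⟩

end Local

end Groth.Agent.H4.NmB
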