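import Mathlib

/-! helper4: exterior power lemmas, the key commutation lemma for invertible modules, and
a partition-of-unity gluing lemma. -/

set_option autoImplicit false

universe u

namespace Groth.Agent.H4.NmC

open Module TensorProduct

section ExtSmul

variable {R : Type*} [CommRing R] {M N : Type*} [AddCommGroup M] [Module R M]
  [AddCommGroup N] [Module R N]

theorem map_smul_pow (n : ℕ) (t : R) (f : M →ₗ[R] N) :
    exteriorPower.map n (t • f) = t ^ n • exteriorPower.map n f := by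
  apply exteriorPower.linearMap_ext
  ext m
  simp only [LinearMap.compAlternatingMap_apply, exteriorPower.map_apply_ιMulti,
    LinearMap.smul_apply]
  have h1 : ((t • f) ∘ m) = fun i => t • (f (m i)) := by
    ext i; simp
  rw [h1]
  have h2 := (exteriorPower.ιMulti R n (M := N)).toMultilinearMap.map_smul_univ
    (fun _ => t) (fun i => f (m i))
  simp only [Finset.prod_const, Finset.card_univ, Fintype.card_fin] at h2
  exact congrArg Subtype.val h2

end ExtSmul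

section Key

variable {A : Type*} [CommRing A] {L : Type*} [AddCommGroup L] [Module A L]

/-- for a module locally pseudo-isomorphic to the ring, endomorphisms can be moved across the
tensor square -/
theorem key
    (hL : ∀ q : PrimeSpectrum A, ∃ (s : A) (_ : s ∉ q.asIdeal) (a : A →ₗ[A] L) (b : L →ₗ[A] A),
      a ∘ₗ b = s • LinearMap.id)
    (g : L →ₗ[A] L) :
    TensorProduct.map g (LinearMap.id : L →ₗ[A] L) = TensorProduct.map LinearMap.id g := by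
  set D : L ⊗[A] L →ₗ[A] L ⊗[A] L :=
    TensorProduct.map g (LinearMap.id : L →ₗ[A] L) - TensorProduct.map LinearMap.id g with hD
  let I : Ideal A := LinearMap.ker (LinearMap.toSpanSingleton A _ D)
  have hI : ∀ s : A, s ∈ I ↔ s • D = 0 := by
    intro s
    simp [I, LinearMap.mem_ker, LinearMap.toSpanSingleton_apply]
  have htop : I = ⊤ := by
    by_contra hne
    obtain ⟨m, hm, hIm⟩ := Ideal.exists_le_maximal I hne
    obtain ⟨s, hs, a, b, hab⟩ := hL ⟨m, hm.isPrime⟩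
    have hab' : ∀ y, a (b y) = s • y := fun y => by
      have := congrArg (fun f => f y) hab
      simpa using this
    set c : A := b (g (a 1)) with hc
    have h2 : (s * s) • g = (c * s) • LinearMap.id := by
      ext x
      simp only [LinearMap.smul_apply, LinearMap.id_apply]
      have e1 : b (g (a (b x))) = b x * c := by
        have : a (b x) = b x • a 1 := by
          rw [← map_smul, smul_eq_mul, mul_one]
        rw [this, map_smul, map_smul, smul_eq_mul]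
      calc (s * s) • g x = s • g (s • x) := by rw [map_smul, mul_smul]
        _ = s • g (a (b x)) := by rw [hab']
        _ = a (b (g (a (b x)))) := by rw [hab' (g (a (b x)))]
        _ = a (b x * c) := by rw [e1]
        _ = (c * s) • x := by
          rw [mul_comm (b x) c, ← smul_eq_mul, map_smul, hab', mul_smul]
    have h3 : (s * s) • D = 0 := by
      rw [hD, smul_sub, ← TensorProduct.map_smul_left, ← TensorProduct.map_smul_right, h2,
        TensorProduct.map_smul_left, TensorProduct.map_smul_right, sub_self]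
    have : s * s ∈ m := hIm ((hI _).mpr h3)
    rcases hm.isPrime.mem_or_mem this with h | h <;> exact hs h
  have : (1 : A) ∈ I := by rw [htop]; trivial
  have h0 := (hI 1).mp this
  rw [one_smul] at h0
  exact sub_eq_zero.mp h0

theorem key' (hL : ∀ q : PrimeSpectrum A, ∃ (s : A) (_ : s ∉ q.asIdeal) (a : A →ₗ[A] L)
      (b : L →ₗ[A] A), a ∘ₗ b = s • LinearMap.id)
    {Y₁ Y₂ Z₁ Z₂ : Type*} [AddCommGroup Y₁] [Module A Y₁] [AddCommGroup Y₂] [Module A Y₂]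
    [AddCommGroup Z₁] [Module A Z₁] [AddCommGroup Z₂] [Module A Z₂]
    (i₁ : L →ₗ[A] Y₁) (i₂ : L →ₗ[A] Y₂) (r₁ : Z₁ →ₗ[A] L) (r₂ : Z₂ →ₗ[A] L) (g : L →ₗ[A] L) :
    TensorProduct.map (i₁ ∘ₗ g ∘ₗ r₁) (i₂ ∘ₗ r₂) = TensorProduct.map (i₁ ∘ₗ r₁) (i₂ ∘ₗ g ∘ₗ r₂) := by
  have e1 : TensorProduct.map (i₁ ∘ₗ g ∘ₗ r₁) (i₂ ∘ₗ r₂) =
      TensorProduct.map i₁ i₂ ∘ₗ TensorProduct.map g LinearMap.id ∘ₗ TensorProduct.map r₁ r₂ := by
    rw [← TensorProduct.map_comp, ← TensorProduct.map_comp, LinearMap.id_comp]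
  have e2 : TensorProduct.map (i₁ ∘ₗ r₁) (i₂ ∘ₗ g ∘ₗ r₂) =
      TensorProduct.map i₁ i₂ ∘ₗ TensorProduct.map LinearMap.id g ∘ₗ TensorProduct.map r₁ r₂ := by
    rw [← TensorProduct.map_comp, ← TensorProduct.map_comp, LinearMap.id_comp]
  rw [e1, e2, key hL g]

end Key

section PU

variable {A : Type*} [CommRing A] {P Q : Type*} [AddCommMonoid P] [Module A P]
  [AddCommMonoid Q] [Module A Q]

theorem nonempty_equiv_of_partition {ι : Type*} (φ : ι → (Q →ₗ[A] P)) (ψ : ι → (P →ₗ[A] Q))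
    (τ : ι → A)
    (h1 : ∀ i j, φ i ∘ₗ ψ j = (τ i * τ j) • LinearMap.id)
    (h2 : ∀ i j, ψ j ∘ₗ φ i = (τ i * τ j) • LinearMap.id)
    (hτ : Ideal.span (Set.range τ) = ⊤) : Nonempty (P ≃ₗ[A] Q) := by
  have h1' : (1 : A) ∈ Submodule.span A (Set.range τ) := by
    have : (1 : A) ∈ Ideal.span (Set.range τ) := by rw [hτ]; trivial
    exact this
  obtain ⟨c, hc⟩ := Finsupp.mem_span_range_iff_exists_finsupp.mp h1'
  have hc' : ∑ i ∈ c.support, c i * τ i = 1 := by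
    simpa [Finsupp.sum, smul_eq_mul] using hc
  let Φ : Q →ₗ[A] P := ∑ i ∈ c.support, c i • φ i
  let Ψ : P →ₗ[A] Q := ∑ j ∈ c.support, c j • ψ j
  have h1e : ∀ i j p, φ i (ψ j p) = (τ i * τ j) • p := fun i j p => by
    simpa using congrArg (fun f => f p) (h1 i j)
  have h2e : ∀ i j p, ψ j (φ i p) = (τ i * τ j) • p := fun i j p => by
    simpa using congrArg (fun f => f p) (h2 i j)
  have hsum : ∑ x ∈ c.support, ∑ y ∈ c.support, c x * (c y * (τ x * τ y)) = 1 := by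
    have := congrArg₂ (· * ·) hc' hc'
    simp only [mul_one] at this
    rw [Finset.sum_mul_sum] at this
    rw [← this]
    refine Finset.sum_congr rfl fun x _ => Finset.sum_congr rfl fun y _ => by ring
  have hsum' : ∑ x ∈ c.support, ∑ y ∈ c.support, c x * (c y * (τ y * τ x)) = 1 := by
    rw [← hsum]
    refine Finset.sum_congr rfl fun x _ => Finset.sum_congr rfl fun y _ => by ring
  have e1 : Φ ∘ₗ Ψ = LinearMap.id := by
    ext p
    simp only [Φ, Ψ, LinearMap.comp_apply, LinearMap.sum_apply, LinearMap.smul_apply, map_sum,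
      map_smul, h1e, LinearMap.id_apply]
    simp_rw [Finset.smul_sum, smul_smul, ← Finset.sum_smul]
    rw [hsum', one_smul]
  have e2 : Ψ ∘ₗ Φ = LinearMap.id := by
    ext p
    simp only [Φ, Ψ, LinearMap.comp_apply, LinearMap.sum_apply, LinearMap.smul_apply, map_sum,
      map_smul, h2e, LinearMap.id_apply]
    simp_rw [Finset.smul_sum, smul_smul, ← Finset.sum_smul]
    rw [hsum, one_smul]
  exact ⟨LinearEquiv.ofLinearMap Ψ Φ e2 e1⟩

end PU

section Abs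

variable {A : Type*} [CommRing A] {L : Type*} [AddCommGroup L] [Module A L]
  {W₁ W₂ W₃ : Type*} [AddCommGroup W₁] [Module A W₁] [AddCommGroup W₂] [Module A W₂]
  [AddCommGroup W₃] [Module A W₃]

theorem comp1_abs (hL : ∀ q : PrimeSpectrum A, ∃ (s : A) (_ : s ∉ q.asIdeal) (a : A →ₗ[A] L)
      (b : L →ₗ[A] A), a ∘ₗ b = s • LinearMap.id)
    (r₁ : W₁ →ₗ[A] L) (j₁' : L →ₗ[A] W₁) (r₂ : W₂ →ₗ[A] L) (j₂' : L →ₗ[A] W₂)
    (j₃ : L →ₗ[A] W₃) (r₃' : W₃ →ₗ[A] L) (c : A)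
    (H : j₃ ∘ₗ (r₁ ∘ₗ j₁') ∘ₗ (r₂ ∘ₗ j₂') ∘ₗ r₃' = c • LinearMap.id) :
    TensorProduct.map r₁ (j₃ ∘ₗ r₂) ∘ₗ TensorProduct.map j₁' (j₂' ∘ₗ r₃') =
      c • LinearMap.id := by
  have k := key' hL (LinearMap.id : L →ₗ[A] L) j₃ (LinearMap.id : L →ₗ[A] L)
    ((r₂ ∘ₗ j₂') ∘ₗ r₃') (r₁ ∘ₗ j₁')
  simp only [LinearMap.id_comp, LinearMap.comp_id] at k
  rw [H, TensorProduct.map_smul_right, TensorProduct.map_id] at k
  rw [← TensorProduct.map_comp]
  exact k

theorem comp2_abs (hL : ∀ q : PrimeSpectrum A, ∃ (s : A) (_ : s ∉ q.asIdeal) (a : A →ₗ[A] L)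
      (b : L →ₗ[A] A), a ∘ₗ b = s • LinearMap.id)
    (r₁ : W₁ →ₗ[A] L) (j₁' : L →ₗ[A] W₁) (r₂ : W₂ →ₗ[A] L) (j₂' : L →ₗ[A] W₂)
    (j₃ : L →ₗ[A] W₃) (r₃' : W₃ →ₗ[A] L) (g₁ g₂ : L →ₗ[A] L) (c₁ c₂ : A)
    (H3 : r₃' ∘ₗ j₃ = g₁ ∘ₗ g₂) (H1 : j₁' ∘ₗ g₁ ∘ₗ r₁ = c₁ • LinearMap.id)
    (H2 : j₂' ∘ₗ g₂ ∘ₗ r₂ = c₂ • LinearMap.id) :
    TensorProduct.map j₁' (j₂' ∘ₗ r₃') ∘ₗ TensorProduct.map r₁ (j₃ ∘ₗ r₂) =
      (c₁ * c₂) • LinearMap.id := by
  have k := key' hL j₁' j₂' r₁ (g₂ ∘ₗ r₂) g₁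
  rw [H1, H2, TensorProduct.map_smul_left, TensorProduct.map_smul_right, TensorProduct.map_id,
    smul_smul] at k
  rw [← TensorProduct.map_comp]
  have e : (j₂' ∘ₗ r₃') ∘ₗ (j₃ ∘ₗ r₂) = j₂' ∘ₗ g₁ ∘ₗ (g₂ ∘ₗ r₂) := by
    calc (j₂' ∘ₗ r₃') ∘ₗ (j₃ ∘ₗ r₂) = j₂' ∘ₗ (r₃' ∘ₗ j₃) ∘ₗ r₂ := rfl
      _ = j₂' ∘ₗ (g₁ ∘ₗ g₂) ∘ₗ r₂ := by rw [H3]
      _ = _ := rfl
  rw [e]
  exact k.symm

end Abs

end Groth.Agent.H4.NmC
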