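import Mathlib
import Groth.Agent.H4.NmB
import Groth.Agent.H4.NmC

/-! helper4: norms of rank one modules along a finite locally free algebra are multiplicative
(existence of an isomorphism), by a partition of unity of pseudo-isomorphisms. -/

set_option autoImplicit false

universe u

namespace Groth.Agent.H4.NmD

open Module TensorProduct
open Groth.Agent.H4

section E

variable (A : Type*) {B : Type*} [CommRing A] [CommRing B] [Algebra A B] (n : ℕ)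
variable {X Y Z : Type*} [AddCommGroup X] [Module B X] [Module A X] [IsScalarTower A B X]
  [AddCommGroup Y] [Module B Y] [Module A Y] [IsScalarTower A B Y]
  [AddCommGroup Z] [Module B Z] [Module A Z] [IsScalarTower A B Z]

/-- the `A`-linear map on `n`-th exterior powers over `A` induced by a `B`-linear map -/
noncomputable def E (u : X →ₗ[B] Y) : ⋀[A]^n X →ₗ[A] ⋀[A]^n Y :=
  exteriorPower.map n (u.restrictScalars A)

theorem E_comp (u : Y →ₗ[B] Z) (v : X →ₗ[B] Y) : E A n (u ∘ₗ v) = E A n u ∘ₗ E A n v := by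
  unfold E
  rw [← exteriorPower.map_comp]
  rfl

theorem E_id : E A n (LinearMap.id : X →ₗ[B] X) = LinearMap.id := by
  unfold E
  exact exteriorPower.map_id

theorem E_smul (t : A) (u : X →ₗ[B] Y) : E A n (t • u) = t ^ n • E A n u := by
  unfold E
  rw [← NmC.map_smul_pow]
  rfl

end E

section Datum

variable (A B : Type*) [CommRing A] [CommRing B] [Algebra A B]

/-- a pseudo-trivialization of a `B`-module, with an `A`-scalar -/
structure Datum (X : Type*) [AddCommGroup X] [Module B X] [Module A X]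
    [IsScalarTower A B X] where
  t : A
  m : X
  ρ : X →ₗ[B] B
  h1 : ρ m = algebraMap A B t
  h2 : ∀ x, ρ x • m = t • x

variable {A B}
variable {X : Type*} [AddCommGroup X] [Module B X] [Module A X] [IsScalarTower A B X]

noncomputable def Datum.μ (d : Datum A B X) : B →ₗ[B] X := LinearMap.toSpanSingleton B X d.m

theorem Datum.μ_apply (d : Datum A B X) (b : B) : d.μ b = b • d.m := rfl

theorem Datum.μ_ρ (d : Datum A B X) : d.μ ∘ₗ d.ρ = d.t • LinearMap.id := by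
  apply LinearMap.ext
  intro x
  simp only [LinearMap.comp_apply, Datum.μ_apply, d.h2, LinearMap.smul_apply, LinearMap.id_apply]

noncomputable def Datum.ofPair (t : A) (α : B →ₗ[B] X) (β : X →ₗ[B] B)
    (hαβ : α ∘ₗ β = (algebraMap A B t) • LinearMap.id)
    (hβα : β ∘ₗ α = (algebraMap A B t) • LinearMap.id) : Datum A B X where
  t := t
  m := α 1
  ρ := β
  h1 := by
    have := congrArg (fun f => f 1) hβα
    simpa [Algebra.algebraMap_eq_smul_one] using this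
  h2 := fun x => by
    have := congrArg (fun f => f x) hαβ
    simp only [LinearMap.comp_apply, LinearMap.smul_apply, LinearMap.id_apply] at this
    rw [← map_smul, smul_eq_mul, mul_one, this, algebraMap_smul]

variable {X₁ X₂ X₃ : Type*} [AddCommGroup X₁] [Module B X₁] [Module A X₁] [IsScalarTower A B X₁]
  [AddCommGroup X₂] [Module B X₂] [Module A X₂] [IsScalarTower A B X₂]
  [AddCommGroup X₃] [Module B X₃] [Module A X₃] [IsScalarTower A B X₃]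

noncomputable def Datum.tensor (d₁ : Datum A B X₁) (d₂ : Datum A B X₂) :
    Datum A B (X₁ ⊗[B] X₂) where
  t := d₁.t * d₂.t
  m := d₁.m ⊗ₜ d₂.m
  ρ := (TensorProduct.lid B B).toLinearMap ∘ₗ TensorProduct.map d₁.ρ d₂.ρ
  h1 := by simp [d₁.h1, d₂.h1]
  h2 := fun z => by
    induction z using TensorProduct.induction_on with
    | zero => simp
    | tmul x y =>
      simp only [LinearMap.comp_apply, TensorProduct.map_tmul, LinearEquiv.coe_coe,
        TensorProduct.lid_tmul, smul_eq_mul]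
      rw [← TensorProduct.smul_tmul_smul, d₁.h2, d₂.h2, TensorProduct.tmul_smul,
        ← TensorProduct.smul_tmul', smul_smul, mul_comm]
    | add a b ha hb => simp only [map_add, add_smul, smul_add, ha, hb]

theorem Datum.tensor_ρ_m (d₁ d₁' : Datum A B X₁) (d₂ d₂' : Datum A B X₂) :
    (d₁'.tensor d₂').ρ (d₁.tensor d₂).m = d₁'.ρ d₁.m * d₂'.ρ d₂.m := by
  simp [Datum.tensor]

theorem Datum.tensor_t (d₁ : Datum A B X₁) (d₂ : Datum A B X₂) :
    (d₁.tensor d₂).t = d₁.t * d₂.t := rfl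

/-- the cross composite `ρ' ∘ μ` of two data is multiplication by `ρ' m` -/
theorem Datum.cross_apply (d d' : Datum A B X) (b : B) : d'.ρ (d.μ b) = b * d'.ρ d.m := by
  simp [Datum.μ_apply]

variable (A) (n : ℕ)

noncomputable def phi (d₁ : Datum A B X₁) (d₂ : Datum A B X₂) (d₃ : Datum A B X₃) :
    (⋀[A]^n X₁) ⊗[A] (⋀[A]^n X₂) →ₗ[A] (⋀[A]^n B) ⊗[A] (⋀[A]^n X₃) :=
  TensorProduct.map (E A n d₁.ρ) (E A n d₃.μ ∘ₗ E A n d₂.ρ)

noncomputable def psi (d₁ : Datum A B X₁) (d₂ : Datum A B X₂) (d₃ : Datum A B X₃) :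
    (⋀[A]^n B) ⊗[A] (⋀[A]^n X₃) →ₗ[A] (⋀[A]^n X₁) ⊗[A] (⋀[A]^n X₂) :=
  TensorProduct.map (E A n d₁.μ) (E A n d₂.μ ∘ₗ E A n d₃.ρ)

variable {A n}

theorem comp1 (hL : ∀ q : PrimeSpectrum A, ∃ (s : A) (_ : s ∉ q.asIdeal)
      (a : A →ₗ[A] ⋀[A]^n B) (b : ⋀[A]^n B →ₗ[A] A), a ∘ₗ b = s • LinearMap.id)
    (d₁ d₁' : Datum A B X₁) (d₂ d₂' : Datum A B X₂) (d₃ d₃' : Datum A B X₃)
    (hB : d₃.ρ d₃'.m = d₁.ρ d₁'.m * d₂.ρ d₂'.m) :
    phi A n d₁ d₂ d₃ ∘ₗ psi A n d₁' d₂' d₃' = ((d₃.t * d₃'.t) ^ n) • LinearMap.id := by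
  unfold phi psi
  apply NmC.comp1_abs hL
  simp only [← E_comp]
  have c1 : d₃.μ ∘ₗ (d₁.ρ ∘ₗ d₁'.μ) ∘ₗ (d₂.ρ ∘ₗ d₂'.μ) ∘ₗ d₃'.ρ =
      (d₃.t * d₃'.t) • LinearMap.id := by
    apply LinearMap.ext
    intro z
    simp only [LinearMap.comp_apply, Datum.cross_apply, LinearMap.smul_apply, LinearMap.id_apply]
    rw [Datum.μ_apply]
    have e : (d₃'.ρ z * d₂.ρ d₂'.m * d₁.ρ d₁'.m) = d₃'.ρ z * d₃.ρ d₃'.m := by
      rw [hB]; ring
    rw [e, mul_smul, d₃.h2, smul_comm, d₃'.h2, mul_smul]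
  rw [c1, E_smul, E_id]

theorem comp2 (hL : ∀ q : PrimeSpectrum A, ∃ (s : A) (_ : s ∉ q.asIdeal)
      (a : A →ₗ[A] ⋀[A]^n B) (b : ⋀[A]^n B →ₗ[A] A), a ∘ₗ b = s • LinearMap.id)
    (d₁ d₁' : Datum A B X₁) (d₂ d₂' : Datum A B X₂) (d₃ d₃' : Datum A B X₃)
    (hA : d₃'.ρ d₃.m = d₁'.ρ d₁.m * d₂'.ρ d₂.m) :
    psi A n d₁' d₂' d₃' ∘ₗ phi A n d₁ d₂ d₃ =
      ((d₁.t * d₁'.t) ^ n * (d₂.t * d₂'.t) ^ n) • LinearMap.id := by
  unfold phi psi
  apply NmC.comp2_abs hL _ _ _ _ _ _ (E A n (d₁'.ρ ∘ₗ d₁.μ)) (E A n (d₂'.ρ ∘ₗ d₂.μ))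
  · simp only [← E_comp]
    congr 1
    apply LinearMap.ext_ring
    simp only [LinearMap.comp_apply, Datum.cross_apply, one_mul, hA]
    ring
  · simp only [← E_comp]
    have c3 : d₁'.μ ∘ₗ (d₁'.ρ ∘ₗ d₁.μ) ∘ₗ d₁.ρ = (d₁.t * d₁'.t) • LinearMap.id := by
      calc d₁'.μ ∘ₗ (d₁'.ρ ∘ₗ d₁.μ) ∘ₗ d₁.ρ = (d₁'.μ ∘ₗ d₁'.ρ) ∘ₗ (d₁.μ ∘ₗ d₁.ρ) := rfl
        _ = _ := by
          rw [Datum.μ_ρ, Datum.μ_ρ, LinearMap.smul_comp, LinearMap.comp_smul, LinearMap.id_comp,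
            smul_smul, mul_comm]
    rw [c3, E_smul, E_id]
  · simp only [← E_comp]
    have c3 : d₂'.μ ∘ₗ (d₂'.ρ ∘ₗ d₂.μ) ∘ₗ d₂.ρ = (d₂.t * d₂'.t) • LinearMap.id := by
      calc d₂'.μ ∘ₗ (d₂'.ρ ∘ₗ d₂.μ) ∘ₗ d₂.ρ = (d₂'.μ ∘ₗ d₂'.ρ) ∘ₗ (d₂.μ ∘ₗ d₂.ρ) := rfl
        _ = _ := by
          rw [Datum.μ_ρ, Datum.μ_ρ, LinearMap.smul_comp, LinearMap.comp_smul, LinearMap.id_comp,
            smul_smul, mul_comm]
    rw [c3, E_smul, E_id]

end Datum

section Main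

/-- local pseudo-trivialization of the top exterior power of a finite locally free algebra -/
theorem local_datum_L (A B : Type*) [CommRing A] [CommRing B] [Algebra A B] [Module.Finite A B]
    [Module.Projective A B] (n : ℕ) (hn : ∀ q : PrimeSpectrum A, rankAtStalk B q = n)
    (q : PrimeSpectrum A) :
    ∃ (s : A) (_ : s ∉ q.asIdeal) (a : A →ₗ[A] ⋀[A]^n B) (b : ⋀[A]^n B →ₗ[A] A),
      a ∘ₗ b = s • LinearMap.id := by
  have : Nontrivial A :=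
    nontrivial_of_ne (0 : A) 1 (fun h => q.isPrime.one_notMem (h ▸ q.asIdeal.zero_mem))
  obtain ⟨s₀, hs₀, α, β, hαβ, -⟩ := NmB.local_datum_B A B n hn q
  obtain ⟨e⟩ := Module.nonempty_linearEquiv_of_finrank_eq_one (R := A)
    (M := ⋀[A]^n (Fin n → A)) (by simp [exteriorPower.finrank_eq])
  refine ⟨s₀ ^ n, fun h => hs₀ (q.isPrime.mem_of_pow_mem n h),
    exteriorPower.map n α ∘ₗ e.toLinearMap, e.symm.toLinearMap ∘ₗ exteriorPower.map n β, ?_⟩
  calc (exteriorPower.map n α ∘ₗ e.toLinearMap) ∘ₗ (e.symm.toLinearMap ∘ₗ exteriorPower.map n β)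
      = exteriorPower.map n α ∘ₗ (e.toLinearMap ∘ₗ e.symm.toLinearMap) ∘ₗ
          exteriorPower.map n β := rfl
    _ = exteriorPower.map n α ∘ₗ exteriorPower.map n β := by
        rw [LinearEquiv.comp_symm, LinearMap.id_comp]
    _ = _ := by
        rw [← exteriorPower.map_comp, hαβ, NmC.map_smul_pow, exteriorPower.map_id]

theorem main (A B : Type u) [CommRing A] [CommRing B] [Algebra A B] [Module.Finite A B]
    [Module.Projective A B] (n : ℕ) (hn : ∀ q : PrimeSpectrum A, rankAtStalk B q = n)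
    (M₁ M₂ : Type u) [AddCommGroup M₁] [Module B M₁] [Module A M₁] [IsScalarTower A B M₁]
    [AddCommGroup M₂] [Module B M₂] [Module A M₂] [IsScalarTower A B M₂]
    [Module.Finite B M₁] [Module.Projective B M₁] [Module.Finite B M₂] [Module.Projective B M₂]
    (h₁ : ∀ q : PrimeSpectrum B, rankAtStalk M₁ q = 1)
    (h₂ : ∀ q : PrimeSpectrum B, rankAtStalk M₂ q = 1) :
    Nonempty ((⋀[A]^n B) ⊗[A] (⋀[A]^n (M₁ ⊗[B] M₂)) ≃ₗ[A] (⋀[A]^n M₁) ⊗[A] (⋀[A]^n M₂)) := by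
  have hL := local_datum_L A B n hn
  choose t₁ ht₁ α₁ β₁ hαβ₁ hβα₁ using fun q => NmB.local_datum_M A B q M₁ h₁
  choose t₂ ht₂ α₂ β₂ hαβ₂ hβα₂ using fun q => NmB.local_datum_M A B q M₂ h₂
  let d₁ : PrimeSpectrum A → Datum A B M₁ := fun q =>
    Datum.ofPair (t₁ q) (α₁ q) (β₁ q) (hαβ₁ q) (hβα₁ q)
  let d₂ : PrimeSpectrum A → Datum A B M₂ := fun q =>
    Datum.ofPair (t₂ q) (α₂ q) (β₂ q) (hαβ₂ q) (hβα₂ q)
  have hd₁ : ∀ q, (d₁ q).t = t₁ q := fun q => rfl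
  have hd₂ : ∀ q, (d₂ q).t = t₂ q := fun q => rfl
  refine NmC.nonempty_equiv_of_partition
    (fun q => phi A n (d₁ q) (d₂ q) ((d₁ q).tensor (d₂ q)))
    (fun q => psi A n (d₁ q) (d₂ q) ((d₁ q).tensor (d₂ q)))
    (fun q => (t₁ q * t₂ q) ^ n) ?_ ?_ ?_
  · intro i j
    rw [comp1 hL (d₁ i) (d₁ j) (d₂ i) (d₂ j) _ _ (Datum.tensor_ρ_m _ _ _ _)]
    simp only [Datum.tensor_t, hd₁, hd₂, mul_pow]
  · intro i j
    rw [comp2 hL (d₁ i) (d₁ j) (d₂ i) (d₂ j) _ _ (Datum.tensor_ρ_m _ _ _ _)]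
    simp only [hd₁, hd₂, mul_pow]
    congr 1
    ring
  · by_contra hne
    obtain ⟨m, hm, hle⟩ := Ideal.exists_le_maximal _ hne
    have hmem : (t₁ ⟨m, hm.isPrime⟩ * t₂ ⟨m, hm.isPrime⟩) ^ n ∈ m :=
      hle (Ideal.subset_span ⟨⟨m, hm.isPrime⟩, rfl⟩)
    have := hm.isPrime.mem_of_pow_mem n hmem
    rcases hm.isPrime.mem_or_mem this with h | h
    · exact ht₁ ⟨m, hm.isPrime⟩ h
    · exact ht₂ ⟨m, hm.isPrime⟩ h

end Main

end Groth.Agent.H4.NmD
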