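import Mathlib
import Groth.Agent.Lib.Helper8.TorsorTwist

set_option autoImplicit false
universe w v u

open CategoryTheory Opposite

namespace Groth.Agent.H4.NonAbSeq

open Groth.Agent.H8.Torsor

variable {C : Type u} [Category.{v} C] {J : GrothendieckTopology C}

section General

theorem map_comp_op' (R : Cᵒᵖ ⥤ Type w) {T T' X : C} (k : T ⟶ T') (a : T' ⟶ X) (x : R.obj (op X)) :
    R.map (k ≫ a).op x = R.map k.op (R.map a.op x) := by
  rw [op_comp, Functor.map_comp_apply]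

/-- the family used in `glue_const` -/
noncomputable def gcFam (P R : Cᵒᵖ ⥤ Type w) (r : ∀ V : Cᵒᵖ, P.obj V → R.obj V) {U : C} (S : Sieve U)
    (hne : ∀ ⦃V : C⦄ (f : V ⟶ U), S f → Nonempty (P.obj (op V))) :
    Presieve.FamilyOfElements R S.arrows :=
  fun V f hf => r (op V) (hne f hf).some

theorem gcFam_compatible (P R : Cᵒᵖ ⥤ Type w) (r : ∀ V : Cᵒᵖ, P.obj V → R.obj V)
    (hnat : ∀ ⦃V W : Cᵒᵖ⦄ (f : V ⟶ W) (t : P.obj V), R.map f (r V t) = r W (P.map f t))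
    (hind : ∀ (V : Cᵒᵖ) (t t' : P.obj V), r V t = r V t') {U : C} (S : Sieve U)
    (hne : ∀ ⦃V : C⦄ (f : V ⟶ U), S f → Nonempty (P.obj (op V))) :
    (gcFam P R r S hne).Compatible := by
  intro Y₁ Y₂ Z g₁ g₂ f₁ f₂ h₁ h₂ _
  show R.map g₁.op (r (op Y₁) _) = R.map g₂.op (r (op Y₂) _)
  rw [hnat, hnat]
  exact hind _ _ _

/-- A natural rule on local sections of a locally nonempty presheaf `P` with values in a sheaf
`R`, independent of the local section, glues to a global section of `R`. -/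
theorem glue_const (P R : Cᵒᵖ ⥤ Type w) (hR : Presieve.IsSheaf J R)
    (hne : ∀ U : C, ∃ S ∈ J U, ∀ ⦃V : C⦄ (f : V ⟶ U), S f → Nonempty (P.obj (op V)))
    (r : ∀ V : Cᵒᵖ, P.obj V → R.obj V)
    (hnat : ∀ ⦃V W : Cᵒᵖ⦄ (f : V ⟶ W) (t : P.obj V), R.map f (r V t) = r W (P.map f t))
    (hind : ∀ (V : Cᵒᵖ) (t t' : P.obj V), r V t = r V t') :
    ∃ ρ : R.sections, ∀ (V : Cᵒᵖ) (t : P.obj V), ρ.1 V = r V t := by
  classical
  choose S hS hSne using hne
  have hx := fun U : C => gcFam_compatible P R r hnat hind (S U) (hSne U)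
  obtain ⟨ρ, hρdef⟩ : ∃ ρ : ∀ U : C, R.obj (op U),
      ρ = fun U => (hR (S U) (hS U)).amalgamate (gcFam P R r (S U) (hSne U)) (hx U) := ⟨_, rfl⟩
  have hρ : ∀ (U : C) ⦃V : C⦄ (f : V ⟶ U) (hf : S U f),
      R.map f.op (ρ U) = gcFam P R r (S U) (hSne U) f hf := by
    intro U V f hf
    rw [hρdef]
    exact Presieve.IsSheafFor.valid_glue (hR (S U) (hS U)) (hx U) f hf
  have claim : ∀ (U W : C) (h : W ⟶ U) (t : P.obj (op W)), R.map h.op (ρ U) = r (op W) t := by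
    intro U W h t
    apply (hR.isSeparated _ (J.pullback_stable h (hS U))).ext
    intro W' k hk
    rw [← map_comp_op', hρ U (k ≫ h) hk, hnat]
    exact hind _ _ _
  refine ⟨⟨fun U => ρ U.unop, ?_⟩, ?_⟩
  · intro U V f
    apply (hR.isSeparated _ (hS V.unop)).ext
    intro W g hg
    obtain ⟨t⟩ := hSne V.unop g hg
    have e1 : R.map g.op (R.map f (ρ U.unop)) = r (op W) t := by
      have := claim U.unop W (g ≫ f.unop) t
      rw [map_comp_op'] at this
      exact this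
    have e2 := claim V.unop W g t
    exact e1.trans e2.symm
  · intro V t
    have := claim V.unop V.unop (𝟙 _) t
    simp only [op_id, CategoryTheory.Functor.map_id, types_id_apply] at this
    exact this

/-- An element of a sheaf which is locally in the image of a sectionwise injective morphism of
sheaves is in the image. -/
theorem glue_inj (P R : Cᵒᵖ ⥤ Type w) (hP : Presieve.IsSheaf J P) (hR : Presieve.IsSheaf J R)
    (ι : P ⟶ R) (hinj : ∀ U, Function.Injective (ι.app U))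
    {U : C} (r : R.obj (op U)) (S : Sieve U) (hS : S ∈ J U)
    (h : ∀ ⦃V : C⦄ (a : V ⟶ U), S a → ∃ t : P.obj (op V), ι.app (op V) t = R.map a.op r) :
    ∃ t : P.obj (op U), ι.app (op U) t = r := by
  choose t ht using h
  have hx : Presieve.FamilyOfElements.Compatible
      (fun V a ha => t a ha : Presieve.FamilyOfElements P S.arrows) := by
    intro Y₁ Y₂ Z g₁ g₂ f₁ f₂ h₁ h₂ e
    apply hinj
    rw [NatTrans.naturality_apply, NatTrans.naturality_apply, ht, ht, ← map_comp_op',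
      ← map_comp_op', e]
  refine ⟨(hP S hS).amalgamate _ hx, ?_⟩
  apply (hR.isSeparated S hS).ext
  intro V a ha
  rw [← NatTrans.naturality_apply, Presieve.IsSheafFor.valid_glue (hP S hS) hx a ha]
  exact ht a ha

end General

variable [J.HasSheafCompose (forget GrpCat.{w})] {F G : Sheaf J GrpCat.{w}}

theorem uSh_isSheaf (G : Sheaf J GrpCat.{w}) : Presieve.IsSheaf J (NonAbH1.GSheaf.uSh G).obj :=
  (isSheaf_iff_isSheaf_of_type _ _).1 (NonAbH1.GSheaf.uSh G).property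

theorem toG_nat {P : Sheaf J (Type w)} (ι : P ⟶ NonAbH1.GSheaf.uSh G) {U V : Cᵒᵖ} (f : U ⟶ V)
    (t : P.obj.obj U) :
    G.obj.map f (NonAbH1.GSheaf.toGrp (ι.hom.app U t)) =
      NonAbH1.GSheaf.toGrp (ι.hom.app V (P.obj.map f t)) :=
  (NatTrans.naturality_apply ι.hom f t).symm

/-- pointwise inverse of a morphism to the sheaf of sets underlying `G` -/
def invHom {P : Sheaf J (Type w)} (ψ : P ⟶ NonAbH1.GSheaf.uSh G) : P ⟶ NonAbH1.GSheaf.uSh G :=
  ObjectProperty.homMk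
    { app := fun U => TypeCat.ofHom
        (fun t => NonAbH1.GSheaf.ofGrp (NonAbH1.GSheaf.toGrp (ψ.hom.app U t))⁻¹)
      naturality := by
        intro U V f
        ext t
        show (NonAbH1.GSheaf.toGrp (ψ.hom.app V (P.obj.map f t)))⁻¹ =
          G.obj.map f (NonAbH1.GSheaf.toGrp (ψ.hom.app U t))⁻¹
        rw [map_inv, toG_nat] }

theorem invHom_app {P : Sheaf J (Type w)} (ψ : P ⟶ NonAbH1.GSheaf.uSh G) (U : Cᵒᵖ)
    (t : P.obj.obj U) :
    NonAbH1.GSheaf.toGrp ((invHom ψ).hom.app U t) = (NonAbH1.GSheaf.toGrp (ψ.hom.app U t))⁻¹ := rfl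

/-! ### trivial torsors and sections -/

theorem nonempty_iso_trivial_of_section (T : NonAbH1.GSheaf F) (hT : T.IsPseudoTorsor)
    (s : T.P.obj.sections) : Nonempty (NonAbH1.GSheaf.trivial F ≅ T) := by
  refine ⟨⟨⟨ObjectProperty.homMk
      { app := fun U => TypeCat.ofHom (fun f => T.smul (NonAbH1.GSheaf.toGrp f) (s.1 U))
        naturality := ?_ }, ?_⟩,
    ⟨ObjectProperty.homMk
      { app := fun U => TypeCat.ofHom
          (fun p => NonAbH1.GSheaf.ofGrp (diff T hT p (s.1 U)))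
        naturality := ?_ }, ?_⟩, ?_, ?_⟩⟩
  · intro U V k
    ext f
    show T.smul (F.obj.map k (NonAbH1.GSheaf.toGrp f)) (s.1 V) =
      T.P.obj.map k (T.smul (NonAbH1.GSheaf.toGrp f) (s.1 U))
    rw [T.map_smul, Functor.sections_property s k]
  · intro U g p
    exact T.mul_smul g (NonAbH1.GSheaf.toGrp p) (s.1 U)
  · intro U V k
    ext p
    show diff T hT (T.P.obj.map k p) (s.1 V) = F.obj.map k (diff T hT p (s.1 U))
    rw [diff_map, Functor.sections_property s k]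
  · intro U g p
    show diff T hT (T.smul g p) (s.1 U) = g * diff T hT p (s.1 U)
    apply diff_eq
    rw [T.mul_smul, diff_smul]
  · apply NonAbH1.GSheaf.hom_ext
    apply Sheaf.hom_ext
    ext U f
    show diff T hT (T.smul (NonAbH1.GSheaf.toGrp f) (s.1 U)) (s.1 U) = NonAbH1.GSheaf.toGrp f
    exact diff_eq T hT _ _ _ rfl
  · apply NonAbH1.GSheaf.hom_ext
    apply Sheaf.hom_ext
    ext U p
    show T.smul (diff T hT p (s.1 U)) (s.1 U) = p
    exact diff_smul T hT _ _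

/-- the global section given by a trivialisation -/
def sectionOfIso (T : NonAbH1.GSheaf F) (e : NonAbH1.GSheaf.trivial F ≅ T) : T.P.obj.sections :=
  ⟨fun U => e.hom.hom.hom.app U (NonAbH1.GSheaf.ofGrp (1 : F.obj.obj U)), by
    intro U V k
    rw [← NatTrans.naturality_apply]
    congr 1
    show F.obj.map k 1 = 1
    exact map_one _⟩

theorem cl_eq_one_iff (T : NonAbH1.Torsor F) :
    T.cl = 1 ↔ Nonempty (NonAbH1.GSheaf.trivial F ≅ T.toGSheaf) := by
  have heq : Equivalence (fun P Q : NonAbH1.Torsor F => Nonempty (P.toGSheaf ≅ Q.toGSheaf)) :=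
    ⟨fun _ => ⟨Iso.refl _⟩, fun ⟨e⟩ => ⟨e.symm⟩, fun ⟨e⟩ ⟨e'⟩ => ⟨e ≪≫ e'⟩⟩
  constructor
  · intro h
    have h' : Quot.mk (fun P Q : NonAbH1.Torsor F => Nonempty (P.toGSheaf ≅ Q.toGSheaf)) T =
        Quot.mk _ (NonAbH1.trivialTorsor F) := h
    obtain ⟨e⟩ := heq.eqvGen_iff.1 (Quot.eq.1 h')
    exact ⟨e.symm⟩
  · rintro ⟨e⟩
    exact Quot.sound ⟨e.symm⟩

/-! ### the quotient map and the fibres -/

variable (φ : F ⟶ G) {Q : NonAbH1.GSheaf G} (π : NonAbH1.GSheaf.trivial G ⟶ Q)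

/-- `π` on group elements -/
def piQ (U : Cᵒᵖ) (g : G.obj.obj U) : Q.P.obj.obj U :=
  π.hom.hom.app U (NonAbH1.GSheaf.ofGrp g)

theorem piQ_map {U V : Cᵒᵖ} (f : U ⟶ V) (g : G.obj.obj U) :
    Q.P.obj.map f (piQ π U g) = piQ π V (G.obj.map f g) :=
  (NatTrans.naturality_apply π.hom.hom f (NonAbH1.GSheaf.ofGrp g)).symm

theorem piQ_mul (U : Cᵒᵖ) (g h : G.obj.obj U) : piQ π U (g * h) = Q.smul g (piQ π U h) :=
  π.map_smul g (NonAbH1.GSheaf.ofGrp h)

variable {φ π}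

theorem piQ_eq_iff (hQ : NonAbH1.GSheaf.IsQuotientBy φ π) (U : Cᵒᵖ) (g g' : G.obj.obj U) :
    piQ π U g = piQ π U g' ↔ ∃ f : F.obj.obj U, g' = g * φ.hom.app U f :=
  hQ.1 U g g'

theorem piQ_mul_inv (hQ : NonAbH1.GSheaf.IsQuotientBy φ π) (U : Cᵒᵖ) (g : G.obj.obj U)
    (f : F.obj.obj U) : piQ π U (g * (φ.hom.app U f)⁻¹) = piQ π U g := by
  symm
  apply (piQ_eq_iff hQ U g _).2
  exact ⟨f⁻¹, by rw [map_inv]⟩

variable (φ π)

/-- the data exhibiting `T` as the sheaf of liftings of `c` -/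
structure Fib (c : Q.P.obj.sections) (T : NonAbH1.GSheaf F) where
  ι : T.P ⟶ NonAbH1.GSheaf.uSh G
  inj : ∀ U : Cᵒᵖ, Function.Injective (ι.hom.app U)
  fib : ∀ (U : Cᵒᵖ) (g : G.obj.obj U),
    (∃ t, NonAbH1.GSheaf.toGrp (ι.hom.app U t) = g) ↔
      π.hom.hom.app U (NonAbH1.GSheaf.ofGrp g) = c.1 U
  act : ∀ (U : Cᵒᵖ) (f : F.obj.obj U) (t : T.P.obj.obj U),
    NonAbH1.GSheaf.toGrp (ι.hom.app U (T.smul f t)) =
      NonAbH1.GSheaf.toGrp (ι.hom.app U t) * (φ.hom.app U f)⁻¹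

theorem isFibreOver_iff (c : Q.P.obj.sections) (T : NonAbH1.GSheaf F) :
    NonAbH1.GSheaf.IsFibreOver φ π c T ↔ Nonempty (Fib φ π c T) :=
  ⟨fun ⟨ι, h1, h2, h3⟩ => ⟨⟨ι, h1, h2, h3⟩⟩, fun ⟨d⟩ => ⟨d.ι, d.inj, d.fib, d.act⟩⟩

variable {φ π}
variable {c c' : Q.P.obj.sections} {T T' : NonAbH1.GSheaf F}

namespace Fib

/-- the lifting attached to a section of `T` -/
def g (d : Fib φ π c T) (U : Cᵒᵖ) (t : T.P.obj.obj U) : G.obj.obj U :=
  NonAbH1.GSheaf.toGrp (d.ι.hom.app U t)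

theorem g_map (d : Fib φ π c T) {U V : Cᵒᵖ} (f : U ⟶ V) (t : T.P.obj.obj U) :
    G.obj.map f (d.g U t) = d.g V (T.P.obj.map f t) := toG_nat d.ι f t

theorem g_smul (d : Fib φ π c T) (U : Cᵒᵖ) (f : F.obj.obj U) (t : T.P.obj.obj U) :
    d.g U (T.smul f t) = d.g U t * (φ.hom.app U f)⁻¹ := d.act U f t

theorem pi_g (d : Fib φ π c T) {U : Cᵒᵖ} (t : T.P.obj.obj U) : piQ π U (d.g U t) = c.1 U :=
  (d.fib U _).1 ⟨t, rfl⟩

theorem g_inj (d : Fib φ π c T) {U : Cᵒᵖ} {t t' : T.P.obj.obj U} (h : d.g U t = d.g U t') :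
    t = t' := d.inj U h

theorem exists_of_pi (d : Fib φ π c T) {U : Cᵒᵖ} {x : G.obj.obj U} (h : piQ π U x = c.1 U) :
    ∃ t, d.g U t = x := (d.fib U x).2 h

theorem isPseudoTorsor (hu : ∀ U : Cᵒᵖ, Function.Injective (φ.hom.app U))
    (hQ : NonAbH1.GSheaf.IsQuotientBy φ π) (d : Fib φ π c T) : T.IsPseudoTorsor := by
  intro U p q
  have h1 : piQ π U (d.g U p) = piQ π U (d.g U q) := (d.pi_g p).trans (d.pi_g q).symm
  obtain ⟨f, hf⟩ := (piQ_eq_iff hQ U _ _).1 h1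
  refine ⟨f⁻¹, ?_, ?_⟩
  · apply d.g_inj
    rw [d.g_smul, map_inv, inv_inv, hf]
  · intro f' hf'
    have hf'' : T.smul f' p = q := hf'
    apply hu U
    have h2 : d.g U q = d.g U p * (φ.hom.app U f')⁻¹ := by rw [← hf'', d.g_smul]
    rw [hf] at h2
    have h3 := mul_left_cancel h2
    rw [map_inv, h3, inv_inv]

theorem locallyNonempty (hQ : NonAbH1.GSheaf.IsQuotientBy φ π) (d : Fib φ π c T) :
    T.LocallyNonempty := by
  intro U
  obtain ⟨S, hS, h⟩ := hQ.2 U (c.1 (op U))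
  refine ⟨S, hS, fun V a ha => ?_⟩
  obtain ⟨x, hx⟩ := h a ha
  have h1 : piQ π (op V) x = c.1 (op V) := hx.trans (Functor.sections_property c a.op)
  obtain ⟨t, -⟩ := d.exists_of_pi h1
  exact ⟨t⟩

theorem isTorsor (hu : ∀ U : Cᵒᵖ, Function.Injective (φ.hom.app U))
    (hQ : NonAbH1.GSheaf.IsQuotientBy φ π) (d : Fib φ π c T) : T.IsTorsor :=
  ⟨d.isPseudoTorsor hu hQ, d.locallyNonempty hQ⟩

end Fib

theorem exists_fibHom (d : Fib φ π c T) (d' : Fib φ π c' T')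
    (γ : (NonAbH1.GSheaf.uSh G).obj.sections)
    (hγ : ∀ U : Cᵒᵖ, Q.smul (NonAbH1.GSheaf.toGrp (γ.1 U)) (c.1 U) = c'.1 U) :
    ∃ θ : T ⟶ T', ∀ (U : Cᵒᵖ) (t : T.P.obj.obj U),
      d'.g U (θ.hom.hom.app U t) = NonAbH1.GSheaf.toGrp (γ.1 U) * d.g U t := by
  have hex : ∀ (U : Cᵒᵖ) (t : T.P.obj.obj U), ∃ t' : T'.P.obj.obj U,
      d'.g U t' = NonAbH1.GSheaf.toGrp (γ.1 U) * d.g U t := by
    intro U t
    apply d'.exists_of_pi
    rw [piQ_mul, d.pi_g, hγ]
  choose θ hθ using hex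
  have hnat : ∀ ⦃U V : Cᵒᵖ⦄ (f : U ⟶ V) (t : T.P.obj.obj U),
      T'.P.obj.map f (θ U t) = θ V (T.P.obj.map f t) := by
    intro U V f t
    apply d'.g_inj
    rw [← d'.g_map, hθ, hθ, map_mul, d.g_map]
    congr 1
    exact Functor.sections_property γ f
  refine ⟨⟨ObjectProperty.homMk { app := fun U => TypeCat.ofHom (θ U), naturality := ?_ }, ?_⟩, ?_⟩
  · intro U V f
    ext t
    exact (hnat f t).symm
  · intro U f t
    apply d'.g_inj
    show d'.g U (θ U (T.smul f t)) = d'.g U (T'.smul f (θ U t))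
    rw [hθ, d.g_smul, d'.g_smul, hθ, mul_assoc]
  · intro U t
    exact hθ U t

theorem nonempty_iso_of_smul (d : Fib φ π c T) (d' : Fib φ π c' T')
    (γ : (NonAbH1.GSheaf.uSh G).obj.sections)
    (hγ : ∀ U : Cᵒᵖ, Q.smul (NonAbH1.GSheaf.toGrp (γ.1 U)) (c.1 U) = c'.1 U) :
    Nonempty (T ≅ T') := by
  obtain ⟨γ', hγ'def⟩ : ∃ γ' : (NonAbH1.GSheaf.uSh G).obj.sections,
      ∀ U, NonAbH1.GSheaf.toGrp (γ'.1 U) = (NonAbH1.GSheaf.toGrp (γ.1 U))⁻¹ := by
    refine ⟨⟨fun U => NonAbH1.GSheaf.ofGrp (NonAbH1.GSheaf.toGrp (γ.1 U))⁻¹, ?_⟩, fun U => rfl⟩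
    intro U V f
    show G.obj.map f (NonAbH1.GSheaf.toGrp (γ.1 U))⁻¹ = (NonAbH1.GSheaf.toGrp (γ.1 V))⁻¹
    rw [map_inv]
    congr 1
    exact Functor.sections_property γ f
  have hγ' : ∀ U : Cᵒᵖ, Q.smul (NonAbH1.GSheaf.toGrp (γ'.1 U)) (c'.1 U) = c.1 U := by
    intro U
    rw [hγ'def, ← hγ U, ← Q.mul_smul, inv_mul_cancel, Q.one_smul]
  obtain ⟨θ, hθ⟩ := exists_fibHom d d' γ hγ
  obtain ⟨θ', hθ'⟩ := exists_fibHom d' d γ' hγ'
  refine ⟨⟨θ, θ', ?_, ?_⟩⟩
  · apply NonAbH1.GSheaf.hom_ext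
    apply Sheaf.hom_ext
    ext U t
    apply d.g_inj
    show d.g U (θ'.hom.hom.app U (θ.hom.hom.app U t)) = d.g U t
    rw [hθ', hθ, hγ'def, inv_mul_cancel_left]
  · apply NonAbH1.GSheaf.hom_ext
    apply Sheaf.hom_ext
    ext U t
    apply d'.g_inj
    show d'.g U (θ.hom.hom.app U (θ'.hom.hom.app U t)) = d'.g U t
    rw [hθ, hθ', hγ'def, mul_inv_cancel_left]

/-- the unit section of `G` -/
def oneSection (G : Sheaf J GrpCat.{w}) : (NonAbH1.GSheaf.uSh G).obj.sections :=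
  ⟨fun U => NonAbH1.GSheaf.ofGrp (1 : G.obj.obj U), by
    intro U V f
    show G.obj.map f 1 = 1
    exact map_one _⟩

theorem nonempty_iso_of_fib (d : Fib φ π c T) (d' : Fib φ π c T') : Nonempty (T ≅ T') :=
  nonempty_iso_of_smul d d' (oneSection G) (fun U => Q.one_smul (c.1 U))

/-! ### construction of the fibre -/

section Construct

variable (φ π) (c) (hQ : NonAbH1.GSheaf.IsQuotientBy φ π)

/-- the presheaf of liftings of `c` -/
def fibPresheaf : Cᵒᵖ ⥤ Type w where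
  obj U := {x : G.obj.obj U // piQ π U x = c.1 U}
  map {U V} f := TypeCat.ofHom (fun x => ⟨G.obj.map f x.1, by
    rw [← piQ_map, x.2]; exact Functor.sections_property c f⟩)
  map_id U := by
    ext x
    show G.obj.map (𝟙 U) x.1 = x.1
    rw [G.obj.map_id]; rfl
  map_comp f f' := by
    ext x
    show G.obj.map (f ≫ f') x.1 = G.obj.map f' (G.obj.map f x.1)
    rw [G.obj.map_comp]; rfl

theorem fibPresheaf_isSheaf : Presheaf.IsSheaf J (fibPresheaf π c) := by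
  rw [isSheaf_iff_isSheaf_of_type]
  intro X S hS x hx
  have hx' := (Presieve.compatible_iff_sieveCompatible x).1 hx
  obtain ⟨z, hz⟩ := G_glue G S hS (fun V f hf => (x f hf).1) (by
    intro W W' k g hg hkg
    have := congrArg Subtype.val (hx' g k hg)
    exact this)
  have hzc : piQ π (op X) z = c.1 (op X) := by
    apply ((isSheaf_type Q).isSeparated S hS).ext
    intro V f hf
    rw [piQ_map, hz f hf, (x f hf).2]
    exact (Functor.sections_property c f.op).symm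
  refine ⟨⟨z, hzc⟩, ?_, ?_⟩
  · intro V f hf
    apply Subtype.ext
    exact hz f hf
  · intro t ht
    apply Subtype.ext
    apply G_sep G S hS
    intro V f hf
    rw [hz f hf]
    exact congrArg Subtype.val (ht f hf)

/-- the `F`-sheaf of liftings of `c` -/
def fibGSheaf : NonAbH1.GSheaf F where
  P := ⟨fibPresheaf π c, fibPresheaf_isSheaf π c⟩
  smul {U} f x := ⟨x.1 * (φ.hom.app U f)⁻¹, by rw [piQ_mul_inv hQ]; exact x.2⟩
  one_smul {U} x := by
    apply Subtype.ext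
    show x.1 * (φ.hom.app U 1)⁻¹ = x.1
    rw [map_one, inv_one, mul_one]
  mul_smul {U} f f' x := by
    apply Subtype.ext
    show x.1 * (φ.hom.app U (f * f'))⁻¹ = x.1 * (φ.hom.app U f')⁻¹ * (φ.hom.app U f)⁻¹
    rw [map_mul, mul_inv_rev, mul_assoc]
  map_smul {U V} k f x := by
    apply Subtype.ext
    show G.obj.map k (x.1 * (φ.hom.app U f)⁻¹) =
      G.obj.map k x.1 * (φ.hom.app V (F.obj.map k f))⁻¹
    rw [map_mul, map_inv, NatTrans.naturality_apply]

/-- the sheaf of liftings is a fibre -/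
def fibFib : Fib φ π c (fibGSheaf φ π c hQ) where
  ι := ObjectProperty.homMk
    { app := fun U => TypeCat.ofHom (fun x => NonAbH1.GSheaf.ofGrp x.1)
      naturality := by
        intro U V f
        ext x
        rfl }
  inj U := fun x y h => Subtype.ext h
  fib U x := ⟨by rintro ⟨t, rfl⟩; exact t.2, fun h => ⟨⟨x, h⟩, rfl⟩⟩
  act U f t := rfl

end Construct

/-! ### the four statements on a general site -/

theorem r8555 (hu : ∀ U : Cᵒᵖ, Function.Injective (φ.hom.app U))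
    (hQ : NonAbH1.GSheaf.IsQuotientBy φ π) (c : Q.P.obj.sections) :
    (∃ T : NonAbH1.Torsor F, NonAbH1.GSheaf.IsFibreOver φ π c T.toGSheaf) ∧
      (∀ T : NonAbH1.GSheaf F, NonAbH1.GSheaf.IsFibreOver φ π c T → T.IsTorsor) ∧
      ∀ T T' : NonAbH1.GSheaf F, NonAbH1.GSheaf.IsFibreOver φ π c T →
        NonAbH1.GSheaf.IsFibreOver φ π c T' → Nonempty (T ≅ T') := by
  refine ⟨⟨⟨fibGSheaf φ π c hQ, (fibFib φ π c hQ).isTorsor hu hQ⟩,
    (isFibreOver_iff φ π c _).2 ⟨fibFib φ π c hQ⟩⟩, ?_, ?_⟩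
  · intro T hT
    obtain ⟨d⟩ := (isFibreOver_iff φ π c T).1 hT
    exact d.isTorsor hu hQ
  · intro T T' hT hT'
    obtain ⟨d⟩ := (isFibreOver_iff φ π c T).1 hT
    obtain ⟨d'⟩ := (isFibreOver_iff φ π c T').1 hT'
    exact nonempty_iso_of_fib d d'

theorem r8558 (hu : ∀ U : Cᵒᵖ, Function.Injective (φ.hom.app U))
    (hQ : NonAbH1.GSheaf.IsQuotientBy φ π) (c : Q.P.obj.sections) (T : NonAbH1.Torsor F)
    (hT : NonAbH1.GSheaf.IsFibreOver φ π c T.toGSheaf) :
    T.cl = 1 ↔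
      ∃ g : (NonAbH1.GSheaf.uSh G).obj.sections,
        ∀ U : Cᵒᵖ, π.hom.hom.app U (g.1 U) = c.1 U := by
  obtain ⟨d⟩ := (isFibreOver_iff φ π c T.toGSheaf).1 hT
  rw [cl_eq_one_iff]
  constructor
  · rintro ⟨e⟩
    refine ⟨⟨fun U => d.ι.hom.app U ((sectionOfIso T.toGSheaf e).1 U), ?_⟩, fun U => ?_⟩
    · intro U V f
      rw [← NatTrans.naturality_apply, Functor.sections_property]
    · exact d.pi_g ((sectionOfIso T.toGSheaf e).1 U)
  · rintro ⟨g, hg⟩
    have hex : ∀ U : Cᵒᵖ, ∃ t : T.P.obj.obj U, d.g U t = NonAbH1.GSheaf.toGrp (g.1 U) :=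
      fun U => d.exists_of_pi (hg U)
    choose t ht using hex
    refine nonempty_iso_trivial_of_section T.toGSheaf T.isTorsor.1 ⟨t, ?_⟩
    intro U V f
    apply d.g_inj
    rw [← d.g_map, ht U, ht V]
    exact Functor.sections_property g f

theorem r8556 (hu : ∀ U : Cᵒᵖ, Function.Injective (φ.hom.app U))
    (hQ : NonAbH1.GSheaf.IsQuotientBy φ π) (T : NonAbH1.Torsor F) :
    NonAbH1.GSheaf.IsPushforwardAlong φ T.toGSheaf (NonAbH1.GSheaf.trivial G) ↔
      ∃ c : Q.P.obj.sections, NonAbH1.GSheaf.IsFibreOver φ π c T.toGSheaf := by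
  constructor
  · rintro ⟨ψ₀, hψ₀⟩
    obtain ⟨ψ, hψ'⟩ : ∃ ψ : T.P ⟶ NonAbH1.GSheaf.uSh G,
        ∀ (U : Cᵒᵖ) (f : F.obj.obj U) (t : T.P.obj.obj U),
        NonAbH1.GSheaf.toGrp (ψ.hom.app U (T.smul f t)) =
          φ.hom.app U f * NonAbH1.GSheaf.toGrp (ψ.hom.app U t) := ⟨ψ₀, fun U f t => hψ₀ U f t⟩
    have hact : ∀ (U : Cᵒᵖ) (f : F.obj.obj U) (t : T.P.obj.obj U),
        NonAbH1.GSheaf.toGrp ((invHom ψ).hom.app U (T.smul f t)) =
          NonAbH1.GSheaf.toGrp ((invHom ψ).hom.app U t) * (φ.hom.app U f)⁻¹ := by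
      intro U f t
      rw [invHom_app, invHom_app, hψ', mul_inv_rev]
    have hinj : ∀ U : Cᵒᵖ, Function.Injective ((invHom ψ).hom.app U) := by
      intro U t t' h
      have h1 : (NonAbH1.GSheaf.toGrp (ψ.hom.app U t))⁻¹ =
          (NonAbH1.GSheaf.toGrp (ψ.hom.app U t'))⁻¹ := h
      have h2 := inv_injective h1
      obtain ⟨f, hf, -⟩ := T.isTorsor.1 U t t'
      have hf' : T.smul f t = t' := hf
      rw [← hf', hψ'] at h2
      have h3 : φ.hom.app U f = φ.hom.app U 1 := by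
        rw [map_one]
        exact (mul_eq_right.1 h2.symm)
      have h4 := hu U h3
      rw [← hf', h4, T.one_smul]
    obtain ⟨c, hc⟩ := glue_const T.P.obj Q.P.obj (isSheaf_type Q) T.isTorsor.2
      (fun V t => piQ π V (NonAbH1.GSheaf.toGrp ((invHom ψ).hom.app V t)))
      (by
        intro V W f t
        rw [piQ_map, toG_nat])
      (by
        intro V t t'
        obtain ⟨f, hf, -⟩ := T.isTorsor.1 V t t'
        have hf' : T.smul f t = t' := hf
        rw [← hf', hact, piQ_mul_inv hQ])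
    refine ⟨c, invHom ψ, hinj, ?_, hact⟩
    intro U x
    constructor
    · rintro ⟨t, rfl⟩
      exact (hc U t).symm
    · intro h
      obtain ⟨U⟩ := U
      obtain ⟨S, hS, hSne⟩ := T.isTorsor.2 U
      have := glue_inj T.P.obj (NonAbH1.GSheaf.uSh G).obj (isSheaf_type T.toGSheaf)
        (uSh_isSheaf G) (invHom ψ).hom hinj (NonAbH1.GSheaf.ofGrp x) S hS (by
        intro V a ha
        obtain ⟨t⟩ := hSne a ha
        have h1 : piQ π (op V) (G.obj.map a.op x) =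
            piQ π (op V) (NonAbH1.GSheaf.toGrp ((invHom ψ).hom.app (op V) t)) := by
          rw [← piQ_map]
          have h' : piQ π (op U) x = c.1 (op U) := h
          rw [h', Functor.sections_property c a.op, hc (op V) t]
        obtain ⟨f, hf⟩ := (piQ_eq_iff hQ _ _ _).1 h1
        refine ⟨T.smul f t, ?_⟩
        show NonAbH1.GSheaf.toGrp ((invHom ψ).hom.app (op V) (T.smul f t)) = G.obj.map a.op x
        rw [hact, hf, mul_inv_cancel_right])
      exact this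
  · rintro ⟨c, ι, hinj, hfib, hact⟩
    refine ⟨invHom ι, fun U f t => ?_⟩
    show (NonAbH1.GSheaf.toGrp (ι.hom.app U (T.smul f t)))⁻¹ =
      φ.hom.app U f * (NonAbH1.GSheaf.toGrp (ι.hom.app U t))⁻¹
    rw [hact, mul_inv_rev, inv_inv]

theorem r8557 (hu : ∀ U : Cᵒᵖ, Function.Injective (φ.hom.app U))
    (hQ : NonAbH1.GSheaf.IsQuotientBy φ π) (c c' : Q.P.obj.sections) (T T' : NonAbH1.GSheaf F)
    (hT : NonAbH1.GSheaf.IsFibreOver φ π c T) (hT' : NonAbH1.GSheaf.IsFibreOver φ π c' T') :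
    Nonempty (T ≅ T') ↔
      ∃ g : (NonAbH1.GSheaf.uSh G).obj.sections,
        ∀ U : Cᵒᵖ, Q.smul (NonAbH1.GSheaf.toGrp (g.1 U)) (c.1 U) = c'.1 U := by
  obtain ⟨d⟩ := (isFibreOver_iff φ π c T).1 hT
  obtain ⟨d'⟩ := (isFibreOver_iff φ π c' T').1 hT'
  constructor
  · rintro ⟨e⟩
    have hps := d.isPseudoTorsor hu hQ
    have hne := d.locallyNonempty hQ
    obtain ⟨γ, hγ⟩ := glue_const T.P.obj (NonAbH1.GSheaf.uSh G).obj (uSh_isSheaf G) hne
      (fun V t => NonAbH1.GSheaf.ofGrp (d'.g V (e.hom.hom.hom.app V t) * (d.g V t)⁻¹))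
      (by
        intro V W f t
        show G.obj.map f (d'.g V (e.hom.hom.hom.app V t) * (d.g V t)⁻¹) =
          d'.g W (e.hom.hom.hom.app W (T.P.obj.map f t)) * (d.g W (T.P.obj.map f t))⁻¹
        rw [map_mul, map_inv, d.g_map, d'.g_map, NatTrans.naturality_apply])
      (by
        intro V t t'
        obtain ⟨f, hf, -⟩ := hps V t t'
        have hf' : T.smul f t = t' := hf
        subst hf'
        show d'.g V (e.hom.hom.hom.app V t) * (d.g V t)⁻¹ =
          d'.g V (e.hom.hom.hom.app V (T.smul f t)) * (d.g V (T.smul f t))⁻¹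
        rw [e.hom.map_smul, d'.g_smul, d.g_smul]
        group)
    refine ⟨γ, fun U => ?_⟩
    obtain ⟨U⟩ := U
    obtain ⟨S, hS, hSne⟩ := hne U
    apply ((isSheaf_type Q).isSeparated S hS).ext
    intro V a ha
    obtain ⟨t⟩ := hSne a ha
    have h1 : G.obj.map a.op (NonAbH1.GSheaf.toGrp (γ.1 (op U))) =
        NonAbH1.GSheaf.toGrp (γ.1 (op V)) := Functor.sections_property γ a.op
    rw [Q.map_smul, Functor.sections_property c a.op, Functor.sections_property c' a.op, h1,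
      hγ (op V) t, ← d.pi_g t, ← piQ_mul]
    show piQ π (op V) (d'.g _ (e.hom.hom.hom.app _ t) * (d.g _ t)⁻¹ * d.g _ t) = _
    rw [inv_mul_cancel_right, d'.pi_g]
  · rintro ⟨g, hg⟩
    exact nonempty_iso_of_smul d d' g hg

end Groth.Agent.H4.NonAbSeq
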