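import Mathlib
import Groth.Prelude
import Groth.Agent.H4.ConstPl2
import Groth.Agent.Lib.Helper5.FunFld.Ext2
import Groth.Agent.Lib.Helper5.FunFld.Conorm
import Groth.Agent.Lib.Helper5.FunFld.Weak.Discrete

set_option autoImplicit false
open TensorProduct Module

namespace Groth.Agent.H4.NonsingTr
open FunFld

section basis

variable {k₀ k₁ L L₁ : Type*} [Field k₀] [Field k₁] [Field L] [Field L₁]
  [Algebra k₀ k₁] [Algebra k₀ L] [Algebra L L₁] [Algebra k₁ L₁] [Algebra k₀ L₁]
  [IsScalarTower k₀ k₁ L₁] [IsScalarTower k₀ L L₁]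

theorem exists_basis {ι : Type*} [Fintype ι] (b : Basis ι k₀ k₁)
    (h : Function.Bijective (Algebra.TensorProduct.productMap
      (IsScalarTower.toAlgHom k₀ k₁ L₁) (IsScalarTower.toAlgHom k₀ L L₁))) :
    ∃ B : Basis ι L L₁, ∀ i, B i = algebraMap k₁ L₁ (b i) := by
  classical
  let g : L ⊗[k₀] k₁ →ₐ[L] L₁ :=
    Algebra.TensorProduct.productLeftAlgHom (Algebra.ofId L L₁) (IsScalarTower.toAlgHom k₀ k₁ L₁)
  have hg : ∀ t, g t = Algebra.TensorProduct.productMap
      (IsScalarTower.toAlgHom k₀ k₁ L₁) (IsScalarTower.toAlgHom k₀ L L₁)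
      (Algebra.TensorProduct.comm k₀ L k₁ t) := by
    intro t
    induction t using TensorProduct.induction_on with
    | zero => simp
    | tmul x c => simp [g, mul_comm]
    | add a b ha hb => rw [map_add, map_add, map_add, ha, hb]
  have hginj : Function.Injective g := by
    intro a c hac
    rw [hg, hg] at hac
    exact (Algebra.TensorProduct.comm k₀ L k₁).injective (h.1 hac)
  have h2 := Module.Flat.linearIndependent_one_tmul (S := L) b.linearIndependent
  have hli : LinearIndependent L (fun i => algebraMap k₁ L₁ (b i)) := by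
    have h3 := h2.map' g.toLinearMap (LinearMap.ker_eq_bot.2 hginj)
    have e : (⇑g.toLinearMap ∘ fun i => (1 : L) ⊗ₜ[k₀] b i) = fun i => algebraMap k₁ L₁ (b i) := by
      funext i
      show g ((1 : L) ⊗ₜ[k₀] b i) = _
      simp [g]
    rw [← e]; exact h3
  have hsp : ⊤ ≤ Submodule.span L (Set.range fun i => algebraMap k₁ L₁ (b i)) := by
    rintro w -
    refine Groth.Agent.H4.ConstPl2.induction_Kbar h.2
      (fun w => w ∈ Submodule.span L (Set.range fun i => algebraMap k₁ L₁ (b i)))
      (zero_mem _) ?_ (fun a c ha hc => add_mem ha hc) w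
    intro c x
    have e : algebraMap k₁ L₁ c * algebraMap L L₁ x =
        ∑ i, (x * algebraMap k₀ L (b.repr c i)) • algebraMap k₁ L₁ (b i) := by
      conv_lhs => rw [← b.sum_repr c]
      rw [map_sum, Finset.sum_mul]
      refine Finset.sum_congr rfl (fun i _ => ?_)
      rw [Algebra.smul_def (b.repr c i) (b i), map_mul, ← IsScalarTower.algebraMap_apply k₀ k₁ L₁,
        IsScalarTower.algebraMap_apply k₀ L L₁, Algebra.smul_def, map_mul]
      ring
    rw [e]
    exact Submodule.sum_mem _ (fun i _ => Submodule.smul_mem _ _ (Submodule.subset_span ⟨i, rfl⟩))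
  exact ⟨Basis.mk hli hsp, fun i => by rw [Basis.mk_apply]⟩

end basis

section lemS

variable {k₀ k₁ L₁ : Type*} [Field k₀] [Field k₁] [Field L₁]
  [Algebra k₀ k₁] [Algebra k₁ L₁] [Algebra k₀ L₁] [IsScalarTower k₀ k₁ L₁]

theorem range_le_integralClosure [Algebra.IsIntegral k₀ k₁] (R : Subring L₁)
    (hR : ∀ c : k₀, algebraMap k₀ L₁ c ∈ R) :
    Algebra.adjoin R (Set.range (algebraMap k₁ L₁)) ≤ integralClosure R L₁ := by
  refine Algebra.adjoin_le ?_
  rintro _ ⟨c, rfl⟩
  have hc : IsIntegral k₀ c := Algebra.IsIntegral.isIntegral c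
  have hc' : IsIntegral k₀ (algebraMap k₁ L₁ c) := hc.algebraMap
  letI : Algebra k₀ R := ((algebraMap k₀ L₁).codRestrict R hR).toAlgebra
  haveI : IsScalarTower k₀ R L₁ := IsScalarTower.of_algebraMap_eq (fun _ => rfl)
  show IsIntegral R (algebraMap k₁ L₁ c)
  exact hc'.tower_top

theorem mem_adjoin_iff {ι : Type*} [Fintype ι] (b : Basis ι k₀ k₁) (R : Subring L₁)
    (hR : ∀ c : k₀, algebraMap k₀ L₁ c ∈ R) (x : L₁) :
    x ∈ Algebra.adjoin R (Set.range (algebraMap k₁ L₁)) ↔
      ∃ r : ι → L₁, (∀ j, r j ∈ R) ∧ x = ∑ j, r j * algebraMap k₁ L₁ (b j) := by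
  classical
  set M : Submodule R L₁ := Submodule.span R (Set.range fun j => algebraMap k₁ L₁ (b j)) with hM
  have hmem : ∀ c : k₁, algebraMap k₁ L₁ c ∈ M := by
    intro c
    have e : algebraMap k₁ L₁ c =
        ∑ j, (⟨algebraMap k₀ L₁ (b.repr c j), hR _⟩ : R) • algebraMap k₁ L₁ (b j) := by
      conv_lhs => rw [← b.sum_repr c]
      rw [map_sum]
      refine Finset.sum_congr rfl (fun j _ => ?_)
      rw [Algebra.smul_def (b.repr c j) (b j), map_mul, ← IsScalarTower.algebraMap_apply k₀ k₁ L₁]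
      rfl
    rw [e]
    exact Submodule.sum_mem _ (fun j _ => Submodule.smul_mem _ _ (Submodule.subset_span ⟨j, rfl⟩))
  have hone : (1 : L₁) ∈ M := by simpa using hmem 1
  have hmul : ∀ x y, x ∈ M → y ∈ M → x * y ∈ M := by
    intro x y hx hy
    have h1 : x * y ∈ M * M := Submodule.mul_mem_mul hx hy
    have h2 : M * M ≤ M := by
      rw [hM, Submodule.span_mul_span]
      refine Submodule.span_le.2 ?_
      rintro _ ⟨_, ⟨j, rfl⟩, _, ⟨l, rfl⟩, rfl⟩
      show algebraMap k₁ L₁ (b j) * algebraMap k₁ L₁ (b l) ∈ M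
      rw [← map_mul]; exact hmem _
    exact h2 h1
  constructor
  · intro hx
    have hle : Algebra.adjoin R (Set.range (algebraMap k₁ L₁)) ≤ M.toSubalgebra hone hmul := by
      refine Algebra.adjoin_le ?_
      rintro _ ⟨c, rfl⟩
      exact hmem c
    have hxM : x ∈ M := hle hx
    rw [hM, Submodule.mem_span_range_iff_exists_fun] at hxM
    obtain ⟨c, hc⟩ := hxM
    refine ⟨fun j => (c j : L₁), fun j => (c j).2, ?_⟩
    rw [← hc]
    refine Finset.sum_congr rfl (fun j _ => ?_)
    rfl
  · rintro ⟨r, hr, rfl⟩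
    refine sum_mem (fun j _ => ?_)
    exact mul_mem (Subalgebra.algebraMap_mem _ (⟨r j, hr j⟩ : R)) (Algebra.subset_adjoin ⟨b j, rfl⟩)

end lemS

section F3

variable {k X Y : Type*} [Field k] [Field X] [Field Y] [Algebra k X] [Algebra X Y] [Algebra k Y]
  [IsScalarTower k X Y] [FiniteDimensional X Y]

theorem mem_integralClosure_iff_forall (hX : IsFF1 k X) (P : Place k X) (y : Y) :
    y ∈ integralClosure (P.O.toSubring.map (algebraMap X Y)) Y ↔
      ∀ Q : Place k Y, IsOver Q P → Q.1 y ≤ 1 := by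
  constructor
  · rintro hy Q ⟨e, he⟩
    haveI : IsIntegrallyClosedIn Q.O.toSubring Y := inferInstanceAs (IsIntegrallyClosedIn Q.O Y)
    have hle : (integralClosure (P.O.toSubring.map (algebraMap X Y)) Y).toSubring ≤ Q.O.toSubring := by
      rw [Subring.integralClosure_le_iff]
      rintro ⟨r, hr⟩
      obtain ⟨x, hx, rfl⟩ := Subring.mem_map.1 hr
      show algebraMap X Y x ∈ Q.O
      rw [Q.mem_O_iff, he.v_le_one_iff]
      exact P.mem_O_iff.1 hx
    exact Q.mem_O_iff.1 (hle hy)
  · intro h
    by_contra hy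
    obtain ⟨V, hV1, hV2⟩ := Subring.exists_le_valuationSubring_of_isIntegrallyClosedIn
      (R := (integralClosure (P.O.toSubring.map (algebraMap X Y)) Y).toSubring) (x := y) hy
    have hRV : ∀ x : X, P.1 x ≤ 1 → algebraMap X Y x ∈ V := by
      intro x hx
      have hxR : algebraMap X Y x ∈ P.O.toSubring.map (algebraMap X Y) :=
        Subring.mem_map.2 ⟨x, P.mem_O_iff.2 hx, rfl⟩
      exact hV1 (Subalgebra.algebraMap_mem (integralClosure _ Y)
        (⟨_, hxR⟩ : P.O.toSubring.map (algebraMap X Y)))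
    have hkV : ∀ c : k, algebraMap k Y c ∈ V := by
      intro c
      rw [IsScalarTower.algebraMap_apply k X Y]
      exact hRV _ (P.v_algebraMap_le c)
    have hVtop : V ≠ ⊤ := by
      rintro rfl
      exact hV2 (ValuationSubring.mem_top y)
    have hY : IsFF1 k Y := hX.of_finite
    obtain ⟨Q, hQ⟩ := W.exists_place_of_valuationSubring hY V hkV hVtop
    have hQP : IsOver Q P := by
      obtain ⟨P', e, he⟩ := exists_isOverWith hX Q
      have : P = P' := Place.eq_of_O_le (fun x hx => by
        rw [← he.v_le_one_iff, ← Q.mem_O_iff, hQ]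
        exact hRV x hx)
      subst this
      exact ⟨e, he⟩
    have := h Q hQP
    rw [← Q.mem_O_iff, hQ] at this
    exact hV2 this

end F3

section approx

theorem exists_mult {k K : Type*} [Field k] [Field K] [Algebra k K] (Q₀ : Place k K)
    (T : Finset (Place k K)) {ι : Type*} [Fintype ι] (y : ι → K) :
    ∃ s : K, Q₀.1 s = 1 ∧ ∀ Q ∈ T, Q ≠ Q₀ → Q.1 s ≤ 1 ∧ ∀ j, Q.1 (s * y j) ≤ 1 := by
  classical
  set S := T.erase Q₀ with hS
  obtain ⟨B, hBdef⟩ : ∃ B, B = (S ×ˢ (Finset.univ : Finset ι)).sup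
      (fun p => p.1.1 (y p.2)) ⊔ 1 := ⟨_, rfl⟩
  have hB1 : 1 ≤ B := by rw [hBdef]; exact le_sup_right
  have hB0 : B ≠ 0 := (lt_of_lt_of_le zero_lt_one hB1).ne'
  have hB : ∀ Q ∈ S, ∀ j, Q.1 (y j) ≤ B := by
    intro Q hQ j
    rw [hBdef]
    refine le_trans ?_ le_sup_left
    exact Finset.le_sup (f := fun p : Place k K × ι => p.1.1 (y p.2))
      ((Finset.mem_product (p := (Q, j))).2 ⟨hQ, Finset.mem_univ j⟩)
  obtain ⟨w, hw0, hwS⟩ := Place.exists_approx_one Q₀ S (Finset.notMem_erase Q₀ T) (inv_ne_zero hB0)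
  have hBinv : B⁻¹ ≤ 1 := inv_le_one_of_one_le₀ hB1
  refine ⟨w, ?_, ?_⟩
  · have h1 : Q₀.1 (w - 1) < 1 := lt_of_lt_of_le hw0 hBinv
    have : w = 1 + (w - 1) := by ring
    rw [this]
    exact Q₀.1.map_one_add_of_lt h1
  · intro Q hQ hne
    have hQS : Q ∈ S := Finset.mem_erase.2 ⟨hne, hQ⟩
    have hlt := hwS Q hQS
    refine ⟨le_trans hlt.le hBinv, fun j => ?_⟩
    rw [map_mul]
    calc Q.1 w * Q.1 (y j) ≤ B⁻¹ * B := mul_le_mul' hlt.le (hB Q hQS j)
      _ = 1 := inv_mul_cancel₀ hB0

end approx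

section main

universe u v
variable {k k' k'' : Type u} {K K' K'' : Type v} [Field k] [Field k'] [Field k''] [Field K]
    [Field K'] [Field K'']
    [Algebra k k'] [Algebra k' k''] [Algebra k k''] [IsScalarTower k k' k'']
    [FiniteDimensional k k'] [FiniteDimensional k' k'']
    [Algebra k K] [Algebra K K'] [Algebra k' K'] [Algebra k K'] [IsScalarTower k k' K']
    [IsScalarTower k K K']
    [Algebra K' K''] [Algebra k'' K''] [Algebra k' K''] [Algebra k K''] [Algebra K K'']
    [IsScalarTower k' k'' K''] [IsScalarTower k' K' K''] [IsScalarTower K K' K'']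
    [IsScalarTower k K K'']

omit [FiniteDimensional k' k''] [IsScalarTower k k' k''] in
theorem v_le_one_of_alg (Q : Place k K') (c : k') : Q.1 (algebraMap k' K' c) ≤ 1 := by
  rcases eq_or_ne c 0 with rfl | hc
  · simp
  · have halg : IsAlgebraic k (algebraMap k' K' c) :=
      (Algebra.IsAlgebraic.isAlgebraic c).algebraMap
    exact (v_eq_one_of_isAlgebraic Q.1 Q.v_algebraMap_le ((map_ne_zero _).2 hc) halg).le

theorem main
    (h1 : Function.Bijective (Algebra.TensorProduct.productMap
      (IsScalarTower.toAlgHom k k' K') (IsScalarTower.toAlgHom k K K')))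
    (h2 : Function.Bijective (Algebra.TensorProduct.productMap
      (IsScalarTower.toAlgHom k' k'' K'') (IsScalarTower.toAlgHom k' K' K'')))
    (hK : IsFunctionField k K) (P : Place k K) :
    (integralClosure (P.O.toSubring.map (algebraMap K K'')) K'' =
        Algebra.adjoin (P.O.toSubring.map (algebraMap K K'')) (Set.range (algebraMap k'' K''))) ↔
      (integralClosure (P.O.toSubring.map (algebraMap K K')) K' =
          Algebra.adjoin (P.O.toSubring.map (algebraMap K K')) (Set.range (algebraMap k' K')) ∧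
        ∀ Q : Place k K', IsOver Q P →
          integralClosure (Q.O.toSubring.map (algebraMap K' K'')) K'' =
            Algebra.adjoin (Q.O.toSubring.map (algebraMap K' K''))
              (Set.range (algebraMap k'' K''))) := by
  classical
  haveI t1 : IsScalarTower k K' K'' := IsScalarTower.of_algebraMap_eq (fun c => by
    rw [IsScalarTower.algebraMap_apply k K K'', IsScalarTower.algebraMap_apply K K' K'',
      ← IsScalarTower.algebraMap_apply k K K'])
  haveI t2 : IsScalarTower k k' K'' := IsScalarTower.of_algebraMap_eq (fun c => by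
    rw [IsScalarTower.algebraMap_apply k K' K'', IsScalarTower.algebraMap_apply k k' K',
      ← IsScalarTower.algebraMap_apply k' K' K''])
  haveI t3 : IsScalarTower k k'' K'' := IsScalarTower.of_algebraMap_eq (fun c => by
    rw [IsScalarTower.algebraMap_apply k k' K'', IsScalarTower.algebraMap_apply k' k'' K'',
      ← IsScalarTower.algebraMap_apply k k' k''])
  haveI fin0 : FiniteDimensional k k'' := Module.Finite.trans k' k''
  obtain ⟨B₁, hB₁⟩ := exists_basis (Module.finBasis k k') h1
  obtain ⟨B, hB⟩ := exists_basis (Module.finBasis k' k'') h2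
  set b := Module.finBasis k' k'' with hb
  haveI fin1 : FiniteDimensional K K' := Module.Finite.of_basis B₁
  haveI fin2 : FiniteDimensional K' K'' := Module.Finite.of_basis B
  haveI fin3 : FiniteDimensional K K'' := Module.Finite.trans K' K''
  have hK1 : IsFF1 k K := hK.isFF1
  have hK' : IsFF1 k K' := hK1.of_finite
  -- coordinates
  have hSP : ∀ y : K'', ∃ c : Fin (Module.finrank k' k'') → K',
      y = ∑ j, algebraMap K' K'' (c j) * algebraMap k'' K'' (b j) := by
    intro y
    refine ⟨fun j => B.repr y j, ?_⟩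
    conv_lhs => rw [← B.sum_repr y]
    refine Finset.sum_congr rfl (fun j _ => ?_)
    rw [Algebra.smul_def, hB]
  have hLI : ∀ c : Fin (Module.finrank k' k'') → K',
      ∑ j, algebraMap K' K'' (c j) * algebraMap k'' K'' (b j) = 0 → ∀ j, c j = 0 := by
    intro c hc
    refine Fintype.linearIndependent_iff.1 B.linearIndependent c ?_
    rw [← hc]
    refine Finset.sum_congr rfl (fun j _ => ?_)
    rw [Algebra.smul_def, hB]
  have hUniq : ∀ c c' : Fin (Module.finrank k' k'') → K',
      ∑ j, algebraMap K' K'' (c j) * algebraMap k'' K'' (b j) =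
        ∑ j, algebraMap K' K'' (c' j) * algebraMap k'' K'' (b j) → ∀ j, c j = c' j := by
    intro c c' h j
    have := hLI (fun j => c j - c' j) (by
      simp only [map_sub, sub_mul, Finset.sum_sub_distrib]
      rw [h, sub_self]) j
    exact sub_eq_zero.1 this
  -- towers of places
  have hTower : ∀ (R : Place k K'') (Q : Place k K'), IsOver R Q → (IsOver R P ↔ IsOver Q P) := by
    rintro R Q ⟨e'', he''⟩
    constructor
    · intro hRP
      obtain ⟨P', e', he'⟩ := exists_isOverWith hK1 Q
      have hRP' : IsOver R P' := ⟨_, he''.trans he'⟩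
      have : P = P' := hRP.unique hRP'
      subst this
      exact ⟨e', he'⟩
    · rintro ⟨e', he'⟩
      exact ⟨_, he''.trans he'⟩
  have cA' : ∀ x : K', x ∈ integralClosure (P.O.toSubring.map (algebraMap K K')) K' ↔
      ∀ Q : Place k K', IsOver Q P → Q.1 x ≤ 1 :=
    fun x => mem_integralClosure_iff_forall hK1 P x
  have cA'' : ∀ y : K'', y ∈ integralClosure (P.O.toSubring.map (algebraMap K K'')) K'' ↔
      ∀ R : Place k K'', IsOver R P → R.1 y ≤ 1 :=
    fun y => mem_integralClosure_iff_forall hK1 P y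
  have cB : ∀ (Q : Place k K') (y : K''),
      y ∈ integralClosure (Q.O.toSubring.map (algebraMap K' K'')) K'' ↔
      ∀ R : Place k K'', IsOver R Q → R.1 y ≤ 1 :=
    fun Q y => mem_integralClosure_iff_forall hK' Q y
  have hkQ : ∀ (Q : Place k K') (c : k'),
      algebraMap k' K'' c ∈ Q.O.toSubring.map (algebraMap K' K'') := fun Q c =>
    Subring.mem_map.2 ⟨algebraMap k' K' c, Q.mem_O_iff.2 (v_le_one_of_alg Q c),
      (IsScalarTower.algebraMap_apply k' K' K'' c).symm⟩
  have cNQ : ∀ (Q : Place k K') (y : K''),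
      y ∈ Algebra.adjoin (Q.O.toSubring.map (algebraMap K' K''))
        (Set.range (algebraMap k'' K'')) ↔
      ∃ q : Fin (Module.finrank k' k'') → K', (∀ j, Q.1 (q j) ≤ 1) ∧
        y = ∑ j, algebraMap K' K'' (q j) * algebraMap k'' K'' (b j) := by
    intro Q y
    rw [mem_adjoin_iff b _ (hkQ Q) y]
    constructor
    · rintro ⟨r, hr, rfl⟩
      have : ∀ j, ∃ q : K', Q.1 q ≤ 1 ∧ algebraMap K' K'' q = r j := fun j => by
        obtain ⟨q, hq, hqr⟩ := Subring.mem_map.1 (hr j)
        exact ⟨q, Q.mem_O_iff.1 hq, hqr⟩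
      choose q hq1 hq2 using this
      exact ⟨q, hq1, Finset.sum_congr rfl (fun j _ => by rw [hq2])⟩
    · rintro ⟨q, hq, rfl⟩
      exact ⟨fun j => algebraMap K' K'' (q j),
        fun j => Subring.mem_map.2 ⟨q j, Q.mem_O_iff.2 (hq j), rfl⟩, rfl⟩
  set N' := Algebra.adjoin (P.O.toSubring.map (algebraMap K K')) (Set.range (algebraMap k' K'))
    with hN'
  set N'' := Algebra.adjoin (P.O.toSubring.map (algebraMap K K''))
    (Set.range (algebraMap k'' K'')) with hN''
  have hfN : ∀ q : K', q ∈ N' → algebraMap K' K'' q ∈ N'' := by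
    intro q hq
    induction hq using Algebra.adjoin_induction with
    | mem x hx =>
      obtain ⟨c, rfl⟩ := hx
      refine Algebra.subset_adjoin ⟨algebraMap k' k'' c, ?_⟩
      rw [← IsScalarTower.algebraMap_apply k' k'' K'', IsScalarTower.algebraMap_apply k' K' K'']
    | algebraMap r =>
      obtain ⟨o, ho, hor⟩ := Subring.mem_map.1 r.2
      have hmem : algebraMap K K'' o ∈ P.O.toSubring.map (algebraMap K K'') :=
        Subring.mem_map.2 ⟨o, ho, rfl⟩
      have e : algebraMap K' K'' (algebraMap _ K' r) = algebraMap K K'' o := by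
        show algebraMap K' K'' (r : K') = _
        rw [← hor, ← IsScalarTower.algebraMap_apply K K' K'']
      rw [e]
      exact Subalgebra.algebraMap_mem N'' (⟨_, hmem⟩ : P.O.toSubring.map (algebraMap K K''))
    | add x y hx hy ihx ihy => rw [map_add]; exact add_mem ihx ihy
    | mul x y hx hy ihx ihy => rw [map_mul]; exact mul_mem ihx ihy
  set S : Subring K'' := N'.toSubring.map (algebraMap K' K'') with hS
  have hkS : ∀ c : k', algebraMap k' K'' c ∈ S := fun c =>
    Subring.mem_map.2 ⟨algebraMap k' K' c, Algebra.subset_adjoin ⟨c, rfl⟩,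
      (IsScalarTower.algebraMap_apply k' K' K'' c).symm⟩
  have hN''S : ∀ y : K'', y ∈ N'' → y ∈ Algebra.adjoin S (Set.range (algebraMap k'' K'')) := by
    intro y hy
    induction hy using Algebra.adjoin_induction with
    | mem x hx => exact Algebra.subset_adjoin hx
    | algebraMap r =>
      obtain ⟨o, ho, hor⟩ := Subring.mem_map.1 r.2
      have hmem : (r : K'') ∈ S := by
        refine Subring.mem_map.2 ⟨algebraMap K K' o, ?_, ?_⟩
        · exact Subalgebra.algebraMap_mem N'
            (⟨_, Subring.mem_map.2 ⟨o, ho, rfl⟩⟩ : P.O.toSubring.map (algebraMap K K'))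
        · rw [← hor, ← IsScalarTower.algebraMap_apply K K' K'']
      exact Subalgebra.algebraMap_mem _ (⟨_, hmem⟩ : S)
    | add x y hx hy ihx ihy => exact add_mem ihx ihy
    | mul x y hx hy ihx ihy => exact mul_mem ihx ihy
  have cN'' : ∀ y : K'', y ∈ N'' ↔ ∃ q : Fin (Module.finrank k' k'') → K', (∀ j, q j ∈ N') ∧
      y = ∑ j, algebraMap K' K'' (q j) * algebraMap k'' K'' (b j) := by
    intro y
    constructor
    · intro hy
      obtain ⟨r, hr, rfl⟩ := (mem_adjoin_iff b S hkS y).1 (hN''S y hy)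
      have : ∀ j, ∃ q : K', q ∈ N' ∧ algebraMap K' K'' q = r j := fun j => by
        obtain ⟨q, hq, hqr⟩ := Subring.mem_map.1 (hr j)
        exact ⟨q, hq, hqr⟩
      choose q hq1 hq2 using this
      exact ⟨q, hq1, Finset.sum_congr rfl (fun j _ => by rw [hq2])⟩
    · rintro ⟨q, hq, rfl⟩
      exact sum_mem (fun j _ => mul_mem (hfN _ (hq j)) (Algebra.subset_adjoin ⟨b j, rfl⟩))
  have hkP' : ∀ c : k, algebraMap k K' c ∈ P.O.toSubring.map (algebraMap K K') := fun c =>
    Subring.mem_map.2 ⟨algebraMap k K c, P.algebraMap_mem_O c,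
      (IsScalarTower.algebraMap_apply k K K' c).symm⟩
  have hkP'' : ∀ c : k, algebraMap k K'' c ∈ P.O.toSubring.map (algebraMap K K'') := fun c =>
    Subring.mem_map.2 ⟨algebraMap k K c, P.algebraMap_mem_O c,
      (IsScalarTower.algebraMap_apply k K K'' c).symm⟩
  have incl' : N' ≤ integralClosure (P.O.toSubring.map (algebraMap K K')) K' :=
    range_le_integralClosure (k₀ := k) (k₁ := k') _ hkP'
  have incl'' : N'' ≤ integralClosure (P.O.toSubring.map (algebraMap K K'')) K'' :=
    range_le_integralClosure (k₀ := k) (k₁ := k'') _ hkP''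
  have inclQ : ∀ Q : Place k K', Algebra.adjoin (Q.O.toSubring.map (algebraMap K' K''))
      (Set.range (algebraMap k'' K'')) ≤
      integralClosure (Q.O.toSubring.map (algebraMap K' K'')) K'' := fun Q =>
    range_le_integralClosure (k₀ := k') (k₁ := k'') _ (hkQ Q)
  have hone : (1 : K'') = ∑ j, algebraMap K' K'' (algebraMap k' K' (b.repr 1 j)) *
      algebraMap k'' K'' (b j) := by
    have h1' : (1 : K'') = algebraMap k'' K'' 1 := (map_one _).symm
    rw [h1']
    conv_lhs => rw [← b.sum_repr 1]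
    rw [map_sum]
    refine Finset.sum_congr rfl (fun j _ => ?_)
    rw [Algebra.smul_def (b.repr 1 j) (b j), map_mul, ← IsScalarTower.algebraMap_apply k' k'' K'',
      IsScalarTower.algebraMap_apply k' K' K'']
  have hscale : ∀ (s : K') (c : Fin (Module.finrank k' k'') → K'),
      algebraMap K' K'' s * ∑ j, algebraMap K' K'' (c j) * algebraMap k'' K'' (b j) =
        ∑ j, algebraMap K' K'' (s * c j) * algebraMap k'' K'' (b j) := by
    intro s c
    rw [Finset.mul_sum]
    refine Finset.sum_congr rfl (fun j _ => ?_)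
    rw [map_mul, mul_assoc]
  constructor
  · intro hE
    have hE' : ∀ y : K'', y ∈ integralClosure (P.O.toSubring.map (algebraMap K K'')) K'' ↔
        y ∈ N'' := fun y => SetLike.ext_iff.1 hE y
    refine ⟨?_, ?_⟩
    · refine le_antisymm ?_ incl'
      intro x hx
      have hx' := (cA' x).1 hx
      have hfx : algebraMap K' K'' x ∈ N'' := by
        rw [← hE', cA'']
        intro R hRP
        obtain ⟨Q, e, he⟩ := exists_isOverWith hK' R
        have hQP : IsOver Q P := (hTower R Q ⟨e, he⟩).1 hRP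
        exact (he.v_le_one_iff x).2 (hx' Q hQP)
      obtain ⟨q, hq1, hq2⟩ := (cN'' _).1 hfx
      have hfx2 : algebraMap K' K'' x = ∑ j, algebraMap K' K'' (x * algebraMap k' K' (b.repr 1 j)) *
          algebraMap k'' K'' (b j) := by
        rw [← hscale, ← hone, mul_one]
      have hcoord := hUniq _ _ (hq2.symm.trans hfx2)
      obtain ⟨j₀, hj₀⟩ : ∃ j, b.repr 1 j ≠ 0 := by
        by_contra hcon
        push Not at hcon
        have h0 : b.repr 1 = 0 := Finsupp.ext hcon
        exact one_ne_zero (b.repr.map_eq_zero_iff.1 h0)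
      have hx_eq : x = q j₀ * algebraMap k' K' (b.repr 1 j₀)⁻¹ := by
        rw [hcoord j₀, mul_assoc, ← map_mul, mul_inv_cancel₀ hj₀, map_one, mul_one]
      rw [hx_eq]
      exact mul_mem (hq1 j₀) (Algebra.subset_adjoin ⟨_, rfl⟩)
    · intro Q hQP
      refine le_antisymm ?_ (inclQ Q)
      intro y hy
      have hy' := (cB Q y).1 hy
      obtain ⟨c, hc⟩ := hSP y
      have hfin := finite_isOver (K' := K') hK1 P
      obtain ⟨s, hs0, hsT⟩ := exists_mult Q hfin.toFinset c
      have e1 : algebraMap K' K'' s * y =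
          ∑ j, algebraMap K' K'' (s * c j) * algebraMap k'' K'' (b j) := by
        rw [hc, hscale]
      have hsy : algebraMap K' K'' s * y ∈ N'' := by
        rw [← hE', cA'']
        intro R hRP
        obtain ⟨Q', e, he⟩ := exists_isOverWith hK' R
        have hQ'P : IsOver Q' P := (hTower R Q' ⟨e, he⟩).1 hRP
        by_cases hQQ : Q' = Q
        · subst hQQ
          rw [map_mul, he s, hs0, one_pow, one_mul]
          exact hy' R ⟨e, he⟩
        · have hmem : Q' ∈ hfin.toFinset := hfin.mem_toFinset.2 hQ'P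
          obtain ⟨hs1, hs2⟩ := hsT Q' hmem hQQ
          have h3 : algebraMap K' K'' s * y ∈
              Algebra.adjoin (Q'.O.toSubring.map (algebraMap K' K''))
                (Set.range (algebraMap k'' K'')) :=
            (cNQ Q' _).2 ⟨fun j => s * c j, hs2, e1⟩
          exact (cB Q' _).1 (inclQ Q' h3) R ⟨e, he⟩
      obtain ⟨q, hq1, hq2⟩ := (cN'' _).1 hsy
      have hcoord := hUniq _ _ (hq2.symm.trans e1)
      have hs_ne : s ≠ 0 := by
        rintro rfl
        simp at hs0
      refine (cNQ Q y).2 ⟨c, fun j => ?_, hc⟩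
      have hqj : Q.1 (q j) ≤ 1 := (cA' (q j)).1 (incl' (hq1 j)) Q hQP
      have hcj : c j = s⁻¹ * q j := by
        rw [hcoord j, ← mul_assoc, inv_mul_cancel₀ hs_ne, one_mul]
      rw [hcj, map_mul, map_inv₀, hs0, inv_one, one_mul]
      exact hqj
  · rintro ⟨hE1, hE2⟩
    refine le_antisymm ?_ incl''
    intro y hy
    have hy' := (cA'' y).1 hy
    obtain ⟨c, hc⟩ := hSP y
    refine (cN'' y).2 ⟨c, fun j => ?_, hc⟩
    have hcj : c j ∈ integralClosure (P.O.toSubring.map (algebraMap K K')) K' := by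
      rw [cA']
      intro Q hQP
      have hyB : y ∈ integralClosure (Q.O.toSubring.map (algebraMap K' K'')) K'' := by
        rw [cB]
        intro R hRQ
        exact hy' R ((hTower R Q hRQ).2 hQP)
      rw [hE2 Q hQP, cNQ] at hyB
      obtain ⟨q, hq1, hq2⟩ := hyB
      have := hUniq _ _ (hc.symm.trans hq2) j
      rw [this]; exact hq1 j
    rw [hE1] at hcj
    exact hcj

end main

end Groth.Agent.H4.NonsingTr
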