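import Mathlib
set_option autoImplicit false
universe u
namespace Groth.Agent.H4.NormRes
open Polynomial Matrix

/-- naturality of `det (aeval U p)` -/
theorem map_det_aeval {R S : Type u} [CommRing R] [CommRing S] (φ : R →+* S) (n : ℕ)
    (U : Matrix (Fin n) (Fin n) R) (p : R[X]) :
    φ (aeval U p).det = (aeval (U.map φ) (p.map φ)).det := by
  rw [RingHom.map_det]
  congr 1
  rw [aeval_def, aeval_def, Polynomial.hom_eval₂, Polynomial.eval₂_map]
  congr 1
  ext x i j
  simp [Matrix.algebraMap_matrix_apply, apply_ite φ]

/-- the splits case -/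
theorem det_aeval_of_splits {K : Type u} [Field K] (p : K[X]) (hp : p.Splits) (n : ℕ)
    (U : Matrix (Fin n) (Fin n) K) :
    (aeval U p).det = resultant U.charpoly p n p.natDegree := by
  classical
  -- the multiplicative map `q ↦ det (q(U))`
  let E : K[X] →* K := Matrix.detMonoidHom.comp
    ((aeval U : K[X] →ₐ[K] Matrix (Fin n) (Fin n) K) : K[X] →* Matrix (Fin n) (Fin n) K)
  have hE : ∀ q, E q = (aeval U q).det := fun q => rfl
  have hEC : ∀ c : K, E (C c) = c ^ n := by
    intro c
    rw [hE, aeval_C, Algebra.algebraMap_eq_smul_one, Matrix.det_smul, Matrix.det_one, mul_one,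
      Fintype.card_fin]
  have hElin : ∀ a : K, E (X - C a) = (-1) ^ n * U.charpoly.eval a := by
    intro a
    rw [hE, Matrix.eval_charpoly, map_sub, aeval_X, aeval_C]
    have : U - algebraMap K (Matrix (Fin n) (Fin n) K) a = - (Matrix.scalar (Fin n) a - U) := by
      rw [neg_sub]; rfl
    rw [this, Matrix.det_neg, Fintype.card_fin]
  have hchi : U.charpoly.natDegree ≤ n := by
    rw [Matrix.charpoly_natDegree_eq_dim, Fintype.card_fin]
  rw [resultant_comm, resultant_eq_prod_eval p U.charpoly n hchi hp]
  rw [← hE]
  conv_lhs => rw [hp.eq_prod_roots]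
  rw [map_mul, hEC, map_multiset_prod, Multiset.map_map]
  have h1 : (p.roots.map (E ∘ fun a => X - C a)) =
      p.roots.map (fun a => (-1) ^ n * U.charpoly.eval a) := by
    refine Multiset.map_congr rfl (fun a _ => ?_)
    exact hElin a
  rw [h1, Multiset.prod_map_mul, Multiset.map_const', Multiset.prod_replicate,
    ← hp.natDegree_eq_card_roots, ← pow_mul]
  ring

theorem det_aeval_eq_resultant {R : Type u} [CommRing R] (p : R[X]) :
    ∀ (n : ℕ) (U : Matrix (Fin n) (Fin n) R),
      (aeval U p).det = resultant U.charpoly p n p.natDegree := by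
  induction p using induction_of_Splits_of_injective_of_surjective with
  | Splits K p hp => exact det_aeval_of_splits p hp
  | injective R S φ hφ p IH =>
    intro n U
    apply hφ
    rw [map_det_aeval, IH n (U.map φ), charpoly_map, resultant_map_map,
      natDegree_map_eq_of_injective hφ]
  | surjective R S φ hφ p IH =>
    intro n U
    obtain ⟨p', hp', e⟩ := exists_degree_eq_of_mem_lifts (Polynomial.map_surjective φ hφ p)
    have hU : ∃ U' : Matrix (Fin n) (Fin n) R, U'.map φ = U := by
      choose f hf using hφ
      exact ⟨U.map f, by ext i j; simp [hf]⟩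
    obtain ⟨U', rfl⟩ := hU
    rw [← hp', ← map_det_aeval, IH p' n U', charpoly_map, resultant_map_map,
      hp', natDegree_eq_natDegree e]

end Groth.Agent.H4.NormRes
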