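import Mathlib
import Groth.Prelude.Def_Flat
import Groth.Prelude.Def_HTop2
import Groth.Prelude.Def_W4c1chowmix47Eta
import Groth.Agent.H4.SemiNormal

set_option autoImplicit false
universe u
open CategoryTheory CategoryTheory.Limits AlgebraicGeometry TensorProduct

namespace Groth.Agent.H4.ResMap

open Groth.Agent.S7405 Groth.Agent.H4.UHCrit Groth.Agent.H4.SemiNormal

section ResIso

lemma residueFieldsIso_of_surjective {X Y : Scheme.{u}} (π : Y ⟶ X)
    (h : ∀ y : Y, Function.Surjective (π.residueFieldMap y)) : HTop.ResidueFieldsIso π := by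
  intro y
  rw [ConcreteCategory.isIso_iff_bijective]
  exact ⟨(π.residueFieldMap y).hom.injective, h y⟩

lemma residueFieldsIso_iff_surjective {X Y : Scheme.{u}} (π : Y ⟶ X) :
    HTop.ResidueFieldsIso π ↔ ∀ y : Y, Function.Surjective (π.residueFieldMap y) := by
  refine ⟨fun h y => ?_, residueFieldsIso_of_surjective π⟩
  have := h y
  exact ((ConcreteCategory.isIso_iff_bijective (π.residueFieldMap y)).mp this).2

end ResIso

section ResMap
variable (A B : Type u) [CommRing A] [CommRing B] [Algebra A B]

lemma exists_div_residueField (p : Ideal A) [p.IsPrime] (y : p.ResidueField) :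
    ∃ a s : A, s ∉ p ∧ y = algebraMap A p.ResidueField a / algebraMap A p.ResidueField s := by
  obtain ⟨u, v, hv, rfl⟩ := IsFractionRing.div_surjective (A := A ⧸ p) y
  obtain ⟨a', rfl⟩ := Ideal.Quotient.mk_surjective u
  obtain ⟨s', rfl⟩ := Ideal.Quotient.mk_surjective v
  refine ⟨a', s', ?_, rfl⟩
  intro h
  have : Ideal.Quotient.mk p s' = 0 := Ideal.Quotient.eq_zero_iff_mem.mpr h
  rw [this] at hv
  exact (mem_nonZeroDivisors_iff_ne_zero.mp hv) rfl

lemma res_iff_map_surjective :
    Res A B ↔ ∀ Q : PrimeSpectrum B, Function.Surjective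
      (Ideal.ResidueField.map (PrimeSpectrum.comap (algebraMap A B) Q).asIdeal Q.asIdeal
        (algebraMap A B) rfl) := by
  constructor
  · intro h Q y
    haveI := Q.isPrime
    obtain ⟨b, t, ht, rfl⟩ := exists_div_residueField B Q.asIdeal y
    obtain ⟨a₁, s₁, hs₁, h₁⟩ := h Q.asIdeal b
    obtain ⟨a₂, s₂, hs₂, h₂⟩ := h Q.asIdeal t
    set P := (PrimeSpectrum.comap (algebraMap A B) Q).asIdeal with hP
    have e₁ : algebraMap B Q.asIdeal.ResidueField (algebraMap A B s₁) * algebraMap B Q.asIdeal.ResidueField b =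
        algebraMap B Q.asIdeal.ResidueField (algebraMap A B a₁) := by
      rw [← map_mul, ← sub_eq_zero, ← map_sub, Ideal.algebraMap_residueField_eq_zero]; exact h₁
    have e₂ : algebraMap B Q.asIdeal.ResidueField (algebraMap A B s₂) * algebraMap B Q.asIdeal.ResidueField t =
        algebraMap B Q.asIdeal.ResidueField (algebraMap A B a₂) := by
      rw [← map_mul, ← sub_eq_zero, ← map_sub, Ideal.algebraMap_residueField_eq_zero]; exact h₂
    have n₁ : algebraMap B Q.asIdeal.ResidueField (algebraMap A B s₁) ≠ 0 := by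
      rwa [Ne, Ideal.algebraMap_residueField_eq_zero]
    have n₂ : algebraMap B Q.asIdeal.ResidueField (algebraMap A B s₂) ≠ 0 := by
      rwa [Ne, Ideal.algebraMap_residueField_eq_zero]
    have nt : algebraMap B Q.asIdeal.ResidueField t ≠ 0 := by
      rwa [Ne, Ideal.algebraMap_residueField_eq_zero]
    have na₂ : algebraMap B Q.asIdeal.ResidueField (algebraMap A B a₂) ≠ 0 := by
      rw [← e₂]; exact mul_ne_zero n₂ nt
    refine ⟨(algebraMap A P.ResidueField a₁ * algebraMap A P.ResidueField s₂) /
      (algebraMap A P.ResidueField s₁ * algebraMap A P.ResidueField a₂), ?_⟩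
    rw [map_div₀, map_mul, map_mul, Ideal.ResidueField.map_algebraMap,
      Ideal.ResidueField.map_algebraMap, Ideal.ResidueField.map_algebraMap,
      Ideal.ResidueField.map_algebraMap, ← e₁, ← e₂]
    generalize algebraMap B Q.asIdeal.ResidueField (algebraMap A B s₁) = u₁ at *
    generalize algebraMap B Q.asIdeal.ResidueField (algebraMap A B s₂) = u₂ at *
    generalize algebraMap B Q.asIdeal.ResidueField b = vb at *
    generalize algebraMap B Q.asIdeal.ResidueField t = vt at *
    field_simp
  · intro h q hq b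
    obtain ⟨y, hy⟩ := h ⟨q, hq⟩ (algebraMap B q.ResidueField b)
    obtain ⟨a', s', hs', rfl⟩ := exists_div_residueField A _ y
    refine ⟨a', s', hs', ?_⟩
    rw [map_div₀, Ideal.ResidueField.map_algebraMap, Ideal.ResidueField.map_algebraMap] at hy
    have hs1 : algebraMap B q.ResidueField (algebraMap A B s') ≠ 0 := by
      rw [Ne, Ideal.algebraMap_residueField_eq_zero]
      exact hs'
    rw [div_eq_iff hs1, ← map_mul, eq_comm, mul_comm, ← sub_eq_zero, ← map_sub,
      Ideal.algebraMap_residueField_eq_zero] at hy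
    exact hy

end ResMap

section RingHom
variable {A B : Type u} [CommRing A] [CommRing B]

lemma sn_ringHom_iff (f : A →+* B) :
    (FlatMor.IsUnivHomeo (Spec.map (CommRingCat.ofHom f)) ∧
      HTop.ResidueFieldsIso (Spec.map (CommRingCat.ofHom f))) ↔
    f.IsIntegral ∧ Function.Bijective (PrimeSpectrum.comap f) ∧
      ∀ Q : PrimeSpectrum B, Function.Surjective
        (Ideal.ResidueField.map (PrimeSpectrum.comap f Q).asIdeal Q.asIdeal f rfl) := by
  letI := f.toAlgebra
  rw [residueFieldsIso_iff_surjective]
  have h1 := sn_iff A B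
  have h2 := res_iff_map_surjective A B
  rw [SN, h2] at h1
  exact h1

end RingHom

section Nmap
variable {A B : Type u} [CommRing A] [CommRing B]

open EtaPt in
lemma bijective_Nmap_ident (f : A →+* B) (hb : Function.Bijective (PrimeSpectrum.comap f))
    (hs : ∀ Q : PrimeSpectrum B, Function.Surjective
      (Ideal.ResidueField.map (PrimeSpectrum.comap f Q).asIdeal Q.asIdeal f rfl)) :
    Function.Bijective (FieldEndo.ident.{u}.Nmap f) := by
  have hN : ∀ (x : FieldEndo.ident.{u}.N A) (Q : PrimeSpectrum B),
      FieldEndo.ident.{u}.Nmap f x Q =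
        Ideal.ResidueField.map (PrimeSpectrum.comap f Q).asIdeal Q.asIdeal f rfl
          (x (PrimeSpectrum.comap f Q)) := fun x Q => rfl
  constructor
  · intro x y h
    funext p
    obtain ⟨Q, rfl⟩ := hb.2 p
    have := congrFun h Q
    rw [hN, hN] at this
    exact (Ideal.ResidueField.map (PrimeSpectrum.comap f Q).asIdeal Q.asIdeal f rfl).injective this
  · intro z
    choose w hw using fun Q => hs Q (z Q)
    let e : PrimeSpectrum B ≃ PrimeSpectrum A := Equiv.ofBijective _ hb
    let x : FieldEndo.ident.{u}.N A :=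
      Equiv.piCongrLeft (fun p : PrimeSpectrum A => p.asIdeal.ResidueField) e w
    refine ⟨x, ?_⟩
    funext Q
    rw [hN]
    have : x (PrimeSpectrum.comap f Q) = w Q :=
      Equiv.piCongrLeft_apply_apply (fun p : PrimeSpectrum A => p.asIdeal.ResidueField) e w Q
    rw [this, hw]

end Nmap

end Groth.Agent.H4.ResMap
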