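import Groth.Prelude.Def_HTop2
import Mathlib.RingTheory.LocalProperties.Reduced

set_option autoImplicit false

namespace Groth.Agent.H4.Seminormal

open HTop

universe u

section basic

variable {A : Type u} [CommRing A]

/-- in a reduced ring an element is determined by its square and its cube -/
theorem eq_of_sq_eq_of_cube_eq [IsReduced A] {a b : A} (h2 : a ^ 2 = b ^ 2) (h3 : a ^ 3 = b ^ 3) :
    a = b := by
  have : (a - b) ^ 3 = 0 := by
    have e1 : (a - b) ^ 3 = a ^ 3 - 3 * (a ^ 2) * b + 3 * a * (b ^ 2) - b ^ 3 := by ring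
    have e2 : a ^ 3 - 3 * (b ^ 2) * b + 3 * a * (a ^ 2) - b ^ 3 = 4 * a ^ 3 - 4 * b ^ 3 := by ring
    calc (a - b) ^ 3 = a ^ 3 - 3 * (a ^ 2) * b + 3 * a * (b ^ 2) - b ^ 3 := e1
      _ = a ^ 3 - 3 * (b ^ 2) * b + 3 * a * (a ^ 2) - b ^ 3 := by rw [h2]
      _ = 4 * a ^ 3 - 4 * b ^ 3 := e2
      _ = 0 := by rw [h3]; ring
  exact sub_eq_zero.mp (IsReduced.eq_zero _ ⟨3, this⟩)

theorem isReduced_of_isSeminormalRing (h : IsSeminormalRing A) : IsReduced A := by
  refine ⟨fun z hz => ?_⟩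
  -- reduce to z ^ 2 = 0
  have key : ∀ w : A, w ^ 2 = 0 → w = 0 := by
    intro w hw
    obtain ⟨a, _, hu⟩ := h 0 0 (by ring)
    have h1 := hu 0 ⟨by ring, by ring⟩
    have h2 := hu w ⟨hw.symm, by rw [pow_succ, hw, zero_mul]⟩
    rw [h2, h1]
  obtain ⟨n, hn⟩ := hz
  induction n using Nat.strong_induction_on generalizing z with
  | _ n ih =>
    by_cases hn1 : n ≤ 1
    · interval_cases n
      · have : (1 : A) = 0 := by simpa using hn
        rw [← mul_one z, this, mul_zero]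
      · simpa using hn
    · push Not at hn1
      have h2 : (z ^ (n - 1)) ^ 2 = 0 := by
        rw [← pow_mul]
        exact pow_eq_zero_of_le (by omega) hn
      exact ih (n - 1) (by omega) z (key _ h2)

theorem isSeminormalRing_iff :
    IsSeminormalRing A ↔ IsReduced A ∧ ∀ x y : A, x ^ 3 = y ^ 2 → ∃ a : A, x = a ^ 2 ∧ y = a ^ 3 := by
  constructor
  · intro h
    exact ⟨isReduced_of_isSeminormalRing h, fun x y hxy => (h x y hxy).exists⟩
  · rintro ⟨hred, hex⟩ x y hxy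
    obtain ⟨a, ha1, ha2⟩ := hex x y hxy
    refine ⟨a, ⟨ha1, ha2⟩, fun b hb => ?_⟩
    exact eq_of_sq_eq_of_cube_eq (hb.1.symm.trans ha1) (hb.2.symm.trans ha2)

theorem isSeminormalRing_of_ringEquiv {B : Type u} [CommRing B] (e : A ≃+* B)
    (h : IsSeminormalRing A) : IsSeminormalRing B := by
  rw [isSeminormalRing_iff] at h ⊢
  obtain ⟨hred, hex⟩ := h
  refine ⟨isReduced_of_injective e.symm.toRingHom e.symm.injective, fun x y hxy => ?_⟩
  obtain ⟨a, ha1, ha2⟩ := hex (e.symm x) (e.symm y) (by rw [← map_pow, ← map_pow, hxy])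
  refine ⟨e a, ?_, ?_⟩
  · rw [← map_pow, ← ha1, e.apply_symm_apply]
  · rw [← map_pow, ← ha2, e.apply_symm_apply]

end basic

section loc

variable {A : Type u} [CommRing A] (M : Submonoid A) (B : Type u) [CommRing B] [Algebra A B]
  [IsLocalization M B]

include M in
theorem isReduced_of_isLocalization [IsReduced A] : IsReduced B :=
  isReduced_localizationPreserves M B inferInstance

include M in
/-- clearing denominators: `u^2 x`, `u^3 y` integral for a common `u` -/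
theorem exists_clear (x y : B) : ∃ (u : M) (a b : A),
    algebraMap A B u ^ 2 * x = algebraMap A B a ∧ algebraMap A B u ^ 3 * y = algebraMap A B b := by
  obtain ⟨⟨a₀, s⟩, hs⟩ := IsLocalization.surj M x
  obtain ⟨⟨b₀, t⟩, ht⟩ := IsLocalization.surj M y
  simp only at hs ht
  refine ⟨s * t, s * t ^ 2 * a₀, s ^ 3 * t ^ 2 * b₀, ?_, ?_⟩
  · simp only [Submonoid.coe_mul, map_mul, map_pow, ← hs]
    ring
  · simp only [Submonoid.coe_mul, map_mul, map_pow, ← ht]
    ring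

include M in
theorem isSeminormalRing_of_isLocalization (h : IsSeminormalRing A) : IsSeminormalRing B := by
  rw [isSeminormalRing_iff] at h ⊢
  obtain ⟨hred, hex⟩ := h
  refine ⟨isReduced_of_isLocalization M B, fun x y hxy => ?_⟩
  obtain ⟨u, a, b, ha, hb⟩ := exists_clear M B x y
  have hab : algebraMap A B (a ^ 3) = algebraMap A B (b ^ 2) := by
    rw [map_pow, map_pow, ← ha, ← hb, mul_pow, mul_pow, hxy]
    ring
  obtain ⟨v, hv⟩ := (IsLocalization.eq_iff_exists M B).mp hab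
  have hcube : ((v : A) ^ 2 * a) ^ 3 = ((v : A) ^ 3 * b) ^ 2 := by
    have : ((v : A) ^ 2 * a) ^ 3 = (v : A) ^ 5 * ((v : A) * a ^ 3) := by ring
    rw [this, hv]; ring
  obtain ⟨c, hc1, hc2⟩ := hex _ _ hcube
  have hU : IsUnit (algebraMap A B ((v * u : M) : A)) := IsLocalization.map_units B (v * u)
  obtain ⟨U, hUe⟩ := hU
  refine ⟨algebraMap A B c * ↑U⁻¹, ?_, ?_⟩
  · have h1 : (U : B) ^ 2 * x = algebraMap A B c ^ 2 := by
      rw [hUe, ← map_pow _ c, ← hc1]
      simp only [Submonoid.coe_mul, map_mul, map_pow, ← ha]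
      ring
    rw [mul_pow, ← h1]
    rw [mul_comm ((U : B) ^ 2) x, mul_assoc, ← mul_pow, Units.mul_inv, one_pow, mul_one]
  · have h1 : (U : B) ^ 3 * y = algebraMap A B c ^ 3 := by
      rw [hUe, ← map_pow _ c, ← hc2]
      simp only [Submonoid.coe_mul, map_mul, map_pow, ← hb]
      ring
    rw [mul_pow, ← h1]
    rw [mul_comm ((U : B) ^ 3) y, mul_assoc, ← mul_pow, Units.mul_inv, one_pow, mul_one]

end loc

section glue

variable {A : Type u} [CommRing A]

theorem ideal_eq_top_of_pow_mem (J : Ideal A) (s : Set A) (hs : Ideal.span s = ⊤)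
    (h : ∀ f ∈ s, ∃ n : ℕ, f ^ n ∈ J) : J = ⊤ := by
  rw [← Ideal.radical_eq_top, eq_top_iff, ← hs, Ideal.span_le]
  intro f hf
  exact h f hf

variable (s : Set A) (hs : Ideal.span s = ⊤) (B : s → Type u) [∀ f, CommRing (B f)]
  [∀ f, Algebra A (B f)] [∀ f : s, IsLocalization.Away (f : A) (B f)]

include hs in
theorem isReduced_of_span_eq_top (h : ∀ f, IsReduced (B f)) : IsReduced A := by
  refine ⟨fun z hz => ?_⟩
  let J : Ideal A :=
    { carrier := {r | r * z = 0}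
      zero_mem' := zero_mul z
      add_mem' := fun {a b} ha hb => by
        change (a + b) * z = 0
        rw [add_mul, ha, hb, add_zero]
      smul_mem' := fun c {a} ha => by
        change (c • a) * z = 0
        rw [smul_eq_mul, mul_assoc, ha, mul_zero] }
  have hJ : J = ⊤ := by
    apply ideal_eq_top_of_pow_mem J s hs
    intro f hf
    obtain ⟨f, rfl⟩ : ∃ f' : s, (f' : A) = f := ⟨⟨f, hf⟩, rfl⟩
    have hz0 : algebraMap A (B f) z = 0 :=
      (h f).eq_zero _ (hz.map (algebraMap A (B f)))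
    rw [← map_zero (algebraMap A (B f)),
      IsLocalization.eq_iff_exists (Submonoid.powers (f : A))] at hz0
    obtain ⟨⟨_, n, rfl⟩, hc⟩ := hz0
    refine ⟨n, ?_⟩
    change (f : A) ^ n * z = 0
    simpa using hc
  have h1 : (1 : A) ∈ J := by rw [hJ]; trivial
  have h2 : (1 : A) * z = 0 := h1
  simpa using h2

/-- the ideal of `r` such that `(r^2 x, r^3 y)` has a root -/
def rootIdeal [IsReduced A] (x y : A) (hxy : x ^ 3 = y ^ 2) : Ideal A where
  carrier := {r | ∃ c : A, c ^ 2 = r ^ 2 * x ∧ c ^ 3 = r ^ 3 * y}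
  zero_mem' := ⟨0, by ring, by ring⟩
  add_mem' := by
    rintro r₁ r₂ ⟨c₁, h1, h1'⟩ ⟨c₂, h2, h2'⟩
    have e1 : c₁ * c₂ = r₁ * r₂ * x := by
      apply eq_of_sq_eq_of_cube_eq
      · rw [mul_pow, h1, h2]; ring
      · rw [mul_pow, h1', h2']
        have : (r₁ * r₂ * x) ^ 3 = r₁ ^ 3 * r₂ ^ 3 * x ^ 3 := by ring
        rw [this, hxy]; ring
    have e2 : x * c₂ = r₂ * y := by
      apply eq_of_sq_eq_of_cube_eq
      · rw [mul_pow, h2]
        have : x ^ 2 * (r₂ ^ 2 * x) = r₂ ^ 2 * x ^ 3 := by ring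
        rw [this, hxy]; ring
      · rw [mul_pow, h2', hxy]; ring
    have e3 : x * c₁ = r₁ * y := by
      apply eq_of_sq_eq_of_cube_eq
      · rw [mul_pow, h1]
        have : x ^ 2 * (r₁ ^ 2 * x) = r₁ ^ 2 * x ^ 3 := by ring
        rw [this, hxy]; ring
      · rw [mul_pow, h1', hxy]; ring
    refine ⟨c₁ + c₂, ?_, ?_⟩
    · have : (c₁ + c₂) ^ 2 = c₁ ^ 2 + 2 * (c₁ * c₂) + c₂ ^ 2 := by ring
      rw [this, h1, h2, e1]; ring
    · have : (c₁ + c₂) ^ 3 = c₁ ^ 3 + 3 * c₁ ^ 2 * c₂ + 3 * c₁ * c₂ ^ 2 + c₂ ^ 3 := by ring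
      rw [this, h1, h2, h1', h2']
      have t1 : 3 * (r₁ ^ 2 * x) * c₂ = 3 * r₁ ^ 2 * (x * c₂) := by ring
      have t2 : 3 * c₁ * (r₂ ^ 2 * x) = 3 * r₂ ^ 2 * (x * c₁) := by ring
      rw [t1, t2, e2, e3]; ring
  smul_mem' := by
    rintro t r ⟨c, h1, h2⟩
    refine ⟨t * c, ?_, ?_⟩
    · rw [mul_pow, h1, smul_eq_mul]; ring
    · rw [mul_pow, h2, smul_eq_mul]; ring

include hs in
theorem isSeminormalRing_of_span_eq_top (h : ∀ f, IsSeminormalRing (B f)) : IsSeminormalRing A := by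
  have hred : IsReduced A :=
    isReduced_of_span_eq_top s hs B fun f => isReduced_of_isSeminormalRing (h f)
  rw [isSeminormalRing_iff]
  refine ⟨hred, fun x y hxy => ?_⟩
  have hI : rootIdeal x y hxy = ⊤ := by
    apply ideal_eq_top_of_pow_mem _ s hs
    intro f hf
    obtain ⟨f, rfl⟩ : ∃ f' : s, (f' : A) = f := ⟨⟨f, hf⟩, rfl⟩
    obtain ⟨α, hα1, hα2⟩ := ((isSeminormalRing_iff.mp (h f)).2
      (algebraMap A (B f) x) (algebraMap A (B f) y)
      (by rw [← map_pow, ← map_pow, hxy]))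
    obtain ⟨k, c₀, hc₀⟩ := IsLocalization.Away.surj (f : A) α
    -- c₀^2 = f^(2k) x and c₀^3 = f^(3k) y in B_f
    have h1 : algebraMap A (B f) (c₀ ^ 2) = algebraMap A (B f) ((f : A) ^ (2 * k) * x) := by
      rw [map_pow, ← hc₀, map_mul, hα1, map_pow]; ring
    have h2 : algebraMap A (B f) (c₀ ^ 3) = algebraMap A (B f) ((f : A) ^ (3 * k) * y) := by
      rw [map_pow, ← hc₀, map_mul, hα2, map_pow]; ring
    rw [IsLocalization.eq_iff_exists (Submonoid.powers (f : A))] at h1 h2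
    obtain ⟨⟨_, N₁, rfl⟩, h1⟩ := h1
    obtain ⟨⟨_, N₂, rfl⟩, h2⟩ := h2
    simp only at h1 h2
    refine ⟨N₁ + N₂ + k, (f : A) ^ (N₁ + N₂) * c₀, ?_, ?_⟩
    · have e : ((f : A) ^ (N₁ + N₂) * c₀) ^ 2 = (f : A) ^ (N₁ + 2 * N₂) * ((f : A) ^ N₁ * c₀ ^ 2) := by ring
      rw [e, h1]; ring
    · have e : ((f : A) ^ (N₁ + N₂) * c₀) ^ 3 = (f : A) ^ (3 * N₁ + 2 * N₂) * ((f : A) ^ N₂ * c₀ ^ 3) := by ring
      rw [e, h2]; ring
  have h1 : (1 : A) ∈ rootIdeal x y hxy := by rw [hI]; trivial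
  obtain ⟨c, hc1, hc2⟩ := h1
  exact ⟨c, by rw [hc1]; ring, by rw [hc2]; ring⟩

end glue

end Groth.Agent.H4.Seminormal
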