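import Mathlib
import Groth.Prelude.Def_Flat
import Groth.Prelude.Def_HTop2
import Groth.Agent.H4.AWNSch2
import Groth.Agent.H4.ResMap
import Groth.Agent.H4.Seminormal

set_option autoImplicit false
universe u
open CategoryTheory CategoryTheory.Limits AlgebraicGeometry TensorProduct

namespace Groth.Agent.H4.SNSch

open Groth.Agent.S7405 Groth.Agent.H4.UHCrit Groth.Agent.H4.SemiNormal Groth.Agent.H4.ResMap
  Groth.Agent.H4.AWN2

section Ring
variable {C D : Type u} [CommRing C] [CommRing D]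

/-- subintegral quotient by nilpotents -/
lemma sn_quotient [Algebra C D] (h : SN C D) (N : Ideal D) (hN : N ≤ nilradical D) :
    SN C (D ⧸ N) := by
  refine ⟨integral_of_surjective (Ideal.Quotient.mkₐ C N) Ideal.Quotient.mk_surjective h.1, ?_,
    res_of_surjective (Ideal.Quotient.mkₐ C N) Ideal.Quotient.mk_surjective h.2.2⟩
  have h1 : algebraMap C (D ⧸ N) = (Ideal.Quotient.mk N).comp (algebraMap C D) := rfl
  rw [h1, PrimeSpectrum.comap_comp]
  exact h.2.1.comp (PrimeSpectrum.comap_quotientMk_bijective_of_le_nilradical hN)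

/-- a seminormal ring has no proper subintegral reduced extensions -/
lemma surjective_of_sn [Algebra C D] (hC : HTop.IsSeminormalRing C) [IsReduced D]
    (hinj : Function.Injective (algebraMap C D)) (h : SN C D) :
    Function.Surjective (algebraMap C D) := by
  by_contra hns
  obtain ⟨b, hb, ⟨x, hx⟩, ⟨y, hy⟩⟩ := sn_exists_sq_cube h hns
  have hxy : x ^ 3 = y ^ 2 := hinj (by rw [map_pow, map_pow, hx, hy]; ring)
  obtain ⟨a, ⟨ha2, ha3⟩, -⟩ := hC x y hxy
  apply hb
  refine ⟨a, ?_⟩
  exact eq_of_sq_cube (by rw [← map_pow, ← ha2, hx]) (by rw [← map_pow, ← ha3, hy])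

/-- over a seminormal ring, every universal homeomorphism with trivial residue field extensions
has a unique retraction -/
lemma existsUnique_retraction_sn (hC : HTop.IsSeminormalRing C) (ψ : C →+* D)
    (hψ : FlatMor.IsUnivHomeo (Spec.map (CommRingCat.ofHom ψ)))
    (hψ' : HTop.ResidueFieldsIso (Spec.map (CommRingCat.ofHom ψ))) :
    ∃! r : D →+* C, r.comp ψ = RingHom.id C := by
  letI := ψ.toAlgebra
  haveI : IsReduced C := Groth.Agent.H4.Seminormal.isReduced_of_isSeminormalRing hC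
  have hsn : SN C D := (sn_iff C D).mp ⟨hψ, (residueFieldsIso_iff_surjective _).mp hψ'⟩
  have hsn' : SN C (D ⧸ nilradical D) := sn_quotient hsn _ le_rfl
  haveI : IsReduced (D ⧸ nilradical D) := by
    rw [← Ideal.isRadical_iff_quotient_reduced]
    exact Ideal.radical_isRadical _
  have hinj : Function.Injective (algebraMap C (D ⧸ nilradical D)) := by
    rw [RingHom.injective_iff_ker_eq_bot, eq_bot_iff]
    intro c hc
    have : IsNilpotent c := by
      rw [nilpotent_iff_mem_prime]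
      intro P hP
      obtain ⟨Q, hQ⟩ := hsn'.2.1.2 ⟨P, hP⟩
      have h1 : c ∈ (PrimeSpectrum.comap (algebraMap C (D ⧸ nilradical D)) Q).asIdeal := by
        show algebraMap C (D ⧸ nilradical D) c ∈ Q.asIdeal
        rw [show algebraMap C (D ⧸ nilradical D) c = 0 from hc]
        exact Q.asIdeal.zero_mem
      rw [hQ] at h1
      exact h1
    exact this.eq_zero
  have hsurj := surjective_of_sn hC hinj hsn'
  let e : C ≃+* (D ⧸ nilradical D) := RingEquiv.ofBijective _ ⟨hinj, hsurj⟩
  have he : ∀ c : C, e c = Ideal.Quotient.mk (nilradical D) (ψ c) := fun c => rfl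
  refine ⟨e.symm.toRingHom.comp (Ideal.Quotient.mk (nilradical D)), ?_, ?_⟩
  · apply RingHom.ext
    intro c
    show e.symm (Ideal.Quotient.mk (nilradical D) (ψ c)) = c
    rw [← he, e.symm_apply_apply]
  · intro r hr
    have hr : r.comp ψ = RingHom.id C := hr
    apply RingHom.ext
    intro d
    show r d = e.symm (Ideal.Quotient.mk (nilradical D) d)
    set c := e.symm (Ideal.Quotient.mk (nilradical D) d) with hc
    have h1 : Ideal.Quotient.mk (nilradical D) (ψ c) = Ideal.Quotient.mk (nilradical D) d := by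
      rw [← he, hc, e.apply_symm_apply]
    have h2 : d - ψ c ∈ nilradical D := by
      rw [← Ideal.Quotient.eq_zero_iff_mem, map_sub, h1, sub_self]
    have h3 : IsNilpotent (r (d - ψ c)) := (mem_nilradical.mp h2).map r
    have h4 : r (ψ c) = c := congrArg (fun g => g c) hr
    rw [map_sub, h4] at h3
    exact sub_eq_zero.mp h3.eq_zero

end Ring

end Groth.Agent.H4.SNSch

namespace Groth.Agent.H4.SNSch

open Groth.Agent.S7405 Groth.Agent.H4.UHCrit Groth.Agent.H4.SemiNormal Groth.Agent.H4.ResMap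
  Groth.Agent.H4.AWN2

section Chase

open IsLocalRing

lemma isIso_residueFieldMap_of_isIso_desc {Z V : Scheme.{u}} (p : Z ⟶ V) (K : Type u) [Field K]
    (σ : Spec (.of K) ⟶ Z)
    (h : IsIso (Scheme.descResidueField (Scheme.stalkClosedPointTo (σ ≫ p)))) :
    IsIso (p.residueFieldMap (σ (closedPoint K))) := by
  have h2 := Scheme.descResidueField_stalkClosedPointTo_comp p σ
  have h' : IsIso (Scheme.Hom.residueFieldMap p (σ (closedPoint K)) ≫
      Scheme.descResidueField (Scheme.stalkClosedPointTo σ)) := by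
    rw [← h2]
    exact h
  have h4 := (ConcreteCategory.isIso_iff_bijective _).mp h'
  haveI : IsIso (Scheme.descResidueField (Scheme.stalkClosedPointTo σ)) := by
    rw [ConcreteCategory.isIso_iff_bijective]
    refine ⟨(Scheme.descResidueField (Scheme.stalkClosedPointTo σ)).hom.injective, fun k => ?_⟩
    obtain ⟨w, hw⟩ := h4.2 k
    exact ⟨_, hw⟩
  exact IsIso.of_isIso_comp_right _ (Scheme.descResidueField (Scheme.stalkClosedPointTo σ))

/-- if the canonical point `Spec κ(v) ⟶ V` lifts through `p`, then the residue field map of `p`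
at the image of the lift is an isomorphism -/
lemma isIso_residueFieldMap_of_lift {Z V : Scheme.{u}} (p : Z ⟶ V) (v : V)
    (σ : Spec (V.residueField v) ⟶ Z) (hσ : σ ≫ p = V.fromSpecResidueField v) :
    IsIso (p.residueFieldMap (σ (closedPoint (V.residueField v)))) := by
  have h1 : Scheme.SpecToEquivOfField (V.residueField v) V (σ ≫ p) = ⟨v, 𝟙 _⟩ := by
    rw [hσ]
    have : V.fromSpecResidueField v =
        (Scheme.SpecToEquivOfField (V.residueField v) V).symm ⟨v, 𝟙 _⟩ := by
      simp only [Scheme.SpecToEquivOfField, Equiv.coe_fn_symm_mk, Spec.map_id]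
      exact (Category.id_comp _).symm
    rw [this, Equiv.apply_symm_apply]
  rw [Scheme.SpecToEquivOfField_eq_iff] at h1
  obtain ⟨e, he⟩ := h1
  have h3 : IsIso ((Scheme.SpecToEquivOfField (V.residueField v) V (σ ≫ p)).snd) := by
    rw [he]
    infer_instance
  exact isIso_residueFieldMap_of_isIso_desc p (V.residueField v) σ h3

/-- isomorphisms on residue fields are stable under base change along morphisms whose base change
is injective on points -/
lemma residueFieldsIso_of_isPullback {Z Y V X : Scheme.{u}} {p₁ : Z ⟶ Y} {p₂ : Z ⟶ V}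
    {π : Y ⟶ X} {j : V ⟶ X} (sq : IsPullback p₁ p₂ π j) (hπ : HTop.ResidueFieldsIso π)
    (hinj : Function.Injective p₂) : HTop.ResidueFieldsIso p₂ := by
  intro z
  have e : π (p₁ z) = j (p₂ z) := by
    rw [← Scheme.Hom.comp_apply, ← Scheme.Hom.comp_apply, sq.w]
  haveI := hπ (p₁ z)
  let θ : Y.residueField (p₁ z) ⟶ V.residueField (p₂ z) :=
    inv (π.residueFieldMap (p₁ z)) ≫ (X.residueFieldCongr e).hom ≫ j.residueFieldMap (p₂ z)
  let a : Spec (V.residueField (p₂ z)) ⟶ Y := Spec.map θ ≫ Y.fromSpecResidueField (p₁ z)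
  have ha : a ≫ π = V.fromSpecResidueField (p₂ z) ≫ j := by
    show (Spec.map θ ≫ Y.fromSpecResidueField (p₁ z)) ≫ π = _
    rw [Category.assoc, ← Scheme.Hom.SpecMap_residueFieldMap_fromSpecResidueField,
      ← Category.assoc, ← Spec.map_comp]
    have : π.residueFieldMap (p₁ z) ≫ θ =
        (X.residueFieldCongr e).hom ≫ j.residueFieldMap (p₂ z) := by
      show π.residueFieldMap (p₁ z) ≫ inv (π.residueFieldMap (p₁ z)) ≫ _ = _
      rw [IsIso.hom_inv_id_assoc]
    rw [this, Spec.map_comp, Category.assoc, Scheme.residueFieldCongr_fromSpecResidueField,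
      Scheme.Hom.SpecMap_residueFieldMap_fromSpecResidueField]
  have hσ : sq.lift a (V.fromSpecResidueField (p₂ z)) ha ≫ p₂ = V.fromSpecResidueField (p₂ z) :=
    sq.lift_snd _ _ _
  have hz : sq.lift a (V.fromSpecResidueField (p₂ z)) ha (closedPoint (V.residueField (p₂ z))) = z := by
    apply hinj
    rw [← Scheme.Hom.comp_apply, hσ, Scheme.fromSpecResidueField_apply]
  have h := isIso_residueFieldMap_of_lift p₂ (p₂ z) _ hσ
  rw [hz] at h
  exact h

end Chase

end Groth.Agent.H4.SNSch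

namespace Groth.Agent.H4.SNSch

open Groth.Agent.S7405 Groth.Agent.H4.UHCrit Groth.Agent.H4.SemiNormal Groth.Agent.H4.ResMap
  Groth.Agent.H4.AWN2 Groth.Agent.H4.AWNSch

section SNMor

/-- universal homeomorphisms inducing isomorphisms on all residue fields -/
def SNMor : MorphismProperty Scheme.{u} :=
  fun _ _ f => FlatMor.IsUnivHomeo f ∧ HTop.ResidueFieldsIso f

lemma injective_of_uh {X Y : Scheme.{u}} (f : X ⟶ Y) (hf : FlatMor.IsUnivHomeo f) :
    Function.Injective f := by
  have : IsHomeomorph f := hf _ _ _ IsPullback.of_id_snd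
  exact this.injective

instance snMor_baseChange : (SNMor.{u}).IsStableUnderBaseChange where
  of_isPullback {X Y Y' S f g f' g'} sq hg := by
    have h1 : FlatMor.IsUnivHomeo g' := MorphismProperty.of_isPullback sq hg.1
    exact ⟨h1, residueFieldsIso_of_isPullback sq hg.2 (injective_of_uh g' h1)⟩

instance snMor_respectsIso : (SNMor.{u}).RespectsIso :=
  MorphismProperty.IsStableUnderBaseChange.respectsIso

end SNMor

end Groth.Agent.H4.SNSch

namespace Groth.Agent.H4.SNSch

open Groth.Agent.S7405 Groth.Agent.H4.UHCrit Groth.Agent.H4.SemiNormal Groth.Agent.H4.ResMap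
  Groth.Agent.H4.AWN2 Groth.Agent.H4.AWNSch

section KeySN

/-- sections of `Spec φ` over a seminormal ring -/
lemma existsUnique_section_Spec_sn {R S : CommRingCat.{u}} (φ : R ⟶ S)
    (hR : HTop.IsSeminormalRing R) (hφ : SNMor (Spec.map φ)) :
    ∃! σ : Spec R ⟶ Spec S, σ ≫ Spec.map φ = 𝟙 _ := by
  obtain ⟨r, hr, hru⟩ := existsUnique_retraction_sn hR φ.hom hφ.1 hφ.2
  refine ⟨Spec.map (CommRingCat.ofHom r), ?_, ?_⟩
  · show Spec.map (CommRingCat.ofHom r) ≫ Spec.map φ = 𝟙 _
    rw [← Spec.map_comp, ← Spec.map_id]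
    congr 1
    ext x
    exact congrArg (fun g => g x) hr
  · intro σ hσ
    have hσ : σ ≫ Spec.map φ = 𝟙 _ := hσ
    have h1 : Spec.map (φ ≫ Spec.preimage σ) = Spec.map (𝟙 R) := by
      rw [Spec.map_comp, Spec.map_preimage, hσ, Spec.map_id]
    have h2 := Spec.map_injective h1
    have h3 : (Spec.preimage σ).hom = r := by
      apply hru
      apply RingHom.ext
      intro x
      exact congrArg (fun g => g.hom x) h2
    rw [← Spec.map_preimage σ]
    congr 1
    ext x
    exact congrArg (fun g => g x) h3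

lemma existsUnique_section_affine_sn {Z V : Scheme.{u}} [IsAffine Z] [IsAffine V] (f : Z ⟶ V)
    (hV : HTop.IsSeminormalRing Γ(V, ⊤)) (hf : SNMor f) :
    ∃! σ : V ⟶ Z, σ ≫ f = 𝟙 _ := by
  have e := arrowIsoSpecΓOfIsAffine f
  have hf' : SNMor (Spec.map f.appTop) :=
    (MorphismProperty.arrow_mk_iso_iff (SNMor.{u}) e).mp hf
  have h := existsUnique_section_Spec_sn f.appTop hV hf'
  exact existsUnique_section_of_arrowIso f (Spec.map f.appTop) Z.isoSpec V.isoSpec
    (Scheme.isoSpec_hom_naturality f).symm h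

lemma existsUnique_lift_affine_sn {X Y V : Scheme.{u}} [IsAffine V] (π : Y ⟶ X)
    (hπ : SNMor π) (hV : HTop.IsSeminormalRing Γ(V, ⊤)) (j : V ⟶ X) :
    ∃! t : V ⟶ Y, t ≫ π = j := by
  haveI : IsIntegralHom π := ((Groth.Agent.H1.isUnivHomeo_iff_integral π).mp hπ.1).1
  have hsnd : SNMor (pullback.snd π j) := MorphismProperty.pullback_snd _ _ hπ
  haveI : IsAffine (pullback π j) := isAffine_of_isAffineHom (pullback.snd π j)
  obtain ⟨σ, hσ, hσu⟩ := existsUnique_section_affine_sn (pullback.snd π j) hV hsnd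
  have hσ : σ ≫ pullback.snd π j = 𝟙 _ := hσ
  refine ⟨σ ≫ pullback.fst π j, ?_, ?_⟩
  · show (σ ≫ pullback.fst π j) ≫ π = j
    rw [Category.assoc, pullback.condition, ← Category.assoc, hσ, Category.id_comp]
  · intro t ht
    have ht : t ≫ π = j := ht
    have := hσu (pullback.lift t (𝟙 V) (by rw [ht, Category.id_comp])) (pullback.lift_snd _ _ _)
    rw [← this, pullback.lift_fst]

lemma isSeminormalRing_of_iso {R S : CommRingCat.{u}} (e : R ≅ S) (h : HTop.IsSeminormalRing R) :
    HTop.IsSeminormalRing S :=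
  Groth.Agent.H4.Seminormal.isSeminormalRing_of_ringEquiv e.commRingCatIsoToRingEquiv h

lemma isSeminormalRing_affineOpen {P : Scheme.{u}} (hP : HTop.IsSeminormal P) (W : P.affineOpens) :
    HTop.IsSeminormalRing Γ(P, W) :=
  ((Groth.Agent.S7420.result P).1.mp hP) W

lemma isSeminormalRing_affineOpen_top {P : Scheme.{u}} (hP : HTop.IsSeminormal P)
    (W : P.affineOpens) : HTop.IsSeminormalRing Γ((W : P.Opens), ⊤) :=
  isSeminormalRing_of_iso (W : P.Opens).topIso.symm (isSeminormalRing_affineOpen hP W)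

lemma isSeminormal_of_isOpenImmersion {Q P : Scheme.{u}} (i : Q ⟶ P) [IsOpenImmersion i]
    (hP : HTop.IsSeminormal P) : HTop.IsSeminormal Q := by
  intro x
  obtain ⟨_, ⟨U, hU, rfl⟩, hxU, -⟩ :=
    Q.isBasis_affineOpens.exists_subset_of_mem_open (Set.mem_univ x) isOpen_univ
  refine ⟨⟨U, hU⟩, hxU, ?_⟩
  have h1 : HTop.IsSeminormalRing Γ(P, i ''ᵁ U) :=
    isSeminormalRing_affineOpen hP ⟨i ''ᵁ U, hU.image_of_isOpenImmersion i⟩
  exact isSeminormalRing_of_iso (i.appIso U) h1

/-- liftings along a subintegral universal homeomorphism from a seminormal scheme are unique -/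
lemma lift_unique_sn {P X Y : Scheme.{u}} (hP : HTop.IsSeminormal P) (π : Y ⟶ X)
    (hπ : SNMor π) (t₁ t₂ : P ⟶ Y) (h : t₁ ≫ π = t₂ ≫ π) : t₁ = t₂ := by
  apply Scheme.Cover.hom_ext (P.openCoverOfIsOpenCover (fun W : P.affineOpens => (W : P.Opens))
    (iSup_affineOpens_eq_top P))
  intro (W : P.affineOpens)
  show (W : P.Opens).ι ≫ t₁ = (W : P.Opens).ι ≫ t₂
  have := existsUnique_lift_affine_sn π hπ (isSeminormalRing_affineOpen_top hP W)
    ((W : P.Opens).ι ≫ t₁ ≫ π)
  exact this.unique (Category.assoc _ _ _) (by rw [Category.assoc, h])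

lemma compat_aux_sn {P X Y : Scheme.{u}} (hP : HTop.IsSeminormal P) (π : Y ⟶ X)
    (hπ : SNMor π) (j : P ⟶ X) (U₁ U₂ : P.Opens)
    (t₁ : (U₁ : Scheme.{u}) ⟶ Y) (t₂ : (U₂ : Scheme.{u}) ⟶ Y)
    (h₁ : t₁ ≫ π = U₁.ι ≫ j) (h₂ : t₂ ≫ π = U₂.ι ≫ j) :
    pullback.fst U₁.ι U₂.ι ≫ t₁ = pullback.snd U₁.ι U₂.ι ≫ t₂ := by
  have hQ : HTop.IsSeminormal (pullback U₁.ι U₂.ι) :=
    isSeminormal_of_isOpenImmersion (pullback.fst U₁.ι U₂.ι ≫ U₁.ι) hP
  apply lift_unique_sn hQ π hπ
  calc (pullback.fst U₁.ι U₂.ι ≫ t₁) ≫ π = pullback.fst U₁.ι U₂.ι ≫ (t₁ ≫ π) :=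
        Category.assoc _ _ _
    _ = pullback.fst U₁.ι U₂.ι ≫ (U₁.ι ≫ j) := by rw [h₁]
    _ = (pullback.fst U₁.ι U₂.ι ≫ U₁.ι) ≫ j := (Category.assoc _ _ _).symm
    _ = (pullback.snd U₁.ι U₂.ι ≫ U₂.ι) ≫ j := by rw [pullback.condition]
    _ = pullback.snd U₁.ι U₂.ι ≫ (U₂.ι ≫ j) := Category.assoc _ _ _
    _ = pullback.snd U₁.ι U₂.ι ≫ (t₂ ≫ π) := by rw [h₂]
    _ = (pullback.snd U₁.ι U₂.ι ≫ t₂) ≫ π := (Category.assoc _ _ _).symm

/-- the key lifting property: maps from seminormal schemes lift uniquely along universal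
homeomorphisms inducing isomorphisms on residue fields -/
theorem existsUnique_lift_sn {P X Y : Scheme.{u}} (hP : HTop.IsSeminormal P) (π : Y ⟶ X)
    (hπ : SNMor π) (j : P ⟶ X) : ∃! t : P ⟶ Y, t ≫ π = j := by
  let 𝒰 : P.OpenCover := P.openCoverOfIsOpenCover (fun W : P.affineOpens => (W : P.Opens))
    (iSup_affineOpens_eq_top P)
  have hex : ∀ W : P.affineOpens, ∃ t : ((W : P.Opens) : Scheme.{u}) ⟶ Y,
      t ≫ π = (W : P.Opens).ι ≫ j := fun W =>
    (existsUnique_lift_affine_sn π hπ (isSeminormalRing_affineOpen_top hP W) _).exists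
  choose tW htW using hex
  have compat : ∀ W W' : 𝒰.I₀, pullback.fst (𝒰.f W) (𝒰.f W') ≫ tW W =
      pullback.snd (𝒰.f W) (𝒰.f W') ≫ tW W' := fun W W' =>
    compat_aux_sn hP π hπ j (show P.affineOpens from W).1 (show P.affineOpens from W').1
      (tW W) (tW W') (htW W) (htW W')
  refine ⟨𝒰.glueMorphisms tW compat, ?_, ?_⟩
  · apply Scheme.Cover.hom_ext 𝒰
    intro (W : P.affineOpens)
    show (W : P.Opens).ι ≫ 𝒰.glueMorphisms tW compat ≫ π = (W : P.Opens).ι ≫ j
    have h3 : (W : P.Opens).ι ≫ 𝒰.glueMorphisms tW compat = tW W := 𝒰.ι_glueMorphisms tW compat W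
    rw [← Category.assoc, h3, htW]
  · intro t ht
    have ht : t ≫ π = j := ht
    apply lift_unique_sn hP π hπ
    rw [ht]
    apply Scheme.Cover.hom_ext 𝒰
    intro (W : P.affineOpens)
    show (W : P.Opens).ι ≫ j = (W : P.Opens).ι ≫ 𝒰.glueMorphisms tW compat ≫ π
    have h3 : (W : P.Opens).ι ≫ 𝒰.glueMorphisms tW compat = tW W := 𝒰.ι_glueMorphisms tW compat W
    rw [← Category.assoc, h3, htW]

end KeySN

end Groth.Agent.H4.SNSch
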