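import Mathlib
import Groth.Prelude.Def_Pi1
import Groth.Agent.H4.SNSch

set_option autoImplicit false
universe u
open CategoryTheory CategoryTheory.Limits AlgebraicGeometry TensorProduct
open Groth.Agent.H4.SNSch Groth.Agent.H4.Seminormal

namespace Groth.Agent.H4.NormalSN

section Ring

/-- an integrally closed domain is seminormal -/
lemma isSeminormalRing_of_isIntegrallyClosed (R : Type u) [CommRing R] [IsDomain R]
    [IsIntegrallyClosed R] : HTop.IsSeminormalRing R := by
  rw [isSeminormalRing_iff]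
  refine ⟨inferInstance, fun x y hxy => ?_⟩
  by_cases hx : x = 0
  · subst hx
    have hy : y = 0 := by
      have : y ^ 2 = 0 := by rw [← hxy]; ring
      exact pow_eq_zero_iff (by norm_num) |>.mp this
    exact ⟨0, by ring, by rw [hy]; ring⟩
  · let K := FractionRing R
    have hxK : algebraMap R K x ≠ 0 := by
      intro h
      exact hx ((injective_iff_map_eq_zero (algebraMap R K)).mp (IsFractionRing.injective R K) _ h)
    have hXY : algebraMap R K x ^ 3 = algebraMap R K y ^ 2 := by
      rw [← map_pow, ← map_pow, hxy]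
    have hsq : (algebraMap R K y / algebraMap R K x) ^ 2 = algebraMap R K x := by
      rw [div_pow, ← hXY, div_eq_iff (pow_ne_zero 2 hxK)]
      ring
    have hint : IsIntegral R ((algebraMap R K y / algebraMap R K x) ^ 2) := by
      rw [hsq]; exact isIntegral_algebraMap
    obtain ⟨a, ha⟩ := IsIntegrallyClosed.exists_algebraMap_eq_of_isIntegral_pow (K := K)
      (by norm_num : 0 < 2) hint
    refine ⟨a, ?_, ?_⟩
    · apply IsFractionRing.injective R K
      rw [map_pow, ha, hsq]
    · apply IsFractionRing.injective R K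
      rw [map_pow, ha, div_pow, eq_div_iff (pow_ne_zero 3 hxK), hXY]
      ring

/-- seminormality can be checked at the localizations at all maximal ideals -/
lemma isSeminormalRing_of_localization (R : Type u) [CommRing R]
    (h : ∀ (m : Ideal R) [m.IsMaximal], HTop.IsSeminormalRing (Localization.AtPrime m)) :
    HTop.IsSeminormalRing R := by
  haveI hred : IsReduced R := isReduced_ofLocalizationMaximal R
    fun m hm => isReduced_of_isSeminormalRing (h m)
  rw [isSeminormalRing_iff]
  refine ⟨hred, fun x y hxy => ?_⟩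
  have hI : rootIdeal x y hxy = ⊤ := by
    by_contra hne
    obtain ⟨m, hm, hle⟩ := Ideal.exists_le_maximal _ hne
    obtain ⟨α, hα1, hα2⟩ := ((isSeminormalRing_iff.mp (h m)).2
      (algebraMap R (Localization.AtPrime m) x) (algebraMap R (Localization.AtPrime m) y)
      (by rw [← map_pow, ← map_pow, hxy]))
    obtain ⟨⟨b, s⟩, hbs⟩ := IsLocalization.surj m.primeCompl α
    simp only at hbs
    have h1 : algebraMap R (Localization.AtPrime m) (b ^ 2) =
        algebraMap R (Localization.AtPrime m) ((s : R) ^ 2 * x) := by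
      rw [map_pow, ← hbs, map_mul, hα1, map_pow]; ring
    have h2 : algebraMap R (Localization.AtPrime m) (b ^ 3) =
        algebraMap R (Localization.AtPrime m) ((s : R) ^ 3 * y) := by
      rw [map_pow, ← hbs, map_mul, hα2, map_pow]; ring
    rw [IsLocalization.eq_iff_exists m.primeCompl] at h1 h2
    obtain ⟨t₁, h1⟩ := h1
    obtain ⟨t₂, h2⟩ := h2
    have hmem : (t₁ : R) * t₂ * s ∈ rootIdeal x y hxy := by
      refine ⟨(t₁ : R) * t₂ * b, ?_, ?_⟩
      · have e : ((t₁ : R) * t₂ * b) ^ 2 = (t₁ : R) * t₂ ^ 2 * (t₁ * b ^ 2) := by ring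
        rw [e, h1]; ring
      · have e : ((t₁ : R) * t₂ * b) ^ 3 = (t₁ : R) ^ 3 * t₂ ^ 2 * (t₂ * b ^ 3) := by ring
        rw [e, h2]; ring
    have : (t₁ : R) * t₂ * s ∈ m := hle hmem
    exact (t₁ * t₂ * s).2 this
  have h1 : (1 : R) ∈ rootIdeal x y hxy := by rw [hI]; trivial
  obtain ⟨c, hc1, hc2⟩ := h1
  exact ⟨c, by rw [hc1]; ring, by rw [hc2]; ring⟩

end Ring

section Sch

lemma isSeminormal_of_isNormalScheme {X : Scheme.{u}} (hn : Pi1.IsNormalScheme X) :
    HTop.IsSeminormal X := by
  intro x
  obtain ⟨_, ⟨U, hU, rfl⟩, hxU, -⟩ :=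
    X.isBasis_affineOpens.exists_subset_of_mem_open (Set.mem_univ x) isOpen_univ
  refine ⟨⟨U, hU⟩, hxU, ?_⟩
  apply isSeminormalRing_of_localization
  intro m hm
  let y : PrimeSpectrum Γ(X, U) := ⟨m, hm.isPrime⟩
  have hy : hU.fromSpec y ∈ U := by
    have : hU.fromSpec y ∈ hU.fromSpec.opensRange := ⟨y, rfl⟩
    rwa [hU.opensRange_fromSpec] at this
  letI := TopCat.Presheaf.algebra_section_stalk X.presheaf ⟨hU.fromSpec y, hy⟩
  haveI : IsLocalization.AtPrime (X.presheaf.stalk (hU.fromSpec y)) m :=
    hU.isLocalization_stalk' y hy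
  obtain ⟨hd, hic⟩ := hn (hU.fromSpec y)
  have h1 := isSeminormalRing_of_isIntegrallyClosed (X.presheaf.stalk (hU.fromSpec y))
  exact isSeminormalRing_of_ringEquiv
    (IsLocalization.algEquiv m.primeCompl (X.presheaf.stalk (hU.fromSpec y))
      (Localization.AtPrime m)).toRingEquiv h1

end Sch

end Groth.Agent.H4.NormalSN
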