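import Groth.Agent.H4.NumType

/-!
More helper lemmas (helper4) for `Models.NumericalType`: parity of `Σ m_i a_ii`, contributions.
-/

namespace Groth.Agent.H4.NumType

open Models Finset

variable {n : ℕ} (T : NumericalType n)

/-- In a ring of characteristic two the off-diagonal part of a symmetric double sum vanishes. -/
theorem sum_offDiag_symm_zmod2 {ι : Type*} [DecidableEq ι] (s : Finset ι) (f : ι → ι → ZMod 2)
    (hf : ∀ i j, f i j = f j i) : ∑ p ∈ s.offDiag, f p.1 p.2 = 0 := by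
  refine Finset.sum_involution (fun p _ => p.swap) ?_ ?_ ?_ ?_
  · intro p _
    simp only [Prod.fst_swap, Prod.snd_swap]
    rw [hf p.2 p.1]
    exact CharTwo.add_self_eq_zero _
  · intro p hp _ h
    rw [Finset.mem_offDiag] at hp
    apply hp.2.2
    have := congrArg Prod.fst h
    simpa using this.symm
  · intro p hp
    rw [Finset.mem_offDiag] at hp ⊢
    exact ⟨hp.2.1, hp.1, hp.2.2.symm⟩
  · intro p _
    simp

theorem two_dvd_sum_m_mul_diag : (2 : ℤ) ∣ ∑ i, T.m i * T.a i i := by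
  classical
  suffices h : ((∑ i, T.m i * T.a i i : ℤ) : ZMod 2) = 0 by
    have := (ZMod.intCast_zmod_eq_zero_iff_dvd _ 2).1 h
    exact_mod_cast this
  -- the full double sum vanishes
  have hfull : ∑ i, ∑ j, T.m i * (T.a i j * T.m j) = 0 := by
    apply Finset.sum_eq_zero
    intro i _
    rw [← Finset.mul_sum, row_eq, mul_zero]
  have hfull2 : (∑ p ∈ (Finset.univ : Finset (Fin n)) ×ˢ (Finset.univ : Finset (Fin n)),
      ((T.m p.1 * (T.a p.1 p.2 * T.m p.2) : ℤ) : ZMod 2)) = 0 := by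
    rw [Finset.sum_product]
    have := congrArg (Int.cast : ℤ → ZMod 2) hfull
    simpa using this
  rw [← Finset.diag_union_offDiag, Finset.sum_union (Finset.disjoint_diag_offDiag _)] at hfull2
  have hoff : ∑ p ∈ (Finset.univ : Finset (Fin n)).offDiag,
      ((T.m p.1 * (T.a p.1 p.2 * T.m p.2) : ℤ) : ZMod 2) = 0 := by
    apply sum_offDiag_symm_zmod2 _ (fun i j => ((T.m i * (T.a i j * T.m j) : ℤ) : ZMod 2))
    intro i j
    rw [a_symm T i j]
    congr 1
    ring
  rw [hoff, add_zero, Finset.sum_diag] at hfull2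
  push_cast
  rw [← hfull2]
  apply Finset.sum_congr rfl
  intro i _
  push_cast
  have hsq : ∀ x : ZMod 2, x * x = x := by decide
  calc (T.m i : ZMod 2) * (T.a i i : ZMod 2)
      = ((T.m i : ZMod 2) * (T.m i : ZMod 2)) * (T.a i i : ZMod 2) := by rw [hsq]
    _ = (T.m i : ZMod 2) * ((T.a i i : ZMod 2) * (T.m i : ZMod 2)) := by ring

/-- `2 * genus = 2 + Σ m_i (2 w_i (g_i - 1) - a_ii)`. -/
theorem two_mul_genus :
    2 * T.genus = 2 + ∑ i, T.m i * (2 * T.w i * (T.g i - 1) - T.a i i) := by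
  obtain ⟨c, hc⟩ := two_dvd_sum_m_mul_diag T
  unfold NumericalType.genus
  rw [hc, Int.mul_ediv_cancel_left _ (by norm_num : (2 : ℤ) ≠ 0)]
  have : ∑ i, T.m i * (2 * T.w i * (T.g i - 1) - T.a i i) =
      2 * ∑ i, T.m i * T.w i * (T.g i - 1) - ∑ i, T.m i * T.a i i := by
    rw [Finset.mul_sum, ← Finset.sum_sub_distrib]
    apply Finset.sum_congr rfl
    intro i _
    ring
  rw [this, hc]
  ring

end Groth.Agent.H4.NumType
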