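import Mathlib
import Groth.Prelude.Def_Models
import Groth.Agent.H4.NumType2

namespace Groth.Agent.H4.NumTop

open Models Finset Groth.Agent.H4.NumType

variable {n : ℕ} (T : NumericalType n)

/-- adjacency indicator of the dual graph -/
def A (i j : Fin n) : ℤ := if i ≠ j ∧ 0 < T.a i j then 1 else 0

theorem A_symm (i j : Fin n) : A T i j = A T j i := by
  unfold A
  rw [a_symm T i j]
  by_cases h : i = j
  · subst h; rfl
  · have h' : j ≠ i := fun e => h e.symm
    simp [h, h']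

theorem A_self (i : Fin n) : A T i i = 0 := by simp [A]

theorem A_nonneg (i j : Fin n) : 0 ≤ A T i j := by
  unfold A; split_ifs <;> norm_num

theorem A_le (i j : Fin n) (hij : i ≠ j) : T.w i * A T i j ≤ T.a i j := by
  unfold A
  split_ifs with h
  · rw [mul_one]; exact w_le_left T h.2
  · rw [mul_zero]; exact T.offDiag_nonneg i j hij

theorem sum_A : ∑ i, ∑ j, A T i j = 2 * (T.edgeCount : ℤ) := by
  classical
  rw [← Finset.sum_product']
  have h1 : ∀ p : Fin n × Fin n, A T p.1 p.2 =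
      (if p.1 < p.2 ∧ 0 < T.a p.1 p.2 then (1 : ℤ) else 0) +
        (if p.2 < p.1 ∧ 0 < T.a p.1 p.2 then (1 : ℤ) else 0) := by
    intro p
    unfold A
    rcases lt_trichotomy p.1 p.2 with h | h | h
    · have hne : p.1 ≠ p.2 := h.ne
      have hnot : ¬ p.2 < p.1 := not_lt.2 h.le
      by_cases ha : 0 < T.a p.1 p.2 <;> simp [h, hne, hnot, ha]
    · simp [h]
    · have hne : p.1 ≠ p.2 := h.ne'
      have hnot : ¬ p.1 < p.2 := not_lt.2 h.le
      by_cases ha : 0 < T.a p.1 p.2 <;> simp [h, hne, hnot, ha]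
  rw [Finset.sum_congr rfl (fun p _ => h1 p), Finset.sum_add_distrib]
  have h2 : ∑ p ∈ (univ : Finset (Fin n)) ×ˢ (univ : Finset (Fin n)),
        (if p.2 < p.1 ∧ 0 < T.a p.1 p.2 then (1 : ℤ) else 0) =
      ∑ p ∈ (univ : Finset (Fin n)) ×ˢ (univ : Finset (Fin n)),
        (if p.1 < p.2 ∧ 0 < T.a p.1 p.2 then (1 : ℤ) else 0) := by
    refine Finset.sum_equiv (Equiv.prodComm _ _) (by simp) ?_
    intro p _
    simp only [Equiv.prodComm_apply, Prod.fst_swap, Prod.snd_swap]
    simp only [a_symm T p.2 p.1]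
  rw [h2, Finset.sum_boole]
  unfold NumericalType.edgeCount
  rw [Finset.univ_product_univ]
  ring

theorem prune (H : Finset (Fin n)) : ∃ H' ⊆ H, (∀ i ∈ H', 2 ≤ ∑ j ∈ H', A T i j) ∧
    ∑ i ∈ H, (∑ j ∈ H, A T i j - 2) ≤ ∑ i ∈ H', (∑ j ∈ H', A T i j - 2) := by
  classical
  induction H using Finset.strongInduction with
  | H H ih =>
    by_cases hall : ∀ i ∈ H, 2 ≤ ∑ j ∈ H, A T i j
    · exact ⟨H, Finset.Subset.refl _, hall, le_refl _⟩
    · push Not at hall
      obtain ⟨i, hi, hlt⟩ := hall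
      obtain ⟨H', hH', hdeg, hle⟩ := ih (H.erase i) (Finset.erase_ssubset hi)
      refine ⟨H', hH'.trans (Finset.erase_subset _ _), hdeg, le_trans ?_ hle⟩
      have hsplit : ∀ j, ∑ l ∈ H, A T j l = A T j i + ∑ l ∈ H.erase i, A T j l :=
        fun j => (Finset.add_sum_erase H (fun l => A T j l) hi).symm
      have hd : ∑ j ∈ H.erase i, A T j i = ∑ l ∈ H, A T i l := by
        rw [hsplit i, A_self, zero_add]
        exact Finset.sum_congr rfl (fun j _ => A_symm T j i)
      rw [← Finset.add_sum_erase H _ hi]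
      have h3 : ∑ j ∈ H.erase i, (∑ l ∈ H, A T j l - 2) =
          ∑ j ∈ H.erase i, A T j i + ∑ j ∈ H.erase i, (∑ l ∈ H.erase i, A T j l - 2) := by
        rw [← Finset.sum_add_distrib]
        exact Finset.sum_congr rfl (fun j _ => by rw [hsplit j]; ring)
      rw [h3, hd]
      linarith

theorem c_nonneg (hmin : T.IsMinimal) (hn : 1 < n) (i : Fin n) :
    0 ≤ T.m i * (2 * T.w i * (T.g i - 1) - T.a i i) := by
  obtain ⟨k, hk1, hk⟩ := diag_eq T hn i
  have hw := T.w_pos i
  have hm := T.m_pos i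
  have hg := T.g_nonneg i
  have h2 : 0 ≤ 2 * T.g i - 2 + k := by
    rcases hg.eq_or_lt with h0 | h0
    · have hk2 : k ≠ 1 := by
        intro h1
        apply hmin i
        refine ⟨h0.symm, ?_⟩
        rw [hk, h1, one_mul]
      have : 2 ≤ k := by omega
      omega
    · omega
  have h3 : T.m i * (2 * T.w i * (T.g i - 1) - T.a i i) =
      T.m i * T.w i * (2 * T.g i - 2 + k) := by
    rw [hk]; ring
  rw [h3]
  exact mul_nonneg (mul_nonneg hm.le hw.le) h2

theorem c_ge (hmin : T.IsMinimal) (hn : 1 < n) (H : Finset (Fin n)) (i : Fin n) :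
    ∑ j ∈ H, A T i j * T.m j - 2 * T.m i ≤ T.m i * (2 * T.w i * (T.g i - 1) - T.a i i) := by
  classical
  obtain ⟨k, hk1, hk⟩ := diag_eq T hn i
  have hw := T.w_pos i
  have hm := T.m_pos i
  have hg := T.g_nonneg i
  have hc := c_nonneg T hmin hn i
  have hrow := row_eq T i
  rw [← Finset.add_sum_erase univ _ (Finset.mem_univ i)] at hrow
  have h1 : T.w i * ∑ j ∈ univ.erase i, A T i j * T.m j ≤
      ∑ j ∈ univ.erase i, T.a i j * T.m j := by
    rw [Finset.mul_sum]
    apply Finset.sum_le_sum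
    intro j hj
    have hji : j ≠ i := Finset.ne_of_mem_erase hj
    have h := A_le T i j hji.symm
    have hmj := (T.m_pos j).le
    calc T.w i * (A T i j * T.m j) = (T.w i * A T i j) * T.m j := by ring
      _ ≤ T.a i j * T.m j := mul_le_mul_of_nonneg_right h hmj
  have h2 : ∑ j ∈ H, A T i j * T.m j ≤ ∑ j ∈ univ.erase i, A T i j * T.m j := by
    have h3 : ∑ j ∈ univ.erase i, A T i j * T.m j = ∑ j, A T i j * T.m j := by
      rw [← Finset.add_sum_erase univ _ (Finset.mem_univ i), A_self, zero_mul, zero_add]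
    rw [h3]
    exact Finset.sum_le_univ_sum_of_nonneg (fun j => mul_nonneg (A_nonneg T i j) (T.m_pos j).le)
  have h2' := mul_le_mul_of_nonneg_left h2 hw.le
  rw [hk] at hrow
  have h4 : T.w i * ∑ j ∈ H, A T i j * T.m j ≤ k * T.w i * T.m i := by
    linarith
  have h5 : T.w i * (∑ j ∈ H, A T i j * T.m j - 2 * T.m i) ≤
      T.m i * (2 * T.w i * (T.g i - 1) - T.a i i) := by
    rw [hk]
    have h6 : 0 ≤ T.m i * T.w i * T.g i := mul_nonneg (mul_nonneg hm.le hw.le) hg
    linarith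
  rcases le_or_gt 0 (∑ j ∈ H, A T i j * T.m j - 2 * T.m i) with h6 | h6
  · have h7 : ∑ j ∈ H, A T i j * T.m j - 2 * T.m i ≤
        T.w i * (∑ j ∈ H, A T i j * T.m j - 2 * T.m i) :=
      le_mul_of_one_le_left h6 (by linarith)
    linarith
  · linarith

theorem main (hmin : T.IsMinimal) (hn : 1 < n) : T.topGenus ≤ T.genus := by
  classical
  obtain ⟨H, -, hdeg, hle⟩ := prune T univ
  have h2g := two_mul_genus T
  have h1 : ∑ i ∈ H, (∑ j ∈ H, A T i j * T.m j - 2 * T.m i) ≤
      ∑ i, T.m i * (2 * T.w i * (T.g i - 1) - T.a i i) := by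
    calc ∑ i ∈ H, (∑ j ∈ H, A T i j * T.m j - 2 * T.m i)
        ≤ ∑ i ∈ H, T.m i * (2 * T.w i * (T.g i - 1) - T.a i i) :=
          Finset.sum_le_sum (fun i _ => c_ge T hmin hn H i)
      _ ≤ _ := Finset.sum_le_univ_sum_of_nonneg (fun i => c_nonneg T hmin hn i)
  have h2 : ∑ i ∈ H, (∑ j ∈ H, A T i j * T.m j - 2 * T.m i) =
      ∑ j ∈ H, T.m j * (∑ i ∈ H, A T j i - 2) := by
    rw [Finset.sum_sub_distrib, Finset.sum_comm, ← Finset.sum_sub_distrib]
    apply Finset.sum_congr rfl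
    intro j _
    rw [mul_sub, Finset.mul_sum]
    congr 1
    · apply Finset.sum_congr rfl
      intro i _
      rw [A_symm T i j]; ring
    · ring
  have h3 : ∑ j ∈ H, (∑ i ∈ H, A T j i - 2) ≤ ∑ j ∈ H, T.m j * (∑ i ∈ H, A T j i - 2) := by
    apply Finset.sum_le_sum
    intro j hj
    have h := hdeg j hj
    exact le_mul_of_one_le_left (by linarith) (by have := T.m_pos j; linarith)
  have h4 : ∑ i : Fin n, (∑ j : Fin n, A T i j - 2) = 2 * (T.edgeCount : ℤ) - 2 * n := by
    rw [Finset.sum_sub_distrib, sum_A, Finset.sum_const, Finset.card_univ, Fintype.card_fin,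
      nsmul_eq_mul]
    ring
  unfold NumericalType.topGenus
  linarith

end Groth.Agent.H4.NumTop
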