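import Mathlib
import Groth.Prelude.Def_Models
import Groth.Agent.H4.NumTop

namespace Groth.Agent.H4.NumBound

open Models Finset Groth.Agent.H4.NumType Groth.Agent.H4.NumTop

variable {n : ℕ} (T : NumericalType n)

/-- contribution of the index `i` to `2g - 2`. -/
def c (i : Fin n) : ℤ := T.m i * (2 * T.w i * (T.g i - 1) - T.a i i)

theorem sum_c : ∑ i, c T i = 2 * T.genus - 2 := by
  have h := two_mul_genus T
  unfold c; linarith

theorem c_nonneg' (hmin : T.IsMinimal) (hn : 1 < n) (i : Fin n) : 0 ≤ c T i :=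
  c_nonneg T hmin hn i

theorem one_le_mw (j : Fin n) : 1 ≤ T.m j * T.w j := by
  have h1 : 1 ≤ T.m j := by have := T.m_pos j; omega
  have h2 : 1 ≤ T.w j := by have := T.w_pos j; omega
  exact one_le_mul_of_one_le_of_one_le h1 h2

theorem c_le (hmin : T.IsMinimal) (hn : 1 < n) (j : Fin n) : c T j ≤ 2 * T.genus - 2 := by
  rw [← sum_c T]
  exact Finset.single_le_sum (fun i _ => c_nonneg T hmin hn i) (Finset.mem_univ j)

theorem c_pos (hmin : T.IsMinimal) (hn : 1 < n) (j : Fin n) (hj : ¬ T.IsMinusTwo j) :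
    1 ≤ c T j := by
  obtain ⟨k, hk1, hk⟩ := diag_eq T hn j
  have h3 : c T j = T.m j * T.w j * (2 * T.g j - 2 + k) := by unfold c; rw [hk]; ring
  have h2 : 1 ≤ 2 * T.g j - 2 + k := by
    rcases (T.g_nonneg j).eq_or_lt with h0 | h0
    · have hk1' : k ≠ 1 := fun h1 => hmin j ⟨h0.symm, by rw [hk, h1, one_mul]⟩
      have hk2 : k ≠ 2 := fun h2 => hj ⟨h0.symm, by rw [hk, h2]; ring⟩
      omega
    · omega
  rw [h3]
  exact one_le_mul_of_one_le_of_one_le (one_le_mw T j) h2

theorem card_le [DecidablePred fun j => ¬T.IsMinusTwo j] (hmin : T.IsMinimal) (hn : 1 < n) :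
    ((univ.filter fun j => ¬T.IsMinusTwo j).card : ℤ) ≤ 2 * T.genus - 2 := by
  rw [← sum_c T]
  calc ((univ.filter fun j => ¬T.IsMinusTwo j).card : ℤ)
      = ∑ j ∈ univ.filter (fun j => ¬T.IsMinusTwo j), (1 : ℤ) := by simp
    _ ≤ ∑ j ∈ univ.filter (fun j => ¬T.IsMinusTwo j), c T j :=
        Finset.sum_le_sum (fun j hj => c_pos T hmin hn j (Finset.mem_filter.1 hj).2)
    _ ≤ ∑ j, c T j := Finset.sum_le_univ_sum_of_nonneg (fun j => c_nonneg T hmin hn j)

theorem bounds (hmin : T.IsMinimal) (hn : 1 < n) (j : Fin n) (hj : ¬T.IsMinusTwo j) :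
    T.g j < T.genus ∧ T.m j * |T.a j j| ≤ 6 * T.genus - 6 ∧
      ∀ i, T.m i * T.a i j ≤ 6 * T.genus - 6 := by
  classical
  obtain ⟨k, hk1, hk⟩ := diag_eq T hn j
  have hcle := c_le T hmin hn j
  have hcpos := c_pos T hmin hn j hj
  have h3 : c T j = T.m j * T.w j * (2 * T.g j - 2 + k) := by unfold c; rw [hk]; ring
  have hm := T.m_pos j
  have hw := T.w_pos j
  have hg0 := T.g_nonneg j
  have hmw := one_le_mw T j
  have habs : |T.a j j| = k * T.w j := by
    rw [hk, abs_neg, abs_of_nonneg (mul_nonneg (by linarith) hw.le)]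
  have hA : T.g j < T.genus ∧ T.m j * T.w j * k ≤ 6 * T.genus - 6 := by
    rcases hg0.eq_or_lt with h0 | h0
    · have hk1' : k ≠ 1 := fun h1 => hmin j ⟨h0.symm, by rw [hk, h1, one_mul]⟩
      have hk2 : k ≠ 2 := fun h2 => hj ⟨h0.symm, by rw [hk, h2]; ring⟩
      have hk3 : 3 ≤ k := by omega
      refine ⟨by rw [← h0]; linarith, ?_⟩
      have h5 : T.m j * T.w j * k ≤ 3 * (T.m j * T.w j * (2 * T.g j - 2 + k)) := by
        rw [← h0]
        have : 0 ≤ T.m j * T.w j * (2 * k - 6) := mul_nonneg (by linarith) (by linarith)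
        linarith
      linarith
    · have h2 : (2 * T.g j - 1) ≤ T.m j * T.w j * (2 * T.g j - 2 + k) := by
        have : 0 ≤ (T.m j * T.w j - 1) * (2 * T.g j - 2 + k) :=
          mul_nonneg (by linarith) (by linarith)
        linarith
      have h2' : T.m j * T.w j * k ≤ T.m j * T.w j * (2 * T.g j - 2 + k) := by
        have : 0 ≤ T.m j * T.w j * (2 * T.g j - 2) := mul_nonneg (by linarith) (by linarith)
        linarith
      have h6 : 2 * T.g j + 1 ≤ 2 * T.genus := by linarith
      refine ⟨by omega, by linarith⟩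
  refine ⟨hA.1, ?_, ?_⟩
  · rw [habs]
    have : T.m j * (k * T.w j) = T.m j * T.w j * k := by ring
    rw [this]; exact hA.2
  · intro i
    by_cases hij : i = j
    · subst hij
      rw [hk]
      have : 0 ≤ T.m i * (k * T.w i) := mul_nonneg hm.le (mul_nonneg (by linarith) hw.le)
      linarith
    · have hrow := row_eq T j
      rw [← Finset.add_sum_erase univ _ (Finset.mem_univ j)] at hrow
      have hmem : i ∈ univ.erase j := Finset.mem_erase.2 ⟨hij, Finset.mem_univ i⟩
      have hle : T.a j i * T.m i ≤ ∑ l ∈ univ.erase j, T.a j l * T.m l := by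
        apply Finset.single_le_sum (f := fun l => T.a j l * T.m l) _ hmem
        intro l hl
        have hlj : l ≠ j := Finset.ne_of_mem_erase hl
        exact mul_nonneg (T.offDiag_nonneg j l hlj.symm) (T.m_pos l).le
      rw [hk] at hrow
      rw [a_symm T i j]
      have := hA.2
      linarith

end Groth.Agent.H4.NumBound
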