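import Mathlib
import Groth.Prelude.Def_Models
import Groth.Agent.H4.NumType2

namespace Groth.Agent.H4.NumContr

open Models Finset Groth.Agent.H4.NumType

variable {n : ℕ} (T : NumericalType (n + 1))

/-- `a i l / w l`, `l` the last index. -/
def bb (i : Fin (n + 1)) : ℤ := T.a i (Fin.last n) / T.w (Fin.last n)

/-- `a i l / w i`. -/
def cc (i : Fin n) : ℤ := T.a i.castSucc (Fin.last n) / T.w i.castSucc

def w' (i : Fin n) : ℤ :=
  if 2 ∣ T.a i.castSucc (Fin.last n) / T.w (Fin.last n) ∧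
      ¬ 2 ∣ T.a i.castSucc (Fin.last n) / T.w i.castSucc
  then T.w i.castSucc / 2 else T.w i.castSucc

def a' (i j : Fin n) : ℤ :=
  T.a i.castSucc j.castSucc -
    T.a i.castSucc (Fin.last n) * T.a j.castSucc (Fin.last n) / T.a (Fin.last n) (Fin.last n)

def g' (i : Fin n) : ℤ :=
  T.w i.castSucc / w' T i * (T.g i.castSucc - 1) + 1 +
    (T.a i.castSucc (Fin.last n) ^ 2 - T.w (Fin.last n) * T.a i.castSucc (Fin.last n)) /
      (2 * w' T i * T.w (Fin.last n))

theorem a_last_eq (i : Fin (n + 1)) : T.a i (Fin.last n) = T.w (Fin.last n) * bb T i := by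
  have hd : T.w (Fin.last n) ∣ T.a i (Fin.last n) := by
    rw [a_symm]; exact T.w_dvd _ _
  exact (Int.mul_ediv_cancel' hd).symm

theorem a_last_eq' (i : Fin n) : T.a i.castSucc (Fin.last n) = T.w i.castSucc * cc T i :=
  (Int.mul_ediv_cancel' (T.w_dvd _ _)).symm

theorem a_last_nonneg (i : Fin n) : 0 ≤ T.a i.castSucc (Fin.last n) :=
  T.offDiag_nonneg _ _ (Fin.castSucc_lt_last i).ne

theorem bb_nonneg (i : Fin n) : 0 ≤ bb T i.castSucc :=
  Int.ediv_nonneg (a_last_nonneg T i) (T.w_pos _).le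

theorem cc_nonneg (i : Fin n) : 0 ≤ cc T i :=
  Int.ediv_nonneg (a_last_nonneg T i) (T.w_pos _).le

theorem bb_pos (i : Fin n) (hi : T.a i.castSucc (Fin.last n) ≠ 0) : 0 < bb T i.castSucc := by
  have h1 := a_last_eq T i.castSucc
  have h3 := bb_nonneg T i
  rcases h3.eq_or_lt with h4 | h4
  · rw [← h4, mul_zero] at h1; exact absurd h1 hi
  · exact h4

theorem bb_mul (i j : Fin (n + 1)) :
    bb T i * T.a j (Fin.last n) = T.a i (Fin.last n) * bb T j := by
  have h1 := a_last_eq T i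
  have h2 := a_last_eq T j
  linear_combination (bb T i) * h2 - (bb T j) * h1

theorem w'_cases (i : Fin n) :
    (T.w i.castSucc = w' T i ∧ (¬ 2 ∣ bb T i.castSucc ∨ 2 ∣ cc T i)) ∨
      (T.w i.castSucc = 2 * w' T i ∧ 2 ∣ bb T i.castSucc ∧ ¬ 2 ∣ cc T i) := by
  unfold w'
  by_cases hc : 2 ∣ T.a i.castSucc (Fin.last n) / T.w (Fin.last n) ∧
      ¬ 2 ∣ T.a i.castSucc (Fin.last n) / T.w i.castSucc
  · right
    rw [if_pos hc]
    obtain ⟨hb, hc'⟩ := hc
    have ha1 : (2 : ℤ) ∣ T.a i.castSucc (Fin.last n) := by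
      rw [a_last_eq T i.castSucc]; exact Dvd.dvd.mul_left hb _
    rw [a_last_eq' T i] at ha1
    have h2 : (2 : ℤ) ∣ T.w i.castSucc := (Int.prime_two.dvd_or_dvd ha1).resolve_right hc'
    exact ⟨(Int.mul_ediv_cancel' h2).symm, hb, hc'⟩
  · left
    rw [if_neg hc]
    refine ⟨rfl, ?_⟩
    by_contra hcon
    rw [not_or, not_not] at hcon
    exact hc ⟨hcon.1, hcon.2⟩

theorem w'_pos (i : Fin n) : 0 < w' T i := by
  have := T.w_pos i.castSucc
  rcases w'_cases T i with ⟨h1, -⟩ | ⟨h1, -⟩ <;> omega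

theorem w'_dvd_w (i : Fin n) : w' T i ∣ T.w i.castSucc := by
  rcases w'_cases T i with ⟨h1, -⟩ | ⟨h1, -⟩
  · exact Dvd.intro 1 (by rw [mul_one]; exact h1.symm)
  · exact Dvd.intro 2 (by rw [h1]; ring)

theorem w'_dvd_a_last (i : Fin n) : w' T i ∣ T.a i.castSucc (Fin.last n) :=
  (w'_dvd_w T i).trans (T.w_dvd _ _)

theorem a'_eq (h : T.IsMinusOne (Fin.last n)) (i j : Fin n) :
    a' T i j = T.a i.castSucc j.castSucc + bb T i.castSucc * T.a j.castSucc (Fin.last n) := by
  unfold a'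
  rw [h.2, Int.ediv_neg]
  have h1 : T.a i.castSucc (Fin.last n) * T.a j.castSucc (Fin.last n) / T.w (Fin.last n) =
      bb T i.castSucc * T.a j.castSucc (Fin.last n) := by
    have h2 : T.a i.castSucc (Fin.last n) * T.a j.castSucc (Fin.last n) =
        T.w (Fin.last n) * (bb T i.castSucc * T.a j.castSucc (Fin.last n)) := by
      have := a_last_eq T i.castSucc
      linear_combination (T.a j.castSucc (Fin.last n)) * this
    rw [h2, Int.mul_ediv_cancel_left _ (T.w_pos _).ne']
  rw [h1]; ring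

theorem a'_symm (h : T.IsMinusOne (Fin.last n)) (i j : Fin n) : a' T i j = a' T j i := by
  rw [a'_eq T h, a'_eq T h, a_symm T i.castSucc j.castSucc, bb_mul T i.castSucc j.castSucc]
  ring

theorem a'_ge (h : T.IsMinusOne (Fin.last n)) (i j : Fin n) :
    T.a i.castSucc j.castSucc ≤ a' T i j := by
  rw [a'_eq T h i j]
  have := mul_nonneg (bb_nonneg T i) (a_last_nonneg T j)
  linarith

theorem w'_dvd_a' (h : T.IsMinusOne (Fin.last n)) (i j : Fin n) : w' T i ∣ a' T i j := by
  rw [a'_eq T h i j, bb_mul T i.castSucc j.castSucc]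
  exact dvd_add ((w'_dvd_w T i).trans (T.w_dvd _ _))
    (Dvd.dvd.mul_right ((w'_dvd_w T i).trans (T.w_dvd _ _)) _)

theorem row' (h : T.IsMinusOne (Fin.last n)) (i : Fin n) :
    ∑ j, a' T i j * T.m j.castSucc = 0 := by
  have h1 := row_eq T i.castSucc
  have h2 := row_eq T (Fin.last n)
  rw [Fin.sum_univ_castSucc] at h1 h2
  rw [h.2] at h2
  have h3 : ∑ j, a' T i j * T.m j.castSucc =
      ∑ j : Fin n, T.a i.castSucc j.castSucc * T.m j.castSucc +
        bb T i.castSucc * ∑ j : Fin n, T.a (Fin.last n) j.castSucc * T.m j.castSucc := by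
    rw [Finset.mul_sum, ← Finset.sum_add_distrib]
    apply Finset.sum_congr rfl
    intro j _
    rw [a'_eq T h i j, a_symm T (Fin.last n) j.castSucc]; ring
  rw [h3]
  have hA := a_last_eq T i.castSucc
  linear_combination h1 + (bb T i.castSucc) * h2 - (T.m (Fin.last n)) * hA

theorem key_int (wl wi w' b c : ℤ) (hwi : 0 < wi) (hb : 0 ≤ b)
    (hc : 0 ≤ c) (hA : wl * b = wi * c)
    (hcase : (wi = w' ∧ (¬ 2 ∣ b ∨ 2 ∣ c)) ∨ (wi = 2 * w' ∧ 2 ∣ b ∧ ¬ 2 ∣ c)) :
    ∃ e : ℤ, 0 ≤ e ∧ 2 * w' * e = wl * b * (b - 1) ∧ (wi = 2 * w' → 1 ≤ e) := by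
  rcases hcase with ⟨h1, h2⟩ | ⟨h1, h2, h3⟩
  · have h4 : (2 : ℤ) ∣ c * (b - 1) := by
      rcases h2 with h2 | h2
      · have : (2 : ℤ) ∣ b - 1 := by omega
        exact Dvd.dvd.mul_left this _
      · exact Dvd.dvd.mul_right h2 _
    obtain ⟨e, he⟩ := h4
    have h5 : 0 ≤ c * (b - 1) := by
      rcases hb.eq_or_lt with hb1 | hb1
      · have hc1 : c = 0 := by
          rw [← hb1, mul_zero] at hA
          rcases mul_eq_zero.1 hA.symm with h6 | h6
          · exact absurd h6 hwi.ne'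
          · exact h6
        rw [hc1, zero_mul]
      · exact mul_nonneg hc (by omega)
    refine ⟨e, by linarith, ?_, ?_⟩
    · rw [hA, h1]
      have h7 : w' * c * (b - 1) = w' * (c * (b - 1)) := by ring
      rw [h7, he]; ring
    · intro h6; exfalso; rw [h1] at h6; rw [h1] at hwi; linarith
  · have hc1 : 1 ≤ c := by omega
    have hb1 : b ≠ 0 := by
      intro hb0
      rw [hb0, mul_zero] at hA
      rcases mul_eq_zero.1 hA.symm with h6 | h6
      · exact absurd h6 hwi.ne'
      · omega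
    have hb2 : 1 ≤ b - 1 := by omega
    refine ⟨c * (b - 1), mul_nonneg hc (by omega), ?_, ?_⟩
    · rw [hA, h1]; ring
    · intro _
      exact one_le_mul_of_one_le_of_one_le hc1 hb2

theorem g'_spec (i : Fin n) :
    ∃ e : ℤ, 0 ≤ e ∧
      g' T i = T.w i.castSucc / w' T i * (T.g i.castSucc - 1) + 1 + e ∧
      2 * w' T i * e = T.w (Fin.last n) * bb T i.castSucc * (bb T i.castSucc - 1) ∧
      (T.w i.castSucc = 2 * w' T i → 1 ≤ e) := by
  obtain ⟨e, he0, he, he1⟩ := key_int (T.w (Fin.last n)) (T.w i.castSucc) (w' T i)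
    (bb T i.castSucc) (cc T i) (T.w_pos _) (bb_nonneg T i) (cc_nonneg T i)
    ((a_last_eq T i.castSucc).symm.trans (a_last_eq' T i)) (w'_cases T i)
  refine ⟨e, he0, ?_, he, he1⟩
  unfold g'
  congr 1
  have hnum : T.a i.castSucc (Fin.last n) ^ 2 - T.w (Fin.last n) * T.a i.castSucc (Fin.last n) =
      (2 * w' T i * T.w (Fin.last n)) * e := by
    have hA := a_last_eq T i.castSucc
    rw [hA]
    linear_combination (-(T.w (Fin.last n))) * he
  rw [hnum, Int.mul_ediv_cancel_left _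
    (mul_pos (mul_pos two_pos (w'_pos T i)) (T.w_pos (Fin.last n))).ne']

theorem g'_nonneg (i : Fin n) : 0 ≤ g' T i := by
  obtain ⟨e, he0, hg, -, he1⟩ := g'_spec T i
  have hg0 := T.g_nonneg i.castSucc
  have hw' := w'_pos T i
  rw [hg]
  rcases w'_cases T i with ⟨h1, -⟩ | ⟨h1, -⟩
  · rw [h1, Int.ediv_self hw'.ne']; linarith
  · have := he1 h1
    have h2 : T.w i.castSucc / w' T i = 2 := by
      rw [h1, Int.mul_ediv_cancel _ hw'.ne']
    rw [h2]; linarith

theorem contrib (h : T.IsMinusOne (Fin.last n)) (i : Fin n) :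
    T.m i.castSucc * (2 * w' T i * (g' T i - 1) - a' T i i) =
      T.m i.castSucc * (2 * T.w i.castSucc * (T.g i.castSucc - 1) - T.a i.castSucc i.castSucc) -
        T.m i.castSucc * T.a i.castSucc (Fin.last n) := by
  obtain ⟨e, -, hg, he, -⟩ := g'_spec T i
  have hq := Int.mul_ediv_cancel' (w'_dvd_w T i)
  rw [hg, a'_eq T h i i]
  have hA := a_last_eq T i.castSucc
  linear_combination (2 * T.m i.castSucc * (T.g i.castSucc - 1)) * hq + (T.m i.castSucc) * he +
    (T.m i.castSucc * (1 - bb T i.castSucc)) * hA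

theorem n_pos (h : T.IsMinusOne (Fin.last n)) : 0 < n := by
  rcases Nat.eq_zero_or_pos n with h0 | h0
  · exfalso
    subst h0
    have h1 := row_eq T (Fin.last 0)
    rw [Fin.sum_univ_castSucc] at h1
    simp only [Finset.univ_eq_empty, Finset.sum_empty, zero_add] at h1
    rw [h.2] at h1
    have := mul_pos (T.w_pos (Fin.last 0)) (T.m_pos (Fin.last 0))
    linarith
  · exact h0

theorem conn (h : T.IsMinusOne (Fin.last n)) (I : Finset (Fin n)) (hI : I.Nonempty)
    (hI' : I ≠ univ) : ∃ i ∈ I, ∃ j ∉ I, a' T i j ≠ 0 := by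
  classical
  obtain ⟨j₀, hj₀⟩ : ∃ j₀, j₀ ∉ I := by
    by_contra hcon
    push Not at hcon
    exact hI' (Finset.eq_univ_iff_forall.2 hcon)
  have hpos : ∀ i ∈ I, ∀ j ∉ I, T.a i.castSucc j.castSucc ≠ 0 → a' T i j ≠ 0 := by
    intro i hi j hj hne
    have hij : i.castSucc ≠ j.castSucc := fun e => hj ((Fin.castSucc_injective n e) ▸ hi)
    have h1 := pos_of_ne T hij hne
    have h2 := a'_ge T h i j
    exact ne_of_gt (lt_of_lt_of_le h1 h2)
  by_cases hnb : ∃ i₀ ∈ I, T.a i₀.castSucc (Fin.last n) ≠ 0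
  · obtain ⟨i₀, hi₀, hne₀⟩ := hnb
    let J : Finset (Fin (n + 1)) := insert (Fin.last n) (I.map Fin.castSuccEmb)
    have hJne : J.Nonempty := ⟨Fin.last n, Finset.mem_insert_self _ _⟩
    have hmemJ : ∀ j : Fin n, j.castSucc ∈ J ↔ j ∈ I := by
      intro j
      constructor
      · intro hj
        rcases Finset.mem_insert.1 hj with e | hj2
        · exact absurd e (Fin.castSucc_lt_last j).ne
        · obtain ⟨k, hk, e⟩ := Finset.mem_map.1 hj2
          have e' : k.castSucc = j.castSucc := e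
          rwa [← Fin.castSucc_injective n e']
      · intro hj
        exact Finset.mem_insert_of_mem (Finset.mem_map.2 ⟨j, hj, rfl⟩)
    have hJuniv : J ≠ univ := by
      intro e
      have h1 : j₀.castSucc ∈ J := e ▸ Finset.mem_univ _
      exact hj₀ ((hmemJ j₀).1 h1)
    obtain ⟨i, hi, j, hj, hne⟩ := T.connected J hJne hJuniv
    have hjl : j ≠ Fin.last n := fun e => hj (e ▸ Finset.mem_insert_self _ _)
    obtain ⟨j', rfl⟩ := Fin.exists_castSucc_eq.2 hjl
    have hj' : j' ∉ I := fun hh => hj ((hmemJ j').2 hh)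
    rcases Finset.mem_insert.1 hi with e | hi2
    · subst e
      refine ⟨i₀, hi₀, j', hj', ?_⟩
      have h1 : T.a j'.castSucc (Fin.last n) ≠ 0 := by rwa [a_symm]
      have hb := bb_pos T i₀ hne₀
      have h2 : 0 < T.a j'.castSucc (Fin.last n) :=
        lt_of_le_of_ne (a_last_nonneg T j') (Ne.symm h1)
      have h3 : 0 ≤ T.a i₀.castSucc j'.castSucc :=
        T.offDiag_nonneg _ _ (fun e => hj' ((Fin.castSucc_injective n e) ▸ hi₀))
      rw [a'_eq T h]
      have h4 := mul_pos hb h2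
      exact ne_of_gt (by linarith)
    · obtain ⟨i', hi', e⟩ := Finset.mem_map.1 hi2
      have e' : i'.castSucc = i := e
      subst e'
      exact ⟨i', hi', j', hj', hpos i' hi' j' hj' hne⟩
  · push Not at hnb
    have hne : (I.map Fin.castSuccEmb).Nonempty := Finset.map_nonempty.2 hI
    have hun : I.map Fin.castSuccEmb ≠ univ := by
      intro e
      have h1 : Fin.last n ∈ I.map Fin.castSuccEmb := e ▸ Finset.mem_univ _
      obtain ⟨k, _, hk⟩ := Finset.mem_map.1 h1
      have hk' : k.castSucc = Fin.last n := hk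
      exact (Fin.castSucc_lt_last k).ne hk'
    obtain ⟨i, hi, j, hj, hne'⟩ := T.connected _ hne hun
    obtain ⟨i', hi', e⟩ := Finset.mem_map.1 hi
    have e' : i'.castSucc = i := e
    subst e'
    have hjl : j ≠ Fin.last n := by
      intro e; subst e; exact hne' (hnb i' hi')
    obtain ⟨j', rfl⟩ := Fin.exists_castSucc_eq.2 hjl
    have hj' : j' ∉ I := fun hh => hj (Finset.mem_map.2 ⟨j', hh, rfl⟩)
    exact ⟨i', hi', j', hj', hpos i' hi' j' hj' hne'⟩

/-- The contraction of `T` along its last index. -/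
noncomputable def contr (h : T.IsMinusOne (Fin.last n)) : NumericalType n where
  m i := T.m i.castSucc
  a := a' T
  w := w' T
  g := g' T
  pos := n_pos T h
  m_pos i := T.m_pos _
  w_pos := w'_pos T
  g_nonneg := g'_nonneg T
  symm := Matrix.IsSymm.ext (fun i j => a'_symm T h j i)
  offDiag_nonneg i j hij :=
    le_trans (T.offDiag_nonneg _ _ (fun e => hij (Fin.castSucc_injective n e))) (a'_ge T h i j)
  connected := conn T h
  mulVec_m := by
    funext i
    simp only [Matrix.mulVec, dotProduct, Pi.zero_apply]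
    exact row' T h i
  w_dvd := w'_dvd_a' T h

theorem contr_isContraction (h : T.IsMinusOne (Fin.last n)) : T.IsContraction (contr T h) :=
  ⟨fun _ => rfl, fun _ _ => rfl, fun _ => rfl, fun _ => rfl⟩

theorem genus_eq (h : T.IsMinusOne (Fin.last n)) (T' : NumericalType n)
    (hT' : T.IsContraction T') : T'.genus = T.genus := by
  have hm : ∀ i, T'.m i = T.m i.castSucc := hT'.1
  have ha : ∀ i j, T'.a i j = a' T i j := hT'.2.1
  have hw : ∀ i, T'.w i = w' T i := hT'.2.2.1
  have hg : ∀ i, T'.g i = g' T i := by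
    intro i
    have h1 := hT'.2.2.2 i
    rw [hw i] at h1
    exact h1
  have h1 := two_mul_genus T'
  have h2 := two_mul_genus T
  rw [Fin.sum_univ_castSucc] at h2
  have h3 : ∑ i, T'.m i * (2 * T'.w i * (T'.g i - 1) - T'.a i i) =
      ∑ i : Fin n, T.m i.castSucc *
          (2 * T.w i.castSucc * (T.g i.castSucc - 1) - T.a i.castSucc i.castSucc) -
        ∑ i : Fin n, T.m i.castSucc * T.a i.castSucc (Fin.last n) := by
    rw [← Finset.sum_sub_distrib]
    apply Finset.sum_congr rfl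
    intro i _
    rw [hm, hw, hg, ha, contrib T h i]
  have h4 := row_eq T (Fin.last n)
  rw [Fin.sum_univ_castSucc] at h4
  have h5 : ∑ i : Fin n, T.m i.castSucc * T.a i.castSucc (Fin.last n) =
      ∑ i : Fin n, T.a (Fin.last n) i.castSucc * T.m i.castSucc :=
    Finset.sum_congr rfl (fun i _ => by rw [a_symm T (Fin.last n)]; ring)
  rw [h.1, h.2] at h2
  rw [h.2] at h4
  have h6 : 2 * T'.genus = 2 * T.genus := by linarith
  linarith

theorem main (h : T.IsMinusOne (Fin.last n)) :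
    (∃ T' : NumericalType n, T.IsContraction T') ∧
      ∀ T' : NumericalType n, T.IsContraction T' → T'.genus = T.genus :=
  ⟨⟨contr T h, contr_isContraction T h⟩, fun T' hT' => genus_eq T h T' hT'⟩

end Groth.Agent.H4.NumContr
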