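import Mathlib
import Groth.Prelude.Def_Models
import Groth.Agent.H4.NumContr

namespace Groth.Agent.H4.NumContrPic

open Models Finset Groth.Agent.H4.NumType Groth.Agent.H4.NumContr

theorem w_mul_pic {k : ℕ} (S : NumericalType k) (y : Fin k → ℤ) (i : Fin k) :
    S.w i * (S.picMatrix.mulVec y) i = ∑ j, S.a i j * y j := by
  simp only [Matrix.mulVec, dotProduct, NumericalType.picMatrix, Finset.mul_sum]
  apply Finset.sum_congr rfl
  intro j _
  rw [← mul_assoc, Int.mul_ediv_cancel' (S.w_dvd i j)]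

variable {n : ℕ} (T : NumericalType (n + 1)) (T' : NumericalType n)

/-- The map on degree vectors inducing `Pic T → Pic T'`. -/
noncomputable def f : (Fin (n + 1) → ℤ) →ₗ[ℤ] (Fin n → ℤ) where
  toFun x i := (T.w i.castSucc / T'.w i) * x i.castSucc +
    (T.a i.castSucc (Fin.last n) / T'.w i) * x (Fin.last n)
  map_add' x y := by funext i; simp only [Pi.add_apply]; ring
  map_smul' r x := by
    funext i; simp only [Pi.smul_apply, smul_eq_mul, RingHom.id_apply]; ring

theorem f_apply (x : Fin (n + 1) → ℤ) (i : Fin n) :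
    f T T' x i = (T.w i.castSucc / T'.w i) * x i.castSucc +
      (T.a i.castSucc (Fin.last n) / T'.w i) * x (Fin.last n) := rfl

variable (h : T.IsMinusOne (Fin.last n)) (hT' : T.IsContraction T')

include hT' in
theorem w'_mul_f (x : Fin (n + 1) → ℤ) (i : Fin n) :
    T'.w i * f T T' x i =
      T.w i.castSucc * x i.castSucc + T.a i.castSucc (Fin.last n) * x (Fin.last n) := by
  have hw : T'.w i = w' T i := hT'.2.2.1 i
  rw [f_apply, mul_add, ← mul_assoc, ← mul_assoc, hw, Int.mul_ediv_cancel' (w'_dvd_w T i),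
    Int.mul_ediv_cancel' (w'_dvd_a_last T i)]

include h hT' in
theorem f_pic (y : Fin (n + 1) → ℤ) :
    f T T' (T.picMatrix.mulVec y) = T'.picMatrix.mulVec (fun j => y j.castSucc) := by
  funext i
  apply mul_left_cancel₀ (T'.w_pos i).ne'
  rw [w'_mul_f T T' hT', w_mul_pic T', w_mul_pic T y]
  have h1 : T.a i.castSucc (Fin.last n) * (T.picMatrix.mulVec y) (Fin.last n) =
      bb T i.castSucc * ∑ j, T.a (Fin.last n) j * y j := by
    rw [← w_mul_pic T y (Fin.last n)]
    have := a_last_eq T i.castSucc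
    linear_combination ((T.picMatrix.mulVec y) (Fin.last n)) * this
  rw [h1]
  simp only [Fin.sum_univ_castSucc]
  have h2 : ∑ j : Fin n, T'.a i j * y j.castSucc =
      ∑ j : Fin n, T.a i.castSucc j.castSucc * y j.castSucc +
        bb T i.castSucc * ∑ j : Fin n, T.a (Fin.last n) j.castSucc * y j.castSucc := by
    rw [Finset.mul_sum, ← Finset.sum_add_distrib]
    apply Finset.sum_congr rfl
    intro j _
    have ha : T'.a i j = a' T i j := hT'.2.1 i j
    rw [ha, a'_eq T h i j, a_symm T (Fin.last n) j.castSucc]; ring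
  rw [h2, h.2]
  have h3 := a_last_eq T i.castSucc
  linear_combination (y (Fin.last n)) * h3

include h hT' in
theorem f_range : LinearMap.range (Matrix.mulVecLin T.picMatrix) ≤
    (LinearMap.range (Matrix.mulVecLin T'.picMatrix)).comap (f T T') := by
  rintro _ ⟨y, rfl⟩
  rw [Submodule.mem_comap, Matrix.mulVecLin_apply, f_pic T T' h hT']
  exact ⟨fun j => y j.castSucc, by rw [Matrix.mulVecLin_apply]⟩

/-- The induced map `Pic T → Pic T'`. -/
noncomputable def fbar : T.Pic →ₗ[ℤ] T'.Pic :=
  Submodule.mapQ _ _ (f T T') (f_range T T' h hT')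

theorem fbar_inj : Function.Injective (fbar T T' h hT') := by
  rw [← LinearMap.ker_eq_bot, LinearMap.ker_eq_bot']
  intro x hx
  obtain ⟨x, rfl⟩ := Submodule.Quotient.mk_surjective _ x
  unfold fbar at hx
  rw [Submodule.mapQ_apply, Submodule.Quotient.mk_eq_zero] at hx
  obtain ⟨y', hy'⟩ := hx
  rw [Matrix.mulVecLin_apply] at hy'
  rw [Submodule.Quotient.mk_eq_zero]
  let y : Fin (n + 1) → ℤ := fun j => Fin.lastCases (motive := fun _ => ℤ) 0 (fun i => y' i) j
  have hy : (fun j : Fin n => y j.castSucc) = y' := by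
    funext j; simp [y]
  let z : Fin (n + 1) → ℤ := x - T.picMatrix.mulVec y
  have hz : f T T' z = 0 := by
    show f T T' (x - T.picMatrix.mulVec y) = 0
    rw [map_sub, f_pic T T' h hT', hy, hy']; exact sub_self _
  have hz2 : ∀ j, T.w j * z j = - (T.a j (Fin.last n) * z (Fin.last n)) := by
    intro j
    refine Fin.lastCases ?_ (fun i => ?_) j
    · rw [h.2]; ring
    · have h1 := w'_mul_f T T' hT' z i
      rw [hz] at h1
      simp only [Pi.zero_apply, mul_zero] at h1
      linarith
  have hz3 : z = T.picMatrix.mulVec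
      (fun j => if j = Fin.last n then - z (Fin.last n) else 0) := by
    funext j
    apply mul_left_cancel₀ (T.w_pos j).ne'
    rw [w_mul_pic, hz2 j, Finset.sum_eq_single (Fin.last n)]
    · simp
    · intro k _ hk; simp [hk]
    · intro hk; exact absurd (Finset.mem_univ _) hk
  refine ⟨(fun j => if j = Fin.last n then - z (Fin.last n) else 0) + y, ?_⟩
  rw [Matrix.mulVecLin_apply, Matrix.mulVec_add, ← hz3]
  show x - T.picMatrix.mulVec y + T.picMatrix.mulVec y = x
  exact sub_add_cancel _ _

theorem fbar_coker (y : T'.Pic) : ∃ x : T.Pic, 2 • y = fbar T T' h hT' x := by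
  obtain ⟨y, rfl⟩ := Submodule.Quotient.mk_surjective _ y
  refine ⟨Submodule.Quotient.mk (fun j => Fin.lastCases (motive := fun _ => ℤ) 0
    (fun i => (2 / (T.w i.castSucc / T'.w i)) * y i) j), ?_⟩
  unfold fbar
  rw [Submodule.mapQ_apply, two_nsmul, ← Submodule.Quotient.mk_add]
  congr 1
  funext i
  rw [f_apply]
  simp only [Fin.lastCases_castSucc, Fin.lastCases_last, mul_zero, add_zero, Pi.add_apply]
  have hw : T'.w i = w' T i := hT'.2.2.1 i
  have hw' := w'_pos T i
  rcases w'_cases T i with ⟨h1, -⟩ | ⟨h1, -⟩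
  · rw [hw, h1, Int.ediv_self hw'.ne']; norm_num; ring
  · rw [hw, h1, Int.mul_ediv_cancel _ hw'.ne']; norm_num; ring

include h hT' in
theorem main : ∃ f : T.Pic →+ T'.Pic, Function.Injective f ∧
    ∀ y : T'.Pic, ∃ x : T.Pic, 2 • y = f x :=
  ⟨(fbar T T' h hT').toAddMonoidHom, fbar_inj T T' h hT', fbar_coker T T' h hT'⟩

end Groth.Agent.H4.NumContrPic
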