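import Mathlib
import Groth.Prelude.Def_Models

/-!
Helper library (helper4) for `Models.NumericalType`: the row equations, the "key lemma"
(a non-negative non-zero vector supported on a proper subset cannot have `a x ≥ 0` on its support),
and the consequences used in the classification statements.
-/

namespace Groth.Agent.H4.NumType

open Models Finset

variable {n : ℕ} (T : NumericalType n)

theorem row_eq (i : Fin n) : ∑ j, T.a i j * T.m j = 0 := by
  have := congrFun T.mulVec_m i
  simpa [Matrix.mulVec, dotProduct] using this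

theorem a_symm (i j : Fin n) : T.a i j = T.a j i :=
  (Matrix.IsSymm.apply T.symm i j).symm

/-- Key lemma, ambient form. -/
theorem key (X : Fin n → ℤ) (hX0 : ∀ i, 0 ≤ X i) (hXpos : ∃ i, 0 < X i) (hXz : ∃ i, X i = 0)
    (h : ∀ l, 0 < X l → 0 ≤ ∑ j, T.a l j * X j) : False := by
  classical
  -- each `m l * (a X) l` is nonnegative and they sum to zero
  have hterm : ∀ l, 0 ≤ ∑ j, T.a l j * X j := by
    intro l
    rcases (hX0 l).lt_or_eq with hl | hl
    · exact h l hl
    · apply Finset.sum_nonneg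
      intro j _
      by_cases hjl : j = l
      · subst hjl; rw [← hl]; simp
      · exact mul_nonneg (T.offDiag_nonneg l j (Ne.symm hjl)) (hX0 j)
  have hsum : ∑ l, T.m l * ∑ j, T.a l j * X j = 0 := by
    have : ∑ l, T.m l * ∑ j, T.a l j * X j = ∑ j, X j * ∑ l, T.a j l * T.m l := by
      simp_rw [Finset.mul_sum]
      rw [Finset.sum_comm]
      apply Finset.sum_congr rfl; intro j _
      apply Finset.sum_congr rfl; intro l _
      rw [a_symm T l j]; ring
    rw [this]
    simp [row_eq]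
  have hzero : ∀ l, T.m l * ∑ j, T.a l j * X j = 0 := by
    intro l
    exact (Finset.sum_eq_zero_iff_of_nonneg (fun l _ => mul_nonneg (T.m_pos l).le (hterm l))).1 hsum l
      (Finset.mem_univ l)
  have hzero' : ∀ l, ∑ j, T.a l j * X j = 0 := by
    intro l
    rcases mul_eq_zero.1 (hzero l) with h0 | h0
    · exact absurd h0 (T.m_pos l).ne'
    · exact h0
  -- connectedness
  obtain ⟨i0, hi0⟩ := hXpos
  obtain ⟨i1, hi1⟩ := hXz
  let I : Finset (Fin n) := Finset.univ.filter fun i => 0 < X i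
  have hIne : I.Nonempty := ⟨i0, by simp [I, hi0]⟩
  have hIuniv : I ≠ Finset.univ := by
    intro hI
    have : i1 ∈ I := hI ▸ Finset.mem_univ i1
    simp [I, hi1] at this
  obtain ⟨i, hiI, j, hjI, hij⟩ := T.connected I hIne hIuniv
  have hXi : 0 < X i := by simpa [I] using hiI
  have hXj : X j = 0 := by
    have : ¬ 0 < X j := by simpa [I] using hjI
    exact le_antisymm (not_lt.1 this) (hX0 j)
  have hne : i ≠ j := by rintro rfl; rw [hXj] at hXi; exact lt_irrefl _ hXi
  -- row j: all terms nonneg, sum zero, so a j i * X i = 0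
  have hall : ∀ k ∈ Finset.univ, 0 ≤ T.a j k * X k := by
    intro k _
    by_cases hkj : k = j
    · subst hkj; rw [hXj]; simp
    · exact mul_nonneg (T.offDiag_nonneg j k (Ne.symm hkj)) (hX0 k)
  have := (Finset.sum_eq_zero_iff_of_nonneg hall).1 (hzero' j) i (Finset.mem_univ i)
  rcases mul_eq_zero.1 this with h0 | h0
  · apply hij; rw [a_symm]; exact h0
  · exact absurd h0 hXi.ne'


/-- Key lemma, embedded form: `v : Fin k ↪ Fin n` with `k < n`, `x ≥ 0` not zero, and for every `l`
in the support of `x` the `l`-th row of the restricted matrix pairs non-negatively with `x`. -/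
theorem key_emb {k : ℕ} (v : Fin k ↪ Fin n) (hk : k < n) (x : Fin k → ℤ) (hx0 : ∀ i, 0 ≤ x i)
    (hxpos : ∃ i, 0 < x i)
    (h : ∀ l, 0 < x l → 0 ≤ ∑ j, T.a (v l) (v j) * x j) : False := by
  classical
  let X : Fin n → ℤ := fun i => ∑ j, if v j = i then x j else 0
  have hXv : ∀ l, X (v l) = x l := by
    intro l
    simp [X, v.injective.eq_iff]
  have hsumX : ∀ f : Fin n → ℤ, ∑ i, f i * X i = ∑ j, f (v j) * x j := by
    intro f
    simp only [X, Finset.mul_sum]
    rw [Finset.sum_comm]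
    apply Finset.sum_congr rfl; intro j _
    simp
  have hX0 : ∀ i, 0 ≤ X i := by
    intro i
    apply Finset.sum_nonneg; intro j _
    split_ifs
    · exact hx0 j
    · exact le_rfl
  have hnotsurj : ∃ i, ∀ j, v j ≠ i := by
    by_contra hcon
    push Not at hcon
    have hs : Function.Surjective v := hcon
    have := Fintype.card_le_of_surjective v hs
    simp at this
    omega
  obtain ⟨i1, hi1⟩ := hnotsurj
  obtain ⟨i0, hi0⟩ := hxpos
  refine key T X hX0 ⟨v i0, by rw [hXv]; exact hi0⟩ ⟨i1, ?_⟩ ?_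
  · simp [X, hi1]
  · intro l hl
    rw [hsumX]
    by_cases hlr : ∃ l', v l' = l
    · obtain ⟨l', rfl⟩ := hlr
      rw [hXv] at hl
      exact h l' hl
    · push Not at hlr
      have : X l = 0 := by simp [X, hlr]
      rw [this] at hl
      exact absurd hl (lt_irrefl _)

/-- Row inequality for an embedded family: the partial row sum against `m` is `≤ 0`. -/
theorem row_le {k : ℕ} (v : Fin k ↪ Fin n) (l : Fin k) :
    ∑ j, T.a (v l) (v j) * T.m (v j) ≤ 0 := by
  classical
  have h := row_eq T (v l)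
  have hsplit : ∑ j, T.a (v l) j * T.m j =
      ∑ j ∈ Finset.univ.map v, T.a (v l) j * T.m j +
        ∑ j ∈ (Finset.univ.map v)ᶜ, T.a (v l) j * T.m j :=
    (Finset.sum_add_sum_compl _ _).symm
  rw [Finset.sum_map] at hsplit
  have hnn : 0 ≤ ∑ j ∈ (Finset.univ.map v)ᶜ, T.a (v l) j * T.m j := by
    apply Finset.sum_nonneg
    intro j hj
    have hjl : v l ≠ j := by
      rintro rfl
      simp at hj
    exact mul_nonneg (T.offDiag_nonneg _ _ hjl) (T.m_pos j).le
  linarith

theorem w_le_left {i j : Fin n} (h : 0 < T.a i j) : T.w i ≤ T.a i j :=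
  Int.le_of_dvd h (T.w_dvd i j)

theorem w_le_right {i j : Fin n} (h : 0 < T.a i j) : T.w j ≤ T.a i j := by
  rw [a_symm] at h ⊢
  exact w_le_left T h

theorem eq_or_two_le_left {i j : Fin n} (h : 0 < T.a i j) : T.a i j = T.w i ∨ 2 * T.w i ≤ T.a i j := by
  obtain ⟨c, hc⟩ := T.w_dvd i j
  have hw := T.w_pos i
  have hcpos : 0 < c := by
    by_contra hcon
    push Not at hcon
    have : T.w i * c ≤ 0 := mul_nonpos_of_nonneg_of_nonpos hw.le hcon
    omega
  rcases (show c = 1 ∨ 2 ≤ c by omega) with rfl | h2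
  · left; rw [hc]; ring
  · right; rw [hc]; nlinarith

theorem eq_or_two_le_right {i j : Fin n} (h : 0 < T.a i j) : T.a i j = T.w j ∨ 2 * T.w j ≤ T.a i j := by
  rw [a_symm] at h ⊢
  exact eq_or_two_le_left T h

theorem pos_of_ne {i j : Fin n} (hij : i ≠ j) (h : T.a i j ≠ 0) : 0 < T.a i j :=
  lt_of_le_of_ne (T.offDiag_nonneg i j hij) (Ne.symm h)


theorem diag_neg (hn : 1 < n) (i : Fin n) : T.a i i < 0 := by
  by_contra hcon
  push Not at hcon
  obtain ⟨j, hj⟩ : ∃ j : Fin n, j ≠ i := by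
    have : Nontrivial (Fin n) := Fin.nontrivial_iff_two_le.2 hn
    exact exists_ne i
  refine key T (fun j => if j = i then 1 else 0) ?_ ⟨i, by simp⟩ ⟨j, by simp [hj]⟩ ?_
  · intro j; split_ifs <;> norm_num
  · intro l hl
    have : l = i := by by_contra h; simp [h] at hl
    subst this
    simp [hcon]

/-- `a i i = - c * w i` with `c ≥ 1` when `n > 1`. -/
theorem diag_eq (hn : 1 < n) (i : Fin n) : ∃ c : ℤ, 1 ≤ c ∧ T.a i i = -(c * T.w i) := by
  obtain ⟨c, hc⟩ := T.w_dvd i i
  have hw := T.w_pos i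
  have hneg := diag_neg T hn i
  refine ⟨-c, ?_, by rw [hc]; ring⟩
  by_contra hcon
  push Not at hcon
  have : 0 ≤ c := by omega
  have : 0 ≤ T.w i * c := mul_nonneg hw.le this
  omega


theorem mult_cases {w a : ℤ} (hd : w ∣ a) (ha : 0 < a) (hw : 0 < w) :
    a = w ∨ a = 2 * w ∨ a = 3 * w ∨ 4 * w ≤ a := by
  obtain ⟨c, rfl⟩ := hd
  have hcpos : 0 < c := by
    by_contra hcon
    push Not at hcon
    have : w * c ≤ 0 := mul_nonpos_of_nonneg_of_nonpos hw.le hcon
    omega
  rcases (show c = 1 ∨ c = 2 ∨ c = 3 ∨ 4 ≤ c by omega) with rfl | rfl | rfl | h4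
  · left; ring
  · right; left; ring
  · right; right; left; ring
  · right; right; right; nlinarith

theorem mult_cases_left {i j : Fin n} (h : 0 < T.a i j) :
    T.a i j = T.w i ∨ T.a i j = 2 * T.w i ∨ T.a i j = 3 * T.w i ∨ 4 * T.w i ≤ T.a i j :=
  mult_cases (T.w_dvd i j) h (T.w_pos i)

theorem mult_cases_right {i j : Fin n} (h : 0 < T.a i j) :
    T.a i j = T.w j ∨ T.a i j = 2 * T.w j ∨ T.a i j = 3 * T.w j ∨ 4 * T.w j ≤ T.a i j := by
  rw [a_symm] at h ⊢
  exact mult_cases_left T h

/-- Embedding of `Fin 2` from two distinct indices. -/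
def emb2 {i j : Fin n} (h : i ≠ j) : Fin 2 ↪ Fin n :=
  ⟨![i, j], by
    intro a b hab
    fin_cases a <;> fin_cases b <;> simp_all [eq_comm]⟩

@[simp] theorem emb2_zero {i j : Fin n} (h : i ≠ j) : emb2 h 0 = i := rfl
@[simp] theorem emb2_one {i j : Fin n} (h : i ≠ j) : emb2 h 1 = j := rfl

/-- Embedding of `Fin 3` from three distinct indices. -/
def emb3 {i j k : Fin n} (hij : i ≠ j) (hjk : j ≠ k) (hik : i ≠ k) : Fin 3 ↪ Fin n :=
  ⟨![i, j, k], by
    intro a b hab
    fin_cases a <;> fin_cases b <;> simp_all [eq_comm]⟩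

@[simp] theorem emb3_zero {i j k : Fin n} (hij : i ≠ j) (hjk : j ≠ k) (hik : i ≠ k) :
    emb3 hij hjk hik 0 = i := rfl
@[simp] theorem emb3_one {i j k : Fin n} (hij : i ≠ j) (hjk : j ≠ k) (hik : i ≠ k) :
    emb3 hij hjk hik 1 = j := rfl
@[simp] theorem emb3_two {i j k : Fin n} (hij : i ≠ j) (hjk : j ≠ k) (hik : i ≠ k) :
    emb3 hij hjk hik 2 = k := rfl


theorem eq_two_or_three_le_left {i j : Fin n} (h : 2 * T.w i ≤ T.a i j) :
    T.a i j = 2 * T.w i ∨ 3 * T.w i ≤ T.a i j := by
  have hw := T.w_pos i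
  rcases mult_cases_left T (i := i) (j := j) (by linarith) with h1 | h1 | h1 | h1
  · exfalso; linarith
  · exact Or.inl h1
  · exact Or.inr (by linarith)
  · exact Or.inr (by linarith)

theorem eq_two_or_three_le_right {i j : Fin n} (h : 2 * T.w j ≤ T.a i j) :
    T.a i j = 2 * T.w j ∨ 3 * T.w j ≤ T.a i j := by
  rw [a_symm] at h ⊢
  exact eq_two_or_three_le_left T h

end Groth.Agent.H4.NumType
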