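import Groth.Agent.H4.NumType3
import Groth.Agent.S7316
import Groth.Agent.S7317

/-!
Genus one minimal numerical types: all indices are `(-2)`-indices (helper4).
-/

namespace Groth.Agent.H4.NumType

open Models Finset

variable {n : ℕ} (T : NumericalType n)

theorem contribution_nonneg (hmin : T.IsMinimal) (hn : 1 < n) (i : Fin n) :
    0 ≤ T.m i * (2 * T.w i * (T.g i - 1) - T.a i i) := by
  by_contra hcon
  push Not at hcon
  exact hmin i (Groth.Agent.S7316.result T hn i hcon)

theorem all_minusTwo_of_genus_one (hmin : T.IsMinimal) (hn : 1 < n) (hg : T.genus = 1) (i : Fin n) :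
    T.IsMinusTwo i := by
  have h2 := two_mul_genus T
  rw [hg] at h2
  have hsum : ∑ i, T.m i * (2 * T.w i * (T.g i - 1) - T.a i i) = 0 := by linarith
  have := (Finset.sum_eq_zero_iff_of_nonneg
    (fun i _ => contribution_nonneg T hmin hn i)).1 hsum i (Finset.mem_univ i)
  exact Groth.Agent.S7317.result T hn i this

/-- Full row equation for an enumeration of all the indices. -/
theorem row_full {k : ℕ} (v : Fin k ↪ Fin n) (hsurj : Function.Surjective v) (l : Fin k) :
    ∑ j, T.a (v l) (v j) * T.m (v j) = 0 := by
  have h := row_eq T (v l)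
  rw [← h]
  exact (Function.Bijective.sum_comp ⟨v.injective, hsurj⟩ (fun j => T.a (v l) j * T.m j))

end Groth.Agent.H4.NumType
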