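import Mathlib
import Groth.Prelude.Def_Models
import Groth.Agent.H4.NumContrPic
import Groth.Agent.H4.NumBound

namespace Groth.Agent.H4.NumPicZ

open Models Finset Groth.Agent.H4.NumType Groth.Agent.H4.NumContr Groth.Agent.H4.NumContrPic

variable {n : ℕ}

/-- The numerical type obtained by permuting the indices. -/
def perm (T : NumericalType n) (σ : Equiv.Perm (Fin n)) : NumericalType n where
  m i := T.m (σ i)
  a i j := T.a (σ i) (σ j)
  w i := T.w (σ i)
  g i := T.g (σ i)
  pos := T.pos
  m_pos i := T.m_pos _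
  w_pos i := T.w_pos _
  g_nonneg i := T.g_nonneg _
  symm := Matrix.IsSymm.ext (fun i j => a_symm T (σ j) (σ i))
  offDiag_nonneg i j hij := T.offDiag_nonneg _ _ (fun e => hij (σ.injective e))
  connected := by
    classical
    intro I hI hI'
    have h1 : (I.map σ.toEmbedding).Nonempty := Finset.map_nonempty.2 hI
    have h2 : I.map σ.toEmbedding ≠ univ := by
      intro e
      apply hI'
      rw [Finset.eq_univ_iff_forall]
      intro j
      have h3 : σ j ∈ I.map σ.toEmbedding := e ▸ Finset.mem_univ _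
      obtain ⟨k, hk, hkj⟩ := Finset.mem_map.1 h3
      have h4 : k = j := σ.injective hkj
      exact h4 ▸ hk
    obtain ⟨i, hi, j, hj, hne⟩ := T.connected _ h1 h2
    obtain ⟨i', hi', rfl⟩ := Finset.mem_map.1 hi
    refine ⟨i', hi', σ.symm j, ?_, ?_⟩
    · intro hh; exact hj (Finset.mem_map.2 ⟨σ.symm j, hh, by simp⟩)
    · show T.a (σ i') (σ (σ.symm j)) ≠ 0
      rw [Equiv.apply_symm_apply]; exact hne
  mulVec_m := by
    funext i
    simp only [Matrix.mulVec, dotProduct, Pi.zero_apply]
    show ∑ j, T.a (σ i) (σ j) * T.m (σ j) = 0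
    rw [Equiv.sum_comp σ (fun j => T.a (σ i) j * T.m j)]
    exact row_eq T (σ i)
  w_dvd i j := T.w_dvd _ _

theorem genus_perm (T : NumericalType n) (σ : Equiv.Perm (Fin n)) :
    (perm T σ).genus = T.genus := by
  unfold NumericalType.genus
  have h1 : ∑ i, (perm T σ).m i * (perm T σ).w i * ((perm T σ).g i - 1) =
      ∑ i, T.m i * T.w i * (T.g i - 1) :=
    Equiv.sum_comp σ (fun i => T.m i * T.w i * (T.g i - 1))
  have h2 : ∑ i, (perm T σ).m i * (perm T σ).a i i = ∑ i, T.m i * T.a i i :=
    Equiv.sum_comp σ (fun i => T.m i * T.a i i)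
  rw [h1, h2]

theorem pic_perm_mulVec (T : NumericalType n) (σ : Equiv.Perm (Fin n)) (y : Fin n → ℤ) :
    (perm T σ).picMatrix.mulVec (fun j => y (σ j)) = fun i => (T.picMatrix.mulVec y) (σ i) := by
  funext i
  simp only [Matrix.mulVec, dotProduct]
  exact Equiv.sum_comp σ (fun j => T.picMatrix (σ i) j * y j)

/-- `Pic` is invariant under permutation of the indices. -/
noncomputable def picPerm (T : NumericalType n) (σ : Equiv.Perm (Fin n)) :
    T.Pic ≃ₗ[ℤ] (perm T σ).Pic :=
  Submodule.Quotient.equiv _ _ (LinearEquiv.funCongrLeft ℤ ℤ σ) (by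
    ext x
    rw [Submodule.mem_map]
    constructor
    · rintro ⟨_, ⟨y, rfl⟩, rfl⟩
      refine ⟨fun j => y (σ j), ?_⟩
      rw [Matrix.mulVecLin_apply, pic_perm_mulVec, Matrix.mulVecLin_apply]
      rfl
    · rintro ⟨y', rfl⟩
      refine ⟨T.picMatrix.mulVec (fun k => y' (σ.symm k)), ⟨fun k => y' (σ.symm k), ?_⟩, ?_⟩
      · rw [Matrix.mulVecLin_apply]
      · rw [Matrix.mulVecLin_apply]
        have h2 := pic_perm_mulVec T σ (fun k => y' (σ.symm k))
        simp only [Equiv.symm_apply_apply] at h2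
        rw [h2]
        rfl)

theorem pic_ne_zero (T : NumericalType n) :
    (Submodule.Quotient.mk (Pi.single (⟨0, T.pos⟩ : Fin n) (1 : ℤ)) : T.Pic) ≠ 0 := by
  classical
  intro h0
  rw [Submodule.Quotient.mk_eq_zero] at h0
  obtain ⟨y, hy⟩ := h0
  rw [Matrix.mulVecLin_apply] at hy
  have h1 : ∑ i, T.m i * (T.w i * (T.picMatrix.mulVec y) i) = 0 := by
    calc ∑ i, T.m i * (T.w i * (T.picMatrix.mulVec y) i)
        = ∑ i, ∑ j, T.m i * (T.a i j * y j) := by
          apply Finset.sum_congr rfl
          intro i _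
          rw [w_mul_pic, Finset.mul_sum]
      _ = ∑ j, ∑ i, T.m i * (T.a i j * y j) := Finset.sum_comm
      _ = ∑ j, y j * ∑ i, T.a j i * T.m i := by
          apply Finset.sum_congr rfl
          intro j _
          rw [Finset.mul_sum]
          apply Finset.sum_congr rfl
          intro i _
          rw [a_symm T i j]; ring
      _ = 0 := Finset.sum_eq_zero (fun j _ => by rw [row_eq, mul_zero])
  rw [hy] at h1
  rw [Finset.sum_eq_single (⟨0, T.pos⟩ : Fin n)] at h1
  · rw [Pi.single_eq_same, mul_one] at h1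
    rcases mul_eq_zero.1 h1 with h2 | h2
    · exact (T.m_pos _).ne' h2
    · exact (T.w_pos _).ne' h2
  · intro j _ hj
    rw [Pi.single_eq_of_ne hj, mul_zero, mul_zero]
  · intro hh; exact absurd (Finset.mem_univ _) hh

theorem pic_equiv_of_injective (T : NumericalType n) (φ : T.Pic →+ ℤ)
    (hφ : Function.Injective φ) : Nonempty (T.Pic ≃+ ℤ) := by
  let ψ : T.Pic →ₗ[ℤ] ℤ := φ.toIntLinearMap
  have hψ : Function.Injective ψ := hφ
  haveI := IsPrincipalIdealRing.principal (LinearMap.range ψ : Ideal ℤ)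
  obtain ⟨d, hd⟩ := Submodule.IsPrincipal.principal (LinearMap.range ψ)
  have hd0 : d ≠ 0 := by
    intro h0
    rw [h0] at hd
    have h1 : ψ (Submodule.Quotient.mk (Pi.single (⟨0, T.pos⟩ : Fin n) (1 : ℤ))) ∈
        LinearMap.range ψ := ⟨_, rfl⟩
    rw [hd, Submodule.span_zero_singleton, Submodule.mem_bot] at h1
    exact pic_ne_zero T (hψ (h1.trans (map_zero ψ).symm))
  let e1 := LinearEquiv.ofInjective ψ hψ
  let e2 := LinearEquiv.ofEq _ _ hd
  let e3 := LinearEquiv.toSpanNonzeroSingleton ℤ ℤ d hd0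
  exact ⟨(e1.trans (e2.trans e3.symm)).toAddEquiv⟩

theorem base (T : NumericalType 1) : Nonempty (T.Pic ≃+ ℤ) := by
  have h0 : ∀ i j, T.a i j = 0 := by
    intro i j
    have h1 := row_eq T i
    rw [Fin.sum_univ_one] at h1
    rw [Subsingleton.elim j 0]
    rcases mul_eq_zero.1 h1 with h2 | h2
    · exact h2
    · exact absurd h2 (T.m_pos _).ne'
  have hP : T.picMatrix = 0 := by
    ext i j
    show T.a i j / T.w i = 0
    rw [h0, Int.zero_ediv]
  have hr : LinearMap.range (Matrix.mulVecLin T.picMatrix) = ⊥ := by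
    rw [hP, Matrix.mulVecLin_zero, LinearMap.range_zero]
  exact ⟨((Submodule.quotEquivOfEqBot _ hr).trans
    (LinearEquiv.funUnique (Fin 1) ℤ ℤ)).toAddEquiv⟩

theorem main : ∀ (n : ℕ) (T : NumericalType n), T.genus ≤ 0 → Nonempty (T.Pic ≃+ ℤ) := by
  intro n
  induction n with
  | zero => intro T; exact absurd T.pos (lt_irrefl 0)
  | succ k ih =>
    intro T hg
    rcases Nat.eq_zero_or_pos k with hk | hk
    · subst hk
      exact base T
    · have hn : 1 < k + 1 := by omega
      have hnm : ¬ T.IsMinimal := by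
        intro hmin
        have h1 := Groth.Agent.H4.NumBound.sum_c T
        have h2 : 0 ≤ ∑ i, Groth.Agent.H4.NumBound.c T i :=
          Finset.sum_nonneg (fun i _ => Groth.Agent.H4.NumBound.c_nonneg' T hmin hn i)
        linarith
      unfold NumericalType.IsMinimal at hnm
      push Not at hnm
      obtain ⟨i, hi⟩ := hnm
      let σ : Equiv.Perm (Fin (k + 1)) := Equiv.swap i (Fin.last k)
      have hl : (perm T σ).IsMinusOne (Fin.last k) := by
        show T.g (σ (Fin.last k)) = 0 ∧
          T.a (σ (Fin.last k)) (σ (Fin.last k)) = - T.w (σ (Fin.last k))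
        rw [show σ (Fin.last k) = i from Equiv.swap_apply_right _ _]
        exact hi
      have hc := contr_isContraction (perm T σ) hl
      have hg'' : (contr (perm T σ) hl).genus ≤ 0 := by
        rw [genus_eq (perm T σ) hl _ hc, genus_perm]; exact hg
      obtain ⟨e⟩ := ih (contr (perm T σ) hl) hg''
      let φ : T.Pic →+ ℤ :=
        (e.toAddMonoidHom.comp (fbar (perm T σ) (contr (perm T σ) hl) hl hc).toAddMonoidHom).comp
          (picPerm T σ).toLinearMap.toAddMonoidHom
      have hφ : Function.Injective φ :=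
        e.injective.comp ((fbar_inj _ _ hl hc).comp (picPerm T σ).injective)
      exact pic_equiv_of_injective T φ hφ

end Groth.Agent.H4.NumPicZ
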