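import Groth.Agent.H4.NumType2

/-!
Neighbour forms of the key lemma for families of `(-2)`-indices (helper4).
-/

namespace Groth.Agent.H4.NumType

open Models Finset

variable {n : ℕ} (T : NumericalType n)

/-- Lower bound of a full row sum by the diagonal term and a partial sum. -/
theorem row_lower {k : ℕ} (v : Fin k ↪ Fin n) (x : Fin k → ℤ) (hx : ∀ i, 0 ≤ x i) (l : Fin k)
    (J : Finset (Fin k)) (hJ : l ∉ J) :
    T.a (v l) (v l) * x l + ∑ j ∈ J, T.a (v l) (v j) * x j ≤ ∑ j, T.a (v l) (v j) * x j := by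
  classical
  have h1 : ∑ j, T.a (v l) (v j) * x j =
      ∑ j ∈ insert l J, T.a (v l) (v j) * x j + ∑ j ∈ (insert l J)ᶜ, T.a (v l) (v j) * x j :=
    (Finset.sum_add_sum_compl _ _).symm
  rw [Finset.sum_insert hJ] at h1
  have h2 : 0 ≤ ∑ j ∈ (insert l J)ᶜ, T.a (v l) (v j) * x j := by
    apply Finset.sum_nonneg
    intro j hj
    have hjl : l ≠ j := by
      rintro rfl
      simp at hj
    exact mul_nonneg (T.offDiag_nonneg _ _ (v.injective.ne hjl)) (hx j)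
  linarith

/-- Weighted neighbour form of the key lemma. -/
theorem key_nb {k : ℕ} (v : Fin k ↪ Fin n) (hk : k < n) (hv : ∀ j, T.IsMinusTwo (v j))
    (x : Fin k → ℤ) (hx0 : ∀ i, 0 ≤ x i) (hxpos : ∃ i, 0 < x i)
    (h : ∀ l, 0 < x l → ∃ J : Finset (Fin k), l ∉ J ∧
      2 * T.w (v l) * x l ≤ ∑ j ∈ J, T.a (v l) (v j) * x j) : False := by
  refine key_emb T v hk x hx0 hxpos ?_
  intro l hl
  obtain ⟨J, hJ, hle⟩ := h l hl
  have := row_lower T v x hx0 l J hJ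
  have hd : T.a (v l) (v l) = -2 * T.w (v l) := (hv l).2
  rw [hd] at this
  linarith

/-- Unweighted neighbour form: `x` is subharmonic for the graph of non-zero entries. -/
theorem key_graph {k : ℕ} (v : Fin k ↪ Fin n) (hk : k < n) (hv : ∀ j, T.IsMinusTwo (v j))
    (x : Fin k → ℤ) (hx0 : ∀ i, 0 ≤ x i) (hxpos : ∃ i, 0 < x i)
    (h : ∀ l, 0 < x l → ∃ J : Finset (Fin k), l ∉ J ∧ (∀ j ∈ J, T.a (v l) (v j) ≠ 0) ∧
      2 * x l ≤ ∑ j ∈ J, x j) : False := by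
  refine key_nb T v hk hv x hx0 hxpos ?_
  intro l hl
  obtain ⟨J, hJ, hne, hle⟩ := h l hl
  refine ⟨J, hJ, ?_⟩
  have hw := T.w_pos (v l)
  have h1 : ∑ j ∈ J, T.w (v l) * x j ≤ ∑ j ∈ J, T.a (v l) (v j) * x j := by
    apply Finset.sum_le_sum
    intro j hj
    have hlj : l ≠ j := by rintro rfl; exact hJ hj
    have hp := pos_of_ne T (v.injective.ne hlj) (hne j hj)
    exact mul_le_mul_of_nonneg_right (w_le_left T hp) (hx0 j)
  rw [← Finset.mul_sum] at h1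
  have h2 : T.w (v l) * (2 * x l) ≤ T.w (v l) * ∑ j ∈ J, x j :=
    mul_le_mul_of_nonneg_left hle hw.le
  linarith


/-- `key_graph` with at most three explicitly named neighbours. -/
theorem key_graph3 {k : ℕ} (v : Fin k ↪ Fin n) (hk : k < n) (hv : ∀ j, T.IsMinusTwo (v j))
    (x : Fin k → ℤ) (hx0 : ∀ i, 0 ≤ x i) (hxpos : ∃ i, 0 < x i)
    (h : ∀ l, 0 < x l →
      (∃ a, a ≠ l ∧ T.a (v l) (v a) ≠ 0 ∧ 2 * x l ≤ x a) ∨
      (∃ a b, a ≠ l ∧ b ≠ l ∧ a ≠ b ∧ T.a (v l) (v a) ≠ 0 ∧ T.a (v l) (v b) ≠ 0 ∧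
        2 * x l ≤ x a + x b) ∨
      (∃ a b c, a ≠ l ∧ b ≠ l ∧ c ≠ l ∧ a ≠ b ∧ a ≠ c ∧ b ≠ c ∧ T.a (v l) (v a) ≠ 0 ∧
        T.a (v l) (v b) ≠ 0 ∧ T.a (v l) (v c) ≠ 0 ∧ 2 * x l ≤ x a + x b + x c)) : False := by
  classical
  refine key_graph T v hk hv x hx0 hxpos ?_
  intro l hl
  rcases h l hl with ⟨a, hal, ha, hle⟩ | ⟨a, b, hal, hbl, hab, ha, hb, hle⟩ |
    ⟨a, b, c, hal, hbl, hcl, hab, hac, hbc, ha, hb, hc, hle⟩
  · refine ⟨{a}, by simpa using hal.symm, by simpa using ha, by simpa using hle⟩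
  · refine ⟨{a, b}, ?_, ?_, ?_⟩
    · simp [hal.symm, hbl.symm]
    · intro j hj
      simp at hj
      rcases hj with rfl | rfl
      · exact ha
      · exact hb
    · rw [Finset.sum_pair hab]; exact hle
  · refine ⟨{a, b, c}, ?_, ?_, ?_⟩
    · simp [hal.symm, hbl.symm, hcl.symm]
    · intro j hj
      simp at hj
      rcases hj with rfl | rfl | rfl
      · exact ha
      · exact hb
      · exact hc
    · rw [Finset.sum_insert (by simp [hab, hac]), Finset.sum_pair hbc]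
      linarith


/-- `key_nb` with at most three explicitly named neighbours. -/
theorem key_nb3 {k : ℕ} (v : Fin k ↪ Fin n) (hk : k < n) (hv : ∀ j, T.IsMinusTwo (v j))
    (x : Fin k → ℤ) (hx0 : ∀ i, 0 ≤ x i) (hxpos : ∃ i, 0 < x i)
    (h : ∀ l, 0 < x l →
      (∃ a, a ≠ l ∧ 2 * T.w (v l) * x l ≤ T.a (v l) (v a) * x a) ∨
      (∃ a b, a ≠ l ∧ b ≠ l ∧ a ≠ b ∧
        2 * T.w (v l) * x l ≤ T.a (v l) (v a) * x a + T.a (v l) (v b) * x b) ∨
      (∃ a b c, a ≠ l ∧ b ≠ l ∧ c ≠ l ∧ a ≠ b ∧ a ≠ c ∧ b ≠ c ∧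
        2 * T.w (v l) * x l ≤
          T.a (v l) (v a) * x a + T.a (v l) (v b) * x b + T.a (v l) (v c) * x c)) : False := by
  classical
  refine key_nb T v hk hv x hx0 hxpos ?_
  intro l hl
  rcases h l hl with ⟨a, hal, hle⟩ | ⟨a, b, hal, hbl, hab, hle⟩ |
    ⟨a, b, c, hal, hbl, hcl, hab, hac, hbc, hle⟩
  · refine ⟨{a}, by simpa using hal.symm, by simpa using hle⟩
  · refine ⟨{a, b}, ?_, ?_⟩
    · simp [hal.symm, hbl.symm]
    · rw [Finset.sum_pair hab]; exact hle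
  · refine ⟨{a, b, c}, ?_, ?_⟩
    · simp [hal.symm, hbl.symm, hcl.symm]
    · rw [Finset.sum_insert (by simp [hab, hac]), Finset.sum_pair hbc]
      linarith

end Groth.Agent.H4.NumType
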