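import Mathlib
import Groth.Prelude.Def_ChGrp
import Groth.Prelude.Def_GLinSh
import Groth.Prelude.Def_W4bk4git07Quot
import Groth.Agent.H4.OsA
import Groth.Agent.S4806

/-!
# A proper action with trivial stabilisers is free (helper4)
-/

set_option autoImplicit false
universe u
open CategoryTheory MonoidalCategory CartesianMonoidalCategory MonObj GrpObj AlgebraicGeometry
  CategoryTheory.Limits

namespace Groth.Agent.H4.OsB

open Groth.Agent.H4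

section Gen

variable {S : Scheme.{u}} {G X : Over S} [GrpObj G] (a : AlgGrp.Action G X)

/-- unit section of the universal stabiliser -/
noncomputable def unitSec : X ⟶ OsA.stabO a (𝟙 X) :=
  OsA.mkStab a (𝟙 X) 1 (𝟙 X) (by
    rw [Category.id_comp]
    exact AlgGrp.Action.lift_one_act a (𝟙 X))

theorem unitSec_P : unitSec a ≫ OsA.stabP a (𝟙 X) = 𝟙 X := OsA.mkStab_P a (𝟙 X) _ _ _

theorem mono_psi_of_isIso (h : IsIso (OsA.stabP a (𝟙 X))) : Mono (GIT.psi a (𝟙 X)) := by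
  constructor
  intro T u₁ u₂ hu
  obtain ⟨g₁, hg₁⟩ : ∃ g, g = u₁ ≫ fst G X := ⟨_, rfl⟩
  obtain ⟨g₂, hg₂⟩ : ∃ g, g = u₂ ≫ fst G X := ⟨_, rfl⟩
  obtain ⟨p₁, hp₁⟩ : ∃ p, p = u₁ ≫ snd G X := ⟨_, rfl⟩
  obtain ⟨p₂, hp₂⟩ : ∃ p, p = u₂ ≫ snd G X := ⟨_, rfl⟩
  have e₁ : u₁ = lift g₁ p₁ := by
    apply CartesianMonoidalCategory.hom_ext
    · rw [lift_fst, hg₁]
    · rw [lift_snd, hp₁]
  have e₂ : u₂ = lift g₂ p₂ := by
    apply CartesianMonoidalCategory.hom_ext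
    · rw [lift_fst, hg₂]
    · rw [lift_snd, hp₂]
  rw [e₁, e₂, OsA.lift_psi, OsA.lift_psi] at hu
  have hp : p₁ = p₂ := by
    have h1 : lift (lift g₁ (p₁ ≫ 𝟙 X) ≫ a.act) p₁ ≫ snd X X =
        lift (lift g₂ (p₂ ≫ 𝟙 X) ≫ a.act) p₂ ≫ snd X X := by rw [hu]
    rwa [lift_snd, lift_snd] at h1
  have hact : lift g₁ (p₁ ≫ 𝟙 X) ≫ a.act = lift g₂ (p₂ ≫ 𝟙 X) ≫ a.act := by
    have h1 : lift (lift g₁ (p₁ ≫ 𝟙 X) ≫ a.act) p₁ ≫ fst X X =
        lift (lift g₂ (p₂ ≫ 𝟙 X) ≫ a.act) p₂ ≫ fst X X := by rw [hu]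
    rwa [lift_fst, lift_fst] at h1
  rw [← hp] at hact
  have hd : lift (g₂⁻¹ * g₁) (p₁ ≫ 𝟙 X) ≫ a.act = p₁ ≫ 𝟙 X := by
    rw [AlgGrp.Action.lift_mul_act, hact, ← AlgGrp.Action.lift_mul_act, _root_.inv_mul_cancel,
      AlgGrp.Action.lift_one_act]
  have h1' : lift (1 : T ⟶ G) (p₁ ≫ 𝟙 X) ≫ a.act = p₁ ≫ 𝟙 X :=
    AlgGrp.Action.lift_one_act a _
  have hm : OsA.mkStab a (𝟙 X) (g₂⁻¹ * g₁) p₁ hd = OsA.mkStab a (𝟙 X) 1 p₁ h1' := by
    haveI := h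
    rw [← cancel_mono (OsA.stabP a (𝟙 X)), OsA.mkStab_P, OsA.mkStab_P]
  have hI : OsA.mkStab a (𝟙 X) (g₂⁻¹ * g₁) p₁ hd ≫ OsA.stabI a (𝟙 X) =
      OsA.mkStab a (𝟙 X) 1 p₁ h1' ≫ OsA.stabI a (𝟙 X) := by rw [hm]
  rw [OsA.mkStab_I, OsA.mkStab_I] at hI
  have hd1 : g₂⁻¹ * g₁ = 1 := by
    have h2 : lift (g₂⁻¹ * g₁) p₁ ≫ fst G X = lift 1 p₁ ≫ fst G X := by rw [hI]
    rwa [lift_fst, lift_fst] at h2
  have hg : g₂ = g₁ := _root_.inv_mul_eq_one.mp hd1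
  rw [e₁, e₂, hg, hp]

end Gen

theorem main (k : Type u) [Field k] (G X : Over (Spec (CommRingCat.of k))) [GrpObj G]
    [LocallyOfFiniteType G.hom] [LocallyOfFiniteType X.hom]
    (a : AlgGrp.Action G X) (hp : IsProper (GIT.psi a (𝟙 X)).left)
    (htriv : ∀ x : ↥X.left, IsIso ((Limits.pullback.snd (GIT.psi a (𝟙 X)).left
      (CartesianMonoidalCategory.lift (𝟙 X) (𝟙 X)).left).fiberToSpecResidueField x)) :
    IsClosedImmersion (GIT.psi a (𝟙 X)).left := by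
  haveI := hp
  have htriv' : ∀ y, IsIso ((GLinSh.stabTo a (𝟙 X)).fiberToSpecResidueField y) := htriv
  haveI : IsProper (GLinSh.stabTo a (𝟙 X)) := by
    show IsProper (pullback.snd (GIT.psi a (𝟙 X)).left (lift (𝟙 X) (𝟙 X)).left)
    infer_instance
  haveI : IsLocallyNoetherian X.left := LocallyOfFiniteType.isLocallyNoetherian X.hom
  haveI : LocallyOfFiniteType (GLinSh.stabTo a (𝟙 X)) := OsA.lft_stabTo a (𝟙 X)
  haveI : LocallyOfFinitePresentation (GLinSh.stabTo a (𝟙 X)) := inferInstance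
  haveI hcl : IsClosedImmersion (GLinSh.stabTo a (𝟙 X)) :=
    (Groth.Agent.S4806.result (GLinSh.stabTo a (𝟙 X))).mpr (fun y => Or.inr (htriv' y))
  have hsec : (unitSec a).left ≫ GLinSh.stabTo a (𝟙 X) = 𝟙 X.left :=
    congrArg CommaMorphism.left (unitSec_P a)
  have hiso : IsIso (GLinSh.stabTo a (𝟙 X)) := by
    have h1 : (GLinSh.stabTo a (𝟙 X) ≫ (unitSec a).left) ≫ GLinSh.stabTo a (𝟙 X) =
        𝟙 _ ≫ GLinSh.stabTo a (𝟙 X) := by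
      rw [Category.assoc, hsec, Category.comp_id, Category.id_comp]
    exact ⟨⟨(unitSec a).left, (cancel_mono (GLinSh.stabTo a (𝟙 X))).mp h1, hsec⟩⟩
  haveI : IsIso ((Over.forget _).map (OsA.stabP a (𝟙 X))) := hiso
  have hisoP : IsIso (OsA.stabP a (𝟙 X)) := isIso_of_reflects_iso _ (Over.forget _)
  haveI : Mono (GIT.psi a (𝟙 X)) := mono_psi_of_isIso a hisoP
  haveI : Mono (GIT.psi a (𝟙 X)).left := Over.mono_left_of_mono _
  exact (IsClosedImmersion.iff_isProper_and_mono _).mpr ⟨hp, inferInstance⟩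

end Groth.Agent.H4.OsB
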