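import Mathlib
import Groth.Prelude.Def_ChGrp
import Groth.Prelude.Def_GLinSh
import Groth.Prelude.Def_W4bk4git07Quot
import Groth.Agent.H4.OsA

/-!
# The universal stabiliser `(G × X) ×_{X × X} X ⟶ X` is a group scheme over `X` (helper4)

Built through its functor of points (`GrpObj.ofRepresentableBy`): an `X`-morphism `T ⟶ Stab` is a
`T`-point `g` of `G` fixing the tautological point of `X`.
-/

set_option autoImplicit false
universe u
open CategoryTheory MonoidalCategory CartesianMonoidalCategory MonObj GrpObj AlgebraicGeometry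
  CategoryTheory.Limits

namespace Groth.Agent.H4.OsC

open Groth.Agent.H4

noncomputable section

variable {S : Scheme.{u}} {G X : Over S} [GrpObj G] (a : AlgGrp.Action G X)

/-- an `X`-scheme viewed as an `S`-scheme -/
abbrev dn (T : Over X.left) : Over S := (Over.map X.hom).obj T

/-- the tautological `X`-valued point of an `X`-scheme -/
def tau (T : Over X.left) : dn T ⟶ X := Over.homMk T.hom rfl

theorem map_tau {T T' : Over X.left} (f : T' ⟶ T) :
    (Over.map X.hom).map f ≫ tau T = tau T' := by
  apply Over.OverMorphism.ext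
  exact Over.w f

/-- the points of `G` fixing the tautological point -/
def fixer (T : Over X.left) : Subgroup (dn T ⟶ G) where
  carrier := {g | lift g (tau T) ≫ a.act = tau T}
  one_mem' := AlgGrp.Action.lift_one_act a (tau T)
  mul_mem' := by
    intro g g' hg hg'
    have hg1 : lift g (tau T) ≫ a.act = tau T := hg
    have hg2 : lift g' (tau T) ≫ a.act = tau T := hg'
    show lift (g * g') (tau T) ≫ a.act = tau T
    rw [AlgGrp.Action.lift_mul_act, hg2, hg1]
  inv_mem' := by
    intro g hg
    exact OsA.inv_fix a g (tau T) hg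

theorem mem_fixer {T : Over X.left} (g : dn T ⟶ G) :
    g ∈ fixer a T ↔ lift g (tau T) ≫ a.act = tau T := Iff.rfl

/-- precomposition preserves the fixers -/
def precompHom {T T' : Over X.left} (f : T' ⟶ T) : fixer a T →* fixer a T' where
  toFun g := ⟨(Over.map X.hom).map f ≫ g.1, by
    rw [mem_fixer]
    have h := (mem_fixer a g.1).mp g.2
    calc lift ((Over.map X.hom).map f ≫ g.1) (tau T') ≫ a.act
        = lift ((Over.map X.hom).map f ≫ g.1) ((Over.map X.hom).map f ≫ tau T) ≫ a.act := by
          rw [map_tau]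
      _ = ((Over.map X.hom).map f ≫ lift g.1 (tau T)) ≫ a.act := by rw [comp_lift]
      _ = (Over.map X.hom).map f ≫ lift g.1 (tau T) ≫ a.act := Category.assoc _ _ _
      _ = (Over.map X.hom).map f ≫ tau T := by rw [h]
      _ = tau T' := map_tau f⟩
  map_one' := Subtype.ext (MonObj.comp_one _)
  map_mul' x y := Subtype.ext (MonObj.comp_mul _ _ _)

/-- the presheaf of groups `T ↦ fixer T` on `X`-schemes -/
def PP : (Over X.left)ᵒᵖ ⥤ GrpCat.{u} where
  obj T := GrpCat.of (fixer a T.unop)
  map {T T'} t := GrpCat.ofHom (precompHom a t.unop)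
  map_id T := by
    ext g
    change ((Over.map X.hom).map (𝟙 _) ≫ g.1).left = g.1.left
    rw [CategoryTheory.Functor.map_id, Category.id_comp]
  map_comp {T T' T''} t t' := by
    ext g
    change ((Over.map X.hom).map (t'.unop ≫ t.unop) ≫ g.1).left =
      ((Over.map X.hom).map t'.unop ≫ (Over.map X.hom).map t.unop ≫ g.1).left
    rw [CategoryTheory.Functor.map_comp, Category.assoc]

/-- the universal stabiliser as an `X`-scheme -/
abbrev Ystab : Over X.left := Over.mk (GLinSh.stabTo a (𝟙 X))

theorem toS_aux {T : Over X.left} (m : T ⟶ Ystab a) :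
    m.left ≫ (OsA.stabO a (𝟙 X)).hom = (dn T).hom := by
  have h : m.left ≫ GLinSh.stabTo a (𝟙 X) = T.hom := Over.w m
  show m.left ≫ GLinSh.stabTo a (𝟙 X) ≫ X.hom = T.hom ≫ X.hom
  rw [← Category.assoc, h]

/-- an `X`-morphism to the stabiliser, as an `S`-morphism -/
def toS {T : Over X.left} (m : T ⟶ Ystab a) : dn T ⟶ OsA.stabO a (𝟙 X) :=
  Over.homMk m.left (toS_aux a m)

theorem toS_P {T : Over X.left} (m : T ⟶ Ystab a) :
    toS a m ≫ OsA.stabP a (𝟙 X) = tau T := by
  apply Over.OverMorphism.ext
  exact Over.w m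

theorem toS_comp {T T' : Over X.left} (f : T ⟶ T') (m : T' ⟶ Ystab a) :
    toS a (f ≫ m) = (Over.map X.hom).map f ≫ toS a m := by
  apply Over.OverMorphism.ext
  rfl

theorem toS_inj {T : Over X.left} (m m' : T ⟶ Ystab a) (h : toS a m = toS a m') : m = m' := by
  apply Over.OverMorphism.ext
  have h' : (toS a m).left = (toS a m').left := congrArg CommaMorphism.left h
  exact h'

/-- the group-valued point attached to a point of the stabiliser -/
def val {T : Over X.left} (m : T ⟶ Ystab a) : dn T ⟶ G :=
  toS a m ≫ OsA.stabI a (𝟙 X) ≫ fst G X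

theorem val_mem {T : Over X.left} (m : T ⟶ Ystab a) : val a m ∈ fixer a T := by
  rw [mem_fixer]
  have h := OsA.stab_fixed a (𝟙 X) (toS a m) (val a m) (tau T) (by
    rw [OsA.comp_stabI a (𝟙 X) (toS a m), toS_P]
    rfl)
  rw [Category.comp_id] at h
  exact h

theorem fix_aux {T : Over X.left} (g : dn T ⟶ G) (hg : g ∈ fixer a T) :
    lift g (tau T ≫ 𝟙 X) ≫ a.act = tau T ≫ 𝟙 X := by
  rw [Category.comp_id]
  exact (mem_fixer a g).mp hg

/-- the point of the stabiliser attached to a fixing group-valued point -/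
def ofFix {T : Over X.left} (g : dn T ⟶ G) (hg : g ∈ fixer a T) : T ⟶ Ystab a :=
  Over.homMk (OsA.mkStab a (𝟙 X) g (tau T) (fix_aux a g hg)).left (by
    have h := congrArg CommaMorphism.left (OsA.mkStab_P a (𝟙 X) g (tau T) (fix_aux a g hg))
    exact h)

theorem toS_ofFix {T : Over X.left} (g : dn T ⟶ G) (hg : g ∈ fixer a T) :
    toS a (ofFix a g hg) = OsA.mkStab a (𝟙 X) g (tau T) (fix_aux a g hg) := by
  apply Over.OverMorphism.ext
  rfl

theorem val_ofFix {T : Over X.left} (g : dn T ⟶ G) (hg : g ∈ fixer a T) :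
    val a (ofFix a g hg) = g := by
  unfold val
  rw [toS_ofFix, ← Category.assoc, OsA.mkStab_I, lift_fst]

/-- the universal stabiliser represents the presheaf of fixers -/
def reprStab : (PP a ⋙ forget GrpCat).RepresentableBy (Ystab a) where
  homEquiv {T} := Equiv.ofBijective
    (fun m : T ⟶ Ystab a => (⟨val a m, val_mem a m⟩ : fixer a T))
    ⟨fun m m' h => by
      have h1 : val a m = val a m' := congrArg Subtype.val h
      have h2 : toS a m ≫ OsA.stabI a (𝟙 X) ≫ fst G X =
          toS a m' ≫ OsA.stabI a (𝟙 X) ≫ fst G X := h1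
      apply toS_inj a
      apply OsA.stab_hom_ext a (𝟙 X)
      rw [OsA.comp_stabI a (𝟙 X) (toS a m), OsA.comp_stabI a (𝟙 X) (toS a m'), toS_P, toS_P,
        h2],
     fun g => ⟨ofFix a g.1 g.2, Subtype.ext (val_ofFix a g.1 g.2)⟩⟩
  homEquiv_comp {T T'} f m := by
    apply Subtype.ext
    change val a (f ≫ m) = (Over.map X.hom).map f ≫ val a m
    unfold val
    rw [toS_comp, Category.assoc]

/-- the group structure of the universal stabiliser over `X` -/
@[instance_reducible]
def grpStab : GrpObj (Ystab a) := GrpObj.ofRepresentableBy (Ystab a) (PP a) (reprStab a)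

end

end Groth.Agent.H4.OsC
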