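import Mathlib
import Groth.Prelude.Def_ChGrp
import Groth.Prelude.Def_GLinSh
import Groth.Prelude.Def_W4bk4git07Quot
import Groth.Agent.H4.OsA
import Groth.Agent.H4.OsB
import Groth.Agent.H4.OsC
import Groth.Agent.H4.AbB
import Groth.Agent.Lib.Helper9.Misc.CAR5

/-!
# Set-theoretically free ⇔ geometrically free; free ⇔ proper and set-theoretically free (helper4)
-/

set_option autoImplicit false
universe u
open CategoryTheory MonoidalCategory CartesianMonoidalCategory MonObj GrpObj AlgebraicGeometry
  CategoryTheory.Limits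

namespace Groth.Agent.H4.OsD

open Groth.Agent.H4

section Gen

theorem isReduced_Spec_of_formallyUnramified (K : Type u) [Field K] (A : CommRingCat.{u})
    (f : Spec A ⟶ Spec (CommRingCat.of K)) [FormallyUnramified f] [LocallyOfFiniteType f] :
    IsReduced (Spec A) := by
  obtain ⟨φ, rfl⟩ := Spec.map_surjective f
  have h1 : φ.hom.FormallyUnramified :=
    (HasRingHomProperty.Spec_iff (P := @FormallyUnramified)).mp inferInstance
  have h2 : φ.hom.FiniteType :=
    (HasRingHomProperty.Spec_iff (P := @LocallyOfFiniteType)).mp inferInstance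
  algebraize [φ.hom]
  haveI : _root_.IsReduced A := Algebra.FormallyUnramified.isReduced_of_field K A
  infer_instance

theorem isReduced_of_formallyUnramified (K : Type u) [Field K] {F : Scheme.{u}}
    (f : F ⟶ Spec (CommRingCat.of K)) [FormallyUnramified f] [LocallyOfFiniteType f] :
    IsReduced F := by
  haveI : ∀ i, IsReduced (F.affineCover.X i) := by
    intro i
    have hfu : FormallyUnramified (F.affineCover.f i ≫ f) :=
      (IsZariskiLocalAtSource.iff_of_openCover (P := @FormallyUnramified) F.affineCover).mp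
        inferInstance i
    have hlft : LocallyOfFiniteType (F.affineCover.f i ≫ f) :=
      (IsZariskiLocalAtSource.iff_of_openCover (P := @LocallyOfFiniteType) F.affineCover).mp
        inferInstance i
    exact @isReduced_Spec_of_formallyUnramified K _ _ (F.affineCover.f i ≫ f) hfu hlft
  exact IsReduced.of_openCover _ F.affineCover

theorem isIso_fiber_of_univInj {X St : Scheme.{u}} (s : St ⟶ X) (e₀ : X ⟶ St)
    (he : e₀ ≫ s = 𝟙 X) [UniversallyInjective s] [IsSeparated s] (x : X)
    (hred : IsReduced (pullback s (X.fromSpecResidueField x))) :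
    IsIso (pullback.snd s (X.fromSpecResidueField x)) := by
  haveI := hred
  obtain ⟨σ, hσ⟩ : ∃ σ : Spec (X.residueField x) ⟶ pullback s (X.fromSpecResidueField x),
      σ ≫ pullback.snd s (X.fromSpecResidueField x) = 𝟙 _ :=
    ⟨pullback.lift (X.fromSpecResidueField x ≫ e₀) (𝟙 _)
      (by rw [Category.assoc, he, Category.comp_id, Category.id_comp]), pullback.lift_snd _ _ _⟩
  haveI : UniversallyInjective (pullback.snd s (X.fromSpecResidueField x)) :=
    MorphismProperty.pullback_snd (P := @UniversallyInjective) _ _ inferInstance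
  haveI : IsSeparated (pullback.snd s (X.fromSpecResidueField x)) :=
    MorphismProperty.pullback_snd (P := @IsSeparated) _ _ inferInstance
  haveI : IsClosedImmersion (σ ≫ pullback.snd s (X.fromSpecResidueField x)) := by
    rw [hσ]; infer_instance
  haveI : IsClosedImmersion σ :=
    IsClosedImmersion.of_comp σ (pullback.snd s (X.fromSpecResidueField x))
  haveI : Subsingleton ↥(Spec (X.residueField x)) :=
    inferInstanceAs (Subsingleton (PrimeSpectrum (X.residueField x)))
  haveI : Surjective σ := ⟨fun z => ⟨IsLocalRing.closedPoint (X.residueField x),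
    (pullback.snd s (X.fromSpecResidueField x)).injective (Subsingleton.elim _ _)⟩⟩
  haveI : IsIso σ := isIso_of_isClosedImmersion_of_surjective σ
  have h : pullback.snd s (X.fromSpecResidueField x) = inv σ := by
    rw [← cancel_epi σ, hσ, IsIso.hom_inv_id]
  rw [h]
  infer_instance

theorem univInj_of_fibres_iso {X St : Scheme.{u}} (s : St ⟶ X)
    (h : ∀ x : X, IsIso (s.fiberToSpecResidueField x)) : UniversallyInjective s := by
  apply ((tfae_universallyInjective s).out 0 1).mpr
  intro K _ g₁ g₂ hg
  have hg' : g₁ ≫ s = g₂ ≫ s := hg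
  obtain ⟨x, r, hr⟩ : ∃ (x : X) (r : Spec (.of K) ⟶ Spec (X.residueField x)),
      r ≫ X.fromSpecResidueField x = g₁ ≫ s :=
    ⟨_, _, Scheme.descResidueField_stalkClosedPointTo_fromSpecResidueField K X (g₁ ≫ s)⟩
  haveI : IsIso (pullback.snd s (X.fromSpecResidueField x)) := h x
  have e1 : pullback.lift g₁ r hr.symm = pullback.lift g₂ r (hg'.symm.trans hr.symm) := by
    rw [← cancel_mono (pullback.snd s (X.fromSpecResidueField x)), pullback.lift_snd,
      pullback.lift_snd]
  have e2 : pullback.lift g₁ r hr.symm ≫ pullback.fst s (X.fromSpecResidueField x) =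
      pullback.lift g₂ r (hg'.symm.trans hr.symm) ≫ pullback.fst s (X.fromSpecResidueField x) := by
    rw [e1]
  rw [pullback.lift_fst, pullback.lift_fst] at e2
  exact e2

variable {S : Scheme.{u}} {G X : Over S} [GrpObj G] (a : AlgGrp.Action G X)

theorem prop_stabTo (Q : MorphismProperty Scheme.{u}) [Q.IsStableUnderBaseChange]
    (hof : ∀ {A B C : Scheme.{u}} (f : A ⟶ B) (g : B ⟶ C), Q (f ≫ g) → Q f) (hG : Q G.hom) :
    Q (GLinSh.stabTo a (𝟙 X)) := by
  have h1 : Q (snd G X).left :=
    show Q (pullback.snd G.hom X.hom) from Q.pullback_snd _ _ hG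
  have h2 : (GIT.psi a (𝟙 X)).left ≫ (snd X X).left = (snd G X).left := by
    rw [← Over.comp_left, OsA.psi_snd]
  have h3 : Q ((GIT.psi a (𝟙 X)).left ≫ (snd X X).left) := by rw [h2]; exact h1
  have h4 : Q (GIT.psi a (𝟙 X)).left := hof _ _ h3
  show Q (pullback.snd (GIT.psi a (𝟙 X)).left (lift (𝟙 X) (𝟙 X)).left)
  exact Q.pullback_snd _ _ h4

end Gen

theorem fibres_iso (k : Type u) [Field k] (G X : Over (Spec (CommRingCat.of k))) [GrpObj G]
    [IsAffine G.left] [LocallyOfFiniteType G.hom]
    (hG : CharZero k ∨ (IsFinite G.hom ∧ Etale G.hom)) (a : AlgGrp.Action G X)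
    (hui : UniversallyInjective (GLinSh.stabTo a (𝟙 X))) (x : ↥X.left) :
    IsIso ((GLinSh.stabTo a (𝟙 X)).fiberToSpecResidueField x) := by
  haveI := hui
  haveI : IsAffineHom G.hom := AbB.isAffineHom_over_affine (CommRingCat.of k) G.hom
  haveI : IsSeparated (GLinSh.stabTo a (𝟙 X)) :=
    prop_stabTo a @IsSeparated (fun f g h => by haveI := h; exact IsSeparated.of_comp f g)
      (show IsSeparated G.hom from inferInstance)
  have hsec : (OsB.unitSec a).left ≫ GLinSh.stabTo a (𝟙 X) = 𝟙 X.left :=
    congrArg CommaMorphism.left (OsB.unitSec_P a)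
  show IsIso (pullback.snd (GLinSh.stabTo a (𝟙 X)) (X.left.fromSpecResidueField x))
  apply isIso_fiber_of_univInj (GLinSh.stabTo a (𝟙 X)) (OsB.unitSec a).left hsec x
  haveI : LocallyOfFiniteType (GLinSh.stabTo a (𝟙 X)) := OsA.lft_stabTo a (𝟙 X)
  rcases hG with h0 | ⟨_, het⟩
  · haveI := h0
    letI : GrpObj (Over.mk (GLinSh.stabTo a (𝟙 X))) := OsC.grpStab a
    letI : GrpObj (Over.mk (pullback.snd (GLinSh.stabTo a (𝟙 X))
        (X.left.fromSpecResidueField x))) := Over.grpObjMkPullbackSnd
    have ρ : CommRingCat.of k ⟶ X.left.residueField x :=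
      Spec.preimage (X.left.fromSpecResidueField x ≫ X.hom)
    haveI : CharZero ↑(X.left.residueField x) :=
      charZero_of_injective_ringHom ρ.hom.injective
    exact Groth.Agent.H9.CAR.isReduced_of_grpObj_charZero (↑(X.left.residueField x))
      (pullback.snd (GLinSh.stabTo a (𝟙 X)) (X.left.fromSpecResidueField x))
  · haveI := het
    haveI : FormallyUnramified (GLinSh.stabTo a (𝟙 X)) :=
      prop_stabTo a @FormallyUnramified
        (fun f g h => by haveI := h; exact FormallyUnramified.of_comp f g)
        (show FormallyUnramified G.hom from inferInstance)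
    haveI : FormallyUnramified (pullback.snd (GLinSh.stabTo a (𝟙 X))
        (X.left.fromSpecResidueField x)) :=
      MorphismProperty.pullback_snd (P := @FormallyUnramified) _ _ inferInstance
    exact isReduced_of_formallyUnramified (↑(X.left.residueField x))
      (pullback.snd (GLinSh.stabTo a (𝟙 X)) (X.left.fromSpecResidueField x))

theorem main08 (k : Type u) [Field k] (G X : Over (Spec (CommRingCat.of k))) [GrpObj G]
    [IsAffine G.left] [LocallyOfFiniteType G.hom]
    (hG : CharZero k ∨ (IsFinite G.hom ∧ Etale G.hom)) (a : AlgGrp.Action G X) :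
    UniversallyInjective (Limits.pullback.snd (GIT.psi a (𝟙 X)).left
        (CartesianMonoidalCategory.lift (𝟙 X) (𝟙 X)).left) ↔
      ∀ x : ↥X.left, IsIso ((Limits.pullback.snd (GIT.psi a (𝟙 X)).left
        (CartesianMonoidalCategory.lift (𝟙 X) (𝟙 X)).left).fiberToSpecResidueField x) := by
  constructor
  · intro h x
    exact fibres_iso k G X hG a h x
  · intro h
    exact univInj_of_fibres_iso _ h

theorem main09 (k : Type u) [Field k] (G X : Over (Spec (CommRingCat.of k))) [GrpObj G]
    [IsAffine G.left] [LocallyOfFiniteType G.hom] [LocallyOfFiniteType X.hom]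
    (hG : CharZero k ∨ (IsFinite G.hom ∧ Etale G.hom)) (a : AlgGrp.Action G X) :
    IsClosedImmersion (GIT.psi a (𝟙 X)).left ↔
      IsProper (GIT.psi a (𝟙 X)).left ∧
        UniversallyInjective (Limits.pullback.snd (GIT.psi a (𝟙 X)).left
          (CartesianMonoidalCategory.lift (𝟙 X) (𝟙 X)).left) := by
  constructor
  · intro h
    haveI := h
    refine ⟨inferInstance, ?_⟩
    haveI : IsClosedImmersion (Limits.pullback.snd (GIT.psi a (𝟙 X)).left
        (CartesianMonoidalCategory.lift (𝟙 X) (𝟙 X)).left) :=
      MorphismProperty.pullback_snd (P := @IsClosedImmersion) _ _ h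
    infer_instance
  · rintro ⟨hp, hui⟩
    exact OsB.main k G X a hp (fun x => fibres_iso k G X hG a hui x)

end Groth.Agent.H4.OsD
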