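import Mathlib
import Groth.Prelude.Def_ChGrp
import Groth.Prelude.Def_GLinSh
import Groth.Prelude.Def_W4bk4git07Quot
import Groth.Agent.H4.OsA
import Groth.Agent.H4.OsC
import Groth.Agent.Lib.Helper1.GrpDimSc

/-!
# Base change of stabilisers and upper semicontinuity of the stabiliser dimension (helper4)
-/

set_option autoImplicit false
universe u
open CategoryTheory MonoidalCategory CartesianMonoidalCategory MonObj GrpObj AlgebraicGeometry
  CategoryTheory.Limits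

namespace Groth.Agent.H4.OsE

open Groth.Agent.H4

section BC

variable {S : Scheme.{u}} {G X T : Over S} [GrpObj G] (a : AlgGrp.Action G X) (f : T ⟶ X)

theorem stabBC_aux :
    lift (OsA.stabI a f ≫ fst G T) ((OsA.stabP a f ≫ f) ≫ 𝟙 X) ≫ a.act =
      (OsA.stabP a f ≫ f) ≫ 𝟙 X := by
  rw [Category.comp_id]
  exact OsA.stab_fixed a f (𝟙 _) (OsA.stabI a f ≫ fst G T) (OsA.stabP a f) (by
    rw [Category.id_comp]
    apply CartesianMonoidalCategory.hom_ext
    · rw [lift_fst]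
    · rw [lift_snd, OsA.stabI_snd])

/-- the comparison map from the stabiliser of a point to the universal stabiliser -/
noncomputable def stabBC : OsA.stabO a f ⟶ OsA.stabO a (𝟙 X) :=
  OsA.mkStab a (𝟙 X) (OsA.stabI a f ≫ fst G T) (OsA.stabP a f ≫ f) (stabBC_aux a f)

theorem stabBC_I : stabBC a f ≫ OsA.stabI a (𝟙 X) =
    lift (OsA.stabI a f ≫ fst G T) (OsA.stabP a f ≫ f) := by
  unfold stabBC
  exact OsA.mkStab_I a (𝟙 X) _ _ _

theorem stabBC_P : stabBC a f ≫ OsA.stabP a (𝟙 X) = OsA.stabP a f ≫ f := by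
  unfold stabBC
  exact OsA.mkStab_P a (𝟙 X) _ _ _

theorem lift_aux {W : Over S} (m : W ⟶ OsA.stabO a (𝟙 X)) (p : W ⟶ T)
    (h : m ≫ OsA.stabP a (𝟙 X) = p ≫ f) :
    lift (m ≫ OsA.stabI a (𝟙 X) ≫ fst G X) (p ≫ f) ≫ a.act = p ≫ f := by
  have h0 := OsA.stab_fixed a (𝟙 X) m (m ≫ OsA.stabI a (𝟙 X) ≫ fst G X)
    (m ≫ OsA.stabP a (𝟙 X)) (OsA.comp_stabI a (𝟙 X) m)
  rw [Category.comp_id, h] at h0
  exact h0

theorem fac_left' {W : Over S} (m : W ⟶ OsA.stabO a (𝟙 X)) (p : W ⟶ T)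
    (h : m ≫ OsA.stabP a (𝟙 X) = p ≫ f) (l : W ⟶ OsA.stabO a f)
    (hlI : l ≫ OsA.stabI a f = lift (m ≫ OsA.stabI a (𝟙 X) ≫ fst G X) p)
    (hlP : l ≫ OsA.stabP a f = p) : l ≫ stabBC a f = m := by
  apply OsA.stab_hom_ext a (𝟙 X)
  calc (l ≫ stabBC a f) ≫ OsA.stabI a (𝟙 X)
      = l ≫ stabBC a f ≫ OsA.stabI a (𝟙 X) := Category.assoc _ _ _
    _ = l ≫ lift (OsA.stabI a f ≫ fst G T) (OsA.stabP a f ≫ f) := by rw [stabBC_I]
    _ = lift (l ≫ OsA.stabI a f ≫ fst G T) (l ≫ OsA.stabP a f ≫ f) := comp_lift _ _ _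
    _ = lift ((l ≫ OsA.stabI a f) ≫ fst G T) ((l ≫ OsA.stabP a f) ≫ f) := by
        rw [Category.assoc l (OsA.stabI a f) (fst G T), Category.assoc l (OsA.stabP a f) f]
    _ = lift (m ≫ OsA.stabI a (𝟙 X) ≫ fst G X) (p ≫ f) := by rw [hlI, hlP, lift_fst]
    _ = lift (m ≫ OsA.stabI a (𝟙 X) ≫ fst G X) (m ≫ OsA.stabP a (𝟙 X)) := by rw [h]
    _ = m ≫ OsA.stabI a (𝟙 X) := (OsA.comp_stabI a (𝟙 X) m).symm

theorem uniq' {W : Over S} (m : W ⟶ OsA.stabO a (𝟙 X)) (p : W ⟶ T)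
    (m' : W ⟶ OsA.stabO a f) (h1 : m' ≫ stabBC a f = m) (h2 : m' ≫ OsA.stabP a f = p)
    (l : W ⟶ OsA.stabO a f)
    (hlI : l ≫ OsA.stabI a f = lift (m ≫ OsA.stabI a (𝟙 X) ≫ fst G X) p) : m' = l := by
  apply OsA.stab_hom_ext a f
  have e : m' ≫ OsA.stabI a f ≫ fst G T = m ≫ OsA.stabI a (𝟙 X) ≫ fst G X := by
    calc m' ≫ OsA.stabI a f ≫ fst G T
        = m' ≫ lift (OsA.stabI a f ≫ fst G T) (OsA.stabP a f ≫ f) ≫ fst G X := by
          rw [lift_fst]
      _ = m' ≫ (stabBC a f ≫ OsA.stabI a (𝟙 X)) ≫ fst G X := by rw [stabBC_I]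
      _ = (m' ≫ stabBC a f) ≫ OsA.stabI a (𝟙 X) ≫ fst G X := by simp only [Category.assoc]
      _ = m ≫ OsA.stabI a (𝟙 X) ≫ fst G X := by rw [h1]
  rw [OsA.comp_stabI a f m', e, h2, hlI]

/-- the stabiliser of a `T`-point is the base change of the universal stabiliser -/
theorem isPullback_stabBC :
    IsPullback (stabBC a f) (OsA.stabP a f) (OsA.stabP a (𝟙 X)) f := by
  refine ⟨⟨stabBC_P a f⟩, ⟨PullbackCone.IsLimit.mk _
    (fun s => OsA.mkStab a f (s.fst ≫ OsA.stabI a (𝟙 X) ≫ fst G X) s.snd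
      (lift_aux a f s.fst s.snd s.condition)) ?_ ?_ ?_⟩⟩
  · intro s
    exact fac_left' a f s.fst s.snd s.condition _ (OsA.mkStab_I a f _ _ _)
      (OsA.mkStab_P a f _ _ _)
  · intro s
    exact OsA.mkStab_P a f _ _ _
  · intro s m' h1 h2
    exact uniq' a f s.fst s.snd m' h1 h2 _ (OsA.mkStab_I a f _ _ _)

theorem isPullback_stabBC_left :
    IsPullback (stabBC a f).left (GLinSh.stabTo a f) (GLinSh.stabTo a (𝟙 X)) f.left :=
  (isPullback_stabBC a f).map (Over.forget S)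

end BC

section Dim

variable {S : Scheme.{u}} {G X : Over S} [GrpObj G] (a : AlgGrp.Action G X)

theorem dim_eq (x : X.left) :
    topologicalKrullDim ↥(GLinSh.stab a (Over.homMk (X.left.fromSpecResidueField x) rfl :
        Over.mk (X.left.fromSpecResidueField x ≫ X.hom) ⟶ X)) =
      topologicalKrullDim ↥((OsC.Ystab a).hom.base ⁻¹' {x}) := by
  have hB : IsPullback (stabBC a (Over.homMk (X.left.fromSpecResidueField x) rfl :
        Over.mk (X.left.fromSpecResidueField x ≫ X.hom) ⟶ X)).left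
      (GLinSh.stabTo a (Over.homMk (X.left.fromSpecResidueField x) rfl :
        Over.mk (X.left.fromSpecResidueField x ≫ X.hom) ⟶ X))
      (GLinSh.stabTo a (𝟙 X)) (X.left.fromSpecResidueField x) :=
    isPullback_stabBC_left a _
  have h1 := IsHomeomorph.topologicalKrullDim_eq _
    (hB.isoPullback.hom.homeomorph.isHomeomorph)
  have h2 := IsHomeomorph.topologicalKrullDim_eq _
    ((GLinSh.stabTo a (𝟙 X)).fiberHomeo x).isHomeomorph
  exact h1.trans h2

theorem main [LocallyOfFiniteType G.hom] (n : WithBot ℕ∞) :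
    IsClosed {x : X.left | n ≤ topologicalKrullDim
      (GLinSh.stab a (Over.homMk (X.left.fromSpecResidueField x) rfl :
        Over.mk (X.left.fromSpecResidueField x ≫ X.hom) ⟶ X))} := by
  letI : GrpObj (OsC.Ystab a) := OsC.grpStab a
  haveI : LocallyOfFiniteType (OsC.Ystab a).hom := OsA.lft_stabTo a (𝟙 X)
  have husc := (Groth.Agent.H1.GrpDimSc.s5329 (OsC.Ystab a)).1
  have hcl := husc.isClosed_preimage n
  have e : {x : X.left | n ≤ topologicalKrullDim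
      (GLinSh.stab a (Over.homMk (X.left.fromSpecResidueField x) rfl :
        Over.mk (X.left.fromSpecResidueField x ≫ X.hom) ⟶ X))} =
      (fun s : X.left => topologicalKrullDim ↥((OsC.Ystab a).hom.base ⁻¹' {s})) ⁻¹' Set.Ici n := by
    ext x
    show n ≤ _ ↔ n ≤ topologicalKrullDim ↥((OsC.Ystab a).hom.base ⁻¹' {x})
    rw [dim_eq a x]
  rw [e]
  exact hcl

end Dim

end Groth.Agent.H4.OsE
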