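import Mathlib
import Groth.Prelude.Def_ChGrp
import Groth.Prelude.Def_GLinSh
import Groth.Prelude.Def_W4bk4git07Quot
import Groth.Agent.H4.OsA
import Groth.Agent.H4.HlA

/-!
# Orbits and stabilisers through a geometric quotient by a normal subgroup (helper4)

Same setting as `OsA`, but `φ : X ⟶ Y` is only assumed to have the `N`-orbits as fibres
(`(σ, p₂) : N × X ⟶ X ×_Y X` surjective on points); division in the torsor is replaced by passing
to a surjective cover.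
-/

set_option autoImplicit false
universe u
open CategoryTheory MonoidalCategory CartesianMonoidalCategory MonObj GrpObj AlgebraicGeometry
  CategoryTheory.Limits

namespace Groth.Agent.H4.OsF

open Groth.Agent.H4

section Gen

variable {S : Scheme.{u}} {G N H X Y P : Over S} [GrpObj G] [GrpObj N] [GrpObj H]
  (iN : N ⟶ G) [IsMonHom iN] (q : G ⟶ H) [IsMonHom q]
  (a : AlgGrp.Action G X) (aN : AlgGrp.Action N X) (haN : aN.act = (iN ▷ X) ≫ a.act)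
  (φ : X ⟶ Y) (hinv : GIT.IsInvariant aN φ)
  (aY : AlgGrp.Action H Y) (hequiv : (q ⊗ₘ φ) ≫ aY.act = a.act ≫ φ)
  (x : P ⟶ X)

include haN in
theorem lift_aN {T : Over S} (n : T ⟶ N) (z : T ⟶ X) :
    lift n z ≫ aN.act = lift (n ≫ iN) z ≫ a.act := by
  rw [haN, lift_whiskerRight_assoc]

/-- `(σ, p₂) : N × X ⟶ X ×_Y X`, over `S` -/
noncomputable def PsiO : N ⊗ X ⟶ pullback φ φ := pullback.lift aN.act (snd N X) hinv

theorem PsiO_fst : PsiO aN φ hinv ≫ pullback.fst φ φ = aN.act := by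
  unfold PsiO
  exact pullback.lift_fst _ _ _

theorem PsiO_snd : PsiO aN φ hinv ≫ pullback.snd φ φ = snd N X := by
  unfold PsiO
  exact pullback.lift_snd _ _ _

theorem surjective_PsiO (hs : Function.Surjective (GIT.PsiY aN φ hinv).base) :
    Surjective (PsiO aN φ hinv).left := by
  have hXX : IsPullback (pullback.fst φ φ).left (pullback.snd φ φ).left φ.left φ.left :=
    (IsPullback.of_hasPullback φ φ).map (Over.forget S)
  have e : (PsiO aN φ hinv).left ≫ hXX.isoPullback.hom = GIT.PsiY aN φ hinv := by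
    apply pullback.hom_ext
    · have h1 : (PsiO aN φ hinv ≫ pullback.fst φ φ).left = aN.act.left := by
        rw [PsiO_fst]
      have h2 : GIT.PsiY aN φ hinv ≫ pullback.fst φ.left φ.left = aN.act.left := by
        unfold GIT.PsiY
        exact pullback.lift_fst _ _ _
      rw [Category.assoc, hXX.isoPullback_hom_fst, h2]
      exact h1
    · have h1 : (PsiO aN φ hinv ≫ pullback.snd φ φ).left = (snd N X).left := by
        rw [PsiO_snd]
      have h2 : GIT.PsiY aN φ hinv ≫ pullback.snd φ.left φ.left = (snd N X).left := by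
        unfold GIT.PsiY
        exact pullback.lift_snd _ _ _
      rw [Category.assoc, hXX.isoPullback_hom_snd, h2]
      exact h1
  haveI : Surjective (GIT.PsiY aN φ hinv) := ⟨hs⟩
  have e2 : (PsiO aN φ hinv).left = GIT.PsiY aN φ hinv ≫ hXX.isoPullback.inv := by
    rw [← e, Category.assoc, Iso.hom_inv_id, Category.comp_id]
  rw [e2]
  infer_instance

include haN in
/-- after a surjective cover, two points in the same fibre of `φ` differ by a point of `N` -/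
theorem exists_cover_n (hs : Surjective (PsiO aN φ hinv).left) {T' : Over S} (u z : T' ⟶ X)
    (h : u ≫ φ = z ≫ φ) :
    ∃ (T'' : Over S) (r : T'' ⟶ T') (n : T'' ⟶ N), Surjective r.left ∧
      lift (n ≫ iN) (r ≫ z) ≫ a.act = r ≫ u := by
  obtain ⟨c, hc1, hc2⟩ : ∃ c : T' ⟶ pullback φ φ,
      c ≫ pullback.fst φ φ = u ∧ c ≫ pullback.snd φ φ = z :=
    ⟨pullback.lift u z h, pullback.lift_fst _ _ _, pullback.lift_snd _ _ _⟩
  obtain ⟨T'', r, r₂, sq⟩ : ∃ (T'' : Over S) (r : T'' ⟶ T') (r₂ : T'' ⟶ N ⊗ X),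
      IsPullback r r₂ c (PsiO aN φ hinv) := ⟨_, _, _, IsPullback.of_hasPullback _ _⟩
  refine ⟨T'', r, r₂ ≫ fst N X, ?_, ?_⟩
  · have sq' : IsPullback r₂.left r.left (PsiO aN φ hinv).left c.left :=
      sq.flip.map (Over.forget S)
    exact MorphismProperty.of_isPullback (P := @Surjective) sq' hs
  · have h1 : r ≫ u = r₂ ≫ aN.act := by
      calc r ≫ u = r ≫ c ≫ pullback.fst φ φ := by rw [hc1]
        _ = (r ≫ c) ≫ pullback.fst φ φ := (Category.assoc _ _ _).symm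
        _ = (r₂ ≫ PsiO aN φ hinv) ≫ pullback.fst φ φ := by rw [sq.w]
        _ = r₂ ≫ PsiO aN φ hinv ≫ pullback.fst φ φ := Category.assoc _ _ _
        _ = r₂ ≫ aN.act := by rw [PsiO_fst]
    have h2 : r ≫ z = r₂ ≫ snd N X := by
      calc r ≫ z = r ≫ c ≫ pullback.snd φ φ := by rw [hc2]
        _ = (r ≫ c) ≫ pullback.snd φ φ := (Category.assoc _ _ _).symm
        _ = (r₂ ≫ PsiO aN φ hinv) ≫ pullback.snd φ φ := by rw [sq.w]
        _ = r₂ ≫ PsiO aN φ hinv ≫ pullback.snd φ φ := Category.assoc _ _ _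
        _ = r₂ ≫ snd N X := by rw [PsiO_snd]
    have h3 : lift (r₂ ≫ fst N X) (r₂ ≫ snd N X) = r₂ := by
      apply CartesianMonoidalCategory.hom_ext
      · rw [lift_fst]
      · rw [lift_snd]
    calc lift ((r₂ ≫ fst N X) ≫ iN) (r ≫ z) ≫ a.act
        = lift (r₂ ≫ fst N X) (r ≫ z) ≫ aN.act := (lift_aN iN a aN haN _ _).symm
      _ = lift (r₂ ≫ fst N X) (r₂ ≫ snd N X) ≫ aN.act := by rw [h2]
      _ = r₂ ≫ aN.act := by rw [h3]
      _ = r ≫ u := h1.symm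

include hequiv in
theorem orbit_fibre {T' : Over S} (u : T' ⟶ X ⊗ P) (hh : T' ⟶ H ⊗ P) (g : T' ⟶ G)
    (hu : u ≫ (φ ▷ P) = hh ≫ GIT.psi aY (x ≫ φ)) (hg : hh ≫ fst H P = g ≫ q) :
    (u ≫ fst X P) ≫ φ = (lift g ((u ≫ snd X P) ≫ x) ≫ a.act) ≫ φ := by
  obtain ⟨p, hp⟩ : ∃ p, p = u ≫ snd X P := ⟨_, rfl⟩
  rw [← hp]
  have hs : hh ≫ snd H P = p := by
    calc hh ≫ snd H P = hh ≫ GIT.psi aY (x ≫ φ) ≫ snd Y P := by rw [OsA.psi_snd]
      _ = (hh ≫ GIT.psi aY (x ≫ φ)) ≫ snd Y P := (Category.assoc _ _ _).symm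
      _ = (u ≫ (φ ▷ P)) ≫ snd Y P := by rw [hu]
      _ = u ≫ (φ ▷ P) ≫ snd Y P := Category.assoc _ _ _
      _ = u ≫ snd X P := by rw [whiskerRight_snd]
      _ = p := hp.symm
  have hh' : hh = lift (g ≫ q) p := by
    apply CartesianMonoidalCategory.hom_ext
    · rw [lift_fst, hg]
    · rw [lift_snd, hs]
  calc (u ≫ fst X P) ≫ φ = u ≫ fst X P ≫ φ := Category.assoc _ _ _
    _ = u ≫ (φ ▷ P) ≫ fst Y P := by rw [whiskerRight_fst]
    _ = (u ≫ (φ ▷ P)) ≫ fst Y P := (Category.assoc _ _ _).symm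
    _ = (lift (g ≫ q) p ≫ GIT.psi aY (x ≫ φ)) ≫ fst Y P := by rw [hu, hh']
    _ = lift (lift (g ≫ q) (p ≫ x ≫ φ) ≫ aY.act) p ≫ fst Y P := by rw [OsA.lift_psi]
    _ = lift (g ≫ q) (p ≫ x ≫ φ) ≫ aY.act := lift_fst _ _
    _ = lift (g ≫ q) ((p ≫ x) ≫ φ) ≫ aY.act := by rw [Category.assoc p x φ]
    _ = (lift g (p ≫ x) ≫ a.act) ≫ φ := OsA.eqv q a φ aY hequiv g (p ≫ x)

theorem rho_psi {T'' : Over S} (n : T'' ⟶ N) (g' : T'' ⟶ G) (p' : T'' ⟶ P)
    (u' : T'' ⟶ X ⊗ P) (hp : u' ≫ snd X P = p')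
    (hn : lift (n ≫ iN) (lift g' (p' ≫ x) ≫ a.act) ≫ a.act = u' ≫ fst X P) :
    lift ((n ≫ iN) * g') p' ≫ GIT.psi a x = u' := by
  rw [OsA.lift_psi, AlgGrp.Action.lift_mul_act, hn]
  apply CartesianMonoidalCategory.hom_ext
  · rw [lift_fst]
  · rw [lift_snd, hp]

theorem comp_act {T T' : Over S} (r : T' ⟶ T) (g : T ⟶ G) (p : T ⟶ P) :
    lift (r ≫ g) ((r ≫ p) ≫ x) ≫ a.act = r ≫ lift g (p ≫ x) ≫ a.act := by
  calc lift (r ≫ g) ((r ≫ p) ≫ x) ≫ a.act = lift (r ≫ g) (r ≫ p ≫ x) ≫ a.act := by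
        rw [Category.assoc r p x]
    _ = (r ≫ lift g (p ≫ x)) ≫ a.act := by rw [comp_lift]
    _ = r ≫ lift g (p ≫ x) ≫ a.act := Category.assoc _ _ _

include haN hequiv in
theorem orbit_cover (hs : Surjective (PsiO aN φ hinv).left) {T' : Over S} (u : T' ⟶ X ⊗ P)
    (hh : T' ⟶ H ⊗ P) (g : T' ⟶ G)
    (hu : u ≫ (φ ▷ P) = hh ≫ GIT.psi aY (x ≫ φ)) (hg : hh ≫ fst H P = g ≫ q) :
    ∃ (T'' : Over S) (r : T'' ⟶ T') (ρ : T'' ⟶ G ⊗ P), Surjective r.left ∧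
      ρ ≫ GIT.psi a x = r ≫ u := by
  have hfib := orbit_fibre q a φ aY hequiv x u hh g hu hg
  obtain ⟨T'', r, n, hr, hn⟩ := exists_cover_n iN a aN haN φ hinv hs (u ≫ fst X P)
    (lift g ((u ≫ snd X P) ≫ x) ≫ a.act) hfib
  refine ⟨T'', r, lift ((n ≫ iN) * (r ≫ g)) (r ≫ u ≫ snd X P), hr, ?_⟩
  apply rho_psi iN a x
  · exact Category.assoc _ _ _
  · rw [comp_act a x r g (u ≫ snd X P), hn, Category.assoc]

include haN hequiv in
theorem range_psi' [Surjective q.left] (hs : Surjective (PsiO aN φ hinv).left) :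
    Set.range (GIT.psi a x).left =
      (φ ▷ P).left ⁻¹' Set.range (GIT.psi aY (x ≫ φ)).left := by
  have hE : (GIT.psi a x).left ≫ (φ ▷ P).left =
      (q ▷ P).left ≫ (GIT.psi aY (x ≫ φ)).left := by
    rw [← Over.comp_left, ← Over.comp_left, OsA.psi_equivariant q a φ aY hequiv x]
  apply Set.Subset.antisymm
  · rintro _ ⟨v, rfl⟩
    refine ⟨(q ▷ P).left v, ?_⟩
    calc (GIT.psi aY (x ≫ φ)).left ((q ▷ P).left v)
        = ((q ▷ P).left ≫ (GIT.psi aY (x ≫ φ)).left) v := (Scheme.Hom.comp_apply _ _ _).symm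
      _ = ((GIT.psi a x).left ≫ (φ ▷ P).left) v := by rw [hE]
      _ = (φ ▷ P).left ((GIT.psi a x).left v) := Scheme.Hom.comp_apply _ _ _
  · rintro u ⟨h, hh⟩
    obtain ⟨W, w₁, w₂, sqW⟩ : ∃ (W : Over S) (w₁ : W ⟶ X ⊗ P) (w₂ : W ⟶ H ⊗ P),
        IsPullback w₁ w₂ (φ ▷ P) (GIT.psi aY (x ≫ φ)) :=
      ⟨_, _, _, IsPullback.of_hasPullback _ _⟩
    obtain ⟨W', v₁, v₂, sqW'⟩ : ∃ (W' : Over S) (v₁ : W' ⟶ W) (v₂ : W' ⟶ G ⊗ P),
        IsPullback v₁ v₂ w₂ (q ▷ P) := ⟨_, _, _, IsPullback.of_hasPullback _ _⟩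
    have sqWL : IsPullback w₁.left w₂.left (φ ▷ P).left (GIT.psi aY (x ≫ φ)).left :=
      sqW.map (Over.forget S)
    have sqW'L : IsPullback v₂.left v₁.left (q ▷ P).left w₂.left :=
      sqW'.flip.map (Over.forget S)
    haveI : Surjective v₁.left := MorphismProperty.of_isPullback (P := @Surjective) sqW'L
      (OsA.prop_whiskerRight q P @Surjective (show Surjective q.left from inferInstance))
    have hu : u ∈ Set.range w₁.left := by
      rw [HlA.range_fst_of_isPullback sqWL]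
      exact ⟨h, hh⟩
    obtain ⟨z', hz'⟩ := hu
    obtain ⟨z'', hz''⟩ := v₁.left.surjective z'
    have hu' : (v₁ ≫ w₁) ≫ (φ ▷ P) = (v₁ ≫ w₂) ≫ GIT.psi aY (x ≫ φ) := by
      calc (v₁ ≫ w₁) ≫ (φ ▷ P) = v₁ ≫ w₁ ≫ (φ ▷ P) := Category.assoc _ _ _
        _ = v₁ ≫ w₂ ≫ GIT.psi aY (x ≫ φ) := by rw [sqW.w]
        _ = (v₁ ≫ w₂) ≫ GIT.psi aY (x ≫ φ) := (Category.assoc _ _ _).symm
    have hg' : (v₁ ≫ w₂) ≫ fst H P = (v₂ ≫ fst G P) ≫ q := by
      calc (v₁ ≫ w₂) ≫ fst H P = (v₂ ≫ (q ▷ P)) ≫ fst H P := by rw [sqW'.w]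
        _ = v₂ ≫ (q ▷ P) ≫ fst H P := Category.assoc _ _ _
        _ = v₂ ≫ fst G P ≫ q := by rw [whiskerRight_fst]
        _ = (v₂ ≫ fst G P) ≫ q := (Category.assoc _ _ _).symm
    obtain ⟨T'', r, ρ, hr, hρ⟩ := orbit_cover iN q a aN haN φ hinv aY hequiv x hs (v₁ ≫ w₁)
      (v₁ ≫ w₂) (v₂ ≫ fst G P) hu' hg'
    haveI := hr
    obtain ⟨z''', hz'''⟩ := r.left.surjective z''
    have e1 : ρ.left ≫ (GIT.psi a x).left = r.left ≫ v₁.left ≫ w₁.left := by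
      rw [← Over.comp_left, hρ, Over.comp_left, Over.comp_left]
    refine ⟨ρ.left z''', ?_⟩
    calc (GIT.psi a x).left (ρ.left z''')
        = (ρ.left ≫ (GIT.psi a x).left) z''' := (Scheme.Hom.comp_apply _ _ _).symm
      _ = (r.left ≫ v₁.left ≫ w₁.left) z''' := by rw [e1]
      _ = (v₁.left ≫ w₁.left) (r.left z''') := Scheme.Hom.comp_apply _ _ _
      _ = w₁.left (v₁.left (r.left z''')) := Scheme.Hom.comp_apply _ _ _
      _ = u := by rw [hz''', hz'', hz']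

include haN hequiv in
theorem closed_iff' [Surjective q.left] (hs : Surjective (PsiO aN φ hinv).left)
    (hq : Topology.IsQuotientMap (φ ▷ P).left) :
    IsClosed (Set.range (GIT.psi a x).left.base) ↔
      IsClosed (Set.range (GIT.psi aY (x ≫ φ)).left.base) := by
  have hr := range_psi' iN q a aN haN φ hinv aY hequiv x hs
  change IsClosed (Set.range (GIT.psi a x).left) ↔
    IsClosed (Set.range (GIT.psi aY (x ≫ φ)).left)
  rw [hr]
  exact hq.isClosed_preimage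

include hequiv in
theorem fix_fibre {T : Over S} (t : T ⟶ OsA.stabO aY (x ≫ φ)) (g' : T ⟶ G) (p : T ⟶ P)
    (ht : t ≫ OsA.stabI aY (x ≫ φ) = lift (g' ≫ q) p) :
    (p ≫ x) ≫ φ = (lift g' (p ≫ x) ≫ a.act) ≫ φ := by
  have hfix : lift (g' ≫ q) (p ≫ x ≫ φ) ≫ aY.act = p ≫ x ≫ φ :=
    OsA.stab_fixed aY (x ≫ φ) t (g' ≫ q) p ht
  calc (p ≫ x) ≫ φ = p ≫ x ≫ φ := Category.assoc _ _ _
    _ = lift (g' ≫ q) (p ≫ x ≫ φ) ≫ aY.act := hfix.symm
    _ = lift (g' ≫ q) ((p ≫ x) ≫ φ) ≫ aY.act := by rw [Category.assoc p x φ]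
    _ = (lift g' (p ≫ x) ≫ a.act) ≫ φ := OsA.eqv q a φ aY hequiv g' (p ≫ x)

theorem lift_section' {T : Over S} (t : T ⟶ OsA.stabO aY (x ≫ φ)) (g' : T ⟶ G) (p : T ⟶ P)
    (ht : t ≫ OsA.stabI aY (x ≫ φ) = lift (g' ≫ q) p) (n : T ⟶ N)
    (hn : lift (n ≫ iN) (lift g' (p ≫ x) ≫ a.act) ≫ a.act = p ≫ x)
    (hnq : (n ≫ iN) ≫ q = 1) :
    ∃ r : T ⟶ OsA.stabO a x, r ≫ OsA.theta q a φ aY hequiv x = t := by
  have hg'' : lift ((n ≫ iN) * g') (p ≫ x) ≫ a.act = p ≫ x := by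
    rw [AlgGrp.Action.lift_mul_act, hn]
  obtain ⟨r, hr, hrP⟩ : ∃ r : T ⟶ OsA.stabO a x,
      r ≫ OsA.stabI a x = lift ((n ≫ iN) * g') p ∧ r ≫ OsA.stabP a x = p :=
    ⟨OsA.mkStab a x ((n ≫ iN) * g') p hg'', OsA.mkStab_I a x _ _ _, OsA.mkStab_P a x _ _ _⟩
  refine ⟨r, ?_⟩
  apply OsA.stab_hom_ext aY (x ≫ φ)
  calc (r ≫ OsA.theta q a φ aY hequiv x) ≫ OsA.stabI aY (x ≫ φ)
      = r ≫ OsA.theta q a φ aY hequiv x ≫ OsA.stabI aY (x ≫ φ) := Category.assoc _ _ _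
    _ = r ≫ lift ((OsA.stabI a x ≫ fst G P) ≫ q) (OsA.stabP a x) := by rw [OsA.theta_I]
    _ = lift (r ≫ (OsA.stabI a x ≫ fst G P) ≫ q) (r ≫ OsA.stabP a x) := comp_lift _ _ _
    _ = lift (((r ≫ OsA.stabI a x) ≫ fst G P) ≫ q) (r ≫ OsA.stabP a x) := by
        rw [Category.assoc r (OsA.stabI a x) (fst G P),
          Category.assoc r (OsA.stabI a x ≫ fst G P) q]
    _ = lift (((n ≫ iN) * g') ≫ q) p := by rw [hr, hrP, lift_fst]
    _ = lift (g' ≫ q) p := by rw [MonObj.mul_comp, hnq, _root_.one_mul]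
    _ = t ≫ OsA.stabI aY (x ≫ φ) := ht.symm

include haN in
theorem theta_cover (hs : Surjective (PsiO aN φ hinv).left) (hkw : iN ≫ q = toUnit N ≫ η[H])
    {T : Over S} (t : T ⟶ OsA.stabO aY (x ≫ φ)) (g' : T ⟶ G) (p : T ⟶ P)
    (ht : t ≫ OsA.stabI aY (x ≫ φ) = lift (g' ≫ q) p) :
    ∃ (T'' : Over S) (r : T'' ⟶ T) (ρ : T'' ⟶ OsA.stabO a x), Surjective r.left ∧
      ρ ≫ OsA.theta q a φ aY hequiv x = r ≫ t := by
  have hfib := fix_fibre q a φ aY hequiv x t g' p ht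
  obtain ⟨T'', r, n, hr, hn⟩ := exists_cover_n iN a aN haN φ hinv hs (p ≫ x)
    (lift g' (p ≫ x) ≫ a.act) hfib
  have ht'' : (r ≫ t) ≫ OsA.stabI aY (x ≫ φ) = lift ((r ≫ g') ≫ q) (r ≫ p) := by
    calc (r ≫ t) ≫ OsA.stabI aY (x ≫ φ) = r ≫ t ≫ OsA.stabI aY (x ≫ φ) := Category.assoc _ _ _
      _ = r ≫ lift (g' ≫ q) p := by rw [ht]
      _ = lift (r ≫ g' ≫ q) (r ≫ p) := comp_lift _ _ _
      _ = lift ((r ≫ g') ≫ q) (r ≫ p) := by rw [Category.assoc r g' q]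
  have hn'' : lift (n ≫ iN) (lift (r ≫ g') ((r ≫ p) ≫ x) ≫ a.act) ≫ a.act = (r ≫ p) ≫ x := by
    rw [comp_act a x r g' p, hn, Category.assoc]
  have hnq : (n ≫ iN) ≫ q = 1 := by
    calc (n ≫ iN) ≫ q = n ≫ iN ≫ q := Category.assoc _ _ _
      _ = n ≫ toUnit N ≫ η[H] := by rw [hkw]
      _ = n ≫ (1 : N ⟶ H) := by rw [Hom.one_def]
      _ = 1 := MonObj.comp_one n
  obtain ⟨ρ, hρ⟩ := lift_section' iN q a φ aY hequiv x (r ≫ t) (r ≫ g') (r ≫ p) ht'' n hn'' hnq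
  exact ⟨T'', r, ρ, hr, hρ⟩

include haN in
theorem surjective_theta' [Surjective q.left] (hs : Surjective (PsiO aN φ hinv).left)
    (hkw : iN ≫ q = toUnit N ≫ η[H]) :
    Surjective (OsA.theta q a φ aY hequiv x).left := by
  obtain ⟨G', π₁, π₂, sq⟩ : ∃ (G' : Over S) (π₁ : G' ⟶ OsA.stabO aY (x ≫ φ))
      (π₂ : G' ⟶ G ⊗ P), IsPullback π₁ π₂ (OsA.stabI aY (x ≫ φ)) (q ▷ P) :=
    ⟨_, _, _, IsPullback.of_hasPullback _ _⟩
  have ht : π₁ ≫ OsA.stabI aY (x ≫ φ) = lift ((π₂ ≫ fst G P) ≫ q) (π₂ ≫ snd G P) := by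
    apply CartesianMonoidalCategory.hom_ext
    · rw [lift_fst, sq.w, Category.assoc, whiskerRight_fst, Category.assoc]
    · rw [lift_snd, sq.w, Category.assoc, whiskerRight_snd]
  obtain ⟨T'', r, ρ, hr, hρ⟩ := theta_cover iN q a aN haN φ hinv aY hequiv x hs hkw π₁ _ _ ht
  haveI := hr
  haveI hs1 : Surjective π₁.left := by
    have sq' : IsPullback π₂.left π₁.left (q ▷ P).left (OsA.stabI aY (x ≫ φ)).left :=
      (sq.flip).map (Over.forget S)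
    exact MorphismProperty.of_isPullback (P := @Surjective) sq'
      (OsA.prop_whiskerRight q P @Surjective (show Surjective q.left from inferInstance))
  have e : ρ.left ≫ (OsA.theta q a φ aY hequiv x).left = r.left ≫ π₁.left := by
    rw [← Over.comp_left, hρ, Over.comp_left]
  haveI : Surjective (ρ.left ≫ (OsA.theta q a φ aY hequiv x).left) := by
    rw [e]
    infer_instance
  exact Surjective.of_comp ρ.left _

end Gen

end Groth.Agent.H4.OsF
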