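import Mathlib
import Groth.Prelude.Def_ChGrp
import Groth.Prelude.Def_GLinSh
import Groth.Prelude.Def_W4bk4git07Quot
import Groth.Agent.H4.OsA
import Groth.Agent.H4.OsF
import Groth.Agent.H4.TbD

/-!
# Closed orbits and finite stabilisers through a geometric quotient by a normal subgroup (helper4)
-/

set_option autoImplicit false
universe u
open CategoryTheory MonoidalCategory CartesianMonoidalCategory MonObj GrpObj AlgebraicGeometry
  CategoryTheory.Limits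

namespace Groth.Agent.H4.OsG

open Groth.Agent.H4

section Pts

theorem exists_point_of_isPullback {P A B D : Scheme.{u}} {fst : P ⟶ A} {snd : P ⟶ B}
    {g₁ : A ⟶ D} {g₂ : B ⟶ D} (h : IsPullback fst snd g₁ g₂) (a : A) (b : B)
    (hab : g₁ a = g₂ b) : ∃ p : P, fst p = a ∧ snd p = b := by
  obtain ⟨z, hz1, hz2⟩ := Scheme.Pullback.exists_preimage_pullback (f := g₁) (g := g₂) a b hab
  refine ⟨h.isoPullback.inv z, ?_, ?_⟩
  · rw [← Scheme.Hom.comp_apply, IsPullback.isoPullback_inv_fst, hz1]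
  · rw [← Scheme.Hom.comp_apply, IsPullback.isoPullback_inv_snd, hz2]

/-- a surjective morphism locally of finite type onto the spectrum of an algebraically closed
field has a section -/
theorem exists_section_of_surjective {Ω : Type u} [Field Ω] [IsAlgClosed Ω] {Z T : Scheme.{u}}
    (g : Z ⟶ T) (e : T ≅ Spec (CommRingCat.of Ω)) [LocallyOfFiniteType g] [Surjective g] :
    ∃ s : T ⟶ Z, s ≫ g = 𝟙 T := by
  haveI : LocallyOfFiniteType (g ≫ e.hom) := inferInstance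
  haveI : JacobsonSpace ↥Z := LocallyOfFiniteType.jacobsonSpace (g ≫ e.hom)
  haveI : Nonempty ↥Z := by
    obtain ⟨z, _⟩ := g.surjective (e.inv (IsLocalRing.closedPoint Ω))
    exact ⟨z⟩
  obtain ⟨z, -, hz⟩ := nonempty_inter_closedPoints (X := ↥Z) Set.univ_nonempty
    isOpen_univ.isLocallyClosed
  have h := pointOfClosedPoint_comp (g ≫ e.hom) z hz
  refine ⟨e.hom ≫ pointOfClosedPoint (g ≫ e.hom) z hz, ?_⟩
  calc (e.hom ≫ pointOfClosedPoint (g ≫ e.hom) z hz) ≫ g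
      = e.hom ≫ (pointOfClosedPoint (g ≫ e.hom) z hz ≫ g ≫ e.hom) ≫ e.inv := by
        simp only [Category.assoc, Iso.hom_inv_id, Category.comp_id]
    _ = 𝟙 T := by rw [h, Category.id_comp, Iso.hom_inv_id]

/-- geometric points lift along surjective morphisms locally of finite type -/
theorem exists_lift_geom {S : Scheme.{u}} {X Y T : Over S} (π : X ⟶ Y)
    [LocallyOfFiniteType π.left] [Surjective π.left] {Ω : Type u} [Field Ω] [IsAlgClosed Ω]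
    (e : T.left ≅ Spec (CommRingCat.of Ω)) (y : T ⟶ Y) : ∃ x : T ⟶ X, x ≫ π = y := by
  obtain ⟨Z, z₁, z₂, sq⟩ : ∃ (Z : Over S) (z₁ : Z ⟶ X) (z₂ : Z ⟶ T), IsPullback z₁ z₂ π y :=
    ⟨_, _, _, IsPullback.of_hasPullback _ _⟩
  have sqL : IsPullback z₁.left z₂.left π.left y.left := sq.map (Over.forget S)
  haveI : LocallyOfFiniteType z₂.left :=
    MorphismProperty.of_isPullback (P := @LocallyOfFiniteType) sqL inferInstance
  haveI : Surjective z₂.left :=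
    MorphismProperty.of_isPullback (P := @Surjective) sqL inferInstance
  obtain ⟨s, hs⟩ := exists_section_of_surjective z₂.left e
  have hsw : s ≫ Z.hom = T.hom := by
    rw [← Over.w z₂, ← Category.assoc, hs, Category.id_comp]
  have h1 : (Over.homMk s hsw : T ⟶ Z) ≫ z₂ = 𝟙 T := by
    apply Over.OverMorphism.ext
    exact hs
  refine ⟨Over.homMk s hsw ≫ z₁, ?_⟩
  rw [Category.assoc, sq.w, ← Category.assoc, h1, Category.id_comp]

end Pts

section Fib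

variable {S : Scheme.{u}} {G N H X Y P : Over S} [GrpObj G] [GrpObj N] [GrpObj H]
  (iN : N ⟶ G) [IsMonHom iN] (q : G ⟶ H) [IsMonHom q]
  (a : AlgGrp.Action G X) (aN : AlgGrp.Action N X) (haN : aN.act = (iN ▷ X) ≫ a.act)
  (φ : X ⟶ Y)
  (aY : AlgGrp.Action H Y) (hequiv : (q ⊗ₘ φ) ≫ aY.act = a.act ≫ φ)
  (x : P ⟶ X)

theorem theta_eq_data {T : Over S} (s₁ s₂ : T ⟶ OsA.stabO a x)
    (h : s₁ ≫ OsA.theta q a φ aY hequiv x = s₂ ≫ OsA.theta q a φ aY hequiv x) :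
    s₁ ≫ OsA.stabP a x = s₂ ≫ OsA.stabP a x ∧
      (s₁ ≫ OsA.stabI a x ≫ fst G P) ≫ q = (s₂ ≫ OsA.stabI a x ≫ fst G P) ≫ q := by
  have hP : s₁ ≫ OsA.stabP a x = s₂ ≫ OsA.stabP a x := by
    calc s₁ ≫ OsA.stabP a x
        = s₁ ≫ OsA.theta q a φ aY hequiv x ≫ OsA.stabP aY (x ≫ φ) := by rw [OsA.theta_P]
      _ = (s₁ ≫ OsA.theta q a φ aY hequiv x) ≫ OsA.stabP aY (x ≫ φ) :=
          (Category.assoc _ _ _).symm
      _ = (s₂ ≫ OsA.theta q a φ aY hequiv x) ≫ OsA.stabP aY (x ≫ φ) := by rw [h]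
      _ = s₂ ≫ OsA.theta q a φ aY hequiv x ≫ OsA.stabP aY (x ≫ φ) := Category.assoc _ _ _
      _ = s₂ ≫ OsA.stabP a x := by rw [OsA.theta_P]
  have t : ∀ s : T ⟶ OsA.stabO a x, (s ≫ OsA.stabI a x ≫ fst G P) ≫ q =
      (s ≫ OsA.theta q a φ aY hequiv x) ≫ OsA.stabI aY (x ≫ φ) ≫ fst H P := by
    intro s
    calc (s ≫ OsA.stabI a x ≫ fst G P) ≫ q
        = s ≫ (OsA.stabI a x ≫ fst G P) ≫ q := Category.assoc _ _ _
      _ = s ≫ lift ((OsA.stabI a x ≫ fst G P) ≫ q) (OsA.stabP a x) ≫ fst H P := by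
          rw [lift_fst]
      _ = s ≫ (OsA.theta q a φ aY hequiv x ≫ OsA.stabI aY (x ≫ φ)) ≫ fst H P := by
          rw [OsA.theta_I]
      _ = s ≫ OsA.theta q a φ aY hequiv x ≫ OsA.stabI aY (x ≫ φ) ≫ fst H P := by
          rw [Category.assoc (OsA.theta q a φ aY hequiv x)]
      _ = (s ≫ OsA.theta q a φ aY hequiv x) ≫ OsA.stabI aY (x ≫ φ) ≫ fst H P :=
          (Category.assoc _ _ _).symm
  exact ⟨hP, by rw [t s₁, t s₂, h]⟩

include haN in
/-- the fibres of `Stab_G(x) ⟶ Stab_H(y)` are finite when `Stab_N(x)` is finite -/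
theorem finite_fibres_theta (hk : IsPullback iN (toUnit N) q η[H])
    [hfN : IsFinite (GLinSh.stabTo aN x)] (b : ↥(OsA.stabO aY (x ≫ φ)).left) :
    ((OsA.theta q a φ aY hequiv x).left ⁻¹' {b}).Finite := by
  -- the product of the two stabilisers
  obtain ⟨E, e₁, e₂, sqE⟩ : ∃ (E : Over S) (e₁ : E ⟶ OsA.stabO aN x) (e₂ : E ⟶ OsA.stabO a x),
      IsPullback e₁ e₂ (OsA.stabP aN x) (OsA.stabP a x) := ⟨_, _, _, IsPullback.of_hasPullback _ _⟩
  obtain ⟨nE, hnE⟩ : ∃ nE, nE = e₁ ≫ OsA.stabI aN x ≫ fst N P := ⟨_, rfl⟩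
  obtain ⟨hE, hhE⟩ : ∃ hE, hE = e₂ ≫ OsA.stabI a x ≫ fst G P := ⟨_, rfl⟩
  obtain ⟨pE, hpE⟩ : ∃ pE, pE = e₂ ≫ OsA.stabP a x := ⟨_, rfl⟩
  have hpE' : e₁ ≫ OsA.stabP aN x = pE := by rw [hpE]; exact sqE.w
  have fixN : lift nE (pE ≫ x) ≫ aN.act = pE ≫ x := by
    have h0 := OsA.stab_fixed aN x e₁ (e₁ ≫ OsA.stabI aN x ≫ fst N P) (e₁ ≫ OsA.stabP aN x)
      (OsA.comp_stabI aN x e₁)
    rw [hpE', ← hnE] at h0
    exact h0
  have fixN' : lift (nE ≫ iN) (pE ≫ x) ≫ a.act = pE ≫ x := by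
    rw [← OsF.lift_aN iN a aN haN]
    exact fixN
  have fixH : lift hE (pE ≫ x) ≫ a.act = pE ≫ x := by
    have h0 := OsA.stab_fixed a x e₂ (e₂ ≫ OsA.stabI a x ≫ fst G P) (e₂ ≫ OsA.stabP a x)
      (OsA.comp_stabI a x e₂)
    rw [← hpE, ← hhE] at h0
    exact h0
  have fixM : lift ((nE ≫ iN) * hE) (pE ≫ x) ≫ a.act = pE ≫ x := by
    rw [AlgGrp.Action.lift_mul_act, fixH, fixN']
  obtain ⟨mm, mmI, mmP⟩ : ∃ mm : E ⟶ OsA.stabO a x,
      mm ≫ OsA.stabI a x = lift ((nE ≫ iN) * hE) pE ∧ mm ≫ OsA.stabP a x = pE :=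
    ⟨OsA.mkStab a x _ _ fixM, OsA.mkStab_I a x _ _ _, OsA.mkStab_P a x _ _ _⟩
  -- the fibre square of θ
  obtain ⟨D, d₁, d₂, sqD⟩ : ∃ (D : Over S) (d₁ d₂ : D ⟶ OsA.stabO a x),
      IsPullback d₁ d₂ (OsA.theta q a φ aY hequiv x) (OsA.theta q a φ aY hequiv x) :=
    ⟨_, _, _, IsPullback.of_hasPullback _ _⟩
  obtain ⟨hP, hq⟩ := theta_eq_data q a φ aY hequiv x d₁ d₂ sqD.w
  obtain ⟨h₁, hh₁⟩ : ∃ h₁, h₁ = d₁ ≫ OsA.stabI a x ≫ fst G P := ⟨_, rfl⟩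
  obtain ⟨h₂, hh₂⟩ : ∃ h₂, h₂ = d₂ ≫ OsA.stabI a x ≫ fst G P := ⟨_, rfl⟩
  obtain ⟨pD, hpD⟩ : ∃ pD, pD = d₂ ≫ OsA.stabP a x := ⟨_, rfl⟩
  rw [← hh₁, ← hh₂] at hq
  rw [← hpD] at hP
  have fix₁ : lift h₁ (pD ≫ x) ≫ a.act = pD ≫ x := by
    have h0 := OsA.stab_fixed a x d₁ (d₁ ≫ OsA.stabI a x ≫ fst G P) (d₁ ≫ OsA.stabP a x)
      (OsA.comp_stabI a x d₁)
    rw [hP, ← hh₁] at h0
    exact h0
  have fix₂ : lift h₂ (pD ≫ x) ≫ a.act = pD ≫ x := by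
    have h0 := OsA.stab_fixed a x d₂ (d₂ ≫ OsA.stabI a x ≫ fst G P) (d₂ ≫ OsA.stabP a x)
      (OsA.comp_stabI a x d₂)
    rw [← hpD, ← hh₂] at h0
    exact h0
  have hδq : (h₁ * h₂⁻¹) ≫ q = 1 := by
    rw [MonObj.mul_comp, GrpObj.inv_comp, hq, _root_.mul_inv_cancel]
  have hδq' : (h₁ * h₂⁻¹) ≫ q = toUnit D ≫ η[H] := by rw [hδq, Hom.one_def]
  obtain ⟨nD, hnD⟩ : ∃ nD : D ⟶ N, nD ≫ iN = h₁ * h₂⁻¹ :=
    ⟨hk.lift _ (toUnit D) hδq', hk.lift_fst _ _ _⟩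
  have fixδ : lift (h₁ * h₂⁻¹) (pD ≫ x) ≫ a.act = pD ≫ x := by
    rw [AlgGrp.Action.lift_mul_act, OsA.inv_fix a h₂ _ fix₂, fix₁]
  have fixnD : lift nD (pD ≫ x) ≫ aN.act = pD ≫ x := by
    rw [OsF.lift_aN iN a aN haN, hnD, fixδ]
  obtain ⟨κ₁, κ₁I, κ₁P⟩ : ∃ κ₁ : D ⟶ OsA.stabO aN x,
      κ₁ ≫ OsA.stabI aN x = lift nD pD ∧ κ₁ ≫ OsA.stabP aN x = pD :=
    ⟨OsA.mkStab aN x _ _ fixnD, OsA.mkStab_I aN x _ _ _, OsA.mkStab_P aN x _ _ _⟩
  obtain ⟨κ, κ1, κ2⟩ : ∃ κ : D ⟶ E, κ ≫ e₁ = κ₁ ∧ κ ≫ e₂ = d₂ :=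
    ⟨sqE.lift κ₁ d₂ (by rw [κ₁P, hpD]), sqE.lift_fst _ _ _, sqE.lift_snd _ _ _⟩
  have hκn : κ ≫ nE = nD := by
    calc κ ≫ nE = κ ≫ e₁ ≫ OsA.stabI aN x ≫ fst N P := by rw [hnE]
      _ = (κ ≫ e₁) ≫ OsA.stabI aN x ≫ fst N P := (Category.assoc _ _ _).symm
      _ = κ₁ ≫ OsA.stabI aN x ≫ fst N P := by rw [κ1]
      _ = (κ₁ ≫ OsA.stabI aN x) ≫ fst N P := (Category.assoc _ _ _).symm
      _ = nD := by rw [κ₁I, lift_fst]
  have hκh : κ ≫ hE = h₂ := by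
    calc κ ≫ hE = κ ≫ e₂ ≫ OsA.stabI a x ≫ fst G P := by rw [hhE]
      _ = (κ ≫ e₂) ≫ OsA.stabI a x ≫ fst G P := (Category.assoc _ _ _).symm
      _ = h₂ := by rw [κ2, hh₂]
  have hκp : κ ≫ pE = pD := by
    calc κ ≫ pE = κ ≫ e₂ ≫ OsA.stabP a x := by rw [hpE]
      _ = (κ ≫ e₂) ≫ OsA.stabP a x := (Category.assoc _ _ _).symm
      _ = pD := by rw [κ2, hpD]
  have key : κ ≫ mm = d₁ := by
    apply OsA.stab_hom_ext a x
    calc (κ ≫ mm) ≫ OsA.stabI a x = κ ≫ mm ≫ OsA.stabI a x := Category.assoc _ _ _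
      _ = κ ≫ lift ((nE ≫ iN) * hE) pE := by rw [mmI]
      _ = lift (κ ≫ ((nE ≫ iN) * hE)) (κ ≫ pE) := comp_lift _ _ _
      _ = lift (((κ ≫ nE) ≫ iN) * (κ ≫ hE)) (κ ≫ pE) := by
          rw [MonObj.comp_mul, Category.assoc κ nE iN]
      _ = lift ((h₁ * h₂⁻¹) * h₂) pD := by rw [hκn, hκh, hκp, hnD]
      _ = lift h₁ pD := by rw [_root_.inv_mul_cancel_right]
      _ = lift (d₁ ≫ OsA.stabI a x ≫ fst G P) (d₁ ≫ OsA.stabP a x) := by rw [hh₁, hP]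
      _ = d₁ ≫ OsA.stabI a x := (OsA.comp_stabI a x d₁).symm
  -- points
  have hDL : IsPullback d₁.left d₂.left (OsA.theta q a φ aY hequiv x).left
      (OsA.theta q a φ aY hequiv x).left := sqD.map (Over.forget S)
  have hEL : IsPullback e₁.left e₂.left (GLinSh.stabTo aN x) (GLinSh.stabTo a x) :=
    sqE.map (Over.forget S)
  haveI : IsFinite e₂.left :=
    MorphismProperty.of_isPullback (P := @IsFinite) hEL hfN
  by_cases hne : ((OsA.theta q a φ aY hequiv x).left ⁻¹' {b}).Nonempty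
  · obtain ⟨h₂', hh₂'⟩ := hne
    have hh₂'' : (OsA.theta q a φ aY hequiv x).left h₂' = b := hh₂'
    refine ((Scheme.Hom.finite_preimage_singleton e₂.left h₂').image mm.left).subset ?_
    intro h₁' hh₁'
    have hh₁'' : (OsA.theta q a φ aY hequiv x).left h₁' = b := hh₁'
    obtain ⟨d, hd1, hd2⟩ := exists_point_of_isPullback hDL h₁' h₂' (hh₁''.trans hh₂''.symm)
    refine ⟨κ.left d, ?_, ?_⟩
    · show e₂.left (κ.left d) = h₂'
      rw [← Scheme.Hom.comp_apply, ← Over.comp_left, κ2, hd2]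
    · show mm.left (κ.left d) = h₁'
      rw [← Scheme.Hom.comp_apply, ← Over.comp_left, key, hd1]
  · rw [Set.not_nonempty_iff_eq_empty.mp hne]
    exact Set.finite_empty

include haN hequiv in
theorem finite_iff' {Ω : Type u} [Field Ω] (e : P.left ≅ Spec (CommRingCat.of Ω))
    [LocallyOfFiniteType G.hom] [LocallyOfFiniteType H.hom] [Surjective q.left]
    (hinv : GIT.IsInvariant aN φ) (hs : Surjective (OsF.PsiO aN φ hinv).left)
    (hk : IsPullback iN (toUnit N) q η[H]) [IsFinite (GLinSh.stabTo aN x)] :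
    IsFinite (GLinSh.stabTo aY (x ≫ φ)) ↔ IsFinite (GLinSh.stabTo a x) := by
  haveI := OsA.subsingleton_of_iso e
  haveI := OsA.lft_stabTo a x
  haveI := OsA.lft_stabTo aY (x ≫ φ)
  constructor
  · intro h
    haveI := h
    have h1' : Finite ↥(GLinSh.stab aY (x ≫ φ)) :=
      OsA.finite_of_isFinite (GLinSh.stabTo aY (x ≫ φ))
    haveI h1 : Finite ↥(OsA.stabO aY (x ≫ φ)).left := h1'
    have hfin : ((OsA.theta q a φ aY hequiv x).left ⁻¹'
        (Set.univ : Set ↥(OsA.stabO aY (x ≫ φ)).left)).Finite :=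
      Set.Finite.preimage' Set.finite_univ
        (fun b _ => finite_fibres_theta iN q a aN haN φ aY hequiv x hk b)
    rw [Set.preimage_univ] at hfin
    haveI h2 : Finite ↥(GLinSh.stab a x) := Set.finite_univ_iff.mp hfin
    exact OsA.isFinite_of_finite (GLinSh.stabTo a x) e
  · intro h
    haveI := h
    have h1' : Finite ↥(GLinSh.stab a x) := OsA.finite_of_isFinite (GLinSh.stabTo a x)
    haveI h1 : Finite ↥(OsA.stabO a x).left := h1'
    haveI : Surjective (OsA.theta q a φ aY hequiv x).left :=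
      OsF.surjective_theta' iN q a aN haN φ hinv aY hequiv x hs hk.w
    haveI h2 : Finite ↥(GLinSh.stab aY (x ≫ φ)) :=
      Finite.of_surjective _ (OsA.theta q a φ aY hequiv x).left.surjective
    exact OsA.isFinite_of_finite (GLinSh.stabTo aY (x ≫ φ)) e

end Fib

section Mains

variable {S : Scheme.{u}} {G N H X Y : Over S} [GrpObj G] [GrpObj N] [GrpObj H]

theorem main18 [LocallyOfFiniteType X.hom]
    (iN : N ⟶ G) [IsMonHom iN] (q : G ⟶ H) [IsMonHom q] [Surjective q.left]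
    (a : AlgGrp.Action G X) (aN : AlgGrp.Action N X) (haN : aN.act = (iN ▷ X) ≫ a.act)
    (π : X ⟶ Y) (hπ : GIT.IsGeomQuot aN π)
    (aY : AlgGrp.Action H Y) (hequiv : (q ⊗ₘ π) ≫ aY.act = a.act ≫ π) :
    GIT.IsClosedAction aY ↔ GIT.IsClosedAction a := by
  have hs := OsF.surjective_PsiO aN π hπ.inv hπ.orbit
  have hq : ∀ T : Over S, Topology.IsQuotientMap (π ▷ T).left := by
    intro T
    have sqf : IsPullback (π ▷ T).left (fst X T).left (fst Y T).left π.left :=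
      (TbD.isPullback_whiskerRight_fst π T).map (Over.forget S)
    exact hπ.subm _ _ _ sqf
  haveI : LocallyOfFiniteType (π.left ≫ Y.hom) := by rw [Over.w π]; infer_instance
  haveI : LocallyOfFiniteType π.left := locallyOfFiniteType_of_comp π.left Y.hom
  haveI : Surjective π.left := ⟨hπ.surj⟩
  constructor
  · intro h Ω _ _ T e x
    exact (OsF.closed_iff' iN q a aN haN π hπ.inv aY hequiv x hs (hq T)).mpr (h Ω T e (x ≫ π))
  · intro h Ω _ _ T e y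
    obtain ⟨x, hx⟩ := exists_lift_geom π e y
    rw [← hx]
    exact (OsF.closed_iff' iN q a aN haN π hπ.inv aY hequiv x hs (hq T)).mp (h Ω T e x)

theorem main19 [LocallyOfFiniteType G.hom] [LocallyOfFiniteType H.hom]
    (iN : N ⟶ G) [IsMonHom iN] (q : G ⟶ H) [IsMonHom q] [Surjective q.left]
    (hker : AlgGrp.IsKernel iN q)
    (a : AlgGrp.Action G X) (aN : AlgGrp.Action N X) (haN : aN.act = (iN ▷ X) ≫ a.act)
    (hfin : ∀ (Ω : Type u) [Field Ω] [IsAlgClosed Ω] (T : Over S)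
      (_ : T.left ≅ Spec (CommRingCat.of Ω)) (f : T ⟶ X), IsFinite (GLinSh.stabTo aN f))
    (π : X ⟶ Y) (hπ : GIT.IsGeomQuot aN π)
    (aY : AlgGrp.Action H Y) (hequiv : (q ⊗ₘ π) ≫ aY.act = a.act ≫ π)
    (Ω : Type u) [Field Ω] [IsAlgClosed Ω] (T : Over S)
    (e : T.left ≅ Spec (CommRingCat.of Ω)) (x : T ⟶ X) :
    IsFinite (GLinSh.stabTo aY (x ≫ π)) ↔ IsFinite (GLinSh.stabTo a x) := by
  have hk : IsPullback iN (toUnit N) q η[H] := hker
  have hs := OsF.surjective_PsiO aN π hπ.inv hπ.orbit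
  haveI := hfin Ω T e x
  exact finite_iff' iN q a aN haN π aY hequiv x e hπ.inv hs hk

end Mains

end Groth.Agent.H4.OsG
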