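import Mathlib
import Groth.Prelude.Def_KSix
import Groth.Agent.H4.FAmp4
import Groth.Agent.H4.FAmp7
import Groth.Agent.H4.RelTor3

set_option autoImplicit false
universe u
attribute [local instance] HasDerivedCategory.standard
open CategoryTheory CategoryTheory.Limits AlgebraicGeometry Groth.Agent.LD.QC DerivedCategory
open Groth.Agent.H4.PSch1 Groth.Agent.H4.PSch2 Groth.Agent.H4.PSch3 Groth.Agent.H4.PSch4
open Groth.Agent.H4.PSch5 Groth.Agent.H4.PSch6 Groth.Agent.H4.TilD9 Groth.Agent.H4.TilD10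
open Groth.Agent.H4.TilD11 Groth.Agent.H4.PCS6 Groth.Agent.H4.FAmp1 Groth.Agent.H4.FAmp2
  Groth.Agent.H4.FAmp3 Groth.Agent.H4.FAmp4

namespace Groth.Agent.H4.PAmp1

variable {X : Scheme.{u}}

/-- perfect amplitude at a point, in terms of derived restriction -/
def PerfAmpAt (m n : ℤ) (K : DCoh.D X) (x : X) : Prop :=
  ∃ (U : Scheme.{u}) (j : U ⟶ X) (_ : IsOpenImmersion j) (E : CochainComplex U.Modules ℤ),
    x ∈ Set.range j ∧ DCoh.VanishesOutside E m n ∧ (∀ i : ℤ, FlatMod.IsFinLocFree (E.X i)) ∧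
      Nonempty ((RD j).obj K ≅ Q.obj E)

theorem hasPerfectAmplitudeIn_iff (m n : ℤ) (K : DCoh.D X) :
    KSix.HasPerfectAmplitudeIn m n K ↔ ∀ x, PerfAmpAt m n K x := by
  constructor
  · intro h x
    obtain ⟨V, hxV, hV⟩ := h x
    let F := Q.objPreimage K
    have e : Q.obj F ≅ K := Q.objObjPreimageIso K
    obtain ⟨E, hE, hfl, ⟨e1⟩⟩ := hV F ⟨e⟩
    refine ⟨↑V, V.ι, inferInstance, E, ?_, hE, hfl,
      ⟨(RD V.ι).mapIso e.symm ≪≫ RDfac V.ι F ≪≫ e1⟩⟩
    rw [Scheme.Opens.range_ι]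
    exact hxV
  · intro h x
    obtain ⟨U, j, hj, E, hx, hE, hfl, ⟨e1⟩⟩ := h x
    refine ⟨j.opensRange, hx, ?_⟩
    intro F ⟨eF⟩
    have key : ∀ (ι' : ↑j.opensRange ⟶ X) [IsOpenImmersion ι'], ι' = j.isoOpensRange.inv ≫ j →
        ∃ E' : CochainComplex (↑j.opensRange : Scheme.{u}).Modules ℤ, DCoh.VanishesOutside E' m n ∧
          (∀ i : ℤ, FlatMod.IsFinLocFree (E'.X i)) ∧
          Nonempty (Q.obj ((resCx ι').obj F) ≅ Q.obj E') := by
      intro ι' _ hι'
      obtain ⟨e2⟩ := nonempty_RD_iso_shrink j.isoOpensRange.inv j ι' hι' K E e1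
      exact ⟨(resCx j.isoOpensRange.inv).obj E,
        fun i hi => (Scheme.Modules.restrictFunctor j.isoOpensRange.inv).map_isZero (hE i hi),
        fun i => isFinLocFree_restrict j.isoOpensRange.inv _ (hfl i),
        ⟨(RDfac ι' F).symm ≪≫ (RD ι').mapIso eF ≪≫ e2⟩⟩
    exact key j.opensRange.ι (Scheme.Hom.isoOpensRange_inv_comp j).symm

/-- flat amplitude in `[a, b]` and `(a - 1)`-pseudo-coherence at `x` give perfect amplitude
`[a, b]` at `x` -/
theorem perfAmpAt_of_flat_of_pcAt (F : CochainComplex X.Modules ℤ) (a b : ℤ) (hab : a ≤ b)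
    (hF : DCoh.VanishesOutside F a b) (hflat : ∀ i, FlatMod.IsFlat (F.X i)) (x : X)
    (h : PCAt (a - 1) (Q.obj F) x) : PerfAmpAt a b (Q.obj F) x := by
  obtain ⟨U, j, hj, hx, P, g, a', b', hP, hfree, hg⟩ := exists_locFreeWit_of_pcAt (a - 1) F x h
  have hPf : ∀ n, FlatMod.IsFinLocFree (P.X n) := fun n => by
    obtain ⟨k, ⟨e⟩⟩ := hfree n
    exact isFinLocFree_of_iso e.symm (isFinLocFree_freeMod U k)
  have hPflat : ∀ n, FlatMod.IsFlat (P.X n) := fun n => isFlat_of_isFinLocFree _ (hPf n)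
  have hF'flat : ∀ n, FlatMod.IsFlat (((resCx j).obj F).X n) := fun n =>
    isFlat_restrict j (F.X n) (hflat n)
  have hF'z : ∀ i, i < a ∨ b < i → IsZero (((resCx j).obj F).X i) := fun i hi =>
    (Scheme.Modules.restrictFunctor j).map_isZero (hF i hi)
  have hN : FlatMod.IsFlat (P.opcycles a) :=
    prop_opcycles kerClosed_isFlat g a (max b b') hPflat
      (fun i hi => hP i (Or.inr (by omega))) hF'flat (fun i hi => hF'z i (Or.inl hi))
      (fun i hi => hF'z i (Or.inr (by omega))) hg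
  have hNf : FlatMod.IsFinLocFree (P.opcycles a) :=
    isFinLocFree_of_isFlat _ (isFinitePresentation_opcycles P hPf a) hN
  have hPsp : DCoh.IsStrictlyPerfect P := ⟨⟨a', b', hP⟩, hPf⟩
  haveI : ((resCx j).obj F).IsStrictlyGE a := by
    rw [CochainComplex.isStrictlyGE_iff]
    exact fun i hi => hF'z i (Or.inl hi)
  obtain ⟨e⟩ := nonempty_iso_truncGE g a hg
  -- the lower truncation
  let P₁ := P.truncGE a
  obtain ⟨⟨a₁, b₁, hP₁z⟩, hP₁f⟩ := isStrictlyPerfect_truncGE P hPsp a hNf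
  have hP₁a : ∀ i, i < a → IsZero (P₁.X i) := fun i hi =>
    CochainComplex.isZero_of_isStrictlyGE (P.truncGE a) a i hi
  -- exactness above `b`
  have hex : ∀ i, b < i → P₁.ExactAt i := by
    intro i hi
    rw [HomologicalComplex.exactAt_iff_isZero_homology]
    have h1 : IsZero ((homologyFunctor U.Modules i).obj (Q.obj ((resCx j).obj F))) := by
      refine IsZero.of_iso ?_ ((homologyFunctorFactors U.Modules i).app _)
      exact ShortComplex.isZero_homology_of_isZero_X₂ _ (hF'z i (Or.inr hi))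
    exact (h1.of_iso ((homologyFunctor U.Modules i).mapIso e.symm)).of_iso
      ((homologyFunctorFactors U.Modules i).app P₁).symm
  have hker : FlatMod.IsFinLocFree (kernel (P₁.d b (b + 1))) :=
    prop_kernel_d kerClosed_isFinLocFree P₁ b₁ (fun i hi => hP₁z i (Or.inr hi)) b
      (fun i _ => hP₁f i) hex b le_rfl
  haveI : P₁.IsLE b := by
    rw [CochainComplex.isLE_iff]
    exact fun i hi => hex i hi
  have hι : IsIso (Q.map (P₁.ιTruncLE b)) := by
    rw [isIso_Q_map_iff_quasiIso]; infer_instance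
  have eZ : P₁.cycles b ≅ kernel (P₁.d b (b + 1)) :=
    IsLimit.conePointUniqueUpToIso (P₁.cyclesIsKernel b (b + 1) (by simp)) (limit.isLimit _)
  refine ⟨U, j, hj, P₁.truncLE b, hx, ?_, ?_,
    ⟨RDfac j F ≪≫ e ≪≫ (@asIso _ _ _ _ (Q.map (P₁.ιTruncLE b)) hι).symm⟩⟩
  · intro i hi
    rcases hi with hi | hi
    · exact (hP₁a i hi).of_iso (P₁.truncLEXIso b i (by omega))
    · exact CochainComplex.isZero_of_isStrictlyLE (P₁.truncLE b) b i hi
  · intro i
    rcases lt_trichotomy i b with h | h | h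
    · exact isFinLocFree_of_iso (P₁.truncLEXIso b i h).symm (hP₁f i)
    · subst h
      exact isFinLocFree_of_iso ((P₁.truncLEXIsoCycles i) ≪≫ eZ).symm hker
    · exact isFinLocFree_of_isZero (CochainComplex.isZero_of_isStrictlyLE (P₁.truncLE b) b i h)

lemma PerfAmpAt.of_iso {m n : ℤ} {K L : DCoh.D X} (e : K ≅ L) (x : X) (h : PerfAmpAt m n K x) :
    PerfAmpAt m n L x := by
  obtain ⟨U, j, hj, E, hx, hE, hfl, ⟨e1⟩⟩ := h
  exact ⟨U, j, hj, E, hx, hE, hfl, ⟨(RD j).mapIso e.symm ≪≫ e1⟩⟩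

/-- perfect amplitude gives pseudo-coherence -/
theorem pcAt_of_perfAmpAt (m n : ℤ) (K : DCoh.D X) (x : X) (h : PerfAmpAt m n K x) (k : ℤ) :
    PCAt k K x := by
  obtain ⟨U, j, hj, E, hx, hE, hfl, ⟨e1⟩⟩ := h
  refine ⟨U, j, hj, E, e1.inv, hx, ⟨⟨m, n, hE⟩, hfl⟩, ?_⟩
  rw [isWitD_iff]
  exact ⟨fun i _ => inferInstance, inferInstance⟩

open Groth.Agent.H4.SPt6 Groth.Agent.H4.RelTor2 Groth.Agent.H4.RelTor3 Groth.Agent.H4.LDS15
  Groth.Agent.H4.TorAmp in
/-- perfect amplitude gives flat amplitude -/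
theorem hasFlatAmplitudeIn_of_perfAmpAt (m n : ℤ) (K : DCoh.D X)
    (h : ∀ x, PerfAmpAt m n K x) : DCoh.HasFlatAmplitudeIn m n K := by
  let F := Q.objPreimage K
  have eF : Q.obj F ≅ K := Q.objObjPreimageIso K
  have h1 : DerSch.HasTorAmplitude (𝟙 X) m n F := by
    intro x
    rw [hasTorAmplitudeAt_id_iff]
    obtain ⟨U, j, hj, E, ⟨y, rfl⟩, hE, hfl, ⟨e1⟩⟩ := h x
    -- on `U`
    let e2 : DCoh.toD U ((resCx j).obj F) ≅ DCoh.toD U E :=
      (RDfac j F).symm ≪≫ (RD j).mapIso eF ≪≫ e1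
    have h2 : DRing.HasTorAmplitudeIn (U.presheaf.stalk y) m n
        (DRing.toD ((stalkCx y).obj ((resCx j).obj F))) :=
      ⟨(stalkCx y).obj E, fun i hi => (DerSch.stalkFunctor U y).map_isZero (hE i hi),
        fun i => isFlat_of_isFinLocFree _ (hfl i) y, ⟨(stalkIsoOfIso y e2).symm⟩⟩
    let e3 : (resCx j).obj F ≅ (pullCx j).obj F :=
      (NatIso.mapHomologicalComplex (Scheme.Modules.restrictFunctorIsoPullback j)
        (ComplexShape.up ℤ)).app F
    have h3 := hasTorAmp_of_iso (DerivedCategory.Q.mapIso ((stalkCx y).mapIso e3 ≪≫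
      stalkPullCxIso j y F)) h2
    exact hasTorAmp_of_ext_faithfullyFlat (j.stalkMap y).hom (faithfullyFlat_stalkMap j y) _ m n h3
  obtain ⟨G, hv, hfl, ⟨e⟩⟩ := hasFlatAmplitudeIn_of_hasTorAmplitude F m n h1
  exact ⟨G, hv, hfl, ⟨e ≪≫ eF⟩⟩

theorem S4275 (X : Scheme.{u}) (E : DCoh.D X) (m n : ℤ) (hmn : m ≤ n) :
    KSix.HasPerfectAmplitudeIn m n E ↔
      DCoh.IsPseudoCoherentD (m - 1) E ∧ DCoh.HasFlatAmplitudeIn m n E := by
  rw [hasPerfectAmplitudeIn_iff, isPseudoCoherentD_iff_pcAt]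
  constructor
  · intro h
    exact ⟨fun x => pcAt_of_perfAmpAt m n E x (h x) (m - 1), hasFlatAmplitudeIn_of_perfAmpAt m n E h⟩
  · rintro ⟨h1, F, hF, hflat, ⟨e⟩⟩ x
    exact PerfAmpAt.of_iso e x (perfAmpAt_of_flat_of_pcAt F m n hmn hF hflat x
      (PCAt.of_iso e.symm x (h1 x)))

end Groth.Agent.H4.PAmp1
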