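import Mathlib
import Groth.Agent.Lib.Helper7.WayOut1

set_option autoImplicit false

open CategoryTheory CategoryTheory.Limits Pretriangulated DerivedCategory

namespace Groth.Agent.H4.PGen1

universe w v u

variable {C : Type u} [Category.{v} C] [Abelian C] [HasDerivedCategory.{w} C]

/-- the formal properties of `m`-pseudo-coherence used in dévissage arguments -/
structure PCLike (P : ℤ → DerivedCategory C → Prop) : Prop where
  of_iso : ∀ {m : ℤ} {K L : DerivedCategory C}, (K ≅ L) → P m K → P m L
  of_isLE : ∀ (m : ℤ) (K : DerivedCategory C), K.IsLE (m - 1) → P m K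
  obj₂ : ∀ (T : Triangle (DerivedCategory C)) (_ : T ∈ distTriang _) (m : ℤ),
    P m T.obj₁ → P m T.obj₃ → P m T.obj₂
  shift : ∀ {m : ℤ} {K : DerivedCategory C} (n : ℤ), P m K → P (m - n) (K⟦n⟧)

variable {P : ℤ → DerivedCategory C → Prop}

lemma PCLike.single (hP : PCLike P) {m : ℤ} (n : ℤ) (M : C)
    (h : P (m - n) ((singleFunctor C 0).obj M)) : P m ((singleFunctor C n).obj M) := by
  have h1 := hP.shift (-n) h
  rw [show m - n - -n = m by omega] at h1
  exact hP.of_iso (((singleFunctors C).shiftIso (-n) n 0 (by omega)).app M) h1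

lemma PCLike.of_isZero (hP : PCLike P) (m : ℤ) {K : DerivedCategory C} (hK : IsZero K) : P m K := by
  apply hP.of_isLE
  rw [isLE_iff]
  intro i _
  exact (homologyFunctor C i).map_isZero hK

/-- objects concentrated in one degree -/
lemma exists_iso_single' (K : DerivedCategory C) (n : ℤ) [K.IsGE n] [K.IsLE n] :
    Nonempty (K ≅ (singleFunctor C n).obj ((homologyFunctor C n).obj K)) := by
  obtain ⟨Y, ⟨e⟩⟩ := exists_iso_singleFunctor_obj_of_isGE_of_isLE K n
  have e' : (homologyFunctor C n).obj K ≅ Y :=
    (homologyFunctor C n).mapIso e ≪≫ (singleFunctorCompHomologyFunctorIso C n).app Y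
  exact ⟨e ≪≫ (singleFunctor C n).mapIso e'.symm⟩

theorem PCLike.of_homology_aux (hP : PCLike P) (d : ℕ) : ∀ (m b : ℤ) (K : DerivedCategory C),
    b < m + d → K.IsLE b →
    (∀ i : ℤ, P (m - i) ((singleFunctor C 0).obj ((homologyFunctor C i).obj K))) → P m K := by
  induction d with
  | zero =>
    intro m b K hb hK _
    haveI := hK
    exact hP.of_isLE m K (TStructure.t.isLE_of_le K b (m - 1) (by push_cast at hb; omega))
  | succ d ih =>
    intro m b K hb hK h
    haveI := hK
    let T := (TStructure.t.triangleLTGE b).obj K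
    have hT : T ∈ distTriang _ := TStructure.t.triangleLTGE_distinguished b K
    have hA : T.obj₁.IsLE (b - 1) := inferInstanceAs (TStructure.t.IsLE T.obj₁ (b - 1))
    have hB : T.obj₃.IsGE b := inferInstanceAs (TStructure.t.IsGE T.obj₃ b)
    have hiso₂ : ∀ i : ℤ, b ≤ i → IsIso ((homologyFunctor C i).map T.mor₂) :=
      fun i hi => Groth.Agent.H7.WayOut.isIso_homology_mor₂ T hT b i hA hi
    have hiso₁ : ∀ i : ℤ, i < b → IsIso ((homologyFunctor C i).map T.mor₁) :=
      fun i hi => Groth.Agent.H7.WayOut.isIso_homology_mor₁ T hT b i hB hi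
    haveI : T.obj₃.IsLE b := by
      rw [isLE_iff]
      intro i hi
      haveI := hiso₂ i (by omega)
      exact (isZero_of_isLE K b i hi).of_iso (asIso ((homologyFunctor C i).map T.mor₂)).symm
    haveI := hB
    obtain ⟨eB⟩ := exists_iso_single' T.obj₃ b
    have hB' : P m T.obj₃ := by
      refine hP.of_iso eB.symm (hP.single b _ ?_)
      haveI := hiso₂ b le_rfl
      exact hP.of_iso ((singleFunctor C 0).mapIso (asIso ((homologyFunctor C b).map T.mor₂)))
        (h b)
    have hA' : P m T.obj₁ := by
      refine ih m (b - 1) T.obj₁ (by push_cast at hb ⊢; omega) hA (fun i => ?_)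
      by_cases hi : i < b
      · haveI := hiso₁ i hi
        exact hP.of_iso ((singleFunctor C 0).mapIso
          (asIso ((homologyFunctor C i).map T.mor₁)).symm) (h i)
      · haveI := hA
        exact hP.of_isZero _ ((singleFunctor C 0).map_isZero
          (isZero_of_isLE T.obj₁ (b - 1) i (by omega)))
    exact hP.obj₂ T hT m hA' hB'

/-- **homology criterion** -/
theorem PCLike.of_homology (hP : PCLike P) (m b : ℤ) (K : DerivedCategory C) [K.IsLE b]
    (h : ∀ i : ℤ, P (m - i) ((singleFunctor C 0).obj ((homologyFunctor C i).obj K))) : P m K :=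
  hP.of_homology_aux (b + 1 - m).toNat m b K (by
    have := Int.self_le_toNat (b + 1 - m); omega) inferInstance h

end Groth.Agent.H4.PGen1
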