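import Mathlib
import Groth.Agent.H4.PCS2
import Groth.Agent.H4.PCS1
import Groth.Agent.H4.PGen1

set_option autoImplicit false

open CategoryTheory CategoryTheory.Limits Pretriangulated DerivedCategory
open Groth.Agent.H4.TilD9 Groth.Agent.H4.PCS1 Groth.Agent.H4.PCS2 Groth.Agent.H4.PGen1

namespace Groth.Agent.H4.PGen2

universe w v u

variable {C : Type u} [Category.{v} C] [Abelian C]

section Cx

variable (K : CochainComplex C ℤ) (a : ℤ)

instance mono_sigmaGEι : Mono (sigmaGEι K a) := by
  apply HomologicalComplex.mono_of_mono_f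
  intro i
  by_cases h : a ≤ i
  · haveI := isIso_sι K a i h
    exact inferInstanceAs (Mono (sι K a i))
  · exact ⟨fun g h' _ => (sX_isZero K a i h).eq_of_tgt _ _⟩

/-- the short exact sequence `0 → σ_{≥ a} K → K → K / σ_{≥ a} K → 0` -/
noncomputable def sigmaSC : ShortComplex (CochainComplex C ℤ) :=
  ShortComplex.mk (sigmaGEι K a) (cokernel.π (sigmaGEι K a)) (cokernel.condition _)

lemma sigmaSC_shortExact : (sigmaSC K a).ShortExact where
  exact := ShortComplex.exact_cokernel _
  mono_f := mono_sigmaGEι K a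
  epi_g := inferInstanceAs (Epi (cokernel.π (sigmaGEι K a)))

/-- the quotient vanishes in degrees `≥ a` -/
lemma isZero_sigmaQ_of_le (i : ℤ) (hi : a ≤ i) : IsZero ((sigmaSC K a).X₃.X i) := by
  have hS := (sigmaSC_shortExact K a).map_of_exact
    (HomologicalComplex.eval C (ComplexShape.up ℤ) i)
  haveI := hS.epi_g
  haveI : IsIso ((sigmaSC K a).map (HomologicalComplex.eval C (ComplexShape.up ℤ) i)).f :=
    isIso_sι K a i hi
  have h0 : ((sigmaSC K a).map (HomologicalComplex.eval C (ComplexShape.up ℤ) i)).g = 0 := by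
    rw [← cancel_epi ((sigmaSC K a).map (HomologicalComplex.eval C (ComplexShape.up ℤ) i)).f,
      ShortComplex.zero, comp_zero]
  exact @IsZero.of_epi_eq_zero _ _ _ _ _
    ((sigmaSC K a).map (HomologicalComplex.eval C (ComplexShape.up ℤ) i)).g hS.epi_g h0

/-- the quotient agrees with `K` in degrees `< a` -/
lemma isIso_sigmaπ_of_lt (i : ℤ) (hi : i < a) : IsIso ((sigmaSC K a).g.f i) := by
  have hS := (sigmaSC_shortExact K a).map_of_exact
    (HomologicalComplex.eval C (ComplexShape.up ℤ) i)
  haveI := hS.epi_g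
  have h0 : ((sigmaSC K a).map (HomologicalComplex.eval C (ComplexShape.up ℤ) i)).f = 0 :=
    (sX_isZero K a i (by omega)).eq_of_src _ _
  haveI : Mono ((sigmaSC K a).map (HomologicalComplex.eval C (ComplexShape.up ℤ) i)).g :=
    hS.exact.mono_g h0
  exact isIso_of_mono_of_epi
    ((sigmaSC K a).map (HomologicalComplex.eval C (ComplexShape.up ℤ) i)).g

end Cx

section Der

variable [HasDerivedCategory.{w} C] {P : ℤ → DerivedCategory C → Prop}

/-- a witness from an object with the property gives the property -/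
lemma _root_.Groth.Agent.H4.PGen1.PCLike.of_wit (hP : PCLike P) {m : ℤ} {A K : DerivedCategory C} (α : A ⟶ K)
    (hα : IsWitD m α) (hA : P m A) : P m K := by
  obtain ⟨Z, g, h, hT⟩ := distinguished_cocone_triangle α
  have hZ : Z.IsLE (m - 1) := (isWitD_iff_isLE _ hT m).1 hα
  exact hP.obj₂ _ hT m hA (hP.of_isLE m Z hZ)

lemma isZero_Q_obj_homology (K : CochainComplex C ℤ) (i : ℤ) (h : IsZero (K.X i)) :
    IsZero ((homologyFunctor C i).obj (Q.obj K)) := by
  refine IsZero.of_iso ?_ ((homologyFunctorFactors C i).app K)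
  exact ShortComplex.isZero_homology_of_isZero_X₂ _ h

theorem _root_.Groth.Agent.H4.PGen1.PCLike.of_termwise_aux (hP : PCLike P) (n : ℕ) : ∀ (K : CochainComplex C ℤ) (a m : ℤ),
    (∀ i : ℤ, i < a ∨ a + n ≤ i → IsZero (K.X i)) →
    (∀ i : ℤ, P (m - i) ((singleFunctor C 0).obj (K.X i))) → P m (Q.obj K) := by
  induction n with
  | zero =>
    intro K a m hz _
    apply hP.of_isLE
    rw [isLE_iff]
    intro i _
    exact isZero_Q_obj_homology K i (hz i (by
      by_cases h : i < a
      · exact Or.inl h
      · right; simp; omega))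
  | succ n ih =>
    intro K a m hz hK
    have hS := sigmaSC_shortExact K (a + 1)
    have hT := triangleOfSES_distinguished hS
    have h1 : P m (Q.obj (sigmaSC K (a + 1)).X₁) := by
      apply ih _ (a + 1) m
      · intro i hi
        rcases hi with hi | hi
        · exact sigmaGE_isZero K (a + 1) i hi
        · exact sigmaGE_isZero' K (a + 1) i (hz i (Or.inr (by push_cast; omega)))
      · intro i
        by_cases hi : a + 1 ≤ i
        · exact hP.of_iso ((singleFunctor C 0).mapIso (sigmaGEXIso K (a + 1) i hi).symm) (hK i)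
        · exact hP.of_isZero _ ((singleFunctor C 0).map_isZero
            (sigmaGE_isZero K (a + 1) i (by omega)))
    have h3 : P m (Q.obj (sigmaSC K (a + 1)).X₃) := by
      have hz3 : ∀ i : ℤ, i ≠ a → IsZero ((sigmaSC K (a + 1)).X₃.X i) := by
        intro i hi
        by_cases h : a + 1 ≤ i
        · exact isZero_sigmaQ_of_le K (a + 1) i h
        · haveI := isIso_sigmaπ_of_lt K (a + 1) i (by omega)
          exact (hz i (Or.inl (by omega))).of_iso (asIso ((sigmaSC K (a + 1)).g.f i)).symm
      haveI : (sigmaSC K (a + 1)).X₃.IsStrictlyGE a := by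
        rw [CochainComplex.isStrictlyGE_iff]
        intro i hi
        exact hz3 i (by omega)
      haveI : (sigmaSC K (a + 1)).X₃.IsStrictlyLE a := by
        rw [CochainComplex.isStrictlyLE_iff]
        intro i hi
        exact hz3 i (by omega)
      obtain ⟨M, ⟨e⟩⟩ := CochainComplex.exists_iso_single (sigmaSC K (a + 1)).X₃ a
      have hiso := isIso_sigmaπ_of_lt K (a + 1) a (by omega)
      have eM : K.X a ≅ M :=
        @asIso _ _ _ _ ((sigmaSC K (a + 1)).g.f a) hiso ≪≫
          (HomologicalComplex.eval C (ComplexShape.up ℤ) a).mapIso e ≪≫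
          HomologicalComplex.singleObjXSelf (ComplexShape.up ℤ) a M
      have h4 : P m ((singleFunctor C a).obj M) :=
        hP.single a M (hP.of_iso ((singleFunctor C 0).mapIso eM) (hK a))
      exact hP.of_iso (((singleFunctorIsoCompQ C a).app M) ≪≫ Q.mapIso e.symm) h4
    exact hP.obj₂ _ hT m h1 h3

/-- **termwise criterion** -/
theorem _root_.Groth.Agent.H4.PGen1.PCLike.of_termwise (hP : PCLike P) (m b : ℤ) (K : CochainComplex C ℤ)
    (hb : ∀ i : ℤ, b < i → IsZero (K.X i))
    (h : ∀ i : ℤ, P (m - i) ((singleFunctor C 0).obj (K.X i))) : P m (Q.obj K) := by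
  refine hP.of_wit (Q.map (sigmaGEι K m)) ((isWitD_Q_map_iff _).2 (isWitCx_sigmaGEι K m)) ?_
  refine hP.of_termwise_aux (b + 1 - m).toNat (sigmaGE K m) m m ?_ ?_
  · intro i hi
    rcases hi with hi | hi
    · exact sigmaGE_isZero K m i hi
    · refine sigmaGE_isZero' K m i (hb i ?_)
      have := Int.self_le_toNat (b + 1 - m)
      omega
  · intro i
    by_cases hi : m ≤ i
    · exact hP.of_iso ((singleFunctor C 0).mapIso (sigmaGEXIso K m i hi).symm) (h i)
    · exact hP.of_isZero _ ((singleFunctor C 0).map_isZero (sigmaGE_isZero K m i (by omega)))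

end Der

end Groth.Agent.H4.PGen2
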