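import Mathlib
import Groth.Agent.Lib.Lead.QC.EpiLocal
import Groth.Agent.Lib.Lead.QCQS.BaseChange
import Groth.Agent.Lib.Helper7.ClImmMod

set_option autoImplicit false
universe u
open CategoryTheory CategoryTheory.Limits AlgebraicGeometry Opposite TopologicalSpace
open Groth.Agent.LD.QC

namespace Groth.Agent.H4.RPC1

variable {Z X : Scheme.{u}} (i : Z ⟶ X)

/-- shrinking: an open of the source of a closed immersion contains the preimage of an open of
the target around any of its points. -/
lemma exists_opens_preimage_le [IsClosedImmersion i] (U : Z.Opens) (z : Z) (hz : z ∈ U) :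
    ∃ V : X.Opens, i z ∈ V ∧ i ⁻¹ᵁ V ≤ U := by
  obtain ⟨V', hV'o, hV'⟩ := (i.isClosedEmbedding.isInducing.isOpen_iff).mp U.2
  refine ⟨⟨V', hV'o⟩, ?_, ?_⟩
  · have : z ∈ i ⁻¹' V' := by rw [hV']; exact hz
    exact this
  · intro y hy
    have : y ∈ i ⁻¹' V' := hy
    rw [hV'] at this
    exact this

/-- every open of the source of a closed immersion is the preimage of an open. -/
lemma exists_opens_preimage_eq [IsClosedImmersion i] (U : Z.Opens) :
    ∃ V : X.Opens, i ⁻¹ᵁ V = U := by
  obtain ⟨V', hV'o, hV'⟩ := (i.isClosedEmbedding.isInducing.isOpen_iff).mp U.2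
  exact ⟨⟨V', hV'o⟩, by ext1; exact hV'⟩

lemma subsingleton_sections_of_eq_bot (M : Z.Modules) {U : Z.Opens} (h : U = ⊥) :
    Subsingleton Γ(M, U) := by
  subst h
  have hT := TopCat.Sheaf.isTerminalOfEmpty (⟨M.presheaf, M.isSheaf⟩ : TopCat.Sheaf Ab Z)
  have hz : IsZero (M.presheaf.obj (op ⊥)) := by
    rw [IsZero.iff_id_eq_zero]
    exact hT.hom_ext _ _
  exact AddCommGrpCat.subsingleton_of_isZero hz

/-- direct image along a closed immersion preserves epimorphisms. -/
instance preservesEpi_pushforward [IsClosedImmersion i] :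
    (Scheme.Modules.pushforward i).PreservesEpimorphisms := by
  refine ⟨fun {F G} φ hφ => ?_⟩
  apply epi_of_local_lift
  intro W t y hy
  by_cases hyr : y ∈ Set.range i
  · obtain ⟨x, rfl⟩ := hyr
    obtain ⟨U', hU'W, hxU', s, hs⟩ := exists_local_lift φ hφ (i ⁻¹ᵁ W) t x hy
    obtain ⟨V₀, hV₀⟩ := exists_opens_preimage_eq i U'
    let V : X.Opens := V₀ ⊓ W
    have hVU : i ⁻¹ᵁ V = U' := by
      apply le_antisymm
      · intro z hz
        rw [← hV₀]
        exact hz.1
      · intro z hz
        refine ⟨?_, hU'W hz⟩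
        have : z ∈ i ⁻¹ᵁ V₀ := by rw [hV₀]; exact hz
        exact this
    refine ⟨V, inf_le_right, ⟨?_, hy⟩, ?_⟩
    · have : x ∈ i ⁻¹ᵁ V₀ := by rw [hV₀]; exact hxU'
      exact this
    · subst hVU
      exact ⟨s, hs⟩
  · let V : X.Opens := ⟨(Set.range i)ᶜ, i.isClosedEmbedding.isClosed_range.isOpen_compl⟩ ⊓ W
    have hVe : i ⁻¹ᵁ V = ⊥ := by
      apply le_antisymm _ bot_le
      intro z hz
      exact (hz.1 ⟨z, rfl⟩).elim
    refine ⟨V, inf_le_right, ⟨hyr, hy⟩, ?_⟩
    haveI : Subsingleton Γ(G, i ⁻¹ᵁ V) := subsingleton_sections_of_eq_bot G hVe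
    exact ⟨0, Subsingleton.elim (α := Γ(G, i ⁻¹ᵁ V)) _ _⟩

instance preservesFiniteColimits_pushforward [IsClosedImmersion i] :
    PreservesFiniteColimits (Scheme.Modules.pushforward i) := by
  haveI : (Scheme.Modules.pushforward i).PreservesHomology :=
    Functor.preservesHomology_of_preservesEpis_and_kernels _
  exact Functor.preservesFiniteColimits_of_preservesHomology _

instance faithful_pushforward [IsClosedImmersion i] : (Scheme.Modules.pushforward i).Faithful :=
  Groth.Agent.H7.ClImmMod.faithful_pushforward i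

end Groth.Agent.H4.RPC1
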