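import Mathlib
import Groth.Prelude.Def_DerSch2
import Groth.Agent.H4.RPC1
import Groth.Agent.H4.PCS8
import Groth.Agent.H4.FAmp5
import Groth.Agent.H4.NT7

set_option autoImplicit false
universe u
attribute [local instance] HasDerivedCategory.standard
open CategoryTheory CategoryTheory.Limits AlgebraicGeometry DerivedCategory Opposite
open Groth.Agent.LD.QC Groth.Agent.LD.QCQS Groth.Agent.H4.FAmp5
open Groth.Agent.H4.PSch1 Groth.Agent.H4.PSch2 Groth.Agent.H4.PSch3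
open Groth.Agent.H4.TilD9 Groth.Agent.H4.TilD10 Groth.Agent.H4.TilD11
open Groth.Agent.H4.PCS3 Groth.Agent.H4.PCS4 Groth.Agent.H4.PCS7 Groth.Agent.H4.PCS8
open Groth.Agent.H4.NT7 Groth.Agent.H4.RPC1 Pretriangulated

namespace Groth.Agent.H4.RPC2

variable {Z X : Scheme.{u}} (i : Z ⟶ X) [IsClosedImmersion i]

/-- derived direct image along a closed immersion -/
noncomputable abbrev Ri : DCoh.D Z ⥤ DCoh.D X :=
  (Scheme.Modules.pushforward i).mapDerivedCategory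

/-- derived direct image on representatives -/
noncomputable def RiFac (F : CochainComplex Z.Modules ℤ) :
    (Ri i).obj (Q.obj F) ≅ Q.obj ((DerSch.pushCx i).obj F) :=
  (Scheme.Modules.pushforward i).mapDerivedCategoryFactors.app F

/-- base change of termwise direct image to an open of the target -/
noncomputable def pushResCx (V : X.Opens) :
    DerSch.pushCx i ⋙ resCx V.ι ≅ resCx (i ⁻¹ᵁ V).ι ⋙ DerSch.pushCx (i ∣_ V) :=
  Functor.mapHomologicalComplexCompIso (baseChangeIso i V) _ ≪≫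
    (Functor.mapHomologicalComplexCompIso
      (Iso.refl (Scheme.Modules.restrictFunctor (i ⁻¹ᵁ V).ι ⋙
        Scheme.Modules.pushforward (i ∣_ V))) _).symm

/-- base change of derived direct image to an open of the target -/
noncomputable def RiRes (V : X.Opens) :
    Ri i ⋙ RD V.ι ≅ RD (i ⁻¹ᵁ V).ι ⋙ Ri (i ∣_ V) :=
  letI : Localization.Lifting Q (HomologicalComplex.quasiIso Z.Modules (ComplexShape.up ℤ))
      (DerSch.pushCx i ⋙ resCx V.ι ⋙ Q) (Ri i ⋙ RD V.ι) :=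
    ⟨(Functor.associator _ _ _).symm ≪≫
      Functor.isoWhiskerRight (Scheme.Modules.pushforward i).mapDerivedCategoryFactors (RD V.ι) ≪≫
      Functor.associator _ _ _ ≪≫
      Functor.isoWhiskerLeft (DerSch.pushCx i)
        (Scheme.Modules.restrictFunctor V.ι).mapDerivedCategoryFactors⟩
  letI : Localization.Lifting Q (HomologicalComplex.quasiIso Z.Modules (ComplexShape.up ℤ))
      (resCx (i ⁻¹ᵁ V).ι ⋙ DerSch.pushCx (i ∣_ V) ⋙ Q) (RD (i ⁻¹ᵁ V).ι ⋙ Ri (i ∣_ V)) :=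
    ⟨(Functor.associator _ _ _).symm ≪≫
      Functor.isoWhiskerRight
        (Scheme.Modules.restrictFunctor (i ⁻¹ᵁ V).ι).mapDerivedCategoryFactors (Ri (i ∣_ V)) ≪≫
      Functor.associator _ _ _ ≪≫
      Functor.isoWhiskerLeft (resCx (i ⁻¹ᵁ V).ι)
        (Scheme.Modules.pushforward (i ∣_ V)).mapDerivedCategoryFactors⟩
  Localization.liftNatIso Q (HomologicalComplex.quasiIso Z.Modules (ComplexShape.up ℤ))
    (DerSch.pushCx i ⋙ resCx V.ι ⋙ Q) (resCx (i ⁻¹ᵁ V).ι ⋙ DerSch.pushCx (i ∣_ V) ⋙ Q) _ _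
    ((Functor.associator _ _ _).symm ≪≫ Functor.isoWhiskerRight (pushResCx i V) Q ≪≫
      Functor.associator _ _ _)

/-- the point of the restricted closed immersion -/
lemma morphismRestrict_pt (V : X.Opens) (z : Z) (hz : i z ∈ V) :
    (i ∣_ V) (⟨z, hz⟩ : ↥(i ⁻¹ᵁ V)) = ⟨i z, hz⟩ :=
  Subtype.ext (morphismRestrict_base_coe i V ⟨z, hz⟩)

/-- localisation principle, reflecting direction -/
theorem pcAt_of_restrict_of_Ri {m : ℤ} (V : X.Opens) (E : DCoh.D Z) (z : Z) (hz : i z ∈ V)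
    (h : PCAt m ((Ri (i ∣_ V)).obj ((RD (i ⁻¹ᵁ V).ι).obj E)) ((i ∣_ V) ⟨z, hz⟩) →
      PCAt m ((RD (i ⁻¹ᵁ V).ι).obj E) ⟨z, hz⟩) :
    PCAt m ((Ri i).obj E) (i z) → PCAt m E z := by
  intro h0
  have h1 : PCAt m ((RD V.ι).obj ((Ri i).obj E)) ⟨i z, hz⟩ := PCAt.restrict V.ι _ ⟨i z, hz⟩ h0
  have h2 := PCAt.of_iso ((RiRes i V).app E) _ h1
  rw [← morphismRestrict_pt i V z hz] at h2
  exact PCAt.of_restrict (i ⁻¹ᵁ V).ι E ⟨z, hz⟩ (h h2)

/-- localisation principle, preserving direction -/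
theorem pcAt_Ri_of_restrict {m : ℤ} (V : X.Opens) (E : DCoh.D Z) (z : Z) (hz : i z ∈ V)
    (h : PCAt m ((RD (i ⁻¹ᵁ V).ι).obj E) ⟨z, hz⟩ →
      PCAt m ((Ri (i ∣_ V)).obj ((RD (i ⁻¹ᵁ V).ι).obj E)) ((i ∣_ V) ⟨z, hz⟩)) :
    PCAt m E z → PCAt m ((Ri i).obj E) (i z) := by
  intro h0
  have h1 : PCAt m ((RD (i ⁻¹ᵁ V).ι).obj E) ⟨z, hz⟩ :=
    PCAt.restrict (i ⁻¹ᵁ V).ι E ⟨z, hz⟩ h0
  have h2 := h h1
  rw [morphismRestrict_pt i V z hz] at h2
  have h3 := PCAt.of_iso ((RiRes i V).app E).symm _ h2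
  exact PCAt.of_restrict V.ι _ ⟨i z, hz⟩ h3

end Groth.Agent.H4.RPC2
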