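import Mathlib
import Groth.Agent.H4.RPC2

set_option autoImplicit false
universe u
attribute [local instance] HasDerivedCategory.standard
open CategoryTheory CategoryTheory.Limits AlgebraicGeometry DerivedCategory Opposite
open Groth.Agent.LD.QC Groth.Agent.LD.QCQS Groth.Agent.H4.FAmp5
open Groth.Agent.H4.PSch1 Groth.Agent.H4.PSch2 Groth.Agent.H4.PSch3
open Groth.Agent.H4.TilD9 Groth.Agent.H4.TilD10 Groth.Agent.H4.TilD11
open Groth.Agent.H4.PCS3 Groth.Agent.H4.PCS4 Groth.Agent.H4.PCS7 Groth.Agent.H4.PCS8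
open Groth.Agent.H4.NT7 Groth.Agent.H4.RPC1 Groth.Agent.H4.RPC2 Pretriangulated

namespace Groth.Agent.H4.RPC2b

lemma isZero_of_isEmpty (Y : Scheme.{u}) [IsEmpty Y] (M : Y.Modules) : IsZero M := by
  apply isZero_of_forall_sections
  intro W s
  haveI : Subsingleton Γ(M, W) :=
    subsingleton_sections_of_eq_bot M (by ext x; exact isEmptyElim x)
  exact Subsingleton.elim _ _

lemma isZero_D_of_isEmpty (Y : Scheme.{u}) [IsEmpty Y] (K : DCoh.D Y) : IsZero K := by
  have e : Q.obj (Q.objPreimage K) ≅ K := Q.objObjPreimageIso K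
  refine IsZero.of_iso ?_ e.symm
  apply Functor.map_isZero
  rw [IsZero.iff_id_eq_zero]
  refine HomologicalComplex.hom_ext _ _ (fun n => ?_)
  exact (isZero_of_isEmpty Y _).eq_of_src _ _

variable {Z X : Scheme.{u}} (i : Z ⟶ X) [IsClosedImmersion i]

/-- cohomology of the derived direct image -/
noncomputable def HDRi (E : DCoh.D Z) (n : ℤ) :
    DCoh.HD ((Ri i).obj E) n ≅ (Scheme.Modules.pushforward i).obj (DCoh.HD E n) :=
  (mapDerivedCategoryHomologyIso (Scheme.Modules.pushforward i) n).app E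

instance isLE_Ri (E : DCoh.D Z) (b : ℤ) [E.IsLE b] : ((Ri i).obj E).IsLE b := by
  rw [DerivedCategory.isLE_iff]
  intro q hq
  exact IsZero.of_iso ((Scheme.Modules.pushforward i).map_isZero (isZero_of_isLE E b q hq))
    (HDRi i E q)

lemma isLE_of_isLE_Ri (E : DCoh.D Z) (b : ℤ) (h : ((Ri i).obj E).IsLE b) : E.IsLE b := by
  rw [DerivedCategory.isLE_iff]
  intro q hq
  have h1 : IsZero ((Scheme.Modules.pushforward i).obj (DCoh.HD E q)) :=
    IsZero.of_iso (isZero_of_isLE _ b q hq) (HDRi i E q).symm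
  rw [IsZero.iff_id_eq_zero] at h1 ⊢
  apply (Scheme.Modules.pushforward i).map_injective
  rw [CategoryTheory.Functor.map_id, Functor.map_zero]
  exact h1

/-- outside of the image the direct image vanishes, so is pseudo-coherent -/
theorem pcAt_Ri_of_notMem_range (m : ℤ) (E : DCoh.D Z) (x : X) (hx : x ∉ Set.range i) :
    PCAt m ((Ri i).obj E) x := by
  let V : X.Opens := ⟨(Set.range i)ᶜ, i.isClosedEmbedding.isClosed_range.isOpen_compl⟩
  have hxV : x ∈ V := hx
  haveI : IsEmpty ((i ⁻¹ᵁ V : Z.Opens) : Scheme.{u}) := ⟨fun z => z.2 ⟨z.1, rfl⟩⟩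
  have hz : IsZero ((RD V.ι).obj ((Ri i).obj E)) :=
    IsZero.of_iso ((Ri (i ∣_ V)).map_isZero (isZero_D_of_isEmpty _ _)) ((RiRes i V).app E)
  haveI : ((RD V.ι).obj ((Ri i).obj E)).IsLE (m - 1) := by
    rw [DerivedCategory.isLE_iff]
    intro q _
    exact (homologyFunctor _ q).map_isZero hz
  exact PCAt.of_restrict V.ι _ ⟨x, hxV⟩ (PCAt.of_isLE m _ _)

end Groth.Agent.H4.RPC2b
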