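import Mathlib
import Groth.Agent.H4.RPC2b

set_option autoImplicit false
universe u
attribute [local instance] HasDerivedCategory.standard
open CategoryTheory CategoryTheory.Limits AlgebraicGeometry DerivedCategory Opposite
open Groth.Agent.LD.QC Groth.Agent.LD.QCQS Groth.Agent.H4.FAmp5
open Groth.Agent.H4.PSch1 Groth.Agent.H4.PSch2 Groth.Agent.H4.PSch3 Groth.Agent.H4.PSch5
open Groth.Agent.H4.TilD1 Groth.Agent.H4.TilD9 Groth.Agent.H4.TilD10 Groth.Agent.H4.TilD11
open Groth.Agent.H4.PCS3 Groth.Agent.H4.PCS4 Groth.Agent.H4.PCS7 Groth.Agent.H4.PCS8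
open Groth.Agent.H4.NT7 Groth.Agent.H4.RPC1 Groth.Agent.H4.RPC2 Groth.Agent.H4.RPC2b Pretriangulated

namespace Groth.Agent.H4.RPC3

variable {X : Scheme.{u}}

lemma AllPC.of_isZero {K : DCoh.D X} (h : IsZero K) : AllPC K := by
  intro m x
  haveI : K.IsLE (m - 1) := by
    rw [DerivedCategory.isLE_iff]
    intro q _
    exact (homologyFunctor _ q).map_isZero h
  exact PCAt.of_isLE m K x

lemma AllPC.biprod {K L : DCoh.D X} (hK : AllPC K) (hL : AllPC L) : AllPC (K ⊞ L) := by
  intro m x
  exact PCAt.obj₂ _ (binaryBiproductTriangle_distinguished K L) m x (hK m x) (hL m x)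

lemma AllPC.shift {K : DCoh.D X} (hK : AllPC K) (n : ℤ) : AllPC (K⟦n⟧) := by
  intro m x
  have := PCAt.shift K x n (hK (m + n) x)
  rwa [show m + n - n = m by omega] at this

/-- splitting off one summand of a free module -/
noncomputable def freeModSuccIso (Z : Scheme.{u}) (k : ℕ) :
    FlatMod.freeMod Z (k + 1) ≅ Coh.structureModule Z ⊞ FlatMod.freeMod Z k := by
  let f : Fin (k + 1) → Z.Modules := fun _ => Coh.structureModule Z
  let c₁ : Cofan (fun i : Fin k => f i.succ) := Cofan.mk (FlatMod.freeMod Z k)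
    (fun i => Sigma.ι (fun _ : Fin k => Coh.structureModule Z) i)
  have t₁ : IsColimit c₁ := coproductIsCoproduct (fun _ : Fin k => Coh.structureModule Z)
  let c₂ : BinaryCofan (f 0) c₁.pt := BinaryCofan.mk coprod.inl coprod.inr
  have t₂ : IsColimit c₂ := coprodIsCoprod _ _
  have t := extendCofanIsColimit f t₁ t₂
  exact (coproductIsCoproduct f).coconePointUniqueUpToIso t ≪≫ (biprod.isoCoprod _ _).symm

/-- an additive functor which sends the structure sheaf to an object with pseudo-coherent image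
does so for finite free modules -/
theorem allPC_inD_map_freeMod {Z : Scheme.{u}} (Φ : Z.Modules ⥤ X.Modules) [Φ.Additive]
    (h : AllPC (DCoh.inD X (Φ.obj (Coh.structureModule Z)))) (k : ℕ) :
    AllPC (DCoh.inD X (Φ.obj (FlatMod.freeMod Z k))) := by
  induction k with
  | zero =>
    apply AllPC.of_isZero
    exact (singleFunctor X.Modules 0).map_isZero (Φ.map_isZero (isZero_freeMod_zero Z))
  | succ k ih =>
    let G : Z.Modules ⥤ DCoh.D X := Φ ⋙ singleFunctor X.Modules 0
    haveI : G.Additive := inferInstanceAs (Φ ⋙ singleFunctor X.Modules 0).Additive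
    haveI : PreservesBinaryBiproducts G := preservesBinaryBiproducts_of_preservesBiproducts G
    have e : G.obj (FlatMod.freeMod Z (k + 1)) ≅
        G.obj (Coh.structureModule Z) ⊞ G.obj (FlatMod.freeMod Z k) :=
      G.mapIso (freeModSuccIso Z k) ≪≫ G.mapBiprod _ _
    exact (AllPC.biprod h ih).of_iso e.symm

/-- single-degree version, any degree -/
theorem allPC_single_map_freeMod {Z : Scheme.{u}} (Φ : Z.Modules ⥤ X.Modules) [Φ.Additive]
    (h : AllPC (DCoh.inD X (Φ.obj (Coh.structureModule Z)))) (k : ℕ) (b : ℤ) :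
    AllPC ((singleFunctor X.Modules b).obj (Φ.obj (FlatMod.freeMod Z k))) := by
  have e := ((singleFunctors X.Modules).shiftIso (-b) b 0 (by omega)).app
    (Φ.obj (FlatMod.freeMod Z k))
  exact (AllPC.shift (allPC_inD_map_freeMod Φ h k) (-b)).of_iso e


variable {Z X : Scheme.{u}} (i : Z ⟶ X) [IsClosedImmersion i]

/-- the direct image of the structure sheaf is pseudo-coherent -/
def HO : Prop := AllPC (DCoh.inD X ((Scheme.Modules.pushforward i).obj (Coh.structureModule Z)))

lemma HO.restrict {i : Z ⟶ X} [IsClosedImmersion i] (h : HO i) (V : X.Opens) : HO (i ∣_ V) := by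
  have h1 : AllPC ((RD V.ι).obj
      (DCoh.inD X ((Scheme.Modules.pushforward i).obj (Coh.structureModule Z)))) :=
    AllPC.restrict V.ι h
  have e1 := RDinD V.ι ((Scheme.Modules.pushforward i).obj (Coh.structureModule Z))
  have e2 : ((Scheme.Modules.pushforward i).obj (Coh.structureModule Z)).restrict V.ι ≅
      (Scheme.Modules.pushforward (i ∣_ V)).obj
        ((Coh.structureModule Z).restrict (i ⁻¹ᵁ V).ι) :=
    (baseChangeIso i V).app (Coh.structureModule Z)
  have e3 : (Coh.structureModule Z).restrict (i ⁻¹ᵁ V).ι ≅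
      Coh.structureModule (↑(i ⁻¹ᵁ V) : Scheme.{u}) :=
    Scheme.Modules.restrictUnitIso (i ⁻¹ᵁ V).ι
  exact h1.of_iso (e1 ≪≫ (singleFunctor _ 0).mapIso
    (e2 ≪≫ (Scheme.Modules.pushforward (i ∣_ V)).mapIso e3))

/-- the derived direct image of a finite free module placed in one degree -/
theorem allPC_Ri_single (h : HO i) (k : ℕ) (b : ℤ) :
    AllPC ((Ri i).obj (Q.obj ((HomologicalComplex.single Z.Modules (ComplexShape.up ℤ) b).obj
      (FlatMod.freeMod Z k)))) := by
  have h1 := allPC_single_map_freeMod (Scheme.Modules.pushforward i) h k b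
  have e1 := ((Scheme.Modules.pushforward i).mapDerivedCategorySingleFunctor b).app
    (FlatMod.freeMod Z k)
  have e2 := (Ri i).mapIso ((singleFunctorIsoCompQ Z.Modules b).app (FlatMod.freeMod Z k))
  exact h1.of_iso (e1.symm ≪≫ e2)

end Groth.Agent.H4.RPC3
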