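import Mathlib
import Groth.Agent.H4.RPC3
import Groth.Agent.H4.NT6
import Groth.Agent.H4.NT8

set_option autoImplicit false
universe u
attribute [local instance] HasDerivedCategory.standard
open CategoryTheory CategoryTheory.Limits AlgebraicGeometry DerivedCategory Opposite
open Groth.Agent.LD.QC Groth.Agent.LD.QCQS Groth.Agent.H4.FAmp5
open Groth.Agent.H4.PSch1 Groth.Agent.H4.PSch2 Groth.Agent.H4.PSch3 Groth.Agent.H4.PSch5
open Groth.Agent.H4.TilD1 Groth.Agent.H4.TilD9 Groth.Agent.H4.TilD10 Groth.Agent.H4.TilD11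
open Groth.Agent.H4.PCS1 Groth.Agent.H4.PCS3 Groth.Agent.H4.PCS4 Groth.Agent.H4.PCS6
open Groth.Agent.H4.PCS7 Groth.Agent.H4.PCS8 Groth.Agent.H4.NT6
open Groth.Agent.H4.NT7 Groth.Agent.H4.RPC1 Groth.Agent.H4.RPC2 Groth.Agent.H4.RPC2b
open Groth.Agent.H4.RPC3 Pretriangulated

namespace Groth.Agent.H4.RPC4

variable {X : Scheme.{u}}

/-- a pointwise witness may be taken on an open subset of `X` -/
theorem pcAt_exists_opens {m : ℤ} {K : DCoh.D X} {x : X} (h : PCAt m K x) :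
    ∃ (V : X.Opens) (P : CochainComplex (V : Scheme.{u}).Modules ℤ)
      (α : Q.obj P ⟶ (RD V.ι).obj K), x ∈ V ∧ DCoh.IsStrictlyPerfect P ∧ IsWitD m α := by
  obtain ⟨U, j, hj, P, α, hx, hP, hα⟩ := h
  obtain ⟨α', hα'⟩ := exists_wit_shrink j j.isoOpensRange.inv j.opensRange.ι
    (Scheme.Hom.isoOpensRange_inv_comp j).symm P α hα
  exact ⟨j.opensRange, _, α', hx, isStrictlyPerfect_restrict _ P hP, hα'⟩

/-- local boundedness above -/
theorem pcAt_exists_isLE {m : ℤ} {K : DCoh.D X} {x : X} (h : PCAt m K x) :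
    ∃ (V : X.Opens) (b : ℤ), x ∈ V ∧ m ≤ b ∧ ((RD V.ι).obj K).IsLE b := by
  obtain ⟨V, P, α, hxV, ⟨⟨a, b₀, hv⟩, -⟩, hα⟩ := pcAt_exists_opens h
  refine ⟨V, max b₀ m, hxV, le_max_right _ _, ?_⟩
  rw [DerivedCategory.isLE_iff]
  intro q hq
  have hqm : m < q := lt_of_le_of_lt (le_max_right b₀ m) hq
  have hqb : b₀ < q := lt_of_le_of_lt (le_max_left b₀ m) hq
  haveI := hα.1 q hqm
  have h1 : IsZero ((homologyFunctor _ q).obj (Q.obj P)) := by
    refine IsZero.of_iso ?_ ((homologyFunctorFactors _ q).app P)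
    exact ShortComplex.isZero_homology_of_isZero_X₂ _ (hv q (Or.inr hqb))
  exact h1.of_iso (asIso ((homologyFunctor _ q).map α)).symm

/-- pseudo-coherence at a point spreads to a neighbourhood -/
theorem pcAt_exists_isPC {m : ℤ} {K : DCoh.D X} {x : X} (h : PCAt m K x) :
    ∃ V : X.Opens, x ∈ V ∧ DCoh.IsPseudoCoherentD m ((RD V.ι).obj K) := by
  obtain ⟨V, P, α, hxV, hP, hα⟩ := pcAt_exists_opens h
  refine ⟨V, hxV, ?_⟩
  rw [isPseudoCoherentD_iff_pcAt]
  intro y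
  exact PCAt.of_global P hP α hα y

/-- generators of the top cohomology sheaf, locally -/
theorem exists_epi_freeMod_HD (K : DCoh.D X) (b : ℤ) [K.IsLE b]
    (hK : DCoh.IsPseudoCoherentD b K) (x : X) :
    ∃ (V : X.Opens) (k : ℕ) (φ : FlatMod.freeMod (V : Scheme.{u}) k ⟶
      DCoh.HD ((RD V.ι).obj K) b), x ∈ V ∧ Epi φ := by
  have hFT : (DCoh.HD K b).IsFiniteType :=
    (S0890 b K hK).1 (fun j hj => isZero_of_isLE K b j hj)
  obtain ⟨U, hxU, σ, hσ⟩ := (isFiniteType_iff_forall_exists _).mp hFT x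
  haveI : Finite σ.I := hσ
  obtain ⟨n, ⟨e⟩⟩ := Finite.exists_equiv_fin σ.I
  have hepi : @Epi (↑U : Scheme.{u}).Modules _ _ _ σ.π := σ.epi
  let e2 := (mapDerivedCategoryHomologyIso (Scheme.Modules.restrictFunctor U.ι) b).app K
  refine ⟨U, n, (freeIsoFreeMod σ.I n e).hom ≫ σ.π ≫ e2.inv, hxU, ?_⟩
  haveI := hepi
  infer_instance

/-- generators of the top cohomology sheaf, on all small enough opens around a point -/
theorem exists_epi_freeMod_HD' (K : DCoh.D X) (b : ℤ) [K.IsLE b]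
    (hK : DCoh.IsPseudoCoherentD b K) (x : X) :
    ∃ U : X.Opens, x ∈ U ∧ ∀ W : X.Opens, W ≤ U →
      ∃ (k : ℕ) (φ : FlatMod.freeMod (W : Scheme.{u}) k ⟶ DCoh.HD ((RD W.ι).obj K) b), Epi φ := by
  have hFT : (DCoh.HD K b).IsFiniteType :=
    (S0890 b K hK).1 (fun j hj => isZero_of_isLE K b j hj)
  obtain ⟨U, hxU, σ, hσ⟩ := (isFiniteType_iff_forall_exists _).mp hFT x
  refine ⟨U, hxU, fun W hWU => ?_⟩
  have hr : Set.range W.ι ⊆ Set.range U.ι := by
    rw [Scheme.Opens.range_ι, Scheme.Opens.range_ι]; exact hWU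
  let σ' := genOfLE (DCoh.HD K b) U.ι W.ι hr σ
  haveI : Finite σ'.I := hσ
  obtain ⟨n, ⟨e⟩⟩ := Finite.exists_equiv_fin σ'.I
  have hepi : @Epi (↑W : Scheme.{u}).Modules _ _ _ σ'.π := σ'.epi
  let e2 := (mapDerivedCategoryHomologyIso (Scheme.Modules.restrictFunctor W.ι) b).app K
  refine ⟨n, (freeIsoFreeMod σ'.I n e).hom ≫ σ'.π ≫ e2.inv, ?_⟩
  haveI := hepi
  infer_instance

/-- a map from a finite free module in degree `b` onto the top cohomology lifts, locally, to a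
morphism of the derived category which is a `b`-witness -/
theorem exists_single_hom_isWitD {Y : Scheme.{u}} (K : DCoh.D Y) (b : ℤ) [K.IsLE b] (y : Y)
    (k : ℕ) (ψ : FlatMod.freeMod Y k ⟶ DCoh.HD K b) [Epi ψ] :
    ∃ (U : Y.Opens) (_ : y ∈ U)
      (α : Q.obj ((HomologicalComplex.single (U : Scheme.{u}).Modules (ComplexShape.up ℤ) b).obj
        (FlatMod.freeMod (U : Scheme.{u}) k)) ⟶ (RD U.ι).obj K), IsWitD b α := by
  obtain ⟨F, hF, ⟨e⟩⟩ := K.exists_iso_Q_obj_of_isLE b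
  have hd : F.d b (b + 1) = 0 := (F.isZero_of_isStrictlyLE b (b + 1) (by omega)).eq_of_tgt _ _
  haveI : IsIso (F.homologyι b) := F.isIso_homologyι b (b + 1) (by simp) hd
  have e0 : F.homology b ≅ F.opcycles b := asIso (F.homologyι b)
  have e1 : DCoh.HD K b ≅ F.opcycles b :=
    (homologyFunctor _ b).mapIso e ≪≫ (homologyFunctorFactors _ b).app F ≪≫ e0
  obtain ⟨U, ψ', hy, hψ'⟩ := exists_local_lift_of_isFinLocFree (F.pOpcycles b) (ψ ≫ e1.hom)
    (isFinLocFree_freeMod Y k) y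
  refine ⟨U, hy, ?_⟩
  let Φ := Scheme.Modules.restrictFunctor U.ι
  let F' := (resCx U.ι).obj F
  have hz : IsZero (F'.X (b + 1)) := Φ.map_isZero (F.isZero_of_isStrictlyLE b (b + 1) (by omega))
  have hd' : F'.d b (b + 1) = 0 := hz.eq_of_tgt _ _
  haveI : IsIso (F'.homologyι b) := F'.isIso_homologyι b (b + 1) (by simp) hd'
  let ψ'' : FlatMod.freeMod (U : Scheme.{u}) k ⟶ F'.X b := (restrictFreeModIso U.ι k).inv ≫ ψ'
  have hψ'' : ∀ j, (ComplexShape.up ℤ).Rel b j → ψ'' ≫ F'.d b j = 0 := by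
    intro j hj
    obtain rfl : b + 1 = j := hj
    rw [hd', comp_zero]
  let g := HomologicalComplex.mkHomFromSingle ψ'' hψ''
  let S := (HomologicalComplex.single (U : Scheme.{u}).Modules (ComplexShape.up ℤ) b).obj
    (FlatMod.freeMod (U : Scheme.{u}) k)
  let α : Q.obj S ⟶ (RD U.ι).obj K := Q.map g ≫ (RDfac U.ι F).inv ≫ (RD U.ι).map e.inv
  refine ⟨α, ?_⟩
  haveI : ((RD U.ι).obj K).IsLE b := isLE_RD U.ι K b
  haveI : (Q.obj S).IsLE b := Groth.Agent.H4.NT8.isLE_Q_single _ b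
  refine ⟨fun q hq => ?_, ?_⟩
  · have h1 : IsZero ((homologyFunctor _ q).obj (Q.obj S)) := isZero_of_isLE _ b q hq
    have h2 : IsZero ((homologyFunctor _ q).obj ((RD U.ι).obj K)) := isZero_of_isLE _ b q hq
    exact ⟨⟨0, h1.eq_of_src _ _, h2.eq_of_src _ _⟩⟩
  · let si : S.homology b ≅ FlatMod.freeMod (U : Scheme.{u}) k :=
      HomologicalComplex.singleObjHomologySelfIso (ComplexShape.up ℤ) b _
    let mo : F'.opcycles b ≅ Φ.obj (F.opcycles b) := (F.sc b).mapOpcyclesIso Φ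
    let e0' : F'.homology b ≅ F'.opcycles b := asIso (F'.homologyι b)
    have h1 : si.inv ≫ HomologicalComplex.homologyMap g b ≫ e0'.hom = ψ'' ≫ F'.pOpcycles b :=
      singleIso_inv_homologyMap_homologyι F' b _ ψ'' hψ''
    have h2 : F'.pOpcycles b ≫ mo.hom = Φ.map (F.pOpcycles b) := pOpcycles_mapOpcyclesIso Φ F b
    have h3 : HomologicalComplex.homologyMap g b ≫ (e0' ≪≫ mo).hom =
        si.hom ≫ (ψ'' ≫ Φ.map (F.pOpcycles b)) := by
      rw [← h2, ← cancel_epi si.inv, Iso.inv_hom_id_assoc, Iso.trans_hom, ← Category.assoc,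
        ← Category.assoc, Category.assoc si.inv, h1, Category.assoc]
    have h4 : (homologyFunctor (U : Scheme.{u}).Modules b).map (Q.map g) ≫
        ((homologyFunctorFactors (U : Scheme.{u}).Modules b).app F').hom =
        ((homologyFunctorFactors (U : Scheme.{u}).Modules b).app S).hom ≫
          HomologicalComplex.homologyMap g b :=
      (homologyFunctorFactors (U : Scheme.{u}).Modules b).hom.naturality g
    have h5 : ψ'' ≫ Φ.map (F.pOpcycles b) =
        (restrictFreeModIso U.ι k).inv ≫ Φ.map (ψ ≫ e1.hom) := by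
      rw [← hψ', Category.assoc]
      rfl
    haveI : Epi (Φ.map (ψ ≫ e1.hom)) := inferInstance
    haveI hE0 : Epi (ψ'' ≫ Φ.map (F.pOpcycles b)) := by
      rw [h5]; infer_instance
    have hE1 : Epi ((𝟭 _).map (HomologicalComplex.homologyMap g b)) :=
      epi_map_of_sq (𝟭 _) _ _ si (e0' ≪≫ mo) h3 hE0
    have hE2 : Epi ((𝟭 _).map ((homologyFunctor (U : Scheme.{u}).Modules b).map (Q.map g))) :=
      epi_map_of_sq (𝟭 _) _ _ _ _ h4 hE1
    haveI hE3 : Epi ((homologyFunctor (U : Scheme.{u}).Modules b).map (Q.map g)) := hE2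
    change Epi ((homologyFunctor (U : Scheme.{u}).Modules b).map α)
    rw [Functor.map_comp, Functor.map_comp]
    infer_instance

/-- the cone of a `b`-witness lives in degrees below `b` -/
theorem exists_cone_isLE {Y : Scheme.{u}} {A K : DCoh.D Y} (α : A ⟶ K) (b : ℤ)
    (hα : IsWitD b α) :
    ∃ (C : DCoh.D Y) (β : K ⟶ C) (δ : C ⟶ A⟦(1 : ℤ)⟧),
      Triangle.mk α β δ ∈ distTriang _ ∧ C.IsLE (b - 1) := by
  obtain ⟨C, β, δ, hT⟩ := distinguished_cocone_triangle α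
  exact ⟨C, β, δ, hT, (isWitD_iff_isLE (Triangle.mk α β δ) hT b).1 hα⟩

end Groth.Agent.H4.RPC4
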