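import Mathlib
import Groth.Agent.H4.RPC4

set_option autoImplicit false
universe u
attribute [local instance] HasDerivedCategory.standard
open CategoryTheory CategoryTheory.Limits AlgebraicGeometry DerivedCategory Opposite
open Groth.Agent.LD.QC Groth.Agent.LD.QCQS Groth.Agent.H4.FAmp5
open Groth.Agent.H4.PSch1 Groth.Agent.H4.PSch2 Groth.Agent.H4.PSch3 Groth.Agent.H4.PSch5
open Groth.Agent.H4.TilD1 Groth.Agent.H4.TilD9 Groth.Agent.H4.TilD10 Groth.Agent.H4.TilD11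
open Groth.Agent.H4.PCS1 Groth.Agent.H4.PCS3 Groth.Agent.H4.PCS4 Groth.Agent.H4.PCS6
open Groth.Agent.H4.PCS7 Groth.Agent.H4.PCS8 Groth.Agent.H4.NT6
open Groth.Agent.H4.NT7 Groth.Agent.H4.RPC1 Groth.Agent.H4.RPC2 Groth.Agent.H4.RPC2b
open Groth.Agent.H4.RPC3 Groth.Agent.H4.RPC4 Pretriangulated

namespace Groth.Agent.H4.RPC5

/-- the single complex of a finite free module, abbreviated -/
noncomputable abbrev sgl (Y : Scheme.{u}) (b : ℤ) (k : ℕ) : CochainComplex Y.Modules ℤ :=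
  (HomologicalComplex.single Y.Modules (ComplexShape.up ℤ) b).obj (FlatMod.freeMod Y k)

/-- restriction of the single complex of a free module -/
noncomputable def resSglIso {Y U : Scheme.{u}} (l : U ⟶ Y) [IsOpenImmersion l] (b : ℤ) (k : ℕ) :
    (resCx l).obj (sgl Y b k) ≅ sgl U b k :=
  (HomologicalComplex.singleMapHomologicalComplex (Scheme.Modules.restrictFunctor l)
      (ComplexShape.up ℤ) b).app (FlatMod.freeMod Y k) ≪≫
    (HomologicalComplex.single U.Modules (ComplexShape.up ℤ) b).mapIso (restrictFreeModIso l k)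

/-- restricting a witness from a finite free module in one degree -/
lemma exists_sgl_wit_shrink {Y : Scheme.{u}} {K : DCoh.D Y} {U V : Scheme.{u}} (j : U ⟶ Y)
    (l : V ⟶ U) (k' : V ⟶ Y) [IsOpenImmersion j] [IsOpenImmersion l] [IsOpenImmersion k']
    (hk : k' = l ≫ j) (b : ℤ) (k : ℕ) (α : Q.obj (sgl U b k) ⟶ (RD j).obj K)
    (hα : IsWitD b α) : ∃ α' : Q.obj (sgl V b k) ⟶ (RD k').obj K, IsWitD b α' := by
  obtain ⟨α', hα'⟩ := exists_wit_shrink j l k' hk (sgl U b k) α hα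
  refine ⟨Q.map (resSglIso l b k).inv ≫ α', ?_⟩
  have := (isWitD_iso_comp (m := b) (Q.map (resSglIso l b k).inv) α' (𝟙 _)).mpr hα'
  rwa [Category.comp_id] at this

variable {Z X : Scheme.{u}} (i : Z ⟶ X) [IsClosedImmersion i]

/-- generators of the top cohomology of the direct image give generators upstairs -/
theorem exists_epi_of_epi_HDRi (E : DCoh.D Z) (b : ℤ) (k : ℕ)
    (φ : FlatMod.freeMod X k ⟶ DCoh.HD ((Ri i).obj E) b) [Epi φ] :
    ∃ ψ : FlatMod.freeMod Z k ⟶ DCoh.HD E b, Epi ψ := by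
  let φ' : FlatMod.freeMod X k ⟶ (Scheme.Modules.pushforward i).obj (DCoh.HD E b) :=
    φ ≫ (HDRi i E b).hom
  haveI : Epi φ' := inferInstance
  have h := (Groth.Agent.H7.ClImmMod.main i (FlatMod.freeMod X k) (DCoh.HD E b) φ').1
  refine ⟨(pullbackFreeModIso i k).inv ≫
    ((Scheme.Modules.pullbackPushforwardAdjunction i).homEquiv _ _).symm φ', ?_⟩
  haveI := h
  infer_instance

/-- the inductive statement, reflecting direction -/
def ReflAt (d : ℕ) : Prop :=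
  ∀ (Z X : Scheme.{u}) (i : Z ⟶ X) [IsClosedImmersion i], HO i → ∀ (E : DCoh.D Z) (b m : ℤ),
    E.IsLE b → b < m + d → ∀ z : Z, PCAt m ((Ri i).obj E) (i z) → PCAt m E z

theorem reflAt_zero : ReflAt.{u} 0 := by
  intro Z X i _ _ E b m hb hbm z _
  haveI : E.IsLE (m - 1) := TStructure.t.isLE_of_le E b (m - 1) (by push_cast at hbm; omega)
  exact PCAt.of_isLE m E z

/-- stage 3: a global witness from a free module is given -/
theorem refl_stage3 (d : ℕ) (ih : ReflAt.{u} d) (hO : HO i) (E : DCoh.D Z) (b m : ℤ)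
    (hbm : b < m + (d + 1 : ℕ)) (k : ℕ) (α : Q.obj (sgl Z b k) ⟶ E) (hα : IsWitD b α) (z : Z)
    (h : PCAt m ((Ri i).obj E) (i z)) : PCAt m E z := by
  obtain ⟨C, β, δ, hT, hC⟩ := exists_cone_isLE α b hα
  have hT' := (Ri i).map_distinguished _ hT
  have h1 : PCAt (m + 1) ((Ri i).obj (Q.obj (sgl Z b k))) (i z) := allPC_Ri_single i hO k b _ _
  have h3 : PCAt m ((Ri i).obj C) (i z) := PCAt.obj₃ _ hT' m (i z) h1 h
  have h4 : PCAt m C z := ih Z X i hO C (b - 1) m hC (by push_cast at hbm ⊢; omega) z h3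
  have h5 : PCAt m (Q.obj (sgl Z b k)) z :=
    Groth.Agent.H4.NT8.allPC_single _ (isFinLocFree_freeMod Z k) b m z
  exact PCAt.obj₂ _ hT m z h5 h4

/-- stage 2: global generators of the top cohomology of the direct image are given -/
theorem refl_stage2 (d : ℕ) (ih : ReflAt.{u} d) (hO : HO i) (E : DCoh.D Z) (b m : ℤ) [E.IsLE b]
    (hbm : b < m + (d + 1 : ℕ)) (k : ℕ) (φ : FlatMod.freeMod X k ⟶ DCoh.HD ((Ri i).obj E) b)
    [Epi φ] (z : Z) (h : PCAt m ((Ri i).obj E) (i z)) : PCAt m E z := by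
  obtain ⟨ψ, hψ⟩ := exists_epi_of_epi_HDRi i E b k φ
  haveI := hψ
  obtain ⟨U, hzU, α, hα⟩ := exists_single_hom_isWitD E b z k ψ
  obtain ⟨V, hzV, hVU⟩ := exists_opens_preimage_le i U z hzU
  let l : ((i ⁻¹ᵁ V : Z.Opens) : Scheme.{u}) ⟶ (U : Scheme.{u}) := Z.homOfLE hVU
  have hl : (i ⁻¹ᵁ V).ι = l ≫ U.ι := (Scheme.homOfLE_ι Z hVU).symm
  obtain ⟨α', hα'⟩ := exists_sgl_wit_shrink U.ι l (i ⁻¹ᵁ V).ι hl b k α hα
  refine pcAt_of_restrict_of_Ri i V E z hzV (fun h' => ?_) h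
  exact refl_stage3 (i ∣_ V) d ih (hO.restrict V) _ b m hbm k α' hα' _ h'

/-- stage 1: the direct image is globally `b`-pseudo-coherent -/
theorem refl_stage1 (d : ℕ) (ih : ReflAt.{u} d) (hO : HO i) (E : DCoh.D Z) (b m : ℤ) [E.IsLE b]
    (hbm : b < m + (d + 1 : ℕ)) (hpc : DCoh.IsPseudoCoherentD b ((Ri i).obj E)) (z : Z)
    (h : PCAt m ((Ri i).obj E) (i z)) : PCAt m E z := by
  obtain ⟨V, k, φ, hzV, hφ⟩ := exists_epi_freeMod_HD ((Ri i).obj E) b hpc (i z)
  refine pcAt_of_restrict_of_Ri i V E z hzV (fun h' => ?_) h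
  let e := (homologyFunctor _ b).mapIso ((RiRes i V).app E)
  haveI := hφ
  haveI : ((RD (i ⁻¹ᵁ V).ι).obj E).IsLE b := isLE_RD _ E b
  exact refl_stage2 (i ∣_ V) d ih (hO.restrict V) _ b m hbm k (φ ≫ e.hom) _ h'

theorem reflAt_succ (d : ℕ) (ih : ReflAt.{u} d) : ReflAt.{u} (d + 1) := by
  intro Z X i _ hO E b m hb hbm z h
  by_cases hlt : b < m + d
  · exact ih Z X i hO E b m hb hlt z h
  have hmb : m ≤ b := by omega
  haveI := hb
  have hb' : PCAt b ((Ri i).obj E) (i z) := PCAt.mono hmb h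
  obtain ⟨V, hzV, hpc⟩ := pcAt_exists_isPC hb'
  refine pcAt_of_restrict_of_Ri i V E z hzV (fun h' => ?_) h
  haveI : ((RD (i ⁻¹ᵁ V).ι).obj E).IsLE b := isLE_RD _ E b
  have hpc' : DCoh.IsPseudoCoherentD b ((Ri (i ∣_ V)).obj ((RD (i ⁻¹ᵁ V).ι).obj E)) :=
    isPseudoCoherentD_of_iso ((RiRes i V).app E) hpc
  exact refl_stage1 (i ∣_ V) d ih (hO.restrict V) _ b m hbm hpc' _ h'

theorem reflAt (d : ℕ) : ReflAt.{u} d := by
  induction d with
  | zero => exact reflAt_zero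
  | succ d ih => exact reflAt_succ d ih

/-- **reflecting direction**: if the direct image is `m`-pseudo-coherent at `i z` then the object
is `m`-pseudo-coherent at `z` -/
theorem pcAt_of_pcAt_Ri (hO : HO i) (E : DCoh.D Z) (m : ℤ) (z : Z)
    (h : PCAt m ((Ri i).obj E) (i z)) : PCAt m E z := by
  obtain ⟨V, b, hzV, hmb, hle⟩ := pcAt_exists_isLE h
  refine pcAt_of_restrict_of_Ri i V E z hzV (fun h' => ?_) h
  have hle' : ((Ri (i ∣_ V)).obj ((RD (i ⁻¹ᵁ V).ι).obj E)).IsLE b := by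
    haveI : ((Ri i ⋙ RD V.ι).obj E).IsLE b := hle
    exact TStructure.t.isLE_of_iso ((RiRes i V).app E) b
  have hE : ((RD (i ⁻¹ᵁ V).ι).obj E).IsLE b := isLE_of_isLE_Ri (i ∣_ V) _ b hle'
  refine reflAt (b - m + 1).toNat _ _ (i ∣_ V) (hO.restrict V) _ b m hE ?_ _ h'
  have : ((b - m + 1).toNat : ℤ) = b - m + 1 := Int.toNat_of_nonneg (by omega)
  omega

end Groth.Agent.H4.RPC5
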