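import Mathlib
import Groth.Agent.H4.RPC5

set_option autoImplicit false
universe u
attribute [local instance] HasDerivedCategory.standard
open CategoryTheory CategoryTheory.Limits AlgebraicGeometry DerivedCategory Opposite
open Groth.Agent.LD.QC Groth.Agent.LD.QCQS Groth.Agent.H4.FAmp5
open Groth.Agent.H4.PSch1 Groth.Agent.H4.PSch2 Groth.Agent.H4.PSch3 Groth.Agent.H4.PSch5
open Groth.Agent.H4.TilD1 Groth.Agent.H4.TilD9 Groth.Agent.H4.TilD10 Groth.Agent.H4.TilD11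
open Groth.Agent.H4.PCS1 Groth.Agent.H4.PCS3 Groth.Agent.H4.PCS4 Groth.Agent.H4.PCS6
open Groth.Agent.H4.PCS7 Groth.Agent.H4.PCS8 Groth.Agent.H4.NT6
open Groth.Agent.H4.NT7 Groth.Agent.H4.RPC1 Groth.Agent.H4.RPC2 Groth.Agent.H4.RPC2b
open Groth.Agent.H4.RPC3 Groth.Agent.H4.RPC4 Groth.Agent.H4.RPC5 Pretriangulated

namespace Groth.Agent.H4.RPC6

variable {Z X : Scheme.{u}} (i : Z ⟶ X) [IsClosedImmersion i]

/-- the inductive statement, preserving direction -/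
def PresAt (d : ℕ) : Prop :=
  ∀ (Z X : Scheme.{u}) (i : Z ⟶ X) [IsClosedImmersion i], HO i → ∀ (E : DCoh.D Z) (b m : ℤ),
    E.IsLE b → b < m + d → ∀ z : Z, PCAt m E z → PCAt m ((Ri i).obj E) (i z)

theorem presAt_zero : PresAt.{u} 0 := by
  intro Z X i _ _ E b m hb hbm z _
  haveI : E.IsLE (m - 1) := TStructure.t.isLE_of_le E b (m - 1) (by push_cast at hbm; omega)
  exact PCAt.of_isLE m _ (i z)

theorem pres_stage3 (d : ℕ) (ih : PresAt.{u} d) (hO : HO i) (E : DCoh.D Z) (b m : ℤ)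
    (hbm : b < m + (d + 1 : ℕ)) (k : ℕ) (α : Q.obj (sgl Z b k) ⟶ E) (hα : IsWitD b α) (z : Z)
    (h : PCAt m E z) : PCAt m ((Ri i).obj E) (i z) := by
  obtain ⟨C, β, δ, hT, hC⟩ := exists_cone_isLE α b hα
  have hT' := (Ri i).map_distinguished _ hT
  have h1 : PCAt (m + 1) (Q.obj (sgl Z b k)) z :=
    Groth.Agent.H4.NT8.allPC_single _ (isFinLocFree_freeMod Z k) b _ z
  have h3 : PCAt m C z := PCAt.obj₃ _ hT m z h1 h
  have h4 : PCAt m ((Ri i).obj C) (i z) :=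
    ih Z X i hO C (b - 1) m hC (by push_cast at hbm ⊢; omega) z h3
  have h5 : PCAt m ((Ri i).obj (Q.obj (sgl Z b k))) (i z) := allPC_Ri_single i hO k b _ _
  exact PCAt.obj₂ _ hT' m (i z) h5 h4

theorem pres_stage2 (d : ℕ) (ih : PresAt.{u} d) (hO : HO i) (E : DCoh.D Z) (b m : ℤ) [E.IsLE b]
    (hbm : b < m + (d + 1 : ℕ)) (k : ℕ) (ψ : FlatMod.freeMod Z k ⟶ DCoh.HD E b)
    [Epi ψ] (z : Z) (h : PCAt m E z) : PCAt m ((Ri i).obj E) (i z) := by
  obtain ⟨U, hzU, α, hα⟩ := exists_single_hom_isWitD E b z k ψ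
  obtain ⟨V, hzV, hVU⟩ := exists_opens_preimage_le i U z hzU
  let l : ((i ⁻¹ᵁ V : Z.Opens) : Scheme.{u}) ⟶ (U : Scheme.{u}) := Z.homOfLE hVU
  have hl : (i ⁻¹ᵁ V).ι = l ≫ U.ι := (Scheme.homOfLE_ι Z hVU).symm
  obtain ⟨α', hα'⟩ := exists_sgl_wit_shrink U.ι l (i ⁻¹ᵁ V).ι hl b k α hα
  refine pcAt_Ri_of_restrict i V E z hzV (fun h' => ?_) h
  exact pres_stage3 (i ∣_ V) d ih (hO.restrict V) _ b m hbm k α' hα' _ h'

theorem pres_stage1 (d : ℕ) (ih : PresAt.{u} d) (hO : HO i) (E : DCoh.D Z) (b m : ℤ) [E.IsLE b]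
    (hbm : b < m + (d + 1 : ℕ)) (hpc : DCoh.IsPseudoCoherentD b E) (z : Z)
    (h : PCAt m E z) : PCAt m ((Ri i).obj E) (i z) := by
  obtain ⟨U, hzU, hU⟩ := exists_epi_freeMod_HD' E b hpc z
  obtain ⟨V, hzV, hVU⟩ := exists_opens_preimage_le i U z hzU
  obtain ⟨k, φ, hφ⟩ := hU (i ⁻¹ᵁ V) hVU
  refine pcAt_Ri_of_restrict i V E z hzV (fun h' => ?_) h
  haveI := hφ
  haveI : ((RD (i ⁻¹ᵁ V).ι).obj E).IsLE b := isLE_RD _ E b
  exact pres_stage2 (i ∣_ V) d ih (hO.restrict V) _ b m hbm k φ _ h'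

theorem presAt_succ (d : ℕ) (ih : PresAt.{u} d) : PresAt.{u} (d + 1) := by
  intro Z X i _ hO E b m hb hbm z h
  by_cases hlt : b < m + d
  · exact ih Z X i hO E b m hb hlt z h
  have hmb : m ≤ b := by omega
  haveI := hb
  have hb' : PCAt b E z := PCAt.mono hmb h
  obtain ⟨U, hzU, hpc⟩ := pcAt_exists_isPC hb'
  obtain ⟨V, hzV, hVU⟩ := exists_opens_preimage_le i U z hzU
  refine pcAt_Ri_of_restrict i V E z hzV (fun h' => ?_) h
  haveI : ((RD (i ⁻¹ᵁ V).ι).obj E).IsLE b := isLE_RD _ E b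
  have hpc' : DCoh.IsPseudoCoherentD b ((RD (i ⁻¹ᵁ V).ι).obj E) := by
    rw [isPseudoCoherentD_iff_pcAt] at hpc ⊢
    intro y
    have hy : y.1 ∈ U := hVU y.2
    have h1 : PCAt b E (U.ι ⟨y.1, hy⟩) := PCAt.of_restrict U.ι E ⟨y.1, hy⟩ (hpc ⟨y.1, hy⟩)
    exact PCAt.restrict (i ⁻¹ᵁ V).ι E y h1
  exact pres_stage1 (i ∣_ V) d ih (hO.restrict V) _ b m hbm hpc' _ h'

theorem presAt (d : ℕ) : PresAt.{u} d := by
  induction d with
  | zero => exact presAt_zero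
  | succ d ih => exact presAt_succ d ih

/-- **preserving direction** -/
theorem pcAt_Ri_of_pcAt (hO : HO i) (E : DCoh.D Z) (m : ℤ) (z : Z)
    (h : PCAt m E z) : PCAt m ((Ri i).obj E) (i z) := by
  obtain ⟨U, b, hzU, hmb, hle⟩ := pcAt_exists_isLE h
  obtain ⟨V, hzV, hVU⟩ := exists_opens_preimage_le i U z hzU
  refine pcAt_Ri_of_restrict i V E z hzV (fun h' => ?_) h
  have hE : ((RD (i ⁻¹ᵁ V).ι).obj E).IsLE b := by
    let l : ((i ⁻¹ᵁ V : Z.Opens) : Scheme.{u}) ⟶ (U : Scheme.{u}) := Z.homOfLE hVU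
    have hl : (i ⁻¹ᵁ V).ι = l ≫ U.ι := (Scheme.homOfLE_ι Z hVU).symm
    obtain ⟨e⟩ := nonempty_RD_comp_obj' l U.ι (i ⁻¹ᵁ V).ι hl E
    haveI := hle
    haveI : ((RD l).obj ((RD U.ι).obj E)).IsLE b := isLE_RD l _ b
    exact TStructure.t.isLE_of_iso e.symm b
  refine presAt (b - m + 1).toNat _ _ (i ∣_ V) (hO.restrict V) _ b m hE ?_ _ h'
  have : ((b - m + 1).toNat : ℤ) = b - m + 1 := Int.toNat_of_nonneg (by omega)
  omega

/-- **S1102**: along a closed immersion with pseudo-coherent direct image of the structure sheaf,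
an object is `m`-pseudo-coherent iff its direct image is -/
theorem isPseudoCoherentD_Ri_iff
    (hO : ∀ m : ℤ, DCoh.IsPseudoCoherentD m
      (DCoh.inD X ((Scheme.Modules.pushforward i).obj (Coh.structureModule Z))))
    (E : DCoh.D Z) (m : ℤ) :
    DCoh.IsPseudoCoherentD m E ↔ DCoh.IsPseudoCoherentD m ((Ri i).obj E) := by
  have hO' : HO i := fun m x => (isPseudoCoherentD_iff_pcAt m _).1 (hO m) x
  simp only [isPseudoCoherentD_iff_pcAt]
  constructor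
  · intro h x
    by_cases hx : x ∈ Set.range i
    · obtain ⟨z, rfl⟩ := hx
      exact pcAt_Ri_of_pcAt i hO' E m z (h z)
    · exact pcAt_Ri_of_notMem_range i m E x hx
  · intro h z
    exact pcAt_of_pcAt_Ri i hO' E m z (h (i z))

end Groth.Agent.H4.RPC6
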