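import Mathlib
import Groth.Prelude.Def_DerSch2
import Groth.Agent.H4.RPC6

set_option autoImplicit false
universe u
attribute [local instance] HasDerivedCategory.standard
open CategoryTheory CategoryTheory.Limits AlgebraicGeometry DerivedCategory Opposite TopologicalSpace
open Groth.Agent.LD.QC Groth.Agent.LD.QCQS Groth.Agent.H4.FAmp5
open Groth.Agent.H4.PSch1 Groth.Agent.H4.PSch2 Groth.Agent.H4.PSch3
open Groth.Agent.H4.TilD9 Groth.Agent.H4.TilD10 Groth.Agent.H4.TilD11
open Groth.Agent.H4.PCS3 Groth.Agent.H4.PCS4 Groth.Agent.H4.PCS7 Groth.Agent.H4.PCS8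
open Groth.Agent.H4.NT7 Groth.Agent.H4.RPC1 Groth.Agent.H4.RPC2 Groth.Agent.H4.RPC2b Groth.Agent.H4.RPC3
open Groth.Agent.H4.RPC4 Groth.Agent.H4.RPC5 Groth.Agent.H4.RPC6 Pretriangulated

namespace Groth.Agent.H4.RPC7

section GBC

variable {X S X' S' : Scheme.{u}} (f : X ⟶ S) (f' : X' ⟶ S') (h : X' ⟶ X) (j : S' ⟶ S)
  [IsOpenImmersion h] [IsOpenImmersion j]

/-- the two functors on opens agree for a cartesian square of open immersions -/
noncomputable def bcFunIsoG (cart : ∀ W : S'.Opens, h ''ᵁ (f' ⁻¹ᵁ W) = f ⁻¹ᵁ (j ''ᵁ W)) :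
    Opens.map f'.base ⋙ h.opensFunctor ≅ j.opensFunctor ⋙ Opens.map f.base :=
  NatIso.ofComponents (fun W => eqToIso (cart W)) (fun _ => rfl)

instance : (Opens.map f'.base ⋙ h.opensFunctor).IsContinuous
    (Opens.grothendieckTopology S') (Opens.grothendieckTopology X) :=
  Functor.isContinuous_comp _ _ _ (Opens.grothendieckTopology X') _

instance : (j.opensFunctor ⋙ Opens.map f.base).IsContinuous
    (Opens.grothendieckTopology S') (Opens.grothendieckTopology X) :=
  Functor.isContinuous_comp _ _ _ (Opens.grothendieckTopology S) _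

/-- ring map of `restrictFunctor j` -/
noncomputable def ψRG :
    S'.ringCatSheaf ⟶ (j.opensFunctor.sheafPushforwardContinuous RingCat.{u}
      (Opens.grothendieckTopology S') (Opens.grothendieckTopology S)).obj S.ringCatSheaf :=
  ⟨Functor.whiskerRight ({ app := fun U => (j.appIso U.unop).inv } :
        S'.presheaf ⟶ j.opensFunctor.op ⋙ S.presheaf) (forget₂ CommRingCat RingCat)⟩

example : Scheme.Modules.restrictFunctor j = SheafOfModules.pushforward (ψRG j) := rfl

/-- ring map of the left side -/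
noncomputable def φLG : S'.ringCatSheaf ⟶
    ((j.opensFunctor ⋙ Opens.map f.base).sheafPushforwardContinuous RingCat.{u}
      (Opens.grothendieckTopology S') (Opens.grothendieckTopology X)).obj X.ringCatSheaf := by
  exact ψRG j ≫ (j.opensFunctor.sheafPushforwardContinuous RingCat.{u}
      (Opens.grothendieckTopology S') (Opens.grothendieckTopology S)).map f.toRingCatSheafHom

/-- ring map of the right side -/
noncomputable def φRG : S'.ringCatSheaf ⟶
    ((Opens.map f'.base ⋙ h.opensFunctor).sheafPushforwardContinuous RingCat.{u}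
      (Opens.grothendieckTopology S') (Opens.grothendieckTopology X)).obj X.ringCatSheaf := by
  exact f'.toRingCatSheafHom ≫ ((Opens.map f'.base).sheafPushforwardContinuous RingCat.{u}
      (Opens.grothendieckTopology S') (Opens.grothendieckTopology X')).map (ψRG h)

example : Scheme.Modules.pushforward f ⋙ Scheme.Modules.restrictFunctor j =
    SheafOfModules.pushforward (F := j.opensFunctor ⋙ Opens.map f.base) (φLG f j) := rfl

example : Scheme.Modules.restrictFunctor h ⋙ Scheme.Modules.pushforward f' =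
    SheafOfModules.pushforward (F := Opens.map f'.base ⋙ h.opensFunctor) (φRG f' h) := rfl

lemma φLG_app (W : S'.Opens) (x : Γ(S', W)) :
    ((φLG f j).hom.app (op W)).hom x = f.app (j ''ᵁ W) ((j.appIso W).inv.hom x) := rfl

lemma φRG_app (W : S'.Opens) (x : Γ(S', W)) :
    ((φRG f' h).hom.app (op W)).hom x =
      ((h.appIso (f' ⁻¹ᵁ W)).inv.hom (f'.app W x)) := rfl

lemma ring_eqG (comm : h ≫ f = f' ≫ j)
    (cart : ∀ W : S'.Opens, h ''ᵁ (f' ⁻¹ᵁ W) = f ⁻¹ᵁ (j ''ᵁ W)) (W : S'.Opens) :
    (j.appIso W).inv ≫ f.app (j ''ᵁ W) ≫ X.presheaf.map (eqToHom (cart W)).op =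
      f'.app W ≫ (h.appIso (f' ⁻¹ᵁ W)).inv := by
  rw [← cancel_epi (j.appIso W).hom, ← cancel_mono (h.appIso (f' ⁻¹ᵁ W)).hom]
  simp only [Iso.hom_inv_id_assoc, Category.assoc, Iso.inv_hom_id, Category.comp_id]
  simp only [Scheme.Hom.appIso_hom', Scheme.Hom.app_eq_appLE, Scheme.Hom.appLE_map_assoc,
    Scheme.Hom.appLE_comp_appLE, comm]

lemma φ_eqG (comm : h ≫ f = f' ≫ j)
    (cart : ∀ W : S'.Opens, h ''ᵁ (f' ⁻¹ᵁ W) = f ⁻¹ᵁ (j ''ᵁ W)) :
    φLG f j ≫ (Functor.sheafPushforwardContinuousNatTrans (bcFunIsoG f f' h j cart).hom RingCat.{u}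
      (Opens.grothendieckTopology S') (Opens.grothendieckTopology X)).app X.ringCatSheaf =
    φRG f' h := by
  apply Sheaf.hom_ext
  apply NatTrans.ext
  funext W
  apply RingCat.hom_ext
  apply RingHom.ext
  intro x
  obtain ⟨W⟩ := W
  show X.presheaf.map ((bcFunIsoG f f' h j cart).hom.app W).op (((φLG f j).hom.app (op W)).hom x) =
    ((φRG f' h).hom.app (op W)).hom x
  rw [φLG_app, φRG_app]
  exact congr($(ring_eqG f f' h j comm cart W) x)

/-- **base change of direct image along a cartesian square of open immersions** -/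
noncomputable def bcIsoG (comm : h ≫ f = f' ≫ j)
    (cart : ∀ W : S'.Opens, h ''ᵁ (f' ⁻¹ᵁ W) = f ⁻¹ᵁ (j ''ᵁ W)) :
    Scheme.Modules.pushforward f ⋙ Scheme.Modules.restrictFunctor j ≅
      Scheme.Modules.restrictFunctor h ⋙ Scheme.Modules.pushforward f' := by
  exact SheafOfModules.pushforwardCongr₂ (φLG f j) (bcFunIsoG f f' h j cart)
    (φ_eqG f f' h j comm cart)

/-- cartesianness from a range condition -/
lemma cart_of_range (comm : h ≫ f = f' ≫ j)
    (hr : ∀ x : X, f x ∈ Set.range j → x ∈ Set.range h) (W : S'.Opens) :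
    h ''ᵁ (f' ⁻¹ᵁ W) = f ⁻¹ᵁ (j ''ᵁ W) := by
  ext x
  constructor
  · rintro ⟨x', hx', rfl⟩
    refine ⟨f' x', hx', ?_⟩
    have := congr($(comm) x')
    simpa using this.symm
  · rintro ⟨s', hs', hs⟩
    obtain ⟨x', rfl⟩ := hr x ⟨s', hs⟩
    refine ⟨x', ?_, rfl⟩
    have h1 : j (f' x') = j s' := by
      have := congr($(comm) x')
      exact (by simpa using this.symm : j (f' x') = f (h x')).trans hs.symm
    have h2 : f' x' = s' := j.isOpenEmbedding.injective h1
    show f' x' ∈ W
    rw [h2]; exact hs'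

end GBC

section Derived

variable {X S X' S' : Scheme.{u}} (f : X ⟶ S) (f' : X' ⟶ S') (h : X' ⟶ X) (j : S' ⟶ S)
  [IsOpenImmersion h] [IsOpenImmersion j] [IsClosedImmersion f] [IsClosedImmersion f']

/-- base change of termwise direct image, general cartesian square of open immersions -/
noncomputable def pushResCxG (comm : h ≫ f = f' ≫ j)
    (cart : ∀ W : S'.Opens, h ''ᵁ (f' ⁻¹ᵁ W) = f ⁻¹ᵁ (j ''ᵁ W)) :
    DerSch.pushCx f ⋙ resCx j ≅ resCx h ⋙ DerSch.pushCx f' :=
  Functor.mapHomologicalComplexCompIso (bcIsoG f f' h j comm cart) _ ≪≫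
    (Functor.mapHomologicalComplexCompIso
      (Iso.refl (Scheme.Modules.restrictFunctor h ⋙ Scheme.Modules.pushforward f')) _).symm

/-- base change of derived direct image, general cartesian square of open immersions -/
noncomputable def RiBC (comm : h ≫ f = f' ≫ j)
    (cart : ∀ W : S'.Opens, h ''ᵁ (f' ⁻¹ᵁ W) = f ⁻¹ᵁ (j ''ᵁ W)) :
    Ri f ⋙ RD j ≅ RD h ⋙ Ri f' :=
  letI : Localization.Lifting Q (HomologicalComplex.quasiIso X.Modules (ComplexShape.up ℤ))
      (DerSch.pushCx f ⋙ resCx j ⋙ Q) (Ri f ⋙ RD j) :=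
    ⟨(Functor.associator _ _ _).symm ≪≫
      Functor.isoWhiskerRight (Scheme.Modules.pushforward f).mapDerivedCategoryFactors (RD j) ≪≫
      Functor.associator _ _ _ ≪≫
      Functor.isoWhiskerLeft (DerSch.pushCx f)
        (Scheme.Modules.restrictFunctor j).mapDerivedCategoryFactors⟩
  letI : Localization.Lifting Q (HomologicalComplex.quasiIso X.Modules (ComplexShape.up ℤ))
      (resCx h ⋙ DerSch.pushCx f' ⋙ Q) (RD h ⋙ Ri f') :=
    ⟨(Functor.associator _ _ _).symm ≪≫
      Functor.isoWhiskerRight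
        (Scheme.Modules.restrictFunctor h).mapDerivedCategoryFactors (Ri f') ≪≫
      Functor.associator _ _ _ ≪≫
      Functor.isoWhiskerLeft (resCx h)
        (Scheme.Modules.pushforward f').mapDerivedCategoryFactors⟩
  Localization.liftNatIso Q (HomologicalComplex.quasiIso X.Modules (ComplexShape.up ℤ))
    (DerSch.pushCx f ⋙ resCx j ⋙ Q) (resCx h ⋙ DerSch.pushCx f' ⋙ Q) _ _
    ((Functor.associator _ _ _).symm ≪≫ Functor.isoWhiskerRight (pushResCxG f f' h j comm cart) Q ≪≫
      Functor.associator _ _ _)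

end Derived

section Comp

variable {Z P P' : Scheme.{u}} (i : Z ⟶ P) (c : P ⟶ P') [IsClosedImmersion i] [IsClosedImmersion c]

/-- termwise direct image along a composition -/
noncomputable def pushCxComp : DerSch.pushCx (i ≫ c) ≅ DerSch.pushCx i ⋙ DerSch.pushCx c :=
  (Functor.mapHomologicalComplexCompIso (Scheme.Modules.pushforwardComp i c) _).symm

/-- derived direct image along a composition of closed immersions -/
noncomputable def RiComp : Ri (i ≫ c) ≅ Ri i ⋙ Ri c :=
  letI : Localization.Lifting Q (HomologicalComplex.quasiIso Z.Modules (ComplexShape.up ℤ))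
      (DerSch.pushCx i ⋙ DerSch.pushCx c ⋙ Q) (Ri i ⋙ Ri c) :=
    ⟨(Functor.associator _ _ _).symm ≪≫
      Functor.isoWhiskerRight (Scheme.Modules.pushforward i).mapDerivedCategoryFactors (Ri c) ≪≫
      Functor.associator _ _ _ ≪≫
      Functor.isoWhiskerLeft (DerSch.pushCx i)
        (Scheme.Modules.pushforward c).mapDerivedCategoryFactors⟩
  Localization.liftNatIso Q (HomologicalComplex.quasiIso Z.Modules (ComplexShape.up ℤ))
    (DerSch.pushCx (i ≫ c) ⋙ Q) (DerSch.pushCx i ⋙ DerSch.pushCx c ⋙ Q) _ _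
    (Functor.isoWhiskerRight (pushCxComp i c) Q ≪≫ Functor.associator _ _ _)

end Comp

section Local

variable {Z P : Scheme.{u}} (f : Z ⟶ P) [IsClosedImmersion f]

/-- pseudo-coherence restricts along open immersions -/
lemma isPseudoCoherentD_RD {m : ℤ} {P' : Scheme.{u}} (j : P' ⟶ P) [IsOpenImmersion j] (K : DCoh.D P)
    (hK : DCoh.IsPseudoCoherentD m K) : DCoh.IsPseudoCoherentD m ((RD j).obj K) := by
  rw [isPseudoCoherentD_iff_pcAt] at hK ⊢
  intro y
  exact PCAt.restrict j K y (hK (j y))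

/-- pseudo-coherence of a direct image along a closed immersion may be tested on opens covering
the image -/
lemma isPseudoCoherentD_Ri_of_cover {m : ℤ} {ι : Type*} (P' : ι → Scheme.{u}) (j : ∀ a, P' a ⟶ P)
    [∀ a, IsOpenImmersion (j a)] (hcov : ∀ z : Z, ∃ a, f z ∈ Set.range (j a)) (K : DCoh.D Z)
    (hloc : ∀ a, DCoh.IsPseudoCoherentD m ((RD (j a)).obj ((Ri f).obj K))) :
    DCoh.IsPseudoCoherentD m ((Ri f).obj K) := by
  rw [isPseudoCoherentD_iff_pcAt]
  intro x
  by_cases hx : x ∈ Set.range f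
  · obtain ⟨z, rfl⟩ := hx
    obtain ⟨a, y, hy⟩ := hcov z
    have h1 := (isPseudoCoherentD_iff_pcAt m _).1 (hloc a) y
    have h2 := PCAt.of_restrict (j a) _ y h1
    rwa [hy] at h2
  · exact pcAt_Ri_of_notMem_range f m K x hx

end Local

end Groth.Agent.H4.RPC7
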