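import Mathlib
import Groth.Prelude.Def_DerSch2
import Groth.Agent.H4.RPC7

set_option autoImplicit false
universe u
attribute [local instance] HasDerivedCategory.standard
open CategoryTheory CategoryTheory.Limits AlgebraicGeometry DerivedCategory Opposite TopologicalSpace
open Groth.Agent.LD.QC Groth.Agent.LD.QCQS Groth.Agent.H4.FAmp5
open Groth.Agent.H4.PSch1 Groth.Agent.H4.PSch2 Groth.Agent.H4.PSch3
open Groth.Agent.H4.TilD9 Groth.Agent.H4.TilD10 Groth.Agent.H4.TilD11
open Groth.Agent.H4.PCS3 Groth.Agent.H4.PCS4 Groth.Agent.H4.PCS7 Groth.Agent.H4.PCS8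
open Groth.Agent.H4.NT7 Groth.Agent.H4.RPC1 Groth.Agent.H4.RPC2 Groth.Agent.H4.RPC2b Groth.Agent.H4.RPC3
open Groth.Agent.H4.RPC4 Groth.Agent.H4.RPC5 Groth.Agent.H4.RPC6 Groth.Agent.H4.RPC7 Pretriangulated

namespace Groth.Agent.H4.RPC8

section

variable {Z P P' : Scheme.{u}} (i : Z ⟶ P) (c : P ⟶ P') [IsClosedImmersion i] [IsClosedImmersion c]

/-- derived direct image of a module placed in degree `0` -/
noncomputable def RiInD (F : Z.Modules) :
    (Ri i).obj (DCoh.inD Z F) ≅ DCoh.inD P ((Scheme.Modules.pushforward i).obj F) :=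
  ((Scheme.Modules.pushforward i).mapDerivedCategorySingleFunctor 0).app F

/-- all-`m` pseudo-coherence is preserved by `Ri` -/
lemma AllPC.Ri (hi : HO i) {K : DCoh.D Z} (hK : AllPC K) : AllPC ((Ri i).obj K) := by
  intro m x
  by_cases hx : x ∈ Set.range i
  · obtain ⟨z, rfl⟩ := hx
    exact pcAt_Ri_of_pcAt i hi K m z (hK m z)
  · exact pcAt_Ri_of_notMem_range i m K x hx

/-- the class of closed immersions with pseudo-coherent direct image of the structure sheaf is
closed under composition -/
lemma HO.comp (hi : HO i) (hc : HO c) : HO (i ≫ c) := by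
  have h1 : AllPC ((Ri c).obj (DCoh.inD P ((Scheme.Modules.pushforward i).obj
      (Coh.structureModule Z)))) := AllPC.Ri c hc hi
  have e1 := RiInD c ((Scheme.Modules.pushforward i).obj (Coh.structureModule Z))
  have e2 : (Scheme.Modules.pushforward c).obj ((Scheme.Modules.pushforward i).obj
      (Coh.structureModule Z)) ≅ (Scheme.Modules.pushforward (i ≫ c)).obj (Coh.structureModule Z) :=
    (Scheme.Modules.pushforwardComp i c).app _
  exact h1.of_iso (e1 ≪≫ (singleFunctor _ 0).mapIso e2)

/-- **transfer along a closed immersion of the target** -/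
theorem isPseudoCoherentD_Ri_comp_iff (hc : HO c) (K : DCoh.D Z) (m : ℤ) :
    DCoh.IsPseudoCoherentD m ((Ri (i ≫ c)).obj K) ↔ DCoh.IsPseudoCoherentD m ((Ri i).obj K) := by
  have hO : ∀ m : ℤ, DCoh.IsPseudoCoherentD m
      (DCoh.inD P' ((Scheme.Modules.pushforward c).obj (Coh.structureModule P))) :=
    fun m => (isPseudoCoherentD_iff_pcAt m _).2 (fun x => hc m x)
  rw [isPseudoCoherentD_Ri_iff c hO ((Ri i).obj K) m]
  constructor
  · exact isPseudoCoherentD_of_iso ((RiComp i c).app K)
  · exact isPseudoCoherentD_of_iso ((RiComp i c).app K).symm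

end

end Groth.Agent.H4.RPC8
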