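import Mathlib
import Groth.Prelude.Def_DerSch2
import Groth.Agent.H4.RPC8
import Groth.Agent.H4.PC3
import Groth.Agent.Lib.Helper5.AG.TildeExact
import Groth.Agent.Lib.Lead.QC.Pullback

set_option autoImplicit false
universe u
attribute [local instance] HasDerivedCategory.standard
open CategoryTheory CategoryTheory.Limits AlgebraicGeometry DerivedCategory Opposite TopologicalSpace
open Groth.Agent.LD.QC Groth.Agent.LD.QCQS Groth.Agent.H4.FAmp5
open Groth.Agent.H4.PSch1 Groth.Agent.H4.PSch2 Groth.Agent.H4.PSch3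
open Groth.Agent.H4.TilD9 Groth.Agent.H4.TilD10 Groth.Agent.H4.TilD11
open Groth.Agent.H4.PCS3 Groth.Agent.H4.PCS4 Groth.Agent.H4.PCS7 Groth.Agent.H4.PCS8
open Groth.Agent.H4.NT7 Groth.Agent.H4.RPC1 Groth.Agent.H4.RPC2 Groth.Agent.H4.RPC2b Groth.Agent.H4.RPC3
open Groth.Agent.H4.RPC4 Groth.Agent.H4.RPC5 Groth.Agent.H4.RPC6 Groth.Agent.H4.RPC7 Groth.Agent.H4.RPC8 Pretriangulated

namespace Groth.Agent.H4.RPC9

section

variable {A B : CommRingCat.{u}} (φ : A ⟶ B)

/-- global sections of the structure sheaf of `Spec B`, as a `B`-module -/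
noncomputable def ΓUnitIso :
    (moduleSpecΓFunctor (R := B)).obj (SheafOfModules.unit (Spec B).ringCatSheaf) ≅ ModuleCat.of B B :=
  (asIso ((tilde.adjunction (R := B)).unit.app (ModuleCat.of B B))).symm

/-- `(Spec φ)_* O ≅ (B as an A-module)~` -/
noncomputable def pushUnitIso :
    (Scheme.Modules.pushforward (Spec.map φ)).obj (SheafOfModules.unit (Spec B).ringCatSheaf) ≅
      (tilde.functor A).obj ((ModuleCat.restrictScalars φ.hom).obj (ModuleCat.of B B)) :=
  haveI : IsIso (Scheme.Modules.fromTildeΓ ((Scheme.Modules.pushforward (Spec.map φ)).obj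
      (SheafOfModules.unit (Spec B).ringCatSheaf))) := isIso_fromTildeΓ_pushforward φ _
  (asIso (Scheme.Modules.fromTildeΓ ((Scheme.Modules.pushforward (Spec.map φ)).obj
      (SheafOfModules.unit (Spec B).ringCatSheaf)))).symm ≪≫
    (tilde.functor A).mapIso ((ΓPushIso φ).app _ ≪≫
      (ModuleCat.restrictScalars φ.hom).mapIso (ΓUnitIso (B := B)))

end

section

variable {A B : Type u} [CommRing A] [CommRing B] (θ : A →+* B)

/-- `B` as an `A`-module along `θ` -/
noncomputable abbrev resMod : ModuleCat.{u} A :=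
  (ModuleCat.restrictScalars θ).obj (ModuleCat.of B B)

/-- from ring-level pseudo-coherence of `B` over `A` to pseudo-coherence of `(Spec θ)_* O` -/
theorem HO_Spec [IsClosedImmersion (Spec.map (CommRingCat.ofHom θ))]
    (h : ∀ m : ℤ, DRing.IsPseudoCoherent A m ((singleFunctor (ModuleCat.{u} A) 0).obj (resMod θ))) :
    HO (Spec.map (CommRingCat.ofHom θ)) := by
  haveI := Groth.Agent.H5.AG.tilde_preservesFiniteLimits (CommRingCat.of A)
  intro m x
  have h1 : DCoh.IsPseudoCoherentD m ((DCoh.tildeD (CommRingCat.of A)).obj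
      ((singleFunctor (ModuleCat.{u} A) 0).obj (resMod θ))) := (S1004 A _ m).2 (h m)
  have e1 : (DCoh.tildeD (CommRingCat.of A)).obj
      ((singleFunctor (ModuleCat.{u} A) 0).obj (resMod θ)) ≅
      DCoh.inD _ ((tilde.functor (CommRingCat.of A)).obj (resMod θ)) :=
    ((tilde.functor (CommRingCat.of A)).mapDerivedCategorySingleFunctor 0).app (resMod θ)
  have e2 := (singleFunctor _ 0).mapIso (pushUnitIso (CommRingCat.ofHom θ))
  have h2 := isPseudoCoherentD_of_iso (e1 ≪≫ e2.symm) h1
  exact (isPseudoCoherentD_iff_pcAt m _).1 h2 x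

end

section Ring

open Groth.Agent.H4.PC

variable {A B : Type u} [CommRing A] [CommRing B] (θ : A →+* B)

/-- `θ` as an `A`-linear map onto `B` viewed as an `A`-module -/
noncomputable def resLin : A →ₗ[A] (resMod θ) where
  toFun x := (θ x : B)
  map_add' x y := by
    show θ (x + y) = θ x + θ y
    exact map_add θ x y
  map_smul' r x := by
    show θ (r * x) = θ r * θ x
    simp

lemma resLin_apply (x : A) : (resLin θ x : B) = θ x := rfl

/-- the short complex `A --a--> A --θ--> B` -/
noncomputable def resSC (a : A) (ha : θ a = 0) : ShortComplex (ModuleCat.{u} A) :=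
  ShortComplex.mk (ModuleCat.ofHom (LinearMap.toSpanSingleton A A a)) (ModuleCat.ofHom (resLin θ)) (by
    ext
    show θ (1 * a) = 0
    simp [ha])

lemma resSC_shortExact (hθ : Function.Surjective θ) (a : A) (ha : ∀ x : A, x * a = 0 → x = 0)
    (hker : RingHom.ker θ = Ideal.span {a}) :
    (resSC θ a (by rw [← RingHom.mem_ker, hker]; exact Ideal.mem_span_singleton_self a)).ShortExact := by
  refine ShortComplex.ShortExact.mk' ?_ ?_ ?_
  · rw [ShortComplex.moduleCat_exact_iff]
    intro x hx
    have hx' : θ x = 0 := hx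
    rw [← RingHom.mem_ker, hker, Ideal.mem_span_singleton'] at hx'
    obtain ⟨c, hc⟩ := hx'
    exact ⟨c, hc⟩
  · rw [ModuleCat.mono_iff_injective]
    intro (x : A) (y : A) hxy
    have h1 : x * a = y * a := hxy
    have h2 : (x - y) * a = 0 := by rw [sub_mul, h1, sub_self]
    exact sub_eq_zero.1 (ha _ h2)
  · rw [ModuleCat.epi_iff_surjective]
    exact hθ

theorem isPC_resMod_of_regular (hθ : Function.Surjective θ) (a : A) (ha : ∀ x : A, x * a = 0 → x = 0)
    (hker : RingHom.ker θ = Ideal.span {a}) (m : ℤ) :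
    DRing.IsPseudoCoherent A m ((singleFunctor (ModuleCat.{u} A) 0).obj (resMod θ)) :=
  isPC_X₃_of_shortExact _ (resSC_shortExact θ hθ a ha hker) m
    (isPC_single_of_finite_free (m + 1) 0 (ModuleCat.of A A))
    (isPC_single_of_finite_free m 0 (ModuleCat.of A A))

theorem isPC_resMod_of_bijective (hθ : Function.Bijective θ) (m : ℤ) :
    DRing.IsPseudoCoherent A m ((singleFunctor (ModuleCat.{u} A) 0).obj (resMod θ)) := by
  have e : ModuleCat.of A A ≅ resMod θ :=
    (LinearEquiv.ofBijective (resLin θ) hθ).toModuleIso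
  exact isPC_of_iso ((singleFunctor (ModuleCat.{u} A) 0).mapIso e)
    (isPC_single_of_finite_free m 0 (ModuleCat.of A A))


lemma isClosedImmersion_Spec (hθ : Function.Surjective θ) :
    IsClosedImmersion (Spec.map (CommRingCat.ofHom θ)) :=
  IsClosedImmersion.spec_of_surjective _ hθ

/-- the class of ring maps whose `Spec` is a closed immersion with pseudo-coherent direct image of
the structure sheaf -/
def RHO : Prop :=
  IsClosedImmersion (Spec.map (CommRingCat.ofHom θ)) ∧ HO (Spec.map (CommRingCat.ofHom θ))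

theorem RHO.of_regular (hθ : Function.Surjective θ) (a : A) (ha : ∀ x : A, x * a = 0 → x = 0)
    (hker : RingHom.ker θ = Ideal.span {a}) : RHO θ := by
  haveI := isClosedImmersion_Spec θ hθ
  exact ⟨inferInstance, HO_Spec θ (isPC_resMod_of_regular θ hθ a ha hker)⟩

theorem RHO.of_bijective (hθ : Function.Bijective θ) : RHO θ := by
  haveI := isClosedImmersion_Spec θ hθ.2
  exact ⟨inferInstance, HO_Spec θ (isPC_resMod_of_bijective θ hθ)⟩

theorem RHO.comp {C : Type u} [CommRing C] {θ : A →+* B} {θ' : B →+* C} (h : RHO θ) (h' : RHO θ') :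
    RHO (θ'.comp θ) := by
  obtain ⟨i1, h1⟩ := h
  obtain ⟨i2, h2⟩ := h'
  have e : Spec.map (CommRingCat.ofHom (θ'.comp θ)) =
      Spec.map (CommRingCat.ofHom θ') ≫ Spec.map (CommRingCat.ofHom θ) := by
    rw [← Spec.map_comp]; rfl
  haveI : IsClosedImmersion (Spec.map (CommRingCat.ofHom (θ'.comp θ))) := by
    rw [e]; infer_instance
  refine ⟨inferInstance, ?_⟩
  have h3 := HO.comp (Spec.map (CommRingCat.ofHom θ')) (Spec.map (CommRingCat.ofHom θ)) h2 h1
  rw [e]
  exact h3

end Ring

end Groth.Agent.H4.RPC9
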