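import Mathlib
import Groth.Prelude.Def_DerSch2
import Groth.Agent.H4.RPC9

set_option autoImplicit false
universe u
attribute [local instance] HasDerivedCategory.standard
open CategoryTheory CategoryTheory.Limits AlgebraicGeometry Opposite TopologicalSpace
open Groth.Agent.H4.RPC3 Groth.Agent.H4.RPC8 Groth.Agent.H4.RPC9

namespace Groth.Agent.H4.RPC10

section Eval

variable {B : Type u} [CommRing B]

open Polynomial in
theorem RHO.eval (f : B) : RHO (Polynomial.evalRingHom f) := by
  refine RHO.of_regular _ ?_ (X - C f) ?_ (Polynomial.ker_evalRingHom f)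
  · intro b
    exact ⟨C b, by simp⟩
  · intro p hp
    exact (Polynomial.monic_X_sub_C f).mul_left_eq_zero_iff.1 hp

end Eval

section Away

open Polynomial

variable {B : Type u} [CommRing B] (b : B) (L : Type u) [CommRing L] [Algebra B L]
  [IsLocalization.Away b L]

/-- `B[t] → B_b`, `t ↦ 1/b` -/
noncomputable def awayHom : B[X] →+* L :=
  Polynomial.eval₂RingHom (algebraMap B L) (IsLocalization.Away.invSelf b)

lemma awayHom_C (x : B) : awayHom b L (C x) = algebraMap B L x := by
  simp [awayHom]

lemma awayHom_X : awayHom b L X = IsLocalization.Away.invSelf b := by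
  simp [awayHom]

lemma regular_CX_sub_one (p : B[X]) (hp : p * (C b * X - 1) = 0) : p = 0 := by
  have h : ∀ n, p.coeff n = 0 := by
    intro n
    induction n with
    | zero =>
      have := congrArg (fun q => q.coeff 0) hp
      simp only [mul_sub, mul_one, coeff_sub, coeff_zero] at this
      rw [← mul_assoc, Polynomial.coeff_mul_X_zero, zero_sub, neg_eq_zero] at this
      exact this
    | succ n ih =>
      have := congrArg (fun q => q.coeff (n + 1)) hp
      simp only [mul_sub, mul_one, coeff_sub, coeff_zero] at this
      rw [← mul_assoc, Polynomial.coeff_mul_X, Polynomial.coeff_mul_C, ih, zero_mul, zero_sub,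
        neg_eq_zero] at this
      exact this
  ext n
  simp [h n]

lemma awayHom_eq :
    haveI := IsLocalization.adjoin_inv b
    awayHom b L = ((IsLocalization.algEquiv (Submonoid.powers b) (AdjoinRoot (C b * X - 1)) L :
      AdjoinRoot (C b * X - 1) →+* L)).comp (AdjoinRoot.mk (C b * X - 1)) := by
  haveI := IsLocalization.adjoin_inv b
  apply Polynomial.ringHom_ext
  · intro x
    rw [awayHom_C]
    exact ((IsLocalization.algEquiv (Submonoid.powers b) (AdjoinRoot (C b * X - 1)) L).commutes
      x).symm
  · rw [awayHom_X]
    simp only [RingHom.comp_apply]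
    set e := IsLocalization.algEquiv (Submonoid.powers b) (AdjoinRoot (C b * X - 1)) L
    set y : L := e (AdjoinRoot.mk (C b * X - 1) X)
    have h1 : algebraMap B L b * y = 1 := by
      have h0 : (AdjoinRoot.of (C b * X - 1)) b * AdjoinRoot.root (C b * X - 1) = 1 :=
        AdjoinRoot.root_isInv b
      have h2 := congrArg e h0
      rw [map_mul, map_one] at h2
      have h3 : e ((AdjoinRoot.of (C b * X - 1)) b) = algebraMap B L b := e.commutes b
      rw [h3] at h2
      exact h2
    have h2 : algebraMap B L b * IsLocalization.Away.invSelf b = 1 :=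
      IsLocalization.Away.mul_invSelf b
    calc IsLocalization.Away.invSelf b
        = IsLocalization.Away.invSelf b * (algebraMap B L b * y) := by rw [h1, mul_one]
      _ = (algebraMap B L b * IsLocalization.Away.invSelf b) * y := by ring
      _ = y := by rw [h2, one_mul]

lemma awayHom_surjective : Function.Surjective (awayHom b L) := by
  haveI := IsLocalization.adjoin_inv b
  rw [awayHom_eq]
  exact (IsLocalization.algEquiv (Submonoid.powers b) (AdjoinRoot (C b * X - 1)) L).surjective.comp
    AdjoinRoot.mk_surjective

lemma ker_awayHom : RingHom.ker (awayHom b L) = Ideal.span {C b * X - 1} := by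
  haveI := IsLocalization.adjoin_inv b
  ext p
  rw [RingHom.mem_ker, awayHom_eq, RingHom.comp_apply, Ideal.mem_span_singleton]
  rw [← AdjoinRoot.mk_eq_zero]
  exact (IsLocalization.algEquiv (Submonoid.powers b) (AdjoinRoot (C b * X - 1)) L).map_eq_zero_iff

theorem RHO.away : RHO (awayHom b L) :=
  RHO.of_regular _ (awayHom_surjective b L) (C b * X - 1) (regular_CX_sub_one b) (ker_awayHom b L)

end Away

section AEval

variable {B : Type u} [CommRing B]

lemma eval_succ_eq (k : ℕ) (f : Fin (k + 1) → B) :
    MvPolynomial.eval f = (MvPolynomial.eval (fun i : Fin k => f i.succ)).comp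
      ((Polynomial.evalRingHom (MvPolynomial.C (f 0))).comp
        ((MvPolynomial.finSuccEquiv B k : MvPolynomial (Fin (k + 1)) B →+*
          Polynomial (MvPolynomial (Fin k) B)))) := by
  apply MvPolynomial.ringHom_ext
  · intro r
    simp only [RingHom.comp_apply, RingHom.coe_coe, MvPolynomial.eval_C]
    rw [MvPolynomial.finSuccEquiv_apply]
    simp
  · intro i
    refine Fin.cases ?_ (fun j => ?_) i
    · simp only [RingHom.comp_apply, RingHom.coe_coe, MvPolynomial.eval_X]
      rw [MvPolynomial.finSuccEquiv_X_zero]
      simp
    · simp only [RingHom.comp_apply, RingHom.coe_coe, MvPolynomial.eval_X]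
      rw [MvPolynomial.finSuccEquiv_X_succ]
      simp

theorem RHO.mvEval : ∀ (k : ℕ) (f : Fin k → B), RHO (MvPolynomial.eval f)
  | 0, f => by
    apply RHO.of_bijective
    constructor
    · intro p q hpq
      rw [MvPolynomial.eq_C_of_isEmpty p, MvPolynomial.eq_C_of_isEmpty q] at hpq ⊢
      simp only [MvPolynomial.eval_C] at hpq
      rw [hpq]
    · intro b
      exact ⟨MvPolynomial.C b, by simp⟩
  | k + 1, f => by
    rw [eval_succ_eq]
    refine RHO.comp (RHO.comp ?_ (RHO.eval _)) (RHO.mvEval k _)
    exact RHO.of_bijective _ (MvPolynomial.finSuccEquiv B k).bijective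

end AEval

end Groth.Agent.H4.RPC10
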