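import Mathlib
import Groth.Prelude.Def_DerSch2
import Groth.Agent.H4.RPC10

set_option autoImplicit false
universe u
attribute [local instance] HasDerivedCategory.standard
open CategoryTheory CategoryTheory.Limits AlgebraicGeometry DerivedCategory Opposite TopologicalSpace
open Groth.Agent.LD.QC Groth.Agent.LD.QCQS Groth.Agent.H4.FAmp5
open Groth.Agent.H4.PSch1 Groth.Agent.H4.PSch2 Groth.Agent.H4.PSch3
open Groth.Agent.H4.TilD9 Groth.Agent.H4.TilD10 Groth.Agent.H4.TilD11
open Groth.Agent.H4.PCS3 Groth.Agent.H4.PCS4 Groth.Agent.H4.PCS7 Groth.Agent.H4.PCS8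
open Groth.Agent.H4.NT7 Groth.Agent.H4.RPC1 Groth.Agent.H4.RPC2 Groth.Agent.H4.RPC2b Groth.Agent.H4.RPC3
open Groth.Agent.H4.RPC4 Groth.Agent.H4.RPC5 Groth.Agent.H4.RPC6 Groth.Agent.H4.RPC7 Groth.Agent.H4.RPC8
open Groth.Agent.H4.RPC9 Groth.Agent.H4.RPC10 Pretriangulated

namespace Groth.Agent.H4.RPC11

section

variable {X : Scheme.{u}} (U : X.Opens) {B : Type u} [CommRing B] (φ : B →+* Γ(X, U))

/-- generalised chart morphism -/
noncomputable def gImm : (U : Scheme.{u}) ⟶ Spec (CommRingCat.of B) :=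
  U.toSpecΓ ≫ Spec.map (CommRingCat.ofHom φ)

lemma chartImm_eq {R : Type u} [CommRing R] {n : ℕ} (φ : MvPolynomial (Fin n) R →+* Γ(X, U)) :
    DerSch.chartImm U φ = gImm U φ := rfl

lemma isClosedImmersion_gImm (hU : IsAffineOpen U) (hφ : Function.Surjective φ) :
    IsClosedImmersion (gImm U φ) := by
  haveI : IsIso U.toSpecΓ := by
    rw [← hU.isoSpec_hom]; infer_instance
  haveI := isClosedImmersion_Spec φ hφ
  unfold gImm
  infer_instance

lemma gImm_comp {B' : Type u} [CommRing B'] (θ : B' →+* B) :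
    gImm U (φ.comp θ) = gImm U φ ≫ Spec.map (CommRingCat.ofHom θ) := by
  unfold gImm
  rw [Category.assoc, ← Spec.map_comp]
  rfl

/-- generalised chart test, on representatives -/
def GPC (m : ℤ) (K : DCoh.D X) : Prop :=
  ∀ G : CochainComplex X.Modules ℤ, Nonempty (DCoh.toD X G ≅ K) →
    DCoh.IsPseudoCoherentD m
      (DCoh.toD (Spec (CommRingCat.of B))
        ((DerSch.pushCx (gImm U φ)).obj ((DCoh.restrictCx U).obj G)))

lemma chartPC_iff_gpc {Y : Scheme.{u}} (V : Y.Opens) {n : ℕ} (m : ℤ) (K : DCoh.D X)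
    (φ : MvPolynomial (Fin n) Γ(Y, V) →+* Γ(X, U)) :
    DerSch.ChartPC m K U V φ ↔ GPC U φ m K := Iff.rfl

/-- the representative-wise test is a test in the derived category -/
lemma gpc_iff [IsClosedImmersion (gImm U φ)] (m : ℤ) (K : DCoh.D X) :
    GPC U φ m K ↔ DCoh.IsPseudoCoherentD m ((Ri (gImm U φ)).obj ((RD U.ι).obj K)) := by
  have key : ∀ G : CochainComplex X.Modules ℤ, (DCoh.toD X G ≅ K) →
      (DCoh.toD (Spec (CommRingCat.of B))
        ((DerSch.pushCx (gImm U φ)).obj ((DCoh.restrictCx U).obj G)) ≅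
        (Ri (gImm U φ)).obj ((RD U.ι).obj K)) := fun G e =>
    (RiFac (gImm U φ) _).symm ≪≫ (Ri (gImm U φ)).mapIso ((RDfac U.ι G).symm ≪≫ (RD U.ι).mapIso e)
  constructor
  · intro h
    exact isPseudoCoherentD_of_iso (key _ (Q.objObjPreimageIso K))
      (h (Q.objPreimage K) ⟨Q.objObjPreimageIso K⟩)
  · intro h G ⟨e⟩
    exact isPseudoCoherentD_of_iso (key G e).symm h

lemma isPseudoCoherentD_Ri_congr {Z P : Scheme.{u}} {i i' : Z ⟶ P} [IsClosedImmersion i]
    [IsClosedImmersion i'] (h : i = i') (K : DCoh.D Z) (m : ℤ) :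
    DCoh.IsPseudoCoherentD m ((Ri i).obj K) ↔ DCoh.IsPseudoCoherentD m ((Ri i').obj K) := by
  subst h
  exact Iff.rfl

/-- **transfer of the chart test along a ring map in the class `RHO`** -/
theorem gpc_comp_iff (hU : IsAffineOpen U) (hφ : Function.Surjective φ)
    {B' : Type u} [CommRing B'] (θ : B' →+* B) (hθ : RHO θ) (m : ℤ) (K : DCoh.D X) :
    GPC U (φ.comp θ) m K ↔ GPC U φ m K := by
  haveI := isClosedImmersion_gImm U φ hU hφ
  haveI := hθ.1
  haveI : IsClosedImmersion (gImm U (φ.comp θ)) := by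
    rw [gImm_comp]; infer_instance
  rw [gpc_iff, gpc_iff, isPseudoCoherentD_Ri_congr (gImm_comp U φ θ)]
  exact isPseudoCoherentD_Ri_comp_iff (gImm U φ) (Spec.map (CommRingCat.ofHom θ)) hθ.2 _ m

end

section CI

variable {X : Scheme.{u}} (U : X.Opens) {R : Type u} [CommRing R]

/-- one half of chart independence: the product chart -/
lemma gpc_prod_iff (hU : IsAffineOpen U) {n k : ℕ}
    (φ : MvPolynomial (Fin n) R →+* Γ(X, U)) (hφ : Function.Surjective φ)
    (f : Fin k → MvPolynomial (Fin n) R) (m : ℤ) (K : DCoh.D X) :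
    GPC U (φ.comp (MvPolynomial.eval f)) m K ↔ GPC U φ m K :=
  gpc_comp_iff U φ hU hφ _ (RHO.mvEval k f) m K

/-- **chart independence** -/
theorem gpc_chart_indep (hU : IsAffineOpen U) {n k : ℕ}
    (φ : MvPolynomial (Fin n) R →+* Γ(X, U)) (hφ : Function.Surjective φ)
    (ψ : MvPolynomial (Fin k) R →+* Γ(X, U)) (hψ : Function.Surjective ψ)
    (hC : φ.comp MvPolynomial.C = ψ.comp MvPolynomial.C) (m : ℤ) (K : DCoh.D X) :
    GPC U φ m K ↔ GPC U ψ m K := by
  choose f hf using fun j : Fin k => hφ (ψ (MvPolynomial.X j))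
  choose g hg using fun i : Fin n => hψ (φ (MvPolynomial.X i))
  have h1 := gpc_prod_iff U hU φ hφ f m K
  have h2 := gpc_prod_iff U hU ψ hψ g m K
  have h3 : GPC U ((ψ.comp (MvPolynomial.eval g)).comp
      ((MvPolynomial.commAlgEquiv R (Fin k) (Fin n) :
        MvPolynomial (Fin k) (MvPolynomial (Fin n) R) →+*
          MvPolynomial (Fin n) (MvPolynomial (Fin k) R)))) m K ↔
      GPC U (ψ.comp (MvPolynomial.eval g)) m K := by
    refine gpc_comp_iff U _ hU ?_ _ (RHO.of_bijective _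
      (MvPolynomial.commAlgEquiv R (Fin k) (Fin n)).bijective) m K
    intro y
    obtain ⟨p, rfl⟩ := hψ y
    exact ⟨MvPolynomial.C p, by simp⟩
  have e : φ.comp (MvPolynomial.eval f) = (ψ.comp (MvPolynomial.eval g)).comp
      ((MvPolynomial.commAlgEquiv R (Fin k) (Fin n) :
        MvPolynomial (Fin k) (MvPolynomial (Fin n) R) →+*
          MvPolynomial (Fin n) (MvPolynomial (Fin k) R))) := by
    apply MvPolynomial.ringHom_ext'
    · apply MvPolynomial.ringHom_ext'
      · ext r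
        have := congr($hC r)
        simpa using this
      · intro i
        simp [hg]
    · intro j
      simp [hf]
  rw [← h1, e, h3, h2]

end CI

end Groth.Agent.H4.RPC11
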