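import Mathlib
import Groth.Prelude.Def_DerSch2
import Groth.Agent.H4.RPC11

set_option autoImplicit false
universe u
attribute [local instance] HasDerivedCategory.standard
open CategoryTheory CategoryTheory.Limits AlgebraicGeometry DerivedCategory Opposite TopologicalSpace
open Groth.Agent.LD.QC Groth.Agent.LD.QCQS Groth.Agent.H4.FAmp5
open Groth.Agent.H4.PSch1 Groth.Agent.H4.PSch2 Groth.Agent.H4.PSch3
open Groth.Agent.H4.TilD9 Groth.Agent.H4.TilD10 Groth.Agent.H4.TilD11
open Groth.Agent.H4.PCS3 Groth.Agent.H4.PCS4 Groth.Agent.H4.PCS7 Groth.Agent.H4.PCS8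
open Groth.Agent.H4.NT7 Groth.Agent.H4.RPC1 Groth.Agent.H4.RPC2 Groth.Agent.H4.RPC2b Groth.Agent.H4.RPC3
open Groth.Agent.H4.RPC4 Groth.Agent.H4.RPC5 Groth.Agent.H4.RPC6 Groth.Agent.H4.RPC7 Groth.Agent.H4.RPC8
open Groth.Agent.H4.RPC9 Groth.Agent.H4.RPC10 Groth.Agent.H4.RPC11 Pretriangulated

namespace Groth.Agent.H4.RPC12

section Loc

variable {X : Scheme.{u}} {U : X.Opens} (hU : IsAffineOpen U) {B : Type u} [CommRing B]
  (φ : B →+* Γ(X, U)) (b : B)

include hU in
lemma isUnit_res (b : B) :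
    IsUnit (((algebraMap Γ(X, U) Γ(X, X.basicOpen (φ b))).comp φ) b) := by
  haveI := hU.isLocalization_basicOpen (φ b)
  exact IsLocalization.Away.algebraMap_isUnit (φ b)

/-- the induced map on localisations `B_b → Γ(X, D(φ b))` -/
noncomputable def locHom : Localization.Away b →+* Γ(X, X.basicOpen (φ b)) :=
  IsLocalization.Away.lift b (isUnit_res hU φ b)

lemma locHom_comp : (locHom hU φ b).comp (algebraMap B (Localization.Away b)) =
    (algebraMap Γ(X, U) Γ(X, X.basicOpen (φ b))).comp φ :=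
  IsLocalization.Away.lift_comp b (isUnit_res hU φ b)

lemma locHom_algebraMap (p : B) : locHom hU φ b (algebraMap B (Localization.Away b) p) =
    algebraMap Γ(X, U) Γ(X, X.basicOpen (φ b)) (φ p) :=
  IsLocalization.Away.lift_eq b (isUnit_res hU φ b) p

lemma locHom_surjective (hφ : Function.Surjective φ) : Function.Surjective (locHom hU φ b) := by
  haveI := hU.isLocalization_basicOpen (φ b)
  intro y
  obtain ⟨n, a, ha⟩ := IsLocalization.Away.surj (φ b) y
  obtain ⟨p, rfl⟩ := hφ a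
  refine ⟨algebraMap B (Localization.Away b) p * (IsLocalization.Away.invSelf b) ^ n, ?_⟩
  have hu : IsUnit (algebraMap Γ(X, U) Γ(X, X.basicOpen (φ b)) (φ b) ^ n) :=
    (IsLocalization.Away.algebraMap_isUnit (φ b)).pow n
  apply hu.mul_left_injective
  simp only
  rw [ha, map_mul, map_pow, locHom_algebraMap, mul_assoc, ← mul_pow, ← locHom_algebraMap hU φ b b,
    ← map_mul, mul_comm (IsLocalization.Away.invSelf b), IsLocalization.Away.mul_invSelf, map_one,
    one_pow, mul_one]

/-- the open immersion `Spec B_b → Spec B` -/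
noncomputable abbrev locJ : Spec (CommRingCat.of (Localization.Away b)) ⟶ Spec (CommRingCat.of B) :=
  Spec.map (CommRingCat.ofHom (algebraMap B (Localization.Away b)))

/-- the inclusion `D(φ b) → U` -/
noncomputable abbrev locH : ((X.basicOpen (φ b) : X.Opens) : Scheme.{u}) ⟶ (U : Scheme.{u}) :=
  X.homOfLE (X.basicOpen_le (φ b))

lemma loc_comm : locH φ b ≫ gImm U φ = gImm (X.basicOpen (φ b)) (locHom hU φ b) ≫ locJ b := by
  unfold gImm locJ locH
  rw [Category.assoc, ← Spec.map_comp, ← CommRingCat.ofHom_comp, locHom_comp,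
    CommRingCat.ofHom_comp, Spec.map_comp, ← Category.assoc, ← Category.assoc]
  congr 1
  exact (Scheme.Opens.toSpecΓ_SpecMap_presheaf_map (X.basicOpen (φ b)) U
    (X.basicOpen_le (φ b))).symm

lemma loc_range (x : (U : Scheme.{u})) (hx : gImm U φ x ∈ Set.range (locJ b)) :
    x ∈ Set.range (locH φ b) := by
  have h1 : Set.range (locJ b) = (PrimeSpectrum.basicOpen b : Set (PrimeSpectrum B)) := by
    have := Scheme.Hom.opensRange_localizationAway (R := CommRingCat.of B) b
    exact congrArg (fun W : (Spec (CommRingCat.of B)).Opens => W.1) this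
  rw [h1] at hx
  have h2 : x ∈ (gImm U φ) ⁻¹ᵁ (PrimeSpectrum.basicOpen b) := hx
  have h3 : (gImm U φ) ⁻¹ᵁ (PrimeSpectrum.basicOpen b) = U.ι ⁻¹ᵁ X.basicOpen (φ b) := by
    unfold gImm
    rw [Scheme.Hom.comp_preimage]
    erw [SpecMap_preimage_basicOpen]
    exact Scheme.Opens.toSpecΓ_preimage_basicOpen U (φ b)
  rw [h3] at h2
  refine ⟨⟨x.1, h2⟩, ?_⟩
  apply Subtype.ext
  simp [locH]

/-- **the localised chart test is the restriction of the chart test to a basic open of the
target** -/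
theorem gpc_loc_iff (hφ : Function.Surjective φ) (m : ℤ) (K : DCoh.D X) :
    haveI := isClosedImmersion_gImm U φ hU hφ
    GPC (X.basicOpen (φ b)) (locHom hU φ b) m K ↔
      DCoh.IsPseudoCoherentD m ((RD (locJ b)).obj ((Ri (gImm U φ)).obj ((RD U.ι).obj K))) := by
  haveI := isClosedImmersion_gImm U φ hU hφ
  haveI := isClosedImmersion_gImm (X.basicOpen (φ b)) (locHom hU φ b) (hU.basicOpen (φ b))
    (locHom_surjective hU φ b hφ)
  rw [gpc_iff]
  have e1 := (RiBC (gImm U φ) (gImm (X.basicOpen (φ b)) (locHom hU φ b)) (locH φ b) (locJ b)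
    (loc_comm hU φ b) (cart_of_range _ _ _ _ (loc_comm hU φ b) (loc_range φ b))).app
    ((RD U.ι).obj K)
  obtain ⟨e2⟩ := nonempty_RD_comp_obj' (locH φ b) U.ι (X.basicOpen (φ b)).ι
    (X.homOfLE_ι (X.basicOpen_le (φ b))).symm K
  have e3 := e1 ≪≫ (Ri (gImm (X.basicOpen (φ b)) (locHom hU φ b))).mapIso e2.symm
  constructor
  · exact isPseudoCoherentD_of_iso e3.symm
  · exact isPseudoCoherentD_of_iso e3

end Loc

section AddVar

variable {X : Scheme.{u}} (U : X.Opens) (hU : IsAffineOpen U) {R : Type u} [CommRing R] {n : ℕ}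

/-- from a chart on `R[x_1..x_n][t]` to a chart on `R[x_0..x_n]` -/
noncomputable def polyToMv (ψ : Polynomial (MvPolynomial (Fin n) R) →+* Γ(X, U)) :
    MvPolynomial (Fin (n + 1)) R →+* Γ(X, U) :=
  ψ.comp (MvPolynomial.finSuccEquiv R n : MvPolynomial (Fin (n + 1)) R →+*
    Polynomial (MvPolynomial (Fin n) R))

lemma polyToMv_surjective (ψ : Polynomial (MvPolynomial (Fin n) R) →+* Γ(X, U))
    (hψ : Function.Surjective ψ) : Function.Surjective (polyToMv U ψ) :=
  hψ.comp (MvPolynomial.finSuccEquiv R n).surjective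

lemma polyToMv_C (ψ : Polynomial (MvPolynomial (Fin n) R) →+* Γ(X, U)) (x : R) :
    polyToMv U ψ (MvPolynomial.C x) = ψ (Polynomial.C (MvPolynomial.C x)) := by
  unfold polyToMv
  simp only [RingHom.comp_apply, RingHom.coe_coe]
  rw [MvPolynomial.finSuccEquiv_apply]
  simp

include hU in
lemma gpc_polyToMv_iff (ψ : Polynomial (MvPolynomial (Fin n) R) →+* Γ(X, U))
    (hψ : Function.Surjective ψ) (m : ℤ) (K : DCoh.D X) :
    GPC U (polyToMv U ψ) m K ↔ GPC U ψ m K :=
  gpc_comp_iff U ψ hU hψ _ (RHO.of_bijective _ (MvPolynomial.finSuccEquiv R n).bijective) m K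

end AddVar

section ChartLoc

variable {X : Scheme.{u}} {U : X.Opens} (hU : IsAffineOpen U) {R : Type u} [CommRing R] {n : ℕ}
  (φ : MvPolynomial (Fin n) R →+* Γ(X, U)) (b : MvPolynomial (Fin n) R)

/-- the localised chart, with one more variable -/
noncomputable def chartLoc : MvPolynomial (Fin (n + 1)) R →+* Γ(X, X.basicOpen (φ b)) :=
  polyToMv (X.basicOpen (φ b)) ((locHom hU φ b).comp (awayHom b (Localization.Away b)))

lemma chartLoc_surjective (hφ : Function.Surjective φ) : Function.Surjective (chartLoc hU φ b) :=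
  polyToMv_surjective _ _ ((locHom_surjective hU φ b hφ).comp (awayHom_surjective b _))

lemma chartLoc_C (x : R) : chartLoc hU φ b (MvPolynomial.C x) =
    algebraMap Γ(X, U) Γ(X, X.basicOpen (φ b)) (φ (MvPolynomial.C x)) := by
  unfold chartLoc
  rw [polyToMv_C, RingHom.comp_apply, awayHom_C, locHom_algebraMap]

theorem gpc_chartLoc_iff (hφ : Function.Surjective φ) (m : ℤ) (K : DCoh.D X) :
    haveI := isClosedImmersion_gImm U φ hU hφ
    GPC (X.basicOpen (φ b)) (chartLoc hU φ b) m K ↔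
      DCoh.IsPseudoCoherentD m ((RD (locJ b)).obj ((Ri (gImm U φ)).obj ((RD U.ι).obj K))) := by
  haveI := isClosedImmersion_gImm U φ hU hφ
  unfold chartLoc
  rw [gpc_polyToMv_iff _ (hU.basicOpen (φ b)) _
    ((locHom_surjective hU φ b hφ).comp (awayHom_surjective b _)),
    gpc_comp_iff _ _ (hU.basicOpen (φ b)) (locHom_surjective hU φ b hφ) _ (RHO.away b _)]
  exact gpc_loc_iff hU φ b hφ m K

/-- **L1**: the chart test passes to basic opens -/
theorem gpc_chartLoc_of_gpc (hφ : Function.Surjective φ) (m : ℤ) (K : DCoh.D X)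
    (h : GPC U φ m K) : GPC (X.basicOpen (φ b)) (chartLoc hU φ b) m K := by
  haveI := isClosedImmersion_gImm U φ hU hφ
  rw [gpc_chartLoc_iff hU φ b hφ]
  rw [gpc_iff] at h
  exact isPseudoCoherentD_RD _ _ h

/-- **L3**: the chart test glues over a cover by basic opens -/
theorem gpc_of_gpc_chartLoc (hφ : Function.Surjective φ) (m : ℤ) (K : DCoh.D X)
    {ι : Type*} (bs : ι → MvPolynomial (Fin n) R)
    (hcov : ∀ x : U, ∃ a, x.1 ∈ X.basicOpen (φ (bs a)))
    (h : ∀ a, GPC (X.basicOpen (φ (bs a))) (chartLoc hU φ (bs a)) m K) : GPC U φ m K := by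
  haveI := isClosedImmersion_gImm U φ hU hφ
  rw [gpc_iff]
  refine isPseudoCoherentD_Ri_of_cover (gImm U φ)
    (fun a => Spec (CommRingCat.of (Localization.Away (bs a)))) (fun a => locJ (bs a)) ?_ _
    (fun a => (gpc_chartLoc_iff hU φ (bs a) hφ m K).1 (h a))
  intro z
  obtain ⟨a, ha⟩ := hcov z
  refine ⟨a, ?_⟩
  have h1 : Set.range (locJ (bs a)) = (PrimeSpectrum.basicOpen (bs a) : Set (PrimeSpectrum _)) := by
    have := Scheme.Hom.opensRange_localizationAway (R := CommRingCat.of (MvPolynomial (Fin n) R))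
      (bs a)
    exact congrArg (fun W : (Spec (CommRingCat.of (MvPolynomial (Fin n) R))).Opens => W.1) this
  rw [h1]
  have h3 : (gImm U φ) ⁻¹ᵁ (PrimeSpectrum.basicOpen (bs a)) = U.ι ⁻¹ᵁ X.basicOpen (φ (bs a)) := by
    unfold gImm
    rw [Scheme.Hom.comp_preimage]
    erw [SpecMap_preimage_basicOpen]
    exact Scheme.Opens.toSpecΓ_preimage_basicOpen U (φ (bs a))
  have h4 : z ∈ (gImm U φ) ⁻¹ᵁ (PrimeSpectrum.basicOpen (bs a)) := by
    rw [h3]; exact ha
  exact h4

end ChartLoc

end Groth.Agent.H4.RPC12
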