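import Mathlib
import Groth.Prelude.Def_DerSch2
import Groth.Agent.H4.RPC12

set_option autoImplicit false
universe u
attribute [local instance] HasDerivedCategory.standard
open CategoryTheory CategoryTheory.Limits AlgebraicGeometry DerivedCategory Opposite TopologicalSpace
open Groth.Agent.H4.RPC3 Groth.Agent.H4.RPC7 Groth.Agent.H4.RPC8
open Groth.Agent.H4.RPC9 Groth.Agent.H4.RPC10 Groth.Agent.H4.RPC11 Groth.Agent.H4.RPC12

namespace Groth.Agent.H4.RPC13

section Down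

attribute [local instance] MvPolynomial.algebraMvPolynomial

variable {X : Scheme.{u}} {U : X.Opens} (hU : IsAffineOpen U)
  {R R' : Type u} [CommRing R] [CommRing R'] [Algebra R R'] (r : R) [IsLocalization.Away r R'] {n : ℕ}

instance isLocalization_away_C :
    IsLocalization.Away (MvPolynomial.C r : MvPolynomial (Fin n) R) (MvPolynomial (Fin n) R') := by
  have h := MvPolynomial.isLocalization (σ := Fin n) (Submonoid.powers r) R'
  have e : (Submonoid.powers r).map (MvPolynomial.C (σ := Fin n)) =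
      Submonoid.powers (MvPolynomial.C r : MvPolynomial (Fin n) R) := Submonoid.map_powers _ r
  rw [e] at h
  exact h

/-- a chart over the localised base gives a chart over the base, with one more variable -/
noncomputable def chartDown (φ : MvPolynomial (Fin n) R' →+* Γ(X, U)) :
    MvPolynomial (Fin (n + 1)) R →+* Γ(X, U) :=
  polyToMv U (φ.comp (awayHom (MvPolynomial.C r : MvPolynomial (Fin n) R) (MvPolynomial (Fin n) R')))

lemma chartDown_surjective (φ : MvPolynomial (Fin n) R' →+* Γ(X, U)) (hφ : Function.Surjective φ) :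
    Function.Surjective (chartDown r φ) :=
  polyToMv_surjective _ _ (hφ.comp (awayHom_surjective _ _))

lemma chartDown_C (φ : MvPolynomial (Fin n) R' →+* Γ(X, U)) (x : R) :
    chartDown r φ (MvPolynomial.C x) = φ (MvPolynomial.C (algebraMap R R' x)) := by
  unfold chartDown
  rw [polyToMv_C, RingHom.comp_apply, awayHom_C]
  simp

include hU in
/-- **L2** -/
theorem gpc_chartDown_iff (φ : MvPolynomial (Fin n) R' →+* Γ(X, U)) (hφ : Function.Surjective φ)
    (m : ℤ) (K : DCoh.D X) : GPC U (chartDown r φ) m K ↔ GPC U φ m K := by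
  unfold chartDown
  rw [gpc_polyToMv_iff U hU _ (hφ.comp (awayHom_surjective _ _)),
    gpc_comp_iff U φ hU hφ _ (RHO.away _ _)]

end Down

section Charts

variable {X S : Scheme.{u}} (f : X ⟶ S)

/-- the localised chart is a chart -/
lemma isChart_chartLoc {U : X.Opens} (hU : IsAffineOpen U) (V : S.Opens) (h : U ≤ f ⁻¹ᵁ V) {n : ℕ}
    (φ : MvPolynomial (Fin n) Γ(S, V) →+* Γ(X, U)) (hφ : DerSch.IsChart f U V h φ)
    (b : MvPolynomial (Fin n) Γ(S, V)) :
    DerSch.IsChart f (X.basicOpen (φ b)) V ((X.basicOpen_le (φ b)).trans h) (chartLoc hU φ b) := by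
  refine ⟨chartLoc_surjective hU φ b hφ.1, ?_⟩
  ext x
  rw [RingHom.comp_apply, chartLoc_C]
  have h1 : φ (MvPolynomial.C x) = (f.appLE V U h).hom x := congr($(hφ.2) x)
  rw [h1]
  have h2 := Scheme.Hom.appLE_map f h (homOfLE (X.basicOpen_le (φ b))).op
  exact congr($h2 x)

/-- the chart over the base obtained from a chart over a basic open of the base is a chart -/
lemma isChart_chartDown {V : S.Opens} (hV : IsAffineOpen V) (r : Γ(S, V)) {U : X.Opens}
    (hUr : U ≤ f ⁻¹ᵁ S.basicOpen r) {n : ℕ}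
    (φ : MvPolynomial (Fin n) Γ(S, S.basicOpen r) →+* Γ(X, U))
    (hφ : DerSch.IsChart f U (S.basicOpen r) hUr φ) :
    haveI := hV.isLocalization_basicOpen r
    DerSch.IsChart f U V (hUr.trans (f.preimage_mono (S.basicOpen_le r))) (chartDown r φ) := by
  haveI := hV.isLocalization_basicOpen r
  refine ⟨chartDown_surjective r φ hφ.1, ?_⟩
  ext x
  rw [RingHom.comp_apply, chartDown_C]
  have h1 : φ (MvPolynomial.C (algebraMap Γ(S, V) Γ(S, S.basicOpen r) x)) =
      (f.appLE (S.basicOpen r) U hUr).hom (algebraMap Γ(S, V) Γ(S, S.basicOpen r) x) :=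
    congr($(hφ.2) _)
  rw [h1]
  have h2 := Scheme.Hom.map_appLE f hUr (homOfLE (S.basicOpen_le r)).op
  exact congr($h2 x)

/-- **S7218** -/
theorem S7218 (V : S.affineOpens)
    (r : Γ(S, (V : S.Opens))) (U : X.affineOpens) (hU : (U : X.Opens) ≤ f ⁻¹ᵁ S.basicOpen r)
    (g : Γ(X, (U : X.Opens))) (h' : X.basicOpen g ≤ f ⁻¹ᵁ (V : S.Opens))
    (m : ℤ) (E : DCoh.D X)
    (hE : ∃ (n : ℕ) (φ : MvPolynomial (Fin n) Γ(S, S.basicOpen r) →+* Γ(X, (U : X.Opens))),
      DerSch.IsChart f (U : X.Opens) (S.basicOpen r) hU φ ∧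
        DerSch.ChartPC m E (U : X.Opens) (S.basicOpen r) φ) :
    ∃ (k : ℕ) (ψ : MvPolynomial (Fin k) Γ(S, (V : S.Opens)) →+* Γ(X, X.basicOpen g)),
      DerSch.IsChart f (X.basicOpen g) (V : S.Opens) h' ψ ∧
        DerSch.ChartPC m E (X.basicOpen g) (V : S.Opens) ψ := by
  obtain ⟨n, φ, hφ, hpc⟩ := hE
  haveI := V.2.isLocalization_basicOpen r
  have h0 := isChart_chartDown f V.2 r hU φ hφ
  have hpc0 : GPC (U : X.Opens) (chartDown r φ) m E :=
    (gpc_chartDown_iff U.2 r φ hφ.1 m E).2 hpc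
  obtain ⟨b, rfl⟩ := h0.1 g
  exact ⟨n + 1 + 1, chartLoc U.2 (chartDown r φ) b,
    isChart_chartLoc f U.2 (V : S.Opens) _ (chartDown r φ) h0 b,
    gpc_chartLoc_of_gpc U.2 (chartDown r φ) b h0.1 m E hpc0⟩

/-- a chart exists when the ring map is of finite type -/
lemma exists_isChart (U : X.Opens) (V : S.Opens) (h : U ≤ f ⁻¹ᵁ V)
    (hft : (f.appLE V U h).hom.FiniteType) :
    ∃ (n : ℕ) (φ : MvPolynomial (Fin n) Γ(S, V) →+* Γ(X, U)), DerSch.IsChart f U V h φ := by
  letI := (f.appLE V U h).hom.toAlgebra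
  obtain ⟨n, ρ, hρ⟩ := Algebra.FiniteType.iff_quotient_mvPolynomial''.1 hft
  refine ⟨n, ρ.toRingHom, hρ, ?_⟩
  ext x
  exact ρ.commutes x

/-- comparison of a given chart on a basic open with the localised chart -/
lemma gpc_chartLoc_of_chartPC {U : X.Opens} (hU : IsAffineOpen U) (V : S.Opens) (h : U ≤ f ⁻¹ᵁ V)
    {n : ℕ} (φ : MvPolynomial (Fin n) Γ(S, V) →+* Γ(X, U)) (hφ : DerSch.IsChart f U V h φ)
    (b : MvPolynomial (Fin n) Γ(S, V)) (g₀ : Γ(X, U)) (hb : φ b = g₀) (m : ℤ) (E : DCoh.D X)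
    {n' : ℕ} (φ' : MvPolynomial (Fin n') Γ(S, V) →+* Γ(X, X.basicOpen g₀))
    (hφ' : DerSch.IsChart f (X.basicOpen g₀) V ((X.basicOpen_le g₀).trans h) φ')
    (hpc : DerSch.ChartPC m E (X.basicOpen g₀) V φ') :
    GPC (X.basicOpen (φ b)) (chartLoc hU φ b) m E := by
  subst hb
  have h1 := isChart_chartLoc f hU V h φ hφ b
  exact (gpc_chart_indep (X.basicOpen (φ b)) (hU.basicOpen (φ b)) φ' hφ'.1 (chartLoc hU φ b) h1.1
    (hφ'.2.trans h1.2.symm) m E).1 hpc

/-- **S7217** -/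
theorem S7217 (U : X.affineOpens)
    (V : S.affineOpens) (h : (U : X.Opens) ≤ f ⁻¹ᵁ (V : S.Opens))
    (hft : (f.appLE (V : S.Opens) (U : X.Opens) h).hom.FiniteType) (m : ℤ) (E : DCoh.D X)
    {k : ℕ} (g : Fin k → Γ(X, (U : X.Opens))) (hg : Ideal.span (Set.range g) = ⊤) :
    (∀ j : Fin k, ∃ (n : ℕ) (φ : MvPolynomial (Fin n) Γ(S, (V : S.Opens)) →+*
          Γ(X, X.basicOpen (g j))),
        DerSch.IsChart f (X.basicOpen (g j)) (V : S.Opens) ((X.basicOpen_le (g j)).trans h) φ ∧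
          DerSch.ChartPC m E (X.basicOpen (g j)) (V : S.Opens) φ) ↔
      ∃ (n : ℕ) (φ : MvPolynomial (Fin n) Γ(S, (V : S.Opens)) →+* Γ(X, (U : X.Opens))),
        DerSch.IsChart f (U : X.Opens) (V : S.Opens) h φ ∧
          DerSch.ChartPC m E (U : X.Opens) (V : S.Opens) φ := by
  constructor
  · intro hloc
    obtain ⟨n, φ, hφ⟩ := exists_isChart f (U : X.Opens) (V : S.Opens) h hft
    refine ⟨n, φ, hφ, ?_⟩
    choose b hb using fun j => hφ.1 (g j)
    refine gpc_of_gpc_chartLoc U.2 φ hφ.1 m E b ?_ (fun j => ?_)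
    · intro x
      have h1 : (⨆ s : Set.range g, X.basicOpen s.1) = (U : X.Opens) :=
        (IsAffineOpen.iSup_basicOpen_eq_self_iff U.2).2 hg
      have hx : x.1 ∈ (⨆ s : Set.range g, X.basicOpen s.1) := by rw [h1]; exact x.2
      rw [Opens.mem_iSup] at hx
      obtain ⟨⟨_, j, rfl⟩, hj⟩ := hx
      exact ⟨j, by rw [hb j]; exact hj⟩
    · obtain ⟨n', φ', hφ', hpc⟩ := hloc j
      exact gpc_chartLoc_of_chartPC f U.2 (V : S.Opens) h φ hφ (b j) (g j) (hb j) m E φ' hφ' hpc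
  · rintro ⟨n, φ, hφ, hpc⟩ j
    obtain ⟨b, hb⟩ := hφ.1 (g j)
    have key : ∀ (g₀ : Γ(X, (U : X.Opens))) (hb : φ b = g₀),
        ∃ (n : ℕ) (φ' : MvPolynomial (Fin n) Γ(S, (V : S.Opens)) →+* Γ(X, X.basicOpen g₀)),
          DerSch.IsChart f (X.basicOpen g₀) (V : S.Opens) ((X.basicOpen_le g₀).trans h) φ' ∧
            DerSch.ChartPC m E (X.basicOpen g₀) (V : S.Opens) φ' := by
      intro g₀ hb
      subst hb
      exact ⟨n + 1, chartLoc U.2 φ b, isChart_chartLoc f U.2 (V : S.Opens) h φ hφ b,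
        gpc_chartLoc_of_gpc U.2 φ b hφ.1 m E hpc⟩
    exact key (g j) hb

end Charts

end Groth.Agent.H4.RPC13
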