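import Mathlib
import Groth.Prelude.Def_DerSch2
import Groth.Agent.H4.RPC13

set_option autoImplicit false
universe u
attribute [local instance] HasDerivedCategory.standard
open CategoryTheory CategoryTheory.Limits AlgebraicGeometry DerivedCategory Opposite TopologicalSpace
open Groth.Agent.H4.RPC3 Groth.Agent.H4.RPC7 Groth.Agent.H4.RPC8
open Groth.Agent.H4.RPC9 Groth.Agent.H4.RPC10 Groth.Agent.H4.RPC11 Groth.Agent.H4.RPC12
open Groth.Agent.H4.RPC13

namespace Groth.Agent.H4.RPC14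

variable {X S : Scheme.{u}} (f : X ⟶ S) (m : ℤ) (E : DCoh.D X)

/-- the chart test holds for some chart on the pair `(W, V)` -/
def PCh (W : X.Opens) (V : S.Opens) : Prop :=
  ∃ (h : W ≤ f ⁻¹ᵁ V) (n : ℕ) (φ : MvPolynomial (Fin n) Γ(S, V) →+* Γ(X, W)),
    DerSch.IsChart f W V h φ ∧ DerSch.ChartPC m E W V φ

variable {f m E}

/-- for affine pairs, "some chart" is "every chart" -/
lemma PCh.all {W : X.Opens} {V : S.Opens} (hW : IsAffineOpen W) (hP : PCh f m E W V)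
    (h : W ≤ f ⁻¹ᵁ V) {n : ℕ} (φ : MvPolynomial (Fin n) Γ(S, V) →+* Γ(X, W))
    (hφ : DerSch.IsChart f W V h φ) : DerSch.ChartPC m E W V φ := by
  obtain ⟨h', n', φ', hφ', hpc⟩ := hP
  exact (gpc_chart_indep W hW φ' hφ'.1 φ hφ.1 (hφ'.2.trans hφ.2.symm) m E).1 hpc

/-- L1 -/
lemma PCh.basicOpen {W : X.Opens} {V : S.Opens} (hW : IsAffineOpen W) (hP : PCh f m E W V)
    (g : Γ(X, W)) : PCh f m E (X.basicOpen g) V := by
  obtain ⟨h, n, φ, hφ, hpc⟩ := hP
  obtain ⟨b, rfl⟩ := hφ.1 g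
  exact ⟨(X.basicOpen_le _).trans h, n + 1, chartLoc hW φ b, isChart_chartLoc f hW V h φ hφ b,
    gpc_chartLoc_of_gpc hW φ b hφ.1 m E hpc⟩

/-- L2 -/
lemma PCh.down {W : X.Opens} {V : S.Opens} (hW : IsAffineOpen W) (hV : IsAffineOpen V)
    (r : Γ(S, V)) (hP : PCh f m E W (S.basicOpen r)) : PCh f m E W V := by
  obtain ⟨h, n, φ, hφ, hpc⟩ := hP
  haveI := hV.isLocalization_basicOpen r
  exact ⟨h.trans (f.preimage_mono (S.basicOpen_le r)), n + 1, chartDown r φ,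
    isChart_chartDown f hV r h φ hφ, (gpc_chartDown_iff hW r φ hφ.1 m E).2 hpc⟩

/-- L2': passing to a basic open of the base containing the image -/
lemma PCh.up {W : X.Opens} {V : S.Opens} (hW : IsAffineOpen W) (hV : IsAffineOpen V)
    (r : Γ(S, V)) (hWr : W ≤ f ⁻¹ᵁ S.basicOpen r) (hP : PCh f m E W V) :
    PCh f m E W (S.basicOpen r) := by
  obtain ⟨h, n, φ, hφ, hpc⟩ := hP
  haveI := hV.isLocalization_basicOpen r
  let ρ' : Γ(S, S.basicOpen r) →+* Γ(X, W) := (f.appLE (S.basicOpen r) W hWr).hom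
  let φ' : MvPolynomial (Fin n) Γ(S, S.basicOpen r) →+* Γ(X, W) :=
    MvPolynomial.eval₂Hom ρ' (fun i => φ (MvPolynomial.X i))
  have hC : φ'.comp MvPolynomial.C = ρ' := by
    ext x; simp [φ']
  have hfac : φ = φ'.comp (MvPolynomial.map (algebraMap Γ(S, V) Γ(S, S.basicOpen r))) := by
    apply MvPolynomial.ringHom_ext
    · intro x
      have h1 : φ (MvPolynomial.C x) = (f.appLE V W h).hom x := congr($(hφ.2) x)
      have h2 := Scheme.Hom.map_appLE f hWr (homOfLE (S.basicOpen_le r)).op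
      rw [h1]
      simp only [RingHom.comp_apply, MvPolynomial.map_C, φ', MvPolynomial.coe_eval₂Hom,
        MvPolynomial.eval₂_C]
      exact (congr($h2 x)).symm
    · intro i
      simp [φ']
  have hsurj : Function.Surjective φ' := by
    intro y
    obtain ⟨p, rfl⟩ := hφ.1 y
    exact ⟨MvPolynomial.map (algebraMap Γ(S, V) Γ(S, S.basicOpen r)) p, by rw [hfac]; rfl⟩
  have hφ' : DerSch.IsChart f W (S.basicOpen r) hWr φ' := ⟨hsurj, hC⟩
  refine ⟨hWr, n, φ', hφ', ?_⟩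
  have h0 := isChart_chartDown f hV r hWr φ' hφ'
  have h1 : DerSch.ChartPC m E W V (chartDown r φ') :=
    PCh.all hW ⟨h, n, φ, hφ, hpc⟩ _ (chartDown r φ') h0
  exact (gpc_chartDown_iff hW r φ' hsurj m E).1 h1

/-- L3: gluing over basic opens -/
lemma PCh.glue {U' : X.Opens} {V' : S.Opens} (hU' : IsAffineOpen U') (h' : U' ≤ f ⁻¹ᵁ V')
    (hft : (f.appLE V' U' h').hom.FiniteType)
    (hloc : ∀ x : U', ∃ a : Γ(X, U'), x.1 ∈ X.basicOpen a ∧ PCh f m E (X.basicOpen a) V') :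
    PCh f m E U' V' := by
  obtain ⟨n, φ, hφ⟩ := exists_isChart f U' V' h' hft
  choose a ha hP using hloc
  choose b hb using fun x => hφ.1 (a x)
  refine ⟨h', n, φ, hφ, gpc_of_gpc_chartLoc hU' φ hφ.1 m E b (fun x => ⟨x, ?_⟩) (fun y => ?_)⟩
  · rw [hb x]; exact ha x
  · obtain ⟨h'', n', φ', hφ', hpc⟩ := hP y
    exact gpc_chartLoc_of_chartPC f hU' V' h' φ hφ (b y) (a y) (hb y) m E φ' hφ' hpc

/-- **S7208**: the chart form on covers is equivalent to the chart form on all affine pairs -/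
theorem S7208 (f : X ⟶ S) [LocallyOfFiniteType f] (m : ℤ) (E : DCoh.D X) :
    DerSch.IsPseudoCoherentRel f m E ↔
      ∀ (U : X.affineOpens) (V : S.affineOpens) (h : (U : X.Opens) ≤ f ⁻¹ᵁ (V : S.Opens)),
        ∃ (n : ℕ) (φ : MvPolynomial (Fin n) Γ(S, (V : S.Opens)) →+* Γ(X, (U : X.Opens))),
          DerSch.IsChart f (U : X.Opens) (V : S.Opens) h φ ∧
            DerSch.ChartPC m E (U : X.Opens) (V : S.Opens) φ := by
  constructor
  · rintro ⟨_, 𝒱, h𝒱, H⟩ U' V' h'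
    suffices hP : PCh f m E (U' : X.Opens) (V' : S.Opens) by
      obtain ⟨_, n, φ, hφ, hpc⟩ := hP
      exact ⟨n, φ, hφ, hpc⟩
    refine PCh.glue U'.2 h' (LocallyOfFiniteType.finiteType_appLE f V'.2 U'.2 h') (fun x => ?_)
    have hfx : f x.1 ∈ (⨆ V ∈ 𝒱, (V : S.Opens)) := by rw [h𝒱]; trivial
    simp only [Opens.mem_iSup] at hfx
    obtain ⟨V, hV, hfxV⟩ := hfx
    obtain ⟨𝒰, h𝒰, HU⟩ := H V hV
    have hx : x.1 ∈ (⨆ U ∈ 𝒰, (U : X.Opens)) := by rw [h𝒰]; exact hfxV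
    simp only [Opens.mem_iSup] at hx
    obtain ⟨U, hU, hxU⟩ := hx
    have hUV : (U : X.Opens) ≤ f ⁻¹ᵁ (V : S.Opens) := by
      rw [← h𝒰]; exact le_iSup₂ (f := fun (U : X.affineOpens) (_ : U ∈ 𝒰) => (U : X.Opens)) U hU
    have P0 : PCh f m E (U : X.Opens) (V : S.Opens) := ⟨hUV, HU U hU hUV⟩
    obtain ⟨r, r', e, hr⟩ := exists_basicOpen_le_affine_inter V.2 V'.2 (f x.1)
      ⟨hfxV, h' x.2⟩
    set s : Γ(X, (U : X.Opens)) := (f.appLE (V : S.Opens) (U : X.Opens) hUV).hom r with hs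
    have hU₁ : X.basicOpen s = (U : X.Opens) ⊓ f ⁻¹ᵁ (S.basicOpen r) :=
      Scheme.basicOpen_appLE f (U : X.Opens) (V : S.Opens) hUV r
    have P1 : PCh f m E (X.basicOpen s) (V : S.Opens) := P0.basicOpen U.2 s
    have hx₁ : x.1 ∈ X.basicOpen s := by rw [hU₁]; exact ⟨hxU, hr⟩
    obtain ⟨a, a', e', ha⟩ := exists_basicOpen_le_affine_inter (U.2.basicOpen s) U'.2 x.1
      ⟨hx₁, x.2⟩
    have hW : IsAffineOpen (X.basicOpen a) := (U.2.basicOpen s).basicOpen a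
    have P2 : PCh f m E (X.basicOpen a) (V : S.Opens) := P1.basicOpen (U.2.basicOpen s) a
    have hWr : X.basicOpen a ≤ f ⁻¹ᵁ (S.basicOpen r) :=
      (X.basicOpen_le a).trans (hU₁.le.trans inf_le_right)
    have P3 : PCh f m E (X.basicOpen a) (S.basicOpen r) := P2.up hW V.2 r hWr
    have P4 : PCh f m E (X.basicOpen a) (S.basicOpen r') := e ▸ P3
    have P5 : PCh f m E (X.basicOpen a) (V' : S.Opens) := P4.down hW V'.2 r'
    have P6 : PCh f m E (X.basicOpen a') (V' : S.Opens) := e' ▸ P5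
    exact ⟨a', e' ▸ ha, P6⟩
  · intro H
    refine ⟨inferInstance, Set.univ, ?_, fun V _ => ⟨{U | (U : X.Opens) ≤ f ⁻¹ᵁ (V : S.Opens)}, ?_,
      fun U _ h => H U V h⟩⟩
    · simp only [Set.mem_univ, iSup_pos]
      exact iSup_affineOpens_eq_top S
    · apply le_antisymm
      · exact iSup₂_le (fun U hU => hU)
      · intro x hx
        obtain ⟨W, hW, hxW, hWV⟩ := (X.isBasis_affineOpens).exists_subset_of_mem_open hx
          (f ⁻¹ᵁ (V : S.Opens)).2
        simp only [Opens.mem_iSup]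
        obtain ⟨W', hW', rfl⟩ := hW
        exact ⟨⟨W', hW'⟩, hWV, hxW⟩

end Groth.Agent.H4.RPC14
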