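import Mathlib
import Groth.Prelude.Def_DerSch2
import Groth.Agent.H4.RPC14

set_option autoImplicit false
universe u
attribute [local instance] HasDerivedCategory.standard
open CategoryTheory CategoryTheory.Limits AlgebraicGeometry DerivedCategory Opposite TopologicalSpace
open Groth.Agent.H4.PSch2 Groth.Agent.H4.RPC2
open Groth.Agent.H4.RPC3 Groth.Agent.H4.RPC7 Groth.Agent.H4.RPC8
open Groth.Agent.H4.RPC9 Groth.Agent.H4.RPC10 Groth.Agent.H4.RPC11 Groth.Agent.H4.RPC12
open Groth.Agent.H4.RPC13 Groth.Agent.H4.RPC14 Groth.Agent.H4.PCS4 Groth.Agent.H4.PCS8 Pretriangulated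

namespace Groth.Agent.H4.RPC15

variable {X S : Scheme.{u}} (f : X ⟶ S)

/-- the derived chart functor `K ↦ i_*(K|_U)` -/
noncomputable abbrev chartF (U : X.Opens) {B : Type u} [CommRing B] (φ : B →+* Γ(X, U))
    [IsClosedImmersion (gImm U φ)] : DCoh.D X ⥤ DCoh.D (Spec (CommRingCat.of B)) :=
  RD U.ι ⋙ Ri (gImm U φ)

/-- relative pseudo-coherence is the absolute pseudo-coherence of all chart images -/
theorem rel_iff_forall_chart [LocallyOfFiniteType f] (m : ℤ) (E : DCoh.D X) :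
    DerSch.IsPseudoCoherentRel f m E ↔
      ∀ (U : X.affineOpens) (V : S.affineOpens) (h : (U : X.Opens) ≤ f ⁻¹ᵁ (V : S.Opens)) (n : ℕ)
        (φ : MvPolynomial (Fin n) Γ(S, (V : S.Opens)) →+* Γ(X, (U : X.Opens)))
        (_ : DerSch.IsChart f (U : X.Opens) (V : S.Opens) h φ)
        (_ : IsClosedImmersion (gImm (U : X.Opens) φ)),
        DCoh.IsPseudoCoherentD m ((chartF (U : X.Opens) φ).obj E) := by
  rw [S7208]
  constructor
  · intro H U V h n φ hφ hci
    obtain ⟨n', φ', hφ', hpc⟩ := H U V h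
    have h1 := PCh.all U.2 ⟨h, n', φ', hφ', hpc⟩ h φ hφ
    exact (gpc_iff (U : X.Opens) φ m E).1 h1
  · intro H U V h
    obtain ⟨n, φ, hφ⟩ := exists_isChart f (U : X.Opens) (V : S.Opens) h
      (LocallyOfFiniteType.finiteType_appLE f V.2 U.2 h)
    haveI := isClosedImmersion_gImm (U : X.Opens) φ U.2 hφ.1
    exact ⟨n, φ, hφ, (gpc_iff (U : X.Opens) φ m E).2 (H U V h n φ hφ inferInstance)⟩

/-- **S7214** -/
theorem S7214 (m : ℤ) (E K : DCoh.D X) [HasBinaryBiproduct E K]
    (h : DerSch.IsPseudoCoherentRel f m (E ⊞ K)) :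
    DerSch.IsPseudoCoherentRel f m E ∧ DerSch.IsPseudoCoherentRel f m K := by
  haveI := h.1
  rw [rel_iff_forall_chart] at h
  have key : ∀ (U : X.affineOpens) (V : S.affineOpens) (h' : (U : X.Opens) ≤ f ⁻¹ᵁ (V : S.Opens))
      (n : ℕ) (φ : MvPolynomial (Fin n) Γ(S, (V : S.Opens)) →+* Γ(X, (U : X.Opens)))
      (_ : DerSch.IsChart f (U : X.Opens) (V : S.Opens) h' φ)
      (_ : IsClosedImmersion (gImm (U : X.Opens) φ)),
      DCoh.IsPseudoCoherentD m ((chartF (U : X.Opens) φ).obj E) ∧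
        DCoh.IsPseudoCoherentD m ((chartF (U : X.Opens) φ).obj K) := by
    intro U V h' n φ hφ hci
    have h1 := h U V h' n φ hφ hci
    haveI : PreservesBinaryBiproducts (chartF (U : X.Opens) φ) :=
      preservesBinaryBiproducts_of_preservesBiproducts _
    have e := (chartF (U : X.Opens) φ).mapBiprod E K
    exact S0888 m _ _ (Groth.Agent.H4.TilD11.isPseudoCoherentD_of_iso e h1)
  rw [rel_iff_forall_chart, rel_iff_forall_chart]
  exact ⟨fun U V h' n φ hφ hci => (key U V h' n φ hφ hci).1,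
    fun U V h' n φ hφ hci => (key U V h' n φ hφ hci).2⟩

/-- **S6204** -/
theorem S6204 [LocallyOfFiniteType f] (n : ℤ)
    (T : Triangle (DCoh.D X)) (hT : T ∈ distinguishedTriangles) :
    (DerSch.IsPseudoCoherentRel f (n + 1) T.obj₁ → DerSch.IsPseudoCoherentRel f n T.obj₂ →
        DerSch.IsPseudoCoherentRel f n T.obj₃) ∧
      (DerSch.IsPseudoCoherentRel f n T.obj₁ → DerSch.IsPseudoCoherentRel f n T.obj₃ →
        DerSch.IsPseudoCoherentRel f n T.obj₂) ∧
      (DerSch.IsPseudoCoherentRel f n T.obj₂ → DerSch.IsPseudoCoherentRel f (n - 1) T.obj₃ →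
        DerSch.IsPseudoCoherentRel f n T.obj₁) := by
  simp only [rel_iff_forall_chart]
  refine ⟨fun h1 h2 U V h' k φ hφ hci => ?_, fun h1 h3 U V h' k φ hφ hci => ?_,
    fun h2 h3 U V h' k φ hφ hci => ?_⟩
  · exact (S0889 n _ ((chartF (U : X.Opens) φ).map_distinguished T hT)).1
      (h1 U V h' k φ hφ hci) (h2 U V h' k φ hφ hci)
  · exact (S0889 n _ ((chartF (U : X.Opens) φ).map_distinguished T hT)).2.1
      (h1 U V h' k φ hφ hci) (h3 U V h' k φ hφ hci)
  · have := (S0889 (n - 1) _ ((chartF (U : X.Opens) φ).map_distinguished T hT)).2.2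
    rw [show n - 1 + 1 = n by omega] at this
    exact this (h2 U V h' k φ hφ hci) (h3 U V h' k φ hφ hci)

end Groth.Agent.H4.RPC15
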