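import Mathlib
import Groth.Prelude.Def_DerSch2
import Groth.Agent.H4.RPC15
import Groth.Agent.H4.PCS5
import Groth.Agent.Lib.Lead.QC.Push
import Groth.Agent.Lib.Lead.QC.Pullback
import Groth.Agent.Lib.Lead.QC.ProjFormulaCoh

set_option autoImplicit false
universe u
attribute [local instance] HasDerivedCategory.standard
open CategoryTheory CategoryTheory.Limits AlgebraicGeometry DerivedCategory Opposite TopologicalSpace
open Groth.Agent.LD.QC
open Groth.Agent.H4.PSch2 Groth.Agent.H4.RPC2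
open Groth.Agent.H4.RPC3 Groth.Agent.H4.RPC7 Groth.Agent.H4.RPC8
open Groth.Agent.H4.RPC9 Groth.Agent.H4.RPC10 Groth.Agent.H4.RPC11 Groth.Agent.H4.RPC12
open Groth.Agent.H4.RPC13 Groth.Agent.H4.RPC14 Groth.Agent.H4.RPC15 Groth.Agent.H4.PCS4 Groth.Agent.H4.PCS8 Pretriangulated

namespace Groth.Agent.H4.RPC16

section SpecLemma

variable {A B : CommRingCat.{u}} (φ : B ⟶ A) (M : (Spec A).Modules)

/-- the `B`-action on sections of a direct image along `Spec φ` is the `A`-action through `φ` -/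
lemma push_smul_Spec (W : (Spec B).Opens)
    (x : Γ((Scheme.Modules.pushforward (Spec.map φ)).obj M, W)) (b : B) :
    b • x = (show Γ((Scheme.Modules.pushforward (Spec.map φ)).obj M, W) from
      (φ b) • (show Γ(M, (Spec.map φ) ⁻¹ᵁ W) from x)) := by
  rw [Scheme.Modules.smul_Spec_def, pushforward_smul, Scheme.Modules.smul_Spec_def]
  dsimp only
  congr 1
  have h1 := (Spec.map φ).naturality (homOfLE (le_top : W ≤ ⊤)).op
  have h2 := Scheme.ΓSpecIso_inv_naturality φ
  have h3 : (Spec.map φ).app W ((Spec B).presheaf.map (homOfLE (le_top : W ≤ ⊤)).op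
      ((Scheme.ΓSpecIso B).inv b)) =
      (Spec A).presheaf.map (homOfLE (le_top : (Spec.map φ) ⁻¹ᵁ W ≤ ⊤)).op
        ((Spec.map φ).appTop ((Scheme.ΓSpecIso B).inv b)) := congr($h1 _)
  have h4 : (Spec.map φ).appTop ((Scheme.ΓSpecIso B).inv b) = (Scheme.ΓSpecIso A).inv (φ b) :=
    (congr($h2 b)).symm
  rw [← h4]
  exact h3

/-- quasi-coherence is reflected by direct image along `Spec` of a surjective ring map -/
theorem qc_of_qc_pushforward_Spec (hφ : Function.Surjective φ.hom)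
    (h : ((Scheme.Modules.pushforward (Spec.map φ)).obj M).IsQuasicoherent) :
    M.IsQuasicoherent := by
  haveI := h
  refine spec_qc_of_surj_inj M ?_ ?_
  · intro a t
    obtain ⟨b, rfl⟩ := hφ a
    obtain ⟨n, s, hs⟩ := spec_surj ((Scheme.Modules.pushforward (Spec.map φ)).obj M) b t
    refine ⟨n, s, ?_⟩
    have e := push_smul_Spec φ M (PrimeSpectrum.basicOpen b) t (b ^ n)
    refine hs.trans (e.trans ?_)
    dsimp only
    rw [map_pow]
    rfl
  · intro a s hs
    obtain ⟨b, rfl⟩ := hφ a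
    obtain ⟨n, hn⟩ := spec_inj ((Scheme.Modules.pushforward (Spec.map φ)).obj M) b s hs
    refine ⟨n, ?_⟩
    have e := push_smul_Spec φ M ⊤ s (b ^ n)
    dsimp only at e
    rw [map_pow] at e
    exact e.symm.trans hn

end SpecLemma

section QC

open Groth.Agent.H4.TilD9 Groth.Agent.H4.RPC2b Groth.Agent.H4.PCS5

variable {X S : Scheme.{u}}

/-- quasi-coherence is reflected by direct image along a generalised chart -/
lemma qc_of_qc_push_gImm {U : X.Opens} (hU : IsAffineOpen U) {B : Type u} [CommRing B]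
    (φ : B →+* Γ(X, U)) (hφ : Function.Surjective φ) (N : (U : Scheme.{u}).Modules)
    (h : ((Scheme.Modules.pushforward (gImm U φ)).obj N).IsQuasicoherent) : N.IsQuasicoherent := by
  haveI : IsIso U.toSpecΓ := by
    rw [← hU.isoSpec_hom]; infer_instance
  have e1 : (Scheme.Modules.pushforward (Spec.map (CommRingCat.ofHom φ))).obj
      ((Scheme.Modules.pushforward U.toSpecΓ).obj N) ≅
      (Scheme.Modules.pushforward (gImm U φ)).obj N :=
    (Scheme.Modules.pushforwardComp U.toSpecΓ (Spec.map (CommRingCat.ofHom φ))).app N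
  have h1 : ((Scheme.Modules.pushforward U.toSpecΓ).obj N).IsQuasicoherent :=
    qc_of_qc_pushforward_Spec (CommRingCat.ofHom φ) _ hφ (qc_of_iso e1.symm h)
  haveI := h1
  have e2 : (Scheme.Modules.restrictFunctor U.toSpecΓ).obj
      ((Scheme.Modules.pushforward U.toSpecΓ).obj N) ≅ N :=
    (Scheme.Modules.restrictFunctorAdjCounitIso U.toSpecΓ).app N
  exact qc_of_iso e2 inferInstance

/-- **S7213** -/
theorem S7213 (f : X ⟶ S) (m : ℤ) (E : DCoh.D X)
    (hE : DerSch.IsPseudoCoherentRel f m E) (i : ℤ) (hi : m < i) : Coh.IsQCoh (DCoh.HD E i) := by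
  haveI := hE.1
  rw [rel_iff_forall_chart] at hE
  apply qc_of_local
  intro x
  obtain ⟨U, V, hU, hV, hxU, hUV⟩ := exists_affine_nhds_le_preimage f x
  obtain ⟨n, φ, hφ⟩ := exists_isChart f U V hUV
    (LocallyOfFiniteType.finiteType_appLE f hV hU hUV)
  haveI := isClosedImmersion_gImm U φ hU hφ.1
  have h1 := hE ⟨U, hU⟩ ⟨V, hV⟩ hUV n φ hφ inferInstance
  have h2 : Coh.IsQCoh (DCoh.HD ((chartF U φ).obj E) i) := (S7240 m _ h1).1 i hi
  have h3 : ((Scheme.Modules.pushforward (gImm U φ)).obj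
      (DCoh.HD ((RD U.ι).obj E) i)).IsQuasicoherent :=
    qc_of_iso (HDRi (gImm U φ) ((RD U.ι).obj E) i) h2
  have h4 := qc_of_qc_push_gImm hU φ hφ.1 _ h3
  have e := (mapDerivedCategoryHomologyIso (Scheme.Modules.restrictFunctor U.ι) i).app E
  refine ⟨U, U.ι, inferInstance, ?_, qc_of_iso e h4⟩
  simpa using hxU

/-- **S6235** -/
theorem S6235 (f : X ⟶ S) (E : DCoh.D X)
    (hE : DerSch.IsPseudoCoherentRelAll f E) : DCoh.IsQCohD E :=
  fun i => S7213 f (i - 1) E (hE (i - 1)) i (by omega)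

end QC

section Bdd

open Groth.Agent.H4.TilD9 Groth.Agent.H4.TilD10 Groth.Agent.H4.RPC2b Groth.Agent.H4.RPC4 Groth.Agent.H4.PCS3
open Groth.Agent.H4.FAmp5

variable {X S : Scheme.{u}}

/-- a module vanishing on the members of a cover by open immersions vanishes -/
lemma isZero_of_locally_isZero_restrict' (M : X.Modules)
    (h : ∀ x : X, ∃ (W : Scheme.{u}) (j : W ⟶ X) (_ : IsOpenImmersion j),
      x ∈ Set.range j ∧ IsZero (M.restrict j)) : IsZero M := by
  apply Groth.Agent.LD.QC.isZero_of_locally_isZero_restrict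
  intro y
  obtain ⟨W, j, hj, hy, hz⟩ := h y
  refine ⟨j.opensRange, hy, ?_⟩
  exact IsZero.of_iso ((Scheme.Modules.restrictFunctor j.isoOpensRange.inv).map_isZero hz)
    (restrictOpensRangeIso j M).symm

/-- boundedness above is local -/
lemma isLE_of_locally (K : DCoh.D X) (b : ℤ)
    (h : ∀ x : X, ∃ (W : Scheme.{u}) (j : W ⟶ X) (_ : IsOpenImmersion j),
      x ∈ Set.range j ∧ ((RD j).obj K).IsLE b) : K.IsLE b := by
  rw [DerivedCategory.isLE_iff]
  intro i hi
  apply isZero_of_locally_isZero_restrict'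
  intro x
  obtain ⟨W, j, hj, hx, hle⟩ := h x
  refine ⟨W, j, hj, hx, ?_⟩
  have e := (mapDerivedCategoryHomologyIso (Scheme.Modules.restrictFunctor j) i).app K
  haveI := hle
  exact IsZero.of_iso (DerivedCategory.isZero_of_isLE ((RD j).obj K) b i hi) e.symm

/-- local boundedness above of relatively pseudo-coherent objects -/
lemma exists_isLE_nhds (f : X ⟶ S) (n : ℤ) (E : DCoh.D X)
    (hE : DerSch.IsPseudoCoherentRel f n E) (x : X) :
    ∃ (W : Scheme.{u}) (j : W ⟶ X) (_ : IsOpenImmersion j) (b : ℤ),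
      x ∈ Set.range j ∧ ((RD j).obj E).IsLE b := by
  haveI := hE.1
  rw [rel_iff_forall_chart] at hE
  obtain ⟨U, V, hU, hV, hxU, hUV⟩ := exists_affine_nhds_le_preimage f x
  obtain ⟨k, φ, hφ⟩ := exists_isChart f U V hUV
    (LocallyOfFiniteType.finiteType_appLE f hV hU hUV)
  haveI := isClosedImmersion_gImm U φ hU hφ.1
  have h1 := hE ⟨U, hU⟩ ⟨V, hV⟩ hUV k φ hφ inferInstance
  rw [isPseudoCoherentD_iff_pcAt] at h1
  obtain ⟨W', b, hzW', -, hle⟩ := pcAt_exists_isLE (h1 (gImm U φ ⟨x, hxU⟩))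
  have e := (RiRes (gImm U φ) W').app ((RD U.ι).obj E)
  have h2 : ((Ri (gImm U φ ∣_ W')).obj
      ((RD ((gImm U φ) ⁻¹ᵁ W').ι).obj ((RD U.ι).obj E))).IsLE b := by
    haveI : TStructure.t.IsLE ((Ri (gImm U φ) ⋙ RD W'.ι).obj ((RD U.ι).obj E)) b := hle
    exact TStructure.t.isLE_of_iso e b
  have h3 := isLE_of_isLE_Ri (gImm U φ ∣_ W') _ b h2
  obtain ⟨e2⟩ := nonempty_RD_comp_obj' ((gImm U φ) ⁻¹ᵁ W').ι U.ι
    (((gImm U φ) ⁻¹ᵁ W').ι ≫ U.ι) rfl E
  refine ⟨_, ((gImm U φ) ⁻¹ᵁ W').ι ≫ U.ι, inferInstance, b, ⟨⟨⟨x, hxU⟩, hzW'⟩, rfl⟩, ?_⟩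
  haveI := h3
  exact TStructure.t.isLE_of_iso e2.symm b

/-- **S6236** -/
theorem S6236 [CompactSpace X] (f : X ⟶ S) (n : ℤ)
    (E : DCoh.D X) (hE : DerSch.IsPseudoCoherentRel f n E) : ∃ b : ℤ, E.IsLE b := by
  choose W j hj b hx hle using exists_isLE_nhds f n E hE
  obtain ⟨t, ht⟩ := isCompact_univ.elim_finite_subcover (fun x : X => ((j x).opensRange : Set X))
    (fun x => (j x).opensRange.2) (fun x _ => Set.mem_iUnion.2 ⟨x, hx x⟩)
  obtain ⟨B, hB⟩ := (t.image b).exists_le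
  refine ⟨B, isLE_of_locally E B (fun x => ?_)⟩
  obtain ⟨y, hy⟩ := Set.mem_iUnion.1 (ht (Set.mem_univ x))
  obtain ⟨hyt, hxy⟩ := Set.mem_iUnion.1 hy
  refine ⟨W y, j y, hj y, hxy, ?_⟩
  haveI := hle y
  exact TStructure.t.isLE_of_le _ (b y) B (hB _ (Finset.mem_image_of_mem b hyt))

end Bdd

end Groth.Agent.H4.RPC16
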