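import Mathlib
import Groth.Prelude.Def_DerSch2
import Groth.Agent.H4.RPC16

set_option autoImplicit false
universe u
attribute [local instance] HasDerivedCategory.standard
open CategoryTheory CategoryTheory.Limits AlgebraicGeometry DerivedCategory Opposite TopologicalSpace
open Groth.Agent.LD.QC
open Groth.Agent.H4.PSch2 Groth.Agent.H4.RPC2 Groth.Agent.H4.FAmp5 Groth.Agent.H4.TilD10 Groth.Agent.H4.TilD11
open Groth.Agent.H4.RPC3 Groth.Agent.H4.RPC7 Groth.Agent.H4.RPC8 Groth.Agent.H4.PCS7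
open Groth.Agent.H4.RPC9 Groth.Agent.H4.RPC10 Groth.Agent.H4.RPC11 Groth.Agent.H4.RPC12
open Groth.Agent.H4.RPC13 Groth.Agent.H4.RPC14 Groth.Agent.H4.RPC15 Groth.Agent.H4.PCS4 Groth.Agent.H4.PCS8 Pretriangulated

namespace Groth.Agent.H4.RPC17

section TL

variable {X' X : Scheme.{u}} (j : X' ⟶ X) [IsOpenImmersion j] (W : X'.Opens)

/-- the canonical morphism `W ⟶ j(W)` -/
noncomputable abbrev imgHom : (W : Scheme.{u}) ⟶ ((j ''ᵁ W : X.Opens) : Scheme.{u}) :=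
  j.resLE (j ''ᵁ W) W (by rw [j.preimage_image_eq])

instance : IsOpenImmersion (imgHom j W) := by
  unfold imgHom Scheme.Hom.resLE
  infer_instance

lemma imgHom_surjective : Function.Surjective (imgHom j W) := by
  rintro ⟨_, x, hx, rfl⟩
  refine ⟨⟨x, hx⟩, ?_⟩
  apply Subtype.ext
  simp

/-- pseudo-coherence is insensitive to restriction along the identity -/
lemma isPseudoCoherentD_RD_id_iff {P : Scheme.{u}} (L : DCoh.D P) (m : ℤ) :
    DCoh.IsPseudoCoherentD m ((RD (𝟙 P)).obj L) ↔ DCoh.IsPseudoCoherentD m L := by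
  constructor
  · intro h
    rw [isPseudoCoherentD_iff_pcAt] at h ⊢
    intro y
    have := PCAt.of_restrict (𝟙 P) L y (h y)
    simpa using this
  · exact isPseudoCoherentD_RD (𝟙 P) L

variable {B : Type u} [CommRing B] (φ : B →+* Γ(X, j ''ᵁ W))

/-- the transported chart -/
noncomputable def chartPull : B →+* Γ(X', W) := (j.appIso W).hom.hom.comp φ

lemma chartPull_surjective (hφ : Function.Surjective φ) : Function.Surjective (chartPull j W φ) :=
  (ConcreteCategory.bijective_of_isIso (j.appIso W).hom).2.comp hφ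

lemma gImm_chartPull : imgHom j W ≫ gImm (j ''ᵁ W) φ = gImm W (chartPull j W φ) ≫ 𝟙 _ := by
  rw [Category.comp_id]
  unfold gImm chartPull
  rw [CommRingCat.ofHom_comp, Spec.map_comp, ← Category.assoc, ← Category.assoc]
  congr 1
  have h := Scheme.Opens.toSpecΓ_SpecMap_appLE j (U := j ''ᵁ W) (V := W)
    (by rw [j.preimage_image_eq])
  rw [← h, Scheme.Hom.appIso_hom']
  rfl

/-- **transport of the chart test along an open immersion** -/
theorem gpc_chartPull_iff (hW : IsAffineOpen W) (hφ : Function.Surjective φ) (m : ℤ)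
    (K : DCoh.D X) :
    GPC W (chartPull j W φ) m ((RD j).obj K) ↔ GPC (j ''ᵁ W) φ m K := by
  haveI := isClosedImmersion_gImm (j ''ᵁ W) φ (hW.image_of_isOpenImmersion j) hφ
  haveI := isClosedImmersion_gImm W (chartPull j W φ) hW (chartPull_surjective j W φ hφ)
  rw [gpc_iff, gpc_iff]
  have e1 := (RiBC (gImm (j ''ᵁ W) φ) (gImm W (chartPull j W φ)) (imgHom j W) (𝟙 _)
    (gImm_chartPull j W φ) (cart_of_range _ _ _ _ (gImm_chartPull j W φ)
      (fun x _ => imgHom_surjective j W x))).app ((RD (j ''ᵁ W).ι).obj K)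
  obtain ⟨e2⟩ := nonempty_RD_comp_obj' (imgHom j W) (j ''ᵁ W).ι (W.ι ≫ j)
    (Scheme.Hom.resLE_comp_ι j _).symm K
  obtain ⟨e3⟩ := nonempty_RD_comp_obj' W.ι j (W.ι ≫ j) rfl K
  have e4 := e1 ≪≫ (Ri (gImm W (chartPull j W φ))).mapIso (e2.symm ≪≫ e3)
  rw [← isPseudoCoherentD_RD_id_iff ((Ri (gImm (j ''ᵁ W) φ)).obj ((RD (j ''ᵁ W).ι).obj K))]
  constructor
  · exact isPseudoCoherentD_of_iso e4.symm
  · exact isPseudoCoherentD_of_iso e4

end TL

section Iso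

variable {X S : Scheme.{u}} (f : X ⟶ S)

lemma chartPC_of_iso {m : ℤ} {K K' : DCoh.D X} (e : K ≅ K') {U : X.Opens} {V : S.Opens} {n : ℕ}
    {φ : MvPolynomial (Fin n) Γ(S, V) →+* Γ(X, U)} (h : DerSch.ChartPC m K U V φ) :
    DerSch.ChartPC m K' U V φ :=
  fun G ⟨e'⟩ => h G ⟨e' ≪≫ e.symm⟩

lemma PCh.of_iso {m : ℤ} {K K' : DCoh.D X} (e : K ≅ K') {W : X.Opens} {V : S.Opens}
    (h : PCh f m K W V) : PCh f m K' W V := by
  obtain ⟨hW, n, φ, hφ, hpc⟩ := h
  exact ⟨hW, n, φ, hφ, chartPC_of_iso e hpc⟩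

lemma rel_of_iso {m : ℤ} {K K' : DCoh.D X} (e : K ≅ K') (h : DerSch.IsPseudoCoherentRel f m K) :
    DerSch.IsPseudoCoherentRel f m K' := by
  obtain ⟨hl, 𝒱, h𝒱, H⟩ := h
  refine ⟨hl, 𝒱, h𝒱, fun V hV => ?_⟩
  obtain ⟨𝒰, h𝒰, HU⟩ := H V hV
  refine ⟨𝒰, h𝒰, fun U hU hUV => ?_⟩
  obtain ⟨n, φ, hφ, hpc⟩ := HU U hU hUV
  exact ⟨n, φ, hφ, chartPC_of_iso e hpc⟩

end Iso

section TL2

variable {X' X S : Scheme.{u}} (j : X' ⟶ X) [IsOpenImmersion j] (f : X ⟶ S)

lemma appLE_comp_eq (W : X'.Opens) (V : S.Opens) (h' : j ''ᵁ W ≤ f ⁻¹ᵁ V)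
    (hW : W ≤ (j ≫ f) ⁻¹ᵁ V) :
    (j ≫ f).appLE V W hW = f.appLE V (j ''ᵁ W) h' ≫ (j.appIso W).hom := by
  rw [Scheme.Hom.appIso_hom', Scheme.Hom.appLE_comp_appLE]

/-- transport of the chart predicate along an open immersion -/
theorem pch_image_iff (W : X'.Opens) (hW : IsAffineOpen W) (V : S.Opens) (m : ℤ) (K : DCoh.D X) :
    PCh (j ≫ f) m ((RD j).obj K) W V ↔ PCh f m K (j ''ᵁ W) V := by
  constructor
  · rintro ⟨hWV, n, ψ, hψ, hpc⟩
    have h' : j ''ᵁ W ≤ f ⁻¹ᵁ V := by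
      rintro _ ⟨x, hx, rfl⟩
      exact hWV hx
    let φ : MvPolynomial (Fin n) Γ(S, V) →+* Γ(X, j ''ᵁ W) := (j.appIso W).inv.hom.comp ψ
    have e : chartPull j W φ = ψ := by
      refine RingHom.ext fun x => ?_
      simp [chartPull, φ]
    have hφs : Function.Surjective φ :=
      (ConcreteCategory.bijective_of_isIso (j.appIso W).inv).2.comp hψ.1
    have hφ : DerSch.IsChart f (j ''ᵁ W) V h' φ := by
      refine ⟨hφs, ?_⟩
      ext x
      have h1 : ψ (MvPolynomial.C x) = ((j ≫ f).appLE V W hWV).hom x := congr($(hψ.2) x)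
      have h2 := appLE_comp_eq j f W V h' hWV
      simp only [φ, RingHom.comp_apply]
      rw [h1, h2]
      simp
    refine ⟨h', n, φ, hφ, (gpc_chartPull_iff j W φ hW hφs m K).1 ?_⟩
    rw [e]; exact hpc
  · rintro ⟨h', n, φ, hφ, hpc⟩
    have hWV : W ≤ (j ≫ f) ⁻¹ᵁ V := by
      intro x hx
      exact h' ⟨x, hx, rfl⟩
    refine ⟨hWV, n, chartPull j W φ, ⟨chartPull_surjective j W φ hφ.1, ?_⟩,
      (gpc_chartPull_iff j W φ hW hφ.1 m K).2 hpc⟩
    ext x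
    have h1 : φ (MvPolynomial.C x) = (f.appLE V (j ''ᵁ W) h').hom x := congr($(hφ.2) x)
    have h2 := appLE_comp_eq j f W V h' hWV
    simp only [chartPull, RingHom.comp_apply]
    rw [h1, h2]
    rfl

end TL2

section Restrict

variable {X Y : Scheme.{u}} (f : X ⟶ Y)

/-- relative pseudo-coherence in terms of the chart predicate on all affine pairs -/
lemma rel_iff_pch [LocallyOfFiniteType f] (m : ℤ) (K : DCoh.D X) :
    DerSch.IsPseudoCoherentRel f m K ↔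
      ∀ (U : X.affineOpens) (V : Y.affineOpens), (U : X.Opens) ≤ f ⁻¹ᵁ (V : Y.Opens) →
        PCh f m K (U : X.Opens) (V : Y.Opens) := by
  rw [S7208]
  constructor
  · intro H U V h
    obtain ⟨n, φ, hφ, hpc⟩ := H U V h
    exact ⟨h, n, φ, hφ, hpc⟩
  · intro H U V h
    obtain ⟨_, n, φ, hφ, hpc⟩ := H U V h
    exact ⟨n, φ, hφ, hpc⟩

/-- restriction to an open, derived form -/
theorem rel_restrict (n : ℤ) (K : DCoh.D X) (hK : DerSch.IsPseudoCoherentRel f n K)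
    (U : X.Opens) : DerSch.IsPseudoCoherentRel (U.ι ≫ f) n ((RD U.ι).obj K) := by
  haveI := hK.1
  rw [rel_iff_pch] at hK ⊢
  intro W V h
  rw [pch_image_iff U.ι f (W : (U : Scheme.{u}).Opens) W.2 (V : Y.Opens) n K]
  refine hK ⟨U.ι ''ᵁ (W : (U : Scheme.{u}).Opens), W.2.image_of_isOpenImmersion U.ι⟩ V ?_
  rintro _ ⟨x, hx, rfl⟩
  exact h hx

/-- **S6202** -/
theorem S6202 (n : ℤ) (E : CochainComplex X.Modules ℤ)
    (hE : DerSch.IsPseudoCoherentRel f n (DCoh.toD X E)) (U : X.Opens) :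
    DerSch.IsPseudoCoherentRel (U.ι ≫ f) n
      (DCoh.toD (U : Scheme.{u}) ((DCoh.restrictCx U).obj E)) :=
  rel_of_iso _ (RDfac U.ι E) (rel_restrict f n _ hE U)

/-- gluing over an open cover, derived form -/
theorem rel_of_openCover [LocallyOfFiniteType f] (n : ℤ) (K : DCoh.D X) {ι : Type*}
    (U : ι → X.Opens) (hU : ⨆ i, U i = ⊤)
    (h : ∀ i : ι, DerSch.IsPseudoCoherentRel ((U i).ι ≫ f) n ((RD (U i).ι).obj K)) :
    DerSch.IsPseudoCoherentRel f n K := by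
  refine ⟨inferInstance, Set.univ, ?_, fun V _ =>
    ⟨{W' | (∃ i, (W' : X.Opens) ≤ U i) ∧ (W' : X.Opens) ≤ f ⁻¹ᵁ (V : Y.Opens)}, ?_, ?_⟩⟩
  · simp only [Set.mem_univ, iSup_pos]
    exact iSup_affineOpens_eq_top Y
  · apply le_antisymm
    · exact iSup₂_le (fun W' hW' => hW'.2)
    · intro x hx
      have hx' : x ∈ (⨆ i, U i) := by rw [hU]; trivial
      obtain ⟨i, hi⟩ := Opens.mem_iSup.1 hx'
      obtain ⟨W', hW', hxW', hle⟩ := exists_isAffineOpen_mem_and_subset (x := x)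
        (U := U i ⊓ f ⁻¹ᵁ (V : Y.Opens)) ⟨hi, hx⟩
      simp only [Opens.mem_iSup]
      exact ⟨⟨W', hW'⟩, ⟨⟨i, hle.trans inf_le_left⟩, hle.trans inf_le_right⟩, hxW'⟩
  · rintro W' ⟨⟨i, hi⟩, -⟩ h'
    have hi' := h i
    rw [rel_iff_pch] at hi'
    have hWa : IsAffineOpen ((U i).ι ⁻¹ᵁ (W' : X.Opens)) :=
      W'.2.preimage_of_isOpenImmersion (U i).ι (by simpa using hi)
    have e : (U i).ι ''ᵁ ((U i).ι ⁻¹ᵁ (W' : X.Opens)) = (W' : X.Opens) := by
      rw [Scheme.Hom.image_preimage_eq_opensRange_inf]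
      simpa using hi
    have h1 := hi' ⟨(U i).ι ⁻¹ᵁ (W' : X.Opens), hWa⟩ V (by
      intro x hx
      exact h' hx)
    rw [pch_image_iff (U i).ι f _ hWa (V : Y.Opens) n K, e] at h1
    obtain ⟨_, k, φ, hφ, hpc⟩ := h1
    exact ⟨k, φ, hφ, hpc⟩

/-- **S6203** -/
theorem S6203 [LocallyOfFiniteType f] (n : ℤ)
    (E : CochainComplex X.Modules ℤ) {ι : Type u} (U : ι → X.Opens) (hU : ⨆ i, U i = ⊤)
    (h : ∀ i : ι, DerSch.IsPseudoCoherentRel ((U i).ι ≫ f) n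
      (DCoh.toD (U i : Scheme.{u}) ((DCoh.restrictCx (U i)).obj E))) :
    DerSch.IsPseudoCoherentRel f n (DCoh.toD X E) :=
  rel_of_openCover f n _ U hU (fun i => rel_of_iso _ (RDfac (U i).ι E).symm (h i))

end Restrict

end Groth.Agent.H4.RPC17
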