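import Mathlib
import Groth.Prelude.Def_DerSch2
import Groth.Agent.H4.RPC17
import Groth.Agent.H4.PGen2

set_option autoImplicit false
universe u
attribute [local instance] HasDerivedCategory.standard
open CategoryTheory CategoryTheory.Limits AlgebraicGeometry DerivedCategory Opposite TopologicalSpace
open Groth.Agent.LD.QC
open Groth.Agent.H4.PSch2 Groth.Agent.H4.RPC2 Groth.Agent.H4.FAmp5 Groth.Agent.H4.TilD9 Groth.Agent.H4.TilD10 Groth.Agent.H4.TilD11
open Groth.Agent.H4.RPC2b Groth.Agent.H4.RPC3 Groth.Agent.H4.RPC7 Groth.Agent.H4.RPC8 Groth.Agent.H4.PCS7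
open Groth.Agent.H4.RPC9 Groth.Agent.H4.RPC10 Groth.Agent.H4.RPC11 Groth.Agent.H4.RPC12
open Groth.Agent.H4.RPC13 Groth.Agent.H4.RPC14 Groth.Agent.H4.RPC15 Groth.Agent.H4.PCS4 Groth.Agent.H4.PCS8 Pretriangulated
open Groth.Agent.H4.PGen1 Groth.Agent.H4.PGen2 Groth.Agent.H4.NT7

namespace Groth.Agent.H4.RPC18

section Abs

variable {P : Scheme.{u}}

/-- pointwise pseudo-coherence has the formal dévissage properties -/
lemma pcLike_pcAt (x : P) : PCLike (fun (m : ℤ) (K : DCoh.D P) => PCAt m K x) where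
  of_iso e h := PCAt.of_iso e x h
  of_isLE m K hK := by haveI := hK; exact PCAt.of_isLE m K x
  obj₂ T hT m h₁ h₃ := PCAt.obj₂ T hT m x h₁ h₃
  shift n h := PCAt.shift _ x n h

/-- absolute homology criterion -/
theorem isPseudoCoherentD_of_homology (m b : ℤ) (K : DCoh.D P) [K.IsLE b]
    (h : ∀ i : ℤ, DCoh.IsPseudoCoherentD (m - i) (DCoh.inD P (DCoh.HD K i))) :
    DCoh.IsPseudoCoherentD m K := by
  rw [isPseudoCoherentD_iff_pcAt]
  intro x
  exact (pcLike_pcAt x).of_homology m b K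
    (fun i => (isPseudoCoherentD_iff_pcAt (m - i) _).1 (h i) x)

/-- absolute termwise criterion -/
theorem isPseudoCoherentD_of_termwise (m b : ℤ) (G : CochainComplex P.Modules ℤ)
    (hb : ∀ i : ℤ, b < i → IsZero (G.X i))
    (h : ∀ i : ℤ, DCoh.IsPseudoCoherentD (m - i) (DCoh.inD P (G.X i))) :
    DCoh.IsPseudoCoherentD m (DCoh.toD P G) := by
  rw [isPseudoCoherentD_iff_pcAt]
  intro x
  exact (pcLike_pcAt x).of_termwise m b G hb
    (fun i => (isPseudoCoherentD_iff_pcAt (m - i) _).1 (h i) x)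

end Abs

section Rel

variable {X S : Scheme.{u}} (f : X ⟶ S)

/-- the chart functor on a module placed in degree `0` -/
noncomputable def chartFInD (U : X.Opens) {B : Type u} [CommRing B] (φ : B →+* Γ(X, U))
    [IsClosedImmersion (gImm U φ)] (M : X.Modules) :
    (chartF U φ).obj (DCoh.inD X M) ≅
      DCoh.inD _ ((Scheme.Modules.pushforward (gImm U φ)).obj (M.restrict U.ι)) :=
  (Ri (gImm U φ)).mapIso (RDinD U.ι M) ≪≫ RiInD (gImm U φ) _

/-- **S7216** -/
theorem S7216 (m : ℤ) (E : DCoh.D X)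
    (b : ℤ) [E.IsLE b]
    (h : ∀ i : ℤ, DerSch.IsPseudoCoherentRel f (m - i) (DCoh.inD X (DCoh.HD E i))) :
    DerSch.IsPseudoCoherentRel f m E := by
  haveI := (h 0).1
  simp only [rel_iff_forall_chart] at h ⊢
  intro U V hUV n φ hφ hci
  haveI : ((RD (U : X.Opens).ι).obj E).IsLE b := isLE_RD _ E b
  haveI : ((chartF (U : X.Opens) φ).obj E).IsLE b := isLE_Ri _ _ b
  refine isPseudoCoherentD_of_homology m b _ (fun i => ?_)
  have h1 := h i U V hUV n φ hφ hci
  have e1 := chartFInD (U : X.Opens) φ (DCoh.HD E i)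
  have e2 : DCoh.HD ((chartF (U : X.Opens) φ).obj E) i ≅
      (Scheme.Modules.pushforward (gImm (U : X.Opens) φ)).obj
        ((DCoh.HD E i).restrict (U : X.Opens).ι) :=
    HDRi (gImm (U : X.Opens) φ) ((RD (U : X.Opens).ι).obj E) i ≪≫
      (Scheme.Modules.pushforward (gImm (U : X.Opens) φ)).mapIso
        ((mapDerivedCategoryHomologyIso (Scheme.Modules.restrictFunctor (U : X.Opens).ι) i).app E)
  exact isPseudoCoherentD_of_iso (e1 ≪≫ (singleFunctor _ 0).mapIso e2.symm) h1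

/-- **S7215** -/
theorem S7215 (m : ℤ)
    (F : CochainComplex X.Modules ℤ) (b : ℤ) (hb : ∀ i : ℤ, b < i → IsZero (F.X i))
    (h : ∀ i : ℤ, DerSch.IsPseudoCoherentRel f (m - i) (DCoh.inD X (F.X i))) :
    DerSch.IsPseudoCoherentRel f m (DCoh.toD X F) := by
  haveI := (h 0).1
  simp only [rel_iff_forall_chart] at h ⊢
  intro U V hUV n φ hφ hci
  have e0 : (chartF (U : X.Opens) φ).obj (DCoh.toD X F) ≅
      DCoh.toD _ ((DerSch.pushCx (gImm (U : X.Opens) φ)).obj
        ((DCoh.restrictCx (U : X.Opens)).obj F)) :=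
    (Ri (gImm (U : X.Opens) φ)).mapIso (RDfac (U : X.Opens).ι F) ≪≫ RiFac _ _
  refine isPseudoCoherentD_of_iso e0.symm ?_
  refine isPseudoCoherentD_of_termwise m b _ (fun i hi => ?_) (fun i => ?_)
  · exact (Scheme.Modules.pushforward (gImm (U : X.Opens) φ)).map_isZero
      ((Scheme.Modules.restrictFunctor (U : X.Opens).ι).map_isZero (hb i hi))
  · exact isPseudoCoherentD_of_iso (chartFInD (U : X.Opens) φ (F.X i))
      (h i U V hUV n φ hφ hci)

end Rel

end Groth.Agent.H4.RPC18
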