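import Mathlib
import Groth.Prelude.Def_DerSch2
import Groth.Agent.H4.RPC18

set_option autoImplicit false
universe u
attribute [local instance] HasDerivedCategory.standard
open CategoryTheory CategoryTheory.Limits AlgebraicGeometry DerivedCategory Opposite TopologicalSpace
open Groth.Agent.LD.QC
open Groth.Agent.H4.PSch2 Groth.Agent.H4.RPC2 Groth.Agent.H4.FAmp5 Groth.Agent.H4.TilD9 Groth.Agent.H4.TilD10 Groth.Agent.H4.TilD11
open Groth.Agent.H4.RPC2b Groth.Agent.H4.RPC3 Groth.Agent.H4.RPC7 Groth.Agent.H4.RPC8 Groth.Agent.H4.PCS7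
open Groth.Agent.H4.RPC9 Groth.Agent.H4.RPC10 Groth.Agent.H4.RPC11 Groth.Agent.H4.RPC12
open Groth.Agent.H4.RPC13 Groth.Agent.H4.RPC14 Groth.Agent.H4.RPC15 Groth.Agent.H4.PCS4 Groth.Agent.H4.PCS8 Pretriangulated
open Groth.Agent.H4.PGen1 Groth.Agent.H4.PGen2 Groth.Agent.H4.NT7 Groth.Agent.H4.RPC6

namespace Groth.Agent.H4.RPC19

variable {X S : Scheme.{u}} (f : X ⟶ S)

/-- the chart image of the structure sheaf -/
noncomputable def chartFUnit (U : X.Opens) {B : Type u} [CommRing B] (φ : B →+* Γ(X, U))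
    [IsClosedImmersion (gImm U φ)] :
    (chartF U φ).obj (DCoh.toD X (DerSch.unitCx X)) ≅
      DCoh.inD (Spec (CommRingCat.of B))
        ((Scheme.Modules.pushforward (gImm U φ)).obj (Coh.structureModule (U : Scheme.{u}))) :=
  (chartF U φ).mapIso ((singleFunctorIsoCompQ X.Modules 0).app (Coh.structureModule X)).symm ≪≫
    (Ri (gImm U φ)).mapIso (RDinD U.ι (Coh.structureModule X) ≪≫
      (singleFunctor _ 0).mapIso (Scheme.Modules.restrictUnitIso U.ι)) ≪≫
    RiInD (gImm U φ) (Coh.structureModule (U : Scheme.{u}))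

/-- **S6207** -/
theorem S6207 [LocallyOfFiniteType f] (hg : ∀ n : ℤ, DerSch.IsNPseudoCoherent f n) (r : ℤ)
    (E : DCoh.D X) :
    DCoh.IsPseudoCoherentD r E ↔ DerSch.IsPseudoCoherentRel f r E := by
  have hO : ∀ (U : X.affineOpens) (V : S.affineOpens) (h : (U : X.Opens) ≤ f ⁻¹ᵁ (V : S.Opens))
      (n : ℕ) (φ : MvPolynomial (Fin n) Γ(S, (V : S.Opens)) →+* Γ(X, (U : X.Opens)))
      (_ : DerSch.IsChart f (U : X.Opens) (V : S.Opens) h φ)
      (_ : IsClosedImmersion (gImm (U : X.Opens) φ)) (m : ℤ),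
      DCoh.IsPseudoCoherentD m (DCoh.inD _
        ((Scheme.Modules.pushforward (gImm (U : X.Opens) φ)).obj
          (Coh.structureModule ((U : X.Opens) : Scheme.{u})))) := by
    intro U V h n φ hφ hci m
    have h1 := (rel_iff_forall_chart f m _).1 (hg m) U V h n φ hφ hci
    exact isPseudoCoherentD_of_iso (chartFUnit (U : X.Opens) φ) h1
  rw [rel_iff_forall_chart]
  constructor
  · intro H U V h n φ hφ hci
    exact (isPseudoCoherentD_Ri_iff (gImm (U : X.Opens) φ) (hO U V h n φ hφ hci) _ r).1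
      (isPseudoCoherentD_RD (U : X.Opens).ι E H)
  · intro H
    rw [isPseudoCoherentD_iff_pcAt]
    intro x
    obtain ⟨U, V, hU, hV, hxU, hUV⟩ := exists_affine_nhds_le_preimage f x
    obtain ⟨n, φ, hφ⟩ := exists_isChart f U V hUV
      (LocallyOfFiniteType.finiteType_appLE f hV hU hUV)
    haveI := isClosedImmersion_gImm U φ hU hφ.1
    have h1 := H ⟨U, hU⟩ ⟨V, hV⟩ hUV n φ hφ inferInstance
    have h2 : DCoh.IsPseudoCoherentD r ((RD U.ι).obj E) :=
      (isPseudoCoherentD_Ri_iff (gImm U φ) (hO ⟨U, hU⟩ ⟨V, hV⟩ hUV n φ hφ inferInstance) _ r).2 h1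
    have h3 := PCAt.of_restrict U.ι E ⟨x, hxU⟩ ((isPseudoCoherentD_iff_pcAt r _).1 h2 _)
    exact h3

end Groth.Agent.H4.RPC19
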