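import Mathlib
import Groth.Prelude.Def_DerSch2
import Groth.Agent.H4.RPC19

set_option autoImplicit false
universe u
attribute [local instance] HasDerivedCategory.standard
open CategoryTheory CategoryTheory.Limits AlgebraicGeometry DerivedCategory Opposite
open Groth.Agent.LD.QC Groth.Agent.LD.QCQS Groth.Agent.H4.FAmp5
open Groth.Agent.H4.PSch1 Groth.Agent.H4.PSch2 Groth.Agent.H4.PSch3 Groth.Agent.H4.PSch5
open Groth.Agent.H4.TilD1 Groth.Agent.H4.TilD9 Groth.Agent.H4.TilD10 Groth.Agent.H4.TilD11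
open Groth.Agent.H4.PCS1 Groth.Agent.H4.PCS3 Groth.Agent.H4.PCS4 Groth.Agent.H4.PCS6
open Groth.Agent.H4.PCS7 Groth.Agent.H4.PCS8 Groth.Agent.H4.NT6
open Groth.Agent.H4.NT7 Groth.Agent.H4.RPC1 Groth.Agent.H4.RPC2 Groth.Agent.H4.RPC2b
open Groth.Agent.H4.RPC3 Groth.Agent.H4.RPC4 Groth.Agent.H4.RPC5 Groth.Agent.H4.RPC6 Pretriangulated

namespace Groth.Agent.H4.RPC20

section Gen

variable {X : Scheme.{u}}

/-- finite-level version of `allPC_inD_map_freeMod` -/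
theorem pcAt_inD_map_freeMod {Z : Scheme.{u}} (Φ : Z.Modules ⥤ X.Modules) [Φ.Additive] (n : ℤ) (x : X)
    (h : PCAt n (DCoh.inD X (Φ.obj (Coh.structureModule Z))) x) (k : ℕ) :
    PCAt n (DCoh.inD X (Φ.obj (FlatMod.freeMod Z k))) x := by
  induction k with
  | zero =>
    exact AllPC.of_isZero ((singleFunctor X.Modules 0).map_isZero
      (Φ.map_isZero (isZero_freeMod_zero Z))) n x
  | succ k ih =>
    let G : Z.Modules ⥤ DCoh.D X := Φ ⋙ singleFunctor X.Modules 0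
    haveI : G.Additive := inferInstanceAs (Φ ⋙ singleFunctor X.Modules 0).Additive
    haveI : PreservesBinaryBiproducts G := preservesBinaryBiproducts_of_preservesBiproducts G
    have e : G.obj (FlatMod.freeMod Z (k + 1)) ≅
        G.obj (Coh.structureModule Z) ⊞ G.obj (FlatMod.freeMod Z k) :=
      G.mapIso (freeModSuccIso Z k) ≪≫ G.mapBiprod _ _
    have h1 : PCAt n (G.obj (Coh.structureModule Z) ⊞ G.obj (FlatMod.freeMod Z k)) x :=
      PCAt.obj₂ _ (binaryBiproductTriangle_distinguished _ _) n x h ih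
    exact PCAt.of_iso e.symm x h1

/-- single-degree version, any degree -/
theorem pcAt_single_map_freeMod {Z : Scheme.{u}} (Φ : Z.Modules ⥤ X.Modules) [Φ.Additive] (n : ℤ)
    (x : X) (h : PCAt n (DCoh.inD X (Φ.obj (Coh.structureModule Z))) x) (k : ℕ) (b : ℤ) :
    PCAt (n + b) ((singleFunctor X.Modules b).obj (Φ.obj (FlatMod.freeMod Z k))) x := by
  have e := ((singleFunctors X.Modules).shiftIso (-b) b 0 (by omega)).app
    (Φ.obj (FlatMod.freeMod Z k))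
  have h1 := PCAt.shift _ x (-b) (pcAt_inD_map_freeMod Φ n x h k)
  rw [show n - -b = n + b by omega] at h1
  exact PCAt.of_iso e x h1

end Gen

variable {Z X : Scheme.{u}} (i : Z ⟶ X) [IsClosedImmersion i]

/-- the direct image of the structure sheaf is `n`-pseudo-coherent -/
def HOn (n : ℤ) : Prop :=
  ∀ x : X, PCAt n (DCoh.inD X ((Scheme.Modules.pushforward i).obj (Coh.structureModule Z))) x

lemma HOn.mono {i : Z ⟶ X} [IsClosedImmersion i] {n n' : ℤ} (h : HOn i n) (hn : n ≤ n') :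
    HOn i n' := fun x => PCAt.mono hn (h x)

lemma HO.hOn {i : Z ⟶ X} [IsClosedImmersion i] (h : HO i) (n : ℤ) : HOn i n := fun x => h n x

lemma HOn.restrict {i : Z ⟶ X} [IsClosedImmersion i] {n : ℤ} (h : HOn i n) (V : X.Opens) :
    HOn (i ∣_ V) n := by
  intro y
  have h1 : PCAt n ((RD V.ι).obj
      (DCoh.inD X ((Scheme.Modules.pushforward i).obj (Coh.structureModule Z)))) y :=
    PCAt.restrict V.ι _ y (h (V.ι y))
  have e1 := RDinD V.ι ((Scheme.Modules.pushforward i).obj (Coh.structureModule Z))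
  have e2 : ((Scheme.Modules.pushforward i).obj (Coh.structureModule Z)).restrict V.ι ≅
      (Scheme.Modules.pushforward (i ∣_ V)).obj
        ((Coh.structureModule Z).restrict (i ⁻¹ᵁ V).ι) :=
    (baseChangeIso i V).app (Coh.structureModule Z)
  have e3 : (Coh.structureModule Z).restrict (i ⁻¹ᵁ V).ι ≅
      Coh.structureModule (↑(i ⁻¹ᵁ V) : Scheme.{u}) :=
    Scheme.Modules.restrictUnitIso (i ⁻¹ᵁ V).ι
  exact PCAt.of_iso (e1 ≪≫ (singleFunctor _ 0).mapIso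
    (e2 ≪≫ (Scheme.Modules.pushforward (i ∣_ V)).mapIso e3)) y h1

/-- the derived direct image of a finite free module placed in one degree -/
theorem pcAt_Ri_single {n : ℤ} (h : HOn i n) (k : ℕ) (b : ℤ) (x : X) :
    PCAt (n + b) ((Ri i).obj (Q.obj ((HomologicalComplex.single Z.Modules (ComplexShape.up ℤ) b).obj
      (FlatMod.freeMod Z k)))) x := by
  have h1 := pcAt_single_map_freeMod (Scheme.Modules.pushforward i) n x (h x) k b
  have e1 := ((Scheme.Modules.pushforward i).mapDerivedCategorySingleFunctor b).app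
    (FlatMod.freeMod Z k)
  have e2 := (Ri i).mapIso ((singleFunctorIsoCompQ Z.Modules b).app (FlatMod.freeMod Z k))
  exact PCAt.of_iso (e1.symm ≪≫ e2) x h1

/-! ### reflecting direction, finite level -/

/-- the inductive statement, reflecting direction -/
def ReflAtN (d : ℕ) : Prop :=
  ∀ (Z X : Scheme.{u}) (i : Z ⟶ X) [IsClosedImmersion i] (E : DCoh.D Z) (b m : ℤ),
    HOn i (m + 1 - b) → E.IsLE b → b < m + d → ∀ z : Z, PCAt m ((Ri i).obj E) (i z) → PCAt m E z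

theorem reflAtN_zero : ReflAtN.{u} 0 := by
  intro Z X i _ E b m _ hb hbm z _
  haveI : E.IsLE (m - 1) := TStructure.t.isLE_of_le E b (m - 1) (by push_cast at hbm; omega)
  exact PCAt.of_isLE m E z

theorem reflN_stage3 (d : ℕ) (ih : ReflAtN.{u} d) (E : DCoh.D Z) (b m : ℤ) (hO : HOn i (m + 1 - b))
    (hbm : b < m + (d + 1 : ℕ)) (k : ℕ) (α : Q.obj (sgl Z b k) ⟶ E) (hα : IsWitD b α) (z : Z)
    (h : PCAt m ((Ri i).obj E) (i z)) : PCAt m E z := by
  obtain ⟨C, β, δ, hT, hC⟩ := exists_cone_isLE α b hα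
  have hT' := (Ri i).map_distinguished _ hT
  have h1 : PCAt (m + 1) ((Ri i).obj (Q.obj (sgl Z b k))) (i z) := by
    have := pcAt_Ri_single i hO k b (i z)
    rwa [show m + 1 - b + b = m + 1 by omega] at this
  have h3 : PCAt m ((Ri i).obj C) (i z) := PCAt.obj₃ _ hT' m (i z) h1 h
  have h4 : PCAt m C z := ih Z X i C (b - 1) m (hO.mono (by omega)) hC
    (by push_cast at hbm ⊢; omega) z h3
  have h5 : PCAt m (Q.obj (sgl Z b k)) z :=
    Groth.Agent.H4.NT8.allPC_single _ (isFinLocFree_freeMod Z k) b m z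
  exact PCAt.obj₂ _ hT m z h5 h4

theorem reflN_stage2 (d : ℕ) (ih : ReflAtN.{u} d) (E : DCoh.D Z) (b m : ℤ) [E.IsLE b]
    (hO : HOn i (m + 1 - b))
    (hbm : b < m + (d + 1 : ℕ)) (k : ℕ) (φ : FlatMod.freeMod X k ⟶ DCoh.HD ((Ri i).obj E) b)
    [Epi φ] (z : Z) (h : PCAt m ((Ri i).obj E) (i z)) : PCAt m E z := by
  obtain ⟨ψ, hψ⟩ := exists_epi_of_epi_HDRi i E b k φ
  haveI := hψ
  obtain ⟨U, hzU, α, hα⟩ := exists_single_hom_isWitD E b z k ψ
  obtain ⟨V, hzV, hVU⟩ := exists_opens_preimage_le i U z hzU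
  let l : ((i ⁻¹ᵁ V : Z.Opens) : Scheme.{u}) ⟶ (U : Scheme.{u}) := Z.homOfLE hVU
  have hl : (i ⁻¹ᵁ V).ι = l ≫ U.ι := (Scheme.homOfLE_ι Z hVU).symm
  obtain ⟨α', hα'⟩ := exists_sgl_wit_shrink U.ι l (i ⁻¹ᵁ V).ι hl b k α hα
  refine pcAt_of_restrict_of_Ri i V E z hzV (fun h' => ?_) h
  exact reflN_stage3 (i ∣_ V) d ih _ b m (hO.restrict V) hbm k α' hα' _ h'

theorem reflN_stage1 (d : ℕ) (ih : ReflAtN.{u} d) (E : DCoh.D Z) (b m : ℤ) [E.IsLE b]
    (hO : HOn i (m + 1 - b))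
    (hbm : b < m + (d + 1 : ℕ)) (hpc : DCoh.IsPseudoCoherentD b ((Ri i).obj E)) (z : Z)
    (h : PCAt m ((Ri i).obj E) (i z)) : PCAt m E z := by
  obtain ⟨V, k, φ, hzV, hφ⟩ := exists_epi_freeMod_HD ((Ri i).obj E) b hpc (i z)
  refine pcAt_of_restrict_of_Ri i V E z hzV (fun h' => ?_) h
  let e := (homologyFunctor _ b).mapIso ((RiRes i V).app E)
  haveI := hφ
  haveI : ((RD (i ⁻¹ᵁ V).ι).obj E).IsLE b := isLE_RD _ E b
  exact reflN_stage2 (i ∣_ V) d ih _ b m (hO.restrict V) hbm k (φ ≫ e.hom) _ h'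

theorem reflAtN_succ (d : ℕ) (ih : ReflAtN.{u} d) : ReflAtN.{u} (d + 1) := by
  intro Z X i _ E b m hO hb hbm z h
  by_cases hlt : b < m + d
  · exact ih Z X i E b m hO hb hlt z h
  have hmb : m ≤ b := by omega
  haveI := hb
  have hb' : PCAt b ((Ri i).obj E) (i z) := PCAt.mono hmb h
  obtain ⟨V, hzV, hpc⟩ := pcAt_exists_isPC hb'
  refine pcAt_of_restrict_of_Ri i V E z hzV (fun h' => ?_) h
  haveI : ((RD (i ⁻¹ᵁ V).ι).obj E).IsLE b := isLE_RD _ E b
  have hpc' : DCoh.IsPseudoCoherentD b ((Ri (i ∣_ V)).obj ((RD (i ⁻¹ᵁ V).ι).obj E)) :=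
    isPseudoCoherentD_of_iso ((RiRes i V).app E) hpc
  exact reflN_stage1 (i ∣_ V) d ih _ b m (hO.restrict V) hbm hpc' _ h'

theorem reflAtN (d : ℕ) : ReflAtN.{u} d := by
  induction d with
  | zero => exact reflAtN_zero
  | succ d ih => exact reflAtN_succ d ih

/-- **reflecting direction, finite level** -/
theorem pcAt_of_pcAt_Ri_le (E : DCoh.D Z) (b m : ℤ) [E.IsLE b] (hO : HOn i (m + 1 - b)) (z : Z)
    (h : PCAt m ((Ri i).obj E) (i z)) : PCAt m E z := by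
  by_cases hbm : b < m
  · haveI : E.IsLE (m - 1) := TStructure.t.isLE_of_le E b (m - 1) (by omega)
    exact PCAt.of_isLE m E z
  refine reflAtN (b - m + 1).toNat Z X i E b m hO inferInstance ?_ z h
  have : ((b - m + 1).toNat : ℤ) = b - m + 1 := Int.toNat_of_nonneg (by omega)
  omega

/-! ### preserving direction, finite level -/

def PresAtN (d : ℕ) : Prop :=
  ∀ (Z X : Scheme.{u}) (i : Z ⟶ X) [IsClosedImmersion i] (E : DCoh.D Z) (b m : ℤ),
    HOn i (m - b) → E.IsLE b → b < m + d → ∀ z : Z, PCAt m E z → PCAt m ((Ri i).obj E) (i z)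

theorem presAtN_zero : PresAtN.{u} 0 := by
  intro Z X i _ E b m _ hb hbm z _
  haveI : E.IsLE (m - 1) := TStructure.t.isLE_of_le E b (m - 1) (by push_cast at hbm; omega)
  exact PCAt.of_isLE m _ (i z)

theorem presN_stage3 (d : ℕ) (ih : PresAtN.{u} d) (E : DCoh.D Z) (b m : ℤ) (hO : HOn i (m - b))
    (hbm : b < m + (d + 1 : ℕ)) (k : ℕ) (α : Q.obj (sgl Z b k) ⟶ E) (hα : IsWitD b α) (z : Z)
    (h : PCAt m E z) : PCAt m ((Ri i).obj E) (i z) := by
  obtain ⟨C, β, δ, hT, hC⟩ := exists_cone_isLE α b hα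
  have hT' := (Ri i).map_distinguished _ hT
  have h1 : PCAt (m + 1) (Q.obj (sgl Z b k)) z :=
    Groth.Agent.H4.NT8.allPC_single _ (isFinLocFree_freeMod Z k) b _ z
  have h3 : PCAt m C z := PCAt.obj₃ _ hT m z h1 h
  have h4 : PCAt m ((Ri i).obj C) (i z) :=
    ih Z X i C (b - 1) m (hO.mono (by omega)) hC (by push_cast at hbm ⊢; omega) z h3
  have h5 : PCAt m ((Ri i).obj (Q.obj (sgl Z b k))) (i z) := by
    have := pcAt_Ri_single i hO k b (i z)
    rwa [show m - b + b = m by omega] at this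
  exact PCAt.obj₂ _ hT' m (i z) h5 h4

theorem presN_stage2 (d : ℕ) (ih : PresAtN.{u} d) (E : DCoh.D Z) (b m : ℤ) [E.IsLE b]
    (hO : HOn i (m - b))
    (hbm : b < m + (d + 1 : ℕ)) (k : ℕ) (ψ : FlatMod.freeMod Z k ⟶ DCoh.HD E b)
    [Epi ψ] (z : Z) (h : PCAt m E z) : PCAt m ((Ri i).obj E) (i z) := by
  obtain ⟨U, hzU, α, hα⟩ := exists_single_hom_isWitD E b z k ψ
  obtain ⟨V, hzV, hVU⟩ := exists_opens_preimage_le i U z hzU
  let l : ((i ⁻¹ᵁ V : Z.Opens) : Scheme.{u}) ⟶ (U : Scheme.{u}) := Z.homOfLE hVU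
  have hl : (i ⁻¹ᵁ V).ι = l ≫ U.ι := (Scheme.homOfLE_ι Z hVU).symm
  obtain ⟨α', hα'⟩ := exists_sgl_wit_shrink U.ι l (i ⁻¹ᵁ V).ι hl b k α hα
  refine pcAt_Ri_of_restrict i V E z hzV (fun h' => ?_) h
  exact presN_stage3 (i ∣_ V) d ih _ b m (hO.restrict V) hbm k α' hα' _ h'

theorem presN_stage1 (d : ℕ) (ih : PresAtN.{u} d) (E : DCoh.D Z) (b m : ℤ) [E.IsLE b]
    (hO : HOn i (m - b))
    (hbm : b < m + (d + 1 : ℕ)) (hpc : DCoh.IsPseudoCoherentD b E) (z : Z)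
    (h : PCAt m E z) : PCAt m ((Ri i).obj E) (i z) := by
  obtain ⟨U, hzU, hU⟩ := exists_epi_freeMod_HD' E b hpc z
  obtain ⟨V, hzV, hVU⟩ := exists_opens_preimage_le i U z hzU
  obtain ⟨k, φ, hφ⟩ := hU (i ⁻¹ᵁ V) hVU
  refine pcAt_Ri_of_restrict i V E z hzV (fun h' => ?_) h
  haveI := hφ
  haveI : ((RD (i ⁻¹ᵁ V).ι).obj E).IsLE b := isLE_RD _ E b
  exact presN_stage2 (i ∣_ V) d ih _ b m (hO.restrict V) hbm k φ _ h'

theorem presAtN_succ (d : ℕ) (ih : PresAtN.{u} d) : PresAtN.{u} (d + 1) := by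
  intro Z X i _ E b m hO hb hbm z h
  by_cases hlt : b < m + d
  · exact ih Z X i E b m hO hb hlt z h
  have hmb : m ≤ b := by omega
  haveI := hb
  have hb' : PCAt b E z := PCAt.mono hmb h
  obtain ⟨U, hzU, hpc⟩ := pcAt_exists_isPC hb'
  obtain ⟨V, hzV, hVU⟩ := exists_opens_preimage_le i U z hzU
  refine pcAt_Ri_of_restrict i V E z hzV (fun h' => ?_) h
  haveI : ((RD (i ⁻¹ᵁ V).ι).obj E).IsLE b := isLE_RD _ E b
  have hpc' : DCoh.IsPseudoCoherentD b ((RD (i ⁻¹ᵁ V).ι).obj E) := by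
    rw [isPseudoCoherentD_iff_pcAt] at hpc ⊢
    intro y
    have hy : y.1 ∈ U := hVU y.2
    have h1 : PCAt b E (U.ι ⟨y.1, hy⟩) := PCAt.of_restrict U.ι E ⟨y.1, hy⟩ (hpc ⟨y.1, hy⟩)
    exact PCAt.restrict (i ⁻¹ᵁ V).ι E y h1
  exact presN_stage1 (i ∣_ V) d ih _ b m (hO.restrict V) hbm hpc' _ h'

theorem presAtN (d : ℕ) : PresAtN.{u} d := by
  induction d with
  | zero => exact presAtN_zero
  | succ d ih => exact presAtN_succ d ih

/-- **preserving direction, finite level** -/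
theorem pcAt_Ri_of_pcAt_le (E : DCoh.D Z) (b m : ℤ) [E.IsLE b] (hO : HOn i (m - b)) (z : Z)
    (h : PCAt m E z) : PCAt m ((Ri i).obj E) (i z) := by
  by_cases hbm : b < m
  · haveI : E.IsLE (m - 1) := TStructure.t.isLE_of_le E b (m - 1) (by omega)
    haveI : ((Ri i).obj E).IsLE (m - 1) := isLE_Ri i E (m - 1)
    exact PCAt.of_isLE m _ (i z)
  refine presAtN (b - m + 1).toNat Z X i E b m hO inferInstance ?_ z h
  have : ((b - m + 1).toNat : ℤ) = b - m + 1 := Int.toNat_of_nonneg (by omega)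
  omega

/-- global forms -/
theorem isPseudoCoherentD_Ri_of_le (E : DCoh.D Z) (b m : ℤ) [E.IsLE b] (hO : HOn i (m - b))
    (h : DCoh.IsPseudoCoherentD m E) : DCoh.IsPseudoCoherentD m ((Ri i).obj E) := by
  rw [isPseudoCoherentD_iff_pcAt] at h ⊢
  intro x
  by_cases hx : x ∈ Set.range i
  · obtain ⟨z, rfl⟩ := hx
    exact pcAt_Ri_of_pcAt_le i E b m hO z (h z)
  · exact pcAt_Ri_of_notMem_range i m E x hx

theorem isPseudoCoherentD_of_Ri_of_le (E : DCoh.D Z) (b m : ℤ) [E.IsLE b] (hO : HOn i (m + 1 - b))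
    (h : DCoh.IsPseudoCoherentD m ((Ri i).obj E)) : DCoh.IsPseudoCoherentD m E := by
  rw [isPseudoCoherentD_iff_pcAt] at h ⊢
  intro z
  exact pcAt_of_pcAt_Ri_le i E b m hO z (h (i z))

end Groth.Agent.H4.RPC20
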