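import Mathlib
import Groth.Agent.H4.LocRelPC
import Groth.Agent.H4.TV

set_option autoImplicit false
universe u
open CategoryTheory CategoryTheory.Limits ZeroObject MonoidalCategory
attribute [local instance] HasDerivedCategory.standard
open DRing

namespace Groth.Agent.H4.TensPC
open Groth.Agent.H4.PCHom Groth.Agent.H4.PC Groth.Agent.H4.RelPC DerivedCategory
  Groth.Agent.H4.RestrPC Groth.Agent.H4.LDer Groth.Agent.H4.PCDesc Groth.Agent.H4.BC
  Groth.Agent.H4.TV CategoryTheory.Pretriangulated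

variable {S T : Type u} [CommRing S] [CommRing T] (φ : S →+* T) (X : Cx T)

/-- `M ↦ (X ⊗_T M)|_S`. -/
noncomputable def Psi (M : ModuleCat.{u} T) : Dual.D S :=
  (restrictD φ).obj (toD ((GC (tensorRight M)).obj X))

noncomputable def PsiIso {M M' : ModuleCat.{u} T} (e : M ≅ M') : Psi φ X M ≅ Psi φ X M' :=
  (restrictD φ).mapIso (Q.mapIso (tensIso X e))

lemma exists_triangle (hX : ∀ i, Module.Flat T (X.X i)) (Sc : ShortComplex (ModuleCat.{u} T))
    (hS : Sc.ShortExact) :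
    ∃ Tr : Triangle (Dual.D S), Tr ∈ distTriang (Dual.D S) ∧ Tr.obj₁ = Psi φ X Sc.X₁ ∧
      Tr.obj₂ = Psi φ X Sc.X₂ ∧ Tr.obj₃ = Psi φ X Sc.X₃ := by
  have hS' := shortExact_tens X hX Sc hS
  exact ⟨(restrictD φ).mapTriangle.obj (triangleOfSES hS'),
    (restrictD φ).map_distinguished _ (triangleOfSES_distinguished hS'), rfl, rfl, rfl⟩

lemma isPC_Psi_X₃ (hX : ∀ i, Module.Flat T (X.X i)) (Sc : ShortComplex (ModuleCat.{u} T))
    (hS : Sc.ShortExact) (m : ℤ) (h₁ : IsPseudoCoherent S (m + 1) (Psi φ X Sc.X₁))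
    (h₂ : IsPseudoCoherent S m (Psi φ X Sc.X₂)) : IsPseudoCoherent S m (Psi φ X Sc.X₃) := by
  obtain ⟨Tr, hTr, e₁, e₂, e₃⟩ := exists_triangle φ X hX Sc hS
  rw [← e₁] at h₁
  rw [← e₂] at h₂
  rw [← e₃]
  exact isPC_obj₃ Tr hTr m h₁ h₂

lemma isPC_Psi_X₂ (hX : ∀ i, Module.Flat T (X.X i)) (Sc : ShortComplex (ModuleCat.{u} T))
    (hS : Sc.ShortExact) (m : ℤ) (h₁ : IsPseudoCoherent S m (Psi φ X Sc.X₁))
    (h₃ : IsPseudoCoherent S m (Psi φ X Sc.X₃)) : IsPseudoCoherent S m (Psi φ X Sc.X₂) := by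
  obtain ⟨Tr, hTr, e₁, e₂, e₃⟩ := exists_triangle φ X hX Sc hS
  rw [← e₁] at h₁
  rw [← e₃] at h₃
  rw [← e₂]
  exact isPC_obj₂ Tr hTr m h₁ h₃

lemma isLE_Psi (b : ℤ) (hb : ∀ i, b < i → IsZero (X.X i)) (M : ModuleCat.{u} T) :
    (Psi φ X M).IsLE b := by
  rw [Psi, isLE_restrictD_iff]
  refine isLE_of_forall_isZero _ b (fun i hi => ?_)
  exact isZero_homology_toD_of_isZero _ i ((tensorRight M).map_isZero (hb i hi))

/-- `X ⊗ T ≅ X`. -/
noncomputable def PsiUnitIso : Psi φ X (ModuleCat.of T T) ≅ (restrictD φ).obj (toD X) :=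
  (restrictD φ).mapIso (Q.mapIso
    ((NatIso.mapHomologicalComplex (rightUnitorNatIso (ModuleCat.{u} T)) (ComplexShape.up ℤ)).app X ≪≫
      (Functor.mapHomologicalComplexIdIso (ModuleCat.{u} T) (ComplexShape.up ℤ)).app X))

lemma isZero_Psi_of_subsingleton (M : ModuleCat.{u} T) [Subsingleton M] : IsZero (Psi φ X M) := by
  refine (restrictD φ).map_isZero ?_
  have hM : IsZero M := ModuleCat.isZero_of_subsingleton M
  have hE : IsZero ((GC (tensorRight M)).obj X) := by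
    rw [IsZero.iff_id_eq_zero]
    ext i : 1
    have : IsZero ((tensorRight M).obj (X.X i)) := by
      rw [IsZero.iff_id_eq_zero]
      change 𝟙 (X.X i ⊗ M) = 0
      rw [← MonoidalCategory.id_tensorHom_id, hM.eq_of_src (𝟙 M) 0,
        MonoidalPreadditive.tensor_zero]
    exact this.eq_of_src _ _
  exact Q.map_isZero hE

lemma isPC_of_isZero' {A : Type u} [CommRing A] {K : Dual.D A} (hK : IsZero K) (m : ℤ) :
    IsPseudoCoherent A m K :=
  isPC_of_iso (IsZero.iso (Q.map_isZero (isZero_zero _)) hK) (isPC_toD m (0 : Cx A) isBFF_zero)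

lemma isPC_Psi_pi (hX : ∀ i, Module.Flat T (X.X i)) (m : ℤ)
    (h : IsPseudoCoherent S m ((restrictD φ).obj (toD X))) (n : ℕ) :
    IsPseudoCoherent S m (Psi φ X (ModuleCat.of T (Fin n → T))) := by
  induction n with
  | zero =>
    haveI : Subsingleton (ModuleCat.of T (Fin 0 → T)) := (inferInstance : Subsingleton (Fin 0 → T))
    exact isPC_of_isZero' (isZero_Psi_of_subsingleton φ X _) m
  | succ n ih =>
    exact isPC_Psi_X₂ φ X hX (freeSC T n) (freeSC_shortExact n) m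
      (isPC_of_iso (PsiUnitIso φ X).symm h) ih

/-- a pseudo-coherent module. -/
def PCMod (M : ModuleCat.{u} T) : Prop :=
  ∀ j : ℤ, IsPseudoCoherent T j ((singleFunctor (ModuleCat.{u} T) 0).obj M)

lemma exists_syzygy (M : ModuleCat.{u} T) (hM : PCMod M) :
    ∃ (n : ℕ) (Sc : ShortComplex (ModuleCat.{u} T)), Sc.ShortExact ∧
      Sc.X₂ = ModuleCat.of T (Fin n → T) ∧ Sc.X₃ = M ∧ PCMod Sc.X₁ := by
  haveI : Module.Finite T M :=
    (isPCModule_zero_iff (R := T) M).1 (hM 0)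
  obtain ⟨n, f, hf⟩ := Module.Finite.exists_fin' T M
  let p : ModuleCat.of T (Fin n → T) ⟶ M := ModuleCat.ofHom f
  refine ⟨n, kerSC p, kerSC_shortExact p hf, rfl, rfl, fun j => ?_⟩
  have := isPC_X₁_of_shortExact (kerSC p) (kerSC_shortExact p hf) (j - 1)
    (isPC_single_of_finite_free (j - 1 + 1) 0 (ModuleCat.of T (Fin n → T))) (hM (j - 1))
  rwa [show j - 1 + 1 = j by omega] at this

theorem isPC_Psi_aux (hX : ∀ i, Module.Flat T (X.X i)) (b : ℤ) (hb : ∀ i, b < i → IsZero (X.X i))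
    (m : ℤ) (h : IsPseudoCoherent S m ((restrictD φ).obj (toD X))) :
    ∀ (d : ℕ) (M : ModuleCat.{u} T), PCMod M →
      IsPseudoCoherent S (max m (b + 1 - d)) (Psi φ X M) := by
  intro d
  induction d with
  | zero =>
    intro M _
    haveI : (Psi φ X M).IsLE (b + 1 - 1) := by
      rw [show b + 1 - 1 = b by omega]
      exact isLE_Psi φ X b hb M
    exact isPC_mono (by simp) (isPC_of_isLE (b + 1) (Psi φ X M))
  | succ d ih =>
    intro M hM
    obtain ⟨n, Sc, hS, e₂, e₃, h₁⟩ := exists_syzygy M hM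
    have hΨ₁ := ih Sc.X₁ h₁
    have hΨ₂ := isPC_Psi_pi φ X hX m h n
    rw [← e₂] at hΨ₂
    rw [← e₃]
    refine isPC_Psi_X₃ φ X hX Sc hS _ (isPC_mono ?_ hΨ₁) (isPC_mono (le_max_left _ _) hΨ₂)
    push_cast
    omega

theorem isPC_Psi (hX : ∀ i, Module.Flat T (X.X i)) (b : ℤ) (hb : ∀ i, b < i → IsZero (X.X i))
    (m : ℤ) (h : IsPseudoCoherent S m ((restrictD φ).obj (toD X))) (M : ModuleCat.{u} T)
    (hM : PCMod M) : IsPseudoCoherent S m (Psi φ X M) := by
  have := isPC_Psi_aux φ X hX b hb m h (b + 1 - m).toNat M hM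
  refine isPC_mono ?_ this
  have := Int.self_le_toNat (b + 1 - m)
  omega

end Groth.Agent.H4.TensPC
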