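import Mathlib
import Groth.Agent.H4.TensPC
import Groth.Agent.H4.ResP2

set_option autoImplicit false
universe u
open CategoryTheory CategoryTheory.Limits ZeroObject MonoidalCategory TensorProduct
attribute [local instance] HasDerivedCategory.standard
open DRing

namespace Groth.Agent.H4.TensPC2
open Groth.Agent.H4.PCHom Groth.Agent.H4.PC Groth.Agent.H4.RelPC DerivedCategory
  Groth.Agent.H4.RestrPC Groth.Agent.H4.LDer Groth.Agent.H4.PCDesc Groth.Agent.H4.BC
  Groth.Agent.H4.TV CategoryTheory.Pretriangulated Groth.Agent.H4.TensPC Groth.Agent.H4.ProjF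

variable {T B : Type u} [CommRing T] [CommRing B] (γ : T →+* B)

/-- `B` as a `T`-module. -/
noncomputable abbrev NB : ModuleCat.{u} T :=
  (ModuleCat.restrictScalars.{u} γ).obj (ModuleCat.of B B)

variable (M : ModuleCat.{u} T)

/-- an element of `B ⊗_T M` as an element of the tensor product of `T`-modules. -/
def toTP (x : (ModuleCat.extendScalars.{u, u, u} γ).obj M) : (NB γ : Type u) ⊗[T] (M : Type u) := x

/-- the other way. -/
def ofTP (x : (NB γ : Type u) ⊗[T] (M : Type u)) : (ModuleCat.extendScalars.{u, u, u} γ).obj M := x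

lemma toTP_add (x y : (ModuleCat.extendScalars.{u, u, u} γ).obj M) :
    toTP γ M (x + y) = toTP γ M x + toTP γ M y := rfl

lemma toTP_zero : toTP γ M 0 = 0 := rfl

lemma toTP_et (b : B) (m : M) : toTP γ M (et γ M b m) = (rs γ b) ⊗ₜ[T] m := rfl

lemma toTP_smul (t : T) (x : (ModuleCat.extendScalars.{u, u, u} γ).obj M) :
    toTP γ M (γ t • x) = t • toTP γ M x := by
  induction x using ext_induction γ with
  | zero => rw [smul_zero, toTP_zero, smul_zero]
  | tmul b m =>
    rw [smul_et, toTP_et, toTP_et, TensorProduct.smul_tmul']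
    rfl
  | add x y hx hy => rw [smul_add, toTP_add, hx, hy, toTP_add, smul_add]

/-- `(B ⊗_T M)|_T → M ⊗_T B`. -/
noncomputable def sigmaHom : (ModuleCat.restrictScalars.{u} γ).obj
    ((ModuleCat.extendScalars.{u, u, u} γ).obj M) ⟶ (tensorRight (NB γ)).obj M :=
  ModuleCat.ofHom (X := (ModuleCat.restrictScalars.{u} γ).obj
      ((ModuleCat.extendScalars.{u, u, u} γ).obj M)) (Y := (tensorRight (NB γ)).obj M)
    { toFun := fun x => TensorProduct.comm T (NB γ) M (toTP γ M x)
      map_add' := fun x y =>
        (congrArg (TensorProduct.comm T (NB γ) M) (toTP_add γ M x y)).trans (map_add _ _ _)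
      map_smul' := fun t x =>
        (congrArg (TensorProduct.comm T (NB γ) M) (toTP_smul γ M t x)).trans (map_smul _ _ _) }

/-- `M ⊗_T B → (B ⊗_T M)|_T`. -/
noncomputable def sigmaInv : (tensorRight (NB γ)).obj M ⟶ (ModuleCat.restrictScalars.{u} γ).obj
    ((ModuleCat.extendScalars.{u, u, u} γ).obj M) :=
  ModuleCat.ofHom (X := (tensorRight (NB γ)).obj M) (Y := (ModuleCat.restrictScalars.{u} γ).obj
      ((ModuleCat.extendScalars.{u, u, u} γ).obj M))
    { toFun := fun x => ofTP γ M ((TensorProduct.comm T (NB γ) M).symm x)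
      map_add' := fun x y => by
        rw [map_add]
        rfl
      map_smul' := fun t x => by
        rw [map_smul]
        change ofTP γ M (t • _) = γ t • ofTP γ M _
        have := toTP_smul γ M t (ofTP γ M ((TensorProduct.comm T (NB γ) M).symm x))
        exact this.symm }

/-- `(B ⊗_T M)|_T ≅ M ⊗_T B`. -/
noncomputable def sigmaIso : (ModuleCat.restrictScalars.{u} γ).obj
    ((ModuleCat.extendScalars.{u, u, u} γ).obj M) ≅ (tensorRight (NB γ)).obj M where
  hom := sigmaHom γ M
  inv := sigmaInv γ M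
  hom_inv_id := by
    refine ModuleCat.hom_ext (LinearMap.ext fun x => ?_)
    change ofTP γ M ((TensorProduct.comm T (NB γ) M).symm
      (TensorProduct.comm T (NB γ) M (toTP γ M x))) = x
    rw [LinearEquiv.symm_apply_apply]
    rfl
  inv_hom_id := by
    refine ModuleCat.hom_ext (LinearMap.ext fun x => ?_)
    change TensorProduct.comm T (NB γ) M (toTP γ M (ofTP γ M
      ((TensorProduct.comm T (NB γ) M).symm x))) = x
    exact LinearEquiv.apply_symm_apply _ _

lemma sigmaHom_naturality {M M' : ModuleCat.{u} T} (g : M ⟶ M') :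
    (ModuleCat.restrictScalars.{u} γ).map ((ModuleCat.extendScalars.{u, u, u} γ).map g) ≫
      sigmaHom γ M' = sigmaHom γ M ≫ (tensorRight (NB γ)).map g := by
  refine ModuleCat.hom_ext (LinearMap.ext fun x => ?_)
  change TensorProduct.comm T (NB γ) M' (toTP γ M' ((ModuleCat.extendScalars.{u, u, u} γ).map g x)) =
    (g ▷ NB γ) (TensorProduct.comm T (NB γ) M (toTP γ M x))
  induction x using ext_induction γ with
  | zero => simp [toTP_zero]
  | tmul b m =>
    rw [map_et, toTP_et, toTP_et, TensorProduct.comm_tmul, TensorProduct.comm_tmul]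
    rfl
  | add x y hx hy => rw [map_add, toTP_add, map_add, hx, hy, toTP_add, map_add, map_add]

/-- the isomorphism on complexes. -/
noncomputable def sigmaCx (X : Cx T) :
    (GC (ModuleCat.restrictScalars.{u} γ)).obj ((GC (ModuleCat.extendScalars.{u, u, u} γ)).obj X) ≅
      (GC (tensorRight (NB γ))).obj X :=
  HomologicalComplex.Hom.isoOfComponents (fun i => sigmaIso γ (X.X i))
    (fun i j _ => (sigmaHom_naturality γ (X.d i j)).symm)

open Groth.Agent.H4.ResP in
/-- derived base change to a pseudo-coherent algebra preserves pseudo-coherence over a third ring. -/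
theorem isPC_restrict_LBC {S : Type u} [CommRing S] (φ : S →+* T) [DRing.HasLBaseChange γ]
    (L : Dual.D T) (m : ℤ) (hB : PCMod (NB γ))
    (h : IsPseudoCoherent S m ((restrictD φ).obj L)) :
    IsPseudoCoherent S m ((restrictD (γ.comp φ)).obj ((DRing.LBaseChange γ).obj L)) := by
  obtain ⟨b, hb⟩ := exists_bound_of_isPC h
  haveI : L.IsLE b := by
    rw [← isLE_restrictD_iff φ]
    exact isLE_of_forall_isZero _ b hb
  obtain ⟨X, hX, ⟨e⟩⟩ := exists_iso_of_isLE L b
  haveI := hX.isKProjective
  have hfl : ∀ i, Module.Flat T (X.X i) := fun i => by haveI := hX.2 i; infer_instance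
  have h' : IsPseudoCoherent S m ((restrictD φ).obj (toD X)) :=
    isPC_of_iso ((restrictD φ).mapIso e.symm) h
  have hΨ := isPC_Psi φ X hfl b hX.1 m h' (NB γ) hB
  have e1 := isoOfIso (ModuleCat.extendScalars.{u, u, u} γ) X e
  have i1 : (restrictD (γ.comp φ)).obj ((DRing.LBaseChange γ).obj L) ≅ Psi φ X (NB γ) :=
    (restrictD (γ.comp φ)).mapIso e1 ≪≫ restrictDComp φ γ _ ≪≫
      (restrictD φ).mapIso ((ModuleCat.restrictScalars.{u} γ).mapDerivedCategoryFactors.app _ ≪≫
        Q.mapIso (sigmaCx γ X))
  exact isPC_of_iso i1.symm hΨ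

end Groth.Agent.H4.TensPC2
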