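import Mathlib
import Groth.Agent.H4.TensPC2

set_option autoImplicit false
universe u
open CategoryTheory CategoryTheory.Limits ZeroObject MonoidalCategory TensorProduct
attribute [local instance] HasDerivedCategory.standard
open DRing

namespace Groth.Agent.H4.RelPCBC
open Groth.Agent.H4.PCHom Groth.Agent.H4.PC Groth.Agent.H4.RelPC DerivedCategory
  Groth.Agent.H4.RestrPC Groth.Agent.H4.LDer Groth.Agent.H4.PCDesc Groth.Agent.H4.BC
  Groth.Agent.H4.TV CategoryTheory.Pretriangulated Groth.Agent.H4.TensPC Groth.Agent.H4.ProjF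
  Groth.Agent.H4.TensPC2 Groth.Agent.H4.LocRelPC Groth.Agent.H4.FibPerf

attribute [local instance] Groth.Agent.H4.FibPerf.instHasLBC

variable {R A B : Type u} [CommRing R] [CommRing A] [CommRing B] [Algebra R A] [Algebra A B]
  [Algebra R B] [IsScalarTower R A B]

attribute [local instance] MvPolynomial.algebraMvPolynomial in
theorem core {n k : ℕ} (α : MvPolynomial (Fin n) R →ₐ[R] A) (hα : Function.Surjective α)
    (γ : MvPolynomial (Fin k) A →ₐ[A] B) (hγ : Function.Surjective γ)
    (hB : PCMod (NB (γ : MvPolynomial (Fin k) A →+* B)))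
    [DRing.HasLBaseChange (algebraMap A B)] (K : Dual.D A) (m : ℤ)
    (h : IsPseudoCoherent (MvPolynomial (Fin n) R) m
      ((restrictD (α : MvPolynomial (Fin n) R →+* A)).obj K)) :
    DerCA.IsRelPseudoCoherent R B m ((DRing.LBaseChange (algebraMap A B)).obj K) := by
  letI : Algebra (MvPolynomial (Fin n) R) A := (α : MvPolynomial (Fin n) R →+* A).toAlgebra
  let ψ : MvPolynomial (Fin k) (MvPolynomial (Fin n) R) →ₐ[R] B :=
    (γ.restrictScalars R).comp (MvPolynomial.mapAlgHom α)
  have hψ : Function.Surjective ψ :=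
    hγ.comp (MvPolynomial.map_surjective (α : MvPolynomial (Fin n) R →+* A) hα)
  let e : MvPolynomial (Fin (k + n)) R ≃ₐ[R] MvPolynomial (Fin k) (MvPolynomial (Fin n) R) :=
    (MvPolynomial.renameEquiv R finSumFinEquiv.symm).trans (MvPolynomial.sumAlgEquiv R (Fin k) (Fin n))
  rw [relPC_iff_of_equiv e ψ hψ]
  let X₀ := Q.objPreimage K
  let e₀ : toD X₀ ≅ K := Q.objObjPreimageIso K
  let CA : A →+* MvPolynomial (Fin k) A := algebraMap A (MvPolynomial (Fin k) A)
  let φ : MvPolynomial (Fin k) (MvPolynomial (Fin n) R) →+* MvPolynomial (Fin k) A :=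
    algebraMap _ _
  have hfl : CA.Flat := (RingHom.flat_algebraMap_iff).2 inferInstance
  have i1 : (DRing.LBaseChange CA).obj K ≅ toD ((GC (ModuleCat.extendScalars.{u, u, u} CA)).obj X₀) :=
    (DRing.LBaseChange CA).mapIso e₀.symm ≪≫ isoOfFlatMap CA hfl X₀
  have i2 := bcIsoCx (MvPolynomial (Fin n) R) (MvPolynomial (Fin k) (MvPolynomial (Fin n) R)) A
    (MvPolynomial (Fin k) A) X₀
  have h1 : IsPseudoCoherent (MvPolynomial (Fin k) (MvPolynomial (Fin n) R)) m
      ((restrictD φ).obj ((DRing.LBaseChange CA).obj K)) := by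
    refine isPC_of_iso ((restrictD φ).mapIso i1.symm) (isPC_of_iso i2.symm ?_)
    exact isPC_LBaseChange _ m _ (isPC_of_iso ((restrictD _).mapIso e₀.symm) h)
  have h2 := isPC_restrict_LBC (γ : MvPolynomial (Fin k) A →+* B) φ _ m hB h1
  obtain ⟨i3⟩ := nonempty_LBCComp CA (γ : MvPolynomial (Fin k) A →+* B) K
  have hc : (γ : MvPolynomial (Fin k) A →+* B).comp CA = algebraMap A B := γ.comp_algebraMap
  obtain ⟨i4⟩ := nonempty_LBC_congr hc K
  exact isPC_of_iso ((restrictD _).mapIso (i3 ≪≫ i4)) h2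

theorem step [Algebra.FiniteType R A] [Algebra.FiniteType A B]
    (hB : DerCA.IsRelPseudoCoherentModuleAll A B B)
    [DRing.HasLBaseChange (algebraMap A B)] (K : Dual.D A) (m : ℤ)
    (h : DerCA.IsRelPseudoCoherent R A m K) :
    DerCA.IsRelPseudoCoherent R B m ((DRing.LBaseChange (algebraMap A B)).obj K) := by
  obtain ⟨n, α, hα⟩ := exists_pres (R := R) (A := A)
  obtain ⟨k, γ, hγ⟩ := exists_pres (R := A) (A := B)
  have hB' : PCMod (NB (γ : MvPolynomial (Fin k) A →+* B)) := fun j =>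
    isPC_of_iso (restrictDSingle _ (ModuleCat.of B B)) ((relPCAll_iff γ hγ _).1 hB j)
  exact core α hα γ hγ hB' K m ((relPC_iff α hα K m).1 h)

end Groth.Agent.H4.RelPCBC
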