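import Mathlib
import Groth.Prelude.Def_DerSch2
import Groth.Agent.H4.RPC20
import Groth.Agent.H4.RelPCBC

set_option autoImplicit false
universe u
attribute [local instance] HasDerivedCategory.standard
open CategoryTheory CategoryTheory.Limits AlgebraicGeometry DerivedCategory Opposite TopologicalSpace
open Groth.Agent.LD.QC
open Groth.Agent.H4.PSch2 Groth.Agent.H4.RPC2 Groth.Agent.H4.FAmp5 Groth.Agent.H4.TilD9 Groth.Agent.H4.TilD10 Groth.Agent.H4.TilD11
open Groth.Agent.H4.RPC2b Groth.Agent.H4.RPC3 Groth.Agent.H4.RPC7 Groth.Agent.H4.RPC8 Groth.Agent.H4.PCS7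
open Groth.Agent.H4.RPC9 Groth.Agent.H4.RPC10 Groth.Agent.H4.RPC11 Groth.Agent.H4.RPC12
open Groth.Agent.H4.RPC13 Groth.Agent.H4.RPC14 Groth.Agent.H4.RPC15 Groth.Agent.H4.PCS4 Groth.Agent.H4.PCS8 Pretriangulated
open Groth.Agent.H4.NT7 Groth.Agent.H4.RPC6 Groth.Agent.H4.RPC19 Groth.Agent.H4.RPC20

namespace Groth.Agent.H4.RPC21

section IsoUnit

variable {Z Z' : Scheme.{u}} (e : Z ⟶ Z') [IsIso e]

/-- pushforward along an isomorphism is an equivalence -/
noncomputable def pushEquiv : Z.Modules ≌ Z'.Modules :=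
  CategoryTheory.Equivalence.mk (Scheme.Modules.pushforward e) (Scheme.Modules.pushforward (inv e))
    ((Scheme.Modules.pushforwardId Z).symm ≪≫
      (Scheme.Modules.pushforwardCongr (IsIso.hom_inv_id e)).symm ≪≫
      (Scheme.Modules.pushforwardComp e (inv e)).symm)
    ((Scheme.Modules.pushforwardComp (inv e) e) ≪≫
      Scheme.Modules.pushforwardCongr (IsIso.inv_hom_id e) ≪≫ Scheme.Modules.pushforwardId Z')

lemma isEquivalence_push : (Scheme.Modules.pushforward e).IsEquivalence :=
  (pushEquiv e).isEquivalence_functor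

/-- the direct image of the structure sheaf along an isomorphism -/
noncomputable def pushUnitOfIso :
    (Scheme.Modules.pushforward e).obj (Coh.structureModule Z) ≅ Coh.structureModule Z' := by
  haveI := isEquivalence_push e
  haveI : (Scheme.Modules.restrictFunctor e).IsEquivalence :=
    (Scheme.Modules.restrictAdjunction e).isEquivalence_left_of_isEquivalence_right
  haveI : IsIso (Scheme.Modules.restrictAdjunction e).unit := inferInstance
  exact (Scheme.Modules.pushforward e).mapIso (Scheme.Modules.restrictUnitIso e).symm ≪≫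
    (asIso ((Scheme.Modules.restrictAdjunction e).unit.app (Coh.structureModule Z'))).symm

end IsoUnit

section Unit

variable {Y : Scheme.{u}} (V : Y.Opens) {B : Type u} [CommRing B] (ψ : B →+* Γ(Y, V))

/-- the direct image of the structure sheaf along a generalised chart -/
noncomputable def gImmUnit (hV : IsAffineOpen V) :
    (Scheme.Modules.pushforward (gImm V ψ)).obj (Coh.structureModule (V : Scheme.{u})) ≅
      (tilde.functor (CommRingCat.of B)).obj (resMod ψ) :=
  haveI : IsIso V.toSpecΓ := by rw [← hV.isoSpec_hom]; infer_instance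
  ((Scheme.Modules.pushforwardComp V.toSpecΓ (Spec.map (CommRingCat.ofHom ψ))).app _).symm ≪≫
    (Scheme.Modules.pushforward (Spec.map (CommRingCat.ofHom ψ))).mapIso (pushUnitOfIso V.toSpecΓ) ≪≫
    pushUnitIso (CommRingCat.ofHom ψ)

/-- pseudo-coherence of the chart image of the structure sheaf, ring-theoretically -/
theorem unit_pc_iff (hV : IsAffineOpen V) (n : ℤ) :
    DCoh.IsPseudoCoherentD n (DCoh.inD (Spec (CommRingCat.of B))
        ((Scheme.Modules.pushforward (gImm V ψ)).obj (Coh.structureModule (V : Scheme.{u})))) ↔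
      DRing.IsPseudoCoherent B n ((singleFunctor (ModuleCat.{u} B) 0).obj (resMod ψ)) := by
  haveI := Groth.Agent.H5.AG.tilde_preservesFiniteLimits (CommRingCat.of B)
  rw [← S1004 B _ n]
  have e1 : (DCoh.tildeD (CommRingCat.of B)).obj
      ((singleFunctor (ModuleCat.{u} B) 0).obj (resMod ψ)) ≅
      DCoh.inD _ ((tilde.functor (CommRingCat.of B)).obj (resMod ψ)) :=
    ((tilde.functor (CommRingCat.of B)).mapDerivedCategorySingleFunctor 0).app (resMod ψ)
  have e2 := (singleFunctor _ 0).mapIso (gImmUnit V ψ hV)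
  exact ⟨fun h => isPseudoCoherentD_of_iso (e2 ≪≫ e1.symm) h,
    fun h => isPseudoCoherentD_of_iso (e1 ≪≫ e2.symm) h⟩

end Unit

section SpecLevel

variable {A B : Type u} [CommRing A] [CommRing B] (θ : A →+* B)

/-- finite-level pseudo-coherence of `(Spec θ)_* O`, ring-theoretically -/
theorem hOn_Spec_iff [IsClosedImmersion (Spec.map (CommRingCat.ofHom θ))] (n : ℤ) :
    HOn (Spec.map (CommRingCat.ofHom θ)) n ↔
      DRing.IsPseudoCoherent A n ((singleFunctor (ModuleCat.{u} A) 0).obj (resMod θ)) := by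
  haveI := Groth.Agent.H5.AG.tilde_preservesFiniteLimits (CommRingCat.of A)
  rw [← S1004 A _ n]
  have e1 : (DCoh.tildeD (CommRingCat.of A)).obj
      ((singleFunctor (ModuleCat.{u} A) 0).obj (resMod θ)) ≅
      DCoh.inD _ ((tilde.functor (CommRingCat.of A)).obj (resMod θ)) :=
    ((tilde.functor (CommRingCat.of A)).mapDerivedCategorySingleFunctor 0).app (resMod θ)
  have e2 := (singleFunctor _ 0).mapIso (pushUnitIso (CommRingCat.ofHom θ))
  constructor
  · intro h
    exact isPseudoCoherentD_of_iso (e2 ≪≫ e1.symm) ((isPseudoCoherentD_iff_pcAt n _).2 h)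
  · intro h
    exact (isPseudoCoherentD_iff_pcAt n _).1 (isPseudoCoherentD_of_iso (e1 ≪≫ e2.symm) h)

end SpecLevel

section PolyBC

open Groth.Agent.H4.PC Groth.Agent.H4.PCDesc Groth.Agent.H4.BC TensorProduct

attribute [local instance] Groth.Agent.H4.FibPerf.instHasLBC
attribute [local instance] MvPolynomial.algebraMvPolynomial

/-- polynomial base change of the pseudo-coherence of a ring map -/
theorem isPC_resMod_map {P A : Type u} [CommRing P] [CommRing A] (ψ : P →+* A) (n : ℕ) (m : ℤ)
    (h : DRing.IsPseudoCoherent P m ((singleFunctor (ModuleCat.{u} P) 0).obj (resMod ψ))) :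
    DRing.IsPseudoCoherent (MvPolynomial (Fin n) P) m
      ((singleFunctor (ModuleCat.{u} (MvPolynomial (Fin n) P)) 0).obj
        (resMod (MvPolynomial.map (σ := Fin n) ψ))) := by
  letI : Algebra P A := ψ.toAlgebra
  have h1 := isPC_LBaseChange (algebraMap P (MvPolynomial (Fin n) P)) m _ h
  obtain ⟨e⟩ := nonempty_iso_inD (A := P) (B := MvPolynomial (Fin n) P) A
  have e2 : ModuleCat.of (MvPolynomial (Fin n) P) (MvPolynomial (Fin n) P ⊗[P] A) ≅
      resMod (MvPolynomial.map (σ := Fin n) ψ) :=
    LinearEquiv.toModuleIso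
      { (Algebra.IsPushout.equiv P (MvPolynomial (Fin n) P) A (MvPolynomial (Fin n) A)).toLinearEquiv with
        map_smul' := fun p x => by
          simp only [AlgEquiv.toLinearEquiv_toLinearMap, AddHom.toFun_eq_coe, LinearMap.coe_toAddHom,
            AlgEquiv.toLinearMap_apply, RingHom.id_apply]
          rw [map_smul]
          rfl }
  exact isPC_of_iso (e ≪≫ (singleFunctor _ 0).mapIso e2) h1

end PolyBC

end Groth.Agent.H4.RPC21
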