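import Mathlib
import Groth.Prelude.Def_DerSch2
import Groth.Agent.H4.RPC21

set_option autoImplicit false
universe u
attribute [local instance] HasDerivedCategory.standard
open CategoryTheory CategoryTheory.Limits AlgebraicGeometry DerivedCategory Opposite TopologicalSpace
open Groth.Agent.LD.QC
open Groth.Agent.H4.PSch2 Groth.Agent.H4.RPC2 Groth.Agent.H4.FAmp5 Groth.Agent.H4.TilD9 Groth.Agent.H4.TilD10 Groth.Agent.H4.TilD11
open Groth.Agent.H4.RPC2b Groth.Agent.H4.RPC3 Groth.Agent.H4.RPC7 Groth.Agent.H4.RPC8 Groth.Agent.H4.PCS7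
open Groth.Agent.H4.RPC9 Groth.Agent.H4.RPC10 Groth.Agent.H4.RPC11 Groth.Agent.H4.RPC12
open Groth.Agent.H4.RPC13 Groth.Agent.H4.RPC14 Groth.Agent.H4.RPC15 Groth.Agent.H4.PCS4 Groth.Agent.H4.PCS8 Pretriangulated
open Groth.Agent.H4.NT7 Groth.Agent.H4.RPC6 Groth.Agent.H4.RPC19 Groth.Agent.H4.RPC20 Groth.Agent.H4.RPC21

namespace Groth.Agent.H4.RPC22

/-- iterated polynomial rings -/
noncomputable def polyEquiv (R : Type u) [CommRing R] (n k : ℕ) :
    MvPolynomial (Fin (n + k)) R ≃ₐ[R] MvPolynomial (Fin n) (MvPolynomial (Fin k) R) :=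
  (MvPolynomial.renameEquiv R finSumFinEquiv.symm).trans (MvPolynomial.sumAlgEquiv R (Fin n) (Fin k))

lemma polyEquiv_C (R : Type u) [CommRing R] (n k : ℕ) (r : R) :
    polyEquiv R n k (MvPolynomial.C r) = MvPolynomial.C (MvPolynomial.C r) := by
  have := (polyEquiv R n k).commutes r
  simpa [MvPolynomial.algebraMap_eq] using this

section Comp

variable {X Y Z : Scheme.{u}} (f : X ⟶ Y) (g : Y ⟶ Z)
variable {U : X.Opens} {V : Y.Opens} {W : Z.Opens}
variable {n k : ℕ} (φ : MvPolynomial (Fin n) Γ(Y, V) →+* Γ(X, U))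
  (ψ : MvPolynomial (Fin k) Γ(Z, W) →+* Γ(Y, V))

/-- the composite chart -/
noncomputable def compChart : MvPolynomial (Fin (n + k)) Γ(Z, W) →+* Γ(X, U) :=
  (φ.comp (MvPolynomial.map ψ)).comp (polyEquiv Γ(Z, W) n k : _ →+* _)

lemma compChart_surjective (hφ : Function.Surjective φ) (hψ : Function.Surjective ψ) :
    Function.Surjective (compChart φ ψ) :=
  (hφ.comp (MvPolynomial.map_surjective ψ hψ)).comp (polyEquiv Γ(Z, W) n k).surjective

lemma isChart_compChart (hUV : U ≤ f ⁻¹ᵁ V) (hVW : V ≤ g ⁻¹ᵁ W)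
    (hφ : DerSch.IsChart f U V hUV φ) (hψ : DerSch.IsChart g V W hVW ψ) :
    DerSch.IsChart (f ≫ g) U W (hUV.trans (f.preimage_mono hVW)) (compChart φ ψ) := by
  refine ⟨compChart_surjective φ ψ hφ.1 hψ.1, ?_⟩
  ext r
  have h1 : ψ (MvPolynomial.C r) = (g.appLE W V hVW).hom r := congr($(hψ.2) r)
  have h2 : ∀ a, φ (MvPolynomial.C a) = (f.appLE V U hUV).hom a := fun a => congr($(hφ.2) a)
  have h3 := Scheme.Hom.appLE_comp_appLE f g W V U hVW hUV
  simp only [compChart, RingHom.comp_apply, RingHom.coe_coe, polyEquiv_C, MvPolynomial.map_C, h1, h2]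
  exact congr($h3 r)

/-- the chart test on the composite chart, as a two-step direct image -/
theorem compChart_pc_iff (hU : IsAffineOpen U) (hφ : Function.Surjective φ)
    (hψ : Function.Surjective ψ) [IsClosedImmersion (gImm U φ)]
    [IsClosedImmersion (Spec.map (CommRingCat.ofHom (MvPolynomial.map (σ := Fin n) ψ)))]
    (m : ℤ) (E : DCoh.D X) :
    DerSch.ChartPC m E U W (compChart φ ψ) ↔
      DCoh.IsPseudoCoherentD m
        ((Ri (Spec.map (CommRingCat.ofHom (MvPolynomial.map (σ := Fin n) ψ)))).obj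
          ((chartF U φ).obj E)) := by
  have hΦ : Function.Surjective (φ.comp (MvPolynomial.map (σ := Fin n) ψ)) :=
    hφ.comp (MvPolynomial.map_surjective ψ hψ)
  have h1 : GPC U (compChart φ ψ) m E ↔ GPC U (φ.comp (MvPolynomial.map (σ := Fin n) ψ)) m E :=
    gpc_comp_iff U _ hU hΦ _ (RHO.of_bijective _ (polyEquiv Γ(Z, W) n k).bijective) m E
  haveI : IsClosedImmersion (gImm U (φ.comp (MvPolynomial.map (σ := Fin n) ψ))) := by
    rw [gImm_comp]; infer_instance
  rw [chartPC_iff_gpc, h1, gpc_iff,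
    isPseudoCoherentD_Ri_congr (gImm_comp U φ (MvPolynomial.map (σ := Fin n) ψ))]
  have e := (RiComp (gImm U φ) (Spec.map (CommRingCat.ofHom (MvPolynomial.map (σ := Fin n) ψ)))).app
    ((RD U.ι).obj E)
  exact ⟨fun h => isPseudoCoherentD_of_iso e h, fun h => isPseudoCoherentD_of_iso e.symm h⟩

end Comp

section HOnChart

variable {Y Z : Scheme.{u}} (g : Y ⟶ Z) {V : Y.Opens} {W : Z.Opens} {k : ℕ}
  (ψ : MvPolynomial (Fin k) Γ(Z, W) →+* Γ(Y, V))

/-- the structure sheaf test on a chart of `g`, after adjoining `n` variables -/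
theorem hOn_map_of_chart (hV : IsAffineOpen V) [IsClosedImmersion (gImm V ψ)] (n : ℕ)
    [IsClosedImmersion (Spec.map (CommRingCat.ofHom (MvPolynomial.map (σ := Fin n) ψ)))] (j : ℤ)
    (h : DCoh.IsPseudoCoherentD j ((chartF V ψ).obj (DCoh.toD Y (DerSch.unitCx Y)))) :
    HOn (Spec.map (CommRingCat.ofHom (MvPolynomial.map (σ := Fin n) ψ))) j := by
  have h1 := isPseudoCoherentD_of_iso (chartFUnit V ψ) h
  rw [unit_pc_iff V ψ hV] at h1
  rw [hOn_Spec_iff]
  exact isPC_resMod_map ψ n j h1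

/-- the structure sheaf test on a chart of an `j`-pseudo-coherent morphism -/
theorem hOn_map_of_isNPseudoCoherent [LocallyOfFiniteType g] (hV : IsAffineOpen V)
    (hW : IsAffineOpen W) (hVW : V ≤ g ⁻¹ᵁ W) (hψ : DerSch.IsChart g V W hVW ψ) (n : ℕ) (j : ℤ)
    (hg : DerSch.IsNPseudoCoherent g j) :
    haveI := isClosedImmersion_Spec _ (MvPolynomial.map_surjective (σ := Fin n) ψ hψ.1)
    HOn (Spec.map (CommRingCat.ofHom (MvPolynomial.map (σ := Fin n) ψ))) j := by
  haveI := isClosedImmersion_gImm V ψ hV hψ.1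
  haveI := isClosedImmersion_Spec _ (MvPolynomial.map_surjective (σ := Fin n) ψ hψ.1)
  exact hOn_map_of_chart ψ hV n j
    ((rel_iff_forall_chart g j _).1 hg ⟨V, hV⟩ ⟨W, hW⟩ hVW k ψ hψ inferInstance)

end HOnChart

section Local

variable {X S : Scheme.{u}} {f : X ⟶ S} {m : ℤ} {E : DCoh.D X}

/-- transfer of the chart predicate between two affine pairs around a common point -/
lemma pch_transfer {U U' : X.affineOpens} {V V' : S.affineOpens}
    (P0 : PCh f m E (U : X.Opens) (V : S.Opens)) (h' : (U' : X.Opens) ≤ f ⁻¹ᵁ (V' : S.Opens))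
    (x : X) (hxU : x ∈ (U : X.Opens)) (hxU' : x ∈ (U' : X.Opens)) :
    ∃ a' : Γ(X, (U' : X.Opens)), x ∈ X.basicOpen a' ∧ PCh f m E (X.basicOpen a') (V' : S.Opens) := by
  have hUV : (U : X.Opens) ≤ f ⁻¹ᵁ (V : S.Opens) := P0.1
  have hfxV : f x ∈ (V : S.Opens) := hUV hxU
  obtain ⟨r, r', e, hr⟩ := exists_basicOpen_le_affine_inter V.2 V'.2 (f x)
    ⟨hfxV, h' hxU'⟩
  set s : Γ(X, (U : X.Opens)) := (f.appLE (V : S.Opens) (U : X.Opens) hUV).hom r with hs
  have hU₁ : X.basicOpen s = (U : X.Opens) ⊓ f ⁻¹ᵁ (S.basicOpen r) :=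
    Scheme.basicOpen_appLE f (U : X.Opens) (V : S.Opens) hUV r
  have P1 : PCh f m E (X.basicOpen s) (V : S.Opens) := P0.basicOpen U.2 s
  have hx₁ : x ∈ X.basicOpen s := by rw [hU₁]; exact ⟨hxU, hr⟩
  obtain ⟨a, a', e', ha⟩ := exists_basicOpen_le_affine_inter (U.2.basicOpen s) U'.2 x
    ⟨hx₁, hxU'⟩
  have hW : IsAffineOpen (X.basicOpen a) := (U.2.basicOpen s).basicOpen a
  have P2 : PCh f m E (X.basicOpen a) (V : S.Opens) := P1.basicOpen (U.2.basicOpen s) a
  have hWr : X.basicOpen a ≤ f ⁻¹ᵁ (S.basicOpen r) :=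
    (X.basicOpen_le a).trans (hU₁.le.trans inf_le_right)
  have P3 : PCh f m E (X.basicOpen a) (S.basicOpen r) := P2.up hW V.2 r hWr
  have P4 : PCh f m E (X.basicOpen a) (S.basicOpen r') := e ▸ P3
  have P5 : PCh f m E (X.basicOpen a) (V' : S.Opens) := P4.down hW V'.2 r'
  have P6 : PCh f m E (X.basicOpen a') (V' : S.Opens) := e' ▸ P5
  exact ⟨a', e' ▸ ha, P6⟩

/-- **local criterion** for relative pseudo-coherence -/
theorem rel_of_local [LocallyOfFiniteType f]
    (H : ∀ x : X, ∃ (U : X.affineOpens) (V : S.affineOpens), x ∈ (U : X.Opens) ∧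
      PCh f m E (U : X.Opens) (V : S.Opens)) : DerSch.IsPseudoCoherentRel f m E := by
  rw [S7208]
  intro U' V' h'
  suffices hP : PCh f m E (U' : X.Opens) (V' : S.Opens) by
    obtain ⟨_, n, φ, hφ, hpc⟩ := hP
    exact ⟨n, φ, hφ, hpc⟩
  refine PCh.glue U'.2 h' (LocallyOfFiniteType.finiteType_appLE f V'.2 U'.2 h') (fun x => ?_)
  obtain ⟨U, V, hxU, P0⟩ := H x.1
  exact pch_transfer P0 h' x.1 hxU x.2

end Local

end Groth.Agent.H4.RPC22
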