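import Mathlib
import Groth.Prelude.Def_DerSch2
import Groth.Agent.H4.RPC22
import Groth.Agent.H4.FlatFPPC3

set_option autoImplicit false
universe u
attribute [local instance] HasDerivedCategory.standard
open CategoryTheory CategoryTheory.Limits AlgebraicGeometry DerivedCategory Opposite TopologicalSpace
open Groth.Agent.LD.QC
open Groth.Agent.H4.PSch2 Groth.Agent.H4.RPC2 Groth.Agent.H4.FAmp5 Groth.Agent.H4.TilD9 Groth.Agent.H4.TilD10 Groth.Agent.H4.TilD11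
open Groth.Agent.H4.RPC2b Groth.Agent.H4.RPC3 Groth.Agent.H4.RPC7 Groth.Agent.H4.RPC8 Groth.Agent.H4.PCS7
open Groth.Agent.H4.RPC9 Groth.Agent.H4.RPC10 Groth.Agent.H4.RPC11 Groth.Agent.H4.RPC12
open Groth.Agent.H4.RPC13 Groth.Agent.H4.RPC14 Groth.Agent.H4.RPC15 Groth.Agent.H4.PCS4 Groth.Agent.H4.PCS8 Pretriangulated
open Groth.Agent.H4.NT7 Groth.Agent.H4.RPC6 Groth.Agent.H4.RPC19 Groth.Agent.H4.RPC20 Groth.Agent.H4.RPC21
open Groth.Agent.H4.RPC22 Groth.Agent.H4.RPC17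

namespace Groth.Agent.H4.RPC23

section UnitRing

open Groth.Agent.H4.RelPC Groth.Agent.H4.PC Groth.Agent.H4.PCHom

variable {Y Z : Scheme.{u}} (g : Y ⟶ Z) {V : Y.Opens} {W : Z.Opens} {k : ℕ}
  (ψ : MvPolynomial (Fin k) Γ(Z, W) →+* Γ(Y, V))

/-- the structure sheaf test on a chart, as ring-level relative pseudo-coherence -/
theorem chart_unit_relpc_iff (hV : IsAffineOpen V) (hVW : V ≤ g ⁻¹ᵁ W)
    (hψ : DerSch.IsChart g V W hVW ψ) [IsClosedImmersion (gImm V ψ)] (j : ℤ) :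
    letI := (g.appLE W V hVW).hom.toAlgebra
    DCoh.IsPseudoCoherentD j ((chartF V ψ).obj (DCoh.toD Y (DerSch.unitCx Y))) ↔
      DerCA.IsRelPseudoCoherent Γ(Z, W) Γ(Y, V) j (Dual.inD Γ(Y, V) Γ(Y, V)) := by
  letI := (g.appLE W V hVW).hom.toAlgebra
  let α : MvPolynomial (Fin k) Γ(Z, W) →ₐ[Γ(Z, W)] Γ(Y, V) :=
    { ψ with commutes' := fun r => congr($(hψ.2) r) }
  have hα : Function.Surjective α := hψ.1
  have h1 := relPC_single_iff α hα (ModuleCat.of Γ(Y, V) Γ(Y, V)) j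
  have h2 := unit_pc_iff V ψ hV j
  constructor
  · intro h
    exact h1.2 (h2.1 (isPseudoCoherentD_of_iso (chartFUnit V ψ) h))
  · intro h
    exact isPseudoCoherentD_of_iso (chartFUnit V ψ).symm (h2.2 (h1.1 h))

/-- a flat morphism locally of finite presentation is pseudo-coherent -/
theorem isNPseudoCoherent_of_flat_lfp (g : Y ⟶ Z) [Flat g] [LocallyOfFinitePresentation g] (j : ℤ) :
    DerSch.IsNPseudoCoherent g j := by
  rw [DerSch.IsNPseudoCoherent, rel_iff_forall_chart]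
  intro V W hVW k ψ hψ hci
  rw [chart_unit_relpc_iff g ψ V.2 hVW hψ j]
  letI := (g.appLE (W : Z.Opens) (V : Y.Opens) hVW).hom.toAlgebra
  haveI : Module.Flat Γ(Z, (W : Z.Opens)) Γ(Y, (V : Y.Opens)) :=
    (RingHom.flat_algebraMap_iff).1 (g.flat_appLE W.2 V.2 hVW)
  haveI : Algebra.FinitePresentation Γ(Z, (W : Z.Opens)) Γ(Y, (V : Y.Opens)) :=
    (RingHom.finitePresentation_algebraMap).1 (g.finitePresentation_appLE W.2 V.2 hVW)
  obtain ⟨n, φ, hφ, hpc⟩ := Groth.Agent.H4.FlatFPPC2.isPCHom_of_flat_fp Γ(Z, (W : Z.Opens)) Γ(Y, (V : Y.Opens))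
  exact ⟨n, φ, hφ, isPC_of_iso (restrictDSingle _ _).symm (isPC_of_isPC' _ hpc j)⟩

end UnitRing

section Composite

variable {X Y Z : Scheme.{u}} (f : X ⟶ Y) (g : Y ⟶ Z)

lemma exists_triple (x : X) : ∃ (U : X.affineOpens) (V : Y.affineOpens) (W : Z.affineOpens),
    x ∈ (U : X.Opens) ∧ (U : X.Opens) ≤ f ⁻¹ᵁ (V : Y.Opens) ∧ (V : Y.Opens) ≤ g ⁻¹ᵁ (W : Z.Opens) := by
  obtain ⟨V, W, hV, hW, hxV, hVW⟩ := exists_affine_nhds_le_preimage g (f x)
  obtain ⟨U, hU, hxU, hUV⟩ := (X.isBasis_affineOpens).exists_subset_of_mem_open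
    (show x ∈ ((f ⁻¹ᵁ V : X.Opens) : Set X) from hxV) (f ⁻¹ᵁ V).2
  obtain ⟨U', hU', rfl⟩ := hU
  exact ⟨⟨U', hU'⟩, ⟨V, hV⟩, ⟨W, hW⟩, hxU, hUV, hVW⟩

/-- the two-step transfer on a triple of affine opens with charts, forward -/
theorem pch_comp_of [LocallyOfFiniteType f] [LocallyOfFiniteType g]
    (U : X.affineOpens) (V : Y.affineOpens) (W : Z.affineOpens)
    (hUV : (U : X.Opens) ≤ f ⁻¹ᵁ (V : Y.Opens)) (hVW : (V : Y.Opens) ≤ g ⁻¹ᵁ (W : Z.Opens))
    (m : ℤ) (E : DCoh.D X)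
    (T : ∀ (n k : ℕ) (φ : MvPolynomial (Fin n) Γ(Y, (V : Y.Opens)) →+* Γ(X, (U : X.Opens)))
      (ψ : MvPolynomial (Fin k) Γ(Z, (W : Z.Opens)) →+* Γ(Y, (V : Y.Opens)))
      (_ : DerSch.IsChart f (U : X.Opens) (V : Y.Opens) hUV φ)
      (_ : DerSch.IsChart g (V : Y.Opens) (W : Z.Opens) hVW ψ)
      (_ : IsClosedImmersion (gImm (U : X.Opens) φ))
      (_ : IsClosedImmersion (Spec.map (CommRingCat.ofHom (MvPolynomial.map (σ := Fin n) ψ)))),
      (DCoh.IsPseudoCoherentD m ((chartF (U : X.Opens) φ).obj E) →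
        DCoh.IsPseudoCoherentD m
          ((Ri (Spec.map (CommRingCat.ofHom (MvPolynomial.map (σ := Fin n) ψ)))).obj
            ((chartF (U : X.Opens) φ).obj E))))
    (P : PCh f m E (U : X.Opens) (V : Y.Opens)) : PCh (f ≫ g) m E (U : X.Opens) (W : Z.Opens) := by
  obtain ⟨n, φ, hφ⟩ := exists_isChart f (U : X.Opens) (V : Y.Opens) hUV
    (LocallyOfFiniteType.finiteType_appLE f V.2 U.2 hUV)
  obtain ⟨k, ψ, hψ⟩ := exists_isChart g (V : Y.Opens) (W : Z.Opens) hVW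
    (LocallyOfFiniteType.finiteType_appLE g W.2 V.2 hVW)
  haveI := isClosedImmersion_gImm (U : X.Opens) φ U.2 hφ.1
  haveI := isClosedImmersion_Spec _ (MvPolynomial.map_surjective (σ := Fin n) ψ hψ.1)
  have hUW : (U : X.Opens) ≤ (f ≫ g) ⁻¹ᵁ (W : Z.Opens) := hUV.trans (f.preimage_mono hVW)
  have hc := isChart_compChart f g φ ψ hUV hVW hφ hψ
  have key := compChart_pc_iff φ ψ (W := (W : Z.Opens)) U.2 hφ.1 hψ.1 m E
  have T' := T n k φ ψ hφ hψ inferInstance inferInstance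
  have h1 : DerSch.ChartPC m E (U : X.Opens) (V : Y.Opens) φ := P.all U.2 hUV φ hφ
  exact ⟨hUW, n + k, compChart φ ψ, hc, key.2 (T' ((gpc_iff (U : X.Opens) φ m E).1 h1))⟩

/-- the two-step transfer on a triple of affine opens with charts, backward -/
theorem pch_of_comp [LocallyOfFiniteType f] [LocallyOfFiniteType g]
    (U : X.affineOpens) (V : Y.affineOpens) (W : Z.affineOpens)
    (hUV : (U : X.Opens) ≤ f ⁻¹ᵁ (V : Y.Opens)) (hVW : (V : Y.Opens) ≤ g ⁻¹ᵁ (W : Z.Opens))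
    (m : ℤ) (E : DCoh.D X)
    (T : ∀ (n k : ℕ) (φ : MvPolynomial (Fin n) Γ(Y, (V : Y.Opens)) →+* Γ(X, (U : X.Opens)))
      (ψ : MvPolynomial (Fin k) Γ(Z, (W : Z.Opens)) →+* Γ(Y, (V : Y.Opens)))
      (_ : DerSch.IsChart f (U : X.Opens) (V : Y.Opens) hUV φ)
      (_ : DerSch.IsChart g (V : Y.Opens) (W : Z.Opens) hVW ψ)
      (_ : IsClosedImmersion (gImm (U : X.Opens) φ))
      (_ : IsClosedImmersion (Spec.map (CommRingCat.ofHom (MvPolynomial.map (σ := Fin n) ψ)))),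
      (DCoh.IsPseudoCoherentD m
          ((Ri (Spec.map (CommRingCat.ofHom (MvPolynomial.map (σ := Fin n) ψ)))).obj
            ((chartF (U : X.Opens) φ).obj E)) →
        DCoh.IsPseudoCoherentD m ((chartF (U : X.Opens) φ).obj E)))
    (P : PCh (f ≫ g) m E (U : X.Opens) (W : Z.Opens)) : PCh f m E (U : X.Opens) (V : Y.Opens) := by
  obtain ⟨n, φ, hφ⟩ := exists_isChart f (U : X.Opens) (V : Y.Opens) hUV
    (LocallyOfFiniteType.finiteType_appLE f V.2 U.2 hUV)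
  obtain ⟨k, ψ, hψ⟩ := exists_isChart g (V : Y.Opens) (W : Z.Opens) hVW
    (LocallyOfFiniteType.finiteType_appLE g W.2 V.2 hVW)
  haveI := isClosedImmersion_gImm (U : X.Opens) φ U.2 hφ.1
  haveI := isClosedImmersion_Spec _ (MvPolynomial.map_surjective (σ := Fin n) ψ hψ.1)
  have hUW : (U : X.Opens) ≤ (f ≫ g) ⁻¹ᵁ (W : Z.Opens) := hUV.trans (f.preimage_mono hVW)
  have hc := isChart_compChart f g φ ψ hUV hVW hφ hψ
  have key := compChart_pc_iff φ ψ (W := (W : Z.Opens)) U.2 hφ.1 hψ.1 m E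
  have T' := T n k φ ψ hφ hψ inferInstance inferInstance
  have h1 : DerSch.ChartPC m E (U : X.Opens) (W : Z.Opens) (compChart φ ψ) :=
    P.all U.2 hUW (compChart φ ψ) hc
  exact ⟨hUV, n, φ, hφ, (gpc_iff (U : X.Opens) φ m E).2 (T' (key.1 h1))⟩

/-- global forward transfer -/
theorem rel_comp_of [LocallyOfFiniteType f] [LocallyOfFiniteType g] (m : ℤ) (E : DCoh.D X)
    (T : ∀ (U : X.affineOpens) (V : Y.affineOpens) (W : Z.affineOpens)
      (hUV : (U : X.Opens) ≤ f ⁻¹ᵁ (V : Y.Opens)) (hVW : (V : Y.Opens) ≤ g ⁻¹ᵁ (W : Z.Opens))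
      (n k : ℕ) (φ : MvPolynomial (Fin n) Γ(Y, (V : Y.Opens)) →+* Γ(X, (U : X.Opens)))
      (ψ : MvPolynomial (Fin k) Γ(Z, (W : Z.Opens)) →+* Γ(Y, (V : Y.Opens)))
      (_ : DerSch.IsChart f (U : X.Opens) (V : Y.Opens) hUV φ)
      (_ : DerSch.IsChart g (V : Y.Opens) (W : Z.Opens) hVW ψ)
      (_ : IsClosedImmersion (gImm (U : X.Opens) φ))
      (_ : IsClosedImmersion (Spec.map (CommRingCat.ofHom (MvPolynomial.map (σ := Fin n) ψ)))),
      (DCoh.IsPseudoCoherentD m ((chartF (U : X.Opens) φ).obj E) →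
        DCoh.IsPseudoCoherentD m
          ((Ri (Spec.map (CommRingCat.ofHom (MvPolynomial.map (σ := Fin n) ψ)))).obj
            ((chartF (U : X.Opens) φ).obj E))))
    (h : DerSch.IsPseudoCoherentRel f m E) : DerSch.IsPseudoCoherentRel (f ≫ g) m E := by
  refine rel_of_local (fun x => ?_)
  obtain ⟨U, V, W, hxU, hUV, hVW⟩ := exists_triple f g x
  exact ⟨U, W, hxU, pch_comp_of f g U V W hUV hVW m E (T U V W hUV hVW)
    ((rel_iff_pch f m E).1 h U V hUV)⟩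

/-- global backward transfer -/
theorem rel_of_comp [LocallyOfFiniteType f] [LocallyOfFiniteType g] (m : ℤ) (E : DCoh.D X)
    (T : ∀ (U : X.affineOpens) (V : Y.affineOpens) (W : Z.affineOpens)
      (hUV : (U : X.Opens) ≤ f ⁻¹ᵁ (V : Y.Opens)) (hVW : (V : Y.Opens) ≤ g ⁻¹ᵁ (W : Z.Opens))
      (n k : ℕ) (φ : MvPolynomial (Fin n) Γ(Y, (V : Y.Opens)) →+* Γ(X, (U : X.Opens)))
      (ψ : MvPolynomial (Fin k) Γ(Z, (W : Z.Opens)) →+* Γ(Y, (V : Y.Opens)))
      (_ : DerSch.IsChart f (U : X.Opens) (V : Y.Opens) hUV φ)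
      (_ : DerSch.IsChart g (V : Y.Opens) (W : Z.Opens) hVW ψ)
      (_ : IsClosedImmersion (gImm (U : X.Opens) φ))
      (_ : IsClosedImmersion (Spec.map (CommRingCat.ofHom (MvPolynomial.map (σ := Fin n) ψ)))),
      (DCoh.IsPseudoCoherentD m
          ((Ri (Spec.map (CommRingCat.ofHom (MvPolynomial.map (σ := Fin n) ψ)))).obj
            ((chartF (U : X.Opens) φ).obj E)) →
        DCoh.IsPseudoCoherentD m ((chartF (U : X.Opens) φ).obj E)))
    (h : DerSch.IsPseudoCoherentRel (f ≫ g) m E) : DerSch.IsPseudoCoherentRel f m E := by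
  refine rel_of_local (fun x => ?_)
  obtain ⟨U, V, W, hxU, hUV, hVW⟩ := exists_triple f g x
  exact ⟨U, V, hxU, pch_of_comp f g U V W hUV hVW m E (T U V W hUV hVW)
    ((rel_iff_pch (f ≫ g) m E).1 h U W (hUV.trans (f.preimage_mono hVW)))⟩

lemma hO_of_hOn {Z' P' : Scheme.{u}} (i : Z' ⟶ P') [IsClosedImmersion i] (h : ∀ j, HOn i j) (j : ℤ) :
    DCoh.IsPseudoCoherentD j
      (DCoh.inD P' ((Scheme.Modules.pushforward i).obj (Coh.structureModule Z'))) :=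
  (isPseudoCoherentD_iff_pcAt j _).2 (h j)

/-- **S12088** -/
theorem S12088 [LocallyOfFiniteType f] [LocallyOfFiniteType g]
    (hg : ∀ n : ℤ, DerSch.IsNPseudoCoherent g n) (m : ℤ) (E : DCoh.D X) :
    DerSch.IsPseudoCoherentRel f m E ↔ DerSch.IsPseudoCoherentRel (f ≫ g) m E := by
  constructor
  · refine rel_comp_of f g m E (fun U V W hUV hVW n k φ ψ hφ hψ _ _ h => ?_)
    exact (isPseudoCoherentD_Ri_iff _ (hO_of_hOn _ (fun j =>
      hOn_map_of_isNPseudoCoherent g ψ V.2 W.2 hVW hψ n j (hg j))) _ m).1 h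
  · refine rel_of_comp f g m E (fun U V W hUV hVW n k φ ψ hφ hψ _ _ h => ?_)
    exact (isPseudoCoherentD_Ri_iff _ (hO_of_hOn _ (fun j =>
      hOn_map_of_isNPseudoCoherent g ψ V.2 W.2 hVW hψ n j (hg j))) _ m).2 h

/-- **S7226** -/
theorem S7226 [LocallyOfFiniteType f] [Flat g] [LocallyOfFinitePresentation g]
    (m : ℤ) (E : DCoh.D X) :
    DerSch.IsPseudoCoherentRel (f ≫ g) m E ↔ DerSch.IsPseudoCoherentRel f m E :=
  (S12088 f g (isNPseudoCoherent_of_flat_lfp g) m E).symm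

/-- **S6205** -/
theorem S6205 [LocallyOfFiniteType f] [LocallyOfFiniteType g] (a b : ℤ) (E : DCoh.D X) [E.IsLE b]
    (hE : DerSch.IsPseudoCoherentRel (f ≫ g) a E) (hg : DerSch.IsNPseudoCoherent g (a + 1 - b)) :
    DerSch.IsPseudoCoherentRel f a E := by
  refine rel_of_comp f g a E (fun U V W hUV hVW n k φ ψ hφ hψ _ _ h => ?_) hE
  haveI : ((RD (U : X.Opens).ι).obj E).IsLE b := isLE_RD _ E b
  haveI : ((chartF (U : X.Opens) φ).obj E).IsLE b := isLE_Ri _ _ b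
  exact isPseudoCoherentD_of_Ri_of_le _ _ b a
    (hOn_map_of_isNPseudoCoherent g ψ V.2 W.2 hVW hψ n _ hg) h

lemma isPseudoCoherentD_mono {P : Scheme.{u}} {m m' : ℤ} (hm : m ≤ m') {K : DCoh.D P}
    (h : DCoh.IsPseudoCoherentD m K) : DCoh.IsPseudoCoherentD m' K := by
  rw [isPseudoCoherentD_iff_pcAt] at h ⊢
  exact fun x => PCAt.mono hm (h x)

lemma rel_mono [LocallyOfFiniteType f] {m m' : ℤ} (hm : m ≤ m') {E : DCoh.D X}
    (h : DerSch.IsPseudoCoherentRel f m E) : DerSch.IsPseudoCoherentRel f m' E := by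
  rw [rel_iff_forall_chart] at h ⊢
  exact fun U V hUV n φ hφ hci => isPseudoCoherentD_mono hm (h U V hUV n φ hφ hci)

instance isLE_unit : (DCoh.toD X (DerSch.unitCx X)).IsLE 0 := by
  have e := (singleFunctorIsoCompQ X.Modules 0).app (Coh.structureModule X)
  exact TStructure.t.isLE_of_iso e 0

/-- **S6209** -/
theorem S6209 [LocallyOfFiniteType f] [LocallyOfFiniteType g] (r s : ℤ)
    (hf : DerSch.IsNPseudoCoherent f r) (hg : DerSch.IsNPseudoCoherent g s) :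
    DerSch.IsNPseudoCoherent (f ≫ g) (max r s) := by
  have hf' : DerSch.IsPseudoCoherentRel f (max r s) (DCoh.toD X (DerSch.unitCx X)) :=
    rel_mono f (le_max_left r s) hf
  refine rel_comp_of f g (max r s) _ (fun U V W hUV hVW n k φ ψ hφ hψ _ _ h => ?_) hf'
  haveI : ((RD (U : X.Opens).ι).obj (DCoh.toD X (DerSch.unitCx X))).IsLE 0 := isLE_RD _ _ 0
  haveI : ((chartF (U : X.Opens) φ).obj (DCoh.toD X (DerSch.unitCx X))).IsLE 0 := isLE_Ri _ _ 0
  refine isPseudoCoherentD_Ri_of_le _ _ 0 (max r s) ?_ h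
  have := hOn_map_of_isNPseudoCoherent g ψ V.2 W.2 hVW hψ n s hg
  exact this.mono (by simp)

end Composite

end Groth.Agent.H4.RPC23
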