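import Mathlib
import Groth.Prelude.Def_DerSch2
import Groth.Agent.H4.RPC23

set_option autoImplicit false
universe u
attribute [local instance] HasDerivedCategory.standard
open CategoryTheory CategoryTheory.Limits AlgebraicGeometry DerivedCategory Opposite TopologicalSpace
open Groth.Agent.LD.QC
open Groth.Agent.H4.PSch2 Groth.Agent.H4.RPC2 Groth.Agent.H4.FAmp5 Groth.Agent.H4.TilD9 Groth.Agent.H4.TilD10 Groth.Agent.H4.TilD11
open Groth.Agent.H4.RPC2b Groth.Agent.H4.RPC3 Groth.Agent.H4.RPC7 Groth.Agent.H4.RPC8 Groth.Agent.H4.PCS7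
open Groth.Agent.H4.RPC9 Groth.Agent.H4.RPC10 Groth.Agent.H4.RPC11 Groth.Agent.H4.RPC12
open Groth.Agent.H4.RPC13 Groth.Agent.H4.RPC14 Groth.Agent.H4.RPC15 Groth.Agent.H4.PCS4 Groth.Agent.H4.PCS8 Pretriangulated
open Groth.Agent.H4.NT7 Groth.Agent.H4.RPC6 Groth.Agent.H4.RPC19 Groth.Agent.H4.RPC20 Groth.Agent.H4.RPC21
open Groth.Agent.H4.RPC22 Groth.Agent.H4.RPC17 Groth.Agent.H4.RPC23

namespace Groth.Agent.H4.RPC24

variable {X P S : Scheme.{u}} (i : X ⟶ P) [IsClosedImmersion i] (g : P ⟶ S)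

section Chart

variable (U' : P.Opens) {B : Type u} [CommRing B] (φ : B →+* Γ(P, U'))

/-- the chart pulled back along a closed immersion -/
noncomputable def ciChart : B →+* Γ(X, i ⁻¹ᵁ U') := (i.app U').hom.comp φ

lemma ciChart_surjective (hU' : IsAffineOpen U') (hφ : Function.Surjective φ) :
    Function.Surjective (ciChart i U' φ) :=
  (i.app_surjective U' hU').comp hφ

lemma gImm_ciChart : gImm (i ⁻¹ᵁ U') (ciChart i U' φ) = (i ∣_ U') ≫ gImm U' φ := by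
  unfold gImm ciChart
  rw [CommRingCat.ofHom_comp, Spec.map_comp, ← Category.assoc, ← Category.assoc]
  congr 1
  exact Scheme.Opens.toSpecΓ_naturality i U'

/-- the chart image of a direct image along a closed immersion -/
theorem chart_ci_iff
    [IsClosedImmersion (gImm U' φ)] [IsClosedImmersion (gImm (i ⁻¹ᵁ U') (ciChart i U' φ))]
    (m : ℤ) (E : DCoh.D X) :
    DCoh.IsPseudoCoherentD m ((chartF U' φ).obj ((Ri i).obj E)) ↔
      DCoh.IsPseudoCoherentD m ((chartF (i ⁻¹ᵁ U') (ciChart i U' φ)).obj E) := by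
  have e1 : (chartF U' φ).obj ((Ri i).obj E) ≅
      (Ri (gImm U' φ)).obj ((Ri (i ∣_ U')).obj ((RD (i ⁻¹ᵁ U').ι).obj E)) :=
    (Ri (gImm U' φ)).mapIso ((RiRes i U').app E)
  have e2 := (RiComp (i ∣_ U') (gImm U' φ)).app ((RD (i ⁻¹ᵁ U').ι).obj E)
  rw [show (chartF (i ⁻¹ᵁ U') (ciChart i U' φ)).obj E =
    (Ri (gImm (i ⁻¹ᵁ U') (ciChart i U' φ))).obj ((RD (i ⁻¹ᵁ U').ι).obj E) from rfl,
    isPseudoCoherentD_Ri_congr (gImm_ciChart i U' φ)]
  exact ⟨fun h => isPseudoCoherentD_of_iso (e1 ≪≫ e2.symm) h,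
    fun h => isPseudoCoherentD_of_iso (e2 ≪≫ e1.symm) h⟩

end Chart

section PChCI

variable {g}

lemma isChart_ciChart (U' : P.affineOpens) (V : S.Opens) (h : (U' : P.Opens) ≤ g ⁻¹ᵁ V) {n : ℕ}
    (φ : MvPolynomial (Fin n) Γ(S, V) →+* Γ(P, (U' : P.Opens)))
    (hφ : DerSch.IsChart g (U' : P.Opens) V h φ) :
    DerSch.IsChart (i ≫ g) (i ⁻¹ᵁ (U' : P.Opens)) V (i.preimage_mono h) (ciChart i (U' : P.Opens) φ) := by
  refine ⟨ciChart_surjective i _ φ U'.2 hφ.1, ?_⟩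
  ext r
  have h1 : φ (MvPolynomial.C r) = (g.appLE V (U' : P.Opens) h).hom r := congr($(hφ.2) r)
  have h3 := Scheme.Hom.appLE_comp_appLE i g V (U' : P.Opens) (i ⁻¹ᵁ (U' : P.Opens)) h le_rfl
  simp only [ciChart, RingHom.comp_apply, h1]
  rw [Scheme.Hom.app_eq_appLE]
  exact congr($h3 r)

/-- transport of the chart predicate along a closed immersion -/
theorem pch_ci_iff [LocallyOfFiniteType g] (U' : P.affineOpens) (V : S.affineOpens)
    (h : (U' : P.Opens) ≤ g ⁻¹ᵁ (V : S.Opens)) (m : ℤ) (E : DCoh.D X) :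
    PCh g m ((Ri i).obj E) (U' : P.Opens) (V : S.Opens) ↔
      PCh (i ≫ g) m E (i ⁻¹ᵁ (U' : P.Opens)) (V : S.Opens) := by
  obtain ⟨n, φ, hφ⟩ := exists_isChart g (U' : P.Opens) (V : S.Opens) h
    (LocallyOfFiniteType.finiteType_appLE g V.2 U'.2 h)
  have hU : IsAffineOpen (i ⁻¹ᵁ (U' : P.Opens)) := U'.2.preimage i
  have hc := isChart_ciChart i U' (V : S.Opens) h φ hφ
  haveI := isClosedImmersion_gImm (U' : P.Opens) φ U'.2 hφ.1
  haveI := isClosedImmersion_gImm (i ⁻¹ᵁ (U' : P.Opens)) (ciChart i (U' : P.Opens) φ) hU hc.1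
  have key := chart_ci_iff i (U' : P.Opens) φ m E
  constructor
  · intro Q
    have h1 : DerSch.ChartPC m ((Ri i).obj E) (U' : P.Opens) (V : S.Opens) φ := Q.all U'.2 h φ hφ
    exact ⟨i.preimage_mono h, n, ciChart i (U' : P.Opens) φ, hc,
      (gpc_iff _ _ m E).2 (key.1 ((gpc_iff _ φ m _).1 h1))⟩
  · intro Q
    have h1 : DerSch.ChartPC m E (i ⁻¹ᵁ (U' : P.Opens)) (V : S.Opens) (ciChart i (U' : P.Opens) φ) :=
      Q.all hU (i.preimage_mono h) _ hc
    exact ⟨h, n, φ, hφ, (gpc_iff _ φ m _).2 (key.2 ((gpc_iff _ _ m E).1 h1))⟩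

variable (g)

/-- relative pseudo-coherence and direct image along a closed immersion -/
theorem rel_ci_iff [LocallyOfFiniteType g] (m : ℤ) (E : DCoh.D X) :
    DerSch.IsPseudoCoherentRel (i ≫ g) m E ↔ DerSch.IsPseudoCoherentRel g m ((Ri i).obj E) := by
  constructor
  · intro H
    rw [rel_iff_pch]
    intro U' V h
    rw [pch_ci_iff i U' V h]
    exact (rel_iff_pch (i ≫ g) m E).1 H ⟨i ⁻¹ᵁ (U' : P.Opens), U'.2.preimage i⟩ V
      (i.preimage_mono h)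
  · intro H
    refine rel_of_local (fun x => ?_)
    obtain ⟨U', V, hU', hV, hxU, hUV⟩ := exists_affine_nhds_le_preimage g (i x)
    exact ⟨⟨i ⁻¹ᵁ U', hU'.preimage i⟩, ⟨V, hV⟩, hxU,
      (pch_ci_iff i ⟨U', hU'⟩ ⟨V, hV⟩ hUV m E).1 ((rel_iff_pch g m _).1 H ⟨U', hU'⟩ ⟨V, hV⟩ hUV)⟩

/-- **S7211** -/
theorem S7211 [Flat g] [LocallyOfFinitePresentation g] (m : ℤ) (F : CochainComplex X.Modules ℤ) :
    (DerSch.IsPseudoCoherentRel (i ≫ g) m (DCoh.toD X F) ↔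
        DCoh.IsPseudoCoherentD m (DCoh.toD P ((DerSch.pushCx i).obj F))) ∧
      (DerSch.IsPseudoCoherentRel g m (DCoh.toD P ((DerSch.pushCx i).obj F)) ↔
        DCoh.IsPseudoCoherentD m (DCoh.toD P ((DerSch.pushCx i).obj F))) := by
  have hg := isNPseudoCoherent_of_flat_lfp g
  have h2 := (S6207 g hg m (DCoh.toD P ((DerSch.pushCx i).obj F))).symm
  refine ⟨?_, h2⟩
  rw [rel_ci_iff i g m, ← h2]
  exact ⟨fun h => rel_of_iso g (RiFac i F) h, fun h => rel_of_iso g (RiFac i F).symm h⟩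

/-- **S6201** -/
theorem S6201 [Smooth g] (n : ℤ) (E : CochainComplex X.Modules ℤ) :
    DerSch.IsPseudoCoherentRel (i ≫ g) n (DCoh.toD X E) ↔
      DCoh.IsPseudoCoherentD n (DCoh.toD P
        (((Scheme.Modules.pushforward i).mapHomologicalComplex (ComplexShape.up ℤ)).obj E)) :=
  (S7211 i g n E).1

end PChCI

end Groth.Agent.H4.RPC24
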