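import Mathlib
import Groth.Prelude.Def_DerSch
import Groth.Agent.H4.SPt4

set_option autoImplicit false
universe u
open CategoryTheory CategoryTheory.Limits AlgebraicGeometry TopologicalSpace Opposite

namespace Groth.Agent.H4.SPush1

open Groth.Agent.H4.SPt4

variable {X Y : Scheme.{u}} (i : X ⟶ Y) (x : X)

/-- comparison map `(i_* M)_{i x} → M_x` on underlying groups -/
noncomputable def pushStalkAb (M : X.Modules) :
    ((Scheme.Modules.pushforward i).obj M).presheaf.stalk (i.base x) ⟶ M.presheaf.stalk x :=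
  TopCat.Presheaf.stalkPushforward Ab i.base M.presheaf x

lemma pushStalkAb_germ (M : X.Modules) (V : Y.Opens) (hx : i.base x ∈ V) (s : Γ(M, i ⁻¹ᵁ V)) :
    pushStalkAb i x M (((Scheme.Modules.pushforward i).obj M).presheaf.germ V (i.base x) hx s) =
      M.presheaf.germ (i ⁻¹ᵁ V) x hx s :=
  TopCat.Presheaf.stalkPushforward_germ_apply Ab i.base M.presheaf V x hx s

lemma pushStalkAb_smul (M : X.Modules) (r : Y.presheaf.stalk (i.base x))
    (m : ((Scheme.Modules.pushforward i).obj M).presheaf.stalk (i.base x)) :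
    pushStalkAb i x M (r • m) = (i.stalkMap x).hom r • pushStalkAb i x M m := by
  obtain ⟨U, hyU, s, rfl⟩ := Y.presheaf.exists_germ_eq (x := i.base x) r
  obtain ⟨V, hyV, t, rfl⟩ :=
    ((Scheme.Modules.pushforward i).obj M).presheaf.exists_germ_eq (x := i.base x) m
  have hyW : i.base x ∈ U ⊓ V := ⟨hyU, hyV⟩
  have hs := Y.presheaf.germ_res_apply (homOfLE inf_le_left : U ⊓ V ⟶ U) (i.base x) hyW s
  have ht := ((Scheme.Modules.pushforward i).obj M).presheaf.germ_res_apply
    (homOfLE inf_le_right : U ⊓ V ⟶ V) (i.base x) hyW t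
  rw [← hs, ← ht]
  generalize Y.presheaf.map (homOfLE inf_le_left : U ⊓ V ⟶ U).op s = s'
  generalize ((Scheme.Modules.pushforward i).obj M).presheaf.map
    (homOfLE inf_le_right : U ⊓ V ⟶ V).op t = t'
  rw [← germ_smul' (i.base x) ((Scheme.Modules.pushforward i).obj M) (U ⊓ V) hyW s' t']
  have h1 : (s' • t' : Γ((Scheme.Modules.pushforward i).obj M, U ⊓ V)) =
      (show Γ((Scheme.Modules.pushforward i).obj M, U ⊓ V) from
        (i.app (U ⊓ V) s') • (show Γ(M, i ⁻¹ᵁ (U ⊓ V)) from t')) := rfl
  rw [h1]
  erw [pushStalkAb_germ, pushStalkAb_germ]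
  rw [germ_smul' x M (i ⁻¹ᵁ (U ⊓ V)) hyW]
  congr 1
  exact (Scheme.Hom.germ_stalkMap_apply i (U ⊓ V) x hyW s').symm

/-- the comparison map `(i_* M)_{i x} → M_x`, linear over the stalk map -/
noncomputable def pushStalkHom (M : X.Modules) :
    (DerSch.stalkFunctor Y (i.base x)).obj ((Scheme.Modules.pushforward i).obj M) ⟶
      (ModuleCat.restrictScalars.{u} (i.stalkMap x).hom).obj ((DerSch.stalkFunctor X x).obj M) :=
  ModuleCat.ofHom
    (X := ↑((DerSch.stalkFunctor Y (i.base x)).obj ((Scheme.Modules.pushforward i).obj M)))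
    (Y := ↑((ModuleCat.restrictScalars.{u} (i.stalkMap x).hom).obj
      ((DerSch.stalkFunctor X x).obj M)))
    { toFun := fun m => pushStalkAb i x M m
      map_add' := fun a b => map_add (pushStalkAb i x M).hom a b
      map_smul' := fun r m => pushStalkAb_smul i x M r m }

lemma pushStalkHom_apply (M : X.Modules)
    (m : ((Scheme.Modules.pushforward i).obj M).presheaf.stalk (i.base x)) :
    (pushStalkHom i x M).hom m = pushStalkAb i x M m := rfl

lemma pushStalkHom_naturality {M N : X.Modules} (φ : M ⟶ N) :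
    (DerSch.stalkFunctor Y (i.base x)).map ((Scheme.Modules.pushforward i).map φ) ≫
        pushStalkHom i x N =
      pushStalkHom i x M ≫ (ModuleCat.restrictScalars.{u} (i.stalkMap x).hom).map
        ((DerSch.stalkFunctor X x).map φ) := by
  ext m
  obtain ⟨V, hyV, t, rfl⟩ :=
    ((Scheme.Modules.pushforward i).obj M).presheaf.exists_germ_eq (x := i.base x) m
  change pushStalkAb i x N ((DerSch.stalkFunctor Y (i.base x)).map
      ((Scheme.Modules.pushforward i).map φ)
      (((Scheme.Modules.pushforward i).obj M).presheaf.germ V (i.base x) hyV t)) =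
    (DerSch.stalkFunctor X x).map φ (pushStalkAb i x M
      (((Scheme.Modules.pushforward i).obj M).presheaf.germ V (i.base x) hyV t))
  rw [DerSch.stalkFunctor_map_germ]
  erw [pushStalkAb_germ, pushStalkAb_germ]
  rw [DerSch.stalkFunctor_map_germ]
  rfl

lemma isIso_pushStalkHom (hi : Topology.IsInducing i.base) (M : X.Modules) :
    IsIso (pushStalkHom i x M) := by
  rw [ConcreteCategory.isIso_iff_bijective]
  haveI : IsIso (pushStalkAb i x M) :=
    TopCat.Presheaf.stalkPushforward.stalkPushforward_iso_of_isInducing (C := Ab) hi M.presheaf x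
  exact (ConcreteCategory.isIso_iff_bijective (pushStalkAb i x M)).1 inferInstance

/-- **stalk of the direct image** along a morphism inducing the topology (e.g. a closed immersion):
`(i_* M)_{i x} ≅ M_x`, as modules over `O_{Y, i x}` -/
noncomputable def stalkPushIso (hi : Topology.IsInducing i.base) :
    Scheme.Modules.pushforward i ⋙ DerSch.stalkFunctor Y (i.base x) ≅
      DerSch.stalkFunctor X x ⋙ ModuleCat.restrictScalars.{u} (i.stalkMap x).hom :=
  NatIso.ofComponents
    (fun M => @asIso _ _ _ _ (pushStalkHom i x M) (isIso_pushStalkHom i x hi M))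
    (fun φ => pushStalkHom_naturality i x φ)

end Groth.Agent.H4.SPush1
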