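import Mathlib
import Groth.Agent.H4.RelTor9
import Groth.Agent.H4.SPush1

set_option autoImplicit false
universe u
open CategoryTheory CategoryTheory.Limits AlgebraicGeometry MonoidalCategory
attribute [local instance] HasDerivedCategory.standard

namespace Groth.Agent.H4.RelTor13

open Groth.Agent.H4.TorAmp DRing
open Groth.Agent.H4.SPt6 Groth.Agent.H4.RelTor2 Groth.Agent.H4.RelTor3 Groth.Agent.H4.RelTor5
  Groth.Agent.H4.RelTor7 Groth.Agent.H4.RelTor9 Groth.Agent.H4.SPush1

variable {X X' Y : Scheme.{u}}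

/-- termwise direct image of complexes -/
noncomputable abbrev pushCx (i : X ⟶ X') : CochainComplex X.Modules ℤ ⥤ CochainComplex X'.Modules ℤ :=
  (Scheme.Modules.pushforward i).mapHomologicalComplex (ComplexShape.up ℤ)

/-- stalk complex of the direct image along a morphism inducing the topology -/
noncomputable def stalkPushCxIso (i : X ⟶ X') (hi : Topology.IsInducing i.base) (x : X)
    (F : CochainComplex X.Modules ℤ) :
    (stalkCx (i.base x)).obj ((pushCx i).obj F) ≅
      (DTen.resCx (i.stalkMap x).hom).obj ((stalkCx x).obj F) :=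
  (NatIso.mapHomologicalComplex (stalkPushIso i x hi) (ComplexShape.up ℤ)).app F

theorem hasTorAmplitude_of_push (i : X ⟶ X') (hi : Topology.IsInducing i.base)
    (f' : X' ⟶ Y) [Flat f'] (F : CochainComplex X.Modules ℤ) (a b : ℤ)
    (hF : DCoh.HasFlatAmplitudeIn a b (DCoh.toD X' ((pushCx i).obj F))) :
    DerSch.HasTorAmplitude (i ≫ f') a b F := by
  obtain ⟨E, hv, hfl, ⟨e⟩⟩ := hF
  intro x
  let ρ : Y.presheaf.stalk (f'.base (i.base x)) →+* X'.presheaf.stalk (i.base x) :=
    (f'.stalkMap (i.base x)).hom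
  let τ : X'.presheaf.stalk (i.base x) →+* X.presheaf.stalk x := (i.stalkMap x).hom
  let χ : Y.presheaf.stalk (f'.base (i.base x)) →+* X.presheaf.stalk x :=
    ((i ≫ f').stalkMap x).hom
  have hχ : χ = τ.comp ρ := by
    simp only [χ, ρ, τ]; rw [Scheme.Hom.stalkMap_comp]; rfl
  let e1 : toD ((stalkCx (i.base x)).obj E) ≅
      toD ((DTen.resCx τ).obj ((stalkCx x).obj F)) :=
    stalkIsoOfIso (i.base x) e ≪≫ DerivedCategory.Q.mapIso (stalkPushCxIso i hi x F)
  let e2 : toD ((DTen.resCx ρ).obj ((stalkCx (i.base x)).obj E)) ≅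
      toD ((DTen.resCx ρ).obj ((DTen.resCx τ).obj ((stalkCx x).obj F))) :=
    ((DTen.resFactors ρ).app _).symm ≪≫ (DRing.restrictD ρ).mapIso e1 ≪≫
      (DTen.resFactors ρ).app _
  let e3 : toD ((DTen.resCx ρ).obj ((DTen.resCx τ).obj ((stalkCx x).obj F))) ≅
      toD ((DerSch.stalkCxOver (i ≫ f') x).obj F) :=
    DerivedCategory.Q.mapIso (resCxCompIso ρ τ χ hχ _ ≪≫ (stalkCxOverIso (i ≫ f') x F).symm)
  have h1 : HasTorAmplitudeIn (Y.presheaf.stalk (f'.base (i.base x))) a b
      (toD ((DTen.resCx ρ).obj ((stalkCx (i.base x)).obj E))) :=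
    ⟨(DTen.resCx ρ).obj ((stalkCx (i.base x)).obj E),
      fun j hj => (ModuleCat.restrictScalars.{u} ρ).map_isZero
        ((DerSch.stalkFunctor X' (i.base x)).map_isZero (hv j hj)),
      fun j => flat_restrictScalars ρ (faithfullyFlat_stalkMap f' (i.base x)).toFlat _
        (hfl j (i.base x)), ⟨Iso.refl _⟩⟩
  exact hasTorAmp_of_iso (e2 ≪≫ e3) h1

theorem S6191 (i : X ⟶ X') [IsClosedImmersion i]
    (f' : X' ⟶ Y) [Smooth f'] (F : CochainComplex X.Modules ℤ) (a b : ℤ)
    (hF : DCoh.HasFlatAmplitudeIn a b (DCoh.toD X' (((Scheme.Modules.pushforward i).mapHomologicalComplex (ComplexShape.up ℤ)).obj F))) :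
    DerSch.HasTorAmplitude (i ≫ f') a b F :=
  hasTorAmplitude_of_push i i.isClosedEmbedding.toIsEmbedding.toIsInducing f' F a b hF

end Groth.Agent.H4.RelTor13
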