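import Mathlib
import Groth.Agent.H4.PAmp1
import Groth.Agent.H4.RelTor13
import Groth.Agent.H4.RPC24

set_option autoImplicit false
universe u
open CategoryTheory CategoryTheory.Limits AlgebraicGeometry
attribute [local instance] HasDerivedCategory.standard

namespace Groth.Agent.H4.PAmp2
open Groth

theorem S6218 {X Y S : Scheme.{u}} (i : X ⟶ Y) [IsClosedImmersion i]
    (g : Y ⟶ S) [Smooth g] (a b : ℤ) (F : CochainComplex X.Modules ℤ)
    (hF : KSix.HasPerfectAmplitudeIn a b (DCoh.toD Y (((Scheme.Modules.pushforward i).mapHomologicalComplex (ComplexShape.up ℤ)).obj F))) :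
    DerSch.HasPerfAmplitudeRel (i ≫ g) a b F := by
  have h1 := (Groth.Agent.H4.PAmp1.hasPerfectAmplitudeIn_iff a b _).1 hF
  refine ⟨fun m => ?_, ?_⟩
  · rw [Groth.Agent.H4.RPC24.S6201 i g m F, Groth.Agent.H4.TilD10.isPseudoCoherentD_iff_pcAt]
    exact fun x => Groth.Agent.H4.PAmp1.pcAt_of_perfAmpAt a b _ x (h1 x) m
  · exact Groth.Agent.H4.RelTor13.S6191 i g F a b
      (Groth.Agent.H4.PAmp1.hasFlatAmplitudeIn_of_perfAmpAt a b _ h1)

end Groth.Agent.H4.PAmp2
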