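import Mathlib
import Groth.Agent.H4.PBLoc3

set_option autoImplicit false
set_option linter.style.haveILetI false
set_option linter.unusedSectionVars false
set_option linter.unusedVariables false

namespace Groth.Agent.H4.PBLoc4

open CategoryTheory CategoryTheory.Limits AlgebraicGeometry TopologicalSpace Opposite
open HomogeneousLocalization
open Groth.Agent.H6.Sym Groth.Agent.H6 Groth.Agent.LD.QC Groth.Agent.H4.PBundle Groth.Agent.H4.PBundle2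
open Groth.Agent.H4.PBundle3 Groth.Agent.H4.PBLoc Groth.Agent.H4.PBLoc2 Groth.Agent.H4.PBLoc3
open Groth.Agent.H4.ConeImm Groth.Agent.H4.ProjSymL Groth.Agent.H4.ProjSymL2 Groth.Agent.H4.ProjSymL6
open Groth.Agent.H8.RelTwist Groth.Agent.H8.RelTilde Groth.Agent.H8.GTW Groth.Agent.H8.ProjTilde
open scoped HomogeneousIdeal

universe u

noncomputable section

section Main

variable {X Y P PL P' : Scheme.{u}} {i : X ⟶ P'} {p' : P' ⟶ Y}
  {L : X.Modules} {𝒮L : RelProj.QCGrAlg X} {jL : L ⟶ 𝒮L.toModule}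
  {pL : PL ⟶ X}
  (chartL : ∀ (U : X.Opens) (hU : IsAffineOpen U),
    (((pL ⁻¹ᵁ U : PL.Opens) : Scheme.{u}) ≅ Proj (𝒮L.deg U hU)))
  {𝒜 : RelProj.QCGrAlg Y}
  (u : RelProj.QGrHom (i ≫ p') 𝒜 𝒮L)
  {p : P ⟶ Y}
  (chart : ∀ (U : Y.Opens) (hU : IsAffineOpen U),
    (((p ⁻¹ᵁ U : P.Opens) : Scheme.{u}) ≅ Proj (𝒜.deg U hU)))
  {𝒮' : RelProj.QCGrAlg Y}
  {chart' : ∀ (U : Y.Opens) (hU : IsAffineOpen U),
    (((p' ⁻¹ᵁ U : P'.Opens) : Scheme.{u}) ≅ Proj (𝒮'.deg U hU))}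
  {O1' : P'.Modules}
  {lam' : ∀ (U : Y.Opens) (hU : IsAffineOpen U),
    O1' ⟶ (Scheme.Modules.pushforward (RelProj.emb p' chart' U hU)).obj
      (GrTwist.twist (𝒮'.deg U hU) 1)}
  {θ : (Scheme.Modules.pullback i).obj O1' ≅ L}

/-- the lifting hypothesis: every degree-one generator of `Sym(E')` has a degree-one preimage in `𝒜`
(through the sections of `L`). -/
def HLift1 {E' : Y.Modules} (j' : E' ⟶ 𝒮'.toModule)
    (lam' : ∀ (U : Y.Opens) (hU : IsAffineOpen U),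
      O1' ⟶ (Scheme.Modules.pushforward (RelProj.emb p' chart' U hU)).obj
        (GrTwist.twist (𝒮'.deg U hU) 1))
    (θ : (Scheme.Modules.pullback i).obj O1' ≅ L) (jL : L ⟶ 𝒮L.toModule)
    (u : RelProj.QGrHom (i ≫ p') 𝒜 𝒮L) : Prop :=
  ∀ (U : Y.Opens) (hU : IsAffineOpen U) (e : Γ(E', U)),
    ∃ se : Γ(O1', p' ⁻¹ᵁ U), Reads lam' U hU (QA.sec j' U e) se ∧
      ∃ a : 𝒜.presheaf.obj (op U), a ∈ 𝒜.deg U hU 1 ∧
        (u.app U).hom a = QA.sec jL (i ⁻¹ᵁ (p' ⁻¹ᵁ U)) (lsec i θ U se)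

theorem exists_KF' {E' : Y.Modules} [E'.IsQuasicoherent] {j' : E' ⟶ 𝒮'.toModule}
    (hj' : RelProj.IsGrSymAlg E' 𝒮' j') (hP' : RelProj.IsRelProj 𝒮' p' chart')
    (hO1' : RelProj.IsRelTwist 𝒮' p' chart' 1 O1' lam')
    (hlift : HLift1 j' lam' θ jL u)
    (U : Y.Opens) (hU : IsAffineOpen U) (n : ℕ) (a : 𝒮'.presheaf.obj (op U))
    (ha : a ∈ 𝒮'.deg U hU n) :
    ∃ s : 𝒜.presheaf.obj (op U), s ∈ 𝒜.deg U hU n ∧
      KF (lam := lam') i θ jL U hU n a ((u.app U).hom s) := by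
  have key := sym_induction hj' U hU
    (fun n a => a ∈ 𝒮'.deg U hU n ∧ ∃ s : 𝒜.presheaf.obj (op U), s ∈ 𝒜.deg U hU n ∧
      KF (lam := lam') i θ jL U hU n a ((u.app U).hom s)) ?_ ?_ ?_ n a ha
  · exact key.2
  · intro c
    exact ⟨𝒮'.str_mem U hU c, _, 𝒜.str_mem U hU c, KF_str u hP' U hU c⟩
  · rintro n a b ⟨ha, sa, hsa, hKa⟩ ⟨hb, sb, hsb, hKb⟩
    refine ⟨add_mem ha hb, sa + sb, add_mem hsa hsb, ?_⟩
    rw [map_add]
    exact KF_add U hU n a b ha hb _ _ hKa hKb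
  · rintro n e a ⟨ha, sa, hsa, hKa⟩
    have he1 : QA.sec j' U e ∈ 𝒮'.deg U hU 1 := hj'.2 U hU e
    obtain ⟨se, hse, ae, hae, hue⟩ := hlift U hU e
    have hdeg : ∀ (x y : 𝒮'.presheaf.obj (op U)), x ∈ 𝒮'.deg U hU 1 → y ∈ 𝒮'.deg U hU n →
        x * y ∈ 𝒮'.deg U hU (n + 1) := by
      intro x y hx hy
      rw [add_comm]; exact SetLike.mul_mem_graded hx hy
    have hdeg' : ∀ (x y : 𝒜.presheaf.obj (op U)), x ∈ 𝒜.deg U hU 1 → y ∈ 𝒜.deg U hU n →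
        x * y ∈ 𝒜.deg U hU (n + 1) := by
      intro x y hx hy
      rw [add_comm]; exact SetLike.mul_mem_graded hx hy
    refine ⟨hdeg _ _ he1 ha, ae * sa, hdeg' _ _ hae hsa, ?_⟩
    rw [map_mul, add_comm, hue]
    exact KF_mul U hU 1 n _ a he1 ha _ _ (KF_one hO1' U hU _ he1 se hse) hKa

theorem cond_iii' {E' : Y.Modules} [E'.IsQuasicoherent] {j' : E' ⟶ 𝒮'.toModule}
    (hj' : RelProj.IsGrSymAlg E' 𝒮' j') (hP' : RelProj.IsRelProj 𝒮' p' chart')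
    (hO1' : RelProj.IsRelTwist 𝒮' p' chart' 1 O1' lam')
    (hlift : HLift1 j' lam' θ jL u)
    (U : Y.Opens) (hU : IsAffineOpen U) (h f : 𝒮'.presheaf.obj (op U)) (hh : h ∈ 𝒮'.deg U hU 1)
    (n : ℕ) (hn : 0 < n) (hf : f ∈ 𝒮'.deg U hU n)
    (hfh : Dp p' chart' U hU f ≤ Dp p' chart' U hU h)
    (sf : 𝒜.presheaf.obj (op U)) (hK : KF (lam := lam') i θ jL U hU n f ((u.app U).hom sf))
    (hsurj : Function.Surjective (i.app (Dp p' chart' U hU f)).hom)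
    (hWU : i ⁻¹ᵁ Dp p' chart' U hU f ≤ (i ≫ p') ⁻¹ᵁ U)
    (t : Γ(X, i ⁻¹ᵁ Dp p' chart' U hU f)) :
    ∃ (m : ℕ) (_ : 0 < m) (s' : 𝒜.presheaf.obj (op U)) (_ : s' ∈ 𝒜.deg U hU (m * n)),
      (𝒮L.str.app (op (i ⁻¹ᵁ Dp p' chart' U hU f))).hom t *
        ((u.appLE U (i ⁻¹ᵁ Dp p' chart' U hU f) hWU).hom sf) ^ m =
      (u.appLE U (i ⁻¹ᵁ Dp p' chart' U hU f) hWU).hom s' := by
  obtain ⟨g, rfl⟩ := hsurj t
  obtain ⟨zz, rfl⟩ := fn_surjective p' chart' U hU f hn hf g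
  obtain ⟨m, b, hb, rfl⟩ := Away.mk_surjective (𝒮'.deg U hU) hf zz
  have hb' : b * f ∈ 𝒮'.deg U hU ((m + 1) * n) := by
    have h1 := SetLike.mul_mem_graded hb hf
    rw [show (m + 1) * n = m • n + n by rw [smul_eq_mul]; ring]
    exact h1
  have hzz : (Away.mk (𝒮'.deg U hU) hf m b hb).val =
      Localization.mk (b * f) (⟨f ^ (m + 1), m + 1, rfl⟩ : Submonoid.powers f) := by
    rw [Away.val_mk, Localization.mk_eq_mk_iff, Localization.r_iff_exists]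
    refine ⟨1, ?_⟩
    simp only [OneMemClass.coe_one, one_mul]
    ring
  obtain ⟨s', hs', hK'⟩ := exists_KF' u hj' hP' hO1' hlift U hU ((m + 1) * n) (b * f) hb'
  refine ⟨m + 1, Nat.succ_pos m, s', hs', ?_⟩
  obtain ⟨sh, hsh⟩ := exists_section_reads hO1' U hU h hh
  have e : i ⁻¹ᵁ Dp p' chart' U hU f ≤ i ⁻¹ᵁ Dp p' chart' U hU h := i.preimage_mono hfh
  have hzf := Away.val_mk (𝒮'.deg U hU) n hh f (by simpa using hf)
  have hzb := Away.val_mk (𝒮'.deg U hU) ((m + 1) * n) hh (b * f) (by simpa using hb')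
  have hKf : (u.appLE U _ hWU).hom sf = _ := hK h hh sh hsh _ hzf _ e
  have hKb : (u.appLE U _ hWU).hom s' = _ := hK' h hh sh hsh _ hzb _ e
  have hchi := chi_mul_pow i U hU h f (b * f) n (m + 1) _ _ _ hzz hzf hzb hfh _ le_rfl
  have ht : (i.app (Dp p' chart' U hU f)).hom
      (fn p' chart' U hU f (Away.mk (𝒮'.deg U hU) hf m b hb)) =
      chi i U hU f _ le_rfl (Away.mk (𝒮'.deg U hU) hf m b hb) := by
    unfold chi
    rw [Scheme.Hom.app_eq_appLE]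
    rfl
  rw [hKf, hKb, ← hchi, ht, map_mul, map_pow]
  ring

theorem exists_datum' {E' : Y.Modules} [E'.IsQuasicoherent] {j' : E' ⟶ 𝒮'.toModule}
    (hL : PicF.IsInvertible L) (hLq : Coh.IsQCoh L)
    (hjL : RelProj.IsGrSymAlg L 𝒮L jL) (hP : RelProj.IsRelProj 𝒜 p chart)
    (hPL : RelProj.IsRelProj 𝒮L pL chartL)
    (r : ((RelProj.domQ u pL chartL : PL.Opens) : Scheme.{u}) ⟶ P)
    (hr : RelProj.IsProjQMapOn u p chart pL chartL (RelProj.domQ u pL chartL) r)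
    (hj' : RelProj.IsGrSymAlg E' 𝒮' j') (hP' : RelProj.IsRelProj 𝒮' p' chart')
    (hO1' : RelProj.IsRelTwist 𝒮' p' chart' 1 O1' lam')
    (hlift : HLift1 j' lam' θ jL u)
    (hi : IsImmersion i) (x : X) :
    ∃ (U : Y.Opens) (hU : IsAffineOpen U) (n : ℕ) (s : 𝒜.presheaf.obj (op U)) (XT : X.Opens)
      (hXT : XT ≤ (i ≫ p') ⁻¹ᵁ U),
      (0 < n ∧ s ∈ 𝒜.deg U hU n) ∧ XT = XFU u U n s ∧ x ∈ XT ∧ IsAffineOpen XT ∧
      ∀ t : X.presheaf.obj (op XT), ∃ (m : ℕ) (_ : 0 < m) (s' : 𝒜.presheaf.obj (op U))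
        (_ : s' ∈ 𝒜.deg U hU (m * n)),
        (𝒮L.str.app (op XT)).hom t * ((u.appLE U XT hXT).hom s) ^ m =
          (u.appLE U XT hXT).hom s' := by
  have hgen : 𝒮'.IsGenDegOne := genDegOne_of_isGrSymAlg hj'
  obtain ⟨Z, g₁, g₂, hg₁, hg₂, hfac⟩ := (IsImmersion.isImmersion_iff_exists (f := i)).mp hi
  haveI := hg₁
  haveI := hg₂
  obtain ⟨U, hU, hxU, -⟩ := Opens.isBasis_iff_nbhd.mp Y.isBasis_affineOpens
    (show p'.base (i.base x) ∈ (⊤ : Y.Opens) from trivial)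
  replace hU : IsAffineOpen U := hU
  obtain ⟨h, hh, hxh⟩ := exists_degOne_mem_Dp (chart := chart') hgen U hU (i.base x) hxU
  obtain ⟨z, hzh, hz⟩ := hxh
  have hzO : z ∈ (RelProj.emb p' chart' U hU ⁻¹ᵁ g₂.opensRange) ⊓
      Proj.basicOpen (𝒮'.deg U hU) h := by
    refine ⟨?_, hzh⟩
    show (RelProj.emb p' chart' U hU).base z ∈ g₂.opensRange
    have h1 : (RelProj.emb p' chart' U hU).base z = i.base x := hz
    rw [h1, ← hfac]
    exact ⟨g₁.base x, rfl⟩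
  obtain ⟨n, hn, f, hf, hzf, hfO⟩ := rl_exists_homog_basicOpen_le (𝒮'.deg U hU) z _ hzO
  have hfh : Dp p' chart' U hU f ≤ Dp p' chart' U hU h := by
    rintro _ ⟨z₁, hz₁, rfl⟩
    exact ⟨z₁, (hfO hz₁).2, rfl⟩
  have hfΩ : Dp p' chart' U hU f ≤ g₂.opensRange := by
    rintro _ ⟨z₁, hz₁, rfl⟩
    exact (hfO hz₁).1
  have hDaff : IsAffineOpen (Dp p' chart' U hU f) := isAffineOpen_Dp p' chart' U hU f hn hf
  obtain ⟨hW, hsurj⟩ := affine_surj_of_factor i g₁ g₂ hfac _ hDaff hfΩ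
  obtain ⟨sf, hsf, hK⟩ := exists_KF' (θ := θ) u hj' hP' hO1' hlift U hU n f hf
  have hWU : i ⁻¹ᵁ Dp p' chart' U hU f ≤ (i ≫ p') ⁻¹ᵁ U :=
    i.preimage_mono (Dp_le p' chart' U hU f)
  refine ⟨U, hU, n, sf, i ⁻¹ᵁ Dp p' chart' U hU f, hWU, ⟨hn, hsf⟩, ?_, ?_, hW, ?_⟩
  · apply le_antisymm
    · exact preimage_le_XFU u hLq hjL hO1' U hU h f hh n hf hfh sf hK hW
    · exact XFU_le_preimage chartL u chart hL hLq hjL hP hPL r hr hO1' hgen U hU f n hn hf sf hK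
  · show i.base x ∈ Dp p' chart' U hU f
    exact ⟨z, hzf, hz⟩
  · intro t
    exact cond_iii' u hj' hP' hO1' hlift U hU h f hh n hn hf hfh sf hK hsurj hWU t

/-- generalization of `PBLoc3.main`: `𝒜` any graded algebra with a graded morphism `u : 𝒜 → q_* 𝒮L`
through which the degree-one generators of `Sym(E')` lift. -/
theorem main' {E' : Y.Modules} [E'.IsQuasicoherent] {j' : E' ⟶ 𝒮'.toModule}
    (hL : PicF.IsInvertible L) (hLq : Coh.IsQCoh L)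
    (hjL : RelProj.IsGrSymAlg L 𝒮L jL) (hP : RelProj.IsRelProj 𝒜 p chart)
    (hPL : RelProj.IsRelProj 𝒮L pL chartL)
    (r : ((RelProj.domQ u pL chartL : PL.Opens) : Scheme.{u}) ⟶ P)
    (hr : RelProj.IsProjQMapOn u p chart pL chartL (RelProj.domQ u pL chartL) r)
    (hj' : RelProj.IsGrSymAlg E' 𝒮' j') (hP' : RelProj.IsRelProj 𝒮' p' chart')
    (hO1' : RelProj.IsRelTwist 𝒮' p' chart' 1 O1' lam')
    (hlift : HLift1 j' lam' θ jL u)
    (hi : IsImmersion i) :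
    RelProj.domQ u pL chartL = ⊤ ∧ IsImmersion r := by
  refine (imm_iff_family (i ≫ p') L hL hLq 𝒜 𝒮L jL hjL u p chart hP pL chartL hPL r hr).mpr ?_
  choose U hU n s XT hXT h1 h2 h3 h4 h5 using
    exists_datum' chartL u chart hL hLq hjL hP hPL r hr hj' hP' hO1' hlift hi
  refine ⟨X, U, hU, n, s, XT, hXT, h1, h2, ?_, h4, h5⟩
  rw [eq_top_iff]
  intro x _
  exact Opens.mem_iSup.mpr ⟨x, h3 x⟩

end Main

end

end Groth.Agent.H4.PBLoc4
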