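import Mathlib
import Groth.Agent.H4.TensVA

set_option autoImplicit false
set_option linter.style.haveILetI false
set_option linter.unusedSectionVars false
set_option linter.unusedVariables false

namespace Groth.Agent.H4.PBTens1

open CategoryTheory CategoryTheory.Limits AlgebraicGeometry TopologicalSpace Opposite
open HomogeneousLocalization
open Groth.Agent.H6.Sym Groth.Agent.H6 Groth.Agent.LD.QC Groth.Agent.H4.PBundle Groth.Agent.H4.PBundle2
open Groth.Agent.H4.PBundle3 Groth.Agent.H4.PBLoc Groth.Agent.H4.PBLoc2 Groth.Agent.H4.PBLoc3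
open Groth.Agent.H4.ConeImm
open Groth.Agent.H4.PBUniq Groth.Agent.H4.PBEx1 Groth.Agent.H4.PBEx2 Groth.Agent.H4.PBEx4
open Groth.Agent.H4.SegreCh Groth.Agent.H4.SegreVA Groth.Agent.H4.ProjPhi
open Groth.Agent.H8.RelTwist
open scoped HomogeneousIdeal

universe u

noncomputable section

section IsoRes

set_option backward.isDefEq.respectTransparency false in
theorem isIso_resLE_of_bijective {X Z : Scheme.{u}} (f : X ⟶ Z) {D : Z.Opens} (hD : IsAffineOpen D)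
    {W : X.Opens} (hW : IsAffineOpen W) (e : W ≤ f ⁻¹ᵁ D)
    (hb : Function.Bijective (f.appLE D W e).hom) : IsIso (f.resLE D W e) := by
  haveI : IsAffine D.toScheme := hD
  haveI : IsAffine W.toScheme := hW
  have : MorphismProperty.isomorphisms Scheme (f.resLE D W e) := by
    refine (HasAffineProperty.iff_of_isAffine (P := MorphismProperty.isomorphisms Scheme)).mpr ?_
    refine ⟨inferInstance, ?_⟩
    change IsIso ((f.resLE D W e).app ⊤)
    rw [Scheme.Hom.resLE_app_top]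
    haveI : IsIso (f.appLE D W e) := (ConcreteCategory.isIso_iff_bijective _).mpr hb
    infer_instance
  exact this

theorem bijective_appLE_of_isIso {X Z : Scheme.{u}} (f : X ⟶ Z) [IsIso f] (D : Z.Opens)
    (W : X.Opens) (hW : W = f ⁻¹ᵁ D) (e : W ≤ f ⁻¹ᵁ D) :
    Function.Bijective (f.appLE D W e).hom := by
  subst hW
  have h : f.appLE D (f ⁻¹ᵁ D) e = f.app D := (Scheme.Hom.app_eq_appLE f).symm
  rw [h]
  exact ConcreteCategory.bijective_of_isIso (f.app D)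

end IsoRes

section AwaySurj

variable {Y : Scheme.{u}} {𝒮 𝒮'' : RelProj.QCGrAlg Y} {E E'' : Y.Modules} [E.IsQuasicoherent]
  [E''.IsQuasicoherent] {j : E ⟶ 𝒮.toModule} {j'' : E'' ⟶ 𝒮''.toModule}

theorem awayMap_surjective (hj : RelProj.IsGrSymAlg E 𝒮 j) (hj'' : RelProj.IsGrSymAlg E'' 𝒮'' j'')
    (U : Y.Opens) (hU : IsAffineOpen U) (Ξ : 𝒮.deg U hU →+*ᵍ 𝒮''.deg U hU)
    (hΞ1 : ∀ r, Ξ ((𝒮.str.app (op U)).hom r) = (𝒮''.str.app (op U)).hom r)
    (hsurj : ∀ t : Γ(E'', U), ∃ e : Γ(E, U), Ξ (QA.sec j U e) = QA.sec j'' U t)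
    (e₀ : Γ(E, U)) : Function.Surjective (Away.map Ξ (QA.sec j U e₀)) := by
  have hh : QA.sec j U e₀ ∈ 𝒮.deg U hU 1 := hj.2 U hU e₀
  have hh'' : Ξ (QA.sec j U e₀) ∈ 𝒮''.deg U hU 1 := GradedFunLike.map_mem Ξ hh
  have key : ∀ (n : ℕ) (a : 𝒮''.presheaf.obj (op U)), a ∈ 𝒮''.deg U hU n →
      ∃ b, b ∈ 𝒮.deg U hU n ∧ Ξ b = a := by
    intro n a ha
    refine sym_induction hj'' U hU (fun n a => ∃ b, b ∈ 𝒮.deg U hU n ∧ Ξ b = a) ?_ ?_ ?_ n a ha
    · intro c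
      exact ⟨(𝒮.str.app (op U)).hom c, 𝒮.str_mem U hU c, hΞ1 c⟩
    · rintro n a b ⟨a', ha', rfl⟩ ⟨b', hb', rfl⟩
      exact ⟨a' + b', add_mem ha' hb', map_add Ξ a' b'⟩
    · rintro n t a ⟨a', ha', rfl⟩
      obtain ⟨e, he⟩ := hsurj t
      refine ⟨QA.sec j U e * a', ?_, ?_⟩
      · rw [add_comm]; exact SetLike.mul_mem_graded (hj.2 U hU e) ha'
      · rw [map_mul, he]
  intro z
  obtain ⟨n, a, ha, rfl⟩ := Away.mk_surjective (𝒮''.deg U hU) hh'' z
  obtain ⟨b, hb, rfl⟩ := key n a (by simpa using ha)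
  exact ⟨Away.mk (𝒮.deg U hU) hh n b (by simpa using hb), Away.map_mk Ξ _ hh n b _⟩

end AwaySurj

section Main

variable {X Y P P'' : Scheme.{u}} {𝒮 𝒮'' : RelProj.QCGrAlg Y} {p : P ⟶ Y} {p'' : P'' ⟶ Y}
  {chart : ∀ (U : Y.Opens) (hU : IsAffineOpen U),
    (((p ⁻¹ᵁ U : P.Opens) : Scheme.{u}) ≅ Proj (𝒮.deg U hU))}
  {chart'' : ∀ (U : Y.Opens) (hU : IsAffineOpen U),
    (((p'' ⁻¹ᵁ U : P''.Opens) : Scheme.{u}) ≅ Proj (𝒮''.deg U hU))}
  {O1 : P.Modules} {O1'' : P''.Modules}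
  {lam : ∀ (U : Y.Opens) (hU : IsAffineOpen U),
    O1 ⟶ (Scheme.Modules.pushforward (RelProj.emb p chart U hU)).obj (GrTwist.twist (𝒮.deg U hU) 1)}
  {lam'' : ∀ (U : Y.Opens) (hU : IsAffineOpen U),
    O1'' ⟶ (Scheme.Modules.pushforward (RelProj.emb p'' chart'' U hU)).obj
      (GrTwist.twist (𝒮''.deg U hU) 1)}
  {E K : Y.Modules} [E.IsQuasicoherent] [K.IsQuasicoherent]
  {j : E ⟶ 𝒮.toModule} {j'' : CohB1.tensorMod E K ⟶ 𝒮''.toModule}
  {L : X.Modules}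

/-- **twisting by an invertible module of the base**: if `i : X ⟶ P(E)` is an isomorphism attached
to `s : q^*E ⟶ L`, then the morphism `X ⟶ P(E ⊗ K)` attached to `s ⊗ 𝟙 : q^*(E ⊗ K) ⟶ L ⊗ q^*K`
is an isomorphism, for `K` invertible. -/
theorem isIso_of_tensor (hj : RelProj.IsGrSymAlg E 𝒮 j) (hP : RelProj.IsRelProj 𝒮 p chart)
    (hO1 : RelProj.IsRelTwist 𝒮 p chart 1 O1 lam)
    (φ : E ⟶ (Scheme.Modules.pushforward p).obj O1)
    (hφ : ∀ (U : Y.Opens) (hU : IsAffineOpen U) (e : Γ(E, U)),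
      Groth.Agent.H4.PBLoc.Reads lam U hU (QA.sec j U e) (φ.app U e))
    (hj'' : RelProj.IsGrSymAlg (CohB1.tensorMod E K) 𝒮'' j'')
    (hP'' : RelProj.IsRelProj 𝒮'' p'' chart'')
    (hO1'' : RelProj.IsRelTwist 𝒮'' p'' chart'' 1 O1'' lam'')
    (φ'' : CohB1.tensorMod E K ⟶ (Scheme.Modules.pushforward p'').obj O1'')
    (hφ'' : ∀ (U : Y.Opens) (hU : IsAffineOpen U) (e : Γ(CohB1.tensorMod E K, U)),
      Groth.Agent.H4.PBLoc.Reads lam'' U hU (QA.sec j'' U e) (φ''.app U e))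
    (q : X ⟶ Y) (hL : PicF.IsInvertible L) (hK : PicF.IsInvertible K)
    (s : (Scheme.Modules.pullback q).obj E ⟶ L) [Epi s]
    (i : X ⟶ P) [IsIso i] (hi : i ≫ p = q) (τ : (Scheme.Modules.pullback i).obj O1 ≅ L)
    (hτ : alpha φ q i hi ≫ τ.hom = s)
    (r'' : X ⟶ P'') (hr'' : r'' ≫ p'' = q)
    (τ'' : (Scheme.Modules.pullback r'').obj O1'' ≅
      CohB1.tensorMod L ((Scheme.Modules.pullback q).obj K))
    (hτ'' : alpha φ'' q r'' hr'' ≫ τ''.hom = tsig q s (𝟙 ((Scheme.Modules.pullback q).obj K))) :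
    IsIso r'' := by
  haveI : (CohB1.tensorMod E K).IsQuasicoherent := inferInstance
  have hL' : PicF.IsInvertible ((Scheme.Modules.pullback q).obj K) := isInvertible_pullback q hK
  have hgen : 𝒮.IsGenDegOne := genDegOne_of_isGrSymAlg hj
  have hgen'' : 𝒮''.IsGenDegOne := genDegOne_of_isGrSymAlg hj''
  have main : MorphismProperty.isomorphisms Scheme r'' := by
    apply IsZariskiLocalAtTarget.of_forall_exists_morphismRestrict
      (P := MorphismProperty.isomorphisms Scheme)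
    intro z
    obtain ⟨U₀, ℓ₀, hy, hℓ₀⟩ := (isInvertible_iff_exists_isBasisOver K).mp hK (p''.base z)
    obtain ⟨U, hU, hyU, hUU₀⟩ := Opens.isBasis_iff_nbhd.mp Y.isBasis_affineOpens hy
    replace hU : IsAffineOpen U := hU
    have hℓ : IsBasisOver K U (K.presheaf.map (homOfLE hUU₀).op ℓ₀) := hℓ₀.mono hUU₀
    generalize K.presheaf.map (homOfLE hUU₀).op ℓ₀ = ℓ at hℓ
    obtain ⟨z', hz'⟩ := exists_emb p'' chart'' z U hU hyU
    obtain ⟨t, ht⟩ := exists_sec_basicOpen hj'' U hU z'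
    have hbij := bijective_tmul_of_isBasisOver E K hℓ U le_rfl
    simp only [res_self] at hbij
    obtain ⟨Ξ, hΞ1, hΞ2⟩ := exists_grHom hj 𝒮'' U hU
      (AddMonoidHom.mk' (fun e => QA.sec j'' U (SecTwist.tmul E K U e ℓ))
        (fun a b => by
          show QA.sec j'' U (SecTwist.tmul E K U (a + b) ℓ) = _
          rw [tmul_add_left]
          exact QA.sec_add j'' U _ _))
      (fun r m => by
        show QA.sec j'' U (SecTwist.tmul E K U (r • m) ℓ) = _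
        rw [tmul_smul_left]
        exact QA.sec_smul j'' U _ _)
      (fun m => hj''.2 U hU _)
    replace hΞ2 : ∀ e : Γ(E, U), Ξ (QA.sec j U e) = QA.sec j'' U (SecTwist.tmul E K U e ℓ) := hΞ2
    obtain ⟨e₀, he₀⟩ := hbij.2 t
    replace he₀ : SecTwist.tmul E K U e₀ ℓ = t := he₀
    rw [← he₀, ← hΞ2 e₀] at ht
    have hh : QA.sec j U e₀ ∈ 𝒮.deg U hU 1 := hj.2 U hU e₀
    have hh'' : Ξ (QA.sec j U e₀) ∈ 𝒮''.deg U hU 1 := GradedFunLike.map_mem Ξ hh
    have hrd₀ : Groth.Agent.H4.PBLoc.Reads lam'' U hU (Ξ (QA.sec j U e₀)) (φ''.app U (SecTwist.tmul E K U e₀ ℓ)) := by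
      rw [hΞ2 e₀]; exact hφ'' U hU _
    refine ⟨Dp p'' chart'' U hU (Ξ (QA.sec j U e₀)), ⟨z', ht, hz'⟩, ?_⟩
    -- the two preimages agree
    have hWp'' : r'' ⁻¹ᵁ Dp p'' chart'' U hU (Ξ (QA.sec j U e₀)) ≤ r'' ⁻¹ᵁ (p'' ⁻¹ᵁ U) :=
      r''.preimage_mono (Dp_le p'' chart'' U hU _)
    have hWq : r'' ⁻¹ᵁ Dp p'' chart'' U hU (Ξ (QA.sec j U e₀)) ≤ q ⁻¹ᵁ U := by
      have h1 := hWp''
      rw [← hr'']
      exact h1
    have hWp : r'' ⁻¹ᵁ Dp p'' chart'' U hU (Ξ (QA.sec j U e₀)) ≤ i ⁻¹ᵁ (p ⁻¹ᵁ U) := by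
      have h1 := hWq
      rw [← hi] at h1
      exact h1
    have bW'' := isBasisOver_lsec r'' τ'' hO1'' U hU (Ξ (QA.sec j U e₀)) hh''
      (φ''.app U (SecTwist.tmul E K U e₀ ℓ)) hrd₀ _ (le_refl _)
    have g0 := lsec_res_eq_sig φ'' q (tsig q s (𝟙 _)) r'' hr'' τ'' hτ'' U
      (SecTwist.tmul E K U e₀ ℓ) _ hWq hWp''
    rw [sig_tsig q s (𝟙 _) U hU e₀ ℓ, tmul_res] at g0
    have bW''' : IsBasisOver (CohB1.tensorMod L ((Scheme.Modules.pullback q).obj K))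
        (r'' ⁻¹ᵁ Dp p'' chart'' U hU (Ξ (QA.sec j U e₀)))
        (SecTwist.tmul L _ _ (L.presheaf.map (homOfLE hWq).op (sig q s U e₀))
          (((Scheme.Modules.pullback q).obj K).presheaf.map (homOfLE hWq).op
            (sig q (𝟙 ((Scheme.Modules.pullback q).obj K)) U ℓ))) := by
      rw [← g0]; exact bW''
    have bW := isBasisOver_left_of_tmul hL hL' _ _ bW'''
    have eW : r'' ⁻¹ᵁ Dp p'' chart'' U hU (Ξ (QA.sec j U e₀)) ≤
        i ⁻¹ᵁ Dp p chart U hU (QA.sec j U e₀) :=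
      le_preimage_Dp_of_isBasisOver i τ hO1 hgen U hU (QA.sec j U e₀) hh (φ.app U e₀)
        (hφ U hU e₀) _ hWp (by
          have h1 := lsec_res_eq_sig φ q s i hi τ hτ U e₀ _ hWq hWp
          rw [h1]; exact bW)
    -- the reverse inclusion
    have hVp : i ⁻¹ᵁ Dp p chart U hU (QA.sec j U e₀) ≤ i ⁻¹ᵁ (p ⁻¹ᵁ U) :=
      i.preimage_mono (Dp_le p chart U hU _)
    have hVq : i ⁻¹ᵁ Dp p chart U hU (QA.sec j U e₀) ≤ q ⁻¹ᵁ U := by
      have h1 := hVp
      rw [← hi]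
      exact h1
    have hVp'' : i ⁻¹ᵁ Dp p chart U hU (QA.sec j U e₀) ≤ r'' ⁻¹ᵁ (p'' ⁻¹ᵁ U) := by
      have h1 := hVq
      rw [← hr''] at h1
      exact h1
    have b₁ := isBasisOver_lsec i τ hO1 U hU (QA.sec j U e₀) hh (φ.app U e₀) (hφ U hU e₀) _
      (le_refl _)
    rw [lsec_res_eq_sig φ q s i hi τ hτ U e₀ _ hVq hVp] at b₁
    have b₂ : IsBasisOver ((Scheme.Modules.pullback q).obj K) (i ⁻¹ᵁ Dp p chart U hU (QA.sec j U e₀))
        (((Scheme.Modules.pullback q).obj K).presheaf.map (homOfLE hVq).op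
          (sig q (𝟙 ((Scheme.Modules.pullback q).obj K)) U ℓ)) := by
      rw [sig_res' q (𝟙 _) U ℓ _ hVq]
      exact hℓ.pullback (g := q) hVq
    have eW' : i ⁻¹ᵁ Dp p chart U hU (QA.sec j U e₀) ≤
        r'' ⁻¹ᵁ Dp p'' chart'' U hU (Ξ (QA.sec j U e₀)) := by
      refine le_preimage_Dp_of_isBasisOver r'' τ'' hO1'' hgen'' U hU _ hh''
        (φ''.app U (SecTwist.tmul E K U e₀ ℓ)) hrd₀ _ hVp'' ?_
      have h1 := lsec_res_eq_sig φ'' q (tsig q s (𝟙 _)) r'' hr'' τ'' hτ'' U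
        (SecTwist.tmul E K U e₀ ℓ) _ hVq hVp''
      rw [sig_tsig q s (𝟙 _) U hU e₀ ℓ, tmul_res] at h1
      rw [h1]
      exact b₁.tmul b₂
    have hWeq : r'' ⁻¹ᵁ Dp p'' chart'' U hU (Ξ (QA.sec j U e₀)) =
        i ⁻¹ᵁ Dp p chart U hU (QA.sec j U e₀) := le_antisymm eW eW'
    -- chart comparison
    have H : ∀ (e : Γ(E, U)) (z : Away (𝒮.deg U hU) (QA.sec j U e₀)),
        z.val = Localization.mk (QA.sec j U e)
          (⟨(QA.sec j U e₀) ^ 1, 1, rfl⟩ : Submonoid.powers (QA.sec j U e₀)) →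
        chi r'' U hU (Ξ (QA.sec j U e₀)) _ le_rfl (Away.map Ξ (QA.sec j U e₀) z) =
          chi i U hU (QA.sec j U e₀) _ eW z := by
      intro e z hz
      have he : QA.sec j U e ∈ 𝒮.deg U hU 1 := hj.2 U hU e
      have hzz : z = Away.mk (𝒮.deg U hU) hh 1 (QA.sec j U e) (by simpa using he) := by
        apply HomogeneousLocalization.val_injective
        rw [hz, Away.val_mk]
      have hrd : Groth.Agent.H4.PBLoc.Reads lam'' U hU (Ξ (QA.sec j U e)) (φ''.app U (SecTwist.tmul E K U e ℓ)) := by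
        rw [hΞ2 e]; exact hφ'' U hU _
      have k1 := lsec_res_eq_smul i τ hO1 U hU (QA.sec j U e₀) (QA.sec j U e) hh he
        (φ.app U e₀) (φ.app U e) (hφ U hU e₀) (hφ U hU e) _ eW
      have g1 := lsec_res_eq_sig φ q s i hi τ hτ U e _ hWq hWp
      have g2 := lsec_res_eq_sig φ q s i hi τ hτ U e₀ _ hWq hWp
      replace k1 := g1.symm.trans (k1.trans (congrArg (fun t => chi i U hU (QA.sec j U e₀) _ eW
        (Away.mk (𝒮.deg U hU) hh 1 (QA.sec j U e) (by simpa using he)) • t) g2))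
      have k2 := lsec_res_eq_smul r'' τ'' hO1'' U hU (Ξ (QA.sec j U e₀)) (Ξ (QA.sec j U e)) hh''
        (GradedFunLike.map_mem Ξ he) (φ''.app U (SecTwist.tmul E K U e₀ ℓ))
        (φ''.app U (SecTwist.tmul E K U e ℓ)) hrd₀ hrd _ (le_refl _)
      have g3 := lsec_res_eq_sig φ'' q (tsig q s (𝟙 _)) r'' hr'' τ'' hτ'' U
        (SecTwist.tmul E K U e ℓ) _ hWq hWp''
      rw [sig_tsig q s (𝟙 _) U hU e ℓ, tmul_res] at g3
      replace k2 := g3.symm.trans (k2.trans (congrArg (fun t => chi r'' U hU (Ξ (QA.sec j U e₀)) _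
        (le_refl _) (Away.mk (𝒮''.deg U hU) hh'' 1 (Ξ (QA.sec j U e))
          (by simpa using GradedFunLike.map_mem Ξ he)) • t) g0))
      rw [k1, tmul_smul_left] at k2
      have k3 := bW'''.coord_injective k2
      rw [hzz, Away.map_mk]
      exact k3.symm
    have hχ : ∀ w : Away (𝒮.deg U hU) (QA.sec j U e₀),
        chi r'' U hU (Ξ (QA.sec j U e₀)) _ le_rfl (Away.map Ξ (QA.sec j U e₀) w) =
          chi i U hU (QA.sec j U e₀) _ eW w :=
      chi_comp_awayMap hj hP hP'' U hU Ξ hΞ1 i r'' (hi.trans hr''.symm) e₀ _ eW le_rfl H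
    have hBbij : Function.Bijective (chi i U hU (QA.sec j U e₀) _ eW) := by
      unfold chi
      rw [RingHom.coe_comp]
      exact (bijective_appLE_of_isIso i _ _ hWeq eW).comp
        (fn_bijective p chart U hU (QA.sec j U e₀) Nat.one_pos hh)
    have hAsurj : Function.Surjective (Away.map Ξ (QA.sec j U e₀)) := by
      apply awayMap_surjective hj hj'' U hU Ξ hΞ1 _ e₀
      intro t'
      obtain ⟨e, he⟩ := hbij.2 t'
      replace he : SecTwist.tmul E K U e ℓ = t' := he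
      exact ⟨e, by rw [hΞ2 e, he]⟩
    have hfn'' := fn_bijective p'' chart'' U hU (Ξ (QA.sec j U e₀)) Nat.one_pos hh''
    have hbijLE : Function.Bijective
        (r''.appLE (Dp p'' chart'' U hU (Ξ (QA.sec j U e₀))) _ (le_refl _)).hom := by
      constructor
      · intro a a' haa
        obtain ⟨zz, rfl⟩ := hfn''.2 a
        obtain ⟨zz', rfl⟩ := hfn''.2 a'
        obtain ⟨w, rfl⟩ := hAsurj zz
        obtain ⟨w', rfl⟩ := hAsurj zz'
        have h1 : chi i U hU (QA.sec j U e₀) _ eW w = chi i U hU (QA.sec j U e₀) _ eW w' := by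
          rw [← hχ w, ← hχ w']
          exact haa
        rw [hBbij.1 h1]
      · intro b
        obtain ⟨w, rfl⟩ := hBbij.2 b
        exact ⟨fn p'' chart'' U hU (Ξ (QA.sec j U e₀)) (Away.map Ξ (QA.sec j U e₀) w), hχ w⟩
    have hWaff : IsAffineOpen (r'' ⁻¹ᵁ Dp p'' chart'' U hU (Ξ (QA.sec j U e₀))) := by
      rw [hWeq]
      exact (isAffineOpen_Dp p chart U hU _ Nat.one_pos hh).preimage_of_isIso i
    rw [← Scheme.Hom.resLE_eq_morphismRestrict]
    exact isIso_resLE_of_bijective r'' (isAffineOpen_Dp p'' chart'' U hU _ Nat.one_pos hh'') hWaff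
      (le_refl _) hbijLE
  exact main

end Main

end

end Groth.Agent.H4.PBTens1
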