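import Mathlib
import Groth.Agent.H4.PBTens1
import Groth.Agent.Lib.Helper8.RelTwist.Zero
import Groth.Agent.Lib.Helper8.RelTwist.Inv
import Groth.Agent.Lib.Lead.QC.PullInv

set_option autoImplicit false
set_option linter.style.haveILetI false
set_option linter.unusedSectionVars false
set_option linter.unusedVariables false

namespace Groth.Agent.H4.PBTens2

open CategoryTheory CategoryTheory.Limits AlgebraicGeometry TopologicalSpace Opposite
open HomogeneousLocalization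
open Groth.Agent.H6.Sym Groth.Agent.H6 Groth.Agent.LD.QC Groth.Agent.H4.PBundle Groth.Agent.H4.PBundle2
open Groth.Agent.H4.PBundle3 Groth.Agent.H4.PBLoc Groth.Agent.H4.PBLoc2 Groth.Agent.H4.PBLoc3
open Groth.Agent.H4.ConeImm
open Groth.Agent.H4.PBUniq Groth.Agent.H4.PBEx1 Groth.Agent.H4.PBEx2 Groth.Agent.H4.PBEx4
open Groth.Agent.H4.SegreCh Groth.Agent.H4.SegreVA Groth.Agent.H4.ProjPhi Groth.Agent.H4.TensVA
open Groth.Agent.H4.PBTens1
open Groth.Agent.H8.RelTwist Groth.Agent.H8.RelTilde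
open scoped HomogeneousIdeal

universe u

noncomputable section

section TwistPow

variable {Y P : Scheme.{u}} {𝒮 : RelProj.QCGrAlg Y} {p : P ⟶ Y}
  {chart : ∀ (U : Y.Opens) (hU : IsAffineOpen U),
    (((p ⁻¹ᵁ U : P.Opens) : Scheme.{u}) ≅ Proj (𝒮.deg U hU))}

lemma cast_twist (k k' : ℤ) (hk : k = k') {M : P.Modules}
    {lamM : ∀ (U : Y.Opens) (hU : IsAffineOpen U),
      M ⟶ (Scheme.Modules.pushforward (RelProj.emb p chart U hU)).obj (GrTwist.twist (𝒮.deg U hU) k)}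
    (h : RelProj.IsRelTwist 𝒮 p chart k M lamM) :
    ∃ lamM' : ∀ (U : Y.Opens) (hU : IsAffineOpen U),
      M ⟶ (Scheme.Modules.pushforward (RelProj.emb p chart U hU)).obj
        (GrTwist.twist (𝒮.deg U hU) k'),
      RelProj.IsRelTwist 𝒮 p chart k' M lamM' := by
  subst hk
  exact ⟨lamM, h⟩

/-- twisting sheaves of the same degree are isomorphic. -/
theorem twist_unique (hP : RelProj.IsRelProj 𝒮 p chart) (hgen : 𝒮.IsGenDegOne) {k : ℤ}
    {M M' : P.Modules}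
    {lamM : ∀ (U : Y.Opens) (hU : IsAffineOpen U),
      M ⟶ (Scheme.Modules.pushforward (RelProj.emb p chart U hU)).obj (GrTwist.twist (𝒮.deg U hU) k)}
    {lamM' : ∀ (U : Y.Opens) (hU : IsAffineOpen U),
      M' ⟶ (Scheme.Modules.pushforward (RelProj.emb p chart U hU)).obj (GrTwist.twist (𝒮.deg U hU) k)}
    (hM : RelProj.IsRelTwist 𝒮 p chart k M lamM) (hM' : RelProj.IsRelTwist 𝒮 p chart k M' lamM') :
    Nonempty (M ≅ M') := by
  obtain ⟨lam'', h''⟩ := cast_twist k (0 + k) (zero_add k).symm hM'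
  obtain ⟨e⟩ := nonempty_tensor_iso hP hgen (isRelTwist_zero hP) hM h''
  haveI : M.IsQuasicoherent := relTwist_isQuasicoherent hM
  exact ⟨(unitorL M).symm ≪≫ e⟩

/-- `O_P(n) ≅ O_P(1)^{⊗ n}` for `n ≥ 0`. -/
theorem twist_iso_tensorPow (hP : RelProj.IsRelProj 𝒮 p chart) (hgen : 𝒮.IsGenDegOne)
    {O1 : P.Modules}
    {lam1 : ∀ (U : Y.Opens) (hU : IsAffineOpen U),
      O1 ⟶ (Scheme.Modules.pushforward (RelProj.emb p chart U hU)).obj (GrTwist.twist (𝒮.deg U hU) 1)}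
    (hO1 : RelProj.IsRelTwist 𝒮 p chart 1 O1 lam1) :
    ∀ (n : ℕ) (M : P.Modules)
      (lamM : ∀ (U : Y.Opens) (hU : IsAffineOpen U),
        M ⟶ (Scheme.Modules.pushforward (RelProj.emb p chart U hU)).obj
          (GrTwist.twist (𝒮.deg U hU) (n : ℤ))),
      RelProj.IsRelTwist 𝒮 p chart (n : ℤ) M lamM → Nonempty (M ≅ CohB1.tensorPow O1 n)
  | 0, M, lamM, hM => by
    obtain ⟨lam', h'⟩ := cast_twist ((0 : ℕ) : ℤ) 0 Nat.cast_zero hM
    exact twist_unique hP hgen h' (isRelTwist_zero hP)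
  | n + 1, M, lamM, hM => by
    obtain ⟨On, lamn, hOn⟩ := Groth.Agent.S8284.result 𝒮 p chart hP (n : ℤ)
    obtain ⟨e₁⟩ := twist_iso_tensorPow hP hgen hO1 n On lamn hOn
    obtain ⟨lam', h'⟩ := cast_twist ((n + 1 : ℕ) : ℤ) ((n : ℤ) + 1) (Nat.cast_succ n) hM
    obtain ⟨e₂⟩ := nonempty_tensor_iso hP hgen hOn hO1 h'
    exact ⟨e₂.symm ≪≫ tensorIso' e₁ (Iso.refl O1)⟩

end TwistPow

section Main

/-- **EGA II 4.1.4**: `P(E) ≅ P(E ⊗ L)` over `Y` for `L` invertible, and the twisting sheaves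
correspond up to the pullback of powers of `L`. -/
theorem main {Y P Q : Scheme.{u}} (E : Y.Modules) (hE : Coh.IsQCoh E)
    (L : Y.Modules) (hL : PicF.IsInvertible L)
    (𝒮 : RelProj.QCGrAlg Y) (j : E ⟶ 𝒮.toModule) (hj : RelProj.IsGrSymAlg E 𝒮 j)
    (𝒯 : RelProj.QCGrAlg Y) (k : CohB1.tensorMod E L ⟶ 𝒯.toModule)
    (hk : RelProj.IsGrSymAlg (CohB1.tensorMod E L) 𝒯 k)
    (p : P ⟶ Y)
    (chart : ∀ (U : Y.Opens) (hU : IsAffineOpen U),
      ((p ⁻¹ᵁ U : P.Opens) : Scheme.{u}) ≅ Proj (𝒮.deg U hU))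
    (hP : RelProj.IsRelProj 𝒮 p chart) (q : Q ⟶ Y)
    (chartQ : ∀ (U : Y.Opens) (hU : IsAffineOpen U),
      ((q ⁻¹ᵁ U : Q.Opens) : Scheme.{u}) ≅ Proj (𝒯.deg U hU))
    (hQ : RelProj.IsRelProj 𝒯 q chartQ) :
    ∃ i : P ≅ Q, i.hom ≫ q = p ∧
      ∀ (n : ℕ) (OP : P.Modules)
        (lamP : ∀ (U : Y.Opens) (hU : IsAffineOpen U),
          OP ⟶ (Scheme.Modules.pushforward (RelProj.emb p chart U hU)).obj
            (GrTwist.twist (𝒮.deg U hU) (n : ℤ)))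
        (OQ : Q.Modules)
        (lamQ : ∀ (U : Y.Opens) (hU : IsAffineOpen U),
          OQ ⟶ (Scheme.Modules.pushforward (RelProj.emb q chartQ U hU)).obj
            (GrTwist.twist (𝒯.deg U hU) (n : ℤ))),
        RelProj.IsRelTwist 𝒮 p chart (n : ℤ) OP lamP →
          RelProj.IsRelTwist 𝒯 q chartQ (n : ℤ) OQ lamQ →
          Nonempty ((Scheme.Modules.pullback i.hom).obj OQ ≅
            CohB1.tensorMod OP ((Scheme.Modules.pullback p).obj (CohB1.tensorPow L n))) := by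
  haveI : E.IsQuasicoherent := hE
  haveI : L.IsQuasicoherent := qc_of_isInvertible L hL
  haveI hqEL : (CohB1.tensorMod E L).IsQuasicoherent := inferInstance
  obtain ⟨OP1, lamP1, hOP1⟩ := Groth.Agent.S8284.result 𝒮 p chart hP 1
  obtain ⟨OQ1, lamQ1, hOQ1⟩ := Groth.Agent.S8284.result 𝒯 q chartQ hQ 1
  have hgenP : 𝒮.IsGenDegOne := genDegOne_of_isGrSymAlg hj
  have hgenQ : 𝒯.IsGenDegOne := genDegOne_of_isGrSymAlg hk
  have hφP := phi_reads hP hOP1 j hj.2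
  have hφQ := phi_reads hQ hOQ1 k hk.2
  have hOP1inv : PicF.IsInvertible OP1 := relTwist_isInvertible hgenP hOP1
  have hOQ1inv : PicF.IsInvertible OQ1 := relTwist_isInvertible hgenQ hOQ1
  have hpL : PicF.IsInvertible ((Scheme.Modules.pullback p).obj L) := isInvertible_pullback p hL
  have hi : 𝟙 P ≫ p = p := Category.id_comp p
  let τ : (Scheme.Modules.pullback (𝟙 P)).obj OP1 ≅ OP1 := (Scheme.Modules.pullbackId P).app OP1
  haveI := epi_alpha hE hj hP hOP1 (phi hP hOP1 j hj.2) (fun U hU e => hφP U hU e) p (𝟙 P) hi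
  haveI : Epi (alpha (phi hP hOP1 j hj.2) p (𝟙 P) hi ≫ τ.hom) := inferInstance
  haveI : Epi (tsig p (alpha (phi hP hOP1 j hj.2) p (𝟙 P) hi ≫ τ.hom)
      (𝟙 ((Scheme.Modules.pullback p).obj L))) :=
    epi_tsig p _ (𝟙 _) hOP1inv hpL
  obtain ⟨ι, ⟨hι, τ'', hτ''⟩, -⟩ := Groth.Agent.H4.PBEx4.main (CohB1.tensorMod E L) hqEL
    𝒯 k hk q chartQ hQ OQ1 lamQ1 hOQ1 (phi hQ hOQ1 k hk.2) hφQ p
    (CohB1.tensorMod OP1 ((Scheme.Modules.pullback p).obj L)) (isInvertible_tensorMod hOP1inv hpL)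
    (tsig p (alpha (phi hP hOP1 j hj.2) p (𝟙 P) hi ≫ τ.hom)
      (𝟙 ((Scheme.Modules.pullback p).obj L))) inferInstance
  have hτa : alpha (phi hQ hOQ1 k hk.2) p ι hι ≫ τ''.hom =
      tsig p (alpha (phi hP hOP1 j hj.2) p (𝟙 P) hi ≫ τ.hom)
        (𝟙 ((Scheme.Modules.pullback p).obj L)) := by
    rw [← hτ'']
    unfold alpha
    simp only [Category.assoc]
  haveI : IsIso ι :=
    isIso_of_tensor hj hP hOP1 (phi hP hOP1 j hj.2) (fun U hU e => hφP U hU e) hk hQ hOQ1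
      (phi hQ hOQ1 k hk.2) (fun U hU e => hφQ U hU e) p hOP1inv hL
      (alpha (phi hP hOP1 j hj.2) p (𝟙 P) hi ≫ τ.hom) (𝟙 P) hi τ rfl ι hι τ'' hτa
  refine ⟨asIso ι, hι, ?_⟩
  intro n OP lamP OQ lamQ hOP hOQ
  obtain ⟨eP⟩ := twist_iso_tensorPow hP hgenP hOP1 n OP lamP hOP
  obtain ⟨eQ⟩ := twist_iso_tensorPow hQ hgenQ hOQ1 n OQ lamQ hOQ
  haveI : OP1.IsQuasicoherent := qc_of_isInvertible OP1 hOP1inv
  haveI : ((Scheme.Modules.pullback p).obj L).IsQuasicoherent := qc_of_isInvertible _ hpL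
  exact ⟨(Scheme.Modules.pullback ι).mapIso eQ ≪≫ pbTensorPowIso ι OQ1 hOQ1inv n ≪≫
    tensorPowCongr τ'' n ≪≫ (tensorPowTensor OP1 ((Scheme.Modules.pullback p).obj L) n).symm ≪≫
    tensorIso' eP.symm (pbTensorPowIso p L hL n).symm⟩

end Main

end

end Groth.Agent.H4.PBTens2
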