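import Mathlib
import Groth.Agent.H4.PBundle2
import Groth.Agent.S8263
import Groth.Agent.Lib.Helper8.RelTwist.MapTwist1
import Groth.Agent.Lib.Lead.QC.BiprodSec
import Groth.Agent.Lib.Lead.SC.Efface

set_option autoImplicit false
set_option linter.unusedSectionVars false
set_option linter.unusedVariables false
set_option linter.style.haveILetI false
universe u
open CategoryTheory CategoryTheory.Limits AlgebraicGeometry TopologicalSpace Opposite
open scoped HomogeneousIdeal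

namespace Groth.Agent.H4.PBundle4
noncomputable section

/-! ## the disjoint union of two closed immersions with disjoint images -/
section Coprod
open Topology

theorem isClosedImmersion_coprodDesc {X Y Z : Scheme.{u}} (f : X ⟶ Z) (g : Y ⟶ Z)
    [IsClosedImmersion f] [IsClosedImmersion g] (hdisj : ∀ (x : X) (y : Y), f x ≠ g y) :
    IsClosedImmersion (coprod.desc f g) := by
  rw [isClosedImmersion_iff]
  constructor
  · refine (IsZariskiLocalAtSource.iff_of_openCover (P := @SurjectiveOnStalks)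
      (coprodOpenCover.{_, 0} X Y)).mpr (fun i => ?_)
    rcases i with i | i
    · change SurjectiveOnStalks (coprod.inl ≫ coprod.desc f g)
      rw [coprod.inl_desc]; infer_instance
    · change SurjectiveOnStalks (coprod.inr ≫ coprod.desc f g)
      rw [coprod.inr_desc]; infer_instance
  · have hinj : Function.Injective (Sum.elim (⇑f) (⇑g)) := by
      rintro (a | a) (b | b) hab
      · exact congrArg Sum.inl (f.isClosedEmbedding.injective hab)
      · exact absurd hab (hdisj a b)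
      · exact absurd hab.symm (hdisj b a)
      · exact congrArg Sum.inr (g.isClosedEmbedding.injective hab)
    have h2 : IsClosedEmbedding (Sum.elim (⇑f) (⇑g)) :=
      IsClosedEmbedding.sumElim f.isClosedEmbedding g.isClosedEmbedding hinj
    have h3 : (⇑(coprod.desc f g)) = Sum.elim (⇑f) (⇑g) ∘ (coprodMk X Y).symm := by
      funext w
      obtain ⟨w, rfl⟩ := (coprodMk X Y).surjective w
      rw [Function.comp_apply, Homeomorph.symm_apply_apply]
      rcases w with w | w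
      · rw [coprodMk_inl, ← Scheme.Hom.comp_apply, coprod.inl_desc]; rfl
      · rw [coprodMk_inr, ← Scheme.Hom.comp_apply, coprod.inr_desc]; rfl
    rw [h3]
    exact h2.comp (coprodMk X Y).symm.isClosedEmbedding

end Coprod


/-! ## `P(E) ⨿ P(F) → P(E ⊕ F)` -/
section S5734
open Groth.Agent.H6.Sym Groth.Agent.H6 Groth.Agent.LD.QC Groth.Agent.H4.PBundle Groth.Agent.H4.PBundle2
open Groth.Agent.H8.RelTwist Groth.Agent.H8.RelTilde

/-- an algebra map which retracts (on generators) the map induced by a split monomorphism of modules is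
surjective on sections. -/
theorem surj_of_retract {Y : Scheme.{u}} {E G : Y.Modules} (𝒮E 𝒮 : RelSpec.QCAlg Y)
    (jE : E ⟶ 𝒮E.toModule) (hjE : RelSpec.IsSymAlg E 𝒮E jE) (j : G ⟶ 𝒮.toModule)
    (inl : E ⟶ G) (fst : G ⟶ E) (hif : inl ≫ fst = 𝟙 E) (π : 𝒮 ⟶ 𝒮E)
    (hπ : j ≫ RelSpec.QCAlg.Hom.toModuleMap π = fst ≫ jE) (U : Y.Opens) :
    Function.Surjective (π.hom.app (op U)).hom := by
  obtain ⟨σ, hσ, -⟩ := hjE 𝒮 (inl ≫ j)
  have h1 : jE ≫ RelSpec.QCAlg.Hom.toModuleMap (σ ≫ π) = jE := by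
    rw [toModuleMap_comp, ← Category.assoc, hσ, Category.assoc, hπ, ← Category.assoc, hif,
      Category.id_comp]
  have h2 : jE ≫ RelSpec.QCAlg.Hom.toModuleMap (𝟙 𝒮E) = jE := by
    rw [toModuleMap_id, Category.comp_id]
  obtain ⟨ψ, -, huniq⟩ := hjE 𝒮E jE
  have h3 : σ ≫ π = 𝟙 𝒮E := (huniq _ h1).trans (huniq _ h2).symm
  have h4 : (σ ≫ π).hom = 𝟙 _ := by rw [h3]; rfl
  have h5 := NatTrans.congr_app h4 (op U)
  intro x
  exact ⟨(σ.hom.app (op U)).hom x, congr($h5 x)⟩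

theorem main_S5734 {Y PE PF P : Scheme.{u}} (E F : Y.Modules)
    (hE : Coh.IsQCoh E) (hF : Coh.IsQCoh F) (𝒮E 𝒮F 𝒮 : RelProj.QCGrAlg Y)
    (jE : E ⟶ 𝒮E.toModule) (hjE : RelProj.IsGrSymAlg E 𝒮E jE)
    (jF : F ⟶ 𝒮F.toModule) (hjF : RelProj.IsGrSymAlg F 𝒮F jF)
    (j : E ⊞ F ⟶ 𝒮.toModule) (hj : RelProj.IsGrSymAlg (E ⊞ F) 𝒮 j)
    (πE : 𝒮.toQCAlg ⟶ 𝒮E.toQCAlg) (hπE : RelProj.IsGradedHom πE)
    (hjπE : j ≫ RelSpec.QCAlg.Hom.toModuleMap πE = biprod.fst ≫ jE)
    (πF : 𝒮.toQCAlg ⟶ 𝒮F.toQCAlg) (hπF : RelProj.IsGradedHom πF)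
    (hjπF : j ≫ RelSpec.QCAlg.Hom.toModuleMap πF = biprod.snd ≫ jF)
    (hirrE : ∀ (U : Y.Opens) (hU : IsAffineOpen U),
      (𝒮E.deg U hU)₊ ≤ ((𝒮.deg U hU)₊).map (RelProj.gradedHomAt πE hπE U hU))
    (hirrF : ∀ (U : Y.Opens) (hU : IsAffineOpen U),
      (𝒮F.deg U hU)₊ ≤ ((𝒮.deg U hU)₊).map (RelProj.gradedHomAt πF hπF U hU))
    (p : P ⟶ Y) (pE : PE ⟶ Y) (pF : PF ⟶ Y)
    (chart : ∀ (U : Y.Opens) (hU : IsAffineOpen U), ((p ⁻¹ᵁ U : P.Opens) : Scheme.{u}) ≅ Proj (𝒮.deg U hU))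
    (chartE : ∀ (U : Y.Opens) (hU : IsAffineOpen U), ((pE ⁻¹ᵁ U : PE.Opens) : Scheme.{u}) ≅ Proj (𝒮E.deg U hU))
    (chartF : ∀ (U : Y.Opens) (hU : IsAffineOpen U), ((pF ⁻¹ᵁ U : PF.Opens) : Scheme.{u}) ≅ Proj (𝒮F.deg U hU))
    (hP : RelProj.IsRelProj 𝒮 p chart) (hPE : RelProj.IsRelProj 𝒮E pE chartE) (hPF : RelProj.IsRelProj 𝒮F pF chartF)
    (hE' : PE ⟶ P) (hhE : RelProj.IsRelProjMap πE hπE hirrE chart chartE hE')
    (hF' : PF ⟶ P) (hhF : RelProj.IsRelProjMap πF hπF hirrF chart chartF hF') :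
    IsClosedImmersion (coprod.desc hE' hF') := by
  haveI : E.IsQuasicoherent := hE
  haveI : F.IsQuasicoherent := hF
  haveI : (E ⊞ F).IsQuasicoherent := Groth.Agent.LD.SC.qc_biprod E F hE hF
  haveI hcE : IsClosedImmersion hE' :=
    Groth.Agent.S8263.result πE hπE
      (fun U hU => surj_of_retract 𝒮E.toQCAlg 𝒮.toQCAlg jE hjE.1 j biprod.inl biprod.fst
        biprod.inl_fst πE hjπE U) hirrE p pE chart chartE hP hPE hE' hhE
  haveI hcF : IsClosedImmersion hF' :=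
    Groth.Agent.S8263.result πF hπF
      (fun U hU => surj_of_retract 𝒮F.toQCAlg 𝒮.toQCAlg jF hjF.1 j biprod.inr biprod.snd
        biprod.inr_snd πF hjπF U) hirrF p pF chart chartF hP hPF hF' hhF
  have hoverE : hE' ≫ p = pE := Groth.Agent.H4.RelProjLib.relProjMap_over πE hπE hirrE hP hPE hhE
  have hoverF : hF' ≫ p = pF := Groth.Agent.H4.RelProjLib.relProjMap_over πF hπF hirrF hP hPF hhF
  refine isClosedImmersion_coprodDesc hE' hF' (fun x y hxy => ?_)
  have hw : hE'.base x ∈ (⊤ : P.Opens) := trivial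
  rw [← (isOpenCover_emb 𝒮 p chart).iSup_eq_top] at hw
  obtain ⟨⟨U, hU0⟩, z, hz⟩ := Opens.mem_iSup.mp hw
  have hU : IsAffineOpen U := hU0
  have hzU : (RelProj.emb p chart U hU).base z ∈ p ⁻¹ᵁ U := by
    rw [← opensRange_emb 𝒮 p chart U hU]; exact ⟨z, rfl⟩
  have hxU : x ∈ pE ⁻¹ᵁ U := by
    change pE.base x ∈ U
    rw [← hoverE]
    change p.base (hE'.base x) ∈ U
    rw [← hz]; exact hzU
  have hyU : y ∈ pF ⁻¹ᵁ U := by
    change pF.base y ∈ U
    rw [← hoverF]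
    change p.base (hF'.base y) ∈ U
    rw [← show hE'.base x = hF'.base y from hxy, ← hz]; exact hzU
  rw [← opensRange_emb 𝒮E pE chartE U hU] at hxU
  rw [← opensRange_emb 𝒮F pF chartF U hU] at hyU
  obtain ⟨zE, rfl⟩ := hxU
  obtain ⟨zF, rfl⟩ := hyU
  have h3 : ProjectiveSpectrum.comap (RelProj.gradedHomAt πE hπE U hU) (hirrE U hU) zE = z := by
    apply (RelProj.emb p chart U hU).isOpenEmbedding.injective
    rw [← h_embB hhE U hU zE]; exact hz.symm
  have h4 : ProjectiveSpectrum.comap (RelProj.gradedHomAt πF hπF U hU) (hirrF U hU) zF = z := by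
    apply (RelProj.emb p chart U hU).isOpenEmbedding.injective
    rw [← h_embB hhF U hU zF]
    exact (show hE'.base _ = hF'.base _ from hxy).symm.trans hz.symm
  obtain ⟨s, hs⟩ := exists_sec_basicOpen hj U hU z
  apply (ProjectiveSpectrum.mem_basicOpen _ _ _).mp hs
  have hs2 : QA.sec j U s = QA.sec j U ((biprod.inl : E ⟶ E ⊞ F).app U ((biprod.fst : E ⊞ F ⟶ E).app U s)) +
      QA.sec j U ((biprod.inr : F ⟶ E ⊞ F).app U ((biprod.snd : E ⊞ F ⟶ F).app U s)) := by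
    have := bmk_eta E F U s
    conv_lhs => rw [← this]
    exact map_add (j.app U).hom _ _
  rw [hs2]
  apply add_mem
  · rw [← h4]
    change (πF.hom.app (op U)).hom (QA.sec j U _) ∈ zF.asHomogeneousIdeal
    have h5 := congr($(congrArg (fun f : E ⊞ F ⟶ 𝒮F.toModule => f.app U) hjπF)
      ((biprod.inl : E ⟶ E ⊞ F).app U ((biprod.fst : E ⊞ F ⟶ E).app U s)))
    have h6 : (πF.hom.app (op U)).hom (QA.sec j U
        ((biprod.inl : E ⟶ E ⊞ F).app U ((biprod.fst : E ⊞ F ⟶ E).app U s))) = 0 := by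
      refine (show _ = _ from h5).trans ?_
      rw [comp_app', ← comp_app' biprod.inl biprod.snd, biprod.inl_snd, zero_app', map_zero]
      rfl
    rw [h6]; exact zero_mem _
  · rw [← h3]
    change (πE.hom.app (op U)).hom (QA.sec j U _) ∈ zE.asHomogeneousIdeal
    have h5 := congr($(congrArg (fun f : E ⊞ F ⟶ 𝒮E.toModule => f.app U) hjπE)
      ((biprod.inr : F ⟶ E ⊞ F).app U ((biprod.snd : E ⊞ F ⟶ F).app U s)))
    have h6 : (πE.hom.app (op U)).hom (QA.sec j U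
        ((biprod.inr : F ⟶ E ⊞ F).app U ((biprod.snd : E ⊞ F ⟶ F).app U s))) = 0 := by
      refine (show _ = _ from h5).trans ?_
      rw [comp_app', ← comp_app' biprod.inr biprod.fst, biprod.inr_fst, zero_app', map_zero]
      rfl
    rw [h6]; exact zero_mem _

end S5734

end
end Groth.Agent.H4.PBundle4
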