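import Mathlib
import Groth.Agent.H4.PC9
import Groth.Agent.H4.Coh
set_option autoImplicit false
universe u
open CategoryTheory CategoryTheory.Limits CategoryTheory.Pretriangulated

namespace Groth.Agent.H4.PC

attribute [local instance] HasDerivedCategory.standard

variable {R : Type u} [CommRing R]

open DRing DerivedCategory ZeroObject Groth.Agent.H4.Coh

section
variable (hR : ∀ I : Ideal R, I.FG → Module.FinitePresentation R I)
include hR

/-- kernels of maps between finitely presented modules over a coherent ring, the source finite
free... : general version: `F` f.p., `F'` f.p. -/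
lemma fp_ker_of_fp {F F' : Type u} [AddCommGroup F] [Module R F] [AddCommGroup F'] [Module R F']
    [Module.FinitePresentation R F] [Module.FinitePresentation R F'] (d : F →ₗ[R] F') :
    Module.FinitePresentation R (LinearMap.ker d) := by
  have h1 : (LinearMap.range d).FG := by
    rw [LinearMap.range_eq_map]
    exact Submodule.FG.map _ Module.Finite.fg_top
  haveI := fp_of_fg_submodule hR F' (LinearMap.range d) h1
  have h2 : (LinearMap.ker d.rangeRestrict).FG :=
    Module.FinitePresentation.fg_ker d.rangeRestrict d.surjective_rangeRestrict
  rw [LinearMap.ker_rangeRestrict] at h2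
  exact fp_of_fg_submodule hR F (LinearMap.ker d) h2

theorem isPC_single_of_fp_of_coherent (N : ModuleCat.{u} R) [Module.FinitePresentation R N]
    (j : ℤ) : IsPseudoCoherent R j ((singleFunctor (ModuleCat.{u} R) 0).obj N) := by
  refine isPC_single_of_class (fun N => Module.FinitePresentation R N)
    (fun _ h => inferInstance) ?_ N inferInstance j
  intro N r p hN hp
  haveI := hN
  change Module.FinitePresentation R (LinearMap.ker p)
  exact fp_of_fg_submodule_pi hR r _ (Module.FinitePresentation.fg_ker p hp)

/-- homology of a bounded complex of finite free modules over a coherent ring is finitely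
presented. -/
lemma fp_homology_of_isBFF (E : Cx R) (hE : IsBFF E) (i : ℤ) :
    Module.FinitePresentation R (E.homology i) := by
  haveI := (hE.finProj i).1
  haveI := (hE.finProj i).2
  haveI := (hE.finProj (i + 1)).1
  haveI := (hE.finProj (i + 1)).2
  haveI := (hE.finProj (i - 1)).1
  haveI : Module.FinitePresentation R (E.X i) := Module.finitePresentation_of_projective R _
  haveI : Module.FinitePresentation R (E.X (i + 1)) := Module.finitePresentation_of_projective R _
  -- cycles ≅ ker d
  have hmono : Function.Injective (E.iCycles i).hom :=
    (ModuleCat.mono_iff_injective _).1 inferInstance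
  have hex : (ShortComplex.mk (E.iCycles i) (E.d i (i + 1)) (by simp)).Exact :=
    ShortComplex.exact_of_f_is_kernel _ (E.cyclesIsKernel i (i + 1) (by simp))
  rw [ShortComplex.moduleCat_exact_iff] at hex
  have hrange : LinearMap.range (E.iCycles i).hom = LinearMap.ker (E.d i (i + 1)).hom := by
    ext x
    constructor
    · rintro ⟨y, rfl⟩
      rw [LinearMap.mem_ker, ← ModuleCat.comp_apply]
      simp
    · intro hx
      exact hex x hx
  haveI : Module.FinitePresentation R (LinearMap.range (E.iCycles i).hom) := by
    rw [hrange]; exact fp_ker_of_fp hR _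
  haveI : Module.FinitePresentation R (E.cycles i) :=
    Module.FinitePresentation.of_equiv (LinearEquiv.ofInjective (E.iCycles i).hom hmono).symm
  have hex2 : (ShortComplex.mk (E.toCycles (i - 1) i) (E.homologyπ i) (by simp)).Exact :=
    ShortComplex.exact_of_g_is_cokernel _ (E.homologyIsCokernel (i - 1) i (by simp))
  rw [ShortComplex.moduleCat_exact_iff] at hex2
  have hker : (LinearMap.ker (E.homologyπ i).hom).FG := by
    have : LinearMap.ker (E.homologyπ i).hom = LinearMap.range (E.toCycles (i - 1) i).hom := by
      ext x
      constructor
      · intro hx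
        exact hex2 x hx
      · rintro ⟨y, rfl⟩
        rw [LinearMap.mem_ker, ← ModuleCat.comp_apply]
        simp
    rw [this, LinearMap.range_eq_map]
    exact Submodule.FG.map _ Module.Finite.fg_top
  exact Module.finitePresentation_of_surjective (E.homologyπ i).hom
      ((ModuleCat.epi_iff_surjective _).1 inferInstance) hker

theorem isPC_iff_of_coherent (K : Dual.D R)
    (hb : ∃ b : ℤ, ∀ i : ℤ, b < i → IsZero ((homologyFunctor (ModuleCat.{u} R) i).obj K)) (m : ℤ) :
    IsPseudoCoherent R m K ↔
      Module.Finite R ((homologyFunctor (ModuleCat.{u} R) m).obj K) ∧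
        ∀ i : ℤ, m < i → Module.FinitePresentation R ((homologyFunctor (ModuleCat.{u} R) i).obj K) := by
  constructor
  · intro h
    rw [isPC_iff] at h
    obtain ⟨E, hE, α, hα⟩ := h
    have h1 : ∀ i, Module.FinitePresentation R ((homologyFunctor (ModuleCat.{u} R) i).obj (toD E)) :=
      fun i => fp_of_iso (homologyToDIso E i).symm (fp_homology_of_isBFF hR E hE i)
    constructor
    · haveI := hα.2
      haveI := h1 m
      exact finite_of_epi ((homologyFunctor (ModuleCat.{u} R) m).map α) inferInstance
    · intro i hi
      haveI := hα.1 i hi
      exact fp_of_iso (asIso ((homologyFunctor (ModuleCat.{u} R) i).map α)) (h1 i)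
  · rintro ⟨hfin, hfp⟩
    refine isPC_of_homology m K hb (fun i => ?_)
    rcases lt_trichotomy m i with hi | hi | hi
    · haveI := hfp i hi
      exact isPC_single_of_fp_of_coherent hR _ _
    · subst hi
      rw [sub_self]
      haveI := hfin
      exact isPC_single_of_finite 0 _
    · exact isPC_single0_of_pos _ _ (by omega)

theorem isPC'_iff_of_coherent (K : Dual.D R)
    (hb : ∃ b : ℤ, ∀ i : ℤ, b < i → IsZero ((homologyFunctor (ModuleCat.{u} R) i).obj K)) :
    IsPseudoCoherent' R K ↔
      ∀ i : ℤ, Module.FinitePresentation R ((homologyFunctor (ModuleCat.{u} R) i).obj K) := by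
  constructor
  · intro h i
    exact ((isPC_iff_of_coherent hR K hb (i - 1)).1 (isPC_of_isPC' K h (i - 1))).2 i (by omega)
  · intro h
    refine isPC'_of_forall_isPC K (fun m => (isPC_iff_of_coherent hR K hb m).2 ⟨?_, fun i _ => h i⟩)
    haveI := h m
    infer_instance

end

end Groth.Agent.H4.PC
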