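import Mathlib
set_option autoImplicit false
universe u
open TensorProduct

/-!
# Splitting a three term complex of finite free modules near a prime where the fibre is exact
-/

namespace Groth.Agent.H4.PCSp

section field
variable {k : Type u} [Field k] {V₁ V₂ V₃ : Type u} [AddCommGroup V₁] [Module k V₁]
  [AddCommGroup V₂] [Module k V₂] [AddCommGroup V₃] [Module k V₃]

/-- over a field, a sequence exact in the middle splits there. -/
theorem field_split (d₁ : V₁ →ₗ[k] V₂) (d₂ : V₂ →ₗ[k] V₃)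
    (hex : ∀ x, d₂ x = 0 → x ∈ LinearMap.range d₁) :
    ∃ (t : V₂ →ₗ[k] V₁) (s : V₃ →ₗ[k] V₂), d₁ ∘ₗ t + s ∘ₗ d₂ = LinearMap.id := by
  obtain ⟨σ, hσ⟩ := d₂.rangeRestrict.exists_rightInverse_of_surjective
    (LinearMap.range_rangeRestrict d₂)
  obtain ⟨ρ, hρ⟩ := (LinearMap.range d₂).subtype.exists_leftInverse_of_injective
    (Submodule.ker_subtype _)
  obtain ⟨τ, hτ⟩ := d₁.rangeRestrict.exists_rightInverse_of_surjective
    (LinearMap.range_rangeRestrict d₁)
  have h1 : ∀ x, d₂ (σ (ρ (d₂ x))) = d₂ x := by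
    intro x
    have e1 : ρ (d₂ x) = d₂.rangeRestrict x := by
      have := LinearMap.congr_fun hρ (d₂.rangeRestrict x)
      simpa using this
    rw [e1]
    have := LinearMap.congr_fun hσ (d₂.rangeRestrict x)
    have h2 := congrArg Subtype.val this
    simpa using h2
  let π : V₂ →ₗ[k] LinearMap.range d₁ :=
    (LinearMap.id - σ ∘ₗ ρ ∘ₗ d₂).codRestrict (LinearMap.range d₁) (fun x => hex _ (by
      simp only [LinearMap.sub_apply, LinearMap.id_coe, id_eq, LinearMap.coe_comp,
        Function.comp_apply, map_sub]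
      rw [h1, sub_self]))
  refine ⟨τ ∘ₗ π, σ ∘ₗ ρ, ?_⟩
  ext x
  have h3 : d₁ (τ (π x)) = (π x : V₂) := by
    have := LinearMap.congr_fun hτ (π x)
    have h2 := congrArg Subtype.val this
    simpa using h2
  simp only [LinearMap.add_apply, LinearMap.coe_comp, Function.comp_apply, LinearMap.id_coe, id_eq]
  rw [h3]
  simp [π]

end field

section denom
variable {R : Type u} [CommRing R] (p : Ideal R) [p.IsPrime]

lemma exists_denom_residue (c : p.ResidueField) :
    ∃ a b : R, b ∉ p ∧ b • c = algebraMap R p.ResidueField a := by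
  obtain ⟨z, rfl⟩ := IsLocalRing.residue_surjective (R := Localization.AtPrime p) c
  obtain ⟨a, s, rfl⟩ := IsLocalization.exists_mk'_eq p.primeCompl z
  refine ⟨a, s.1, s.2, ?_⟩
  rw [Algebra.smul_def, IsScalarTower.algebraMap_apply R (Localization.AtPrime p) p.ResidueField,
    IsScalarTower.algebraMap_apply R (Localization.AtPrime p) p.ResidueField a,
    IsLocalRing.ResidueField.algebraMap_eq, ← map_mul, IsLocalization.mk'_spec']

lemma exists_denom (H : Type u) [AddCommGroup H] [Module R H] (x : p.ResidueField ⊗[R] H) :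
    ∃ b : R, b ∉ p ∧ ∃ h : H, b • x = 1 ⊗ₜ[R] h := by
  induction x using TensorProduct.induction_on with
  | zero => exact ⟨1, (Ideal.ne_top_iff_one p).1 (Ideal.IsPrime.ne_top inferInstance), 0, by simp⟩
  | tmul c h =>
    obtain ⟨a, b, hb, hc⟩ := exists_denom_residue p c
    refine ⟨b, hb, a • h, ?_⟩
    rw [TensorProduct.smul_tmul', hc, Algebra.algebraMap_eq_smul_one, TensorProduct.smul_tmul]
  | add x y hx hy =>
    obtain ⟨b₁, hb₁, h₁, e₁⟩ := hx
    obtain ⟨b₂, hb₂, h₂, e₂⟩ := hy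
    refine ⟨b₁ * b₂, fun h => (Ideal.IsPrime.mem_or_mem inferInstance h).elim hb₁ hb₂,
      b₂ • h₁ + b₁ • h₂, ?_⟩
    rw [smul_add, mul_comm b₁ b₂, mul_smul, e₁, mul_comm b₂ b₁, mul_smul, e₂,
      TensorProduct.tmul_add, TensorProduct.tmul_smul, TensorProduct.tmul_smul]

variable {E' E'' : Type u} [AddCommGroup E'] [Module R E'] [AddCommGroup E''] [Module R E'']

/-- two `κ`-linear maps out of `κ ⊗ E'` agree if they agree on `1 ⊗ β j` for a basis `β`. -/
lemma baseChange_hom_ext {ι : Type*} (β : Module.Basis ι R E')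
    (g₁ g₂ : p.ResidueField ⊗[R] E' →ₗ[p.ResidueField] p.ResidueField ⊗[R] E'')
    (h : ∀ j, g₁ (1 ⊗ₜ β j) = g₂ (1 ⊗ₜ β j)) : g₁ = g₂ := by
  apply TensorProduct.AlgebraTensorModule.ext
  intro c y
  have h1 : (g₁.restrictScalars R) ∘ₗ (TensorProduct.mk R p.ResidueField E' 1) =
      (g₂.restrictScalars R) ∘ₗ (TensorProduct.mk R p.ResidueField E' 1) := by
    apply β.ext
    intro j
    simpa using h j
  have h2 : g₁ (1 ⊗ₜ y) = g₂ (1 ⊗ₜ y) := by simpa using LinearMap.congr_fun h1 y
  have h3 : c ⊗ₜ[R] y = c • ((1 : p.ResidueField) ⊗ₜ[R] y) := by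
    rw [TensorProduct.smul_tmul', smul_eq_mul, mul_one]
  rw [h3, map_smul, map_smul, h2]

/-- clearing denominators in a `κ(p)`-linear map between base changes. -/
theorem exists_lift_smul [Module.Finite R E'] [Module.Free R E']
    (s : p.ResidueField ⊗[R] E' →ₗ[p.ResidueField] p.ResidueField ⊗[R] E'') :
    ∃ b : R, b ∉ p ∧ ∃ S : E' →ₗ[R] E'', S.baseChange p.ResidueField = b • s := by
  classical
  let ι := Module.Free.ChooseBasisIndex R E'
  let β : Module.Basis ι R E' := Module.Free.chooseBasis R E'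
  have hch : ∀ j : ι, ∃ b : R, b ∉ p ∧ ∃ h : E'', b • s (1 ⊗ₜ β j) = 1 ⊗ₜ[R] h :=
    fun j => exists_denom p E'' _
  choose b hb h hbh using hch
  refine ⟨∏ j, b j, ?_, β.constr R (fun j => (∏ k ∈ Finset.univ.erase j, b k) • h j), ?_⟩
  · intro hmem
    obtain ⟨j, -, hj⟩ := (Ideal.IsPrime.prod_mem_iff (hp := inferInstance)).1 hmem
    exact hb j hj
  · apply baseChange_hom_ext p β
    intro j
    rw [LinearMap.baseChange_tmul, Module.Basis.constr_basis, TensorProduct.tmul_smul, ← hbh j,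
      LinearMap.smul_apply, ← mul_smul, mul_comm, Finset.mul_prod_erase _ _ (Finset.mem_univ j)]

/-- an endomorphism of a finite free module which is a nonzero scalar on the fibre at `p` has
determinant outside `p`. -/
theorem det_notMem [Module.Finite R E'] [Module.Free R E'] (U : E' →ₗ[R] E') (c : R) (hc : c ∉ p)
    (hU : U.baseChange p.ResidueField = c • LinearMap.id) : LinearMap.det U ∉ p := by
  intro hmem
  have h1 := LinearMap.det_baseChange (A := p.ResidueField) U
  rw [hU, Ideal.algebraMap_residueField_eq_zero.2 hmem] at h1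
  have h2 : (c • LinearMap.id : p.ResidueField ⊗[R] E' →ₗ[p.ResidueField] _) =
      (algebraMap R p.ResidueField c) • LinearMap.id := by
    ext x
    simp
  rw [h2, LinearMap.det_smul, LinearMap.det_id, mul_one] at h1
  have h3 : algebraMap R p.ResidueField c ≠ 0 := fun h =>
    hc (Ideal.algebraMap_residueField_eq_zero.1 h)
  exact pow_ne_zero _ h3 h1

end denom

section split
variable {A : Type u} [CommRing A] {F₁ F₂ F₃ : Type u} [AddCommGroup F₁] [Module A F₁]
  [AddCommGroup F₂] [Module A F₂] [AddCommGroup F₃] [Module A F₃]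

/-- if `d₁ T + S d₂` is bijective on a finite projective module, the sequence splits in the middle. -/
theorem split_of_bijective [Module.Finite A F₂] [Module.Projective A F₂]
    (d₁ : F₁ →ₗ[A] F₂) (d₂ : F₂ →ₗ[A] F₃) (h0 : d₂ ∘ₗ d₁ = 0) (T : F₂ →ₗ[A] F₁) (S : F₃ →ₗ[A] F₂)
    (hu : Function.Bijective (d₁ ∘ₗ T + S ∘ₗ d₂)) :
    ∃ (t : F₂ →ₗ[A] F₁) (s : F₃ →ₗ[A] F₂), d₁ ∘ₗ t + s ∘ₗ d₂ = LinearMap.id := by
  have hd : ∀ y, d₂ (d₁ y) = 0 := fun y => LinearMap.congr_fun h0 y
  have huB : ∀ x ∈ LinearMap.range d₁, (d₁ ∘ₗ T + S ∘ₗ d₂) x ∈ LinearMap.range d₁ := by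
    rintro _ ⟨y, rfl⟩
    refine ⟨T (d₁ y), ?_⟩
    simp [hd]
  let ubar : (F₂ ⧸ LinearMap.range d₁) →ₗ[A] (F₂ ⧸ LinearMap.range d₁) :=
    (LinearMap.range d₁).mapQ (LinearMap.range d₁) (d₁ ∘ₗ T + S ∘ₗ d₂) (fun x hx => huB x hx)
  have hsurj : Function.Surjective ubar := by
    intro z
    obtain ⟨y, rfl⟩ := (LinearMap.range d₁).mkQ_surjective z
    obtain ⟨x, rfl⟩ := hu.2 y
    exact ⟨(LinearMap.range d₁).mkQ x, rfl⟩
  have hinj := OrzechProperty.injective_of_surjective_endomorphism ubar hsurj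
  have key : ∀ x, (d₁ ∘ₗ T + S ∘ₗ d₂) x ∈ LinearMap.range d₁ → x ∈ LinearMap.range d₁ := by
    intro x hx
    have h1 : ubar ((LinearMap.range d₁).mkQ x) = 0 :=
      (Submodule.Quotient.mk_eq_zero (LinearMap.range d₁)).2 hx
    have h2 := hinj (h1.trans (map_zero ubar).symm)
    exact (Submodule.Quotient.mk_eq_zero (LinearMap.range d₁)).1 h2
  let ue := LinearEquiv.ofBijective (d₁ ∘ₗ T + S ∘ₗ d₂) hu
  have hue : ∀ x, (d₁ ∘ₗ T + S ∘ₗ d₂) (ue.symm x) = x := fun x => ue.apply_symm_apply x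
  let π : F₂ →ₗ[A] LinearMap.range d₁ :=
    (ue.symm.toLinearMap ∘ₗ d₁ ∘ₗ T).codRestrict (LinearMap.range d₁) (fun x => key _ (by
      rw [LinearMap.comp_apply, LinearEquiv.coe_coe, hue]
      exact ⟨T x, rfl⟩))
  obtain ⟨t, ht⟩ := Module.projective_lifting_property d₁.rangeRestrict π
    (LinearMap.surjective_rangeRestrict d₁)
  refine ⟨t, ue.symm.toLinearMap ∘ₗ S, ?_⟩
  ext x
  have h1 : d₁ (t x) = ue.symm (d₁ (T x)) := by
    have := congrArg Subtype.val (LinearMap.congr_fun ht x)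
    simpa [π] using this
  simp only [LinearMap.add_apply, LinearMap.coe_comp, Function.comp_apply, LinearMap.id_coe, id_eq,
    LinearEquiv.coe_coe]
  rw [h1, ← map_add]
  exact ue.symm_apply_apply x

end split

section main
variable {R : Type u} [CommRing R] (p : Ideal R) [p.IsPrime]
variable {E₁ E₂ E₃ : Type u} [AddCommGroup E₁] [Module R E₁] [AddCommGroup E₂] [Module R E₂]
  [AddCommGroup E₃] [Module R E₃]

/-- a complex `E₁ → E₂ → E₃` with `E₂, E₃` finite free whose fibre at `p` is exact in the middle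
splits in the middle over `R_f` for some `f ∉ p`. -/
theorem alg [Module.Finite R E₂] [Module.Free R E₂] [Module.Finite R E₃] [Module.Free R E₃]
    (d₁ : E₁ →ₗ[R] E₂) (d₂ : E₂ →ₗ[R] E₃) (h0 : d₂ ∘ₗ d₁ = 0)
    (hex : ∀ x : p.ResidueField ⊗[R] E₂, d₂.baseChange p.ResidueField x = 0 →
      x ∈ LinearMap.range (d₁.baseChange p.ResidueField)) :
    ∃ f : R, f ∉ p ∧ ∃ (t : Localization.Away f ⊗[R] E₂ →ₗ[Localization.Away f]
        Localization.Away f ⊗[R] E₁)
      (s : Localization.Away f ⊗[R] E₃ →ₗ[Localization.Away f] Localization.Away f ⊗[R] E₂),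
      d₁.baseChange (Localization.Away f) ∘ₗ t + s ∘ₗ d₂.baseChange (Localization.Away f) =
        LinearMap.id := by
  obtain ⟨tb, sb, hts⟩ := field_split (d₁.baseChange p.ResidueField) (d₂.baseChange p.ResidueField) hex
  obtain ⟨b₁, hb₁, T, hT⟩ := exists_lift_smul p tb
  obtain ⟨b₂, hb₂, S, hS⟩ := exists_lift_smul p sb
  let U : E₂ →ₗ[R] E₂ := d₁ ∘ₗ (b₂ • T) + (b₁ • S) ∘ₗ d₂
  have hU : U.baseChange p.ResidueField = (b₁ * b₂) • LinearMap.id := by
    rw [LinearMap.baseChange_add, LinearMap.baseChange_comp, LinearMap.baseChange_comp,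
      LinearMap.baseChange_smul, LinearMap.baseChange_smul, hT, hS, ← hts]
    ext x
    simp only [LinearMap.add_apply, LinearMap.coe_comp, Function.comp_apply, LinearMap.smul_apply,
      map_smul, smul_add, TensorProduct.AlgebraTensorModule.curry_apply,
      LinearMap.restrictScalars_comp, TensorProduct.curry_apply, LinearMap.coe_restrictScalars]
    rw [LinearMap.map_smul_of_tower, LinearMap.map_smul_of_tower, smul_comm b₂ b₁, mul_smul, mul_smul]
  have hf : LinearMap.det U ∉ p := det_notMem p U (b₁ * b₂)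
    (fun h => (Ideal.IsPrime.mem_or_mem inferInstance h).elim hb₁ hb₂) hU
  refine ⟨LinearMap.det U, hf, ?_⟩
  have hdet : IsUnit (LinearMap.det (U.baseChange (Localization.Away (LinearMap.det U)))) := by
    rw [LinearMap.det_baseChange]
    exact IsLocalization.Away.algebraMap_isUnit _
  have hunit := (LinearMap.isUnit_iff_isUnit_det _).2 hdet
  have hbij : Function.Bijective (U.baseChange (Localization.Away (LinearMap.det U))) :=
    (Module.End.isUnit_iff _).1 hunit
  have hUA : U.baseChange (Localization.Away (LinearMap.det U)) =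
      d₁.baseChange (Localization.Away (LinearMap.det U)) ∘ₗ
        (b₂ • T).baseChange (Localization.Away (LinearMap.det U)) +
      (b₁ • S).baseChange (Localization.Away (LinearMap.det U)) ∘ₗ
        d₂.baseChange (Localization.Away (LinearMap.det U)) := by
    rw [LinearMap.baseChange_add, LinearMap.baseChange_comp, LinearMap.baseChange_comp]
  rw [hUA] at hbij
  exact split_of_bijective _ _ (by rw [← LinearMap.baseChange_comp, h0, LinearMap.baseChange_zero])
    _ _ hbij

end main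

end Groth.Agent.H4.PCSp
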