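import Mathlib
import Groth.Agent.H4.Perf1
import Groth.Agent.S6964

set_option autoImplicit false

/-!
# Perfect complexes with tor amplitude in `[a, b]` have projective amplitude in `[a, b]`
-/

namespace Groth.Agent.H4.Perf

universe u
open CategoryTheory CategoryTheory.Limits
attribute [local instance] HasDerivedCategory.standard
open DRing
open Groth.Agent.H4.LDer DerivedCategory Groth.Agent.H4.TorAmp Groth.Agent.H4.FlatAcyc
open Groth.Agent.H4.PC Groth.Agent.H4.DRing1
open MonoidalCategory

variable {R : Type u} [CommRing R]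

/-- a bounded above complex of finite projective modules, exact in degrees `< a`, with projective
cokernel of `d^{a-1}`, is represented by a complex of finite projectives in `[a, b]`. -/
theorem exists_rep_of_exactAt (P : Cx R) (a b : ℤ) (hb : ∀ i : ℤ, b < i → IsZero (P.X i))
    (hfp : ∀ i : ℤ, Module.Finite R (P.X i) ∧ Module.Projective R (P.X i))
    (h1 : ∀ i : ℤ, i < a → P.ExactAt i)
    (h2 : Module.Projective R (P.X a ⧸ LinearMap.range (P.d (a - 1) a).hom)) :
    ∃ E : Cx R, VanishesOutside E a b ∧ TermwiseFiniteProjective E ∧ Nonempty (toD E ≅ toD P) := by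
  haveI : P.IsGE a := by rw [CochainComplex.isGE_iff]; exact h1
  have hop : Module.Finite R (P.opcycles a) ∧ Module.Projective R (P.opcycles a) := by
    haveI := (hfp a).1
    have e := (opcyclesIso P (a - 1) a (by omega)).toLinearEquiv
    exact ⟨Module.Finite.equiv e.symm, Module.Projective.of_equiv e.symm⟩
  have hz : VanishesOutside (P.truncGE a) a b := by
    intro i hi
    rcases hi with hi | hi
    · exact (P.truncGE a).isZero_of_isStrictlyGE a i hi
    · by_cases hia : a < i
      · exact (hb i hi).of_iso (P.truncGEXIso a i hia)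
      · by_cases hia' : i < a
        · exact (P.truncGE a).isZero_of_isStrictlyGE a i hia'
        · obtain rfl : i = a := by omega
          refine IsZero.of_iso ?_ (P.truncGEXIsoOpcycles i)
          rw [IsZero.iff_id_eq_zero, ← cancel_epi (P.pOpcycles i)]
          exact (hb i hi).eq_of_src _ _
  have hfp' : TermwiseFiniteProjective (P.truncGE a) := by
    intro i
    by_cases hia : a < i
    · haveI := (hfp i).1
      haveI := (hfp i).2
      have e := (P.truncGEXIso a i hia).toLinearEquiv
      exact ⟨Module.Finite.equiv e.symm, Module.Projective.of_equiv e.symm⟩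
    · by_cases hia' : i < a
      · haveI := ModuleCat.subsingleton_of_isZero ((P.truncGE a).isZero_of_isStrictlyGE a i hia')
        exact ⟨inferInstance, inferInstance⟩
      · obtain rfl : i = a := by omega
        haveI := hop.1
        haveI := hop.2
        have e := (P.truncGEXIsoOpcycles i).toLinearEquiv
        exact ⟨Module.Finite.equiv e.symm, Module.Projective.of_equiv e.symm⟩
  exact ⟨P.truncGE a, hz, hfp', ⟨(asIso (Q.map (P.πTruncGE a))).symm⟩⟩

/-- a pseudo-coherent object with tor amplitude in `[a, b]` is represented by a complex of finite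
projective modules vanishing below `a` (and above some bound). -/
theorem exists_finProj_rep {K : Dual.D R} (h : IsPseudoCoherent' R K) {a b : ℤ}
    (ht : HasTorAmplitudeIn R a b K) :
    ∃ (E : Cx R) (c : ℤ), VanishesOutside E a c ∧ TermwiseFiniteProjective E ∧
      Nonempty (toD E ≅ K) := by
  obtain ⟨P, c, hc, hP, ⟨e⟩⟩ := h
  have ht' : HasTorAmplitudeIn R a b (toD P) := hasTorAmp_of_iso e.symm ht
  have hfl : TermwiseFlat P := fun i => by haveI := (hP i).2; infer_instance
  haveI := flat_coker_of_hasTorAmp P c hc hfl a b ht'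
  have hfp : Module.FinitePresentation R (P.X a ⧸ LinearMap.range (P.d (a - 1) a).hom) := by
    haveI := (hP a).1
    haveI := (hP a).2
    haveI := (hP (a - 1)).1
    haveI : Module.FinitePresentation R (P.X a) := Module.finitePresentation_of_projective R _
    refine Module.finitePresentation_of_surjective _ (Submodule.mkQ_surjective _) ?_
    rw [Submodule.ker_mkQ, LinearMap.range_eq_map]
    exact Module.Finite.fg_top.map _
  haveI : Module.Projective R (P.X a ⧸ LinearMap.range (P.d (a - 1) a).hom) :=
    Module.Flat.projective_of_finitePresentation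
  have hex : ∀ i : ℤ, i < a → P.ExactAt i := by
    intro i hi
    rw [HomologicalComplex.exactAt_iff_isZero_homology]
    exact (isZero_homology_of_hasTorAmp ht' i (Or.inl hi)).of_iso
      ((homologyFunctorFactors (ModuleCat.{u} R) i).app _).symm
  obtain ⟨E, hE1, hE2, ⟨e'⟩⟩ := exists_rep_of_exactAt P a c hc
    (fun i => ⟨(hP i).1, by haveI := (hP i).2; infer_instance⟩) hex inferInstance
  exact ⟨E, c, hE1, hE2, ⟨e' ≪≫ e⟩⟩

/-- a pseudo-coherent object with tor amplitude in `[a, b]` has projective amplitude in `[a, b]`. -/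
theorem exists_proj_rep {K : Dual.D R} (h : IsPseudoCoherent' R K) {a b : ℤ}
    (ht : HasTorAmplitudeIn R a b K) :
    ∃ P : DRing.Cx R, DRing.VanishesOutside P a b ∧ (∀ i : ℤ, Module.Projective R (P.X i)) ∧
        Nonempty (DRing.toD P ≅ K) := by
  obtain ⟨E, c, hE1, hE2, ⟨e⟩⟩ := exists_finProj_rep h ht
  have h1 : ∃ P : DRing.Cx R, DRing.VanishesOutside P a c ∧
      (∀ i : ℤ, Module.Projective R (P.X i)) ∧ Nonempty (DRing.toD P ≅ K) :=
    ⟨E, hE1, fun i => (hE2 i).2, ⟨e⟩⟩
  have h2 := ((Groth.Agent.S6964.result R K a c).out 0 1).1 h1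
  have h3 : (∀ n : ℤ, b < n → Subsingleton (Dual.HD R K n)) ∧
      ∀ (N : Type u) [AddCommGroup N] [Module R N] (i : ℤ), -a < i →
        Subsingleton (DRing.ExtD R K (Dual.inD R N) i) := by
    refine ⟨?_, ?_⟩
    · intro n hn
      exact ModuleCat.subsingleton_of_isZero (isZero_homology_of_hasTorAmp ht n (Or.inr hn))
    · intro N _ _ i hi
      exact h2 N i (Or.inr hi)
  exact ((Groth.Agent.S6964.result R K a b).out 0 2).2 h3

end Groth.Agent.H4.Perf
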