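import Mathlib
import Groth.Agent.H4.PCSp1
import Groth.Agent.H4.ProjAmp5
import Groth.Agent.H4.BC1
import Groth.Agent.H4.PC8
import Groth.Agent.H4.KProj5
import Groth.Agent.S7004
import Groth.Agent.S6976
set_option autoImplicit false
universe u
open CategoryTheory CategoryTheory.Limits CategoryTheory.Pretriangulated

namespace Groth.Agent.H4.PCSp2

attribute [local instance] HasDerivedCategory.standard
open DRing DerivedCategory TensorProduct

variable {R : Type u} [CommRing R]

/-- a bounded above complex of projectives which splits in degree `i` has no maps to `M[-i]`. -/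
theorem subsingleton_hom_of_split (P : Cx R) (b : ℤ) (hb : VanishesAbove P b)
    (hP : ∀ j, Module.Projective R (P.X j)) (i : ℤ)
    (t : P.X i ⟶ P.X (i - 1)) (s : P.X (i + 1) ⟶ P.X i)
    (hts : t ≫ P.d (i - 1) i + P.d i (i + 1) ≫ s = 𝟙 (P.X i))
    (M : Type u) [AddCommGroup M] [Module R M] :
    Subsingleton (toD P ⟶ (Dual.inD R M)⟦(-i : ℤ)⟧) := by
  haveI := Groth.Agent.H4.DRing1.isKProjective_of_vanishesAbove_projective P b hb hP
  have H : ∀ ξ : toD P ⟶ (Dual.inD R M)⟦(-i : ℤ)⟧, ξ = 0 := by
    intro ξ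
    let e := Groth.Agent.H4.ProjAmp.shI (ModuleCat.of R M) (-i) i (by simp)
    obtain ⟨f, hf⟩ := Groth.Agent.H3.PerfAux.exists_map_of_isKProjective P
      (Groth.Agent.H4.ProjAmp.sgl (ModuleCat.of R M) i) (ξ ≫ e.hom)
    have hk : P.d (i - 1) i ≫ f.f i = 0 := by
      rw [← f.comm (i - 1) i]
      have : (Groth.Agent.H4.ProjAmp.sgl (ModuleCat.of R M) i).d (i - 1) i = 0 :=
        HomologicalComplex.single_obj_d _ _ _ _ _
      rw [this, comp_zero]
    obtain ⟨Ho⟩ := Groth.Agent.H4.ProjAmp.homotopy_to_sgl P _ i f (s ≫ f.f i) (by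
      have h1 := congrArg (fun φ => φ ≫ f.f i) hts
      simp only [Preadditive.add_comp, Category.assoc, hk, comp_zero, zero_add,
        Category.id_comp] at h1
      exact h1.symm)
    rw [DerivedCategory.Q_map_eq_of_homotopy _ Ho, Functor.map_zero] at hf
    rw [← cancel_mono e.hom, ← hf, zero_comp]
  exact ⟨fun φ ψ => (H φ).trans (H ψ).symm⟩

section bridge
variable {B : Type u} [CommRing B] [Algebra R B]

/-- termwise extension of scalars of a complex. -/
noncomputable abbrev extCx (B : Type u) [CommRing B] [Algebra R B] (E : Cx R) : Cx B :=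
  ((ModuleCat.extendScalars.{u, u, u} (algebraMap R B)).mapHomologicalComplex
    (ComplexShape.up ℤ)).obj E

/-- the comparison with the tensor product. -/
noncomputable abbrev ee (B : Type u) [CommRing B] [Algebra R B] (E : Cx R) (j : ℤ) :
    (extCx B E).X j ≃ₗ[B] B ⊗[R] E.X j :=
  Groth.Agent.H8.ExtBridge.extEquiv (B := B) (E.X j)

lemma ee_d (E : Cx R) (j k : ℤ) (z : (extCx B E).X j) :
    ee B E k ((extCx B E).d j k z) = (E.d j k).hom.baseChange B (ee B E j z) :=
  Groth.Agent.H8.ExtBridge.extEquiv_map (B := B) (E.d j k) z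

theorem exact_of_exactAt (E : Cx R) (i : ℤ) (h : (extCx B E).ExactAt i) :
    ∀ x : B ⊗[R] E.X i, (E.d i (i + 1)).hom.baseChange B x = 0 →
      x ∈ LinearMap.range ((E.d (i - 1) i).hom.baseChange B) := by
  rw [HomologicalComplex.exactAt_iff' (extCx B E) (i - 1) i (i + 1) (by simp) (by simp),
    ShortComplex.moduleCat_exact_iff] at h
  intro x hx
  obtain ⟨w, hw⟩ := h ((ee B E i).symm x) (by
    refine (LinearEquiv.map_eq_zero_iff (ee B E (i + 1))).1 ?_
    change ee B E (i + 1) ((extCx B E).d i (i + 1) ((ee B E i).symm x)) = 0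
    rw [ee_d, LinearEquiv.apply_symm_apply, hx])
  refine ⟨ee B E (i - 1) w, ?_⟩
  have hw' : (extCx B E).d (i - 1) i w = (ee B E i).symm x := hw
  rw [← ee_d, hw', LinearEquiv.apply_symm_apply]

theorem split_transfer (E : Cx R) (i : ℤ)
    (t : B ⊗[R] E.X i →ₗ[B] B ⊗[R] E.X (i - 1)) (s : B ⊗[R] E.X (i + 1) →ₗ[B] B ⊗[R] E.X i)
    (hts : (E.d (i - 1) i).hom.baseChange B ∘ₗ t + s ∘ₗ (E.d i (i + 1)).hom.baseChange B =
      LinearMap.id) :
    ∃ (t' : (extCx B E).X i ⟶ (extCx B E).X (i - 1)) (s' : (extCx B E).X (i + 1) ⟶ (extCx B E).X i),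
      t' ≫ (extCx B E).d (i - 1) i + (extCx B E).d i (i + 1) ≫ s' = 𝟙 ((extCx B E).X i) := by
  let tl : (extCx B E).X i →ₗ[B] (extCx B E).X (i - 1) :=
    (ee B E (i - 1)).symm.toLinearMap ∘ₗ t ∘ₗ (ee B E i).toLinearMap
  let sl : (extCx B E).X (i + 1) →ₗ[B] (extCx B E).X i :=
    (ee B E i).symm.toLinearMap ∘ₗ s ∘ₗ (ee B E (i + 1)).toLinearMap
  refine ⟨ConcreteCategory.ofHom (C := ModuleCat B) (X := (extCx B E).X i)
      (Y := (extCx B E).X (i - 1)) tl,
    ConcreteCategory.ofHom (C := ModuleCat B) (X := (extCx B E).X (i + 1))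
      (Y := (extCx B E).X i) sl, ?_⟩
  ext z
  apply (ee B E i).injective
  have h1 := LinearMap.congr_fun hts (ee B E i z)
  simp only [LinearMap.add_apply, LinearMap.coe_comp, Function.comp_apply, LinearMap.id_coe,
    id_eq] at h1
  change ee B E i ((extCx B E).d (i - 1) i ((ee B E (i - 1)).symm (t (ee B E i z))) +
    (ee B E i).symm (s (ee B E (i + 1) ((extCx B E).d i (i + 1) z)))) = ee B E i z
  rw [map_add, ee_d, LinearEquiv.apply_symm_apply, LinearEquiv.apply_symm_apply, ee_d]
  exact h1

lemma termwiseFiniteFree_extCx (E : Cx R) (hE : TermwiseFiniteFree E) :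
    TermwiseFiniteFree (extCx B E) := by
  intro j
  haveI := (hE j).1
  haveI := (hE j).2
  exact ⟨Module.Finite.equiv (ee B E j).symm, Module.Free.of_equiv (ee B E j).symm⟩

lemma vanishesAbove_extCx (E : Cx R) (b : ℤ) (hE : VanishesAbove E b) :
    VanishesAbove (extCx B E) b := fun j hj =>
  (ModuleCat.extendScalars.{u, u, u} (algebraMap R B)).map_isZero (hE j hj)

end bridge

section main

open Groth.Agent.H4

theorem main (R : Type u) [CommRing R]
    (p : Ideal R) [p.IsPrime] [DRing.HasLBaseChange (algebraMap R p.ResidueField)] (i : ℤ) (K : DRing.Cx R)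
    (hK : DRing.IsPseudoCoherent' R (DRing.toD K))
    (hi : Subsingleton (Dual.HD p.ResidueField ((DRing.LBaseChange (algebraMap R p.ResidueField)).obj (DRing.toD K)) i)) :
    ∃ f : R, f ∉ p ∧
      let Kf := DRing.toD (((ModuleCat.extendScalars (algebraMap R (Localization.Away f))).mapHomologicalComplex
        (ComplexShape.up ℤ)).obj K)
      let t := (DerivedCategory.TStructure.t : Triangulated.TStructure (Dual.D (Localization.Away f)))
      let Kge := (t.truncGE (i + 1)).obj Kf
      let Klt := (t.truncLT i).obj Kf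
      DRing.IsPerfect (Localization.Away f) Kge ∧
        (∃ b : ℤ, DRing.HasTorAmplitudeIn (Localization.Away f) (i + 1) b Kge) ∧
        ∀ [HasBinaryBiproduct Kge Klt], ∃ e : Kf ≅ Kge ⊞ Klt,
          e.hom ≫ biprod.fst = (t.truncGEπ (i + 1)).app Kf ∧ (t.truncLTι i).app Kf ≫ e.hom = biprod.inr := by
  obtain ⟨E, b, hEb, hEff, ⟨eE⟩⟩ := hK
  have hEproj : ∀ j, Module.Projective R (E.X j) := fun j => by
    haveI := (hEff j).2
    infer_instance
  haveI := DRing1.isKProjective_of_vanishesAbove_projective E b hEb hEproj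
  -- exactness of the fibre at `p` in degree `i`
  have hex : (extCx p.ResidueField E).ExactAt i := by
    rw [HomologicalComplex.exactAt_iff_isZero_homology]
    have h0 : IsZero ((homologyFunctor (ModuleCat.{u} p.ResidueField) i).obj
        ((DRing.LBaseChange (algebraMap R p.ResidueField)).obj (toD K))) := by
      haveI := hi
      exact ModuleCat.isZero_of_subsingleton _
    let e1 : (DRing.LBaseChange (algebraMap R p.ResidueField)).obj (toD E) ≅
        toD (extCx p.ResidueField E) :=
      LDer.isoOfKProj (ModuleCat.extendScalars.{u, u, u} (algebraMap R p.ResidueField)) E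
    exact h0.of_iso (((homologyFunctorFactors (ModuleCat.{u} p.ResidueField) i).app
      (extCx p.ResidueField E)).symm ≪≫ (homologyFunctor _ i).mapIso
        (e1.symm ≪≫ (DRing.LBaseChange (algebraMap R p.ResidueField)).mapIso eE))
  haveI := (hEff i).1
  haveI := (hEff i).2
  haveI := (hEff (i + 1)).1
  haveI := (hEff (i + 1)).2
  obtain ⟨f, hf, t, s, hts⟩ := PCSp.alg p (E.d (i - 1) i).hom (E.d i (i + 1)).hom (by
    ext x
    have := E.d_comp_d (i - 1) i (i + 1)
    exact congrArg (fun φ => φ.hom x) this) (exact_of_exactAt E i hex)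
  refine ⟨f, hf, ?_⟩
  intro Kf tt Kge Klt
  obtain ⟨t', s', hts'⟩ := split_transfer (B := Localization.Away f) E i t s hts
  have hvan := vanishesAbove_extCx (B := Localization.Away f) E b hEb
  have hff := termwiseFiniteFree_extCx (B := Localization.Away f) E hEff
  have hproj : ∀ j, Module.Projective (Localization.Away f) ((extCx (Localization.Away f) E).X j) :=
    fun j => by
      haveI := (hff j).2
      infer_instance
  haveI : DRing.HasLBaseChange (algebraMap R (Localization.Away f)) := KProj.hasLBaseChange _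
  have hflat : (algebraMap R (Localization.Away f)).Flat :=
    RingHom.flat_algebraMap_iff.2 (IsLocalization.flat (Localization.Away f) (Submonoid.powers f))
  let ekf : Kf ≅ toD (extCx (Localization.Away f) E) :=
    (BC.isoOfFlatMap _ hflat K).symm ≪≫
      (DRing.LBaseChange (algebraMap R (Localization.Away f))).mapIso eE.symm ≪≫
      BC.isoOfFlatMap _ hflat E
  have hKb : ∃ b : ℤ, ∀ j : ℤ, b < j → Subsingleton (Dual.HD (Localization.Away f) Kf j) := by
    refine ⟨b, fun j hj => ?_⟩
    have hx : (extCx (Localization.Away f) E).ExactAt j :=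
      ShortComplex.exact_of_isZero_X₂ _ (hvan j hj)
    rw [HomologicalComplex.exactAt_iff_isZero_homology] at hx
    have h1 : IsZero ((homologyFunctor (ModuleCat.{u} (Localization.Away f)) j).obj Kf) :=
      hx.of_iso ((homologyFunctor _ j).mapIso ekf ≪≫
        (homologyFunctorFactors (ModuleCat.{u} (Localization.Away f)) j).app _)
    exact ModuleCat.subsingleton_of_isZero h1
  have hHom : ∀ (M : Type u) [AddCommGroup M] [Module (Localization.Away f) M],
      Subsingleton (Kf ⟶ (shiftFunctor (Dual.D (Localization.Away f)) (-i)).obj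
        (Dual.inD (Localization.Away f) M)) := by
    intro M _ _
    haveI := subsingleton_hom_of_split (extCx (Localization.Away f) E) b hvan hproj i t' s' hts' M
    refine ⟨fun φ ψ => ?_⟩
    rw [← cancel_epi ekf.inv]
    exact Subsingleton.elim _ _
  obtain ⟨⟨e, he1, he2⟩, P, b', hP, hPproj, ⟨ε⟩⟩ :=
    Groth.Agent.S7004.result (Localization.Away f) i Kf hKb hHom
  have hKfpc : IsPseudoCoherent' (Localization.Away f) Kf :=
    ⟨extCx (Localization.Away f) E, b, hvan, hff, ⟨ekf.symm⟩⟩
  have hgepc : IsPseudoCoherent' (Localization.Away f) Kge :=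
    (PC.isPC'_of_biprod Klt Kge (DRing1.isPseudoCoherent'_of_iso e hKfpc)).2
  obtain ⟨hperf, htor⟩ := (Groth.Agent.S6976.result (Localization.Away f) Kge hgepc (i + 1) b').1
    ⟨P, hP, hPproj, ⟨ε⟩⟩
  refine ⟨hperf, ⟨b', htor⟩, ?_⟩
  intro _
  refine ⟨e ≪≫ biprod.braiding Klt Kge, ?_, ?_⟩
  · rw [Iso.trans_hom, Category.assoc]
    simp only [biprod.braiding_hom, biprod.lift_fst]
    exact he2
  · rw [Iso.trans_hom, ← Category.assoc, he1]
    refine biprod.hom_ext _ _ ?_ ?_
    · rw [Category.assoc, biprod.braiding_hom, biprod.lift_fst]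
      exact biprod.inl_snd.trans biprod.inr_fst.symm
    · rw [Category.assoc, biprod.braiding_hom, biprod.lift_snd]
      exact biprod.inl_fst.trans biprod.inr_snd.symm

end main

end Groth.Agent.H4.PCSp2
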