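import Mathlib
import Groth.Agent.H4.FibGen
import Groth.Agent.Lib.Helper2.ConeE

open CategoryTheory CategoryTheory.Limits AlgebraicGeometry HomogeneousLocalization

universe u

namespace Groth.Agent.H4.PConeFib

open Groth.Agent.H4.FibGen (fu fu_val frac val_frac fibre_iso loft_of_charts exists_deg_one_notMem)

section Alg

variable {R A : Type u} [CommRing R] [CommRing A] [Algebra R A] (𝒜 : ℕ → Submodule R A)
  [GradedAlgebra 𝒜] {B : Type u} [CommRing B] [Algebra R B] (ℬ : ℕ → Submodule R B)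
  [GradedAlgebra ℬ] [Algebra A B] (φ : 𝒜 →+*ᵍ ℬ) (hφ : ∀ a : A, φ a = algebraMap A B a)
  (z : B) (hz : z ∈ ℬ 1) (hhat : Function.Bijective (Polynomial.aeval (R := A) z))
  (f : A) (hf : f ∈ 𝒜 1)

noncomputable def w : Away ℬ (φ f) :=
  Away.mk ℬ (GradedFunLike.map_mem φ hf) 1 z (by rwa [smul_eq_mul, mul_one])

lemma val_w : (w 𝒜 ℬ φ z hz f hf).val =
    Localization.mk z (⟨(φ f) ^ 1, 1, rfl⟩ : Submonoid.powers (φ f)) := rfl

noncomputable def Θ : Polynomial (Away 𝒜 f) →+* Away ℬ (φ f) :=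
  Polynomial.eval₂RingHom (Away.map φ f) (w 𝒜 ℬ φ z hz f hf)

lemma Θ_C (c : Away 𝒜 f) : Θ 𝒜 ℬ φ z hz f hf (Polynomial.C c) = Away.map φ f c :=
  Polynomial.eval₂_C _ _

lemma Θ_X : Θ 𝒜 ℬ φ z hz f hf Polynomial.X = w 𝒜 ℬ φ z hz f hf := Polynomial.eval₂_X _ _

noncomputable def κB : B →+* Polynomial A :=
  ((AlgEquiv.ofBijective (Polynomial.aeval (R := A) z) hhat).symm :
    B ≃ₐ[A] Polynomial A).toAlgHom.toRingHom

lemma κB_algebraMap (a : A) : κB z hhat (algebraMap A B a) = Polynomial.C a := by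
  show (AlgEquiv.ofBijective (Polynomial.aeval (R := A) z) hhat).symm (algebraMap A B a) = _
  rw [AlgEquiv.symm_apply_eq, AlgEquiv.ofBijective_apply, Polynomial.aeval_C]

lemma κB_z : κB z hhat z = Polynomial.X := by
  show (AlgEquiv.ofBijective (Polynomial.aeval (R := A) z) hhat).symm z = _
  rw [AlgEquiv.symm_apply_eq, AlgEquiv.ofBijective_apply, Polynomial.aeval_X]

noncomputable def μ : B →+* Polynomial (Localization.Away f) :=
  (Polynomial.mapRingHom (algebraMap A (Localization.Away f))).comp (κB z hhat)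

lemma μ_algebraMap (a : A) :
    μ z hhat f (algebraMap A B a) = Polynomial.C (algebraMap A (Localization.Away f) a) := by
  show Polynomial.map _ (κB z hhat (algebraMap A B a)) = _
  rw [κB_algebraMap, Polynomial.map_C]

lemma μ_z : μ z hhat f z = Polynomial.X := by
  show Polynomial.map _ (κB z hhat z) = _
  rw [κB_z, Polynomial.map_X]

include hφ in
lemma μ_φ (a : A) :
    μ z hhat f (φ a) = Polynomial.C (algebraMap A (Localization.Away f) a) := by
  rw [hφ, μ_algebraMap]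

lemma isUnit_Cf : IsUnit (Polynomial.C (algebraMap A (Localization.Away f) f)) :=
  (IsLocalization.Away.algebraMap_isUnit (S := Localization.Away f) f).map Polynomial.C

include hφ in
lemma isUnit_μ : IsUnit (μ z hhat f (φ f)) := by
  rw [μ_φ 𝒜 ℬ φ hφ z hhat f f]
  exact isUnit_Cf f

noncomputable def ρ : Localization.Away (φ f) →+* Polynomial (Localization.Away f) :=
  IsLocalization.Away.lift (φ f) (isUnit_μ 𝒜 ℬ φ hφ z hhat f)

lemma ρ_algebraMap (b : B) :
    ρ 𝒜 ℬ φ hφ z hhat f (algebraMap B _ b) = μ z hhat f b :=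
  IsLocalization.Away.lift_eq _ _ b

lemma ρ_mk (n : ℕ) (b : B) :
    ρ 𝒜 ℬ φ hφ z hhat f (Localization.mk b (⟨(φ f) ^ n, n, rfl⟩ : Submonoid.powers (φ f))) *
      Polynomial.C (algebraMap A (Localization.Away f) f) ^ n = μ z hhat f b := by
  have h1 : Localization.mk b (⟨(φ f) ^ n, n, rfl⟩ : Submonoid.powers (φ f)) *
      algebraMap B (Localization.Away (φ f)) ((φ f) ^ n) = algebraMap B _ b := by
    rw [Localization.mk_eq_mk']
    exact IsLocalization.mk'_spec _ b (⟨(φ f) ^ n, n, rfl⟩ : Submonoid.powers (φ f))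
  have h2 := congrArg (ρ 𝒜 ℬ φ hφ z hhat f) h1
  rw [map_mul, ρ_algebraMap, ρ_algebraMap, map_pow, μ_φ 𝒜 ℬ φ hφ z hhat f f] at h2
  exact h2

noncomputable def Λ : Away ℬ (φ f) →+* Polynomial (Localization.Away f) :=
  (ρ 𝒜 ℬ φ hφ z hhat f).comp (algebraMap (Away ℬ (φ f)) (Localization.Away (φ f)))

lemma Λ_mk (n : ℕ) (b : B) (hb : b ∈ ℬ (n • 1)) :
    Λ 𝒜 ℬ φ hφ z hhat f (Away.mk ℬ (GradedFunLike.map_mem φ hf) n b hb) *
      Polynomial.C (algebraMap A (Localization.Away f) f) ^ n = μ z hhat f b :=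
  ρ_mk 𝒜 ℬ φ hφ z hhat f n b

noncomputable def uf : Localization.Away f := (((fu f)⁻¹ : (Localization.Away f)ˣ) : _)

lemma uf_mul : uf f * algebraMap A (Localization.Away f) f = 1 := by
  rw [← fu_val]
  exact Units.inv_mul _

noncomputable def σ : Polynomial (Away 𝒜 f) →+* Polynomial (Localization.Away f) :=
  (Polynomial.compRingHom (Polynomial.C (uf f) * Polynomial.X)).comp
    (Polynomial.mapRingHom (algebraMap (Away 𝒜 f) (Localization.Away f)))

lemma σ_apply (p : Polynomial (Away 𝒜 f)) :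
    σ 𝒜 f p = (p.map (algebraMap (Away 𝒜 f) (Localization.Away f))).comp
      (Polynomial.C (uf f) * Polynomial.X) := rfl

lemma σ_injective : Function.Injective (σ 𝒜 f) := by
  rw [injective_iff_map_eq_zero]
  intro p hp
  ext n
  have h := congrArg (fun q => q.coeff n) hp
  simp only [σ_apply, Polynomial.comp_C_mul_X_coeff, Polynomial.coeff_map,
    Polynomial.coeff_zero] at h
  have h2 : algebraMap (Away 𝒜 f) (Localization.Away f) (p.coeff n) = 0 := by
    have h3 := congrArg (· * (algebraMap A (Localization.Away f) f) ^ n) h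
    simp only [zero_mul, mul_assoc, ← mul_pow, uf_mul, one_pow, mul_one] at h3
    exact h3
  rw [Polynomial.coeff_zero]
  rw [val_zero]
  exact h2

lemma ΛΘ : (Λ 𝒜 ℬ φ hφ z hhat f).comp (Θ 𝒜 ℬ φ z hz f hf) = σ 𝒜 f := by
  apply Polynomial.ringHom_ext
  · intro c
    obtain ⟨n, a, ha, rfl⟩ := Away.mk_surjective 𝒜 hf c
    rw [← ((isUnit_Cf f).pow n).mul_left_inj, RingHom.comp_apply, Θ_C, Away.map_mk,
      Λ_mk 𝒜 ℬ φ hφ z hhat f hf, μ_φ 𝒜 ℬ φ hφ z hhat f a, σ_apply, Polynomial.map_C,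
      Polynomial.C_comp, ← Polynomial.C_pow, ← Polynomial.C_mul]
    congr 1
    show _ = (Away.mk 𝒜 hf n a ha).val * _
    rw [Away.val_mk, ← map_pow, Localization.mk_eq_mk']
    exact (IsLocalization.mk'_spec _ a (⟨f ^ n, n, rfl⟩ : Submonoid.powers f)).symm
  · rw [← ((isUnit_Cf f).pow 1).mul_left_inj, RingHom.comp_apply, Θ_X]
    unfold w
    rw [Λ_mk 𝒜 ℬ φ hφ z hhat f hf, μ_z, σ_apply, Polynomial.map_X, Polynomial.X_comp, pow_one,
      mul_right_comm, ← Polynomial.C_mul, uf_mul, Polynomial.C_1, one_mul]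

include hφ in
lemma surj_aux (P : Polynomial A) (n : ℕ) :
    Localization.mk ((DirectSum.decompose ℬ (Polynomial.aeval z P) n : ℬ n) : B)
      (⟨(φ f) ^ n, n, rfl⟩ : Submonoid.powers (φ f)) ∈
      ((algebraMap (Away ℬ (φ f)) (Localization.Away (φ f))).comp
        (Θ 𝒜 ℬ φ z hz f hf)).range := by
  induction P using Polynomial.induction_on' with
  | add p q hp hq =>
    rw [map_add, DirectSum.decompose_add, DirectSum.add_apply, Submodule.coe_add,
      ← Localization.add_mk_self]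
    exact add_mem hp hq
  | monomial k a =>
    have hzk : z ^ k ∈ ℬ k := by
      have := SetLike.pow_mem_graded k hz
      rwa [smul_eq_mul, mul_one] at this
    rw [Polynomial.aeval_monomial]
    by_cases hk : k ≤ n
    · rw [DirectSum.coe_decompose_mul_of_right_mem_of_le ℬ hzk hk, ← hφ,
        ← GradedRingHom.map_directSumDecompose]
      obtain ⟨a', ha', hda⟩ : ∃ a' : A, ∃ _ : a' ∈ 𝒜 (n - k),
          ((DirectSum.decompose 𝒜 a (n - k) : 𝒜 (n - k)) : A) = a' :=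
        ⟨_, SetLike.coe_mem _, rfl⟩
      rw [hda]
      refine ⟨Polynomial.C (frac 𝒜 hf (n - k) a' ha') * Polynomial.X ^ k, ?_⟩
      rw [RingHom.comp_apply, map_mul, map_pow, Θ_C, Θ_X]
      show (Away.map φ f (frac 𝒜 hf (n - k) a' ha') * (w 𝒜 ℬ φ z hz f hf) ^ k).val = _
      rw [val_mul, val_pow, val_w]
      unfold frac
      rw [Away.map_mk, Away.val_mk, Localization.mk_pow, Localization.mk_mul]
      congr 1
      apply Subtype.ext
      show (φ f) ^ (n - k) * ((φ f) ^ 1) ^ k = (φ f) ^ n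
      rw [pow_one, ← pow_add, Nat.sub_add_cancel hk]
    · rw [DirectSum.coe_decompose_mul_of_right_mem_of_not_le ℬ hzk hk, Localization.mk_zero]
      exact zero_mem _

include hφ hhat in
lemma Θ_surjective : Function.Surjective (Θ 𝒜 ℬ φ z hz f hf) := by
  intro s
  obtain ⟨n, b, hb, rfl⟩ := Away.mk_surjective ℬ (GradedFunLike.map_mem φ hf) s
  have hb' : b ∈ ℬ n := by rwa [smul_eq_mul, mul_one] at hb
  obtain ⟨P, rfl⟩ := hhat.2 b
  obtain ⟨q, hq⟩ := surj_aux 𝒜 ℬ φ hφ z hz f hf P n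
  refine ⟨q, HomogeneousLocalization.val_injective _ ?_⟩
  rw [Away.val_mk]
  rw [DirectSum.decompose_of_mem_same ℬ hb'] at hq
  exact hq

include hφ hhat in
lemma Θ_injective : Function.Injective (Θ 𝒜 ℬ φ z hz f hf) := by
  intro x y hxy
  apply σ_injective 𝒜 f
  rw [← ΛΘ 𝒜 ℬ φ hφ z hz hhat f hf, RingHom.comp_apply, RingHom.comp_apply, hxy]

noncomputable def E : Polynomial (Away 𝒜 f) ≃+* Away ℬ (φ f) :=
  RingEquiv.ofBijective (Θ 𝒜 ℬ φ z hz f hf)
    ⟨Θ_injective 𝒜 ℬ φ hφ z hz hhat f hf, Θ_surjective 𝒜 ℬ φ hφ z hz hhat f hf⟩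

include hφ hz hhat hf in
lemma finiteType_map : (Away.map φ f).FiniteType := by
  have h1 : Away.map φ f = (Θ 𝒜 ℬ φ z hz f hf).comp Polynomial.C :=
    RingHom.ext fun c => (Θ_C 𝒜 ℬ φ z hz f hf c).symm
  rw [h1]
  refine RingHom.FiniteType.comp (RingHom.FiniteType.of_surjective _
    (Θ_surjective 𝒜 ℬ φ hφ z hz hhat f hf)) ?_
  have h2 : (Polynomial.C : Away 𝒜 f →+* _) =
      algebraMap (Away 𝒜 f) (Polynomial (Away 𝒜 f)) :=
    RingHom.ext fun c => Polynomial.C_eq_algebraMap c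
  rw [h2]
  exact RingHom.finiteType_algebraMap.mpr inferInstance

attribute [local instance] Polynomial.algebra in
include hφ hz hhat hf in
lemma exists_pushout' {K : CommRingCat.{u}} (φ' : CommRingCat.of (Away 𝒜 f) ⟶ K) :
    ∃ β : CommRingCat.of (Away ℬ (φ f)) ⟶ CommRingCat.of (Polynomial K),
      IsPushout (CommRingCat.ofHom (Away.map φ f)) φ' β
        (CommRingCat.ofHom (algebraMap K (Polynomial K))) := by
  let _ : Algebra (Away 𝒜 f) K := φ'.hom.toAlgebra
  have hbase := CommRingCat.isPushout_of_isPushout (Away 𝒜 f) (Polynomial (Away 𝒜 f)) K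
    (Polynomial K)
  let e₂ : CommRingCat.of (Polynomial (Away 𝒜 f)) ≅ CommRingCat.of (Away ℬ (φ f)) :=
    (E 𝒜 ℬ φ hφ z hz hhat f hf).toCommRingCatIso
  refine ⟨e₂.inv ≫ CommRingCat.ofHom (algebraMap (Polynomial (Away 𝒜 f))
    (Polynomial K)), ?_⟩
  refine hbase.of_iso (Iso.refl _) e₂ (Iso.refl _) (Iso.refl _) ?_ ?_ ?_ ?_
  · apply CommRingCat.hom_ext
    apply RingHom.ext
    intro c
    show (E 𝒜 ℬ φ hφ z hz hhat f hf) (algebraMap _ _ c) = Away.map φ f c
    rw [← Polynomial.C_eq_algebraMap]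
    exact Θ_C 𝒜 ℬ φ z hz f hf c
  · ext c
    rfl
  · simp
  · simp

end Alg

section Main

variable {R A : Type u} [CommRing R] [CommRing A] [Algebra R A] (𝒜 : ℕ → Submodule R A)
  [GradedAlgebra 𝒜] {B : Type u} [CommRing B] [Algebra R B] (ℬ : ℕ → Submodule R B)
  [GradedAlgebra ℬ] (φ : 𝒜 →+*ᵍ ℬ)

lemma exists_pchart_deg_one
    (hgen : (HomogeneousIdeal.irrelevant 𝒜).toIdeal = Ideal.span (𝒜 1 : Set A))
    (q : (PCone.dom φ : Scheme.{u})) :
    ∃ f, ∃ hf : f ∈ 𝒜 1, q ∈ Set.range (PCone.chart φ hf one_pos) := by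
  obtain ⟨d, f, hd, hf, hq⟩ := Groth.Agent.H2.Cone.exists_mem_range_pchart φ q
  rw [Groth.Agent.H2.Cone.mem_range_pchart_iff] at hq
  have hq' : φ f ∉ ((PCone.dom φ).ι q : ProjectiveSpectrum ℬ).asHomogeneousIdeal :=
    (Proj.mem_basicOpen ℬ (φ f) _).mp hq
  by_contra hcon
  push Not at hcon
  apply hq'
  have hfmem : f ∈ (HomogeneousIdeal.irrelevant 𝒜).toIdeal := by
    rw [HomogeneousIdeal.mem_iff, HomogeneousIdeal.mem_irrelevant_iff, GradedRing.proj_apply,
      DirectSum.decompose_of_mem_ne 𝒜 hf hd.ne']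
  rw [hgen] at hfmem
  have hle : Ideal.span (𝒜 1 : Set A) ≤ Ideal.comap φ
      ((PCone.dom φ).ι q : ProjectiveSpectrum ℬ).asHomogeneousIdeal.toIdeal := by
    rw [Ideal.span_le]
    intro b hb
    by_contra hb'
    exact hcon b hb ((Groth.Agent.H2.Cone.mem_range_pchart_iff φ hb one_pos q).mpr
      ((Proj.mem_basicOpen ℬ (φ b) _).mpr hb'))
  exact hle hfmem

end Main

theorem main_S3598 {R A : Type u} [CommRing R] [CommRing A] [Algebra R A] (𝒜 : ℕ → Submodule R A) [GradedAlgebra 𝒜]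
    {B : Type u} [CommRing B] [Algebra R B] (ℬ : ℕ → Submodule R B) [GradedAlgebra ℬ]
    [Algebra A B] [IsScalarTower R A B] (φ : 𝒜 →+*ᵍ ℬ) (hφ : ∀ a : A, φ a = algebraMap A B a)
    (z : B) (hz : z ∈ ℬ 1) (hhat : Function.Bijective (Polynomial.aeval (R := A) z))
    (hgen : (HomogeneousIdeal.irrelevant 𝒜).toIdeal = Ideal.span (𝒜 1 : Set A))
    (p : (PCone.dom φ : Scheme.{u}) ⟶ Proj 𝒜) (hp : ∀ (d : ℕ) (f : A) (hd : 0 < d) (hf : f ∈ 𝒜 d),
        PCone.chart φ hf hd ≫ p =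
          Spec.map (CommRingCat.ofHom (HomogeneousLocalization.Away.map φ f)) ≫ Proj.awayι 𝒜 f hf hd) (x : Proj 𝒜) :
    LocallyOfFiniteType p ∧ QuasiCompact p ∧
      ∃ e : pullback p ((Proj 𝒜).fromSpecResidueField x) ≅
          Spec (CommRingCat.of (Polynomial ((Proj 𝒜).residueField x))),
        e.hom ≫ Spec.map (CommRingCat.ofHom (algebraMap ((Proj 𝒜).residueField x)
          (Polynomial ((Proj 𝒜).residueField x)))) = pullback.snd p ((Proj 𝒜).fromSpecResidueField x) := by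
  have haff : IsAffineHom p := Groth.Agent.H2.Cone.isAffineHom_p φ p hp
  refine ⟨?_, inferInstance, ?_⟩
  · refine loft_of_charts p (J := {f : A // f ∈ 𝒜 1})
      (fun f => CommRingCat.of (Away 𝒜 f.1)) (fun f => CommRingCat.of (Away ℬ (φ f.1)))
      (fun f => Proj.awayι 𝒜 f.1 f.2 one_pos) (fun f => PCone.chart φ f.2 one_pos)
      (fun f => CommRingCat.ofHom (Away.map φ f.1))
      (fun f => hp 1 f.1 one_pos f.2) ?_ ?_
    · intro q
      obtain ⟨f, hf, hq⟩ := exists_pchart_deg_one 𝒜 ℬ φ hgen q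
      exact ⟨⟨f, hf⟩, hq⟩
    · intro f
      exact finiteType_map 𝒜 ℬ φ hφ z hz hhat f.1 f.2
  · obtain ⟨f, hf, hfx⟩ := exists_deg_one_notMem 𝒜 hgen x
    refine fibre_iso p x (Proj.awayι 𝒜 f hf one_pos) (PCone.chart φ hf one_pos)
      (CommRingCat.ofHom (Away.map φ f)) (hp 1 f one_pos hf) ?_ ?_
      (CommRingCat.of (Polynomial ((Proj 𝒜).residueField x)))
      (CommRingCat.ofHom (algebraMap ((Proj 𝒜).residueField x)
        (Polynomial ((Proj 𝒜).residueField x)))) ?_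
    · have : x ∈ (Proj.awayι 𝒜 f hf one_pos).opensRange := by
        rw [Proj.opensRange_awayι]
        exact (Proj.mem_basicOpen 𝒜 f x).mpr hfx
      exact this
    · rw [Proj.opensRange_awayι, Groth.Agent.H2.Cone.p_preimage_basicOpen φ p hp f,
        Groth.Agent.H2.Cone.ι_preimage_basicOpen_eq_opensRange φ hf one_pos]
    · intro φ'
      exact exists_pushout' 𝒜 ℬ φ hφ z hz hhat f hf φ'

end Groth.Agent.H4.PConeFib
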