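import Mathlib
import Groth.Agent.H4.GrEvPow
import Groth.Agent.H4.ProjG

set_option autoImplicit false
set_option linter.style.haveILetI false
set_option linter.unusedSectionVars false
set_option linter.unusedVariables false

namespace Groth.Agent.H4.PConeIso

open CategoryTheory CategoryTheory.Limits AlgebraicGeometry TopologicalSpace Opposite
open HomogeneousLocalization
open scoped HomogeneousIdeal

universe u

section Ring

variable {R A B : Type u} [CommRing R] [CommRing A] [Algebra R A]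
  {𝒜 : ℕ → Submodule R A} [GradedAlgebra 𝒜] [CommRing B] [Algebra R B]
  {ℬ : ℕ → Submodule R B} [GradedAlgebra ℬ] (φ : 𝒜 →+*ᵍ ℬ)

theorem awayMap_bijective_of_bijOn_ge (d₀ : ℕ)
    (hbij : ∀ n : ℕ, d₀ ≤ n → Set.BijOn φ (𝒜 n) (ℬ n))
    {d : ℕ} (hd : 0 < d) (s : A) (hs : s ∈ 𝒜 d) :
    Function.Bijective (HomogeneousLocalization.Away.map φ s) := by
  constructor
  · rw [injective_iff_map_eq_zero]
    intro x hx
    obtain ⟨n, a, ha, rfl⟩ := HomogeneousLocalization.Away.mk_surjective 𝒜 hs x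
    rw [HomogeneousLocalization.Away.map_mk] at hx
    have h1 := congrArg HomogeneousLocalization.val hx
    rw [HomogeneousLocalization.Away.val_mk, HomogeneousLocalization.val_zero,
      Localization.mk_eq_mk', IsLocalization.mk'_eq_zero_iff] at h1
    obtain ⟨⟨_, m, rfl⟩, hm⟩ := h1
    have hm' : φ s ^ m * φ a = 0 := hm
    have h2 : φ (s ^ (m + d₀) * a) = 0 := by
      rw [map_mul, map_pow, pow_add, mul_assoc, mul_comm (φ s ^ d₀), ← mul_assoc, hm', zero_mul]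
    have hmem : s ^ (m + d₀) * a ∈ 𝒜 ((m + d₀) • d + n • d) :=
      SetLike.mul_mem_graded (SetLike.pow_mem_graded _ hs) ha
    have hge : d₀ ≤ (m + d₀) • d + n • d := by
      simp only [smul_eq_mul]
      nlinarith
    have h3 : s ^ (m + d₀) * a = 0 :=
      (hbij _ hge).injOn hmem (zero_mem _) (by rw [h2, map_zero])
    apply HomogeneousLocalization.val_injective
    rw [HomogeneousLocalization.Away.val_mk, HomogeneousLocalization.val_zero,
      Localization.mk_eq_mk', IsLocalization.mk'_eq_zero_iff]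
    exact ⟨⟨s ^ (m + d₀), m + d₀, rfl⟩, h3⟩
  · intro y
    obtain ⟨n, b, hb, rfl⟩ := HomogeneousLocalization.Away.mk_surjective ℬ (φ.2 hs) y
    have hmem : b * φ s ^ d₀ ∈ ℬ ((n + d₀) • d) := by
      have := SetLike.mul_mem_graded hb (SetLike.pow_mem_graded d₀ (φ.2 hs))
      rwa [show n • d + d₀ • d = (n + d₀) • d by simp [add_mul]] at this
    have hge : d₀ ≤ (n + d₀) • d := by
      simp only [smul_eq_mul]
      nlinarith
    obtain ⟨a, ha, hab⟩ := (hbij _ hge).surjOn hmem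
    refine ⟨HomogeneousLocalization.Away.mk 𝒜 hs (n + d₀) a ha, ?_⟩
    rw [HomogeneousLocalization.Away.map_mk]
    apply HomogeneousLocalization.val_injective
    rw [HomogeneousLocalization.Away.val_mk, HomogeneousLocalization.Away.val_mk,
      Localization.mk_eq_mk_iff, Localization.r_iff_exists]
    refine ⟨1, ?_⟩
    simp only [OneMemClass.coe_one, one_mul]
    rw [hab, pow_add]
    change φ s ^ n * (b * φ s ^ d₀) = φ s ^ n * φ s ^ d₀ * b
    ring

theorem dom_eq_top_of_bijOn_ge (d₀ : ℕ)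
    (hbij : ∀ n : ℕ, d₀ ≤ n → Set.BijOn φ (𝒜 n) (ℬ n)) : PCone.dom φ = ⊤ := by
  rw [eq_top_iff]
  intro y _
  obtain ⟨m, hm, b, hb, hyb⟩ : ∃ (m : ℕ) (_ : 0 < m) (b : B) (_ : b ∈ ℬ m),
      y ∈ Proj.basicOpen ℬ b := by
    obtain ⟨i, w, hw⟩ := (Proj.affineOpenCover ℬ).openCover.exists_eq y
    refine ⟨i.1, i.1.2, i.2.1, i.2.2, ?_⟩
    rw [← Proj.opensRange_awayι ℬ i.2.1 i.2.2 i.1.2]
    exact ⟨w, hw⟩
  have hmem : b ^ (d₀ + 1) ∈ ℬ ((d₀ + 1) • m) := SetLike.pow_mem_graded _ hb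
  have hge : d₀ ≤ (d₀ + 1) • m := by
    simp only [smul_eq_mul]
    nlinarith
  obtain ⟨a, ha, hab⟩ := (hbij _ hge).surjOn hmem
  have hpos : 0 < (d₀ + 1) • m := by simp only [smul_eq_mul]; positivity
  refine Opens.mem_iSup.mpr ⟨⟨a, _, hpos, ha⟩, ?_⟩
  show y ∈ Proj.basicOpen ℬ (φ a)
  rw [hab, Proj.basicOpen_pow ℬ b (d₀ + 1) (Nat.succ_pos d₀)]
  exact hyb

end Ring

theorem isPullback_chart {R A : Type u} [CommRing R] [CommRing A] [Algebra R A] {𝒜 : ℕ → Submodule R A} [GradedAlgebra 𝒜]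
    {B : Type u} [CommRing B] [Algebra R B] {ℬ : ℕ → Submodule R B} [GradedAlgebra ℬ] (ψ : 𝒜 →+*ᵍ ℬ)
    (r : (PCone.dom ψ : Scheme.{u}) ⟶ Proj 𝒜)
    (hr : ∀ (d : ℕ) (f : A) (hd : 0 < d) (hf : f ∈ 𝒜 d),
      PCone.chart ψ hf hd ≫ r =
        Spec.map (CommRingCat.ofHom (HomogeneousLocalization.Away.map ψ f)) ≫ Proj.awayι 𝒜 f hf hd)
    {d : ℕ} (hd : 0 < d) (f : A) (hf : f ∈ 𝒜 d) :
    IsPullback (Spec.map (CommRingCat.ofHom (HomogeneousLocalization.Away.map ψ f)))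
      (PCone.chart ψ hf hd) (Proj.awayι 𝒜 f hf hd) r := by
  apply IsOpenImmersion.isPullback
  · exact hr d f hd hf
  · have h1 : (PCone.chart ψ hf hd).opensRange = r ⁻¹ᵁ Proj.basicOpen 𝒜 f := by
      rw [Groth.Agent.H2.Cone.p_preimage_basicOpen ψ r hr,
        Groth.Agent.H2.Cone.ι_preimage_basicOpen_eq_opensRange ψ hf hd]
    have h2 : (Proj.awayι 𝒜 f hf hd).opensRange = Proj.basicOpen 𝒜 f :=
      Proj.opensRange_awayι 𝒜 f hf hd
    show r ⁻¹ᵁ (Proj.awayι 𝒜 f hf hd).opensRange = _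
    rw [h2, h1]

theorem main_S9572 {R A : Type u} [CommRing R] [CommRing A] [Algebra R A] (𝒜 : ℕ → Submodule R A) [GradedAlgebra 𝒜]
    {B : Type u} [CommRing B] [Algebra R B] (ℬ : ℕ → Submodule R B) [GradedAlgebra ℬ] (ψ : 𝒜 →+*ᵍ ℬ)
    (d₀ : ℕ) (hbij : ∀ d : ℕ, d₀ ≤ d → Set.BijOn ψ (𝒜 d) (ℬ d))
    (r : (PCone.dom ψ : Scheme.{u}) ⟶ Proj 𝒜)
    (hr : ∀ (d : ℕ) (f : A) (hd : 0 < d) (hf : f ∈ 𝒜 d),
      PCone.chart ψ hf hd ≫ r =
        Spec.map (CommRingCat.ofHom (HomogeneousLocalization.Away.map ψ f)) ≫ Proj.awayι 𝒜 f hf hd) :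
    PCone.dom ψ = ⊤ ∧ IsIso r := by
  refine ⟨dom_eq_top_of_bijOn_ge ψ d₀ hbij, ?_⟩
  refine Groth.Agent.H4.ProjG.of_isPullback_openCover (P := MorphismProperty.isomorphisms Scheme.{u}) r
    (Proj.affineOpenCover 𝒜).openCover
    (fun i => Spec (.of (HomogeneousLocalization.Away ℬ (ψ i.2.1))))
    (fun i => Spec.map (CommRingCat.ofHom (HomogeneousLocalization.Away.map ψ i.2.1)))
    (fun i => PCone.chart ψ i.2.2 i.1.2)
    (fun i => ?_) ?_
  · exact isPullback_chart ψ r hr i.1.2 i.2.1 i.2.2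
  · intro i
    have hb := awayMap_bijective_of_bijOn_ge ψ d₀ hbij i.1.2 i.2.1 i.2.2
    have : IsIso (CommRingCat.ofHom (HomogeneousLocalization.Away.map ψ i.2.1)) := by
      rw [ConcreteCategory.isIso_iff_bijective]
      exact hb
    change IsIso (Spec.map (CommRingCat.ofHom (HomogeneousLocalization.Away.map ψ i.2.1)))
    infer_instance

end Groth.Agent.H4.PConeIso
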