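import Mathlib
import Groth.Prelude.Def_Conn

open TensorProduct

namespace Groth.Agent.H4.PCurv

section Aseq
variable {B : Type*} [CommRing B]

/-- coefficients of `(c·D)^n` in powers of `D`. -/
def aseq (δ : B → B) (c : B) : ℕ → ℕ → B
  | 0, 0 => 1
  | 0, (_ + 1) => 0
  | (n + 1), 0 => c * δ (aseq δ c n 0)
  | (n + 1), (k + 1) => c * δ (aseq δ c n (k + 1)) + c * aseq δ c n k

lemma aseq_eq_zero_of_lt (δ : B → B) (hδ0 : δ 0 = 0) (c : B) :
    ∀ (n k : ℕ), n < k → aseq δ c n k = 0 := by
  intro n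
  induction n with
  | zero =>
    intro k hk
    cases k with
    | zero => omega
    | succ k => rfl
  | succ n ih =>
    intro k hk
    cases k with
    | zero => omega
    | succ k =>
      show c * δ (aseq δ c n (k + 1)) + c * aseq δ c n k = 0
      rw [ih (k + 1) (by omega), ih k (by omega), hδ0, mul_zero, add_zero]

lemma aseq_diag (δ : B → B) (hδ0 : δ 0 = 0) (c : B) : ∀ n, aseq δ c n n = c ^ n := by
  intro n
  induction n with
  | zero => exact (pow_zero c).symm
  | succ n ih =>
    show c * δ (aseq δ c n (n + 1)) + c * aseq δ c n n = c ^ (n + 1)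
    rw [aseq_eq_zero_of_lt δ hδ0 c n (n + 1) (Nat.lt_succ_self n), hδ0, mul_zero, zero_add, ih,
      pow_succ']

lemma aseq_col_zero (δ : B → B) (hδ0 : δ 0 = 0) (hδ1 : δ 1 = 0) (c : B) :
    ∀ n, aseq δ c (n + 1) 0 = 0 := by
  intro n
  induction n with
  | zero =>
    show c * δ 1 = 0
    rw [hδ1, mul_zero]
  | succ n ih =>
    show c * δ (aseq δ c (n + 1) 0) = 0
    rw [ih, hδ0, mul_zero]

lemma aseq_map {B₁ B₂ : Type*} [CommRing B₁] [CommRing B₂] (g : B₁ →+* B₂) (δ₁ : B₁ → B₁)
    (δ₂ : B₂ → B₂) (hg : ∀ b, g (δ₁ b) = δ₂ (g b)) (c : B₁) :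
    ∀ n k, g (aseq δ₁ c n k) = aseq δ₂ (g c) n k := by
  intro n
  induction n with
  | zero =>
    intro k
    cases k with
    | zero => exact map_one g
    | succ k => exact map_zero g
  | succ n ih =>
    intro k
    cases k with
    | zero =>
      show g (c * δ₁ (aseq δ₁ c n 0)) = g c * δ₂ (aseq δ₂ (g c) n 0)
      rw [map_mul, hg, ih]
    | succ k =>
      show g (c * δ₁ (aseq δ₁ c n (k + 1)) + c * aseq δ₁ c n k)
        = g c * δ₂ (aseq δ₂ (g c) n (k + 1)) + g c * aseq δ₂ (g c) n k
      rw [map_add, map_mul, map_mul, hg, ih, ih]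

lemma iterate_smul_eq {M : Type*} [AddCommGroup M] [Module B M] (δ : B → B) (hδ0 : δ 0 = 0)
    (D : M → M) (hDadd : ∀ m m', D (m + m') = D m + D m')
    (hDL : ∀ b m, D (b • m) = b • D m + δ b • m) (c : B) (n : ℕ) (m : M) :
    (fun m => c • D m)^[n] m = ∑ k ∈ Finset.range (n + 1), aseq δ c n k • D^[k] m := by
  have hsum : ∀ (s : Finset ℕ) (g : ℕ → M), D (∑ k ∈ s, g k) = ∑ k ∈ s, D (g k) := by
    intro s g
    exact map_sum (AddMonoidHom.mk' D hDadd) g s
  induction n with
  | zero => simp [aseq]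
  | succ n ih =>
    rw [Function.iterate_succ_apply', ih]
    show c • D (∑ k ∈ Finset.range (n + 1), aseq δ c n k • D^[k] m) = _
    rw [hsum, Finset.smul_sum]
    have h1 : ∀ k, c • D (aseq δ c n k • D^[k] m)
        = (c * aseq δ c n k) • D^[k + 1] m + (c * δ (aseq δ c n k)) • D^[k] m := by
      intro k
      rw [hDL, smul_add, smul_smul, smul_smul, Function.iterate_succ_apply']
    have h2 : ∀ k, aseq δ c (n + 1) (k + 1) • D^[k + 1] m
        = (c * δ (aseq δ c n (k + 1))) • D^[k + 1] m + (c * aseq δ c n k) • D^[k + 1] m := by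
      intro k
      rw [← add_smul]
      rfl
    have e1 : ∑ k ∈ Finset.range (n + 1), c • D (aseq δ c n k • D^[k] m)
        = ∑ k ∈ Finset.range (n + 1), (c * aseq δ c n k) • D^[k + 1] m
          + ∑ k ∈ Finset.range (n + 1), (c * δ (aseq δ c n k)) • D^[k] m := by
      rw [← Finset.sum_add_distrib]
      exact Finset.sum_congr rfl (fun k _ => h1 k)
    have e2 : ∑ k ∈ Finset.range (n + 1 + 1), aseq δ c (n + 1) k • D^[k] m
        = (∑ k ∈ Finset.range (n + 1), (c * δ (aseq δ c n (k + 1))) • D^[k + 1] m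
          + ∑ k ∈ Finset.range (n + 1), (c * aseq δ c n k) • D^[k + 1] m)
          + (c * δ (aseq δ c n 0)) • D^[0] m := by
      rw [Finset.sum_range_succ', ← Finset.sum_add_distrib]
      exact congr_arg₂ (· + ·) (Finset.sum_congr rfl fun k _ => h2 k) rfl
    have e3 : ∑ k ∈ Finset.range (n + 1), (c * δ (aseq δ c n k)) • D^[k] m
        = ∑ k ∈ Finset.range n, (c * δ (aseq δ c n (k + 1))) • D^[k + 1] m
          + (c * δ (aseq δ c n 0)) • D^[0] m := Finset.sum_range_succ' _ _
    have e4 : ∑ k ∈ Finset.range (n + 1), (c * δ (aseq δ c n (k + 1))) • D^[k + 1] m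
        = ∑ k ∈ Finset.range n, (c * δ (aseq δ c n (k + 1))) • D^[k + 1] m := by
      rw [Finset.sum_range_succ, aseq_eq_zero_of_lt δ hδ0 c n (n + 1) (Nat.lt_succ_self n), hδ0,
        mul_zero, zero_smul, add_zero]
    rw [e1, e2, e3, e4]
    abel

lemma iter_add (δ : B → B) (hadd : ∀ a b, δ (a + b) = δ a + δ b) (n : ℕ) (a b : B) :
    δ^[n] (a + b) = δ^[n] a + δ^[n] b := by
  induction n generalizing a b with
  | zero => rfl
  | succ n ih =>
    rw [Function.iterate_succ_apply, Function.iterate_succ_apply, Function.iterate_succ_apply,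
      hadd, ih]

lemma iterate_mul (δ : B → B) (hadd : ∀ a b, δ (a + b) = δ a + δ b)
    (hL : ∀ a b, δ (a * b) = δ a * b + a * δ b) (n : ℕ) :
    ∀ a b, δ^[n] (a * b)
      = ∑ ij ∈ Finset.HasAntidiagonal.antidiagonal n, (n.choose ij.1 : B) * (δ^[ij.1] a * δ^[ij.2] b) := by
  induction n with
  | zero => intro a b; simp
  | succ n ih =>
    intro a b
    rw [Function.iterate_succ_apply, hL, iter_add δ hadd, ih, ih,
      Finset.sum_antidiagonal_choose_succ_mul (fun i j => δ^[i] a * δ^[j] b) n]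
    rw [add_comm]
    congr 1
    all_goals
      apply Finset.sum_congr rfl
      intro ij hij
      rw [Function.iterate_succ_apply]
      have : n.choose ij.2 = n.choose ij.1 :=
        (Nat.choose_symm_of_eq_add (Finset.HasAntidiagonal.mem_antidiagonal.mp hij).symm).symm
      first | rfl | rw [this]

lemma iterate_p_mul (p : ℕ) [Fact p.Prime] [CharP B p] (δ : B → B)
    (hadd : ∀ a b, δ (a + b) = δ a + δ b)
    (hL : ∀ a b, δ (a * b) = δ a * b + a * δ b) (a b : B) :
    δ^[p] (a * b) = δ^[p] a * b + a * δ^[p] b := by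
  have hp : p.Prime := Fact.out
  rw [iterate_mul δ hadd hL p a b]
  rw [Finset.sum_eq_add (p, 0) (0, p)]
  · simp
  · intro h
    exact hp.ne_zero (Prod.ext_iff.mp h).1
  · rintro ⟨i, j⟩ hij ⟨h1, h2⟩
    have hij' : i + j = p := Finset.HasAntidiagonal.mem_antidiagonal.mp hij
    have hi0 : i ≠ 0 := by
      rintro rfl
      apply h2
      have : j = p := by omega
      rw [this]
    have hip : i < p := by
      rcases Nat.lt_or_ge i p with h | h
      · exact h
      · exfalso
        apply h1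
        have h3 : i = p := by omega
        have h4 : j = 0 := by omega
        rw [h3, h4]
    have : (p.choose i : B) = 0 :=
      (CharP.cast_eq_zero_iff B p _).mpr (hp.dvd_choose_self hi0 hip)
    simp only [this, zero_mul]
  · intro h
    exact absurd (Finset.HasAntidiagonal.mem_antidiagonal.mpr (by simp)) h
  · intro h
    exact absurd (Finset.HasAntidiagonal.mem_antidiagonal.mpr (by simp)) h

end Aseq

section Universal
variable (p : ℕ) [Fact p.Prime]

/-- universal ring with an extra variable `t = X none` with `δ t = 1`. -/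
abbrev Cu := MvPolynomial (Option ℕ) (ZMod p)

noncomputable def δu : Derivation (ZMod p) (Cu p) (Cu p) :=
  MvPolynomial.mkDerivation (ZMod p) (fun o => match o with
    | none => (1 : Cu p)
    | some i => MvPolynomial.X (some (i + 1)))

lemma δu_t : δu p (MvPolynomial.X none) = 1 := by
  simp [δu]

lemma δu_X (i : ℕ) : δu p (MvPolynomial.X (some i)) = MvPolynomial.X (some (i + 1)) := by
  simp [δu]

lemma δu_mul (a b : Cu p) : δu p (a * b) = δu p a * b + a * δu p b := by
  rw [Derivation.leibniz]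
  simp only [smul_eq_mul]
  ring

lemma iter_t_pow (k m : ℕ) :
    (⇑(δu p))^[k] ((MvPolynomial.X none : Cu p) ^ m)
      = (m.descFactorial k : Cu p) * (MvPolynomial.X none : Cu p) ^ (m - k) := by
  induction k with
  | zero => simp
  | succ k ih =>
    rw [Function.iterate_succ_apply', ih, ← nsmul_eq_mul, map_nsmul, Derivation.leibniz_pow,
      δu_t, Nat.descFactorial_succ]
    simp only [nsmul_eq_mul, smul_eq_mul, mul_one, Nat.cast_mul, Nat.sub_sub]
    ring

/-- the key vanishing in the universal ring with `t`. -/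
lemma aseq_univ_t_eq_zero :
    ∀ m, 2 ≤ m → m < p →
      aseq (⇑(δu p)) (MvPolynomial.X (some 0) : Cu p) p m = 0 := by
  have hp : p.Prime := Fact.out
  obtain ⟨x, hx⟩ : ∃ x : Cu p, x = MvPolynomial.X (some 0) := ⟨_, rfl⟩
  obtain ⟨t, ht⟩ : ∃ t : Cu p, t = MvPolynomial.X none := ⟨_, rfl⟩
  rw [← hx]
  have hδt : δu p t = 1 := by rw [ht]; exact δu_t p
  -- U = x δ
  obtain ⟨U, hU⟩ : ∃ U : Cu p → Cu p, U = fun f => x • δu p f := ⟨_, rfl⟩
  have hUadd : ∀ a b, U (a + b) = U a + U b := by
    intro a b; rw [hU]; simp only [map_add, smul_add]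
  have hUL : ∀ a b, U (a * b) = U a * b + a * U b := by
    intro a b; rw [hU]; simp only [δu_mul, smul_eq_mul]; ring
  have hUp := iterate_p_mul p U hUadd hUL
  -- formula
  have hA : ∀ f : Cu p, U^[p] f
      = ∑ k ∈ Finset.range (p + 1), aseq (⇑(δu p)) x p k • (⇑(δu p))^[k] f := by
    intro f
    rw [hU]
    exact iterate_smul_eq (⇑(δu p)) (map_zero _) (⇑(δu p)) (map_add _)
      (by intro b m; rw [smul_eq_mul, δu_mul]; simp only [smul_eq_mul]; ring) x p f
  have ha0 : aseq (⇑(δu p)) x p 0 = 0 := by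
    have h1 : p - 1 + 1 = p := Nat.sub_add_cancel hp.pos
    have h2 := aseq_col_zero (⇑(δu p)) (map_zero _) (Derivation.map_one_eq_zero _) x (p - 1)
    rwa [h1] at h2
  -- Up (t^(m+1)) = (m+1) t^m Up t
  have hUp1 : U^[p] (1 : Cu p) = 0 := by
    have h := hUp 1 1
    rw [mul_one, mul_one, one_mul] at h
    exact left_eq_add.mp h
  have hUpt : ∀ m : ℕ, U^[p] (t ^ (m + 1)) = ((m + 1 : ℕ) : Cu p) * t ^ m * U^[p] t := by
    intro m
    induction m with
    | zero => simp
    | succ m ih =>
      rw [pow_succ t (m + 1), hUp, ih]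
      push_cast
      ring
  -- evaluation at t^m
  have hev : ∀ m : ℕ, U^[p] (t ^ m)
      = ∑ k ∈ Finset.range (p + 1),
          aseq (⇑(δu p)) x p k * ((m.descFactorial k : Cu p) * t ^ (m - k)) := by
    intro m
    rw [hA]
    apply Finset.sum_congr rfl
    intro k _
    rw [smul_eq_mul, ht, iter_t_pow]
  -- m = 1
  have hUt : U^[p] t = aseq (⇑(δu p)) x p 1 := by
    have h := hev 1
    rw [pow_one] at h
    rw [h, Finset.sum_eq_single 1]
    · simp
    · intro k _ hk1
      rcases Nat.lt_or_ge k 1 with h0 | h2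
      · have : k = 0 := by omega
        rw [this, ha0, zero_mul]
      · have hk2 : 1 < k := by omega
        rw [Nat.descFactorial_eq_zero_iff_lt.mpr hk2]
        simp
    · intro h
      exact absurd (show 1 ∈ Finset.range (p + 1) from Finset.mem_range.mpr (by have := hp.pos; omega)) h
  intro m
  induction m using Nat.strong_induction_on with
  | _ m ih =>
    intro hm2 hmp
    obtain ⟨m', hm'⟩ : ∃ m', m = m' + 1 := ⟨m - 1, by omega⟩
    have h := hev m
    rw [hm', hUpt m', hUt, ← hm'] at h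
    rw [Finset.sum_eq_add 1 m] at h
    · rw [Nat.descFactorial_one, Nat.descFactorial_self, Nat.sub_self, pow_zero, mul_one] at h
      have h5 : aseq (⇑(δu p)) x p m * (m.factorial : Cu p) = 0 := by
        have hm1 : m - 1 = m' := by omega
        rw [hm1] at h
        linear_combination -h
      have hunit : IsUnit ((m.factorial : ℕ) : Cu p) := by
        have h6 : ((m.factorial : ℕ) : ZMod p) ≠ 0 := by
          intro h7
          rw [ZMod.natCast_eq_zero_iff] at h7
          have := (hp.dvd_factorial).mp h7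
          omega
        have h8 : IsUnit ((m.factorial : ℕ) : ZMod p) := isUnit_iff_ne_zero.mpr h6
        have := h8.map (algebraMap (ZMod p) (Cu p))
        rwa [map_natCast] at this
      exact (hunit.mul_left_eq_zero).mp h5
    · omega
    · intro k hk ⟨hk1, hkm⟩
      rcases Nat.lt_or_ge k 1 with h0 | h1
      · have : k = 0 := by omega
        rw [this, ha0, zero_mul]
      · rcases Nat.lt_or_ge k m with hlt | hge
        · rw [ih k hlt (by omega) (by omega), zero_mul]
        · have hk2 : m < k := by omega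
          rw [Nat.descFactorial_eq_zero_iff_lt.mpr hk2]
          simp
    · intro h
      exact absurd (show 1 ∈ Finset.range (p + 1) from Finset.mem_range.mpr (by omega)) h
    · intro h
      exact absurd (show m ∈ Finset.range (p + 1) from Finset.mem_range.mpr (by omega)) h

/-- universal ring without `t`. -/
abbrev C0 := MvPolynomial ℕ (ZMod p)

noncomputable def δ0 : Derivation (ZMod p) (C0 p) (C0 p) :=
  MvPolynomial.mkDerivation (ZMod p) (fun i => MvPolynomial.X (i + 1))

lemma comm_of_gens {σ K S : Type*} [CommRing K] [CommRing S]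
    (δσ : Derivation K (MvPolynomial σ K) (MvPolynomial σ K))
    (g : MvPolynomial σ K →+* S) (δS : S → S) (haddS : ∀ a b, δS (a + b) = δS a + δS b)
    (hL : ∀ a b, δS (a * b) = δS a * b + a * δS b)
    (hC : ∀ a : K, δS (g (MvPolynomial.C a)) = 0)
    (hX : ∀ i, g (δσ (MvPolynomial.X i)) = δS (g (MvPolynomial.X i))) :
    ∀ f, g (δσ f) = δS (g f) := by
  intro f
  induction f using MvPolynomial.induction_on with
  | C a => rw [MvPolynomial.derivation_C, map_zero, hC]
  | add f1 f2 h1 h2 => rw [map_add, map_add, map_add, haddS, h1, h2]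
  | mul_X f i hf =>
    rw [Derivation.leibniz, map_add, smul_eq_mul, smul_eq_mul, map_mul, map_mul, map_mul, hL, hf,
      hX]
    ring

lemma aseq_univ_eq_zero (m : ℕ) (hm2 : 2 ≤ m) (hmp : m < p) :
    aseq (⇑(δ0 p)) (MvPolynomial.X 0 : C0 p) p m = 0 := by
  let ψ : C0 p →+* Cu p := (MvPolynomial.rename (R := ZMod p) (some : ℕ → Option ℕ)).toRingHom
  have hψinj : Function.Injective ψ := MvPolynomial.rename_injective _ (Option.some_injective _)
  have hψ : ∀ f, ψ (δ0 p f) = δu p (ψ f) := by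
    apply comm_of_gens (δ0 p) ψ (⇑(δu p)) (map_add _) (δu_mul p)
    · intro a
      show δu p (MvPolynomial.rename some (MvPolynomial.C a)) = 0
      rw [MvPolynomial.rename_C, MvPolynomial.derivation_C]
    · intro i
      show MvPolynomial.rename some (δ0 p (MvPolynomial.X i))
        = δu p (MvPolynomial.rename some (MvPolynomial.X i))
      rw [δ0, MvPolynomial.mkDerivation_X, MvPolynomial.rename_X, MvPolynomial.rename_X, δu_X]
  apply hψinj
  rw [map_zero, aseq_map ψ _ _ hψ]
  have : ψ (MvPolynomial.X 0) = MvPolynomial.X (some 0) := MvPolynomial.rename_X _ _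
  rw [this]
  exact aseq_univ_t_eq_zero p m hm2 hmp

lemma aseq_p_eq_zero {B : Type*} [CommRing B] [CharP B p] (δ : B → B)
    (hadd : ∀ a b, δ (a + b) = δ a + δ b)
    (hL : ∀ a b, δ (a * b) = δ a * b + a * δ b) (c : B) (m : ℕ) (hm2 : 2 ≤ m) (hmp : m < p) :
    aseq δ c p m = 0 := by
  have hδ0 : δ 0 = 0 := by
    have := hadd 0 0
    rw [add_zero] at this
    exact left_eq_add.mp this
  have hδ1 : δ 1 = 0 := by
    have := hL 1 1
    rw [mul_one, mul_one, one_mul] at this
    exact left_eq_add.mp this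
  have hδnat : ∀ n : ℕ, δ (n : B) = 0 := by
    intro n
    induction n with
    | zero => rw [Nat.cast_zero, hδ0]
    | succ n ih => rw [Nat.cast_succ, hadd, ih, hδ1, add_zero]
  let φ : C0 p →+* B :=
    MvPolynomial.eval₂Hom (ZMod.castHom (dvd_refl p) B) (fun i => δ^[i] c)
  have hφX : ∀ i, φ (MvPolynomial.X i) = δ^[i] c := fun i => MvPolynomial.eval₂Hom_X' _ _ i
  have hφ : ∀ f, φ (δ0 p f) = δ (φ f) := by
    apply comm_of_gens (δ0 p) φ δ hadd hL
    · intro a
      have h1 : φ (MvPolynomial.C a) = ((a.val : ℕ) : B) := by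
        show MvPolynomial.eval₂Hom _ _ (MvPolynomial.C a) = _
        rw [MvPolynomial.eval₂Hom_C]
        conv_lhs => rw [← ZMod.natCast_zmod_val a]
        rw [map_natCast]
      rw [h1, hδnat]
    · intro i
      rw [δ0, MvPolynomial.mkDerivation_X, hφX, hφX, Function.iterate_succ_apply']
  have h := aseq_map φ _ _ hφ (MvPolynomial.X 0) p m
  rw [hφX, Function.iterate_zero_apply] at h
  rw [← h, aseq_univ_eq_zero p m hm2 hmp, map_zero]

end Universal


section Main
universe v u
variable {A : Type v} {B M : Type u} [CommRing A] [CommRing B] [Algebra A B]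
  [AddCommGroup M] [Module B M] [Module A M] [IsScalarTower A B M]

lemma alongDer_smul (nabla : M →ₗ[A] M ⊗[B] KaehlerDifferential A B)
    (hc : Conn.IsConn (KaehlerDifferential.D A B) nabla) (θ : Derivation A B B) (b : B) (m : M) :
    Conn.alongDer nabla θ (b • m) = b • Conn.alongDer nabla θ m + θ b • m := by
  unfold Conn.alongDer
  rw [Conn.along_apply, Conn.along_apply, hc b m, map_add, map_add, map_smul, map_smul,
    TensorProduct.map_tmul, TensorProduct.rid_tmul, LinearMap.id_apply,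
    Derivation.liftKaehlerDifferential_comp_D]

lemma lift_eq_smul (bΩ : Module.Basis (Fin 1) B (KaehlerDifferential A B))
    (θ₀ θ : Derivation A B B) (hθ₀ : θ₀.liftKaehlerDifferential (bΩ 0) = 1) :
    θ.liftKaehlerDifferential
      = (θ.liftKaehlerDifferential (bΩ 0)) • θ₀.liftKaehlerDifferential := by
  apply bΩ.ext
  intro i
  have hi : i = 0 := Subsingleton.elim _ _
  rw [hi, LinearMap.smul_apply, hθ₀, smul_eq_mul, mul_one]

lemma alongDer_eq_smul (nabla : M →ₗ[A] M ⊗[B] KaehlerDifferential A B)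
    (bΩ : Module.Basis (Fin 1) B (KaehlerDifferential A B))
    (θ₀ θ : Derivation A B B) (hθ₀ : θ₀.liftKaehlerDifferential (bΩ 0) = 1) (m : M) :
    Conn.alongDer nabla θ m
      = (θ.liftKaehlerDifferential (bΩ 0)) • Conn.alongDer nabla θ₀ m := by
  obtain ⟨c, hcdef⟩ : ∃ c : B, c = θ.liftKaehlerDifferential (bΩ 0) := ⟨_, rfl⟩
  have hl : θ.liftKaehlerDifferential = c • θ₀.liftKaehlerDifferential := by
    rw [hcdef]; exact lift_eq_smul bΩ θ₀ θ hθ₀
  rw [← hcdef]
  unfold Conn.alongDer
  rw [Conn.along_apply, Conn.along_apply, hl, TensorProduct.map_smul_right, LinearMap.smul_apply,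
    map_smul]

lemma der_eq_smul (bΩ : Module.Basis (Fin 1) B (KaehlerDifferential A B))
    (θ₀ θ : Derivation A B B) (hθ₀ : θ₀.liftKaehlerDifferential (bΩ 0) = 1) (b : B) :
    θ b = (θ.liftKaehlerDifferential (bΩ 0)) * θ₀ b := by
  obtain ⟨c, hcdef⟩ : ∃ c : B, c = θ.liftKaehlerDifferential (bΩ 0) := ⟨_, rfl⟩
  have hl : θ.liftKaehlerDifferential = c • θ₀.liftKaehlerDifferential := by
    rw [hcdef]; exact lift_eq_smul bΩ θ₀ θ hθ₀
  rw [← hcdef, ← Derivation.liftKaehlerDifferential_comp_D θ b, hl, LinearMap.smul_apply,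
    Derivation.liftKaehlerDifferential_comp_D, smul_eq_mul]

lemma exists_iterPow (p : ℕ) [Fact p.Prime] [CharP B p] (θ₀ : Derivation A B B) :
    ∃ θ₀p : Derivation A B B, Conn.IsIterPow θ₀ p θ₀p := by
  have hθL : ∀ a b, θ₀ (a * b) = θ₀ a * b + a * θ₀ b := by
    intro a b; rw [Derivation.leibniz]; simp only [smul_eq_mul]; ring
  refine ⟨Derivation.mk' ((θ₀ : B →ₗ[A] B) ^ p) ?_, ?_⟩
  · intro a b
    rw [Module.End.pow_apply, Module.End.pow_apply, Module.End.pow_apply]
    have := iterate_p_mul p (⇑θ₀) (map_add θ₀) hθL a b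
    simp only [Derivation.coeFn_coe, smul_eq_mul]
    rw [this]
    ring
  · intro b
    simp [Module.End.pow_apply]

theorem main (p : ℕ) [Fact p.Prime] [CharP B p]
    (bΩ : Module.Basis (Fin 1) B (KaehlerDifferential A B)) (θ₀ : Derivation A B B)
    (hθ₀ : θ₀.liftKaehlerDifferential (bΩ 0) = 1)
    (nabla : M →ₗ[A] M ⊗[B] KaehlerDifferential A B)
    (hc : Conn.IsConn (KaehlerDifferential.D A B) nabla) :
    (∀ θ θp : Derivation A B B, Conn.IsIterPow θ p θp → Conn.pCurv p nabla θ θp = 0) ↔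
      (∀ θp : Derivation A B B, Conn.IsIterPow θ₀ p θp → Conn.pCurv p nabla θ₀ θp = 0) := by
  have hp : p.Prime := Fact.out
  constructor
  · intro h θp hθp
    exact h θ₀ θp hθp
  · intro h θ θp hθp
    obtain ⟨θ₀p, hθ₀p⟩ := exists_iterPow p θ₀
    have h0 := h θ₀p hθ₀p
    obtain ⟨c, hcdef⟩ : ∃ c : B, c = θ.liftKaehlerDifferential (bΩ 0) := ⟨_, rfl⟩
    obtain ⟨c0, hc0def⟩ : ∃ c0 : B, c0 = θ₀p.liftKaehlerDifferential (bΩ 0) := ⟨_, rfl⟩
    obtain ⟨D₀, hD₀⟩ : ∃ D₀ : M → M, D₀ = ⇑(Conn.alongDer nabla θ₀) := ⟨_, rfl⟩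
    have hθL : ∀ a b, θ₀ (a * b) = θ₀ a * b + a * θ₀ b := by
      intro a b; rw [Derivation.leibniz]; simp only [smul_eq_mul]; ring
    have hθval : ∀ b, θ b = c * θ₀ b := by
      intro b; rw [hcdef]; exact der_eq_smul bΩ θ₀ θ hθ₀ b
    have hNab : ∀ m, Conn.alongDer nabla θ m = c • D₀ m := by
      intro m; rw [hcdef, hD₀]; exact alongDer_eq_smul nabla bΩ θ₀ θ hθ₀ m
    have hNab0 : ∀ m, Conn.alongDer nabla θ₀p m = c0 • D₀ m := by
      intro m; rw [hc0def, hD₀]; exact alongDer_eq_smul nabla bΩ θ₀ θ₀p hθ₀ m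
    obtain ⟨a1, ha1⟩ : ∃ a1 : B, a1 = aseq (⇑θ₀) c p 1 := ⟨_, rfl⟩
    have hvan : ∀ k, 2 ≤ k → k < p → aseq (⇑θ₀) c p k = 0 :=
      fun k hk2 hkp => aseq_p_eq_zero p (⇑θ₀) (map_add θ₀) hθL c k hk2 hkp
    have ha0 : aseq (⇑θ₀) c p 0 = 0 := by
      have h1 : p - 1 + 1 = p := Nat.sub_add_cancel hp.pos
      have h2 := aseq_col_zero (⇑θ₀) (map_zero θ₀) (Derivation.map_one_eq_zero θ₀) c (p - 1)
      rwa [h1] at h2
    have hap : aseq (⇑θ₀) c p p = c ^ p := aseq_diag (⇑θ₀) (map_zero θ₀) c p
    have hcollapse : ∀ {N : Type u} [AddCommGroup N] [Module B N] (g : ℕ → N),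
        ∑ k ∈ Finset.range (p + 1), aseq (⇑θ₀) c p k • g k = a1 • g 1 + c ^ p • g p := by
      intro N _ _ g
      rw [Finset.sum_eq_add 1 p, ← ha1, hap]
      · exact hp.one_lt.ne
      · intro k hk ⟨hk1, hkp⟩
        have hk' := Finset.mem_range.mp hk
        rcases Nat.lt_or_ge k 1 with h0' | h1'
        · have : k = 0 := by omega
          rw [this, ha0, zero_smul]
        · rw [hvan k (by omega) (by omega), zero_smul]
      · intro h'
        exact absurd (show 1 ∈ Finset.range (p + 1) from Finset.mem_range.mpr (by have := hp.pos; omega)) h'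
      · intro h'
        exact absurd (show p ∈ Finset.range (p + 1) from Finset.mem_range.mpr (by omega)) h'
    have hmod : ∀ m, (Conn.alongDer nabla θ ^ p) m = a1 • D₀ m + c ^ p • D₀^[p] m := by
      intro m
      rw [Module.End.pow_apply]
      have hfun : ⇑(Conn.alongDer nabla θ) = fun m => c • D₀ m := funext hNab
      rw [hfun, iterate_smul_eq (⇑θ₀) (map_zero θ₀) D₀
        (by intro m m'; rw [hD₀]; exact map_add _ _ _)
        (by intro b m; rw [hD₀]; exact alongDer_smul nabla hc θ₀ b m) c p m, hcollapse]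
      rfl
    have hD₀p : ∀ m, D₀^[p] m = c0 • D₀ m := by
      intro m
      have h1 : Conn.alongDer nabla θ₀ ^ p = Conn.alongDer nabla θ₀p := sub_eq_zero.mp h0
      rw [hD₀, ← Module.End.pow_apply, h1, hNab0 m, hD₀]
    have hring : ∀ b, θp b = a1 * θ₀ b + c ^ p * θ₀p b := by
      intro b
      rw [hθp b]
      have hfun : ⇑θ = fun b => c • θ₀ b := funext (fun b => by rw [hθval b, smul_eq_mul])
      rw [hfun, iterate_smul_eq (⇑θ₀) (map_zero θ₀) (⇑θ₀) (map_add θ₀)
        (by intro b m; rw [smul_eq_mul, hθL]; simp only [smul_eq_mul]; ring) c p b, hcollapse,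
        hθ₀p b]
      simp only [smul_eq_mul]
      rfl
    have hlift : θp.liftKaehlerDifferential
        = a1 • θ₀.liftKaehlerDifferential + c ^ p • θ₀p.liftKaehlerDifferential := by
      apply Derivation.liftKaehlerDifferential_unique
      ext b
      show θp.liftKaehlerDifferential (KaehlerDifferential.D A B b)
        = (a1 • θ₀.liftKaehlerDifferential + c ^ p • θ₀p.liftKaehlerDifferential)
            (KaehlerDifferential.D A B b)
      rw [LinearMap.add_apply, LinearMap.smul_apply, LinearMap.smul_apply,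
        Derivation.liftKaehlerDifferential_comp_D, Derivation.liftKaehlerDifferential_comp_D,
        Derivation.liftKaehlerDifferential_comp_D, hring b]
      simp only [smul_eq_mul]
    apply LinearMap.ext
    intro m
    show (Conn.alongDer nabla θ ^ p - Conn.alongDer nabla θp) m = 0
    have hNabp : Conn.alongDer nabla θp m
        = (θp.liftKaehlerDifferential (bΩ 0)) • Conn.alongDer nabla θ₀ m :=
      alongDer_eq_smul nabla bΩ θ₀ θp hθ₀ m
    rw [LinearMap.sub_apply, hmod m, hD₀p m, hD₀, hNabp, hlift, LinearMap.add_apply,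
      LinearMap.smul_apply, LinearMap.smul_apply, hθ₀, ← hc0def, smul_eq_mul, smul_eq_mul,
      mul_one, add_smul, mul_smul, sub_self]

end Main

end Groth.Agent.H4.PCurv
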