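import Mathlib
set_option autoImplicit false
universe u
open CategoryTheory CategoryTheory.Limits MonoidalCategory

namespace Groth.Agent.H4.TorLES

variable {R : Type u} [CommRing R]

/-- the complex computing `Tor_•(M, S)` -/
noncomputable abbrev torCx (M S : ModuleCat.{u} R) : ChainComplex (ModuleCat.{u} R) ℕ :=
  ((tensorLeft M).mapHomologicalComplex _).obj (projectiveResolution S).complex

theorem isZero_Tor_iff (M S : ModuleCat.{u} R) (n : ℕ) :
    IsZero (((Tor (ModuleCat.{u} R) n).obj M).obj S) ↔ IsZero ((torCx M S).homology n) :=
  ((projectiveResolution S).isoLeftDerivedObj (tensorLeft M) n).isZero_iff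

/-- the short complex of `Tor`-complexes attached to a short complex of modules -/
noncomputable def torSC (T : ShortComplex (ModuleCat.{u} R)) (S : ModuleCat.{u} R) :
    ShortComplex (ChainComplex (ModuleCat.{u} R) ℕ) where
  X₁ := torCx T.X₁ S
  X₂ := torCx T.X₂ S
  X₃ := torCx T.X₃ S
  f := (NatTrans.mapHomologicalComplex ((tensoringLeft _).map T.f) _).app _
  g := (NatTrans.mapHomologicalComplex ((tensoringLeft _).map T.g) _).app _
  zero := by
    refine HomologicalComplex.hom_ext _ _ (fun j => ?_)
    rw [HomologicalComplex.comp_f, NatTrans.mapHomologicalComplex_app_f,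
      NatTrans.mapHomologicalComplex_app_f, HomologicalComplex.zero_f]
    have : ((tensoringLeft (ModuleCat.{u} R)).map T.f ≫ (tensoringLeft _).map T.g).app
        ((projectiveResolution S).complex.X j) = 0 := by
      rw [← Functor.map_comp, T.zero, Functor.map_zero]; rfl
    exact this

theorem torSC_shortExact (T : ShortComplex (ModuleCat.{u} R)) (hT : T.ShortExact) (S : ModuleCat.{u} R) :
    (torSC T S).ShortExact := by
  apply HomologicalComplex.shortExact_of_degreewise_shortExact
  intro j
  let Q := (projectiveResolution S).complex.X j
  haveI : Projective Q := (projectiveResolution S).projective j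
  haveI : Module.Projective R Q := by
    rw [IsProjective.iff_projective]
    exact inferInstanceAs (Projective Q)
  haveI : Module.Flat R Q := inferInstance
  exact hT.map_of_exact (tensorRight Q)

/-- vanishing in the left term from the long exact sequence -/
theorem isZero_left (T : ShortComplex (ModuleCat.{u} R)) (hT : T.ShortExact) (S : ModuleCat.{u} R) (i : ℕ)
    (h3 : IsZero ((torCx T.X₃ S).homology (i + 1))) (h2 : IsZero ((torCx T.X₂ S).homology i)) :
    IsZero ((torCx T.X₁ S).homology i) := by
  have hS := torSC_shortExact T hT S
  have hex := hS.homology_exact₁ (i + 1) i (by simp)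
  exact hex.isZero_of_both_zeros (h3.eq_of_src _ _) (h2.eq_of_tgt _ _)

/-- vanishing in the middle term from the long exact sequence -/
theorem isZero_mid (T : ShortComplex (ModuleCat.{u} R)) (hT : T.ShortExact) (S : ModuleCat.{u} R) (i : ℕ)
    (h1 : IsZero ((torCx T.X₁ S).homology i)) (h3 : IsZero ((torCx T.X₃ S).homology i)) :
    IsZero ((torCx T.X₂ S).homology i) := by
  have hS := torSC_shortExact T hT S
  have hex := hS.homology_exact₂ i
  exact hex.isZero_of_both_zeros (h1.eq_of_src _ _) (h3.eq_of_tgt _ _)

/-- flat modules have vanishing higher Tor -/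
theorem isZero_of_flat (M S : ModuleCat.{u} R) [Module.Flat R M] (i : ℕ) :
    IsZero ((torCx M S).homology (i + 1)) := by
  rw [← HomologicalComplex.exactAt_iff_isZero_homology]
  rw [HomologicalComplex.exactAt_iff' _ (i + 2) (i + 1) i (by simp only [ChainComplex.prev]; rfl) (by simp)]
  have h := Module.Flat.lTensor_shortComplex_exact M _ ((projectiveResolution S).exact_succ i)
  exact h

end Groth.Agent.H4.TorLES
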