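import Groth.Agent.H4.RegPerf
import Groth.Agent.H4.TorLES
set_option autoImplicit false
universe u
attribute [local instance] HasDerivedCategory.standard
open CategoryTheory CategoryTheory.Limits DRing Groth.Agent.H4.TorLES
namespace Groth.Agent.H4.RegGlDim

variable {R : Type u} [CommRing R]

/-- global dimension of a regular ring of finite Krull dimension -/
theorem hasProjectiveDimensionLT_of_isRegularRing [IsRegularRing R] (d : ℕ)
    (hd : ringKrullDim R ≤ d) (M : ModuleCat.{u} R) : HasProjectiveDimensionLT M (d + 1) := by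
  apply Groth.Agent.H1.Reg.hasProjectiveDimensionLT_of_cyclic
  intro I
  refine Groth.Agent.H6.PdReg.hasProjectiveDimensionLE_of_forall (R ⧸ I) d (fun p => ?_)
  haveI : IsRegularLocalRing (Localization.AtPrime p.asIdeal) :=
    IsRegularRing.isRegularLocalRing_localization p.asIdeal
  obtain ⟨e, he⟩ : ∃ e : ℕ, ringKrullDim (Localization.AtPrime p.asIdeal) = e :=
    ⟨_, (IsRegularLocalRing.spanFinrank_maximalIdeal
      (R := Localization.AtPrime p.asIdeal)).symm⟩
  have hle : e ≤ d := by
    have h1 : ringKrullDim (Localization.AtPrime p.asIdeal) = p.asIdeal.height :=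
      IsLocalization.AtPrime.ringKrullDim_eq_height p.asIdeal _
    have h2 : (p.asIdeal.height : WithBot ℕ∞) ≤ ringKrullDim R :=
      Ideal.height_le_ringKrullDim_of_ne_top p.2.ne_top
    have h3 : ((e : ℕ) : WithBot ℕ∞) ≤ (d : ℕ) := by
      rw [← he, h1]; exact h2.trans hd
    exact_mod_cast h3
  rw [projectiveDimension_le_iff]
  haveI := Groth.Agent.H1.Reg.hasProjectiveDimensionLT_of_isRegularLocalRing
    (Localization.AtPrime p.asIdeal) e he (ModuleCat.of (Localization.AtPrime p.asIdeal)
      (LocalizedModule p.asIdeal.primeCompl (R ⧸ I)))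
  exact hasProjectiveDimensionLT_of_ge _ (e + 1) (d + 1) (by omega)


theorem isZero_torCx_of_hasProjectiveDimensionLT : ∀ (d : ℕ) (M : ModuleCat.{u} R),
    HasProjectiveDimensionLT M (d + 1) → ∀ (S : ModuleCat.{u} R) (p : ℕ), d < p →
      IsZero ((torCx M S).homology p) := by
  intro d
  induction d with
  | zero =>
    intro M hM S p hp
    have hproj : Projective M := by
      rw [projective_iff_hasProjectiveDimensionLT_one]; exact hM
    haveI : Module.Projective R M := (IsProjective.iff_projective (R := R) (P := M)).mpr hproj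
    haveI : Module.Flat R M := inferInstance
    obtain ⟨i, rfl⟩ : ∃ i, p = i + 1 := ⟨p - 1, by omega⟩
    exact isZero_of_flat M S i
  | succ d ih =>
    intro M hM S p hp
    let π := Projective.π M
    let T : ShortComplex (ModuleCat.{u} R) := ShortComplex.mk (kernel.ι π) π (kernel.condition π)
    have hT : T.ShortExact :=
      { exact := ShortComplex.exact_kernel π
        mono_f := inferInstanceAs (Mono (kernel.ι π))
        epi_g := inferInstanceAs (Epi π) }
    have h1 : HasProjectiveDimensionLT T.X₁ (d + 1) :=
      (hT.hasProjectiveDimensionLT_X₃_iff d (inferInstanceAs (Projective (Projective.over M)))).mp hM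
    obtain ⟨q, rfl⟩ : ∃ q, p = q + 1 := ⟨p - 1, by omega⟩
    have hZ := ih T.X₁ h1 S q (by omega)
    haveI : Projective T.X₂ := inferInstanceAs (Projective (Projective.over M))
    have hP : IsZero ((torCx T.X₂ S).homology (q + 1)) := by
      haveI : Module.Projective R T.X₂ :=
        (IsProjective.iff_projective (R := R) (P := T.X₂)).mpr inferInstance
      haveI : Module.Flat R T.X₂ := inferInstance
      exact isZero_of_flat T.X₂ S q
    have hS := torSC_shortExact T hT S
    have hex := hS.homology_exact₃ (q + 1) q (by simp)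
    exact hex.isZero_of_both_zeros (hP.eq_of_src _ _) (hZ.eq_of_tgt _ _)


theorem hasTorDimLE_of_hasProjectiveDimensionLT (d : ℕ) (M : Type u) [AddCommGroup M] [Module R M]
    (h : HasProjectiveDimensionLT (ModuleCat.of R M) (d + 1)) : HasTorDimLE R d M := by
  intro N _ _ p hp
  have h0 := isZero_torCx_of_hasProjectiveDimensionLT d (ModuleCat.of R M) h (ModuleCat.of R N) p hp
  exact ModuleCat.subsingleton_of_isZero ((isZero_Tor_iff _ _ p).mpr h0)

theorem hasTorDimLE_of_isRegularRing [IsRegularRing R] (d : ℕ) (hd : ringKrullDim R ≤ d)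
    (M : Type u) [AddCommGroup M] [Module R M] : HasTorDimLE R d M :=
  hasTorDimLE_of_hasProjectiveDimensionLT d M (hasProjectiveDimensionLT_of_isRegularRing d hd _)


end Groth.Agent.H4.RegGlDim
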