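import Mathlib
import Groth.Prelude.Def_MoreMor
import Groth.Agent.S7069

set_option autoImplicit false
universe u
attribute [local instance] HasDerivedCategory.standard
open CategoryTheory CategoryTheory.Limits AlgebraicGeometry Opposite TopologicalSpace

namespace Groth.Agent.H4.PMor1

theorem isRegularRing_of_stalks {S : Scheme.{u}} [IsLocallyNoetherian S]
    (hreg : ∀ s : S, IsRegularLocalRing (S.presheaf.stalk s)) (V : S.Opens) (hV : IsAffineOpen V) :
    IsRegularRing Γ(S, V) := by
  haveI : IsNoetherianRing Γ(S, V) := IsLocallyNoetherian.component_noetherian ⟨V, hV⟩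
  rw [isRegularRing_iff]
  intro p hp
  let y : PrimeSpectrum Γ(S, V) := ⟨p, hp⟩
  have hy : hV.fromSpec y ∈ V := by
    have h1 : hV.fromSpec y ∈ Set.range hV.fromSpec := Set.mem_range_self y
    rw [hV.range_fromSpec] at h1
    exact h1
  letI := TopCat.Presheaf.algebra_section_stalk S.presheaf ⟨hV.fromSpec y, hy⟩
  haveI h2 : IsLocalization p.primeCompl (S.presheaf.stalk (hV.fromSpec y)) :=
    hV.isLocalization_stalk' y hy
  haveI := hreg (hV.fromSpec y)
  exact IsRegularLocalRing.of_ringEquiv
    (IsLocalization.algEquiv p.primeCompl (S.presheaf.stalk (hV.fromSpec y))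
      (Localization.AtPrime p)).toRingEquiv

theorem S7173 {X S : Scheme.{u}} (f : X ⟶ S) [LocallyOfFiniteType f] [IsLocallyNoetherian S]
    (hreg : ∀ s : S, IsRegularLocalRing (S.presheaf.stalk s))
    (hdim : ∀ V : S.Opens, IsAffineOpen V → ringKrullDim Γ(S, V) < ⊤) :
    MoreMor.IsPerfectMor f := by
  intro U V hU hV hUV
  letI := (f.appLE V U hUV).hom.toAlgebra
  haveI := isRegularRing_of_stalks hreg V hV
  haveI : Algebra.FiniteType Γ(S, V) Γ(X, U) :=
    (RingHom.finiteType_algebraMap).1 (LocallyOfFiniteType.finiteType_appLE f hV hU hUV)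
  exact Groth.Agent.S7069.result Γ(S, V) Γ(X, U) (hdim V hV)

end Groth.Agent.H4.PMor1
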