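import Mathlib
import Groth.Prelude.Def_DerSch2
import Groth.Prelude.Def_Flatn
import Groth.Agent.H4.RPC24
import Groth.Agent.Lib.Lead.QC.FinPres

set_option autoImplicit false
universe u
attribute [local instance] HasDerivedCategory.standard
open CategoryTheory CategoryTheory.Limits AlgebraicGeometry DerivedCategory Opposite TopologicalSpace
open Groth.Agent.LD.QC
open Groth.Agent.H4.PSch2 Groth.Agent.H4.RPC2 Groth.Agent.H4.FAmp5 Groth.Agent.H4.TilD9 Groth.Agent.H4.TilD10 Groth.Agent.H4.TilD11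
open Groth.Agent.H4.RPC2b Groth.Agent.H4.RPC3 Groth.Agent.H4.RPC7 Groth.Agent.H4.RPC8 Groth.Agent.H4.PCS7
open Groth.Agent.H4.RPC9 Groth.Agent.H4.RPC10 Groth.Agent.H4.RPC11 Groth.Agent.H4.RPC12
open Groth.Agent.H4.RPC13 Groth.Agent.H4.RPC14 Groth.Agent.H4.RPC15 Groth.Agent.H4.PCS4 Groth.Agent.H4.PCS8 Pretriangulated
open Groth.Agent.H4.NT7 Groth.Agent.H4.RPC6 Groth.Agent.H4.RPC19 Groth.Agent.H4.RPC20 Groth.Agent.H4.RPC21
open Groth.Agent.H4.RPC22 Groth.Agent.H4.RPC17 Groth.Agent.H4.RPC23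

namespace Groth.Agent.H4.RPC25

section IsoPush

variable {Z Z' : Scheme.{u}} (e : Z ⟶ Z') [IsIso e]

/-- direct image along an isomorphism is restriction along the inverse -/
noncomputable def pushIsoRestrict :
    Scheme.Modules.pushforward e ≅ Scheme.Modules.restrictFunctor (inv e) :=
  ((pushEquiv e).toAdjunction).leftAdjointUniq (Scheme.Modules.restrictAdjunction (inv e))

end IsoPush

section Bridge

variable {X : Scheme.{u}} (M : X.Modules) {U : X.Opens} (hU : IsAffineOpen U)
  {B : Type u} [CommRing B] (φ : B →+* Γ(X, U))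

/-- the direct image of `M|_U` to `Spec Γ(X, U)` is the restriction along `fromSpec` -/
noncomputable def pushToSpecΓ :
    (Scheme.Modules.pushforward U.toSpecΓ).obj (M.restrict U.ι) ≅ M.restrict hU.fromSpec :=
  haveI : IsIso U.toSpecΓ := by rw [← hU.isoSpec_hom]; infer_instance
  (pushIsoRestrict U.toSpecΓ).app _ ≪≫
    ((Scheme.Modules.restrictFunctorComp (inv U.toSpecΓ) U.ι).app M).symm ≪≫
    (Scheme.Modules.restrictFunctorCongr (by
      rw [IsAffineOpen.fromSpec]
      congr 1
      apply IsIso.inv_eq_of_hom_inv_id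
      rw [← hU.isoSpec_hom]
      exact hU.isoSpec.hom_inv_id)).app M

/-- global sections of `M|fromSpec` as a module -/
noncomputable def ΓfromSpecIso :
    (moduleSpecΓFunctor (R := Γ(X, U))).obj (M.restrict hU.fromSpec) ≅
      ModuleCat.of Γ(X, U) Γ(M, U) :=
  (affineΓEquiv M hU).toModuleIso

/-- direct image along `Spec φ` of a quasi-coherent module on `Spec A` -/
noncomputable def pushSpecTilde {A : CommRingCat.{u}} {B : CommRingCat.{u}} (φ : B ⟶ A)
    (N : (Spec A).Modules) [IsIso N.fromTildeΓ] :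
    (Scheme.Modules.pushforward (Spec.map φ)).obj N ≅
      (tilde.functor B).obj ((ModuleCat.restrictScalars φ.hom).obj
        ((moduleSpecΓFunctor (R := A)).obj N)) :=
  haveI : IsIso (Scheme.Modules.fromTildeΓ ((Scheme.Modules.pushforward (Spec.map φ)).obj N)) :=
    isIso_fromTildeΓ_pushforward φ _
  (asIso (Scheme.Modules.fromTildeΓ ((Scheme.Modules.pushforward (Spec.map φ)).obj N))).symm ≪≫
    (tilde.functor B).mapIso ((ΓPushIso φ).app _)

/-- **bridge**: the chart image of a quasi-coherent module is the module of sections -/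
noncomputable def pushRestrictTilde [M.IsQuasicoherent] :
    (Scheme.Modules.pushforward (gImm U φ)).obj (M.restrict U.ι) ≅
      (tilde.functor (CommRingCat.of B)).obj
        ((ModuleCat.restrictScalars φ).obj (ModuleCat.of Γ(X, U) Γ(M, U))) := by
  haveI : IsIso (Scheme.Modules.fromTildeΓ (M.restrict hU.fromSpec)) := inferInstance
  have e1 := ((Scheme.Modules.pushforwardComp U.toSpecΓ (Spec.map (CommRingCat.ofHom φ))).app
    (M.restrict U.ι)).symm
  have e2 := (Scheme.Modules.pushforward (Spec.map (CommRingCat.ofHom φ))).mapIso (pushToSpecΓ M hU)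
  have e3 := pushSpecTilde (CommRingCat.ofHom φ) (M.restrict hU.fromSpec)
  have e4 := (tilde.functor (CommRingCat.of B)).mapIso
    ((ModuleCat.restrictScalars φ).mapIso (ΓfromSpecIso M hU))
  exact e1 ≪≫ e2 ≪≫ e3 ≪≫ e4

end Bridge

section ChartMod

variable {X : Scheme.{u}} (M : X.Modules) {U : X.Opens} (hU : IsAffineOpen U)
  {B : Type u} [CommRing B] (φ : B →+* Γ(X, U))

/-- the chart image of a module placed in degree `0` -/
noncomputable def chartFInD [IsClosedImmersion (gImm U φ)] :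
    (chartF U φ).obj (DCoh.inD X M) ≅
      DCoh.inD _ ((Scheme.Modules.pushforward (gImm U φ)).obj (M.restrict U.ι)) :=
  (Ri (gImm U φ)).mapIso (RDinD U.ι M) ≪≫ RiInD (gImm U φ) (M.restrict U.ι)

include hU in
/-- the chart test for a quasi-coherent module, ring-theoretically -/
theorem chart_inD_pc_iff [M.IsQuasicoherent] [IsClosedImmersion (gImm U φ)] (m : ℤ) :
    DCoh.IsPseudoCoherentD m ((chartF U φ).obj (DCoh.inD X M)) ↔
      DRing.IsPseudoCoherent B m ((singleFunctor (ModuleCat.{u} B) 0).obj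
        ((ModuleCat.restrictScalars φ).obj (ModuleCat.of Γ(X, U) Γ(M, U)))) := by
  haveI := Groth.Agent.H5.AG.tilde_preservesFiniteLimits (CommRingCat.of B)
  rw [← S1004 B _ m]
  have e1 := ((tilde.functor (CommRingCat.of B)).mapDerivedCategorySingleFunctor 0).app
    ((ModuleCat.restrictScalars φ).obj (ModuleCat.of Γ(X, U) Γ(M, U)))
  have e2 := chartFInD M φ ≪≫ (singleFunctor _ 0).mapIso (pushRestrictTilde M hU φ)
  exact ⟨fun h => isPseudoCoherentD_of_iso (e2 ≪≫ e1.symm) h,
    fun h => isPseudoCoherentD_of_iso (e1 ≪≫ e2.symm) h⟩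

end ChartMod

section AbsRel

open Groth.Agent.H4.PC Groth.Agent.H4.RelPC

variable {X S : Scheme.{u}} (f : X ⟶ S)

/-- the structure sheaf of a chart is `0`-pseudo-coherent -/
theorem hOn_zero_gImm {U : X.Opens} (hU : IsAffineOpen U) {B : Type u} [CommRing B]
    (φ : B →+* Γ(X, U)) (hφ : Function.Surjective φ) [IsClosedImmersion (gImm U φ)] :
    HOn (gImm U φ) 0 := by
  have h1 : DRing.IsPseudoCoherent B 0 ((singleFunctor (ModuleCat.{u} B) 0).obj (resMod φ)) := by
    have h0 : Module.Finite B (resMod φ) :=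
      finite_restrictScalars_of_surjective φ hφ (ModuleCat.of Γ(X, U) Γ(X, U))
        (Module.Finite.self _)
    exact (isPCModule_zero_iff (resMod φ)).2 h0
  exact (isPseudoCoherentD_iff_pcAt 0 _).1 ((unit_pc_iff U φ hU 0).2 h1)

/-- the structure sheaf of a closed subscheme is `1`-pseudo-coherent -/
theorem hOn_one {Z P : Scheme.{u}} (i : Z ⟶ P) [IsClosedImmersion i] : HOn i 1 := by
  intro x
  haveI : (DCoh.inD P ((Scheme.Modules.pushforward i).obj (Coh.structureModule Z))).IsLE (1 - 1) := by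
    rw [show (1 : ℤ) - 1 = 0 by norm_num]; infer_instance
  exact PCAt.of_isLE 1 _ x

/-- for an object bounded above by `b ≤ m`, relative and absolute `m`-pseudo-coherence agree -/
theorem rel_iff_abs_of_le [LocallyOfFiniteType f] (K : DCoh.D X) (b m : ℤ) [K.IsLE b] (hbm : b ≤ m) :
    DerSch.IsPseudoCoherentRel f m K ↔ DCoh.IsPseudoCoherentD m K := by
  rw [rel_iff_forall_chart]
  constructor
  · intro H
    rw [isPseudoCoherentD_iff_pcAt]
    intro x
    obtain ⟨U, V, hU, hV, hxU, hUV⟩ := exists_affine_nhds_le_preimage f x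
    obtain ⟨n, φ, hφ⟩ := exists_isChart f U V hUV
      (LocallyOfFiniteType.finiteType_appLE f hV hU hUV)
    haveI := isClosedImmersion_gImm U φ hU hφ.1
    have h1 := H ⟨U, hU⟩ ⟨V, hV⟩ hUV n φ hφ inferInstance
    haveI : ((RD U.ι).obj K).IsLE b := isLE_RD _ K b
    have h2 : DCoh.IsPseudoCoherentD m ((RD U.ι).obj K) :=
      isPseudoCoherentD_of_Ri_of_le (gImm U φ) _ b m ((hOn_one _).mono (by omega)) h1
    exact PCAt.of_restrict U.ι K ⟨x, hxU⟩ ((isPseudoCoherentD_iff_pcAt m _).1 h2 _)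
  · intro H U V hUV n φ hφ hci
    haveI : ((RD (U : X.Opens).ι).obj K).IsLE b := isLE_RD _ K b
    exact isPseudoCoherentD_Ri_of_le (gImm (U : X.Opens) φ) _ b m
      ((hOn_zero_gImm U.2 φ hφ.1).mono (by omega)) (isPseudoCoherentD_RD _ K H)

end AbsRel

section S7212

open Groth.Agent.H4.PC Groth.Agent.H4.RelPC Groth.Agent.H4.RPC16

variable {X S : Scheme.{u}} (f : X ⟶ S)

/-- the `(-1)` chart test for a quasi-coherent module is finite presentation over the polynomial ring -/
theorem chart_negOne_iff (M : X.Modules) [M.IsQuasicoherent] {U : X.Opens} (hU : IsAffineOpen U)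
    {B : Type u} [CommRing B] (φ : B →+* Γ(X, U)) [IsClosedImmersion (gImm U φ)] :
    DCoh.IsPseudoCoherentD (-1) ((chartF U φ).obj (DCoh.inD X M)) ↔
      (letI : Module B (M.val.obj (op U)) := Module.compHom _ φ
       Module.FinitePresentation B (M.val.obj (op U))) := by
  rw [chart_inD_pc_iff M hU φ (-1)]
  exact isPCModule_negOne_iff
    ((ModuleCat.restrictScalars φ).obj (ModuleCat.of Γ(X, U) Γ(M, U)))

/-- **S7212** -/
theorem S7212 [LocallyOfFiniteType f] (M : X.Modules) :
    (∀ m : ℤ, 0 < m → DerSch.IsPseudoCoherentRel f m (DCoh.inD X M)) ∧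
      (DerSch.IsPseudoCoherentRel f 0 (DCoh.inD X M) ↔ CohB1.IsFT M) ∧
      (DerSch.IsPseudoCoherentRel f (-1) (DCoh.inD X M) ↔ (Coh.IsQCoh M ∧ Flatn.IsRelFP f M)) := by
  refine ⟨fun m hm => ?_, ?_, ?_⟩
  · rw [rel_iff_abs_of_le f (DCoh.inD X M) 0 m hm.le, isPseudoCoherentD_iff_pcAt]
    intro x
    haveI : (DCoh.inD X M).IsLE (m - 1) := TStructure.t.isLE_of_le _ 0 (m - 1) (by omega)
    exact PCAt.of_isLE m _ x
  · rw [rel_iff_abs_of_le f (DCoh.inD X M) 0 0 le_rfl]
    exact (S6518 M).1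
  · constructor
    · intro H
      have hq : Coh.IsQCoh M := by
        have h1 := S7213 f (-1) (DCoh.inD X M) H 0 (by norm_num)
        exact qc_of_iso ((singleFunctorCompHomologyFunctorIso X.Modules 0).app M) h1
      refine ⟨hq, ?_⟩
      haveI : M.IsQuasicoherent := hq
      rw [rel_iff_forall_chart] at H
      refine ⟨Set.univ, ?_, fun V _ => ⟨{U | (U : X.Opens) ≤ f ⁻¹ᵁ (V : S.Opens)}, ?_,
        fun U _ h => ?_⟩⟩
      · simp only [Set.mem_univ, iSup_pos]
        exact iSup_affineOpens_eq_top S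
      · apply le_antisymm
        · exact iSup₂_le (fun U hU => hU)
        · intro x hx
          obtain ⟨W, hW, hxW, hWV⟩ := (X.isBasis_affineOpens).exists_subset_of_mem_open hx
            (f ⁻¹ᵁ (V : S.Opens)).2
          simp only [Opens.mem_iSup]
          obtain ⟨W', hW', rfl⟩ := hW
          exact ⟨⟨W', hW'⟩, hWV, hxW⟩
      · obtain ⟨n, φ, hφ⟩ := exists_isChart f (U : X.Opens) (V : S.Opens) h
          (LocallyOfFiniteType.finiteType_appLE f V.2 U.2 h)
        haveI := isClosedImmersion_gImm (U : X.Opens) φ U.2 hφ.1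
        have h1 := (chart_negOne_iff M U.2 φ).1 (H U V h n φ hφ inferInstance)
        letI := (f.appLE (V : S.Opens) (U : X.Opens) h).hom.toAlgebra
        exact ⟨n, { φ with commutes' := fun r => congr($(hφ.2) r) }, hφ.1, h1⟩
    · rintro ⟨hq, 𝒱, h𝒱, H⟩
      haveI : M.IsQuasicoherent := hq
      refine ⟨inferInstance, 𝒱, h𝒱, fun V hV => ?_⟩
      obtain ⟨𝒰, h𝒰, HU⟩ := H V hV
      refine ⟨𝒰, h𝒰, fun U hU h => ?_⟩
      letI := (f.appLE (V : S.Opens) (U : X.Opens) h).hom.toAlgebra
      obtain ⟨n, α, hα, hfp⟩ := HU U hU h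
      have hc : DerSch.IsChart f (U : X.Opens) (V : S.Opens) h α.toRingHom := by
        refine ⟨hα, ?_⟩
        ext r
        exact α.commutes r
      haveI := isClosedImmersion_gImm (U : X.Opens) α.toRingHom U.2 hα
      exact ⟨n, α.toRingHom, hc, (gpc_iff _ _ (-1) _).2 ((chart_negOne_iff M U.2 α.toRingHom).2 hfp)⟩

end S7212

end Groth.Agent.H4.RPC25
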