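import Mathlib
import Groth.Prelude.Def_DerSch2
import Groth.Agent.H4.RPC25

set_option autoImplicit false
universe u
attribute [local instance] HasDerivedCategory.standard
open CategoryTheory CategoryTheory.Limits AlgebraicGeometry DerivedCategory Opposite TopologicalSpace
open Groth.Agent.LD.QC
open Groth.Agent.H4.PSch2 Groth.Agent.H4.RPC2 Groth.Agent.H4.FAmp5 Groth.Agent.H4.TilD9 Groth.Agent.H4.TilD10 Groth.Agent.H4.TilD11
open Groth.Agent.H4.RPC2b Groth.Agent.H4.RPC3 Groth.Agent.H4.RPC7 Groth.Agent.H4.RPC8 Groth.Agent.H4.PCS7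
open Groth.Agent.H4.RPC9 Groth.Agent.H4.RPC10 Groth.Agent.H4.RPC11 Groth.Agent.H4.RPC12
open Groth.Agent.H4.RPC13 Groth.Agent.H4.RPC14 Groth.Agent.H4.RPC15 Groth.Agent.H4.PCS4 Groth.Agent.H4.PCS8 Pretriangulated
open Groth.Agent.H4.NT7 Groth.Agent.H4.RPC6 Groth.Agent.H4.RPC19 Groth.Agent.H4.RPC20 Groth.Agent.H4.RPC21
open Groth.Agent.H4.RPC22 Groth.Agent.H4.RPC17 Groth.Agent.H4.RPC23 Groth.Agent.H4.RPC25
open Groth.Agent.H4.PC

namespace Groth.Agent.H4.RPC26

section Ring

variable {A B : Type u} [CommRing A] [CommRing B] (θ : A →+* B)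

lemma ker_resLin : LinearMap.ker (resLin θ) = RingHom.ker θ := by
  ext x
  simp only [LinearMap.mem_ker, RingHom.mem_ker]
  exact Iff.rfl

lemma resLin_surjective (hθ : Function.Surjective θ) : Function.Surjective (resLin θ) := hθ

/-- `B` is a finitely presented `A`-module iff the kernel is finitely generated -/
theorem fp_resMod_iff (hθ : Function.Surjective θ) :
    Module.FinitePresentation A (resMod θ) ↔ (RingHom.ker θ).FG := by
  constructor
  · intro h
    have := Module.FinitePresentation.fg_ker (resLin θ) (resLin_surjective θ hθ)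
    rwa [ker_resLin] at this
  · intro h
    refine Module.finitePresentation_of_surjective (resLin θ) (resLin_surjective θ hθ) ?_
    rw [ker_resLin]
    exact h

end Ring

section LFP

variable {X Y : Scheme.{u}} (f : X ⟶ Y)

/-- the `(-1)` test for the structure sheaf on a chart -/
theorem chart_unit_negOne_iff {U : X.Opens} (hU : IsAffineOpen U) {B : Type u} [CommRing B]
    (φ : B →+* Γ(X, U)) (hφ : Function.Surjective φ) [IsClosedImmersion (gImm U φ)] :
    DCoh.IsPseudoCoherentD (-1) ((chartF U φ).obj (DCoh.toD X (DerSch.unitCx X))) ↔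
      (RingHom.ker φ).FG := by
  rw [← fp_resMod_iff φ hφ, ← isPCModule_negOne_iff (resMod φ)]
  have h2 := unit_pc_iff U φ hU (-1)
  exact ⟨fun h => h2.1 (isPseudoCoherentD_of_iso (chartFUnit U φ) h),
    fun h => isPseudoCoherentD_of_iso (chartFUnit U φ).symm (h2.2 h)⟩

/-- **S6225** -/
theorem S6225 [LocallyOfFiniteType f] :
    DerSch.IsNPseudoCoherent f (-1) ↔ LocallyOfFinitePresentation f := by
  rw [DerSch.IsNPseudoCoherent, rel_iff_forall_chart]
  constructor
  · intro H
    refine ⟨fun {V} hV {U} hU e => ?_⟩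
    obtain ⟨n, φ, hφ⟩ := exists_isChart f U V e
      (LocallyOfFiniteType.finiteType_appLE f hV hU e)
    haveI := isClosedImmersion_gImm U φ hU hφ.1
    have h1 := (chart_unit_negOne_iff hU φ hφ.1).1 (H ⟨U, hU⟩ ⟨V, hV⟩ e n φ hφ inferInstance)
    letI := (f.appLE V U e).hom.toAlgebra
    have : Algebra.FinitePresentation Γ(Y, V) Γ(X, U) :=
      ⟨n, { φ with commutes' := fun r => congr($(hφ.2) r) }, hφ.1, h1⟩
    exact (RingHom.finitePresentation_algebraMap).2 this
  · intro H U V e n φ hφ hci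
    rw [chart_unit_negOne_iff U.2 φ hφ.1]
    letI := (f.appLE (V : Y.Opens) (U : X.Opens) e).hom.toAlgebra
    haveI : Algebra.FinitePresentation Γ(Y, (V : Y.Opens)) Γ(X, (U : X.Opens)) :=
      (RingHom.finitePresentation_algebraMap).1 (f.finitePresentation_appLE V.2 U.2 e)
    let α : MvPolynomial (Fin n) Γ(Y, (V : Y.Opens)) →ₐ[Γ(Y, (V : Y.Opens))] Γ(X, (U : X.Opens)) :=
      { φ with commutes' := fun r => congr($(hφ.2) r) }
    exact Algebra.FinitePresentation.ker_fG_of_surjective α hφ.1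

end LFP

end Groth.Agent.H4.RPC26
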