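import Mathlib
import Groth.Prelude.Def_DerSch2
import Groth.Prelude.Def_MoreMor
import Groth.Agent.H4.RPC26
import Groth.Agent.S7067

set_option autoImplicit false
universe u
attribute [local instance] HasDerivedCategory.standard
open CategoryTheory CategoryTheory.Limits AlgebraicGeometry DerivedCategory Opposite TopologicalSpace
open Groth.Agent.LD.QC
open Groth.Agent.H4.PSch2 Groth.Agent.H4.RPC2 Groth.Agent.H4.FAmp5 Groth.Agent.H4.TilD9 Groth.Agent.H4.TilD10 Groth.Agent.H4.TilD11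
open Groth.Agent.H4.RPC2b Groth.Agent.H4.RPC3 Groth.Agent.H4.RPC7 Groth.Agent.H4.RPC8 Groth.Agent.H4.PCS7
open Groth.Agent.H4.RPC9 Groth.Agent.H4.RPC10 Groth.Agent.H4.RPC11 Groth.Agent.H4.RPC12
open Groth.Agent.H4.RPC13 Groth.Agent.H4.RPC14 Groth.Agent.H4.RPC15 Groth.Agent.H4.PCS4 Groth.Agent.H4.PCS8 Pretriangulated
open Groth.Agent.H4.NT7 Groth.Agent.H4.RPC6 Groth.Agent.H4.RPC19 Groth.Agent.H4.RPC20 Groth.Agent.H4.RPC21
open Groth.Agent.H4.RPC22 Groth.Agent.H4.RPC17 Groth.Agent.H4.RPC23 Groth.Agent.H4.RPC25 Groth.Agent.H4.RPC26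
open Groth.Agent.H4.PC Groth.Agent.H4.RelPC Groth.Agent.H4.PCHom

namespace Groth.Agent.H4.PMor2

section Ring

variable (R A : Type u) [CommRing R] [CommRing A] [Algebra R A]

/-- a ring map is pseudo-coherent iff the target is relatively pseudo-coherent in every degree -/
theorem isPCHom_iff_relPC :
    MoreMor.IsPseudoCoherentHom R A ↔ ∀ j : ℤ, DerCA.IsRelPseudoCoherent R A j (Dual.inD A A) := by
  constructor
  · rintro ⟨n, φ, hφ, hpc⟩ j
    exact ⟨n, φ, hφ, isPC_of_iso (restrictDSingle _ _).symm (isPC_of_isPC' _ hpc j)⟩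
  · intro H
    obtain ⟨n, φ, hφ, -⟩ := H 0
    refine ⟨n, φ, hφ, ?_⟩
    exact isPC'_of_forall_isPC _ (fun j =>
      (relPC_single_iff φ hφ (ModuleCat.of A A) j).1 (H j))

end Ring

section Bridge

variable {X Y : Scheme.{u}} (f : X ⟶ Y)

lemma isPCHom_finiteType (R A : Type u) [CommRing R] [CommRing A] [Algebra R A]
    (h : MoreMor.IsPseudoCoherentHom R A) : Algebra.FiniteType R A := by
  obtain ⟨n, φ, hφ, -⟩ := h
  exact Algebra.FiniteType.of_surjective φ hφ

/-- a pseudo-coherent morphism is locally of finite type -/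
theorem locallyOfFiniteType_of_isPseudoCoherentMor (hf : MoreMor.IsPseudoCoherentMor f) :
    LocallyOfFiniteType f := by
  rw [HasRingHomProperty.iff_appLE (P := @LocallyOfFiniteType)]
  intro V U e
  letI := (f.appLE (V : Y.Opens) (U : X.Opens) e).hom.toAlgebra
  exact (RingHom.finiteType_algebraMap).2 (isPCHom_finiteType _ _ (hf _ _ U.2 V.2 e))

/-- **bridge**: pseudo-coherent morphisms via relative pseudo-coherence of the structure sheaf -/
theorem isPseudoCoherentMor_iff :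
    MoreMor.IsPseudoCoherentMor f ↔
      LocallyOfFiniteType f ∧ ∀ j : ℤ, DerSch.IsNPseudoCoherent f j := by
  constructor
  · intro hf
    haveI := locallyOfFiniteType_of_isPseudoCoherentMor f hf
    refine ⟨inferInstance, fun j => ?_⟩
    rw [DerSch.IsNPseudoCoherent, rel_iff_forall_chart]
    intro U V e n φ hφ hci
    rw [chart_unit_relpc_iff f φ U.2 e hφ j]
    letI := (f.appLE (V : Y.Opens) (U : X.Opens) e).hom.toAlgebra
    exact (isPCHom_iff_relPC _ _).1 (hf _ _ U.2 V.2 e) j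
  · rintro ⟨hl, H⟩ U V hU hV e
    letI := (f.appLE V U e).hom.toAlgebra
    rw [isPCHom_iff_relPC]
    intro j
    obtain ⟨n, φ, hφ⟩ := exists_isChart f U V e (LocallyOfFiniteType.finiteType_appLE f hV hU e)
    haveI := isClosedImmersion_gImm U φ hU hφ.1
    exact (chart_unit_relpc_iff f φ hU e hφ j).1
      ((rel_iff_forall_chart f j _).1 (H j) ⟨U, hU⟩ ⟨V, hV⟩ e n φ hφ inferInstance)

end Bridge

section Statements

variable {X Y Z : Scheme.{u}}

/-- **S7168** -/
theorem S7168 (f : X ⟶ Y) (hf : MoreMor.IsPseudoCoherentMor f) : LocallyOfFinitePresentation f := by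
  obtain ⟨hl, H⟩ := (isPseudoCoherentMor_iff f).1 hf
  exact (S6225 f).1 (H (-1))

/-- **S1504** -/
theorem S1504 (f : X ⟶ Y) (g : Y ⟶ Z) (hf : MoreMor.IsPseudoCoherentMor f)
    (hg : MoreMor.IsPseudoCoherentMor g) : MoreMor.IsPseudoCoherentMor (f ≫ g) := by
  obtain ⟨hlf, Hf⟩ := (isPseudoCoherentMor_iff f).1 hf
  obtain ⟨hlg, Hg⟩ := (isPseudoCoherentMor_iff g).1 hg
  rw [isPseudoCoherentMor_iff]
  exact ⟨inferInstance, fun j => (S12088 f g Hg j _).1 (Hf j)⟩

/-- **S7169** -/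
theorem S7169 (f : X ⟶ Y) (g : Y ⟶ Z) (hX : MoreMor.IsPseudoCoherentMor (f ≫ g))
    (hY : MoreMor.IsPseudoCoherentMor g) : MoreMor.IsPseudoCoherentMor f := by
  obtain ⟨hlh, Hh⟩ := (isPseudoCoherentMor_iff (f ≫ g)).1 hX
  obtain ⟨hlg, Hg⟩ := (isPseudoCoherentMor_iff g).1 hY
  haveI : LocallyOfFiniteType f := locallyOfFiniteType_of_comp f g
  rw [isPseudoCoherentMor_iff]
  exact ⟨inferInstance, fun j => (S12088 f g Hg j _).2 (Hh j)⟩

/-- **S1503** -/
theorem S1503 (f : X ⟶ Y) [IsLocallyNoetherian Y] :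
    MoreMor.IsPseudoCoherentMor f ↔ LocallyOfFiniteType f := by
  constructor
  · exact locallyOfFiniteType_of_isPseudoCoherentMor f
  · intro hl U V hU hV e
    letI := (f.appLE V U e).hom.toAlgebra
    haveI : IsNoetherianRing Γ(Y, V) := IsLocallyNoetherian.component_noetherian ⟨V, hV⟩
    haveI : Algebra.FiniteType Γ(Y, V) Γ(X, U) :=
      (RingHom.finiteType_algebraMap).1 (LocallyOfFiniteType.finiteType_appLE f hV hU e)
    exact Groth.Agent.S7067.result Γ(Y, V) Γ(X, U)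

/-- **S7166** -/
theorem S7166 (f : X ⟶ Y) :
    MoreMor.IsPseudoCoherentMor f ↔ ∀ x : X, ∃ (U : X.Opens) (V : Y.Opens) (hUV : U ≤ f ⁻¹ᵁ V),
      IsAffineOpen U ∧ IsAffineOpen V ∧ x ∈ U ∧
      (letI := (f.appLE V U hUV).hom.toAlgebra
       MoreMor.IsPseudoCoherentHom Γ(Y, V) Γ(X, U)) := by
  constructor
  · intro hf x
    obtain ⟨U, V, hU, hV, hxU, hUV⟩ := exists_affine_nhds_le_preimage f x
    exact ⟨U, V, hUV, hU, hV, hxU, hf U V hU hV hUV⟩
  · intro H
    have hl : LocallyOfFiniteType f := by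
      rw [HasRingHomProperty.iff_exists_appLE (P := @LocallyOfFiniteType)
        (RingHom.finiteType_stableUnderComposition.stableUnderCompositionWithLocalizationAway
          RingHom.finiteType_holdsForLocalizationAway).left]
      intro x
      obtain ⟨U, V, hUV, hU, hV, hxU, hpc⟩ := H x
      letI := (f.appLE V U hUV).hom.toAlgebra
      exact ⟨⟨V, hV⟩, ⟨U, hU⟩, hxU, hUV,
        (RingHom.finiteType_algebraMap).2 (isPCHom_finiteType _ _ hpc)⟩
    rw [isPseudoCoherentMor_iff]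
    refine ⟨hl, fun j => ?_⟩
    refine rel_of_local (fun x => ?_)
    obtain ⟨U, V, hUV, hU, hV, hxU, hpc⟩ := H x
    letI := (f.appLE V U hUV).hom.toAlgebra
    obtain ⟨n, φ, hφ⟩ := exists_isChart f U V hUV (LocallyOfFiniteType.finiteType_appLE f hV hU hUV)
    haveI := isClosedImmersion_gImm U φ hU hφ.1
    refine ⟨⟨U, hU⟩, ⟨V, hV⟩, hxU, hUV, n, φ, hφ, (gpc_iff U φ j _).2 ?_⟩
    exact (chart_unit_relpc_iff f φ hU hUV hφ j).2 ((isPCHom_iff_relPC _ _).1 hpc j)

end Statements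

end Groth.Agent.H4.PMor2
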