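import Mathlib
import Groth.Prelude.Def_DerSch2
import Groth.Prelude.Def_MoreMor
import Groth.Agent.H4.PMor2
import Groth.Agent.S6984
import Groth.Agent.S7071
import Groth.Agent.S7068

set_option autoImplicit false
universe u
attribute [local instance] HasDerivedCategory.standard
open CategoryTheory CategoryTheory.Limits AlgebraicGeometry DerivedCategory Opposite TopologicalSpace
open Groth.Agent.LD.QC
open Groth.Agent.H4.PC Groth.Agent.H4.RelPC Groth.Agent.H4.PCHom Groth.Agent.H4.PMor2
open DRing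

namespace Groth.Agent.H4.PMor3

section Ring

variable (R A : Type u) [CommRing R] [CommRing A] [Algebra R A]

/-- a finite ring map is pseudo-coherent iff the target is a pseudo-coherent module -/
theorem isPCHom_iff_of_finite [Module.Finite R A] :
    MoreMor.IsPseudoCoherentHom R A ↔ DRing.IsPseudoCoherentModule' R A := by
  haveI : Algebra.FiniteType R A := inferInstance
  have hRR : MoreMor.IsPseudoCoherentHom R R := (Groth.Agent.S7068.result R R).1
  have key : ∀ j : ℤ, DerCA.IsRelPseudoCoherent R A j (Dual.inD A A) ↔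
      DRing.IsPseudoCoherent R j (Dual.inD R A) := by
    intro j
    rw [(Groth.Agent.S6984.result (R := R) (A := R) (B := A) (Dual.inD A A) j).1,
      Groth.Agent.S7071.result R R hRR j]
    have e : (restrictD (algebraMap R A)).obj (Dual.inD A A) ≅ Dual.inD R A :=
      restrictDSingle _ _ ≪≫ (singleFunctor (ModuleCat.{u} R) 0).mapIso
        (Groth.Agent.H4.RestrPC.ofIsoRestrict (A := R) (B := A)).symm
    exact ⟨isPC_of_iso e, isPC_of_iso e.symm⟩
  rw [isPCHom_iff_relPC]
  constructor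
  · intro h
    exact isPC'_of_forall_isPC _ (fun j => (key j).1 (h j))
  · intro h j
    exact (key j).2 (isPC_of_isPC' _ h j)

end Ring

section Sch

variable {X S : Scheme.{u}} (f : X ⟶ S)

/-- **S7170** -/
theorem S7170 [IsFinite f] :
    MoreMor.IsPseudoCoherentMor f ↔ ∀ (V : S.Opens), IsAffineOpen V →
      (letI := (f.app V).hom.toAlgebra
       DRing.IsPseudoCoherentModule' Γ(S, V) Γ(X, f ⁻¹ᵁ V)) := by
  have key : ∀ (V : S.Opens), IsAffineOpen V →
      ((letI := (f.appLE V (f ⁻¹ᵁ V) le_rfl).hom.toAlgebra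
        MoreMor.IsPseudoCoherentHom Γ(S, V) Γ(X, f ⁻¹ᵁ V)) ↔
      (letI := (f.app V).hom.toAlgebra
       DRing.IsPseudoCoherentModule' Γ(S, V) Γ(X, f ⁻¹ᵁ V))) := by
    intro V hV
    have e : f.appLE V (f ⁻¹ᵁ V) le_rfl = f.app V := Scheme.Hom.appLE_eq_app f
    rw [e]
    letI := (f.app V).hom.toAlgebra
    haveI : Module.Finite Γ(S, V) Γ(X, f ⁻¹ᵁ V) := IsFinite.finite_app f V hV
    exact isPCHom_iff_of_finite Γ(S, V) Γ(X, f ⁻¹ᵁ V)
  constructor
  · intro hf V hV
    exact (key V hV).1 (hf (f ⁻¹ᵁ V) V (hV.preimage f) hV le_rfl)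
  · intro H
    rw [S7166]
    intro x
    obtain ⟨V, hV, hxV, -⟩ := exists_isAffineOpen_mem_and_subset (x := f.base x) (U := ⊤) trivial
    exact ⟨f ⁻¹ᵁ V, V, le_rfl, hV.preimage f, hV, hxV, (key V hV).2 (H V hV)⟩

end Sch

end Groth.Agent.H4.PMor3
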