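import Mathlib
import Groth.Prelude.Def_DerSch2
import Groth.Prelude.Def_Flatn
import Groth.Agent.H4.RPC26
import Groth.Agent.H4.FlatFPPC3
import Groth.Agent.S9353
import Groth.Agent.H4.RelTor9
import Groth.Agent.H4.RelTor1

set_option autoImplicit false
universe u
attribute [local instance] HasDerivedCategory.standard
open CategoryTheory CategoryTheory.Limits AlgebraicGeometry DerivedCategory Opposite TopologicalSpace
open Groth.Agent.LD.QC
open Groth.Agent.H4.PSch2 Groth.Agent.H4.RPC2 Groth.Agent.H4.FAmp5 Groth.Agent.H4.TilD9 Groth.Agent.H4.TilD10 Groth.Agent.H4.TilD11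
open Groth.Agent.H4.RPC2b Groth.Agent.H4.RPC3 Groth.Agent.H4.RPC7 Groth.Agent.H4.RPC8 Groth.Agent.H4.PCS7
open Groth.Agent.H4.RPC9 Groth.Agent.H4.RPC10 Groth.Agent.H4.RPC11 Groth.Agent.H4.RPC12
open Groth.Agent.H4.RPC13 Groth.Agent.H4.RPC14 Groth.Agent.H4.RPC15 Groth.Agent.H4.PCS4 Groth.Agent.H4.PCS8 Pretriangulated
open Groth.Agent.H4.NT7 Groth.Agent.H4.RPC6 Groth.Agent.H4.RPC19 Groth.Agent.H4.RPC20 Groth.Agent.H4.RPC21
open Groth.Agent.H4.RPC22 Groth.Agent.H4.RPC17 Groth.Agent.H4.RPC23 Groth.Agent.H4.RPC25 Groth.Agent.H4.RPC18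
open Groth.Agent.H4.PC Groth.Agent.H4.RPC16

namespace Groth.Agent.H4.RPC27

variable {X Y : Scheme.{u}} (f : X ⟶ Y)

/-- a module flat over the base and finitely presented relative to `f` is pseudo-coherent relative to `f` -/
theorem rel_all_of_flat_fp [LocallyOfFiniteType f] (M : X.Modules) (hfl : FlatMod.IsFlatOver f M)
    (hfp : DerSch.IsPseudoCoherentRel f (-1) (DCoh.inD X M)) (m : ℤ) :
    DerSch.IsPseudoCoherentRel f m (DCoh.inD X M) := by
  have hq : Coh.IsQCoh M := by
    have h1 := S7213 f (-1) (DCoh.inD X M) hfp 0 (by norm_num)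
    exact qc_of_iso ((singleFunctorCompHomologyFunctorIso X.Modules 0).app M) h1
  haveI : M.IsQuasicoherent := hq
  rw [rel_iff_forall_chart] at hfp ⊢
  intro U V hUV n φ hφ hci
  have h1 := hfp U V hUV n φ hφ hci
  rw [chart_inD_pc_iff M U.2 φ] at h1 ⊢
  have h2 := (isPCModule_negOne_iff
    ((ModuleCat.restrictScalars φ).obj (ModuleCat.of Γ(X, (U : X.Opens)) Γ(M, (U : X.Opens))))).1 h1
  have h3 := (Groth.Agent.S9353.result f M hq).1 hfl U V hUV U.2 V.2
  set N := (ModuleCat.restrictScalars φ).obj (ModuleCat.of Γ(X, (U : X.Opens)) Γ(M, (U : X.Opens)))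
    with hN
  letI mR : Module Γ(Y, (V : Y.Opens)) N :=
    Module.compHom N (algebraMap Γ(Y, (V : Y.Opens)) (MvPolynomial (Fin n) Γ(Y, (V : Y.Opens))))
  haveI : IsScalarTower Γ(Y, (V : Y.Opens)) (MvPolynomial (Fin n) Γ(Y, (V : Y.Opens))) N :=
    ⟨fun r b x => by
      change (r • b) • x = (algebraMap _ (MvPolynomial (Fin n) Γ(Y, (V : Y.Opens))) r) • (b • x)
      rw [Algebra.smul_def, mul_smul]⟩
  haveI : Module.FinitePresentation (MvPolynomial (Fin n) Γ(Y, (V : Y.Opens))) N := h2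
  haveI : Module.Flat Γ(Y, (V : Y.Opens)) N := by
    letI m2 : Module Γ(Y, (V : Y.Opens)) (M.val.obj (op (U : X.Opens))) :=
      Module.compHom _ (f.appLE (V : Y.Opens) (U : X.Opens) hUV).hom
    haveI : Module.Flat Γ(Y, (V : Y.Opens)) (M.val.obj (op (U : X.Opens))) := h3
    let e : N ≃ₗ[Γ(Y, (V : Y.Opens))] (M.val.obj (op (U : X.Opens))) :=
      { toFun := id
        invFun := id
        map_add' := fun _ _ => rfl
        map_smul' := fun r x => by
          have := congr($(hφ.2) r)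
          change (φ (MvPolynomial.C r)) • x = (f.appLE (V : Y.Opens) (U : X.Opens) hUV).hom r • x
          rw [← this]; rfl
        left_inv := fun _ => rfl
        right_inv := fun _ => rfl }
    exact Module.Flat.of_linearEquiv e
  have h4 := Groth.Agent.H4.FlatFPPC3.isPC'_module_of_fp_flat Γ(Y, (V : Y.Opens))
    (MvPolynomial (Fin n) Γ(Y, (V : Y.Opens))) N
  exact isPC_of_isPC' _ h4 m

/-- `M` in degree `0`, as a complex, is `M` in degree `0` of the derived category -/
noncomputable def toDSingleIso (M : X.Modules) :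
    DCoh.toD X ((HomologicalComplex.single _ (ComplexShape.up ℤ) 0).obj M) ≅ DCoh.inD X M :=
  ((DerivedCategory.singleFunctorIsoCompQ X.Modules 0).app M).symm

/-- **S6215** -/
theorem S6215 [LocallyOfFiniteType f] (E : CochainComplex X.Modules ℤ) (b : ℤ)
    (hb : ∀ i : ℤ, b < i → IsZero (E.X i))
    (hfl : ∀ i : ℤ, FlatMod.IsFlatOver f (E.X i))
    (hfp : ∀ i : ℤ, DerSch.IsPseudoCoherentRel f (-1)
      (DCoh.toD X ((HomologicalComplex.single _ (ComplexShape.up ℤ) 0).obj (E.X i)))) :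
    DerSch.IsPseudoCoherentRelAll f (DCoh.toD X E) := by
  intro m
  refine S7215 f m E b hb (fun i => ?_)
  exact rel_all_of_flat_fp f (E.X i) (hfl i) (rel_of_iso f (toDSingleIso (E.X i)) (hfp i)) (m - i)

section RingFlat

variable {R : Type u} [CommRing R]

/-- a module of tor amplitude `[0, 0]` is flat -/
theorem flat_of_hasTorAmp_zero (N : ModuleCat.{u} R)
    (h : DRing.HasTorAmplitudeIn R 0 0 ((singleFunctor (ModuleCat.{u} R) 0).obj N)) :
    Module.Flat R N := by
  obtain ⟨E, hv, hfl, ⟨e⟩⟩ := h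
  haveI : E.IsStrictlyGE 0 := by
    rw [CochainComplex.isStrictlyGE_iff]
    intro i hi
    exact hv i (Or.inl hi)
  haveI : E.IsStrictlyLE 0 := by
    rw [CochainComplex.isStrictlyLE_iff]
    intro i hi
    exact hv i (Or.inr hi)
  obtain ⟨M, ⟨e'⟩⟩ := CochainComplex.exists_iso_single E 0
  have eM : E.X 0 ≅ M := (HomologicalComplex.eval _ _ 0).mapIso e' ≪≫
    HomologicalComplex.singleObjXSelf (ComplexShape.up ℤ) 0 M
  have e2 : (singleFunctor (ModuleCat.{u} R) 0).obj M ≅ (singleFunctor (ModuleCat.{u} R) 0).obj N :=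
    (singleFunctorIsoCompQ _ 0).app M ≪≫ (Q.mapIso e').symm ≪≫ e
  have e3 : M ≅ N := (singleFunctor (ModuleCat.{u} R) 0).preimageIso e2
  haveI := hfl 0
  exact Module.Flat.of_linearEquiv (eM ≪≫ e3).symm.toLinearEquiv

end RingFlat

/-- **S6216** -/
theorem S6216 [LocallyOfFiniteType f] (E : CochainComplex X.Modules ℤ) (a b : ℤ)
    (hab : DCoh.VanishesOutside E a b)
    (hfl : ∀ i : ℤ, FlatMod.IsFlatOver f (E.X i))
    (hfp : ∀ i : ℤ, DerSch.IsPseudoCoherentRel f (-1)
      (DCoh.toD X ((HomologicalComplex.single _ (ComplexShape.up ℤ) 0).obj (E.X i)))) :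
    DerSch.HasPerfAmplitudeRel f a b E :=
  ⟨S6215 f E b (fun i hi => hab i (Or.inr hi)) hfl hfp,
    Groth.Agent.H4.RelTor9.hasTorAmplitude_of_hasRelFlatAmplitudeIn f E a b
      ⟨E, hab, hfl, ⟨Iso.refl _⟩⟩⟩

/-- relative tor amplitude `[0, 0]` of a module in degree `0` is flatness over the base -/
theorem hasTorAmplitude_single_iff (M : X.Modules) :
    DerSch.HasTorAmplitude f 0 0 ((HomologicalComplex.single _ (ComplexShape.up ℤ) 0).obj M) ↔
      FlatMod.IsFlatOver f M := by
  constructor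
  · intro h
    rw [Groth.Agent.H4.RelTor9.isFlatOver_iff]
    intro x
    have h1 := h x
    refine flat_of_hasTorAmp_zero ((DerSch.stalkOver f x).obj M) ?_
    let e1 := (HomologicalComplex.singleMapHomologicalComplex (DerSch.stalkOver f x)
      (ComplexShape.up ℤ) 0).app M
    exact Groth.Agent.H4.TorAmp.hasTorAmp_of_iso (DerivedCategory.Q.mapIso e1 ≪≫
      ((singleFunctorIsoCompQ _ 0).app _).symm) h1
  · intro h
    refine Groth.Agent.H4.RelTor9.hasTorAmplitude_of_hasRelFlatAmplitudeIn f _ 0 0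
      ⟨_, ?_, ?_, ⟨Iso.refl _⟩⟩
    · intro i hi
      exact HomologicalComplex.isZero_single_obj_X (ComplexShape.up ℤ) 0 M i (by omega)
    · intro i
      by_cases hi : i = 0
      · subst hi
        exact Groth.Agent.H4.RelTor9.isFlatOver_of_iso f
          (HomologicalComplex.singleObjXSelf (ComplexShape.up ℤ) 0 M).symm h
      · exact Groth.Agent.H4.RelTor9.isFlatOver_of_isZero f _
          (HomologicalComplex.isZero_single_obj_X (ComplexShape.up ℤ) 0 M i hi)

/-- **S6213** -/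
theorem S6213 [LocallyOfFiniteType f] (M : X.Modules) :
    DerSch.HasPerfAmplitudeRel f 0 0 ((HomologicalComplex.single _ (ComplexShape.up ℤ) 0).obj M) ↔
      (FlatMod.IsFlatOver f M ∧ DerSch.IsPseudoCoherentRel f (-1)
        (DCoh.toD X ((HomologicalComplex.single _ (ComplexShape.up ℤ) 0).obj M))) := by
  constructor
  · rintro ⟨h1, h2⟩
    exact ⟨(hasTorAmplitude_single_iff f M).1 h2, h1 (-1)⟩
  · rintro ⟨h1, h2⟩
    refine ⟨fun m => ?_, (hasTorAmplitude_single_iff f M).2 h1⟩
    exact rel_of_iso f (toDSingleIso M).symm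
      (rel_all_of_flat_fp f M h1 (rel_of_iso f (toDSingleIso M) h2) m)

/-- the structure sheaf is flat over the base iff the morphism is flat -/
theorem isFlatOver_structureModule_iff : FlatMod.IsFlatOver f (Coh.structureModule X) ↔ Flat f := by
  rw [Groth.Agent.H4.RelTor9.isFlatOver_iff, Flat.iff_flat_stalkMap]
  refine forall_congr' (fun x => ?_)
  letI : Algebra (Y.presheaf.stalk (f.base x)) (X.presheaf.stalk x) := (f.stalkMap x).hom.toAlgebra
  let e2 : (DerSch.stalkOver f x).obj (Coh.structureModule X) ≅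
      ModuleCat.of (Y.presheaf.stalk (f.base x)) (X.presheaf.stalk x) :=
    (ModuleCat.restrictScalars (f.stalkMap x).hom).mapIso
      (Groth.Agent.H2.HomSh.unitStalkEquiv x).symm.toModuleIso ≪≫
        Groth.Agent.H4.RestrPC.ofIsoRestrict.symm
  have h1 : (f.stalkMap x).hom.Flat ↔
      Module.Flat (Y.presheaf.stalk (f.base x)) (X.presheaf.stalk x) := by
    rw [← RingHom.flat_algebraMap_iff]
    rfl
  rw [h1]
  exact ⟨fun h => Module.Flat.of_linearEquiv e2.symm.toLinearEquiv,
    fun h => Module.Flat.of_linearEquiv e2.toLinearEquiv⟩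

/-- **S6214** -/
theorem S6214 [LocallyOfFiniteType f] :
    DerSch.HasPerfDimLE f 0 ↔ (Flat f ∧ LocallyOfFinitePresentation f) := by
  have h0 : DerSch.HasPerfDimLE f 0 ↔ DerSch.HasPerfAmplitudeRel f 0 0
      ((HomologicalComplex.single _ (ComplexShape.up ℤ) 0).obj (Coh.structureModule X)) := by
    unfold DerSch.HasPerfDimLE
    simp only [Nat.cast_zero, neg_zero]
  rw [h0, S6213, isFlatOver_structureModule_iff, ← Groth.Agent.H4.RPC26.S6225 f]

end Groth.Agent.H4.RPC27
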