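import Mathlib

set_option autoImplicit false
open TensorProduct

namespace Groth.Agent.H4.RelFPBC

/-- Base change of relative finite presentation (module form).
`P → A` surjective, `M` an `A`-module finitely presented over `P`; `T` a `P`-algebra,
`A'` an `A`-algebra with a surjection `T → A'` over `P` whose kernel is `K T + J̃` with `K = ker(P → A)`
and `J̃` finitely generated.  Then `A' ⊗_A M` is a finitely presented `T`-module. -/
theorem fp_tensor_of_ker_eq {P A T A' M : Type*} [CommRing P] [CommRing A] [CommRing T] [CommRing A']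
    [Algebra P A] [Algebra P T] [Algebra A A'] [Algebra T A'] [Algebra P A']
    [IsScalarTower P A A'] [IsScalarTower P T A']
    [AddCommGroup M] [Module A M] [Module P M] [IsScalarTower P A M]
    [Module.FinitePresentation P M]
    (hPA : Function.Surjective (algebraMap P A))
    (hTA' : Function.Surjective (algebraMap T A'))
    (J : Ideal T) (hJ : J.FG)
    (hker : RingHom.ker (algebraMap T A') = (RingHom.ker (algebraMap P A)).map (algebraMap P T) ⊔ J) :
    Module.FinitePresentation T (A' ⊗[A] M) := by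
  -- compatibility of the actions
  haveI : CompatibleSMul P A A' M := ⟨fun a x m => by
    obtain ⟨p, rfl⟩ := hPA a
    rw [algebraMap_smul, algebraMap_smul, smul_tmul]⟩
  let e1 : A' ⊗[A] M ≃ₗ[A'] A' ⊗[P] M := equivOfCompatibleSMul P A A' A' M
  let e2 : A' ⊗[T] (T ⊗[P] M) ≃ₗ[A'] A' ⊗[P] M := AlgebraTensorModule.cancelBaseChange P T A' A' M
  let I : Ideal T := RingHom.ker (algebraMap T A')
  let e3 : (T ⧸ I) ≃ₐ[T] A' :=
    Ideal.quotientKerAlgEquivOfSurjective (f := Algebra.ofId T A') hTA'
  let e4 : (T ⧸ I) ⊗[T] (T ⊗[P] M) ≃ₗ[T] A' ⊗[T] (T ⊗[P] M) :=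
    TensorProduct.congr e3.toLinearEquiv (LinearEquiv.refl T _)
  let e5 : (T ⧸ I) ⊗[T] (T ⊗[P] M) ≃ₗ[T] (T ⊗[P] M) ⧸ (I • (⊤ : Submodule T (T ⊗[P] M))) :=
    quotTensorEquivQuotSMul (T ⊗[P] M) I
  let E : A' ⊗[A] M ≃ₗ[T] (T ⊗[P] M) ⧸ (I • (⊤ : Submodule T (T ⊗[P] M))) :=
    ((e1.trans e2.symm).restrictScalars T).trans (e4.symm.trans e5)
  have hfg : (I • (⊤ : Submodule T (T ⊗[P] M))).FG := by
    have key : ∀ k ∈ RingHom.ker (algebraMap P A), ∀ n : T ⊗[P] M, k • n = 0 := by
      intro k hk n
      induction n with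
      | zero => simp
      | add x y hx hy => rw [smul_add, hx, hy, add_zero]
      | tmul t m =>
        rw [← tmul_smul]
        have : k • m = 0 := by
          rw [← algebraMap_smul A k m, (RingHom.mem_ker).mp hk, zero_smul]
        rw [this, tmul_zero]
    have h0 : ((RingHom.ker (algebraMap P A)).map (algebraMap P T)) •
        (⊤ : Submodule T (T ⊗[P] M)) = ⊥ := by
      rw [eq_bot_iff, Submodule.smul_le]
      intro r hr n _
      rw [Submodule.mem_bot]
      rw [Ideal.map] at hr
      induction hr using Submodule.span_induction with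
      | mem x hx =>
        obtain ⟨k, hk, rfl⟩ := hx
        rw [algebraMap_smul]
        exact key k hk n
      | zero => simp
      | add x y _ _ hx hy => rw [add_smul, hx, hy, add_zero]
      | smul a x _ hx => rw [smul_eq_mul, mul_smul, hx, smul_zero]
    show ((RingHom.ker (algebraMap T A')) • (⊤ : Submodule T (T ⊗[P] M))).FG
    rw [hker, Submodule.sup_smul, h0, bot_sup_eq]
    exact Submodule.FG.smul hJ Module.Finite.fg_top
  haveI : Module.FinitePresentation T
      ((T ⊗[P] M) ⧸ (I • (⊤ : Submodule T (T ⊗[P] M)))) :=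
    Module.finitePresentation_of_surjective (Submodule.mkQ _) (Submodule.mkQ_surjective _)
      (by rw [Submodule.ker_mkQ]; exact hfg)
  exact Module.FinitePresentation.of_equiv E.symm

theorem pushout_presentation {R A R' A' : Type*} [CommRing R] [CommRing A] [CommRing R'] [CommRing A']
    [Algebra R A] [Algebra R R'] [Algebra A A'] [Algebra R' A'] [Algebra R A'] [IsScalarTower R A A']
    [IsScalarTower R R' A'] [Algebra.IsPushout R A R' A'] {σ : Type*}
    (α : MvPolynomial σ R →ₐ[R] A) (hα : Function.Surjective α) :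
    let ψ : MvPolynomial σ R' →ₐ[R'] A' := MvPolynomial.aeval (fun i => algebraMap A A' (α (MvPolynomial.X i)))
    Function.Surjective ψ ∧ RingHom.ker ψ.toRingHom =
      (RingHom.ker α.toRingHom).map (MvPolynomial.map (algebraMap R R')) := by
  intro ψ
  haveI : Algebra.IsPushout R R' A A' := Algebra.IsPushout.symm inferInstance
  let e1 : R' ⊗[R] MvPolynomial σ R ≃ₐ[R'] MvPolynomial σ R' := MvPolynomial.algebraTensorAlgEquiv R R'
  let e2 : R' ⊗[R] A ≃ₐ[R'] A' := Algebra.IsPushout.equiv R R' A A'
  let Φ : R' ⊗[R] MvPolynomial σ R →ₐ[R'] R' ⊗[R] A :=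
    Algebra.TensorProduct.map (AlgHom.id R' R') α
  have hΦ : Function.Surjective Φ := LinearMap.lTensor_surjective R' hα
  have hcomm : ψ.comp e1.toAlgHom = e2.toAlgHom.comp Φ := by
    apply Algebra.TensorProduct.ext
    · ext
    · apply MvPolynomial.algHom_ext
      intro i
      simp [ψ, e1, e2, Φ, Algebra.IsPushout.equiv_tmul]
  have hcomm' : ∀ z, ψ (e1 z) = e2 (Φ z) := fun z => AlgHom.congr_fun hcomm z
  refine ⟨?_, ?_⟩
  · intro y
    obtain ⟨z, hz⟩ := hΦ (e2.symm y)
    exact ⟨e1 z, by rw [hcomm', hz, AlgEquiv.apply_symm_apply]⟩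
  · have hker : RingHom.ker Φ.toRingHom = (RingHom.ker α.toRingHom).map
        (Algebra.TensorProduct.includeRight : MvPolynomial σ R →ₐ[R] R' ⊗[R] MvPolynomial σ R) :=
      Algebra.TensorProduct.lTensor_ker (A := R') α hα
    have h1 : RingHom.ker ψ.toRingHom = (RingHom.ker Φ.toRingHom).map e1.toAlgHom.toRingHom := by
      ext t
      constructor
      · intro ht
        obtain ⟨z, rfl⟩ := e1.surjective t
        apply Ideal.mem_map_of_mem
        rw [RingHom.mem_ker] at ht ⊢
        have : ψ (e1 z) = 0 := ht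
        rw [hcomm'] at this
        exact e2.injective (this.trans (map_zero e2).symm)
      · intro ht
        rw [Ideal.map] at ht
        refine Submodule.span_induction ?_ ?_ ?_ ?_ ht
        · rintro _ ⟨z, hz, rfl⟩
          rw [RingHom.mem_ker]
          show ψ (e1 z) = 0
          rw [hcomm']
          have : Φ z = 0 := hz
          rw [this, map_zero]
        · exact Ideal.zero_mem _
        · intro x y _ _ hx hy; exact Ideal.add_mem _ hx hy
        · intro a x _ hx; exact Ideal.mul_mem_left _ a hx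
    rw [h1, hker]
    change Ideal.map e1.toAlgHom.toRingHom (Ideal.map
      (Algebra.TensorProduct.includeRight : MvPolynomial σ R →ₐ[R] R' ⊗[R] MvPolynomial σ R).toRingHom
      (RingHom.ker α.toRingHom)) = _
    rw [Ideal.map_map]
    congr 1
    refine RingHom.ext fun p => ?_
    show e1 ((1 : R') ⊗ₜ[R] p) = _
    rw [MvPolynomial.algebraTensorAlgEquiv_tmul, one_smul]

end Groth.Agent.H4.RelFPBC
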