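import Mathlib
import Groth.Prelude.Def_DerCA
import Groth.Agent.H4.RelPC4
import Groth.Agent.H4.RelFPBC
import Groth.Agent.H4.FlatFam2

set_option autoImplicit false
universe u
open CategoryTheory CategoryTheory.Limits TensorProduct
attribute [local instance] HasDerivedCategory.standard
open DRing

namespace Groth.Agent.H4.RelBC1
open Groth.Agent.H4.PCHom Groth.Agent.H4.PC Groth.Agent.H4.RelPC DerivedCategory
open Groth.Agent.H4.LDer Groth.Agent.H4.BC Groth.Agent.H4.BCSq Groth.Agent.H4.PCDesc
open Groth.Agent.H4.FlatFam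


attribute [local instance] HasDerivedCategory.standard

open DerivedCategory DRing Groth.Agent.H4.LDer Groth.Agent.H4.PC Groth.Agent.H4.BC
  Groth.Agent.H4.PCDesc Groth.Agent.H4.FlatFam

section One

variable {R R' : Type u} [CommRing R] [CommRing R'] [Algebra R R'] [Module.Flat R R']

/-- if `R' ⊗ Q = 0` for a flat `R`-algebra `R'`, every element of `Q` is killed by an element
outside any prime coming from `R'` -/
theorem exists_smul_eq_zero_of_subsingleton (Q : Type u) [AddCommGroup Q] [Module R Q]
    [Subsingleton (R' ⊗[R] Q)] (x : Q) (q : Ideal R') [q.IsPrime] :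
    ∃ r : R, r ∉ q.comap (algebraMap R R') ∧ r • x = 0 := by
  by_contra hcon
  push Not at hcon
  set I : Ideal R := LinearMap.ker (LinearMap.toSpanSingleton R Q x) with hI
  have hIle : I ≤ q.comap (algebraMap R R') := by
    intro r hr
    by_contra hr'
    exact hcon r hr' (by simpa [hI] using hr)
  -- the injection `R ⧸ I → Q`
  let ι : (R ⧸ I) →ₗ[R] Q := Submodule.liftQ I (LinearMap.toSpanSingleton R Q x) le_rfl
  have hι : Function.Injective ι := by
    rw [← LinearMap.ker_eq_bot]
    exact Submodule.ker_liftQ_eq_bot _ _ _ le_rfl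
  have h1 : Function.Injective (ι.lTensor R') := Module.Flat.lTensor_preserves_injective_linearMap ι hι
  haveI : Subsingleton (R' ⊗[R] (R ⧸ I)) := h1.subsingleton
  haveI : Subsingleton (R' ⧸ (I • (⊤ : Submodule R R'))) :=
    (TensorProduct.tensorQuotEquivQuotSMul R' I).symm.toEquiv.subsingleton_congr.2 inferInstance
  have h2 : I • (⊤ : Submodule R R') = ⊤ := by
    rw [← Submodule.Quotient.subsingleton_iff]
    infer_instance
  have h3 : I • (⊤ : Submodule R R') ≤ q.restrictScalars R := by
    rw [Submodule.smul_le]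
    intro r hr s _
    change r • s ∈ q
    rw [Algebra.smul_def]
    exact q.mul_mem_right _ (hIle hr)
  have h4 : (1 : R') ∈ q := h3 (by rw [h2]; exact Submodule.mem_top)
  exact (Ideal.IsPrime.ne_top inferInstance) ((Ideal.eq_top_iff_one q).2 h4)

end One

section Fam

variable {R : Type u} [CommRing R] {ι : Type} {R' : ι → Type u} [∀ i, CommRing (R' i)]
  [∀ i, Algebra R (R' i)]

/-- a family of flat algebras which is jointly surjective on spectra is jointly faithfully flat -/
theorem jff_of_flat_of_surj (hfl : ∀ i, Module.Flat R (R' i))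
    (hs : ∀ p : Ideal R, p.IsPrime → ∃ i, ∃ q : Ideal (R' i), q.IsPrime ∧
      q.comap (algebraMap R (R' i)) = p) :
    JFF (B := R') (fun i => algebraMap R (R' i)) where
  flat := fun i => (RingHom.flat_algebraMap_iff).2 (hfl i)
  refl := fun Q h => by
    haveI : ∀ i, Subsingleton (R' i ⊗[R] Q) := fun i =>
      (Groth.Agent.H8.ExtBridge.extEquiv (A := R) (B := R' i) Q).symm.toEquiv.subsingleton_congr.2
        (ModuleCat.subsingleton_of_isZero (h i))
    haveI : Subsingleton Q := by
      refine ⟨fun x y => ?_⟩
      suffices h0 : ∀ x : Q, x = 0 by rw [h0 x, h0 y]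
      intro x
      by_contra hx
      have hI : LinearMap.ker (LinearMap.toSpanSingleton R Q x) ≠ ⊤ := by
        intro h
        apply hx
        have h1 : (1 : R) ∈ LinearMap.ker (LinearMap.toSpanSingleton R Q x) := by
          rw [h]; exact Submodule.mem_top
        rw [LinearMap.mem_ker, LinearMap.toSpanSingleton_apply, one_smul] at h1
        exact h1
      obtain ⟨m, hm, hIm⟩ := Ideal.exists_le_maximal _ hI
      obtain ⟨i, q, hq, hqm⟩ := hs m hm.isPrime
      haveI := hq
      haveI := hfl i
      obtain ⟨r, hr, hrx⟩ := exists_smul_eq_zero_of_subsingleton (R := R) (R' := R' i) Q x q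
      have h2 : r ∈ LinearMap.ker (LinearMap.toSpanSingleton R Q x) := by
        rw [LinearMap.mem_ker, LinearMap.toSpanSingleton_apply]
        exact hrx
      exact hr (hqm ▸ hIm h2)
    exact ModuleCat.isZero_of_subsingleton Q

end Fam

section Poly

variable {R : Type u} [CommRing R] {ι : Type} {R' : ι → Type u} [∀ i, CommRing (R' i)]
  [∀ i, Algebra R (R' i)]

attribute [local instance] MvPolynomial.algebraMvPolynomial in
/-- adjoining variables to a jointly faithfully flat family -/
theorem jff_mvPolynomial (σ : Type) (hφ : JFF (B := R') (fun i => algebraMap R (R' i))) :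
    JFF (B := fun i => MvPolynomial σ (R' i))
      (fun i => (MvPolynomial.map (algebraMap R (R' i)) :
        MvPolynomial σ R →+* MvPolynomial σ (R' i))) where
  flat := fun i => by
    haveI : Module.Flat R (R' i) := (RingHom.flat_algebraMap_iff).1 (hφ.flat i)
    haveI : Module.Flat (MvPolynomial σ R) (MvPolynomial σ (R' i)) :=
      Module.Flat.isBaseChange R (MvPolynomial σ R) (R' i) (MvPolynomial σ (R' i))
        (Algebra.IsPushout.out (R := R) (S := MvPolynomial σ R) (R' := R' i)
          (S' := MvPolynomial σ (R' i)))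
    exact (RingHom.flat_algebraMap_iff).2 inferInstance
  refl := fun Q h => by
    letI mR : Module R Q := Module.compHom Q (algebraMap R (MvPolynomial σ R))
    haveI : IsScalarTower R (MvPolynomial σ R) Q := ⟨fun r p x => by
      change (r • p) • x = (algebraMap R (MvPolynomial σ R) r) • (p • x)
      rw [Algebra.smul_def, mul_smul]⟩
    have h1 : IsZero ((ModuleCat.restrictScalars (algebraMap R (MvPolynomial σ R))).obj Q) := by
      refine hφ.refl _ (fun i => ?_)
      haveI : Subsingleton (MvPolynomial σ (R' i) ⊗[MvPolynomial σ R] Q) :=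
        (Groth.Agent.H8.ExtBridge.extEquiv (A := MvPolynomial σ R) (B := MvPolynomial σ (R' i))
          Q).symm.toEquiv.subsingleton_congr.2 (ModuleCat.subsingleton_of_isZero (h i))
      haveI : Subsingleton (R' i ⊗[R] Q) :=
        (Algebra.IsPushout.cancelBaseChange R (R' i) (MvPolynomial σ R) (MvPolynomial σ (R' i))
          Q).symm.toEquiv.subsingleton_congr.2 inferInstance
      haveI : Subsingleton ((ModuleCat.extendScalars (algebraMap R (R' i))).obj
          ((ModuleCat.restrictScalars (algebraMap R (MvPolynomial σ R))).obj Q)) :=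
        (Groth.Agent.H8.ExtBridge.extEquiv (A := R) (B := R' i)
          ((ModuleCat.restrictScalars (algebraMap R (MvPolynomial σ R))).obj Q)).toEquiv.subsingleton_congr.2
          (inferInstanceAs (Subsingleton (R' i ⊗[R] Q)))
      exact ModuleCat.isZero_of_subsingleton _
    have h2 : Subsingleton ((ModuleCat.restrictScalars
        (algebraMap R (MvPolynomial σ R))).obj Q) := ModuleCat.subsingleton_of_isZero h1
    haveI : Subsingleton Q := h2
    exact ModuleCat.isZero_of_subsingleton Q

end Poly


section RelBC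

open MvPolynomial

variable (R R' A A' : Type u) [CommRing R] [CommRing R'] [CommRing A] [CommRing A']
  [Algebra R R'] [Algebra R A] [Algebra R' A'] [Algebra A A'] [Algebra R A']
  [IsScalarTower R R' A'] [IsScalarTower R A A'] [Algebra.IsPushout R A R' A']

variable {R A} in
/-- the base-changed presentation -/
noncomputable abbrev bcPres {n : ℕ} (α : MvPolynomial (Fin n) R →ₐ[R] A) :
    MvPolynomial (Fin n) R' →ₐ[R'] A' :=
  MvPolynomial.aeval (fun i => algebraMap A A' (α (MvPolynomial.X i)))

lemma bcPres_surjective {n : ℕ} (α : MvPolynomial (Fin n) R →ₐ[R] A)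
    (hα : Function.Surjective α) : Function.Surjective (bcPres R' A' α) :=
  (Groth.Agent.H4.RelFPBC.pushout_presentation α hα).1

attribute [local instance] MvPolynomial.algebraMvPolynomial in
/-- flat base change: the derived base change of `A` over `R[x]` is `A'` over `R'[x]` -/
theorem nonempty_lbc_iso [Module.Flat R R'] {n : ℕ} (α : MvPolynomial (Fin n) R →ₐ[R] A)
    (hα : Function.Surjective α)
    [DRing.HasLBaseChange (MvPolynomial.map (algebraMap R R') :
      MvPolynomial (Fin n) R →+* MvPolynomial (Fin n) R')] :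
    Nonempty ((DRing.LBaseChange (MvPolynomial.map (algebraMap R R') :
        MvPolynomial (Fin n) R →+* MvPolynomial (Fin n) R')).obj
        ((DRing.restrictD (α : MvPolynomial (Fin n) R →+* A)).obj (Dual.inD A A)) ≅
      (DRing.restrictD (bcPres R' A' α : MvPolynomial (Fin n) R' →+* A')).obj
        (Dual.inD A' A')) := by
  set ψ := bcPres R' A' α with hψdef
  have hψ : Function.Surjective ψ := bcPres_surjective R R' A A' α hα
  letI algPA : Algebra (MvPolynomial (Fin n) R) A := α.toRingHom.toAlgebra
  letI algP'A' : Algebra (MvPolynomial (Fin n) R') A' := ψ.toRingHom.toAlgebra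
  letI algPA' : Algebra (MvPolynomial (Fin n) R) A' :=
    ((algebraMap A A').comp α.toRingHom).toAlgebra
  haveI t1 : IsScalarTower R (MvPolynomial (Fin n) R) A := IsScalarTower.of_algebraMap_eq (fun r => by
    change algebraMap R A r = α (algebraMap R _ r)
    rw [α.commutes])
  haveI t2 : IsScalarTower (MvPolynomial (Fin n) R) A A' := IsScalarTower.of_algebraMap_eq (fun _ => rfl)
  have hcomp : (ψ.toRingHom).comp (MvPolynomial.map (algebraMap R R')) =
      (algebraMap A A').comp α.toRingHom := by
    apply MvPolynomial.ringHom_ext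
    · intro r
      simp only [RingHom.comp_apply, MvPolynomial.map_C]
      change ψ (MvPolynomial.C (algebraMap R R' r)) = algebraMap A A' (α (MvPolynomial.C r))
      have h1 : ψ (MvPolynomial.C (algebraMap R R' r)) = algebraMap R' A' (algebraMap R R' r) := by
        simp [ψ]
      have h2 : α (MvPolynomial.C r) = algebraMap R A r := by
        rw [← MvPolynomial.algebraMap_eq, α.commutes]
      rw [h1, h2, ← IsScalarTower.algebraMap_apply, ← IsScalarTower.algebraMap_apply]
    · intro i
      simp only [RingHom.comp_apply, MvPolynomial.map_X]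
      change ψ (MvPolynomial.X i) = _
      simp [ψ]
  haveI t3 : IsScalarTower (MvPolynomial (Fin n) R) (MvPolynomial (Fin n) R') A' :=
    IsScalarTower.of_algebraMap_eq (fun p => (congr($hcomp p)).symm)
  haveI t4 : IsScalarTower R (MvPolynomial (Fin n) R') A' := IsScalarTower.of_algebraMap_eq (fun r => by
    rw [IsScalarTower.algebraMap_apply R R' A', IsScalarTower.algebraMap_apply R R' (MvPolynomial (Fin n) R')]
    exact (ψ.commutes _).symm)
  haveI t5 : IsScalarTower R' (MvPolynomial (Fin n) R') A' := IsScalarTower.of_algebraMap_eq (fun r =>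
    (ψ.commutes r).symm)
  have hpo : Algebra.IsPushout (MvPolynomial (Fin n) R) A (MvPolynomial (Fin n) R') A' :=
    (Algebra.IsPushout.comp_iff R (MvPolynomial (Fin n) R) R' (MvPolynomial (Fin n) R') (T := A) (T' := A')).1 inferInstance
  haveI hpo' : Algebra.IsPushout (MvPolynomial (Fin n) R) (MvPolynomial (Fin n) R') A A' := hpo.symm
  haveI : Module.Flat (MvPolynomial (Fin n) R) (MvPolynomial (Fin n) R') :=
    Module.Flat.isBaseChange R (MvPolynomial (Fin n) R) R' (MvPolynomial (Fin n) R')
      (Algebra.IsPushout.out (R := R) (S := MvPolynomial (Fin n) R) (R' := R')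
        (S' := MvPolynomial (Fin n) R'))
  have hfl : (MvPolynomial.map (algebraMap R R') :
      MvPolynomial (Fin n) R →+* MvPolynomial (Fin n) R').Flat :=
    (RingHom.flat_algebraMap_iff (R := MvPolynomial (Fin n) R) (S := MvPolynomial (Fin n) R')).2
      inferInstance
  have e1 := (DRing.LBaseChange (MvPolynomial.map (algebraMap R R') :
      MvPolynomial (Fin n) R →+* MvPolynomial (Fin n) R')).mapIso
    (restrictDSingle (algebraMap (MvPolynomial (Fin n) R) A) (ModuleCat.of A A))
  have e2 := LBCSingleIso (MvPolynomial.map (algebraMap R R') :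
      MvPolynomial (Fin n) R →+* MvPolynomial (Fin n) R') hfl
    ((ModuleCat.restrictScalars.{u} (algebraMap (MvPolynomial (Fin n) R) A)).obj (ModuleCat.of A A))
  have e3 := (singleFunctor (ModuleCat.{u} (MvPolynomial (Fin n) R')) 0).mapIso
    ((tauIso (MvPolynomial (Fin n) R) (MvPolynomial (Fin n) R') A A').app (ModuleCat.of A A) ≪≫
      (ModuleCat.restrictScalars.{u} (algebraMap (MvPolynomial (Fin n) R') A')).mapIso extSelfIso)
  have e4 := (restrictDSingle (algebraMap (MvPolynomial (Fin n) R') A') (ModuleCat.of A' A')).symm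
  exact ⟨e1 ≪≫ e2 ≪≫ e3 ≪≫ e4⟩

/-- flat base change of relative pseudo-coherence of the algebra itself -/
theorem relPC_unit_of_isPushout [Module.Flat R R'] (j : ℤ)
    (h : DerCA.IsRelPseudoCoherent R A j (Dual.inD A A)) :
    DerCA.IsRelPseudoCoherent R' A' j (Dual.inD A' A') := by
  obtain ⟨n, α, hα, hpc⟩ := h
  haveI : DRing.HasLBaseChange (MvPolynomial.map (algebraMap R R') :
      MvPolynomial (Fin n) R →+* MvPolynomial (Fin n) R') :=
    Groth.Agent.H4.KProj.hasLBaseChange _
  obtain ⟨e⟩ := nonempty_lbc_iso R R' A A' α hα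
  exact ⟨n, bcPres R' A' α, bcPres_surjective R R' A A' α hα,
    isPC_of_iso e (isPC_LBaseChange _ j _ hpc)⟩

end RelBC

section Desc

variable {ι : Type} [Finite ι] (R A : Type u) [CommRing R] [CommRing A] [Algebra R A]
  [Algebra.FiniteType R A]
  (R' A' : ι → Type u) [∀ i, CommRing (R' i)] [∀ i, CommRing (A' i)]
  [∀ i, Algebra R (R' i)] [∀ i, Algebra (R' i) (A' i)] [∀ i, Algebra A (A' i)]
  [∀ i, Algebra R (A' i)] [∀ i, IsScalarTower R (R' i) (A' i)] [∀ i, IsScalarTower R A (A' i)]
  [∀ i, Algebra.IsPushout R A (R' i) (A' i)]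

/-- **descent** of relative pseudo-coherence of an algebra along a jointly faithfully flat family -/
theorem relPC_unit_descent (hfl : ∀ i, Module.Flat R (R' i))
    (hs : ∀ p : Ideal R, p.IsPrime → ∃ i, ∃ q : Ideal (R' i), q.IsPrime ∧
      q.comap (algebraMap R (R' i)) = p) (j : ℤ)
    (h : ∀ i, DerCA.IsRelPseudoCoherent (R' i) (A' i) j (Dual.inD (A' i) (A' i))) :
    DerCA.IsRelPseudoCoherent R A j (Dual.inD A A) := by
  obtain ⟨n, α, hα⟩ := exists_pres (R := R) (A := A)
  refine ⟨n, α, hα, ?_⟩
  haveI : ∀ i, DRing.HasLBaseChange (MvPolynomial.map (algebraMap R (R' i)) :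
      MvPolynomial (Fin n) R →+* MvPolynomial (Fin n) (R' i)) :=
    fun i => Groth.Agent.H4.KProj.hasLBaseChange _
  have hJ := jff_mvPolynomial (Fin n) (jff_of_flat_of_surj hfl hs)
  refine (JFF.detects hJ).isPC j _ (fun i => ?_)
  haveI := hfl i
  obtain ⟨e⟩ := nonempty_lbc_iso R (R' i) A (A' i) α hα
  refine isPC_of_iso e.symm ?_
  exact (relPC_iff (bcPres (R' i) (A' i) α) (bcPres_surjective R (R' i) A (A' i) α hα) _ j).1 (h i)

end Desc

end Groth.Agent.H4.RelBC1
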