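import Mathlib
import Groth.Prelude.Def_DerSch2
import Groth.Prelude.Def_MoreMor
import Groth.Agent.H4.PMor2
import Groth.Agent.H4.RelFPBC
import Groth.Agent.H4.RelBC1

set_option autoImplicit false
universe u
attribute [local instance] HasDerivedCategory.standard
open CategoryTheory CategoryTheory.Limits AlgebraicGeometry DerivedCategory Opposite TopologicalSpace
open Groth.Agent.LD.QC
open Groth.Agent.H4.PSch2 Groth.Agent.H4.RPC2 Groth.Agent.H4.FAmp5 Groth.Agent.H4.TilD9 Groth.Agent.H4.TilD10 Groth.Agent.H4.TilD11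
open Groth.Agent.H4.RPC2b Groth.Agent.H4.RPC3 Groth.Agent.H4.RPC7 Groth.Agent.H4.RPC8 Groth.Agent.H4.PCS7
open Groth.Agent.H4.RPC9 Groth.Agent.H4.RPC10 Groth.Agent.H4.RPC11 Groth.Agent.H4.RPC12
open Groth.Agent.H4.RPC13 Groth.Agent.H4.RPC14 Groth.Agent.H4.RPC15 Groth.Agent.H4.PCS4 Groth.Agent.H4.PCS8 Pretriangulated
open Groth.Agent.H4.NT7 Groth.Agent.H4.RPC6 Groth.Agent.H4.RPC19 Groth.Agent.H4.RPC20 Groth.Agent.H4.RPC21
open Groth.Agent.H4.RPC22 Groth.Agent.H4.RPC17 Groth.Agent.H4.RPC23 Groth.Agent.H4.RPC25 Groth.Agent.H4.RPC26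
open Groth.Agent.H4.PC Groth.Agent.H4.RelPC Groth.Agent.H4.PCHom Groth.Agent.H4.PMor2
open DRing

namespace Groth.Agent.H4.RPC28
open Groth.Agent.H4.LDer Groth.Agent.H4.BC Groth.Agent.H4.BCSq Groth.Agent.H4.PCDesc
open Groth.Agent.H4.RelBC1

section Loc

variable {X Y : Scheme.{u}} (f : X ⟶ Y)

/-- `n`-pseudo-coherence of a morphism on all affine pairs -/
theorem isNPC_iff_forall [LocallyOfFiniteType f] (j : ℤ) :
    DerSch.IsNPseudoCoherent f j ↔ ∀ (U : X.Opens) (V : Y.Opens) (hUV : U ≤ f ⁻¹ᵁ V),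
      IsAffineOpen U → IsAffineOpen V →
      (letI := (f.appLE V U hUV).hom.toAlgebra
       DerCA.IsRelPseudoCoherent Γ(Y, V) Γ(X, U) j (Dual.inD Γ(X, U) Γ(X, U))) := by
  constructor
  · intro H U V e hU hV
    obtain ⟨n, φ, hφ⟩ := exists_isChart f U V e (LocallyOfFiniteType.finiteType_appLE f hV hU e)
    haveI := isClosedImmersion_gImm U φ hU hφ.1
    exact (chart_unit_relpc_iff f φ hU e hφ j).1
      ((rel_iff_forall_chart f j _).1 H ⟨U, hU⟩ ⟨V, hV⟩ e n φ hφ inferInstance)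
  · intro H
    rw [DerSch.IsNPseudoCoherent, rel_iff_forall_chart]
    intro U V e n φ hφ hci
    rw [chart_unit_relpc_iff f φ U.2 e hφ j]
    exact H _ _ e U.2 V.2

/-- `n`-pseudo-coherence of a morphism is local -/
theorem isNPC_of_local [LocallyOfFiniteType f] (j : ℤ)
    (H : ∀ x : X, ∃ (U : X.Opens) (V : Y.Opens) (hUV : U ≤ f ⁻¹ᵁ V),
      IsAffineOpen U ∧ IsAffineOpen V ∧ x ∈ U ∧
      (letI := (f.appLE V U hUV).hom.toAlgebra
       DerCA.IsRelPseudoCoherent Γ(Y, V) Γ(X, U) j (Dual.inD Γ(X, U) Γ(X, U)))) :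
    DerSch.IsNPseudoCoherent f j := by
  refine rel_of_local (fun x => ?_)
  obtain ⟨U, V, hUV, hU, hV, hxU, hpc⟩ := H x
  letI := (f.appLE V U hUV).hom.toAlgebra
  obtain ⟨n, φ, hφ⟩ := exists_isChart f U V hUV (LocallyOfFiniteType.finiteType_appLE f hV hU hUV)
  haveI := isClosedImmersion_gImm U φ hU hφ.1
  refine ⟨⟨U, hU⟩, ⟨V, hV⟩, hxU, hUV, n, φ, hφ, (gpc_iff U φ j _).2 ?_⟩
  exact (chart_unit_relpc_iff f φ hU hUV hφ j).2 hpc

end Loc

section BC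

variable {X S X' S' : Scheme.{u}} (f : X ⟶ S) (f' : X' ⟶ S') (g' : X' ⟶ X) (g : S' ⟶ S)

/-- affine pieces of a fibre product -/
theorem isAffineOpen_inf_of_isPullback (hc : IsPullback g' f' f g) {V : S.Opens} {V' : S'.Opens}
    {U : X.Opens} (hV'V : V' ≤ g ⁻¹ᵁ V) (hUV : U ≤ f ⁻¹ᵁ V) (hV : IsAffineOpen V)
    (hV' : IsAffineOpen V') (hU : IsAffineOpen U) :
    IsAffineOpen (g' ⁻¹ᵁ U ⊓ f' ⁻¹ᵁ V') := by
  have : IsAffine _ := hV
  have : IsAffine _ := hV'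
  have : IsAffine _ := hU
  exact .of_isIso (Scheme.Hom.isPullback_resLE hc hV'V hUV rfl).isoPullback.hom

/-- the ring-level pushout attached to affine pieces of a fibre product -/
theorem relPC_of_isPullback [Flat g] (hc : IsPullback g' f' f g) {V : S.Opens} {V' : S'.Opens}
    {U : X.Opens} (hV'V : V' ≤ g ⁻¹ᵁ V) (hUV : U ≤ f ⁻¹ᵁ V) (hV : IsAffineOpen V)
    (hV' : IsAffineOpen V') (hU : IsAffineOpen U) (j : ℤ)
    (h : letI := (f.appLE V U hUV).hom.toAlgebra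
      DerCA.IsRelPseudoCoherent Γ(S, V) Γ(X, U) j (Dual.inD Γ(X, U) Γ(X, U))) :
    letI := (f'.appLE V' (g' ⁻¹ᵁ U ⊓ f' ⁻¹ᵁ V') inf_le_right).hom.toAlgebra
    DerCA.IsRelPseudoCoherent Γ(S', V') Γ(X', g' ⁻¹ᵁ U ⊓ f' ⁻¹ᵁ V') j
      (Dual.inD Γ(X', g' ⁻¹ᵁ U ⊓ f' ⁻¹ᵁ V') Γ(X', g' ⁻¹ᵁ U ⊓ f' ⁻¹ᵁ V')) := by
  have hpo := (isIso_pushoutSection_iff hc hV'V hUV rfl).1
    (isIso_pushoutSection_of_isAffineOpen hc hV'V hUV rfl hV hV' hU)
  have hfl : (g.appLE V V' hV'V).hom.Flat := Flat.flat_appLE g hV hV' hV'V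
  letI i1 : Algebra Γ(S, V) Γ(X, U) := (f.appLE V U hUV).hom.toAlgebra
  letI i2 : Algebra Γ(S, V) Γ(S', V') := (g.appLE V V' hV'V).hom.toAlgebra
  letI i3 : Algebra Γ(X, U) Γ(X', g' ⁻¹ᵁ U ⊓ f' ⁻¹ᵁ V') :=
    (g'.appLE U (g' ⁻¹ᵁ U ⊓ f' ⁻¹ᵁ V') inf_le_left).hom.toAlgebra
  letI i4 : Algebra Γ(S', V') Γ(X', g' ⁻¹ᵁ U ⊓ f' ⁻¹ᵁ V') :=
    (f'.appLE V' (g' ⁻¹ᵁ U ⊓ f' ⁻¹ᵁ V') inf_le_right).hom.toAlgebra
  letI i5 : Algebra Γ(S, V) Γ(X', g' ⁻¹ᵁ U ⊓ f' ⁻¹ᵁ V') :=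
    ((g'.appLE U (g' ⁻¹ᵁ U ⊓ f' ⁻¹ᵁ V') inf_le_left).hom.comp (f.appLE V U hUV).hom).toAlgebra
  haveI : IsScalarTower Γ(S, V) Γ(X, U) Γ(X', g' ⁻¹ᵁ U ⊓ f' ⁻¹ᵁ V') := .of_algebraMap_eq' rfl
  haveI : IsScalarTower Γ(S, V) Γ(S', V') Γ(X', g' ⁻¹ᵁ U ⊓ f' ⁻¹ᵁ V') :=
    .of_algebraMap_eq' (congr($(hpo.1.1).hom))
  haveI : Algebra.IsPushout Γ(S, V) Γ(X, U) Γ(S', V') Γ(X', g' ⁻¹ᵁ U ⊓ f' ⁻¹ᵁ V') :=
    CommRingCat.isPushout_iff_isPushout.mp hpo
  haveI : Module.Flat Γ(S, V) Γ(S', V') := RingHom.flat_algebraMap_iff.mp hfl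
  exact relPC_unit_of_isPushout Γ(S, V) Γ(S', V') Γ(X, U) Γ(X', g' ⁻¹ᵁ U ⊓ f' ⁻¹ᵁ V') j h

/-- **flat base change** of `n`-pseudo-coherent morphisms, for an arbitrary cartesian square -/
theorem isNPC_baseChange [Flat g] [LocallyOfFiniteType f] [LocallyOfFiniteType f']
    (hc : IsPullback g' f' f g) (j : ℤ) (hf : DerSch.IsNPseudoCoherent f j) :
    DerSch.IsNPseudoCoherent f' j := by
  refine isNPC_of_local f' j (fun x' => ?_)
  obtain ⟨U, V, hU, hV, hxU, hUV⟩ := exists_affine_nhds_le_preimage f (g'.base x')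
  have hx1 : f'.base x' ∈ g ⁻¹ᵁ V := by
    change g.base (f'.base x') ∈ V
    have e : g.base (f'.base x') = f.base (g'.base x') := by
      rw [← Scheme.Hom.comp_apply, ← Scheme.Hom.comp_apply, hc.w]
    rw [e]
    exact hUV hxU
  obtain ⟨V', hV', hxV', hV'V⟩ :=
    exists_isAffineOpen_mem_and_subset (x := f'.base x') (U := g ⁻¹ᵁ V) hx1
  refine ⟨g' ⁻¹ᵁ U ⊓ f' ⁻¹ᵁ V', V', inf_le_right,
    isAffineOpen_inf_of_isPullback f f' g' g hc hV'V hUV hV hV' hU, hV', ⟨hxU, hxV'⟩, ?_⟩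
  exact relPC_of_isPullback f f' g' g hc hV'V hUV hV hV' hU j
    ((isNPC_iff_forall f j).1 hf U V hUV hU hV)

/-- **S6226** -/
theorem S6226 {X Y Y' : Scheme.{u}} (f : X ⟶ Y) [LocallyOfFiniteType f] (n : ℤ)
    (hf : DerSch.IsNPseudoCoherent f n) (h : Y' ⟶ Y) [Flat h] :
    DerSch.IsNPseudoCoherent (pullback.snd f h) n :=
  isNPC_baseChange f (pullback.snd f h) (pullback.fst f h) h (IsPullback.of_hasPullback f h) n hf

/-- **S7167** -/
theorem S7167 [Flat g] (hc : IsPullback g' f' f g) (hf : MoreMor.IsPseudoCoherentMor f) :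
    MoreMor.IsPseudoCoherentMor f' := by
  obtain ⟨hl, H⟩ := (isPseudoCoherentMor_iff f).1 hf
  haveI : LocallyOfFiniteType f' := MorphismProperty.of_isPullback hc hl
  rw [isPseudoCoherentMor_iff]
  exact ⟨inferInstance, fun j => isNPC_baseChange f f' g' g hc j (H j)⟩

end BC

section DescCat

/-- descent of relative pseudo-coherence of an algebra, for pushout squares of commutative rings -/
theorem relPC_unit_descent_cat {k : ℕ} {R A : CommRingCat.{u}} (a : R ⟶ A)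
    (R' A' : Fin k → CommRingCat.{u}) (r : ∀ i, R ⟶ R' i) (a' : ∀ i, R' i ⟶ A' i)
    (b : ∀ i, A ⟶ A' i) (hpo : ∀ i, IsPushout a (r i) (b i) (a' i))
    (hfl : ∀ i, (r i).hom.Flat) (hft : a.hom.FiniteType)
    (hs : ∀ p : Ideal R, p.IsPrime → ∃ i, ∃ q : Ideal (R' i), q.IsPrime ∧ q.comap (r i).hom = p)
    (j : ℤ)
    (h : ∀ i, letI := (a' i).hom.toAlgebra
      DerCA.IsRelPseudoCoherent (R' i) (A' i) j (Dual.inD (A' i) (A' i))) :
    letI := a.hom.toAlgebra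
    DerCA.IsRelPseudoCoherent R A j (Dual.inD A A) := by
  letI i1 : Algebra R A := a.hom.toAlgebra
  letI i2 : ∀ i, Algebra R (R' i) := fun i => (r i).hom.toAlgebra
  letI i3 : ∀ i, Algebra A (A' i) := fun i => (b i).hom.toAlgebra
  letI i4 : ∀ i, Algebra (R' i) (A' i) := fun i => (a' i).hom.toAlgebra
  letI i5 : ∀ i, Algebra R (A' i) := fun i => ((b i).hom.comp a.hom).toAlgebra
  haveI : ∀ i, IsScalarTower R A (A' i) := fun i => .of_algebraMap_eq' rfl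
  haveI : ∀ i, IsScalarTower R (R' i) (A' i) := fun i =>
    .of_algebraMap_eq' (congr($((hpo i).1.1).hom))
  haveI : ∀ i, Algebra.IsPushout R A (R' i) (A' i) := fun i =>
    CommRingCat.isPushout_iff_isPushout.mp (hpo i)
  haveI : Algebra.FiniteType R A := (RingHom.finiteType_algebraMap).1 hft
  exact relPC_unit_descent R A (fun i => R' i) (fun i => A' i)
    (fun i => RingHom.flat_algebraMap_iff.mp (hfl i)) hs j h

end DescCat

section Desc

variable {X S X' S' : Scheme.{u}} (f : X ⟶ S) (f' : X' ⟶ S') (g' : X' ⟶ X) (g : S' ⟶ S)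

/-- primes of `Γ(S, V)` lift along a surjective morphism, to one of a family of affine opens
covering the preimage -/
theorem exists_prime_of_surjective [Surjective g] {V : S.Opens} (hV : IsAffineOpen V) {k : ℕ}
    (W : Fin k → S'.Opens) (hWa : ∀ i, IsAffineOpen (W i)) (hW : ∀ i, W i ≤ g ⁻¹ᵁ V)
    (hcov : g ⁻¹ᵁ V ≤ ⨆ i, W i) (p : Ideal Γ(S, V)) (hp : p.IsPrime) :
    ∃ i, ∃ q : Ideal Γ(S', W i), q.IsPrime ∧ q.comap (g.appLE V (W i) (hW i)).hom = p := by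
  let P : PrimeSpectrum Γ(S, V) := ⟨p, hp⟩
  obtain ⟨y, hy⟩ := g.surjective (hV.fromSpec P)
  have hPV : hV.fromSpec P ∈ V := by
    have : hV.fromSpec P ∈ hV.fromSpec.opensRange := ⟨P, rfl⟩
    rwa [hV.opensRange_fromSpec] at this
  have hyV : y ∈ g ⁻¹ᵁ V := by
    change g y ∈ V
    rw [hy]
    exact hPV
  obtain ⟨i, hyi⟩ := TopologicalSpace.Opens.mem_iSup.1 (hcov hyV)
  have hyr : y ∈ (hWa i).fromSpec.opensRange := by
    rw [(hWa i).opensRange_fromSpec]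
    exact hyi
  obtain ⟨Q, hQ⟩ := hyr
  have h1 := IsAffineOpen.SpecMap_appLE_fromSpec g hV (hWa i) (hW i)
  have h2 : hV.fromSpec ((Spec.map (g.appLE V (W i) (hW i))) Q) = hV.fromSpec P := by
    rw [← Scheme.Hom.comp_apply, h1, Scheme.Hom.comp_apply, hQ, hy]
  have h3 : (Spec.map (g.appLE V (W i) (hW i))) Q = P := hV.fromSpec.injective h2
  refine ⟨i, Q.asIdeal, Q.isPrime, ?_⟩
  exact congr(($h3).asIdeal)

/-- **fpqc descent** of `n`-pseudo-coherent morphisms -/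
theorem isNPC_descent [Flat g] [Surjective g] [QuasiCompact g] [LocallyOfFiniteType f]
    [LocallyOfFiniteType f'] (hc : IsPullback g' f' f g) (j : ℤ)
    (hf' : DerSch.IsNPseudoCoherent f' j) : DerSch.IsNPseudoCoherent f j := by
  refine isNPC_of_local f j (fun x => ?_)
  obtain ⟨U, V, hU, hV, hxU, hUV⟩ := exists_affine_nhds_le_preimage f x
  refine ⟨U, V, hUV, hU, hV, hxU, ?_⟩
  have hcpt : IsCompact ((g ⁻¹ᵁ V : S'.Opens) : Set S') :=
    QuasiCompact.isCompact_preimage (f := g) _ V.2 hV.isCompact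
  obtain ⟨s, hs, hsV⟩ := isCompact_iff_finite_and_eq_biUnion_affineOpens.mp hcpt
  haveI : Finite s := hs
  obtain ⟨k, ⟨e⟩⟩ := Finite.exists_equiv_fin s
  let W : Fin k → S'.Opens := fun i => ((e.symm i).1 : S'.Opens)
  have hWa : ∀ i, IsAffineOpen (W i) := fun i => (e.symm i).1.2
  have hW : ∀ i, W i ≤ g ⁻¹ᵁ V := fun i => by
    rw [hsV]
    exact le_iSup₂_of_le (e.symm i).1 (e.symm i).2 le_rfl
  have hcov : g ⁻¹ᵁ V ≤ ⨆ i, W i := by
    rw [hsV]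
    refine iSup₂_le (fun a ha => ?_)
    refine le_iSup_of_le (e ⟨a, ha⟩) ?_
    simp [W]
  refine relPC_unit_descent_cat (f.appLE V U hUV) (fun i => Γ(S', W i))
    (fun i => Γ(X', g' ⁻¹ᵁ U ⊓ f' ⁻¹ᵁ W i))
    (fun i => g.appLE V (W i) (hW i)) (fun i => f'.appLE (W i) _ inf_le_right)
    (fun i => g'.appLE U _ inf_le_left)
    (fun i => (isIso_pushoutSection_iff hc (hW i) hUV rfl).1
      (isIso_pushoutSection_of_isAffineOpen hc (hW i) hUV rfl hV (hWa i) hU))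
    (fun i => Flat.flat_appLE g hV (hWa i) (hW i))
    (LocallyOfFiniteType.finiteType_appLE f hV hU hUV)
    (exists_prime_of_surjective g hV W hWa hW hcov) j (fun i => ?_)
  exact (isNPC_iff_forall f' j).1 hf' _ (W i) inf_le_right
    (isAffineOpen_inf_of_isPullback f f' g' g hc (hW i) hUV hV (hWa i) hU) (hWa i)

/-- **S6227** -/
theorem S6227 {X Y Y' : Scheme.{u}} (f : X ⟶ Y) [LocallyOfFiniteType f] (n : ℤ)
    (h : Y' ⟶ Y) [Flat h] [Surjective h] [QuasiCompact h]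
    (hf' : DerSch.IsNPseudoCoherent (pullback.snd f h) n) :
    DerSch.IsNPseudoCoherent f n :=
  isNPC_descent f (pullback.snd f h) (pullback.fst f h) h (IsPullback.of_hasPullback f h) n hf'

/-- **S1505** -/
theorem S1505 [Flat g] [Surjective g] [QuasiCompact g] (hc : IsPullback g' f' f g)
    (hf' : MoreMor.IsPseudoCoherentMor f') : MoreMor.IsPseudoCoherentMor f := by
  obtain ⟨hl, H⟩ := (isPseudoCoherentMor_iff f').1 hf'
  haveI : LocallyOfFiniteType f :=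
    MorphismProperty.of_isPullback_of_descendsAlong (P := @LocallyOfFiniteType)
      (Q := @Surjective ⊓ @Flat ⊓ @QuasiCompact) hc.flip
      ⟨⟨inferInstance, inferInstance⟩, inferInstance⟩ hl
  rw [isPseudoCoherentMor_iff]
  exact ⟨inferInstance, fun j => isNPC_descent f f' g' g hc j (H j)⟩

end Desc

end Groth.Agent.H4.RPC28
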