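import Mathlib
import Groth.Prelude.Def_DerCA
import Groth.Agent.H4.RelBC1
import Groth.Agent.S6946
import Groth.Agent.S6948

set_option autoImplicit false
universe u
open CategoryTheory CategoryTheory.Limits TensorProduct
attribute [local instance] HasDerivedCategory.standard
open DRing

namespace Groth.Agent.H4.RelBC2
open Groth.Agent.H4.PCHom Groth.Agent.H4.PC Groth.Agent.H4.RelPC DerivedCategory
open Groth.Agent.H4.LDer Groth.Agent.H4.BC Groth.Agent.H4.BCSq Groth.Agent.H4.PCDesc
open Groth.Agent.H4.FlatFam Groth.Agent.H4.TorAmp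

section FTD

variable (R S A B : Type u) [CommRing R] [CommRing S] [CommRing A] [CommRing B]
  [Algebra R S] [Algebra R A] [Algebra R B] [Algebra S B] [Algebra A B]
  [IsScalarTower R S B] [IsScalarTower R A B] [Algebra.IsPushout R S A B]

/-- derived base change of an algebra along a flat map is the base-changed algebra -/
noncomputable def lbcAlgIso [Module.Flat R S] [DRing.HasLBaseChange (algebraMap R S)] :
    (DRing.LBaseChange (algebraMap R S)).obj (Dual.inD R A) ≅ Dual.inD S B :=
  (DRing.LBaseChange (algebraMap R S)).mapIso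
      ((singleFunctor (ModuleCat.{u} R) 0).mapIso
        (Groth.Agent.H4.RestrPC.ofIsoRestrict (A := R) (B := A))) ≪≫
    LBCSingleIso (algebraMap R S) ((RingHom.flat_algebraMap_iff).2 inferInstance) _ ≪≫
    (singleFunctor (ModuleCat.{u} S) 0).mapIso
      ((tauIso R S A B).app (ModuleCat.of A A) ≪≫
        (ModuleCat.restrictScalars.{u} (algebraMap S B)).mapIso extSelfIso ≪≫
        (Groth.Agent.H4.RestrPC.ofIsoRestrict (A := S) (B := B)).symm)

/-- flat base change of tor dimension of an algebra -/
theorem hasTorDimLE_of_isPushout [Module.Flat R S] (n : ℕ) (h : DRing.HasTorDimLE R n A) :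
    DRing.HasTorDimLE S n B := by
  haveI : DRing.HasLBaseChange (algebraMap R S) := Groth.Agent.H4.KProj.hasLBaseChange _
  rw [(Groth.Agent.S6946.result S B n).1]
  rw [(Groth.Agent.S6946.result R A n).1] at h
  exact hasTorAmp_of_iso (lbcAlgIso R S A B) (Groth.Agent.S6948.result (algebraMap R S) _ _ _ h)

end FTD

section FTDDesc

variable {ι : Type} (R A : Type u) [CommRing R] [CommRing A] [Algebra R A]
  (R' A' : ι → Type u) [∀ i, CommRing (R' i)] [∀ i, CommRing (A' i)]
  [∀ i, Algebra R (R' i)] [∀ i, Algebra (R' i) (A' i)] [∀ i, Algebra A (A' i)]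
  [∀ i, Algebra R (A' i)] [∀ i, IsScalarTower R (R' i) (A' i)] [∀ i, IsScalarTower R A (A' i)]
  [∀ i, Algebra.IsPushout R (R' i) A (A' i)]

/-- descent of tor dimension of an algebra along a jointly faithfully flat family -/
theorem hasTorDimLE_descent (hfl : ∀ i, Module.Flat R (R' i))
    (hs : ∀ p : Ideal R, p.IsPrime → ∃ i, ∃ q : Ideal (R' i), q.IsPrime ∧
      q.comap (algebraMap R (R' i)) = p) (n : ℕ)
    (h : ∀ i, DRing.HasTorDimLE (R' i) n (A' i)) : DRing.HasTorDimLE R n A := by
  haveI : ∀ i, DRing.HasLBaseChange (algebraMap R (R' i)) :=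
    fun i => Groth.Agent.H4.KProj.hasLBaseChange _
  rw [(Groth.Agent.S6946.result R A n).1]
  refine JFF.hasTorAmp (Groth.Agent.H4.RelBC1.jff_of_flat_of_surj hfl hs) _ _ _ (fun i => ?_)
  haveI := hfl i
  exact hasTorAmp_of_iso (lbcAlgIso R (R' i) A (A' i)).symm
    ((Groth.Agent.S6946.result (R' i) (A' i) n).1.1 (h i))

end FTDDesc

end Groth.Agent.H4.RelBC2
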