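import Mathlib
import Groth.Prelude.Def_DerSch2
import Groth.Prelude.Def_MoreMor
import Groth.Agent.H4.RPC28
import Groth.Agent.H4.RelTor9
import Groth.Agent.H4.RelTor1
import Groth.Agent.Lib.Lead.QC.UnitIso
import Groth.Agent.S6946
import Groth.Agent.H4.RPC27
import Groth.Agent.S6947
import Groth.Agent.H4.RelBC2

set_option autoImplicit false
universe u
attribute [local instance] HasDerivedCategory.standard
open CategoryTheory CategoryTheory.Limits AlgebraicGeometry DerivedCategory Opposite TopologicalSpace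
open Groth.Agent.H4.PC Groth.Agent.H4.RelPC Groth.Agent.H4.PCHom Groth.Agent.H4.PMor2
open Groth.Agent.H4.TorAmp Groth.Agent.H4.RelTor7 Groth.Agent.H4.RelTor8 Groth.Agent.H4.RelTor9
open Groth.Agent.H4.LDS15
open DRing

namespace Groth.Agent.H4.PMor4

section Bridge

variable {X S : Scheme.{u}} (f : X ⟶ S)

/-- the pulled-back structure sheaf on an affine open, as a tilde -/
noncomputable def pullUnitTildeIso {U : X.Opens} (hU : IsAffineOpen U) :
    haveI := Groth.Agent.H5.AG.tilde_preservesFiniteLimits (CommRingCat.of Γ(X, U))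
    DCoh.toD (Spec Γ(X, U)) ((pullCx hU.fromSpec).obj (DerSch.unitCx X)) ≅
      (DCoh.tildeD (CommRingCat.of Γ(X, U))).obj (Dual.inD Γ(X, U) Γ(X, U)) := by
  haveI := Groth.Agent.H5.AG.tilde_preservesFiniteLimits (CommRingCat.of Γ(X, U))
  have e1 := (HomologicalComplex.singleMapHomologicalComplex (Scheme.Modules.pullback hU.fromSpec)
      (ComplexShape.up ℤ) 0).app (Coh.structureModule X)
  have e2 := (HomologicalComplex.single (Spec Γ(X, U)).Modules (ComplexShape.up ℤ) 0).mapIso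
    (Groth.Agent.LD.QC.pullbackUnitIso hU.fromSpec)
  have e3 := ((tilde.functor (CommRingCat.of Γ(X, U))).mapDerivedCategorySingleFunctor 0).app
    (ModuleCat.of Γ(X, U) Γ(X, U))
  exact DerivedCategory.Q.mapIso (e1 ≪≫ e2) ≪≫
    ((DerivedCategory.singleFunctorIsoCompQ (Spec Γ(X, U)).Modules 0).app _).symm ≪≫ e3.symm

/-- a flat morphism has tor dimension `≤ 0` -/
theorem hasTorDimLE_zero_of_flat {Y Z : Scheme.{u}} (g : Y ⟶ Z) [Flat g] : DerSch.HasTorDimLE g 0 := by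
  have h := (Groth.Agent.H4.RPC27.hasTorAmplitude_single_iff g (Coh.structureModule Y)).2
    ((Groth.Agent.H4.RPC27.isFlatOver_structureModule_iff g).2 inferInstance)
  unfold DerSch.HasTorDimLE
  simpa using h

/-- **bridge**: stalkwise relative tor amplitude of the structure sheaf over an affine pair is
tor amplitude of the ring of sections -/
theorem bridge {U : X.Opens} {V : S.Opens} (hU : IsAffineOpen U) (hV : IsAffineOpen V)
    (hUV : U ≤ f ⁻¹ᵁ V) (a b : ℤ) :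
    (∀ x ∈ U, DerSch.HasTorAmplitudeAt f a b (DerSch.unitCx X) x) ↔
      (letI := (f.appLE V U hUV).hom.toAlgebra
       DRing.HasTorAmplitudeIn Γ(S, V) a b (Dual.inD Γ(S, V) Γ(X, U))) := by
  letI alg := (f.appLE V U hUV).hom.toAlgebra
  haveI := Groth.Agent.H5.AG.tilde_preservesFiniteLimits (CommRingCat.of Γ(X, U))
  have sq := IsAffineOpen.SpecMap_appLE_fromSpec f hV hU hUV
  have key := S7259 (f.appLE V U hUV).hom (Dual.inD Γ(X, U) Γ(X, U))
    ((pullCx hU.fromSpec).obj (DerSch.unitCx X)) ⟨pullUnitTildeIso hU⟩ a b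
  have e : (restrictD (f.appLE V U hUV).hom).obj (Dual.inD Γ(X, U) Γ(X, U)) ≅
      Dual.inD Γ(S, V) Γ(X, U) :=
    restrictDSingle _ _ ≪≫ (singleFunctor (ModuleCat.{u} Γ(S, V)) 0).mapIso
      (Groth.Agent.H4.RestrPC.ofIsoRestrict (A := Γ(S, V)) (B := Γ(X, U))).symm
  have key' : DerSch.HasTorAmplitude (Spec.map (f.appLE V U hUV)) a b
      ((pullCx hU.fromSpec).obj (DerSch.unitCx X)) ↔
      DRing.HasTorAmplitudeIn Γ(S, V) a b (Dual.inD Γ(S, V) Γ(X, U)) :=
    key.trans ⟨hasTorAmp_of_iso e, hasTorAmp_of_iso e.symm⟩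
  rw [← key']
  constructor
  · intro h y
    have hy : hU.fromSpec.base y ∈ U := by
      have : hU.fromSpec.base y ∈ hU.fromSpec.opensRange := ⟨y, rfl⟩
      rwa [hU.opensRange_fromSpec] at this
    have h1 := (hasTorAmplitudeAt_comp_pull_iff f hU.fromSpec (DerSch.unitCx X) a b y).2 (h _ hy)
    rw [← sq] at h1
    exact hasTorAmplitudeAt_of_comp (Spec.map (f.appLE V U hUV)) hV.fromSpec _ a b y
      ((ConcreteCategory.isIso_iff_bijective _).1 inferInstance) h1
  · intro h x hx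
    have hxr : x ∈ hU.fromSpec.opensRange := by
      rw [hU.opensRange_fromSpec]; exact hx
    obtain ⟨y, rfl⟩ := hxr
    have h1 := Groth.Agent.H4.RelTor1.main (Spec.map (f.appLE V U hUV)) hV.fromSpec 0
      (hasTorDimLE_zero_of_flat hV.fromSpec) _ a b h
    rw [sq] at h1
    have h2 := h1 y
    simp only [Nat.cast_zero, sub_zero] at h2
    exact (hasTorAmplitudeAt_comp_pull_iff f hU.fromSpec (DerSch.unitCx X) a b y).1 h2

/-- finite tor dimension over an affine pair, stalkwise -/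
theorem ftd_iff {U : X.Opens} {V : S.Opens} (hU : IsAffineOpen U) (hV : IsAffineOpen V)
    (hUV : U ≤ f ⁻¹ᵁ V) :
    (letI := (f.appLE V U hUV).hom.toAlgebra
     DRing.HasFiniteTorDim Γ(S, V) Γ(X, U)) ↔
      ∃ n : ℕ, ∀ x ∈ U, DerSch.HasTorAmplitudeAt f (-(n : ℤ)) 0 (DerSch.unitCx X) x := by
  letI alg := (f.appLE V U hUV).hom.toAlgebra
  constructor
  · rintro ⟨n, hn⟩
    exact ⟨n, (bridge f hU hV hUV _ _).2 ((Groth.Agent.S6946.result Γ(S, V) Γ(X, U) n).1.1 hn)⟩
  · rintro ⟨n, hn⟩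
    exact ⟨n, (Groth.Agent.S6946.result Γ(S, V) Γ(X, U) n).1.2 ((bridge f hU hV hUV _ _).1 hn)⟩

/-- locally of finite tor dimension, with intervals `[-n, 0]` -/
def LocFTD : Prop :=
  ∀ x : X, ∃ (W : X.Opens) (n : ℕ), x ∈ W ∧
    ∀ x' ∈ W, DerSch.HasTorAmplitudeAt f (-(n : ℤ)) 0 (DerSch.unitCx X) x'

variable {f} in
/-- uniform bound on a quasi-compact open -/
theorem LocFTD.exists_uniform (h : LocFTD f) {U : X.Opens} (hU : IsCompact (U : Set X)) :
    ∃ n : ℕ, ∀ x ∈ U, DerSch.HasTorAmplitudeAt f (-(n : ℤ)) 0 (DerSch.unitCx X) x := by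
  choose W n hxW hW using h
  obtain ⟨t, ht⟩ := hU.elim_finite_subcover (fun x : X => ((W x : X.Opens) : Set X))
    (fun x => (W x).2) (fun x _ => Set.mem_iUnion.2 ⟨x, hxW x⟩)
  refine ⟨t.sup n, fun x hx => ?_⟩
  obtain ⟨y, hy, hxy⟩ := Set.mem_iUnion₂.1 (ht hx)
  refine hasTorAmp_mono ?_ le_rfl (hW y x hxy)
  have : n y ≤ t.sup n := Finset.le_sup hy
  omega

/-- **perfect morphisms**: pseudo-coherent and locally of finite tor dimension -/
theorem isPerfectMor_iff :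
    MoreMor.IsPerfectMor f ↔ MoreMor.IsPseudoCoherentMor f ∧ LocFTD f := by
  constructor
  · intro h
    refine ⟨fun U V hU hV hUV => (h U V hU hV hUV).1, fun x => ?_⟩
    obtain ⟨U, V, hU, hV, hxU, hUV⟩ := Groth.Agent.LD.QC.exists_affine_nhds_le_preimage f x
    obtain ⟨n, hn⟩ := (ftd_iff f hU hV hUV).1 (h U V hU hV hUV).2
    exact ⟨U, n, hxU, hn⟩
  · rintro ⟨hpc, hl⟩ U V hU hV hUV
    exact ⟨hpc U V hU hV hUV, (ftd_iff f hU hV hUV).2 (hl.exists_uniform hU.isCompact)⟩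

/-- **S7171** -/
theorem S7171 :
    MoreMor.IsPerfectMor f ↔ ∀ x : X, ∃ (U : X.Opens) (V : S.Opens) (hUV : U ≤ f ⁻¹ᵁ V),
      IsAffineOpen U ∧ IsAffineOpen V ∧ x ∈ U ∧
      (letI := (f.appLE V U hUV).hom.toAlgebra
       MoreMor.IsPerfectHom Γ(S, V) Γ(X, U)) := by
  constructor
  · intro hf x
    obtain ⟨U, V, hU, hV, hxU, hUV⟩ := Groth.Agent.LD.QC.exists_affine_nhds_le_preimage f x
    exact ⟨U, V, hUV, hU, hV, hxU, hf U V hU hV hUV⟩
  · intro H
    rw [isPerfectMor_iff]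
    constructor
    · rw [S7166]
      intro x
      obtain ⟨U, V, hUV, hU, hV, hxU, hp⟩ := H x
      exact ⟨U, V, hUV, hU, hV, hxU, hp.1⟩
    · intro x
      obtain ⟨U, V, hUV, hU, hV, hxU, hp⟩ := H x
      obtain ⟨n, hn⟩ := (ftd_iff f hU hV hUV).1 hp.2
      exact ⟨U, n, hxU, hn⟩

end Bridge

section Comp

variable {X Y Z : Scheme.{u}}

/-- pointwise version of `RelTor1.hasTorAmp_inD_of_hasTorDimLE` -/
theorem hasTorAmp_inD_at (g : Y ⟶ Z) (n : ℕ) (y : Y)
    (hg : DerSch.HasTorAmplitudeAt g (-(n : ℤ)) 0 (DerSch.unitCx Y) y) :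
    letI : Algebra (Z.presheaf.stalk (g.base y)) (Y.presheaf.stalk y) := (g.stalkMap y).hom.toAlgebra
    DRing.HasTorAmplitudeIn (Z.presheaf.stalk (g.base y)) (-(n : ℤ)) 0
      (Dual.inD (Z.presheaf.stalk (g.base y)) (Y.presheaf.stalk y)) := by
  letI : Algebra (Z.presheaf.stalk (g.base y)) (Y.presheaf.stalk y) := (g.stalkMap y).hom.toAlgebra
  refine hasTorAmp_of_iso ?_ hg
  let e1 := (HomologicalComplex.singleMapHomologicalComplex (DerSch.stalkOver g y)
    (ComplexShape.up ℤ) 0).app (Coh.structureModule Y)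
  let e2 : (DerSch.stalkOver g y).obj (Coh.structureModule Y) ≅
      ModuleCat.of (Z.presheaf.stalk (g.base y)) (Y.presheaf.stalk y) :=
    (ModuleCat.restrictScalars (g.stalkMap y).hom).mapIso
      (Groth.Agent.H2.HomSh.unitStalkEquiv y).symm.toModuleIso ≪≫
        Groth.Agent.H4.RestrPC.ofIsoRestrict.symm
  exact DerivedCategory.Q.mapIso e1 ≪≫
    (DerivedCategory.singleFunctor (ModuleCat.{u} (Z.presheaf.stalk (g.base y))) 0).mapIso e2

/-- pointwise version of `RelTor1.main` -/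
theorem hasTorAmplitudeAt_comp (f : X ⟶ Y) (g : Y ⟶ Z) (n : ℕ)
    (F : CochainComplex X.Modules ℤ) (a b : ℤ) (x : X)
    (hg : DerSch.HasTorAmplitudeAt g (-(n : ℤ)) 0 (DerSch.unitCx Y) (f.base x))
    (hF : DerSch.HasTorAmplitudeAt f a b F x) :
    DerSch.HasTorAmplitudeAt (f ≫ g) (a - n) b F x := by
  letI : Algebra (Z.presheaf.stalk (g.base (f.base x))) (Y.presheaf.stalk (f.base x)) :=
    (g.stalkMap (f.base x)).hom.toAlgebra
  have hB := hasTorAmp_inD_at g n (f.base x) hg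
  have h1 := Groth.Agent.S6947.result n hB _ a b hF
  refine hasTorAmp_of_iso ?_ h1
  let φ : Z.presheaf.stalk (g.base (f.base x)) →+* Y.presheaf.stalk (f.base x) :=
    (g.stalkMap (f.base x)).hom
  let e1 := ((ModuleCat.restrictScalars.{u} φ).mapDerivedCategoryFactors).app
    ((DerSch.stalkCxOver f x).obj F)
  let ψ : Z.presheaf.stalk (g.base (f.base x)) →+* X.presheaf.stalk x := ((f ≫ g).stalkMap x).hom
  let e2 : (DerSch.stalkFunctor X x ⋙ ModuleCat.restrictScalars.{u} (f.stalkMap x).hom) ⋙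
      ModuleCat.restrictScalars.{u} φ ≅ DerSch.stalkFunctor X x ⋙ ModuleCat.restrictScalars.{u} ψ :=
    Functor.associator _ _ _ ≪≫ Functor.isoWhiskerLeft (DerSch.stalkFunctor X x)
      (ModuleCat.restrictScalarsComp'.{u} φ (f.stalkMap x).hom ψ
        (by simp only [ψ, φ]; rw [Scheme.Hom.stalkMap_comp]; rfl)).symm
  let e3 := (NatIso.mapHomologicalComplex e2 (ComplexShape.up ℤ)).app F
  exact e1 ≪≫ DerivedCategory.Q.mapIso e3

/-- local finite tor dimension is stable under composition -/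
theorem LocFTD.comp {f : X ⟶ Y} {g : Y ⟶ Z} (hf : LocFTD f) (hg : LocFTD g) : LocFTD (f ≫ g) := by
  intro x
  obtain ⟨W₁, n₁, hx₁, h₁⟩ := hf x
  obtain ⟨W₂, n₂, hx₂, h₂⟩ := hg (f.base x)
  refine ⟨W₁ ⊓ f ⁻¹ᵁ W₂, n₁ + n₂, ⟨hx₁, hx₂⟩, fun x' hx' => ?_⟩
  have h := hasTorAmplitudeAt_comp f g n₂ (DerSch.unitCx X) (-(n₁ : ℤ)) 0 x' (h₂ _ hx'.2) (h₁ _ hx'.1)
  rw [show -(n₁ : ℤ) - (n₂ : ℤ) = -((n₁ + n₂ : ℕ) : ℤ) by push_cast; ring] at h
  exact h

/-- **S1508** -/
theorem S1508 (f : X ⟶ Y) (g : Y ⟶ Z) (hf : MoreMor.IsPerfectMor f) (hg : MoreMor.IsPerfectMor g) :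
    MoreMor.IsPerfectMor (f ≫ g) := by
  rw [isPerfectMor_iff] at hf hg ⊢
  exact ⟨S1504 f g hf.1 hg.1, hf.2.comp hg.2⟩

end Comp

section Cat

open Groth.Agent.H4.RelBC2

/-- flat base change of tor dimension, for a pushout square of commutative rings -/
theorem hasTorDimLE_baseChange_cat {R A R' A' : CommRingCat.{u}} (a : R ⟶ A) (r : R ⟶ R')
    (a' : R' ⟶ A') (b : A ⟶ A') (hpo : IsPushout a r b a') (hfl : r.hom.Flat) (n : ℕ)
    (h : letI := a.hom.toAlgebra
      DRing.HasTorDimLE R n A) :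
    letI := a'.hom.toAlgebra
    DRing.HasTorDimLE R' n A' := by
  letI i1 : Algebra R A := a.hom.toAlgebra
  letI i2 : Algebra R R' := r.hom.toAlgebra
  letI i3 : Algebra A A' := b.hom.toAlgebra
  letI i4 : Algebra R' A' := a'.hom.toAlgebra
  letI i5 : Algebra R A' := (b.hom.comp a.hom).toAlgebra
  haveI : IsScalarTower R A A' := .of_algebraMap_eq' rfl
  haveI : IsScalarTower R R' A' := .of_algebraMap_eq' (congr($(hpo.1.1).hom))
  haveI : Algebra.IsPushout R A R' A' := CommRingCat.isPushout_iff_isPushout.mp hpo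
  haveI : Algebra.IsPushout R R' A A' := Algebra.IsPushout.symm inferInstance
  haveI : Module.Flat R R' := RingHom.flat_algebraMap_iff.mp hfl
  exact hasTorDimLE_of_isPushout R R' A A' n h

/-- descent of tor dimension, for pushout squares of commutative rings -/
theorem hasTorDimLE_descent_cat {k : ℕ} {R A : CommRingCat.{u}} (a : R ⟶ A)
    (R' A' : Fin k → CommRingCat.{u}) (r : ∀ i, R ⟶ R' i) (a' : ∀ i, R' i ⟶ A' i)
    (b : ∀ i, A ⟶ A' i) (hpo : ∀ i, IsPushout a (r i) (b i) (a' i))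
    (hfl : ∀ i, (r i).hom.Flat)
    (hs : ∀ p : Ideal R, p.IsPrime → ∃ i, ∃ q : Ideal (R' i), q.IsPrime ∧ q.comap (r i).hom = p)
    (n : ℕ)
    (h : ∀ i, letI := (a' i).hom.toAlgebra
      DRing.HasTorDimLE (R' i) n (A' i)) :
    letI := a.hom.toAlgebra
    DRing.HasTorDimLE R n A := by
  letI i1 : Algebra R A := a.hom.toAlgebra
  letI i2 : ∀ i, Algebra R (R' i) := fun i => (r i).hom.toAlgebra
  letI i3 : ∀ i, Algebra A (A' i) := fun i => (b i).hom.toAlgebra
  letI i4 : ∀ i, Algebra (R' i) (A' i) := fun i => (a' i).hom.toAlgebra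
  letI i5 : ∀ i, Algebra R (A' i) := fun i => ((b i).hom.comp a.hom).toAlgebra
  haveI : ∀ i, IsScalarTower R A (A' i) := fun i => .of_algebraMap_eq' rfl
  haveI : ∀ i, IsScalarTower R (R' i) (A' i) := fun i =>
    .of_algebraMap_eq' (congr($((hpo i).1.1).hom))
  haveI : ∀ i, Algebra.IsPushout R A (R' i) (A' i) := fun i =>
    CommRingCat.isPushout_iff_isPushout.mp (hpo i)
  haveI : ∀ i, Algebra.IsPushout R (R' i) A (A' i) := fun i => Algebra.IsPushout.symm inferInstance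
  exact hasTorDimLE_descent R A (fun i => R' i) (fun i => A' i)
    (fun i => RingHom.flat_algebraMap_iff.mp (hfl i)) hs n h

end Cat

end Groth.Agent.H4.PMor4
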