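import Mathlib
import Groth.Prelude.Def_DerSch2
import Groth.Prelude.Def_MoreMor
import Groth.Agent.H4.PMor4

set_option autoImplicit false
universe u
attribute [local instance] HasDerivedCategory.standard
open CategoryTheory CategoryTheory.Limits AlgebraicGeometry DerivedCategory Opposite TopologicalSpace
open Groth.Agent.H4.PC Groth.Agent.H4.RelPC Groth.Agent.H4.PCHom Groth.Agent.H4.PMor2
open Groth.Agent.H4.TorAmp Groth.Agent.H4.RelTor7 Groth.Agent.H4.RelTor8 Groth.Agent.H4.RelTor9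
open Groth.Agent.H4.LDS15 Groth.Agent.H4.PMor4 Groth.Agent.H4.RPC28
open Groth.Agent.LD.QC
open DRing

namespace Groth.Agent.H4.PMor5

section A

variable {X S : Scheme.{u}} (f : X ⟶ S)

/-- tor dimension `≤ n` over an affine pair, stalkwise -/
theorem torDimLE_iff {U : X.Opens} {V : S.Opens} (hU : IsAffineOpen U) (hV : IsAffineOpen V)
    (hUV : U ≤ f ⁻¹ᵁ V) (n : ℕ) :
    (letI := (f.appLE V U hUV).hom.toAlgebra
     DRing.HasTorDimLE Γ(S, V) n Γ(X, U)) ↔
      ∀ x ∈ U, DerSch.HasTorAmplitudeAt f (-(n : ℤ)) 0 (DerSch.unitCx X) x := by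
  letI alg := (f.appLE V U hUV).hom.toAlgebra
  constructor
  · intro hn
    exact (bridge f hU hV hUV _ _).2 ((Groth.Agent.S6946.result Γ(S, V) Γ(X, U) n).1.1 hn)
  · intro hn
    exact (Groth.Agent.S6946.result Γ(S, V) Γ(X, U) n).1.2 ((bridge f hU hV hUV _ _).1 hn)

end A

section BC

variable {X S X' S' : Scheme.{u}} (f : X ⟶ S) (f' : X' ⟶ S') (g' : X' ⟶ X) (g : S' ⟶ S)

/-- flat base change of local finite tor dimension -/
theorem LocFTD.baseChange [Flat g] (hc : IsPullback g' f' f g) (hf : LocFTD f) : LocFTD f' := by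
  intro x'
  obtain ⟨U, V, hU, hV, hxU, hUV⟩ := exists_affine_nhds_le_preimage f (g'.base x')
  have hx1 : f'.base x' ∈ g ⁻¹ᵁ V := by
    change g.base (f'.base x') ∈ V
    have e : g.base (f'.base x') = f.base (g'.base x') := by
      rw [← Scheme.Hom.comp_apply, ← Scheme.Hom.comp_apply, hc.w]
    rw [e]
    exact hUV hxU
  obtain ⟨V', hV', hxV', hV'V⟩ :=
    exists_isAffineOpen_mem_and_subset (x := f'.base x') (U := g ⁻¹ᵁ V) hx1
  obtain ⟨n, hn⟩ := hf.exists_uniform hU.isCompact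
  have hU' := isAffineOpen_inf_of_isPullback f f' g' g hc hV'V hUV hV hV' hU
  refine ⟨g' ⁻¹ᵁ U ⊓ f' ⁻¹ᵁ V', n, ⟨hxU, hxV'⟩, ?_⟩
  refine (torDimLE_iff f' hU' hV' inf_le_right n).1 ?_
  exact hasTorDimLE_baseChange_cat (f.appLE V U hUV) (g.appLE V V' hV'V)
    (f'.appLE V' _ inf_le_right) (g'.appLE U _ inf_le_left)
    ((isIso_pushoutSection_iff hc hV'V hUV rfl).1
      (isIso_pushoutSection_of_isAffineOpen hc hV'V hUV rfl hV hV' hU))
    (Flat.flat_appLE g hV hV' hV'V) n ((torDimLE_iff f hU hV hUV n).2 hn)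

/-- **S1513** -/
theorem S1513 [Flat g] (hc : IsPullback g' f' f g) (hf : MoreMor.IsPerfectMor f) :
    MoreMor.IsPerfectMor f' := by
  rw [isPerfectMor_iff] at hf ⊢
  exact ⟨S7167 f f' g' g hc hf.1, LocFTD.baseChange f f' g' g hc hf.2⟩

/-- fpqc descent of local finite tor dimension -/
theorem LocFTD.descent [Flat g] [Surjective g] [QuasiCompact g] (hc : IsPullback g' f' f g)
    (hf' : LocFTD f') : LocFTD f := by
  intro x
  obtain ⟨U, V, hU, hV, hxU, hUV⟩ := exists_affine_nhds_le_preimage f x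
  have hcpt : IsCompact ((g ⁻¹ᵁ V : S'.Opens) : Set S') :=
    QuasiCompact.isCompact_preimage (f := g) _ V.2 hV.isCompact
  obtain ⟨s, hs, hsV⟩ := isCompact_iff_finite_and_eq_biUnion_affineOpens.mp hcpt
  haveI : Finite s := hs
  obtain ⟨k, ⟨e⟩⟩ := Finite.exists_equiv_fin s
  let W : Fin k → S'.Opens := fun i => ((e.symm i).1 : S'.Opens)
  have hWa : ∀ i, IsAffineOpen (W i) := fun i => (e.symm i).1.2
  have hW : ∀ i, W i ≤ g ⁻¹ᵁ V := fun i => by
    rw [hsV]
    exact le_iSup₂_of_le (e.symm i).1 (e.symm i).2 le_rfl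
  have hcov : g ⁻¹ᵁ V ≤ ⨆ i, W i := by
    rw [hsV]
    refine iSup₂_le (fun a ha => ?_)
    refine le_iSup_of_le (e ⟨a, ha⟩) ?_
    simp [W]
  have hU' : ∀ i, IsAffineOpen (g' ⁻¹ᵁ U ⊓ f' ⁻¹ᵁ W i) := fun i =>
    isAffineOpen_inf_of_isPullback f f' g' g hc (hW i) hUV hV (hWa i) hU
  have hex : ∀ i, ∃ n : ℕ, ∀ x ∈ g' ⁻¹ᵁ U ⊓ f' ⁻¹ᵁ W i,
      DerSch.HasTorAmplitudeAt f' (-(n : ℤ)) 0 (DerSch.unitCx X') x :=
    fun i => hf'.exists_uniform (hU' i).isCompact
  choose n hn using hex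
  refine ⟨U, Finset.univ.sup n, hxU, ?_⟩
  refine (torDimLE_iff f hU hV hUV _).1 ?_
  refine hasTorDimLE_descent_cat (f.appLE V U hUV) (fun i => Γ(S', W i))
    (fun i => Γ(X', g' ⁻¹ᵁ U ⊓ f' ⁻¹ᵁ W i))
    (fun i => g.appLE V (W i) (hW i)) (fun i => f'.appLE (W i) _ inf_le_right)
    (fun i => g'.appLE U _ inf_le_left)
    (fun i => (isIso_pushoutSection_iff hc (hW i) hUV rfl).1
      (isIso_pushoutSection_of_isAffineOpen hc (hW i) hUV rfl hV (hWa i) hU))
    (fun i => Flat.flat_appLE g hV (hWa i) (hW i))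
    (exists_prime_of_surjective g hV W hWa hW hcov) _ (fun i => ?_)
  refine (torDimLE_iff f' (hU' i) (hWa i) inf_le_right _).2 (fun x hx => ?_)
  refine hasTorAmp_mono ?_ le_rfl (hn i x hx)
  have : n i ≤ Finset.univ.sup n := Finset.le_sup (Finset.mem_univ i)
  omega

/-- **S1511** -/
theorem S1511 [Flat g] [Surjective g] [QuasiCompact g] (hc : IsPullback g' f' f g)
    (hf' : MoreMor.IsPerfectMor f') : MoreMor.IsPerfectMor f := by
  rw [isPerfectMor_iff] at hf' ⊢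
  exact ⟨S1505 f f' g' g hc hf'.1, LocFTD.descent f f' g' g hc hf'.2⟩

end BC

end Groth.Agent.H4.PMor5
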