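import Mathlib
import Groth.Prelude.Def_DerSch2
import Groth.Prelude.Def_MoreMor
import Groth.Prelude.Def_Mor2
import Groth.Agent.H4.PMor4
import Groth.Agent.H4.PMor3
import Groth.Agent.H4.KosPerf2
import Groth.Agent.S7066
import Groth.Agent.Lib.Helper8.KosLoc.ClaimA
import Groth.Agent.Lib.Helper1.TorKos2

set_option autoImplicit false
universe u
attribute [local instance] HasDerivedCategory.standard
open CategoryTheory CategoryTheory.Limits AlgebraicGeometry DerivedCategory Opposite TopologicalSpace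
open Groth.Agent.H4.PC Groth.Agent.H4.PCHom Groth.Agent.H4.PMor2 Groth.Agent.H4.Perf
open Groth.Agent.H4.TorAmp Groth.Agent.H4.PMor4 Groth.Agent.H4.KosPerf2
open DRing

namespace Groth.Agent.H4.PMor6

section Ring

variable (R A : Type u) [CommRing R] [CommRing A] [Algebra R A]

/-- a regular sequence is Koszul-regular -/
theorem isKoszulRegularSeq_of_isWeaklyRegular (rs : List R)
    (h : RingTheory.Sequence.IsWeaklyRegular R rs) : LCI.IsKoszulRegularSeq R rs := by
  intro i hi
  have := Groth.Agent.H2.Kos.isZero_koszulH_of_isWeaklyRegular rs R h i hi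
  rw [← HomologicalComplex.exactAt_iff_isZero_homology] at this ⊢
  rwa [Groth.Agent.Lib.Helper1.TorKos.koszul_eq]

/-- a perfect module which is a cyclic algebra gives a perfect ring map -/
theorem isPerfectHom_of_isPerfectModule (hs : Function.Surjective (algebraMap R A))
    (h : DRing.IsPerfectModule R A) : MoreMor.IsPerfectHom R A := by
  haveI : Module.Finite R A := Module.Finite.of_surjective (Algebra.linearMap R A) hs
  refine ⟨(Groth.Agent.H4.PMor3.isPCHom_iff_of_finite R A).2 (isPC'_of_isPerfect h), ?_⟩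
  obtain ⟨a, b, hab⟩ := hasTorAmp_of_isPerfect h
  have h4 := Groth.Agent.S7066.hasTorAmp_single_shrink _ _ _ hab
  exact ⟨_, (Groth.Agent.S6946.result R A _).1.2 h4⟩

/-- quotient by a regular sequence is a perfect ring map -/
theorem isPerfectHom_of_isRegular (hs : Function.Surjective (algebraMap R A)) (rs : List R)
    (hreg : RingTheory.Sequence.IsWeaklyRegular R rs)
    (hker : RingHom.ker (algebraMap R A) = Ideal.ofList rs) : MoreMor.IsPerfectHom R A := by
  refine isPerfectHom_of_isPerfectModule R A hs ?_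
  have h1 := isPerfectModule_quotient_of_isKoszulRegularIdeal _
    (Groth.Agent.H8.KosLoc.isKoszulRegularIdeal_ofList rs (isKoszulRegularSeq_of_isWeaklyRegular R rs hreg))
  let e₂ : (R ⧸ RingHom.ker (algebraMap R A)) ≃ₐ[R] A :=
    Ideal.quotientKerAlgEquivOfSurjective (f := Algebra.ofId R A) hs
  rw [hker] at e₂
  exact Groth.Agent.H4.DRing1.isPerfect_of_iso ((DerivedCategory.singleFunctor _ 0).mapIso e₂.toLinearEquiv.toModuleIso) h1

end Ring

section Sch

/-- **S1509** -/
theorem S1509 {Z X : Scheme.{u}} (i : Z ⟶ X) (hi : Mor2.IsRegularClosedImmersion i) :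
    MoreMor.IsPerfectMor i := by
  obtain ⟨hci, H⟩ := hi
  rw [S7171]
  intro z
  obtain ⟨U, hU, hzU, rs, hreg, hker⟩ := H z
  refine ⟨i ⁻¹ᵁ U, U, le_rfl, hU.preimage i, hU, hzU, ?_⟩
  letI := (i.appLE U (i ⁻¹ᵁ U) le_rfl).hom.toAlgebra
  refine isPerfectHom_of_isRegular Γ(X, U) Γ(Z, i ⁻¹ᵁ U) ?_ rs hreg.toIsWeaklyRegular ?_
  · change Function.Surjective (i.appLE U (i ⁻¹ᵁ U) le_rfl).hom
    rw [Scheme.Hom.appLE_eq_app]
    exact i.app_surjective U hU
  · rw [← hker, Scheme.Hom.ker_apply]
    change RingHom.ker (i.appLE U (i ⁻¹ᵁ U) le_rfl).hom = _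
    rw [Scheme.Hom.appLE_eq_app]

end Sch

end Groth.Agent.H4.PMor6
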