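import Mathlib
import Groth.Prelude.Def_MoreMor
import Groth.Prelude.Def_RegImm
import Groth.Agent.H4.PMor5
import Groth.Agent.S8657
import Groth.Agent.S8663
import Groth.Agent.Lib.Helper8.KosImm.OfImm
import Groth.Agent.Lib.Helper8.LCIHom.KRMap

set_option autoImplicit false
universe u
open CategoryTheory CategoryTheory.Limits AlgebraicGeometry

namespace Groth.Agent.H4.PMor7

/-- the identity is a Koszul-regular immersion -/
theorem isRegularImmersion_id (X : Scheme.{u}) : RegImm.IsRegularImmersion .koszul (𝟙 X) := by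
  refine ⟨inferInstance, fun z => ?_⟩
  obtain ⟨U, hU, hzU, -⟩ :=
    exists_isAffineOpen_mem_and_subset (X := X) (x := z) (U := ⊤) trivial
  refine ⟨⟨U, hU⟩, hzU, inferInstance, [], Groth.Agent.H8.LCIHom.isKoszulRegularSeq_nil, ?_⟩
  rw [Ideal.ofList_nil]
  refine (RingHom.injective_iff_ker_eq_bot _).1 ?_
  exact ((ConcreteCategory.isIso_iff_bijective ((𝟙 X : X ⟶ X).app U)).1 inferInstance).1

/-- **S1510** -/
theorem S1510 {X Y S : Scheme.{u}} (f : X ⟶ Y) (g : Y ⟶ S) [Smooth g]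
    (h : MoreMor.IsPerfectMor (f ≫ g)) : MoreMor.IsPerfectMor f := by
  let p₁ : pullback (f ≫ g) g ⟶ X := pullback.fst _ _
  let p₂ : pullback (f ≫ g) g ⟶ Y := pullback.snd _ _
  let γ : X ⟶ pullback (f ≫ g) g := pullback.lift (𝟙 X) f (by simp)
  have hγ1 : γ ≫ p₁ = 𝟙 X := pullback.lift_fst _ _ _
  have hγ2 : γ ≫ p₂ = f := pullback.lift_snd _ _ _
  have hp₂ : MoreMor.IsPerfectMor p₂ :=
    Groth.Agent.H4.PMor5.S1513 (f ≫ g) p₂ p₁ g (IsPullback.of_hasPullback _ _) h
  haveI : IsImmersion (γ ≫ p₁) := by rw [hγ1]; infer_instance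
  haveI : IsImmersion γ := IsImmersion.of_comp γ p₁
  have hγ : RegImm.IsRegularImmersion .koszul γ :=
    (Groth.Agent.S8657.result (𝟙 X) γ p₁ hγ1).1 (isRegularImmersion_id X)
  have hγp : MoreMor.IsPerfectMor γ := Groth.Agent.S8663.result γ (fun x =>
    Groth.Agent.H8.KosImm.isKoszulAt_of_isRegularImmersion γ .koszul (Or.inr rfl) hγ x)
  rw [← hγ2]
  exact Groth.Agent.H4.PMor4.S1508 γ p₂ hγp hp₂

end Groth.Agent.H4.PMor7
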