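import Mathlib
import Groth.Prelude.Def_DerSch2
import Groth.Prelude.Def_MoreMor
import Groth.Prelude.Def_RegImm
import Groth.Agent.H4.PMor4
import Groth.Agent.H4.KosPerf
import Groth.Agent.S8663
import Groth.Agent.Lib.Helper8.KosImm.OfImm
import Groth.Agent.Lib.Helper1.TorKos2
import Groth.Agent.Lib.Helper1.RegImmersion

set_option autoImplicit false
universe u
attribute [local instance] HasDerivedCategory.standard
open CategoryTheory CategoryTheory.Limits AlgebraicGeometry DerivedCategory Opposite TopologicalSpace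
open Groth.Agent.H4.PC Groth.Agent.H4.PCHom Groth.Agent.H4.PMor2
open Groth.Agent.H4.TorAmp Groth.Agent.H4.PMor4 Groth.Agent.H4.KosPerf
open DRing

namespace Groth.Agent.H4.PMor8

section Ring

variable (R A : Type u) [CommRing R] [CommRing A] [Algebra R A]

/-- the Koszul complex computes the tor amplitude of a Koszul-regular quotient -/
theorem hasTorAmp_quotient_of_isKoszulRegularSeq (l : List R) (h : LCI.IsKoszulRegularSeq R l) :
    DRing.HasTorAmplitudeIn R (-(l.length : ℤ)) 0 (Dual.inD R (R ⧸ Ideal.span {x | x ∈ l})) := by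
  refine ⟨Koszul.koszul R l, ?_, ?_, nonempty_koszul_iso l h⟩
  · intro i hi
    rw [Groth.Agent.Lib.Helper1.TorKos.koszul_eq]
    rcases hi with hi | hi
    · exact Groth.Agent.H2.Kos.isZero_X_of_lt _ l i hi
    · exact Groth.Agent.H2.Kos.isZero_X_of_pos _ l i hi
  · intro i
    rw [Groth.Agent.Lib.Helper1.TorKos.koszul_eq]
    haveI := Groth.Agent.Lib.Helper1.TorKos.projective_koszulCx_X l i
    haveI : Module.Projective R ((CohIII.koszulCx (ModuleCat.of R R) l).X i) :=
      (IsProjective.iff_projective _).2 inferInstance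
    infer_instance

/-- tor amplitude of a quotient by a Koszul-regular sequence -/
theorem hasTorAmp_of_isKoszulRegularSeq (hs : Function.Surjective (algebraMap R A)) (rs : List R)
    (hreg : LCI.IsKoszulRegularSeq R rs)
    (hker : RingHom.ker (algebraMap R A) = Ideal.ofList rs) :
    DRing.HasTorAmplitudeIn R (-(rs.length : ℤ)) 0 (Dual.inD R A) := by
  have h1 := hasTorAmp_quotient_of_isKoszulRegularSeq R rs hreg
  let e₂ : (R ⧸ RingHom.ker (algebraMap R A)) ≃ₐ[R] A :=
    Ideal.quotientKerAlgEquivOfSurjective (f := Algebra.ofId R A) hs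
  rw [hker] at e₂
  exact hasTorAmp_of_iso ((DerivedCategory.singleFunctor _ 0).mapIso e₂.toLinearEquiv.toModuleIso) h1

end Ring

section Sch

/-- **S6238** -/
theorem S6238 {Z X : Scheme.{u}} (i : Z ⟶ X) (d : ℕ)
    (hi : RegImm.IsRegularImmersionOfCodim RegImm.Kind.koszul d i) :
    DerSch.HasPerfDimLE i d := by
  have hK : RegImm.IsRegularImmersion .koszul i :=
    ⟨hi.1, fun z => by
      obtain ⟨U, h1, h2, rs, -, h3, h4⟩ := hi.2 z
      exact ⟨U, h1, h2, rs, h3, h4⟩⟩
  have hp : MoreMor.IsPerfectMor i := Groth.Agent.S8663.result i (fun x =>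
    Groth.Agent.H8.KosImm.isKoszulAt_of_isRegularImmersion i .koszul (Or.inr rfl) hK x)
  have hpc : MoreMor.IsPseudoCoherentMor i := fun U V hU hV hUV => (hp U V hU hV hUV).1
  refine ⟨fun m => ((isPseudoCoherentMor_iff i).1 hpc).2 m, fun z => ?_⟩
  obtain ⟨U, hzU, hci, rs, hlen, hseq, hker⟩ := hi.2 z
  haveI := hci
  obtain ⟨hUa, hsurj⟩ :=
    Groth.Agent.H1.RegImmersion.affine_and_surjective_of_isClosedImmersion_restrict i U.1 U.2
  refine (bridge i hUa U.2 le_rfl (-(d : ℤ)) 0).2 ?_ z hzU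
  letI := (i.appLE U.1 (i ⁻¹ᵁ U.1) le_rfl).hom.toAlgebra
  have h := hasTorAmp_of_isKoszulRegularSeq Γ(X, U.1) Γ(Z, i ⁻¹ᵁ U.1) ?_ rs hseq ?_
  · rwa [hlen] at h
  · change Function.Surjective (i.appLE U.1 (i ⁻¹ᵁ U.1) le_rfl).hom
    rw [Scheme.Hom.appLE_eq_app]
    exact hsurj
  · rw [← hker]
    change RingHom.ker (i.appLE U.1 (i ⁻¹ᵁ U.1) le_rfl).hom = _
    rw [Scheme.Hom.appLE_eq_app]

end Sch

end Groth.Agent.H4.PMor8
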