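import Mathlib
import Groth.Prelude.Def_DRing2
import Groth.Agent.H4.FAmp9
import Groth.Agent.H4.PC3
import Groth.Agent.H4.PC6
import Groth.Agent.H4.PC7
import Groth.Agent.Lib.Helper2.TorBalLES
import Groth.Agent.Lib.Helper1.LimFlat4
import Groth.Agent.Lib.Helper1.FlatLocus
import Groth.Agent.S6946

set_option autoImplicit false
universe u
attribute [local instance] HasDerivedCategory.standard
open CategoryTheory CategoryTheory.Limits
open Groth.Agent.H2.TorBal Groth.Agent.H2.TorOne
open Groth.Agent.H4.PC DRing

namespace Groth.Agent.H4.TorOpen1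

section Shift

variable {R : Type u} [CommRing R]

/-- dimension shifting upwards -/
theorem hasTorDimLE_succ_of_ses {A B C : Type u} [AddCommGroup A] [Module R A] [AddCommGroup B]
    [Module R B] [AddCommGroup C] [Module R C] (f : A →ₗ[R] B) (g : B →ₗ[R] C)
    (hf : Function.Injective f) (hfg : Function.Exact f g) (hg : Function.Surjective g)
    [Module.Flat R B] (k : ℕ) (h : DRing.HasTorDimLE R k A) : DRing.HasTorDimLE R (k + 1) C := by
  intro N _ _ p hp
  let T := scOfLinearMaps f g hfg
  have hT : T.ShortExact := scOfLinearMaps_shortExact f g hf hfg hg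
  obtain ⟨p', rfl⟩ : ∃ p', p = p' + 1 := ⟨p - 1, by omega⟩
  haveI := h N p' (by omega)
  have h1 : IsZero (torObj p' (ModuleCat.of R A) (ModuleCat.of R N)) :=
    ModuleCat.isZero_of_subsingleton _
  haveI : Module.Flat R T.X₂ := inferInstanceAs (Module.Flat R B)
  obtain ⟨p'', rfl⟩ : ∃ p'', p' = p'' + 1 := ⟨p' - 1, by omega⟩
  have h2 : IsZero (torObj (p'' + 1 + 1) T.X₂ (ModuleCat.of R N)) :=
    isZero_tor_succ_of_flat_left _ _ (p'' + 1)
  exact ModuleCat.subsingleton_of_isZero
    (isZero_tor_X₃_left T hT (ModuleCat.of R N) (p'' + 1) h2 h1)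

/-- tor dimension is invariant under linear equivalence -/
theorem hasTorDimLE_of_equiv {M M' : Type u} [AddCommGroup M] [Module R M] [AddCommGroup M']
    [Module R M'] (e : M ≃ₗ[R] M') (n : ℕ) (h : DRing.HasTorDimLE R n M') :
    DRing.HasTorDimLE R n M :=
  Groth.Agent.H4.FAmp9.hasTorDimLE_of_retract e.toLinearMap e.symm.toLinearMap
    (by ext; simp) n h

theorem hasTorDimLE_zero_iff (M : Type u) [AddCommGroup M] [Module R M] :
    DRing.HasTorDimLE R 0 M ↔ Module.Flat R M := (Groth.Agent.S6946.result R M 0).2

end Shift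

section Cover

variable (P : Type u) [CommRing P]

/-- pseudo-coherent in every degree -/
def PCAll (M : Type u) [AddCommGroup M] [Module P M] : Prop :=
  ∀ m : ℤ, DRing.IsPseudoCoherentModule P m M

variable {P}

theorem PCAll.finite {M : Type u} [AddCommGroup M] [Module P M] (h : PCAll P M) :
    Module.Finite P M := (isPCModule_zero_iff M).1 (h 0)

theorem PCAll.fp {M : Type u} [AddCommGroup M] [Module P M] (h : PCAll P M) :
    Module.FinitePresentation P M := (isPCModule_negOne_iff M).1 (h (-1))

/-- a pseudo-coherent module is a quotient of a finite free module with pseudo-coherent kernel -/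
theorem PCAll.exists_cover {M : Type u} [AddCommGroup M] [Module P M] (h : PCAll P M) :
    ∃ (k : ℕ) (p : (Fin k → P) →ₗ[P] M), Function.Surjective p ∧ PCAll P (LinearMap.ker p) := by
  haveI := h.finite
  obtain ⟨k, p, hp⟩ := Module.Finite.exists_fin' P M
  refine ⟨k, p, hp, fun m => ?_⟩
  let F : ModuleCat.{u} P := ModuleCat.of P (Fin k → P)
  let p' : F ⟶ ModuleCat.of P M := ModuleCat.ofHom p
  have := isPC_X₁_of_shortExact (kerSC p') (kerSC_shortExact p' hp) (m - 1)
    (isPC_single_of_finite_free (m - 1 + 1) 0 F) (h (m - 1))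
  rw [sub_add_cancel] at this
  exact this

end Cover

section Loc

open TensorProduct

variable (R : Type u) [CommRing R] (P : Type u) [CommRing P] [Algebra R P]

/-- localizations of flat modules are flat over the base -/
theorem flat_localizedModule (S : Submonoid P) (F : Type u) [AddCommGroup F] [Module P F]
    [Module R F] [IsScalarTower R P F] [Module.Flat R F] :
    Module.Flat R (LocalizedModule S F) := by
  refine Groth.Agent.H1.FlatLocus.flat_of_forall_exists_smul (R := R) (B := P) S
    (LocalizedModule.mkLinearMap S F) fun I x hx => ?_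
  have hinj : Function.Injective (I.subtype.lTensor F) :=
    Module.Flat.iff_lTensor_injective'.mp inferInstance I
  have : x = 0 := hinj (by rw [hx, map_zero])
  exact ⟨1, S.one_mem, by rw [this, smul_zero]⟩

/-- flatness of `M_g` from flatness at all primes of `D(g)` -/
theorem flat_away_of_forall (M : Type u) [AddCommGroup M] [Module P M]
    [Module R M] [IsScalarTower R P M] (g : P)
    (h : ∀ (Q' : Ideal P) [Q'.IsPrime], g ∉ Q' →
      Module.Flat R (LocalizedModule Q'.primeCompl M)) :
    Module.Flat R (LocalizedModule (Submonoid.powers g) M) := by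
  refine Groth.Agent.H1.FlatLocus.flat_of_forall_exists_smul (R := R) (B := P) (Submonoid.powers g)
    (LocalizedModule.mkLinearMap (Submonoid.powers g) M) fun I x hx => ?_
  let J : Ideal P := LinearMap.ker (LinearMap.toSpanSingleton P (M ⊗[R] I) x)
  have hJ : ∀ t : P, t ∈ J ↔ t • x = 0 := fun t => by
    simp [J, LinearMap.mem_ker]
  have hg : g ∈ J.radical := by
    rw [Ideal.radical_eq_sInf, Submodule.mem_sInf]
    intro Q' hQ''
    obtain ⟨hJQ, hQ'⟩ : J ≤ (Q' : Ideal P) ∧ Ideal.IsPrime (Q' : Ideal P) := hQ''
    by_contra hgQ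
    haveI := hQ'
    haveI := h Q' hgQ
    obtain ⟨s, hs, hsx⟩ := Groth.Agent.H1.FlatLocus.exists_smul_eq_zero_of_flat (R := R) (B := P)
      (Ideal.primeCompl Q') (LocalizedModule.mkLinearMap (Ideal.primeCompl Q') M) I x hx
    exact hs (hJQ ((hJ s).2 hsx))
  obtain ⟨n, hn⟩ := hg
  exact ⟨g ^ n, ⟨n, rfl⟩, (hJ _).1 hn⟩

/-- the localized kernel sequence: shifting down -/
theorem td_ker_of_td [Module.Flat R P] (S : Submonoid P) {M : Type u} [AddCommGroup M] [Module P M]
    [Module R M] [IsScalarTower R P M] (k : ℕ) (p : (Fin k → P) →ₗ[P] M)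
    (hp : Function.Surjective p) (d : ℕ)
    (h : DRing.HasTorDimLE R (d + 1) (LocalizedModule S M)) :
    DRing.HasTorDimLE R d (LocalizedModule S (LinearMap.ker p)) := by
  haveI : Module.Flat R (Fin k → P) := Module.Flat.trans R P (Fin k → P)
  haveI := flat_localizedModule R P S (Fin k → P)
  exact Groth.Agent.H4.FAmp9.hasTorDimLE_of_ses
    ((IsLocalizedModule.map S (LocalizedModule.mkLinearMap S (LinearMap.ker p))
      (LocalizedModule.mkLinearMap S (Fin k → P)) (LinearMap.ker p).subtype).restrictScalars R)
    ((IsLocalizedModule.map S (LocalizedModule.mkLinearMap S (Fin k → P))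
      (LocalizedModule.mkLinearMap S M) p).restrictScalars R)
    (IsLocalizedModule.map_injective S _ _ _ (Submodule.subtype_injective _))
    (LocalizedModule.map_exact S _ _ (LinearMap.exact_subtype_ker_map p))
    (IsLocalizedModule.map_surjective S _ _ _ hp) d h

/-- the localized kernel sequence: shifting up -/
theorem td_of_td_ker [Module.Flat R P] (S : Submonoid P) {M : Type u} [AddCommGroup M] [Module P M]
    [Module R M] [IsScalarTower R P M] (k : ℕ) (p : (Fin k → P) →ₗ[P] M)
    (hp : Function.Surjective p) (d : ℕ)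
    (h : DRing.HasTorDimLE R d (LocalizedModule S (LinearMap.ker p))) :
    DRing.HasTorDimLE R (d + 1) (LocalizedModule S M) := by
  haveI : Module.Flat R (Fin k → P) := Module.Flat.trans R P (Fin k → P)
  haveI := flat_localizedModule R P S (Fin k → P)
  exact hasTorDimLE_succ_of_ses
    ((IsLocalizedModule.map S (LocalizedModule.mkLinearMap S (LinearMap.ker p))
      (LocalizedModule.mkLinearMap S (Fin k → P)) (LinearMap.ker p).subtype).restrictScalars R)
    ((IsLocalizedModule.map S (LocalizedModule.mkLinearMap S (Fin k → P))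
      (LocalizedModule.mkLinearMap S M) p).restrictScalars R)
    (IsLocalizedModule.map_injective S _ _ _ (Submodule.subtype_injective _))
    (LocalizedModule.map_exact S _ _ (LinearMap.exact_subtype_ker_map p))
    (IsLocalizedModule.map_surjective S _ _ _ hp) d h

/-- **openness of the locus of tor dimension `≤ d`**, for pseudo-coherent modules over a flat
finitely presented algebra -/
theorem exists_away [Algebra.FinitePresentation R P] [Module.Flat R P] (d : ℕ) :
    ∀ (M : Type u) [AddCommGroup M] [Module P M] [Module R M] [IsScalarTower R P M]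
      (_ : PCAll P M) (Q : Ideal P) [Q.IsPrime],
      DRing.HasTorDimLE R d (LocalizedModule Q.primeCompl M) →
      ∃ g : P, g ∉ Q ∧ DRing.HasTorDimLE R d (LocalizedModule (Submonoid.powers g) M) := by
  induction d with
  | zero =>
    intro M _ _ _ _ hM Q _ h
    haveI := hM.fp
    haveI : Module.Flat R (LocalizedModule Q.primeCompl M) := (hasTorDimLE_zero_iff _).1 h
    obtain ⟨g, hg, hflat⟩ := Groth.Agent.H1.LimFlat.exists_flat_nhd_of_finitePresentation
      (R := R) (S := P) (M := M) Q
    exact ⟨g, hg, (hasTorDimLE_zero_iff _).2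
      (flat_away_of_forall R P M g (fun Q' _ h' => hflat Q' h'))⟩
  | succ d ih =>
    intro M _ _ _ _ hM Q _ h
    obtain ⟨k, p, hp, hK⟩ := hM.exists_cover
    have h1 := td_ker_of_td R P Q.primeCompl k p hp d h
    obtain ⟨g, hg, h2⟩ := ih (LinearMap.ker p) hK Q h1
    exact ⟨g, hg, td_of_td_ker R P (Submonoid.powers g) k p hp d h2⟩

end Loc

end Groth.Agent.H4.TorOpen1
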