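import Mathlib
import Groth.Prelude.Def_DRing2
import Groth.Agent.S6946
import Groth.Agent.S6947
import Groth.Agent.S7066
import Groth.Agent.H4.PCHom

set_option autoImplicit false
universe u
attribute [local instance] HasDerivedCategory.standard
open CategoryTheory CategoryTheory.Limits DerivedCategory
open Groth.Agent.H4.PC Groth.Agent.H4.PCHom Groth.Agent.H4.TorAmp DRing

namespace Groth.Agent.H4.TorOpen2

/-- tor dimension over a flat base change of the coefficient ring -/
theorem hasTorDimLE_of_flat_tower (R B C : Type u) [CommRing R] [CommRing B] [Algebra R B]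
    [Module.Flat R B] [AddCommGroup C] [Module B C] [Module R C] [IsScalarTower R B C] (d : ℕ)
    (h : DRing.HasTorDimLE B d C) : DRing.HasTorDimLE R d C := by
  have hab := (Groth.Agent.S6946.result B C d).1.1 h
  have hfl : DRing.HasTorAmplitudeIn R (-((0 : ℕ) : ℤ)) 0 (Dual.inD R B) :=
    (Groth.Agent.S6946.result R B 0).1.1
      ((Groth.Agent.S6946.result R B 0).2.2 inferInstance)
  have h1 := Groth.Agent.S6947.result 0 hfl _ (-(d : ℤ)) 0 hab
  have h2 := hasTorAmp_of_iso (restrictDSingle (algebraMap R B) (ModuleCat.of B C)) h1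
  let i := (Groth.Agent.S7066.towerIso R B C).symm
  have h3 := hasTorAmp_of_iso ((singleFunctor (ModuleCat.{u} R) 0).mapIso i) h2
  simp only [Nat.cast_zero, sub_zero] at h3
  exact (Groth.Agent.S6946.result R C d).1.2 h3

end Groth.Agent.H4.TorOpen2
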