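import Mathlib
import Groth.Prelude.Def_DRing2
import Groth.Prelude.Def_MoreMor
import Groth.Agent.H4.TorOpen1
import Groth.Agent.H4.TorOpen2

set_option autoImplicit false
universe u
attribute [local instance] HasDerivedCategory.standard
open CategoryTheory CategoryTheory.Limits
open Groth.Agent.H4.PC DRing Groth.Agent.H4.TorOpen1 Groth.Agent.H4.TorOpen2

namespace Groth.Agent.H4.TorOpen3

/-- **openness of finite tor dimension** for pseudo-coherent ring maps: from a stalk to a basic
open neighbourhood -/
theorem exists_away_of_stalk (R A : Type u) [CommRing R] [CommRing A] [Algebra R A]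
    (hpc : MoreMor.IsPseudoCoherentHom R A) (q : Ideal A) [q.IsPrime] (d : ℕ)
    (B C : Type u) [CommRing B] [CommRing C] [Algebra R B] [Module.Flat R B] [Algebra B C]
    [Algebra A C] [Algebra R C] [IsScalarTower R B C] [IsScalarTower R A C]
    [IsLocalization.AtPrime C q] (h : DRing.HasTorDimLE B d C) :
    ∃ a : A, a ∉ q ∧ ∀ (A' : Type u) [CommRing A'] [Algebra A A'] [Algebra R A']
      [IsScalarTower R A A'] [IsLocalization.Away a A'], DRing.HasTorDimLE R d A' := by
  obtain ⟨n, φ, hφ, hpc'⟩ := hpc
  letI algPA : Algebra (MvPolynomial (Fin n) R) A := φ.toRingHom.toAlgebra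
  haveI : IsScalarTower R (MvPolynomial (Fin n) R) A :=
    IsScalarTower.of_algebraMap_eq (fun a => (φ.commutes a).symm)
  have hsurj : Function.Surjective (algebraMap (MvPolynomial (Fin n) R) A) := hφ
  have hPC : PCAll (MvPolynomial (Fin n) R) A := fun m => isPC_of_isPC' _ hpc' m
  have h1 : DRing.HasTorDimLE R d C := hasTorDimLE_of_flat_tower R B C d h
  -- the prime of `P`
  let Q : Ideal (MvPolynomial (Fin n) R) := q.comap (algebraMap (MvPolynomial (Fin n) R) A)
  haveI : Q.IsPrime := Ideal.comap_isPrime _ _
  have hsub : Algebra.algebraMapSubmonoid A Q.primeCompl = q.primeCompl := by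
    ext a
    constructor
    · rintro ⟨p, hp, rfl⟩
      exact hp
    · intro ha
      obtain ⟨p, rfl⟩ := hsurj a
      exact ⟨p, ha, rfl⟩
  -- `C` as a `P`-module
  letI algPC : Algebra (MvPolynomial (Fin n) R) C :=
    ((algebraMap A C).comp (algebraMap (MvPolynomial (Fin n) R) A)).toAlgebra
  haveI : IsScalarTower (MvPolynomial (Fin n) R) A C := IsScalarTower.of_algebraMap_eq' rfl
  haveI : IsScalarTower R (MvPolynomial (Fin n) R) C := IsScalarTower.of_algebraMap_eq (fun r => by
    change algebraMap R C r = algebraMap A C (algebraMap (MvPolynomial (Fin n) R) A (algebraMap R _ r))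
    rw [← IsScalarTower.algebraMap_apply R (MvPolynomial (Fin n) R) A,
      ← IsScalarTower.algebraMap_apply R A C])
  haveI hloc : IsLocalizedModule q.primeCompl (Algebra.linearMap A C) :=
    (isLocalizedModule_iff_isLocalization).2 inferInstance
  haveI : IsLocalizedModule (Algebra.algebraMapSubmonoid A Q.primeCompl) (Algebra.linearMap A C) := by
    rw [hsub]; exact hloc
  haveI : IsLocalizedModule Q.primeCompl
      ((Algebra.linearMap A C).restrictScalars (MvPolynomial (Fin n) R)) :=
    IsLocalizedModule.restrictScalars Q.primeCompl (Algebra.linearMap A C)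
  let e1 : LocalizedModule Q.primeCompl A ≃ₗ[MvPolynomial (Fin n) R] C :=
    IsLocalizedModule.iso Q.primeCompl
      ((Algebra.linearMap A C).restrictScalars (MvPolynomial (Fin n) R))
  have h2 : DRing.HasTorDimLE R d (LocalizedModule Q.primeCompl A) :=
    hasTorDimLE_of_equiv (e1.restrictScalars R) d h1
  obtain ⟨g, hg, h3⟩ := exists_away R (MvPolynomial (Fin n) R) d A hPC Q h2
  refine ⟨algebraMap (MvPolynomial (Fin n) R) A g, hg, ?_⟩
  intro A' _ _ _ _ _
  letI algPA' : Algebra (MvPolynomial (Fin n) R) A' :=
    ((algebraMap A A').comp (algebraMap (MvPolynomial (Fin n) R) A)).toAlgebra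
  haveI : IsScalarTower (MvPolynomial (Fin n) R) A A' := IsScalarTower.of_algebraMap_eq' rfl
  haveI : IsScalarTower R (MvPolynomial (Fin n) R) A' := IsScalarTower.of_algebraMap_eq (fun r => by
    change algebraMap R A' r = algebraMap A A' (algebraMap (MvPolynomial (Fin n) R) A (algebraMap R _ r))
    rw [← IsScalarTower.algebraMap_apply R (MvPolynomial (Fin n) R) A,
      ← IsScalarTower.algebraMap_apply R A A'])
  haveI hloc' : IsLocalizedModule (Submonoid.powers (algebraMap (MvPolynomial (Fin n) R) A g))
      (Algebra.linearMap A A') :=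
    (isLocalizedModule_iff_isLocalization).2 inferInstance
  haveI : IsLocalizedModule (Submonoid.powers g)
      ((Algebra.linearMap A A').restrictScalars (MvPolynomial (Fin n) R)) :=
    IsLocalizedModule.restrictScalars_powers g (Algebra.linearMap A A')
  let e2 : LocalizedModule (Submonoid.powers g) A ≃ₗ[MvPolynomial (Fin n) R] A' :=
    IsLocalizedModule.iso (Submonoid.powers g)
      ((Algebra.linearMap A A').restrictScalars (MvPolynomial (Fin n) R))
  exact hasTorDimLE_of_equiv (e2.symm.restrictScalars R) d h3

end Groth.Agent.H4.TorOpen3
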