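import Mathlib
import Groth.Prelude.Def_DerSch2
import Groth.Prelude.Def_MoreMor
import Groth.Agent.H4.PMor5
import Groth.Agent.H4.TorOpen3
import Groth.Agent.Lib.Helper1.SchFlat

set_option autoImplicit false
universe u
attribute [local instance] HasDerivedCategory.standard
open CategoryTheory CategoryTheory.Limits AlgebraicGeometry DerivedCategory Opposite TopologicalSpace
open Groth.Agent.H4.PC Groth.Agent.H4.PMor2
open Groth.Agent.H4.TorAmp Groth.Agent.H4.PMor4 Groth.Agent.H4.PMor5 Groth.Agent.H4.TorOpen3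
open Groth.Agent.LD.QC
open DRing

namespace Groth.Agent.H4.PMor9

variable {X S : Scheme.{u}} (f : X ⟶ S)

/-- from finite tor dimension of the stalks to local finite tor dimension, for a pseudo-coherent
morphism -/
theorem locFTD_of_stalks (hf : MoreMor.IsPseudoCoherentMor f)
    (H : ∀ x : X,
      (letI := (f.stalkMap x).hom.toAlgebra
       DRing.HasFiniteTorDim ↑(S.presheaf.stalk (f x)) ↑(X.presheaf.stalk x))) :
    LocFTD f := by
  intro x
  obtain ⟨U, V, hU, hV, hxU, hUV⟩ := exists_affine_nhds_le_preimage f x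
  have hfxV : f x ∈ V := hUV hxU
  obtain ⟨d, hd⟩ := H x
  letI algRA : Algebra Γ(S, V) Γ(X, U) := (f.appLE V U hUV).hom.toAlgebra
  letI algRB : Algebra Γ(S, V) (S.presheaf.stalk (f x)) :=
    TopCat.Presheaf.algebra_section_stalk S.presheaf ⟨f x, hfxV⟩
  letI algBC : Algebra (S.presheaf.stalk (f x)) (X.presheaf.stalk x) := (f.stalkMap x).hom.toAlgebra
  letI algAC : Algebra Γ(X, U) (X.presheaf.stalk x) :=
    TopCat.Presheaf.algebra_section_stalk X.presheaf ⟨x, hxU⟩
  letI algRC : Algebra Γ(S, V) (X.presheaf.stalk x) :=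
    ((algebraMap Γ(X, U) (X.presheaf.stalk x)).comp (algebraMap Γ(S, V) Γ(X, U))).toAlgebra
  haveI : IsScalarTower Γ(S, V) Γ(X, U) (X.presheaf.stalk x) := IsScalarTower.of_algebraMap_eq' rfl
  haveI : IsScalarTower Γ(S, V) (S.presheaf.stalk (f x)) (X.presheaf.stalk x) := by
    refine IsScalarTower.of_algebraMap_eq' ?_
    change ((X.presheaf.germ U x hxU).hom.comp (f.appLE V U hUV).hom) =
      (f.stalkMap x).hom.comp (S.presheaf.germ V (f x) hfxV).hom
    rw [← CommRingCat.hom_comp, ← CommRingCat.hom_comp, Scheme.Hom.germ_stalkMap,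
      Scheme.Hom.appLE, Category.assoc, TopCat.Presheaf.germ_res]
  haveI := hV.isLocalization_stalk ⟨f x, hfxV⟩
  haveI : Module.Flat Γ(S, V) (S.presheaf.stalk (f x)) :=
    IsLocalization.flat _ (hV.primeIdealOf ⟨f x, hfxV⟩).asIdeal.primeCompl
  haveI := hU.isLocalization_stalk ⟨x, hxU⟩
  obtain ⟨a, ha, Ha⟩ := exists_away_of_stalk Γ(S, V) Γ(X, U) (hf U V hU hV hUV)
    (hU.primeIdealOf ⟨x, hxU⟩).asIdeal d (S.presheaf.stalk (f x)) (X.presheaf.stalk x) hd
  have hWU : X.basicOpen a ≤ U := X.basicOpen_le a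
  have hWV : X.basicOpen a ≤ f ⁻¹ᵁ V := hWU.trans hUV
  refine ⟨X.basicOpen a, d, Groth.Agent.H1.SchFlat.mem_basicOpen_of_notMem hU x hxU a ha, ?_⟩
  refine (torDimLE_iff f (hU.basicOpen a) hV hWV d).1 ?_
  letI algRA' : Algebra Γ(S, V) Γ(X, X.basicOpen a) := (f.appLE V (X.basicOpen a) hWV).hom.toAlgebra
  haveI : IsScalarTower Γ(S, V) Γ(X, U) Γ(X, X.basicOpen a) := by
    refine IsScalarTower.of_algebraMap_eq' ?_
    change (f.appLE V (X.basicOpen a) hWV).hom =
      (X.presheaf.map (homOfLE hWU).op).hom.comp (f.appLE V U hUV).hom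
    rw [← CommRingCat.hom_comp, Scheme.Hom.appLE_map]
  haveI := hU.isLocalization_basicOpen a
  exact Ha Γ(X, X.basicOpen a)

/-- **S7174** -/
theorem S7174 (hf : MoreMor.IsPseudoCoherentMor f) :
    MoreMor.IsPerfectMor f ↔ ∀ x : X,
      (letI := (f.stalkMap x).hom.toAlgebra
       DRing.HasFiniteTorDim ↑(S.presheaf.stalk (f x)) ↑(X.presheaf.stalk x)) := by
  constructor
  · intro h x
    obtain ⟨W, n, hxW, hW⟩ := ((isPerfectMor_iff f).1 h).2 x
    letI := (f.stalkMap x).hom.toAlgebra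
    exact ⟨n, (Groth.Agent.S6946.result _ _ n).1.2 (hasTorAmp_inD_at f n x (hW x hxW))⟩
  · intro H
    exact (isPerfectMor_iff f).2 ⟨hf, locFTD_of_stalks f hf H⟩

end Groth.Agent.H4.PMor9
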