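import Mathlib
import Groth.Agent.H4.PSch6
import Groth.Prelude.Def_DCoh3

set_option autoImplicit false
universe u
attribute [local instance] HasDerivedCategory.standard
open CategoryTheory CategoryTheory.Limits AlgebraicGeometry Groth.Agent.LD.QC DerivedCategory
open Groth.Agent.H4.PSch1 Groth.Agent.H4.PSch2 Groth.Agent.H4.PSch3 Groth.Agent.H4.PSch4
open Groth.Agent.H4.PSch5 Groth.Agent.H4.PSch6

namespace Groth.Agent.H4.PSch7

variable {X S : Scheme.{u}}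

lemma isFlatOver_of_isFinLocFree (g : X ⟶ S) [Flat g] (M : X.Modules)
    (hM : FlatMod.IsFinLocFree M) : FlatMod.IsFlatOver g M := by
  intro y
  unfold FlatMod.IsFlatOverAt
  letI := FlatMod.moduleStalkOver g M y
  letI : Algebra (S.presheaf.stalk (g.base y)) (X.presheaf.stalk y) := (g.stalkMap y).hom.toAlgebra
  haveI : IsScalarTower (S.presheaf.stalk (g.base y)) (X.presheaf.stalk y) (M.presheaf.stalk y) :=
    IsScalarTower.of_algebraMap_smul fun r m => rfl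
  haveI : Module.Flat (S.presheaf.stalk (g.base y)) (X.presheaf.stalk y) :=
    (Flat.iff_flat_stalkMap g).mp inferInstance y
  haveI : Module.Free (X.presheaf.stalk y) (M.presheaf.stalk y) := free_stalk_of_isFinLocFree M hM y
  exact Module.Flat.trans (S.presheaf.stalk (g.base y)) (X.presheaf.stalk y) (M.presheaf.stalk y)

theorem S7248 (f : X ⟶ S) [Flat f] [LocallyOfFinitePresentation f]
    (E : DCoh.D X) (hE : DCoh.IsPerfect E) :
    (∀ m : ℤ, DCoh.IsPseudoCoherentD m E) ∧ DCoh.LocHasFiniteRelTorDim f E := by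
  constructor
  · intro m x
    obtain ⟨V, hxV, hV⟩ := hE x
    refine ⟨V, hxV, fun F hF => ?_⟩
    obtain ⟨P, hP, ⟨e⟩⟩ := hV F hF
    exact ⟨P, e.inv, hP, fun i _ => inferInstance, inferInstance⟩
  · intro x
    obtain ⟨V₀, hxV₀, hV₀⟩ := hE x
    let F₀ := Q.objPreimage E
    have eF₀ : Q.obj F₀ ≅ E := Q.objObjPreimageIso E
    obtain ⟨E₀, hE₀, ⟨e₀⟩⟩ := hV₀ F₀ ⟨eF₀⟩
    obtain ⟨⟨a, b, hab⟩, hfree⟩ := hE₀
    refine ⟨V₀, a, b, hxV₀, fun F' ⟨eF'⟩ => ⟨E₀, hab, fun i => ?_, ⟨?_⟩⟩⟩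
    · exact isFlatOver_of_isFinLocFree (V₀.ι ≫ f) (E₀.X i) (hfree i)
    · exact e₀.symm ≪≫ (RDfac V₀.ι F₀).symm ≪≫ (RD V₀.ι).mapIso (eF₀ ≪≫ eF'.symm) ≪≫
        RDfac V₀.ι F'

end Groth.Agent.H4.PSch7
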