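import Mathlib

open Module

namespace Groth.Agent.H4.PadicLatTors

section U
variable {R : Type*} [CommRing R] [IsDomain R] {M : Type*} [AddCommGroup M] [Module R M]
  [Module.IsTorsionFree R M]

/-- restriction of f to range e -/
noncomputable def fres (e f : Module.End R M) (h3 : ∀ x, e (f x) = f x) :
    LinearMap.range e →ₗ[R] LinearMap.range e :=
  (f.codRestrict (LinearMap.range e) (fun x => ⟨f x, h3 x⟩)).comp (LinearMap.range e).subtype

omit [IsDomain R] [Module.IsTorsionFree R M] in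
lemma fres_coe (e f : Module.End R M) (h3 : ∀ x, e (f x) = f x) (z : LinearMap.range e) :
    ((fres e f h3 z : LinearMap.range e) : M) = f z.1 := rfl

omit [IsDomain R] [Module.IsTorsionFree R M] in
lemma e_fix (e : Module.End R M) (h1 : ∀ x, e (e x) = e x) (z : LinearMap.range e) :
    e z.1 = z.1 := by
  obtain ⟨y, hy⟩ := z.2
  rw [← hy, h1]

theorem U (e f g : Module.End R M) (l : R) (h2 : ∀ x, f (e x) = f x)
    (h3 : ∀ x, e (f x) = f x) (h4 : ∀ x, f (g x) = l • e x) (hl : l ≠ 0) :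
    (∀ x ∈ Submodule.torsion R (M ⧸ LinearMap.range f), l • x = 0) ∧
    Nat.card (Submodule.torsion R (M ⧸ LinearMap.range f)) =
      Nat.card ((LinearMap.range e) ⧸ LinearMap.range (fres e f h3)) := by
  set π := (LinearMap.range f).mkQ with hπ
  have hT : Submodule.torsion R (M ⧸ LinearMap.range f) = (LinearMap.range e).map π := by
    ext y
    constructor
    · intro hy
      obtain ⟨x, rfl⟩ := Submodule.mkQ_surjective _ y
      rw [Submodule.mem_torsion_iff] at hy
      obtain ⟨a, ha⟩ := hy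
      have ha2 : (a : R) • π x = 0 := ha
      have ha' : (a : R) • x ∈ LinearMap.range f := by
        have : π ((a : R) • x) = 0 := by rw [map_smul]; exact ha2
        exact (Submodule.Quotient.mk_eq_zero _).1 this
      obtain ⟨y', hy'⟩ := ha'
      have hx : (a : R) • (x - e x) = 0 := by
        rw [smul_sub, ← map_smul, ← hy', h3, sub_self]
      have hx' : x - e x = 0 := by
        rcases smul_eq_zero.1 hx with h | h
        · exact absurd h (nonZeroDivisors.coe_ne_zero a)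
        · exact h
      refine ⟨e x, ⟨x, rfl⟩, ?_⟩
      rw [← sub_eq_zero.1 hx']
    · rintro ⟨x, ⟨y', rfl⟩, rfl⟩
      rw [Submodule.mem_torsion_iff]
      refine ⟨⟨l, mem_nonZeroDivisors_of_ne_zero hl⟩, ?_⟩
      show l • π (e y') = 0
      rw [← map_smul, ← h4]
      exact (Submodule.Quotient.mk_eq_zero _).2 ⟨g y', rfl⟩
  refine ⟨?_, ?_⟩
  · intro x hx
    rw [hT] at hx
    obtain ⟨x', ⟨y', rfl⟩, rfl⟩ := hx
    rw [← map_smul, ← h4]
    exact (Submodule.Quotient.mk_eq_zero _).2 ⟨g y', rfl⟩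
  · let q : LinearMap.range e →ₗ[R] M ⧸ LinearMap.range f := π.comp (LinearMap.range e).subtype
    have hq : LinearMap.range q = (LinearMap.range e).map π := by
      rw [LinearMap.range_comp, Submodule.range_subtype]
    have hk : LinearMap.ker q = LinearMap.range (fres e f h3) := by
      ext z
      rw [LinearMap.mem_ker]
      constructor
      · intro hz
        have : (z : M) ∈ LinearMap.range f := (Submodule.Quotient.mk_eq_zero _).1 hz
        obtain ⟨y, hy⟩ := this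
        refine ⟨⟨e y, ⟨y, rfl⟩⟩, ?_⟩
        apply Subtype.ext
        rw [fres_coe]
        show f (e y) = z
        rw [h2, hy]
      · rintro ⟨w, rfl⟩
        exact (Submodule.Quotient.mk_eq_zero _).2 ⟨w.1, rfl⟩
    rw [hT, ← hq, ← hk]
    exact (Nat.card_congr q.quotKerEquivRange.toEquiv).symm

lemma finrank_range [Module.Finite R M] (e f : Module.End R M) (h2 : ∀ x, f (e x) = f x)
    (hk : ∀ x, f x = 0 → e x = 0) :
    finrank R (LinearMap.range e) = finrank R M - finrank R (LinearMap.ker f) := by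
  have hker : LinearMap.ker f = LinearMap.ker e := by
    ext x; simp only [LinearMap.mem_ker]
    exact ⟨hk x, fun h => by rw [← h2, h, map_zero]⟩
  have h := Submodule.finrank_quotient_add_finrank (LinearMap.ker e)
  rw [LinearEquiv.finrank_eq e.quotKerEquivRange] at h
  rw [hker]; omega

omit [IsDomain R] [Module.IsTorsionFree R M] in
lemma fres_injective (e f : Module.End R M) (h1 : ∀ x, e (e x) = e x)
    (h3 : ∀ x, e (f x) = f x) (hk : ∀ x, f x = 0 → e x = 0) :
    Function.Injective (fres e f h3) := by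
  rw [← LinearMap.ker_eq_bot, LinearMap.ker_eq_bot']
  intro z hz
  have h0 : f z.1 = 0 := congrArg Subtype.val hz
  have h5 := hk _ h0
  rw [e_fix e h1] at h5
  exact Subtype.ext h5

end U

section Count
variable (p : ℕ) [hp : Fact p.Prime] {N : Type*} [AddCommGroup N] [Module ℤ_[p] N]
  [Module.Free ℤ_[p] N] [Module.Finite ℤ_[p] N]

lemma card_quot_p (S : Submodule ℤ_[p] N) (hS : ∀ x, x ∈ S ↔ ∃ y, x = (p : ℤ_[p]) • y) :
    Nat.card (N ⧸ S) = p ^ finrank ℤ_[p] N := by
  classical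
  set n := finrank ℤ_[p] N with hn
  let b : Basis (Fin n) ℤ_[p] N := Module.finBasis ℤ_[p] N
  let φ : N →+ (Fin n → ZMod p) :=
    AddMonoidHom.mk' (fun x i => PadicInt.toZMod (b.equivFun x i)) (by
      intro x y; ext i; simp)
  have hsurj : Function.Surjective φ := by
    intro v
    choose r hr using fun i => ZMod.ringHom_surjective (PadicInt.toZMod (p := p)) (v i)
    refine ⟨b.equivFun.symm r, ?_⟩
    ext i
    show PadicInt.toZMod (b.equivFun (b.equivFun.symm r) i) = v i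
    rw [LinearEquiv.apply_symm_apply, hr]
  have hker : φ.ker = S.toAddSubgroup := by
    ext x
    rw [AddMonoidHom.mem_ker, Submodule.mem_toAddSubgroup, hS]
    constructor
    · intro hx
      have h1 : ∀ i, ∃ c, b.equivFun x i = (p : ℤ_[p]) * c := by
        intro i
        have h2 : PadicInt.toZMod (b.equivFun x i) = 0 := congrFun hx i
        have h3 : b.equivFun x i ∈ RingHom.ker (PadicInt.toZMod (p := p)) := h2
        rw [PadicInt.ker_toZMod, PadicInt.maximalIdeal_eq_span_p,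
          Ideal.mem_span_singleton'] at h3
        obtain ⟨a, ha⟩ := h3
        exact ⟨a, by rw [← ha, mul_comm]⟩
      choose c hc using h1
      refine ⟨b.equivFun.symm c, ?_⟩
      apply b.equivFun.injective
      ext i
      rw [map_smul, LinearEquiv.apply_symm_apply, Pi.smul_apply, smul_eq_mul, hc]
    · rintro ⟨y, rfl⟩
      ext i
      show PadicInt.toZMod (b.equivFun ((p : ℤ_[p]) • y) i) = 0
      rw [map_smul, Pi.smul_apply, smul_eq_mul, map_mul, map_natCast, ZMod.natCast_self,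
        zero_mul]
  have h1 : Nat.card (N ⧸ S) = S.toAddSubgroup.index := rfl
  rw [h1, ← hker, AddSubgroup.index_ker, AddMonoidHom.range_eq_top.2 hsurj,
    AddSubgroup.card_top, Nat.card_fun, Nat.card_zmod, Nat.card_fin]

end Count

lemma card_sq {R N : Type*} [Ring R] [AddCommGroup N] [Module R N] (u : N →ₗ[R] N)
    (hu : Function.Injective u) :
    Nat.card (N ⧸ LinearMap.range (u ∘ₗ u)) = Nat.card (N ⧸ LinearMap.range u) ^ 2 := by
  have h1 : ∀ S : Submodule R N, Nat.card (N ⧸ S) = S.toAddSubgroup.index := fun S => rfl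
  have h2 : (LinearMap.range (u ∘ₗ u)).toAddSubgroup =
      (LinearMap.range u).toAddSubgroup.map u.toAddMonoidHom := by
    ext x
    simp only [Submodule.mem_toAddSubgroup, LinearMap.mem_range, LinearMap.comp_apply,
      AddSubgroup.mem_map]
    constructor
    · rintro ⟨y, rfl⟩
      exact ⟨u y, ⟨y, rfl⟩, rfl⟩
    · rintro ⟨_, ⟨y, rfl⟩, rfl⟩
      exact ⟨y, rfl⟩
  have h3 : u.toAddMonoidHom.range = (LinearMap.range u).toAddSubgroup := by
    ext x
    simp [AddMonoidHom.mem_range]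
  have h4 := AddSubgroup.index_map_of_injective (LinearMap.range u).toAddSubgroup
    (f := u.toAddMonoidHom) hu
  rw [h1, h1, h2, h4, h3, pow_two]

lemma sq_eq_pow3 (x c : ℕ) (h : x ^ 2 = 3 ^ c) : ∃ r, r * 2 = c ∧ x = 3 ^ r := by
  have hd : x ∣ 3 ^ c := ⟨x, by rw [← h, pow_two]⟩
  obtain ⟨r, hr, rfl⟩ := (Nat.dvd_prime_pow Nat.prime_three).1 hd
  refine ⟨r, ?_, rfl⟩
  rw [← pow_mul] at h
  exact Nat.pow_right_injective (by norm_num : 2 ≤ 3) h

section Case2
variable [Fact (Nat.Prime 2)] {M : Type*} [AddCommGroup M] [Module ℤ_[2] M]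
  [Module.Free ℤ_[2] M] [Module.Finite ℤ_[2] M]

theorem case2 (A f B : Module.End ℤ_[2] M) (hA : ∀ x, A (A x) = x) (hf : ∀ x, f x = A x - x)
    (hB : ∀ x, f x = (2 : ℤ_[2]) • B x) :
    (∀ x ∈ Submodule.torsion ℤ_[2] (M ⧸ LinearMap.range f), (2 : ℤ_[2]) • x = 0) ∧
    Nat.card (Submodule.torsion ℤ_[2] (M ⧸ LinearMap.range f)) =
      2 ^ (finrank ℤ_[2] M - finrank ℤ_[2] (LinearMap.ker f)) := by
  have h2ne : (2 : ℤ_[2]) ≠ 0 := two_ne_zero
  have h4ne : (4 : ℤ_[2]) ≠ 0 := by norm_num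
  have hff : ∀ x, f (f x) = -((2 : ℤ_[2]) • f x) := by
    intro x
    have h1 := hf (f x)
    have h2 : A (f x) = x - A x := by rw [hf x, map_sub, hA]
    rw [h1, h2, hf x]; module
  have hBB : ∀ x, B (B x) = - B x := by
    intro x
    have h1 := hff x
    have e1 : f (f x) = (4 : ℤ_[2]) • B (B x) := by
      rw [hB (f x), hB x, map_smul, smul_smul]; norm_num
    have e2 : (2 : ℤ_[2]) • f x = (4 : ℤ_[2]) • B x := by rw [hB x, smul_smul]; norm_num
    rw [e1, e2] at h1
    have h2 : (4 : ℤ_[2]) • (B (B x) + B x) = 0 := by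
      rw [smul_add, h1]; simp
    have h3 := (smul_eq_zero.1 h2).resolve_left h4ne
    exact eq_neg_of_add_eq_zero_left h3
  set e : Module.End ℤ_[2] M := -B with hedef
  set g : Module.End ℤ_[2] M := -1 with hgdef
  have he : ∀ x, e x = - B x := fun x => by simp [hedef]
  have hg : ∀ x, g x = - x := fun x => by simp [hgdef]
  have h1 : ∀ x, e (e x) = e x := by
    intro x; rw [he (e x), he x, map_neg, hBB, neg_neg]
  have h2 : ∀ x, f (e x) = f x := by
    intro x; rw [he x, map_neg, hB (B x), hBB, hB x, smul_neg, neg_neg]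
  have h3 : ∀ x, e (f x) = f x := by
    intro x; rw [he, hB x, map_smul, hBB, smul_neg, neg_neg]
  have h4 : ∀ x, f (g x) = (2 : ℤ_[2]) • e x := by
    intro x; rw [hg, map_neg, hB x, he, smul_neg]
  have hk : ∀ x, f x = 0 → e x = 0 := by
    intro x hx
    rw [hB x] at hx
    rw [he, (smul_eq_zero.1 hx).resolve_left h2ne, neg_zero]
  obtain ⟨k1, k2⟩ := U e f g (2 : ℤ_[2]) h2 h3 h4 h2ne
  refine ⟨k1, ?_⟩
  rw [k2, ← finrank_range e f h2 hk]
  apply card_quot_p 2
  intro z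
  have hBz : ∀ w : LinearMap.range e, B w.1 = - w.1 := by
    intro w
    have := e_fix e h1 w
    rw [he] at this
    calc B w.1 = -(-B w.1) := (neg_neg _).symm
      _ = - w.1 := by rw [this]
  have h22 : ((2 : ℕ) : ℤ_[2]) = 2 := by norm_num
  rw [h22]
  constructor
  · rintro ⟨w, rfl⟩
    refine ⟨-w, Subtype.ext ?_⟩
    rw [fres_coe, hB, hBz]
    simp
  · rintro ⟨y, rfl⟩
    refine ⟨-y, Subtype.ext ?_⟩
    rw [fres_coe]
    show f (-(y : M)) = (2 : ℤ_[2]) • (y : M)
    rw [map_neg, hB, hBz, smul_neg, neg_neg]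

theorem case2b (A f B : Module.End ℤ_[2] M) (hA : ∀ x, A (A x) = x) (hf : ∀ x, f x = A x - x)
    (hB : ∀ x, f (f x) = (4 : ℤ_[2]) • B x) :
    (∀ x ∈ Submodule.torsion ℤ_[2] (M ⧸ LinearMap.range f), (2 : ℤ_[2]) • x = 0) ∧
    Nat.card (Submodule.torsion ℤ_[2] (M ⧸ LinearMap.range f)) =
      2 ^ (finrank ℤ_[2] M - finrank ℤ_[2] (LinearMap.ker f)) := by
  have h2ne : (2 : ℤ_[2]) ≠ 0 := two_ne_zero
  have hff : ∀ x, f (f x) = -((2 : ℤ_[2]) • f x) := by
    intro x
    have h1 := hf (f x)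
    have h2 : A (f x) = x - A x := by rw [hf x, map_sub, hA]
    rw [h1, h2, hf x]; module
  refine case2 A f (-B) hA hf ?_
  intro x
  have h1 : (2 : ℤ_[2]) • (f x + (2 : ℤ_[2]) • B x) = 0 := by
    have h := hff x
    rw [hB x] at h
    rw [smul_add, smul_smul]
    have h44 : (2 : ℤ_[2]) * 2 = 4 := by norm_num
    rw [h44, h]; simp
  have h3 := (smul_eq_zero.1 h1).resolve_left h2ne
  rw [LinearMap.neg_apply, smul_neg]
  exact eq_neg_of_add_eq_zero_left h3

end Case2

section Case3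
variable [Fact (Nat.Prime 3)] {M : Type*} [AddCommGroup M] [Module ℤ_[3] M]
  [Module.Free ℤ_[3] M] [Module.Finite ℤ_[3] M]

theorem case3 (A f B : Module.End ℤ_[3] M) (hA : ∀ x, A (A (A x)) = x)
    (hf : ∀ x, f x = A x - x) (hB : ∀ x, f (f x) = (3 : ℤ_[3]) • B x) :
    (∀ x ∈ Submodule.torsion ℤ_[3] (M ⧸ LinearMap.range f), (3 : ℤ_[3]) • x = 0) ∧
    ∃ r : ℕ, r * 2 = finrank ℤ_[3] M - finrank ℤ_[3] (LinearMap.ker f) ∧
      Nat.card (Submodule.torsion ℤ_[3] (M ⧸ LinearMap.range f)) = 3 ^ r := by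
  have h3ne : (3 : ℤ_[3]) ≠ 0 := by norm_num
  have hAx : ∀ x, A x = x + f x := by intro x; rw [hf]; abel
  have c1 : ∀ x, f (f (f x)) + (3 : ℤ_[3]) • f (f x) + (3 : ℤ_[3]) • f x = 0 := by
    intro x
    have h := hA x
    simp only [hAx, map_add] at h
    linear_combination (norm := module) h
  have cB0 : ∀ x, f x = 0 → B x = 0 := by
    intro x hx
    have := hB x
    rw [hx, map_zero] at this
    exact (smul_eq_zero.1 this.symm).resolve_left h3ne
  have c2 : ∀ x, f (x + f x + B x) = 0 := by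
    intro x
    have h : (3 : ℤ_[3]) • f (x + f x + B x) = 0 := by
      have : (3 : ℤ_[3]) • (x + f x + B x) =
          (3 : ℤ_[3]) • x + (3 : ℤ_[3]) • f x + f (f x) := by
        rw [hB x, smul_add, smul_add]
      rw [← map_smul, this, map_add, map_add, map_smul, map_smul]
      linear_combination (norm := module) c1 x
    exact (smul_eq_zero.1 h).resolve_left h3ne
  have c3 : ∀ x, f x + f (f x) + B (f x) = 0 := by
    intro x
    have h : (3 : ℤ_[3]) • (f x + f (f x) + B (f x)) = 0 := by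
      rw [smul_add, smul_add, ← hB (f x)]
      linear_combination (norm := module) c1 x
    exact (smul_eq_zero.1 h).resolve_left h3ne
  set e : Module.End ℤ_[3] M := -f - B with hedef
  set g : Module.End ℤ_[3] M := -((3 : ℤ_[3]) • LinearMap.id) - f with hgdef
  have he : ∀ x, e x = - f x - B x := fun x => by simp [hedef]
  have hg : ∀ x, g x = - ((3 : ℤ_[3]) • x) - f x := fun x => by simp [hgdef]
  have hex : ∀ x, e x = x - (x + f x + B x) := by intro x; rw [he]; abel
  have h2 : ∀ x, f (e x) = f x := by intro x; rw [hex, map_sub, c2, sub_zero]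
  have hBe : ∀ x, B (e x) = B x := by intro x; rw [hex, map_sub, cB0 _ (c2 x), sub_zero]
  have h1 : ∀ x, e (e x) = e x := by intro x; rw [he (e x), h2, hBe, he x]
  have h3 : ∀ x, e (f x) = f x := by
    intro x
    calc e (f x) = -f (f x) - B (f x) := he _
      _ = f x - (f x + f (f x) + B (f x)) := by abel
      _ = f x := by rw [c3, sub_zero]
  have h4 : ∀ x, f (g x) = (3 : ℤ_[3]) • e x := by
    intro x
    rw [hg, map_sub, map_neg, map_smul, hB, he]; module
  have hk : ∀ x, f x = 0 → e x = 0 := by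
    intro x hx
    rw [he, hx, cB0 x hx]; simp
  obtain ⟨k1, k2⟩ := U e f g (3 : ℤ_[3]) h2 h3 h4 h3ne
  refine ⟨k1, ?_⟩
  set v := fres e f h3 with hv
  have hvinj : Function.Injective v := fres_injective e f h1 h3 hk
  have hBz : ∀ w : LinearMap.range e, B w.1 = - w.1 - f w.1 := by
    intro w
    have := e_fix e h1 w
    rw [he] at this
    calc B w.1 = -f w.1 - (-f w.1 - B w.1) := by abel
      _ = - w.1 - f w.1 := by rw [this]; abel
  have hvv : ∀ z : LinearMap.range e, ((v (v z) : LinearMap.range e) : M) =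
      -((3 : ℤ_[3]) • A z.1) := by
    intro z
    rw [hv, fres_coe, fres_coe, hB, hBz, hAx]; module
  have h33 : ((3 : ℕ) : ℤ_[3]) = 3 := by norm_num
  have hS : ∀ z, z ∈ LinearMap.range (v ∘ₗ v) ↔ ∃ y, z = ((3 : ℕ) : ℤ_[3]) • y := by
    intro z
    rw [h33]
    constructor
    · rintro ⟨w, rfl⟩
      refine ⟨-(w + v w), Subtype.ext ?_⟩
      rw [LinearMap.comp_apply, hvv, hAx]
      show _ = (3 : ℤ_[3]) • (-((w : M) + ((v w : LinearMap.range e) : M)))
      rw [hv, fres_coe]; module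
    · rintro ⟨y, rfl⟩
      have hAp : ∀ z : LinearMap.range e, ((z + v z : LinearMap.range e) : M) = A z.1 := by
        intro z; rw [hAx]; rfl
      refine ⟨-((y + v y) + v (y + v y)), Subtype.ext ?_⟩
      rw [LinearMap.comp_apply, hvv]
      show -((3 : ℤ_[3]) • A (-(((y + v y) + v (y + v y) : LinearMap.range e) : M))) =
        (3 : ℤ_[3]) • (y : M)
      rw [hAp, hAp, map_neg, hA]; module
  have hc1 := card_quot_p 3 (LinearMap.range (v ∘ₗ v)) hS
  rw [card_sq v hvinj, finrank_range e f h2 hk] at hc1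
  obtain ⟨r, hr1, hr2⟩ := sq_eq_pow3 _ _ hc1
  exact ⟨r, hr1, by rw [k2, hr2]⟩

end Case3

theorem main (ℓ : ℕ) [Fact ℓ.Prime]
    (M : Type*) [AddCommGroup M] [Module ℤ_[ℓ] M] [Module.Free ℤ_[ℓ] M] [Module.Finite ℤ_[ℓ] M]
    (A : M ≃ₗ[ℤ_[ℓ]] M) (hA : A ^ ℓ = 1) (f : Module.End ℤ_[ℓ] M)
    (hf : f = (A : M →ₗ[ℤ_[ℓ]] M) - 1)
    (hcase : (ℓ = 2 ∧ ∃ B : Module.End ℤ_[ℓ] M, f = (2 : ℤ_[ℓ]) • B) ∨
      (ℓ = 2 ∧ ∃ B : Module.End ℤ_[ℓ] M, f ^ 2 = (4 : ℤ_[ℓ]) • B) ∨
      (ℓ = 3 ∧ ∃ B : Module.End ℤ_[ℓ] M, f ^ 2 = (3 : ℤ_[ℓ]) • B))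
    (c : ℕ) (hc : c = Module.finrank ℤ_[ℓ] M - Module.finrank ℤ_[ℓ] (LinearMap.ker f)) :
    (∀ x ∈ Submodule.torsion ℤ_[ℓ] (M ⧸ LinearMap.range f), (ℓ : ℤ_[ℓ]) • x = 0) ∧
      ∃ r : ℕ, r * (ℓ - 1) = c ∧
        Nat.card (Submodule.torsion ℤ_[ℓ] (M ⧸ LinearMap.range f)) = ℓ ^ r := by
  have hfx : ∀ x, f x = (A : M →ₗ[ℤ_[ℓ]] M) x - x := by intro x; rw [hf]; rfl
  rcases hcase with ⟨h2, B, hB⟩ | ⟨h2, B, hB⟩ | ⟨h3, B, hB⟩
  · subst h2
    have hA2 : ∀ x, (A : M →ₗ[ℤ_[2]] M) ((A : M →ₗ[ℤ_[2]] M) x) = x := by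
      intro x
      have : (A ^ 2) x = (1 : M ≃ₗ[ℤ_[2]] M) x := by rw [hA]
      simpa [pow_two, LinearEquiv.mul_apply] using this
    obtain ⟨k1, k2⟩ := case2 (A : M →ₗ[ℤ_[2]] M) f B hA2 hfx (fun x => by rw [hB]; rfl)
    have h22 : ((2 : ℕ) : ℤ_[2]) = 2 := by norm_num
    refine ⟨fun x hx => by rw [h22]; exact k1 x hx, c, by simp, ?_⟩
    rw [k2, hc]
  · subst h2
    have hA2 : ∀ x, (A : M →ₗ[ℤ_[2]] M) ((A : M →ₗ[ℤ_[2]] M) x) = x := by
      intro x
      have : (A ^ 2) x = (1 : M ≃ₗ[ℤ_[2]] M) x := by rw [hA]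
      simpa [pow_two, LinearEquiv.mul_apply] using this
    obtain ⟨k1, k2⟩ := case2b (A : M →ₗ[ℤ_[2]] M) f B hA2 hfx (fun x => by
      have := LinearMap.congr_fun hB x
      simpa [pow_two] using this)
    have h22 : ((2 : ℕ) : ℤ_[2]) = 2 := by norm_num
    refine ⟨fun x hx => by rw [h22]; exact k1 x hx, c, by simp, ?_⟩
    rw [k2, hc]
  · subst h3
    have hA3 : ∀ x, (A : M →ₗ[ℤ_[3]] M) ((A : M →ₗ[ℤ_[3]] M) ((A : M →ₗ[ℤ_[3]] M) x)) = x := by
      intro x
      have : (A ^ 3) x = (1 : M ≃ₗ[ℤ_[3]] M) x := by rw [hA]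
      simpa [pow_succ, LinearEquiv.mul_apply] using this
    obtain ⟨k1, r, hr1, hr2⟩ := case3 (A : M →ₗ[ℤ_[3]] M) f B hA3 hfx (fun x => by
      have := LinearMap.congr_fun hB x
      simpa [pow_two] using this)
    have h33 : ((3 : ℕ) : ℤ_[3]) = 3 := by norm_num
    refine ⟨fun x hx => by rw [h33]; exact k1 x hx, r, ?_, hr2⟩
    rw [hc]; exact hr1

end Groth.Agent.H4.PadicLatTors
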