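import Mathlib
import Groth.Prelude.Def_Flat
import Groth.Prelude.Def_HTop2
import Groth.Prelude.Def_Frob
import Groth.Agent.H4.AWNSch2
import Groth.Agent.H4.Seminormal

set_option autoImplicit false
universe u
open CategoryTheory CategoryTheory.Limits AlgebraicGeometry TensorProduct

namespace Groth.Agent.H4.PerfAWN

open Groth.Agent.H4.AWNSch Groth.Agent.H4.AWNSch2 Groth.Agent.H4.Seminormal

section Ring
variable {R : Type u} [CommRing R]

lemma exists_two_three (p : ℕ) (hp : p.Prime) : ∃ i j : ℕ, 2 * i + 3 * j = p := by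
  rcases Nat.even_or_odd p with he | ho
  · have : p = 2 := (Nat.Prime.even_iff hp).mp he
    exact ⟨1, 0, by omega⟩
  · obtain ⟨k, hk⟩ := ho
    have h3 : 3 ≤ p := by
      have := hp.two_le
      omega
    exact ⟨k - 1, 1, by omega⟩

lemma isReduced_of_frob_injective (p : ℕ) (hp : p.Prime)
    (hinj : Function.Injective fun s : R => s ^ p) : IsReduced R := by
  refine ⟨fun a ha => ?_⟩
  obtain ⟨n, hn⟩ := ha
  have key : ∀ n : ℕ, ∀ a : R, a ^ (p ^ n) = 0 → a = 0 := by
    intro n
    induction n with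
    | zero => intro a h; simpa using h
    | succ n ih =>
      intro a h
      apply ih
      apply hinj
      show (a ^ p ^ n) ^ p = 0 ^ p
      rw [← pow_mul, ← pow_succ, h, zero_pow hp.ne_zero]
  apply key n
  have hle : n ≤ p ^ n := (Nat.lt_pow_self hp.one_lt).le
  rw [← Nat.sub_add_cancel hle, pow_add, hn, mul_zero]

/-- a perfect ring of characteristic `p` is absolutely weakly normal -/
lemma isAWNRing_of_perfect (p : ℕ) (hp : p.Prime) (h0 : (p : R) = 0)
    (hbij : Function.Bijective fun s : R => s ^ p) : HTop.IsAWNRing R := by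
  haveI hred : IsReduced R := isReduced_of_frob_injective p hp hbij.1
  constructor
  · rw [isSeminormalRing_iff]
    refine ⟨hred, fun x y hxy => ?_⟩
    obtain ⟨i, j, hij⟩ := exists_two_three p hp
    obtain ⟨a, ha⟩ := hbij.2 (x ^ i * y ^ j)
    have ha : a ^ p = x ^ i * y ^ j := ha
    refine ⟨a, ?_, ?_⟩
    · apply hbij.1
      show x ^ p = (a ^ 2) ^ p
      rw [← pow_mul, mul_comm, pow_mul, ha, mul_pow, ← pow_mul, ← pow_mul, mul_comm j 2, pow_mul y,
        ← hxy, ← pow_mul, ← pow_add, ← hij]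
      congr 1
      ring
    · apply hbij.1
      show y ^ p = (a ^ 3) ^ p
      rw [← pow_mul, mul_comm, pow_mul, ha, mul_pow, ← pow_mul, ← pow_mul, mul_comm i 3, pow_mul x,
        hxy, ← pow_mul, ← pow_add, ← hij]
      congr 1
      ring
  · intro l hl x y hxy
    by_cases hlp : l = p
    · subst hlp
      rw [h0, zero_pow hl.ne_zero, zero_mul] at hxy
      have hy : y = 0 := by
        apply hbij.1
        show y ^ l = 0 ^ l
        rw [← hxy, zero_pow hl.ne_zero]
      obtain ⟨a, ha⟩ := hbij.2 x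
      have ha : a ^ l = x := ha
      refine ⟨a, ⟨ha.symm, by rw [hy, h0, zero_mul]⟩, ?_⟩
      rintro b ⟨hb, -⟩
      apply hbij.1
      show b ^ l = a ^ l
      rw [ha, ← hb]
    · have hcop : Nat.Coprime l p := (Nat.coprime_primes hl hp).mpr hlp
      have hu : IsUnit (l : R) := by
        have := Nat.Coprime.cast (R := R) hcop
        rw [h0] at this
        exact isCoprime_zero_right.mp this
      obtain ⟨u, hu⟩ := hu
      refine ⟨↑u⁻¹ * y, ⟨?_, ?_⟩, ?_⟩
      · rw [mul_pow, ← hxy, ← hu, ← mul_assoc, ← mul_pow, Units.inv_mul, one_pow, one_mul]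
      · rw [← hu, ← mul_assoc, Units.mul_inv, one_mul]
      · rintro b ⟨-, hb⟩
        rw [hb, ← hu, ← mul_assoc, Units.inv_mul, one_mul]

/-- an absolutely weakly normal ring of characteristic `p` is perfect -/
lemma perfect_of_isAWNRing (p : ℕ) (hp : p.Prime) (h0 : (p : R) = 0) (h : HTop.IsAWNRing R) :
    Function.Bijective fun s : R => s ^ p := by
  have key : ∀ x : R, ∃! a : R, x = a ^ p ∧ (0 : R) = (p : R) * a := fun x =>
    h.2 p hp x 0 (by rw [h0, zero_pow hp.ne_zero, zero_mul])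
  constructor
  · intro a b hab
    have hab : a ^ p = b ^ p := hab
    obtain ⟨c, -, hc⟩ := key (a ^ p)
    rw [hc a ⟨rfl, by rw [h0, zero_mul]⟩, hc b ⟨hab, by rw [h0, zero_mul]⟩]
  · intro x
    obtain ⟨a, ⟨ha, -⟩, -⟩ := key x
    exact ⟨a, ha.symm⟩

end Ring

section Sch

variable (p : ℕ) [Fact p.Prime]

/-- perfect schemes are absolutely weakly normal -/
lemma isAWN_of_isPerfect {Y : Scheme.{u}} [FrobSch.IsCharP Y p] (h : FrobSch.IsPerfect Y p) :
    HTop.IsAWN Y := by
  rw [(Groth.Agent.S7420.result Y).2]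
  intro U
  haveI : IsIso (FrobSch.frob Y p) := h
  have h1 : IsIso ((FrobSch.frob Y p).app U.1) := inferInstance
  have h2 := (ConcreteCategory.isIso_iff_bijective _).mp h1
  exact isAWNRing_of_perfect p Fact.out (FrobSch.natCast_eq_zero_app Y p U.1) h2

/-- absolutely weakly normal schemes of characteristic `p` are perfect -/
lemma isPerfect_of_isAWN {Y : Scheme.{u}} [FrobSch.IsCharP Y p] (h : HTop.IsAWN Y) :
    FrobSch.IsPerfect Y p := by
  have hall := (Groth.Agent.S7420.result Y).2.mp h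
  show MorphismProperty.isomorphisms Scheme (FrobSch.frob Y p)
  refine HasAffineProperty.of_iSup_eq_top (P := MorphismProperty.isomorphisms Scheme)
    (fun U : Y.affineOpens => U) (iSup_affineOpens_eq_top Y) fun U => ?_
  have hU : IsAffine ((FrobSch.frob Y p ⁻¹ᵁ U.1 : Y.Opens) : Scheme.{u}) := U.2
  refine ⟨hU, ?_⟩
  rw [morphismRestrict_appTop]
  have hV : IsAffineOpen (U.1.ι ''ᵁ ⊤) := by
    rw [Scheme.Opens.ι_image_top]; exact U.2
  have hb := perfect_of_isAWNRing p Fact.out (FrobSch.natCast_eq_zero_app Y p (U.1.ι ''ᵁ ⊤))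
    (hall ⟨_, hV⟩)
  have h5 : IsIso ((FrobSch.frob Y p).app (U.1.ι ''ᵁ ⊤)) :=
    (ConcreteCategory.isIso_iff_bijective _).mpr hb
  refine @IsIso.comp_isIso _ _ _ _ _ _ _ h5 ?_
  exact Functor.map_isIso _ _

end Sch

section Perfection

variable (p : ℕ) [Fact p.Prime]

/-- a universal homeomorphism from a perfect scheme is a perfection -/
lemma isPerfection_of_uh {XP X : Scheme.{u}} [FrobSch.IsCharP XP p] (π : XP ⟶ X)
    (hπ : FlatMor.IsUnivHomeo π) (hXP : FrobSch.IsPerfect XP p) : FrobSch.IsPerfection π p := by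
  refine ⟨hXP, fun Y _ hY => ⟨fun g₁ g₂ h => ?_, fun j => ?_⟩⟩
  · exact lift_unique (isAWN_of_isPerfect p hY) π hπ g₁ g₂ h
  · obtain ⟨t, ht, -⟩ := existsUnique_lift (isAWN_of_isPerfect p hY) π hπ j
    exact ⟨t, ht⟩

/-- the absolute weak normalization of a scheme of characteristic `p` is its perfection -/
lemma isPerfection_awnToBase (X : Scheme.{u}) [FrobSch.IsCharP X p]
    [FrobSch.IsCharP (awnSch X) p] : FrobSch.IsPerfection (awnToBase X) p :=
  isPerfection_of_uh p _ (uh_awnToBase X) (isPerfect_of_isAWN p (isAWN_awnSch X))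

/-- a perfection is a universal homeomorphism from an absolutely weakly normal scheme -/
theorem uh_of_isPerfection {XP X : Scheme.{u}} [FrobSch.IsCharP X p] [FrobSch.IsCharP XP p]
    (π : XP ⟶ X) (hπ : FrobSch.IsPerfection π p) :
    FlatMor.IsUnivHomeo π ∧ HTop.IsAWN XP := by
  haveI : FrobSch.IsCharP (awnSch X) p := FrobSch.IsCharP.of_hom (awnToBase X) p
  have h0 := isPerfection_awnToBase p X
  obtain ⟨a, ha⟩ := (h0.2 XP hπ.1).2 π
  obtain ⟨b, hb⟩ := (hπ.2 (awnSch X) h0.1).2 (awnToBase X)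
  have ha : a ≫ awnToBase X = π := ha
  have hb : b ≫ π = awnToBase X := hb
  have hab : a ≫ b = 𝟙 XP := by
    apply (hπ.2 XP hπ.1).1
    show (a ≫ b) ≫ π = 𝟙 XP ≫ π
    rw [Category.assoc, hb, ha, Category.id_comp]
  have hba : b ≫ a = 𝟙 _ := by
    apply (h0.2 _ h0.1).1
    show (b ≫ a) ≫ awnToBase X = 𝟙 _ ≫ awnToBase X
    rw [Category.assoc, ha, hb, Category.id_comp]
  haveI : IsIso a := ⟨b, hab, hba⟩
  refine ⟨?_, isAWN_of_isOpenImmersion a (isAWN_awnSch X)⟩
  rw [← ha]
  exact (MorphismProperty.cancel_left_of_respectsIso (FlatMor.IsUnivHomeo.{u}) a _).mpr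
    (uh_awnToBase X)

end Perfection

end Groth.Agent.H4.PerfAWN
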