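import Mathlib
import Groth.Prelude.Def_Flat
import Groth.Agent.H4.UHTower

set_option autoImplicit false
universe u
open CategoryTheory CategoryTheory.Limits AlgebraicGeometry TensorProduct

namespace Groth.Agent.H4.UHPow

open Groth.Agent.S7405 Groth.Agent.H4.UHCrit Groth.Agent.H4.UHTower

section PowCrit
variable {R S : Type u} [CommRing R] [CommRing S] [Algebra R S]

/-- if every element has a `q`-power power in the image (with `q = 1` or `q` a prime vanishing
in `S`), then `Spec S → Spec R` is a universal homeomorphism as soon as the kernel is nil -/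
lemma uhc_of_pow_mem (q : ℕ) (hq : q = 1 ∨ (q.Prime ∧ (q : S) = 0))
    (hker : RingHom.ker (algebraMap R S) ≤ nilradical R)
    (h : ∀ b : S, ∃ (n : ℕ) (r : R), b ^ q ^ n = algebraMap R S r) : UHC R S := by
  have hq0 : ∀ n, q ^ n ≠ 0 := by
    intro n
    rcases hq with rfl | ⟨hq, -⟩
    · simp
    · exact pow_ne_zero _ hq.ne_zero
  have hint : (algebraMap R S).IsIntegral := by
    intro b
    obtain ⟨n, r, hr⟩ := h b
    exact IsIntegral.of_pow (Nat.pos_of_ne_zero (hq0 n)) (hr ▸ isIntegral_algebraMap)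
  refine ⟨hint, ⟨?_, surj_of_integral_of_ker hint hker⟩, ?_⟩
  · have half : ∀ (Q₁ Q₂ : PrimeSpectrum S),
        PrimeSpectrum.comap (algebraMap R S) Q₁ = PrimeSpectrum.comap (algebraMap R S) Q₂ →
        Q₁.asIdeal ≤ Q₂.asIdeal := by
      intro Q₁ Q₂ h12 x hx
      obtain ⟨n, r, hr⟩ := h x
      have h1 : r ∈ (PrimeSpectrum.comap (algebraMap R S) Q₁).asIdeal := by
        show algebraMap R S r ∈ Q₁.asIdeal
        rw [← hr]
        exact Q₁.asIdeal.pow_mem_of_mem hx _ (Nat.pos_of_ne_zero (hq0 n))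
      rw [h12] at h1
      have h2 : x ^ q ^ n ∈ Q₂.asIdeal := by rw [hr]; exact h1
      exact Q₂.isPrime.mem_of_pow_mem _ h2
    intro Q₁ Q₂ h12
    exact PrimeSpectrum.ext (le_antisymm (half _ _ h12) (half _ _ h12.symm))
  · intro Q _ b
    obtain ⟨n, r, hr⟩ := h b
    refine ⟨q, n, ?_, r, 1, ?_, ?_⟩
    · rcases hq with h1 | ⟨h1, h2⟩
      · exact Or.inl h1
      · exact Or.inr ⟨h1, by rw [h2]; exact Q.zero_mem⟩
    · rw [map_one]
      exact fun h => ‹Q.IsPrime›.ne_top (Q.eq_top_of_isUnit_mem h isUnit_one)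
    · rw [map_one, one_mul, hr, sub_self]
      exact Q.zero_mem

end PowCrit


end Groth.Agent.H4.UHPow
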