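import Mathlib
import Groth.Prelude.Def_Flat
import Groth.Agent.H4.UHTower
import Groth.Agent.H4.UHPow

set_option autoImplicit false
universe u
open CategoryTheory CategoryTheory.Limits AlgebraicGeometry TensorProduct

namespace Groth.Agent.H4.UHPow2

open Groth.Agent.S7405 Groth.Agent.H4.UHCrit Groth.Agent.H4.UHTower Groth.Agent.H4.UHPow

section AddPow
variable {B : Type u} [CommRing B]

lemma pow_mul_pow_mem (R : Subring B) (q : ℕ) (hq : 0 < q) (x : B) (h1 : (q : B) * x ∈ R)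
    (h2 : x ^ q ∈ R) (i : ℕ) : (q : B) ^ q * x ^ i ∈ R := by
  have hr : i % q < q := Nat.mod_lt _ hq
  have : (q : B) ^ q * x ^ i = (q : B) ^ (q - i % q) * (x ^ q) ^ (i / q) * ((q : B) * x) ^ (i % q) := by
    have e1 : (q : B) ^ q = (q : B) ^ (q - i % q) * (q : B) ^ (i % q) := by
      rw [← pow_add]; congr 1; omega
    have e2 : x ^ i = (x ^ q) ^ (i / q) * x ^ (i % q) := by
      rw [← pow_mul, ← pow_add, Nat.div_add_mod]
    rw [e1, e2, mul_pow]; ring
  rw [this]
  exact R.mul_mem (R.mul_mem (R.pow_mem (natCast_mem R q) _) (R.pow_mem h2 _)) (R.pow_mem h1 _)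

lemma add_pow_mem (R : Subring B) (p n : ℕ) (hp : p.Prime) (x y : B)
    (hx1 : ((p ^ n : ℕ) : B) * x ∈ R) (hx2 : x ^ (p ^ n) ∈ R)
    (hy1 : ((p ^ n : ℕ) : B) * y ∈ R) (hy2 : y ^ (p ^ n) ∈ R) :
    (x + y) ^ (p ^ (2 * n * p ^ n + n)) ∈ R := by
  set q := p ^ n with hq
  set m := 2 * n * q + n with hm
  rw [add_pow]
  apply Subring.sum_mem
  intro i hi
  have hiN : i ≤ p ^ m := by
    have := Finset.mem_range.mp hi; omega
  by_cases hqi : q ∣ i
  · have hqj : q ∣ p ^ m - i := Nat.dvd_sub (pow_dvd_pow p (by omega : n ≤ m)) hqi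
    obtain ⟨i₁, hi₁⟩ := hqi
    obtain ⟨j₁, hj₁⟩ := hqj
    rw [hj₁, hi₁, pow_mul, pow_mul]
    exact R.mul_mem (R.mul_mem (R.pow_mem hx2 _) (R.pow_mem hy2 _)) (natCast_mem R _)
  · have hi0 : i ≠ 0 := by rintro rfl; exact hqi (dvd_zero _)
    have hfac := Nat.factorization_choose_prime_pow_add_factorization hp hiN hi0
    have hlt : i.factorization p < n := by
      by_contra hge
      push Not at hge
      exact hqi ((hp.pow_dvd_iff_le_factorization hi0).mpr hge)
    have hch0 : (p ^ m).choose i ≠ 0 := (Nat.choose_pos hiN).ne'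
    have hdvd : q ^ q * q ^ q ∣ (p ^ m).choose i := by
      have : q ^ q * q ^ q = p ^ (2 * n * q) := by
        rw [hq, ← pow_mul, ← pow_add]; congr 1; ring
      rw [this, hp.pow_dvd_iff_le_factorization hch0]; omega
    obtain ⟨c, hc⟩ := hdvd
    rw [hc]
    push_cast
    have e : x ^ i * y ^ (p ^ m - i) * ((q : B) ^ q * (q : B) ^ q * (c : B)) =
        ((q : B) ^ q * x ^ i) * ((q : B) ^ q * y ^ (p ^ m - i)) * (c : B) := by ring
    have hq0 : 0 < q := pow_pos hp.pos n
    rw [e]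
    exact R.mul_mem (R.mul_mem (pow_mul_pow_mem R q hq0 x hx1 hx2 i)
      (pow_mul_pow_mem R q hq0 y hy1 hy2 _)) (natCast_mem R _)

end AddPow

section PSub
variable {A B : Type u} [CommRing A] [CommRing B] [Algebra A B] (p : ℕ)

/-- `p^n b` and `b^(p^n)` lie in the image -/
def PCond (b : B) (n : ℕ) : Prop :=
  ((p ^ n : ℕ) : B) * b ∈ (algebraMap A B).range ∧ b ^ (p ^ n) ∈ (algebraMap A B).range

variable {p}

lemma pcond_mono {b : B} {n n' : ℕ} (h : PCond (A := A) p b n) (hn : n ≤ n') :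
    PCond (A := A) p b n' := by
  obtain ⟨k, rfl⟩ := Nat.exists_eq_add_of_le hn
  constructor
  · have : ((p ^ (n + k) : ℕ) : B) * b = ((p ^ k : ℕ) : B) * (((p ^ n : ℕ) : B) * b) := by
      push_cast; ring
    rw [this]
    exact Subring.mul_mem _ (natCast_mem _ _) h.1
  · rw [pow_add, pow_mul]
    exact Subring.pow_mem _ h.2 _

variable (A p) in
/-- the subalgebra of elements with a `p`-power multiple and a `p`-power power in the image -/
def pSub (hp : p.Prime) : Subalgebra A B where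
  carrier := {b | ∃ n, PCond (A := A) p b n}
  mul_mem' := by
    rintro b b' ⟨n, hn⟩ ⟨n', hn'⟩
    have h1 := pcond_mono hn (le_max_left n n')
    have h2 := pcond_mono hn' (le_max_right n n')
    set N := max n n'
    refine ⟨N + N, ?_, ?_⟩
    · have : ((p ^ (N + N) : ℕ) : B) * (b * b') =
          (((p ^ N : ℕ) : B) * b) * (((p ^ N : ℕ) : B) * b') := by push_cast; ring
      rw [this]
      exact Subring.mul_mem _ h1.1 h2.1
    · rw [pow_add, pow_mul, mul_pow]
      exact Subring.pow_mem _ (Subring.mul_mem _ h1.2 h2.2) _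
  add_mem' := by
    rintro b b' ⟨n, hn⟩ ⟨n', hn'⟩
    have h1 := pcond_mono hn (le_max_left n n')
    have h2 := pcond_mono hn' (le_max_right n n')
    set N := max n n'
    have h3 := add_pow_mem (algebraMap A B).range p N hp b b' h1.1 h1.2 h2.1 h2.2
    refine ⟨2 * N * p ^ N + N, ?_, h3⟩
    have : ((p ^ (2 * N * p ^ N + N) : ℕ) : B) * (b + b') =
        ((p ^ (2 * N * p ^ N) : ℕ) : B) * ((((p ^ N : ℕ) : B) * b) + (((p ^ N : ℕ) : B) * b')) := by
      push_cast; ring
    rw [this]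
    exact Subring.mul_mem _ (natCast_mem _ _) (Subring.add_mem _ h1.1 h2.1)
  one_mem' := ⟨0, by simp, by simp⟩
  zero_mem' := ⟨0, by simp, by simp⟩
  algebraMap_mem' := fun r => ⟨0, by simp, by simp⟩

lemma mem_pSub (hp : p.Prime) (b : B) : b ∈ pSub A p hp ↔ ∃ n, PCond (A := A) p b n := Iff.rfl

end PSub

section Main
variable {A B : Type u} [CommRing A] [CommRing B] [Algebra A B] {p : ℕ}

lemma pow_mem_of_sq_cube (T : Subalgebra A B) (b : B) (h2 : b ^ 2 ∈ T) (h3 : b ^ 3 ∈ T) :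
    ∀ k, b ^ (k + 2) ∈ T := by
  intro k
  induction k using Nat.twoStepInduction with
  | zero => exact h2
  | one => exact h3
  | more k ih1 _ =>
    have : b ^ (k + 2 + 2) = b ^ (k + 2) * b ^ 2 := by rw [← pow_add]
    rw [this]
    exact T.mul_mem ih1 h2

/-- the forward direction: a universal homeomorphism which is an isomorphism after inverting `p` -/
lemma pSub_eq_top (hp : p.Prime) (hU : UHC A B)
    (hmul : ∀ b : B, ∃ (a : A) (m : ℕ), algebraMap A B a = (p : B) ^ m * b) :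
    (pSub A p hp : Subalgebra A B) = ⊤ := by
  by_contra hne
  set T : Subalgebra A B := pSub A p hp with hT
  have hTB : UHC T B := uhc_top hU T
  have hns : ¬ Function.Surjective (algebraMap T B) := by
    intro hs
    apply hne
    rw [eq_top_iff]
    intro b _
    obtain ⟨t, rfl⟩ := hs b
    exact t.2
  have hrange : ∀ b : B, b ∈ (algebraMap T B).range → b ∈ T := by
    rintro _ ⟨t, rfl⟩
    exact t.2
  have hmulT : ∀ b : B, ∃ m, ((p ^ m : ℕ) : B) * b ∈ (algebraMap A B).range := by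
    intro b
    obtain ⟨a, m, ha⟩ := hmul b
    exact ⟨m, a, by rw [ha]; push_cast; rfl⟩
  rcases uhc_stepEx hTB hns with ⟨b, hb, hb2, hb3⟩ | ⟨ℓ, b, hℓ, hb, hb1, hb2⟩
  · apply hb
    refine ⟨⟨b, ?_⟩, rfl⟩
    obtain ⟨m, hm⟩ := hmulT b
    have hpow := pow_mem_of_sq_cube T b (hrange _ hb2) (hrange _ hb3)
    -- `b ^ (p ^ (m + 1)) ∈ T`
    have h2 : 2 ≤ p ^ (m + 1) := by
      calc 2 ≤ p := hp.two_le
        _ = p ^ 1 := (pow_one p).symm
        _ ≤ p ^ (m + 1) := Nat.pow_le_pow_right hp.pos (by omega)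
    obtain ⟨k, hk⟩ := Nat.exists_eq_add_of_le h2
    have h3 : b ^ (p ^ (m + 1)) ∈ T := by
      rw [hk, add_comm]; exact hpow k
    obtain ⟨n, -, hn⟩ := h3
    refine ⟨m + 1 + n, ?_, ?_⟩
    · have : ((p ^ (m + 1 + n) : ℕ) : B) * b = ((p ^ (1 + n) : ℕ) : B) * (((p ^ m : ℕ) : B) * b) := by
        push_cast; ring
      rw [this]
      exact Subring.mul_mem _ (natCast_mem _ _) hm
    · rw [pow_add, pow_mul]; exact hn
  · apply hb
    refine ⟨⟨b, ?_⟩, rfl⟩
    obtain ⟨m, hm⟩ := hmulT b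
    by_cases hℓp : ℓ = p
    · subst hℓp
      obtain ⟨n, -, hn⟩ := hrange _ hb2
      refine ⟨m + (1 + n), ?_, ?_⟩
      · have : ((ℓ ^ (m + (1 + n)) : ℕ) : B) * b =
            ((ℓ ^ (1 + n) : ℕ) : B) * (((ℓ ^ m : ℕ) : B) * b) := by
          push_cast; ring
        rw [this]
        exact Subring.mul_mem _ (natCast_mem _ _) hm
      · have : b ^ ℓ ^ (m + (1 + n)) = ((b ^ ℓ) ^ ℓ ^ n) ^ ℓ ^ m := by
          rw [← pow_mul, ← pow_mul]; congr 1; ring
        rw [this]
        exact Subring.pow_mem _ hn _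
    · have hcop : Nat.Coprime ℓ (p ^ m) :=
        Nat.Coprime.pow_right _ ((Nat.coprime_primes hℓ hp).mpr hℓp)
      obtain ⟨u, v, huv⟩ := Nat.Coprime.cast (R := T) hcop
      have h1 : ((p ^ m : ℕ) : B) * b ∈ T := by
        obtain ⟨a, ha⟩ := hm
        rw [← ha]; exact T.algebraMap_mem a
      have h2 : b = (u : B) * ((ℓ : B) * b) + (v : B) * (((p ^ m : ℕ) : B) * b) := by
        have h5 := congrArg (fun t : T => (t : B) * b) huv
        simp only [Subalgebra.coe_add, Subalgebra.coe_mul, Subalgebra.coe_one, one_mul] at h5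
        have e1 : (((ℓ : ℕ) : T) : B) = (ℓ : B) := by
          rw [← map_natCast (algebraMap T B)]; rfl
        have e2 : (((p ^ m : ℕ) : T) : B) = ((p ^ m : ℕ) : B) := by
          rw [← map_natCast (algebraMap T B)]; rfl
        rw [e1, e2] at h5
        conv_lhs => rw [← h5]
        ring
      rw [h2]
      exact T.add_mem (T.mul_mem u.2 (hrange _ hb1)) (T.mul_mem v.2 h1)

end Main


end Groth.Agent.H4.UHPow2
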