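import Mathlib
import Groth.Prelude.Def_Flat
import Groth.Prelude.Def_W4c1perfhdescPerf
import Groth.Agent.S0418
import Groth.Agent.H4.AWNSch2

set_option autoImplicit false
universe u
open CategoryTheory CategoryTheory.Limits AlgebraicGeometry TensorProduct
open Groth.Agent.H4.AWNSch2

namespace Groth.Agent.H4.PerfUH

section Ring
variable {A B : Type u} [CommRing A] [CommRing B]

lemma uh_iff_of_p_eq_zero (p : ℕ) (hp : p.Prime) (φ : A →+* B) (h0 : (p : A) = 0) :
    FlatMor.IsUnivHomeo (Spec.map (CommRingCat.ofHom φ)) ↔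
      (∀ a ∈ RingHom.ker φ, IsNilpotent a) ∧ ∀ b : B, ∃ n : ℕ, b ^ (p ^ n) ∈ φ.range := by
  have hbij : Function.Bijective (Localization.awayMap φ (p : A)) := by
    have h0' : φ (p : A) = 0 := by rw [h0, map_zero]
    haveI : Subsingleton (Localization.Away (p : A)) :=
      IsLocalization.subsingleton (M := Submonoid.powers (p : A))
        ⟨1, by show (p : A) ^ 1 = 0; rw [pow_one, h0]⟩
    haveI : Subsingleton (Localization.Away (φ (p : A))) :=
      IsLocalization.subsingleton (M := Submonoid.powers (φ (p : A)))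
        ⟨1, by show φ (p : A) ^ 1 = 0; rw [pow_one, h0']⟩
    exact ⟨Function.injective_of_subsingleton _, fun y => ⟨0, Subsingleton.elim _ _⟩⟩
  rw [Groth.Agent.S0418.result φ p hp hbij]
  refine and_congr Iff.rfl (forall_congr' fun b => ?_)
  constructor
  · rintro ⟨n, -, h2⟩
    exact ⟨n, h2⟩
  · rintro ⟨n, h2⟩
    refine ⟨n + 1, ?_, ?_⟩
    · have : (p : B) = 0 := by rw [← map_natCast φ, h0, map_zero]
      rw [this, zero_pow (Nat.succ_ne_zero n), zero_mul]
      exact zero_mem _
    · rw [pow_succ, pow_mul]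
      exact pow_mem h2 p

lemma iterate_frob_injective (p : ℕ) (hA : Function.Injective fun s : A => s ^ p) (n : ℕ) :
    Function.Injective fun s : A => s ^ (p ^ n) := by
  induction n with
  | zero => intro a b h; simpa using h
  | succ n ih =>
    intro a b h
    apply ih
    apply hA
    show (a ^ p ^ n) ^ p = (b ^ p ^ n) ^ p
    rw [← pow_mul, ← pow_mul, ← pow_succ]
    exact h

lemma iterate_frob_surjective (p : ℕ) (hA : Function.Surjective fun s : A => s ^ p) (n : ℕ) :
    Function.Surjective fun s : A => s ^ (p ^ n) := by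
  induction n with
  | zero => intro a; exact ⟨a, by simp⟩
  | succ n ih =>
    intro a
    obtain ⟨b, hb⟩ := hA a
    obtain ⟨c, hc⟩ := ih b
    refine ⟨c, ?_⟩
    show c ^ p ^ (n + 1) = a
    have hc : c ^ p ^ n = b := hc
    have hb : b ^ p = a := hb
    rw [pow_succ, pow_mul, hc, hb]

/-- a universal homeomorphism between perfect rings of characteristic `p` is bijective -/
lemma bijective_of_uh_perfect (p : ℕ) (hp : p.Prime) (φ : A →+* B) (h0 : (p : A) = 0)
    (hA : Function.Bijective fun s : A => s ^ p) (hB : Function.Bijective fun s : B => s ^ p)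
    (h : FlatMor.IsUnivHomeo (Spec.map (CommRingCat.ofHom φ))) : Function.Bijective φ := by
  obtain ⟨h1, h2⟩ := (uh_iff_of_p_eq_zero p hp φ h0).mp h
  have hred : ∀ a : A, IsNilpotent a → a = 0 := by
    rintro a ⟨n, hn⟩
    have hle : n ≤ p ^ n := (Nat.lt_pow_self hp.one_lt).le
    apply iterate_frob_injective p hA.1 n
    show a ^ p ^ n = 0 ^ p ^ n
    rw [zero_pow (pow_pos hp.pos n).ne', ← Nat.sub_add_cancel hle, pow_add, hn, mul_zero]
  constructor
  · rw [injective_iff_map_eq_zero]
    intro a ha
    exact hred a (h1 a ha)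
  · intro b
    obtain ⟨n, a, ha⟩ := h2 b
    obtain ⟨a', ha'⟩ := iterate_frob_surjective p hA.2 n a
    have ha' : a' ^ p ^ n = a := ha'
    refine ⟨a', ?_⟩
    apply iterate_frob_injective p hB.1 n
    show φ a' ^ p ^ n = b ^ p ^ n
    rw [← map_pow, ha', ha]

end Ring

end Groth.Agent.H4.PerfUH
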