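import Mathlib
import Groth.Prelude.Def_Flat
import Groth.Prelude.Def_Frob
import Groth.Agent.H4.PerfAWN
import Groth.Agent.H4.PerfUH
import Groth.Agent.H4.AWNSch2
import Groth.Agent.H4.UHCrit
import Groth.Agent.Lib.Helper1.UnivHomeo
import Groth.Agent.Lib.Helper1.UnivHomeoMore

set_option autoImplicit false
universe u
open CategoryTheory CategoryTheory.Limits AlgebraicGeometry TopologicalSpace Opposite

namespace Groth.Agent.H4.PerfAff

section Ring

lemma pow3 {R : Type u} [CommRing R] (p : ℕ) (x : R) (a b c : ℕ) :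
    ((x ^ p ^ a) ^ p ^ b) ^ p ^ c = x ^ p ^ (a + b + c) := by
  rw [← pow_mul, ← pow_mul, ← pow_add, ← pow_add, Nat.add_assoc]

lemma pow_eq_of_sub_nilpotent (p : ℕ) [Fact p.Prime] {R : Type u} [CommRing R]
    (h0 : (p : R) = 0) (x y : R) (hn : IsNilpotent (x - y)) : ∃ m : ℕ, x ^ p ^ m = y ^ p ^ m := by
  rcases subsingleton_or_nontrivial R with hR | hR
  · exact ⟨0, Subsingleton.elim _ _⟩
  · haveI : CharP R p := (CharP.charP_iff_prime_eq_zero Fact.out).2 h0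
    obtain ⟨N, hN⟩ := hn
    refine ⟨N, ?_⟩
    have hle : N ≤ p ^ N := (Nat.lt_pow_self (Fact.out : p.Prime).one_lt).le
    have h1 : (x - y) ^ p ^ N = 0 := by
      rw [← Nat.sub_add_cancel hle, pow_add, hN, mul_zero]
    rw [sub_pow_char_pow] at h1
    exact sub_eq_zero.mp h1

end Ring

section Glue

lemma exists_glue₂ {X : Scheme.{u}} (A B : X.Opens) (a : Γ(X, A)) (b : Γ(X, B))
    (h : X.presheaf.map (homOfLE (inf_le_left : A ⊓ B ≤ A)).op a =
      X.presheaf.map (homOfLE (inf_le_right : A ⊓ B ≤ B)).op b) :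
    ∃ c : Γ(X, A ⊔ B), X.presheaf.map (homOfLE (le_sup_left : A ≤ A ⊔ B)).op c = a ∧
      X.presheaf.map (homOfLE (le_sup_right : B ≤ A ⊔ B)).op c = b :=
  ⟨(X.sheaf.objSupIsoProdEqLocus A B).inv ⟨(a, b), h⟩,
    X.sheaf.objSupIsoProdEqLocus_inv_fst A B ⟨(a, b), h⟩,
    X.sheaf.objSupIsoProdEqLocus_inv_snd A B ⟨(a, b), h⟩⟩

lemma res_res {X : Scheme.{u}} {A B C : X.Opens} (h1 : A ≤ B) (h2 : B ≤ C) (c : Γ(X, C)) :
    X.presheaf.map (homOfLE h1).op (X.presheaf.map (homOfLE h2).op c) =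
      X.presheaf.map (homOfLE (h1.trans h2)).op c := by
  rw [← CommRingCat.comp_apply, ← Functor.map_comp]
  rfl

end Glue

section Sch
variable {W' W : Scheme.{u}} (π : W' ⟶ W)

lemma preimage_le {A B : W.Opens} (h : A ≤ B) : π ⁻¹ᵁ A ≤ π ⁻¹ᵁ B := fun _ hx => h hx

lemma app_res {A B : W.Opens} (h : A ≤ B) (c : Γ(W, B)) :
    π.app A (W.presheaf.map (homOfLE h).op c) =
      W'.presheaf.map (homOfLE (preimage_le π h)).op (π.app B c) := by
  have := ConcreteCategory.congr_hom (π.naturality (homOfLE h).op) c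
  exact this

/-- sections killed by a surjective morphism are nilpotent (on quasi-compact opens) -/
lemma isNilpotent_of_app_eq_zero [Surjective π] (O : W.Opens) (hO : IsCompact (O : Set W))
    (a : Γ(W, O)) (ha : π.app O a = 0) : IsNilpotent a := by
  rw [Scheme.isNilpotent_iff_basicOpen_eq_bot_of_isCompact hO]
  have h1 : π ⁻¹ᵁ (W.basicOpen a) = W'.basicOpen (π.app O a) := Scheme.preimage_basicOpen π a
  rw [ha, Scheme.basicOpen_zero] at h1
  rw [eq_bot_iff]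
  intro x hx
  obtain ⟨x', rfl⟩ := π.surjective x
  have h2 : x' ∈ π ⁻¹ᵁ (W.basicOpen a) := hx
  rw [h1] at h2
  exact False.elim (by simpa using h2)

lemma uh_SpecMap_app (hπ : FlatMor.IsUnivHomeo π) (U : W.Opens) (hU : IsAffineOpen U)
    (hV : IsAffineOpen (π ⁻¹ᵁ U)) : FlatMor.IsUnivHomeo (Spec.map (π.app U)) := by
  have h1 : FlatMor.IsUnivHomeo (π ∣_ U) :=
    MorphismProperty.of_isPullback (P := FlatMor.IsUnivHomeo)
      (isPullback_morphismRestrict π U).flip hπ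
  have e1 : Spec.map (π.app U) ≫ hU.fromSpec = hV.fromSpec ≫ π := by
    rw [Scheme.Hom.app_eq_appLE]
    exact IsAffineOpen.SpecMap_appLE_fromSpec π hU hV le_rfl
  have e2 : hU.isoSpec.hom ≫ hU.fromSpec = U.ι := by
    rw [← hU.isoSpec_inv_ι, Iso.hom_inv_id_assoc]
  have e3 : hV.isoSpec.hom ≫ hV.fromSpec = (π ⁻¹ᵁ U).ι := by
    rw [← hV.isoSpec_inv_ι, Iso.hom_inv_id_assoc]
  have h2 : hV.isoSpec.hom ≫ Spec.map (π.app U) = (π ∣_ U) ≫ hU.isoSpec.hom := by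
    rw [← cancel_mono hU.fromSpec, Category.assoc, Category.assoc, e1, e2, ← Category.assoc, e3,
      morphismRestrict_ι]
  have h3 : FlatMor.IsUnivHomeo (hV.isoSpec.hom ≫ Spec.map (π.app U)) := by
    rw [h2]
    exact (MorphismProperty.cancel_right_of_respectsIso (FlatMor.IsUnivHomeo.{u}) _ _).mpr h1
  exact (MorphismProperty.cancel_left_of_respectsIso (FlatMor.IsUnivHomeo.{u}) _ _).mp h3

/-- every section upstairs has a `p`-power coming from downstairs -/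
def HasRoot (p : ℕ) (O : W.Opens) : Prop :=
  ∀ b : Γ(W', π ⁻¹ᵁ O), ∃ (n : ℕ) (c : Γ(W, O)), π.app O c = b ^ p ^ n

lemma hasRoot_bot (p : ℕ) : HasRoot π p ⊥ := by
  intro b
  haveI : Subsingleton Γ(W', π ⁻¹ᵁ ⊥) := (inferInstance : Subsingleton Γ(W', ⊥))
  exact ⟨0, 0, Subsingleton.elim _ _⟩

lemma hasRoot_affine (p : ℕ) [Fact p.Prime] [FrobSch.IsCharP W p] (hπ : FlatMor.IsUnivHomeo π)
    (U : W.Opens) (hU : IsAffineOpen U) (hV : IsAffineOpen (π ⁻¹ᵁ U)) : HasRoot π p U := by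
  intro b
  have huh := uh_SpecMap_app π hπ U hU hV
  have h0 : (p : Γ(W, U)) = 0 := FrobSch.natCast_eq_zero_app W p U
  obtain ⟨-, h2⟩ :=
    (Groth.Agent.H4.PerfUH.uh_iff_of_p_eq_zero p Fact.out (π.app U).hom h0).mp huh
  obtain ⟨n, hn⟩ := h2 b
  obtain ⟨c, hc⟩ := RingHom.mem_range.mp hn
  exact ⟨n, c, hc⟩

lemma hasRoot_sup (p : ℕ) [Fact p.Prime] [FrobSch.IsCharP W p] [Surjective π]
    [QuasiSeparatedSpace W] (S U : W.Opens)
    (hS : IsCompact (S : Set W)) (hUc : IsCompact (U : Set W)) (h1 : HasRoot π p S)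
    (h2 : HasRoot π p U) : HasRoot π p (S ⊔ U) := by
  intro b
  obtain ⟨n₁, c₁, hc₁⟩ :=
    h1 (W'.presheaf.map (homOfLE (preimage_le π (le_sup_left : S ≤ S ⊔ U))).op b)
  obtain ⟨n₂, c₂, hc₂⟩ :=
    h2 (W'.presheaf.map (homOfLE (preimage_le π (le_sup_right : U ≤ S ⊔ U))).op b)
  have hI : IsCompact ((S ⊓ U : W.Opens) : Set W) :=
    QuasiSeparatedSpace.inter_isCompact _ _ S.2 hS U.2 hUc
  have h0 : (p : Γ(W, S ⊓ U)) = 0 := FrobSch.natCast_eq_zero_app W p _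
  have e1 : π.app (S ⊓ U) (W.presheaf.map (homOfLE (inf_le_left : S ⊓ U ≤ S)).op (c₁ ^ p ^ n₂)) =
      (W'.presheaf.map (homOfLE (preimage_le π
        ((inf_le_left : S ⊓ U ≤ S).trans (le_sup_left : S ≤ S ⊔ U)))).op b) ^ p ^ (n₁ + n₂) := by
    rw [app_res π (inf_le_left : S ⊓ U ≤ S)]
    simp only [map_pow]
    rw [hc₁]
    simp only [map_pow]
    rw [res_res, ← pow_mul, ← pow_add]
  have e2 : π.app (S ⊓ U) (W.presheaf.map (homOfLE (inf_le_right : S ⊓ U ≤ U)).op (c₂ ^ p ^ n₁)) =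
      (W'.presheaf.map (homOfLE (preimage_le π
        ((inf_le_left : S ⊓ U ≤ S).trans (le_sup_left : S ≤ S ⊔ U)))).op b) ^ p ^ (n₁ + n₂) := by
    rw [app_res π (inf_le_right : S ⊓ U ≤ U)]
    simp only [map_pow]
    rw [hc₂]
    simp only [map_pow]
    rw [res_res, ← pow_mul, ← pow_add, Nat.add_comm n₂ n₁]
  have hxy : π.app (S ⊓ U) (W.presheaf.map (homOfLE (inf_le_left : S ⊓ U ≤ S)).op (c₁ ^ p ^ n₂) -
      W.presheaf.map (homOfLE (inf_le_right : S ⊓ U ≤ U)).op (c₂ ^ p ^ n₁)) = 0 := by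
    rw [map_sub, e1, e2, sub_self]
  have hnil := isNilpotent_of_app_eq_zero π (S ⊓ U) hI _ hxy
  obtain ⟨m, hm⟩ := pow_eq_of_sub_nilpotent p h0 _ _ hnil
  obtain ⟨c, hcS, hcU⟩ := exists_glue₂ S U ((c₁ ^ p ^ n₂) ^ p ^ m) ((c₂ ^ p ^ n₁) ^ p ^ m)
    ((map_pow _ _ _).trans (hm.trans (map_pow _ _ _).symm))
  refine ⟨n₁ + n₂ + m, c, ?_⟩
  refine W'.sheaf.eq_of_locally_eq₂ (homOfLE (preimage_le π (le_sup_left : S ≤ S ⊔ U)))
    (homOfLE (preimage_le π (le_sup_right : U ≤ S ⊔ U))) (fun x hx => hx) _ _ ?_ ?_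
  · show W'.presheaf.map (homOfLE (preimage_le π (le_sup_left : S ≤ S ⊔ U))).op
        (π.app (S ⊔ U) c) =
      W'.presheaf.map (homOfLE (preimage_le π (le_sup_left : S ≤ S ⊔ U))).op
        (b ^ p ^ (n₁ + n₂ + m))
    rw [← app_res π (le_sup_left : S ≤ S ⊔ U) c, hcS]
    simp only [map_pow]
    rw [hc₁, pow3]
  · show W'.presheaf.map (homOfLE (preimage_le π (le_sup_right : U ≤ S ⊔ U))).op
        (π.app (S ⊔ U) c) =
      W'.presheaf.map (homOfLE (preimage_le π (le_sup_right : U ≤ S ⊔ U))).op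
        (b ^ p ^ (n₁ + n₂ + m))
    rw [← app_res π (le_sup_right : U ≤ S ⊔ U) c, hcU]
    simp only [map_pow]
    rw [hc₂, pow3, Nat.add_comm n₂ n₁]

/-- **Key lemma**: in characteristic `p`, the target of a universal homeomorphism with affine
source is affine. -/
theorem isAffine_of_uh (p : ℕ) [Fact p.Prime] [FrobSch.IsCharP W p]
    (hπ : FlatMor.IsUnivHomeo π) [IsAffine W'] : IsAffine W := by
  obtain ⟨hint, -, hsurj⟩ := (Groth.Agent.H1.isUnivHomeo_iff_integral π).mp hπ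
  haveI := hint
  haveI := hsurj
  have hhomeo : IsHomeomorph π := hπ _ _ _ IsPullback.of_id_snd
  haveI : CompactSpace W := (IsHomeomorph.homeomorph _ hhomeo).compactSpace
  haveI : QuasiSeparatedSpace W :=
    (quasiSeparatedSpace_congr (IsHomeomorph.homeomorph _ hhomeo)).mp inferInstance
  have hroot : HasRoot π p ⊤ := by
    refine compact_open_induction_on (P := HasRoot π p) ⊤ isCompact_univ (hasRoot_bot π p) ?_
    intro S hS U hPS
    exact hasRoot_sup π p S U hS U.2.isCompact hPS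
      (hasRoot_affine π p hπ U U.2 (U.2.preimage π))
  have h0 : (p : Γ(W, ⊤)) = 0 := FrobSch.natCast_eq_zero_app W p ⊤
  have huh : FlatMor.IsUnivHomeo (Spec.map π.appTop) := by
    refine (Groth.Agent.H4.PerfUH.uh_iff_of_p_eq_zero p Fact.out π.appTop.hom h0).mpr ⟨?_, ?_⟩
    · intro a ha
      exact isNilpotent_of_app_eq_zero π ⊤ isCompact_univ a ha
    · intro b
      obtain ⟨n, c, hc⟩ := hroot b
      exact ⟨n, c, hc⟩
  have hnat : π ≫ W.toSpecΓ = W'.toSpecΓ ≫ Spec.map π.appTop := Scheme.toSpecΓ_naturality π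
  have hk : FlatMor.IsUnivHomeo (W'.toSpecΓ ≫ Spec.map π.appTop) :=
    (MorphismProperty.cancel_left_of_respectsIso (FlatMor.IsUnivHomeo.{u}) W'.toSpecΓ _).mpr huh
  have hkh : IsHomeomorph (π ≫ W.toSpecΓ) := by
    rw [hnat]; exact hk _ _ _ IsPullback.of_id_snd
  have hcsurj : Function.Surjective W.toSpecΓ := by
    intro y
    obtain ⟨x', hx'⟩ := hkh.surjective y
    exact ⟨π x', by rw [← Scheme.Hom.comp_apply]; exact hx'⟩
  have hcinj : Function.Injective W.toSpecΓ := by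
    intro x y h
    obtain ⟨x', rfl⟩ := π.surjective x
    obtain ⟨y', rfl⟩ := π.surjective y
    have : x' = y' := hkh.injective (by
      rw [Scheme.Hom.comp_apply, Scheme.Hom.comp_apply]; exact h)
    rw [this]
  have hcopen : ∀ O : W.Opens, IsOpen (W.toSpecΓ '' (O : Set W)) := by
    intro O
    have h1 := hkh.isOpenMap _ (O.2.preimage π.continuous)
    have h2 : (π ≫ W.toSpecΓ) '' (π ⁻¹' (O : Set W)) = W.toSpecΓ '' (O : Set W) := by
      ext y
      constructor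
      · rintro ⟨x', hx', rfl⟩
        exact ⟨π x', hx', (Scheme.Hom.comp_apply _ _ _).symm⟩
      · rintro ⟨x, hx, rfl⟩
        obtain ⟨x', rfl⟩ := π.surjective x
        exact ⟨x', hx, Scheme.Hom.comp_apply _ _ _⟩
    rw [← h2]
    exact h1
  refine isAffine_of_isAffineOpen_basicOpen {a : Γ(W, ⊤) | IsAffineOpen (W.basicOpen a)} ?_
    (fun a ha => ha)
  by_contra hne
  obtain ⟨m, hm, hle⟩ := Ideal.exists_le_maximal _ hne
  obtain ⟨x, hx⟩ := hcsurj (⟨m, hm.isPrime⟩ : PrimeSpectrum Γ(W, ⊤))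
  obtain ⟨_, ⟨U, hU, rfl⟩, hxU, -⟩ :=
    W.isBasis_affineOpens.exists_subset_of_mem_open (Set.mem_univ x) isOpen_univ
  have hU : IsAffineOpen U := hU
  have hopen : IsOpen (W.toSpecΓ '' (U : Set W)) := hcopen U
  obtain ⟨_, ⟨_, ⟨a, rfl⟩, rfl⟩, hya, hsub⟩ := PrimeSpectrum.isBasis_basic_opens.exists_subset_of_mem_open
    (show W.toSpecΓ x ∈ W.toSpecΓ '' (U : Set W) from ⟨x, hxU, rfl⟩) hopen
  have hpre : W.basicOpen a = W.toSpecΓ ⁻¹ᵁ PrimeSpectrum.basicOpen a :=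
    (Scheme.toSpecΓ_preimage_basicOpen W a).symm
  have hleU : W.basicOpen a ≤ U := by
    rw [hpre]
    intro z hz
    obtain ⟨z', hz'U, hzz⟩ := hsub hz
    rw [← hcinj hzz]
    exact hz'U
  have heq : W.basicOpen (W.presheaf.map (homOfLE (le_top : U ≤ ⊤)).op a) = W.basicOpen a := by
    rw [Scheme.basicOpen_res]
    exact inf_eq_right.mpr hleU
  have haff : IsAffineOpen (W.basicOpen a) := heq ▸ hU.basicOpen _
  have ham : a ∈ m := hle (Ideal.subset_span haff)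
  rw [hx] at hya
  exact hya ham

end Sch

theorem main_S14915 (p : ℕ) [Fact p.Prime] {X Y XP YP : Scheme.{u}}
    [FrobSch.IsCharP X p] [FrobSch.IsCharP Y p] [FrobSch.IsCharP XP p] [FrobSch.IsCharP YP p]
    (πX : XP ⟶ X) (πY : YP ⟶ Y) (hX : FrobSch.IsPerfection πX p) (hY : FrobSch.IsPerfection πY p)
    (f : X ⟶ Y) (fP : XP ⟶ YP) (w : fP ≫ πY = πX ≫ f) :
    IsAffineHom f ↔ IsAffineHom fP := by
  have hπX := (Groth.Agent.H4.PerfAWN.uh_of_isPerfection p πX hX).1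
  have hπY := (Groth.Agent.H4.PerfAWN.uh_of_isPerfection p πY hY).1
  haveI : IsIntegralHom πX := ((Groth.Agent.H1.isUnivHomeo_iff_integral πX).mp hπX).1
  haveI : IsIntegralHom πY := ((Groth.Agent.H1.isUnivHomeo_iff_integral πY).mp hπY).1
  constructor
  · intro hf
    haveI := hf
    haveI : IsAffineHom (fP ≫ πY) := by rw [w]; infer_instance
    exact IsAffineHom.of_comp fP πY
  · intro hfP
    haveI := hfP
    haveI hg : IsAffineHom (πX ≫ f) := by rw [← w]; infer_instance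
    refine ⟨fun V hV => ?_⟩
    have hV' : IsAffineOpen ((πX ≫ f) ⁻¹ᵁ V) := hV.preimage (πX ≫ f)
    have hV'' : IsAffineOpen (πX ⁻¹ᵁ (f ⁻¹ᵁ V)) := hV'
    haveI : IsAffine (πX ⁻¹ᵁ (f ⁻¹ᵁ V)).toScheme := hV''
    haveI : FrobSch.IsCharP (f ⁻¹ᵁ V).toScheme p := FrobSch.IsCharP.of_hom (f ⁻¹ᵁ V).ι p
    have h1 : FlatMor.IsUnivHomeo (πX ∣_ (f ⁻¹ᵁ V)) :=
      MorphismProperty.of_isPullback (P := FlatMor.IsUnivHomeo)
        (isPullback_morphismRestrict πX (f ⁻¹ᵁ V)).flip hπX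
    exact isAffine_of_uh (πX ∣_ (f ⁻¹ᵁ V)) p h1

end Groth.Agent.H4.PerfAff
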