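import Mathlib

/-!
# Finite families of elements in a filtered colimit of commutative rings
-/

set_option autoImplicit false
universe u
open CategoryTheory Category Limits

namespace Groth.Agent.H4.PerfDesc1

variable {J : Type u} [SmallCategory J] [IsFiltered J] (F : J ⥤ CommRingCat.{u}) (c : Cocone F)
  (hc : IsColimit c)

include hc in
lemma exists_rep (x : c.pt) : ∃ (j : J) (y : F.obj j), (c.ι.app j).hom y = x := by
  have hc' := isColimitOfPreserves (forget CommRingCat.{u}) hc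
  obtain ⟨j, y, hy⟩ := Types.jointly_surjective_of_isColimit hc' x
  exact ⟨j, y, hy⟩

include hc in
lemma exists_map_eq {j : J} (y z : F.obj j) (h : (c.ι.app j).hom y = (c.ι.app j).hom z) :
    ∃ (j' : J) (f : j ⟶ j'), (F.map f).hom y = (F.map f).hom z := by
  have hc' := isColimitOfPreserves (forget CommRingCat.{u}) hc
  obtain ⟨k, f, g, e⟩ := (Types.FilteredColimit.isColimit_eq_iff _ hc' (xi := y) (xj := z)).1 h
  refine ⟨IsFiltered.coeq f g, f ≫ IsFiltered.coeqHom f g, ?_⟩
  have e' : (F.map f).hom y = (F.map g).hom z := e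
  have h1 : (F.map (f ≫ IsFiltered.coeqHom f g)).hom y =
      (F.map (IsFiltered.coeqHom f g)).hom ((F.map f).hom y) := by
    rw [Functor.map_comp]
    rfl
  have h2 : (F.map (f ≫ IsFiltered.coeqHom f g)).hom z =
      (F.map (IsFiltered.coeqHom f g)).hom ((F.map g).hom z) := by
    rw [IsFiltered.coeq_condition f g, Functor.map_comp]
    rfl
  rw [h1, h2, e']

lemma map_ι_apply {j j' : J} (f : j ⟶ j') (y : F.obj j) :
    (c.ι.app j').hom ((F.map f).hom y) = (c.ι.app j).hom y := by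
  have := c.w f
  rw [← this]
  rfl

include hc in
lemma exists_rep_fin (m : ℕ) (x : Fin m → c.pt) :
    ∃ (j : J) (y : Fin m → F.obj j), ∀ k, (c.ι.app j).hom (y k) = x k := by
  induction m with
  | zero =>
    obtain ⟨j⟩ := IsFiltered.nonempty (C := J)
    exact ⟨j, fun k => k.elim0, fun k => k.elim0⟩
  | succ m ih =>
    obtain ⟨j₁, y₁, h₁⟩ := ih (fun k => x k.castSucc)
    obtain ⟨j₂, y₂, h₂⟩ := exists_rep F c hc (x (Fin.last m))
    refine ⟨IsFiltered.max j₁ j₂, Fin.lastCases ((F.map (IsFiltered.rightToMax j₁ j₂)).hom y₂)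
      (fun k => (F.map (IsFiltered.leftToMax j₁ j₂)).hom (y₁ k)), ?_⟩
    intro k
    refine Fin.lastCases ?_ (fun k => ?_) k
    · dsimp only
      rw [Fin.lastCases_last, map_ι_apply, h₂]
    · dsimp only
      rw [Fin.lastCases_castSucc, map_ι_apply, h₁]

include hc in
lemma exists_map_eq_fin (m : ℕ) {j : J} (y z : Fin m → F.obj j)
    (h : ∀ k, (c.ι.app j).hom (y k) = (c.ι.app j).hom (z k)) :
    ∃ (j' : J) (f : j ⟶ j'), ∀ k, (F.map f).hom (y k) = (F.map f).hom (z k) := by
  induction m with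
  | zero => exact ⟨j, 𝟙 j, fun k => k.elim0⟩
  | succ m ih =>
    obtain ⟨j₁, f₁, h₁⟩ := ih (fun k => y k.castSucc) (fun k => z k.castSucc)
      (fun k => h k.castSucc)
    obtain ⟨j₂, f₂, h₂⟩ := exists_map_eq F c hc (y (Fin.last m)) (z (Fin.last m)) (h (Fin.last m))
    obtain ⟨k, g₁, g₂, hg⟩ := IsFiltered.span f₁ f₂
    refine ⟨k, f₁ ≫ g₁, fun i => ?_⟩
    refine Fin.lastCases ?_ (fun i => ?_) i
    · rw [hg, Functor.map_comp]
      simp only [CommRingCat.hom_comp, RingHom.comp_apply]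
      rw [h₂]
    · rw [Functor.map_comp]
      simp only [CommRingCat.hom_comp, RingHom.comp_apply]
      rw [h₁]

include hc in
/-- lifting a finite family. -/
lemma exists_rep_finite {ι : Type} [Finite ι] (x : ι → c.pt) :
    ∃ (j : J) (y : ι → F.obj j), ∀ k, (c.ι.app j).hom (y k) = x k := by
  obtain ⟨m, ⟨e⟩⟩ := Finite.exists_equiv_fin ι
  obtain ⟨j, y, hy⟩ := exists_rep_fin F c hc m (fun k => x (e.symm k))
  refine ⟨j, fun i => y (e i), fun i => ?_⟩
  rw [hy, Equiv.symm_apply_apply]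

include hc in
/-- equalising a finite family. -/
lemma exists_map_eq_finite {ι : Type} [Finite ι] {j : J} (y z : ι → F.obj j)
    (h : ∀ k, (c.ι.app j).hom (y k) = (c.ι.app j).hom (z k)) :
    ∃ (j' : J) (f : j ⟶ j'), ∀ k, (F.map f).hom (y k) = (F.map f).hom (z k) := by
  obtain ⟨m, ⟨e⟩⟩ := Finite.exists_equiv_fin ι
  obtain ⟨j', f, hf⟩ := exists_map_eq_fin F c hc m (fun k => y (e.symm k)) (fun k => z (e.symm k))
    (fun k => h _)
  refine ⟨j', f, fun i => ?_⟩
  have := hf (e i)
  simpa using this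

end Groth.Agent.H4.PerfDesc1
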