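import Mathlib
import Groth.Agent.H4.PerfDesc1
import Groth.Agent.H4.ExtS

/-!
# Matrix data for a complex of free modules with an idempotent endomorphism, and its descent
along a filtered colimit of rings
-/

set_option autoImplicit false
universe u
open CategoryTheory Category Limits

namespace Groth.Agent.H4.PerfDesc2

open Groth.Agent.H4.PerfDesc1

/-- matrix data for a complex of free modules of rank `N` with an idempotent endomorphism. -/
@[ext]
structure CxData (S : Type u) [CommRing S] (N : ℕ) where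
  D : ℤ → Matrix (Fin N) (Fin N) S
  e : ℤ → Matrix (Fin N) (Fin N) S
  hDD : ∀ i, D (i + 1) * D i = 0
  hee : ∀ i, e i * e i = e i
  hDe : ∀ i, D i * e i = D i
  heD : ∀ i, e (i + 1) * D i = D i

namespace CxData

variable {S : Type u} [CommRing S] {N : ℕ}

/-- base change of the data. -/
def map {S' : Type u} [CommRing S'] (φ : S →+* S') (dat : CxData S N) : CxData S' N where
  D i := φ.mapMatrix (dat.D i)
  e i := φ.mapMatrix (dat.e i)
  hDD i := by rw [← map_mul, dat.hDD, map_zero]
  hee i := by rw [← map_mul, dat.hee]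
  hDe i := by rw [← map_mul, dat.hDe]
  heD i := by rw [← map_mul, dat.heD]

/-- the data is supported in `[a, b]`. -/
def SuppIn (dat : CxData S N) (a b : ℤ) : Prop := ∀ i, i < a ∨ b < i → dat.D i = 0 ∧ dat.e i = 0

/-- the complex. -/
noncomputable def cx (dat : CxData S N) : CochainComplex (ModuleCat.{u} S) ℤ :=
  CochainComplex.of (fun _ => ModuleCat.of S (Fin N → S))
    (fun i => ModuleCat.ofHom (Matrix.toLin' (dat.D i)))
    (fun i => by
      rw [← ModuleCat.ofHom_comp, ← Matrix.toLin'_mul, dat.hDD, map_zero]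
      rfl)

lemma cx_d (dat : CxData S N) (i : ℤ) :
    dat.cx.d i (i + 1) = ModuleCat.ofHom (Matrix.toLin' (dat.D i)) := by
  exact CochainComplex.of_d (V := ModuleCat.{u} S) (fun _ => ModuleCat.of S (Fin N → S))
    (fun i => ModuleCat.ofHom (Matrix.toLin' (dat.D i))) i

/-- the idempotent endomorphism. -/
noncomputable def idem (dat : CxData S N) : dat.cx ⟶ dat.cx :=
  CochainComplex.ofHom (fun i => ModuleCat.ofHom (Matrix.toLin' (dat.e i))) (fun i => by
    rw [cx_d]
    change ModuleCat.ofHom (Matrix.toLin' (dat.e i)) ≫ ModuleCat.ofHom (Matrix.toLin' (dat.D i)) =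
      ModuleCat.ofHom (Matrix.toLin' (dat.D i)) ≫ ModuleCat.ofHom (Matrix.toLin' (dat.e (i + 1)))
    rw [← ModuleCat.ofHom_comp, ← ModuleCat.ofHom_comp, ← Matrix.toLin'_mul, ← Matrix.toLin'_mul,
      dat.hDe, dat.heD])

lemma idem_f (dat : CxData S N) (i : ℤ) :
    dat.idem.f i = ModuleCat.ofHom (Matrix.toLin' (dat.e i)) := rfl

lemma idem_idem (dat : CxData S N) : dat.idem ≫ dat.idem = dat.idem := by
  ext i : 1
  rw [HomologicalComplex.comp_f, idem_f]
  change ModuleCat.ofHom (Matrix.toLin' (dat.e i)) ≫ ModuleCat.ofHom (Matrix.toLin' (dat.e i)) = _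
  rw [← ModuleCat.ofHom_comp, ← Matrix.toLin'_mul, dat.hee]

lemma idem_f_eq_zero (dat : CxData S N) {a b : ℤ} (h : dat.SuppIn a b) (i : ℤ)
    (hi : i < a ∨ b < i) : dat.idem.f i = 0 := by
  rw [idem_f, (h i hi).2, map_zero]
  rfl

end CxData

section Descent

variable {J : Type u} [SmallCategory J] [IsFiltered J] (F : J ⥤ CommRingCat.{u}) (c : Cocone F)
  (hc : IsColimit c)

include hc in
theorem exists_descent (N : ℕ) (a b : ℤ) (dat : CxData c.pt N) (hsupp : dat.SuppIn a b) :
    ∃ (j : J) (datj : CxData (F.obj j) N), datj.SuppIn a b ∧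
      datj.map (c.ι.app j).hom = dat := by
  classical
  -- lift the entries
  obtain ⟨j₀, y, hy⟩ := exists_rep_finite F c hc
    (ι := ↥(Finset.Icc a b) × Bool × Fin N × Fin N)
    (fun t => if t.2.1 then dat.e t.1.1 t.2.2.1 t.2.2.2 else dat.D t.1.1 t.2.2.1 t.2.2.2)
  let D0 : ℤ → Matrix (Fin N) (Fin N) (F.obj j₀) := fun i =>
    if h : i ∈ Finset.Icc a b then Matrix.of (fun k l => y (⟨i, h⟩, false, k, l)) else 0
  let e0 : ℤ → Matrix (Fin N) (Fin N) (F.obj j₀) := fun i =>
    if h : i ∈ Finset.Icc a b then Matrix.of (fun k l => y (⟨i, h⟩, true, k, l)) else 0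
  have hout : ∀ i, i ∉ Finset.Icc a b → i < a ∨ b < i := by
    intro i hi
    rw [Finset.mem_Icc] at hi
    omega
  have hD0 : ∀ i k l, (c.ι.app j₀).hom (D0 i k l) = dat.D i k l := by
    intro i k l
    by_cases h : i ∈ Finset.Icc a b
    · have := hy (⟨i, h⟩, false, k, l)
      simp only [D0, dif_pos h]
      simpa using this
    · simp only [D0, dif_neg h, (hsupp i (hout i h)).1]
      simp
  have he0 : ∀ i k l, (c.ι.app j₀).hom (e0 i k l) = dat.e i k l := by
    intro i k l
    by_cases h : i ∈ Finset.Icc a b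
    · have := hy (⟨i, h⟩, true, k, l)
      simp only [e0, dif_pos h]
      simpa using this
    · simp only [e0, dif_neg h, (hsupp i (hout i h)).2]
      simp
  have hD0m : ∀ i, (c.ι.app j₀).hom.mapMatrix (D0 i) = dat.D i := by
    intro i
    ext k l
    simpa using hD0 i k l
  have he0m : ∀ i, (c.ι.app j₀).hom.mapMatrix (e0 i) = dat.e i := by
    intro i
    ext k l
    simpa using he0 i k l
  -- equalise the equations
  obtain ⟨j, f, hf⟩ := exists_map_eq_finite F c hc
    (ι := ↥(Finset.Icc a b) × Fin 4 × Fin N × Fin N) (j := j₀)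
    (fun t => ![(D0 (t.1.1 + 1) * D0 t.1.1) t.2.2.1 t.2.2.2, (e0 t.1.1 * e0 t.1.1) t.2.2.1 t.2.2.2,
      (D0 t.1.1 * e0 t.1.1) t.2.2.1 t.2.2.2, (e0 (t.1.1 + 1) * D0 t.1.1) t.2.2.1 t.2.2.2] t.2.1)
    (fun t => ![0, e0 t.1.1 t.2.2.1 t.2.2.2, D0 t.1.1 t.2.2.1 t.2.2.2, D0 t.1.1 t.2.2.1 t.2.2.2] t.2.1)
    (by
      rintro ⟨⟨i, hi⟩, q, k, l⟩
      have h0 : (c.ι.app j₀).hom ((D0 (i + 1) * D0 i) k l) = (c.ι.app j₀).hom 0 := by
        have := congrFun (congrFun (dat.hDD i) k) l
        rw [← hD0m, ← hD0m, ← map_mul] at this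
        simpa using this
      have h1 : (c.ι.app j₀).hom ((e0 i * e0 i) k l) = (c.ι.app j₀).hom (e0 i k l) := by
        have := congrFun (congrFun (dat.hee i) k) l
        rw [← he0m, ← map_mul] at this
        simpa using this
      have h2 : (c.ι.app j₀).hom ((D0 i * e0 i) k l) = (c.ι.app j₀).hom (D0 i k l) := by
        have := congrFun (congrFun (dat.hDe i) k) l
        rw [← he0m, ← hD0m, ← map_mul] at this
        simpa using this
      have h3 : (c.ι.app j₀).hom ((e0 (i + 1) * D0 i) k l) = (c.ι.app j₀).hom (D0 i k l) := by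
        have := congrFun (congrFun (dat.heD i) k) l
        rw [← he0m, ← hD0m, ← map_mul] at this
        simpa using this
      fin_cases q
      · exact h0
      · exact h1
      · exact h2
      · exact h3)
  have hD0out : ∀ i, i ∉ Finset.Icc a b → D0 i = 0 := fun i h => by simp only [D0, dif_neg h]
  have he0out : ∀ i, i ∉ Finset.Icc a b → e0 i = 0 := fun i h => by simp only [e0, dif_neg h]
  let g := (F.map f).hom
  have hg : ∀ x, (c.ι.app j).hom (g x) = (c.ι.app j₀).hom x := fun x => map_ι_apply F c f x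
  refine ⟨j, ⟨fun i => g.mapMatrix (D0 i), fun i => g.mapMatrix (e0 i), ?_, ?_, ?_, ?_⟩, ?_, ?_⟩
  · intro i
    by_cases hi : i ∈ Finset.Icc a b
    · rw [← map_mul]
      ext k l
      have := hf (⟨i, hi⟩, 0, k, l)
      simpa using this
    · rw [hD0out i hi, map_zero, mul_zero]
  · intro i
    by_cases hi : i ∈ Finset.Icc a b
    · rw [← map_mul]
      ext k l
      have := hf (⟨i, hi⟩, 1, k, l)
      simpa using this
    · rw [he0out i hi, map_zero, mul_zero]
  · intro i
    by_cases hi : i ∈ Finset.Icc a b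
    · rw [← map_mul]
      ext k l
      have := hf (⟨i, hi⟩, 2, k, l)
      simpa using this
    · rw [hD0out i hi, map_zero, zero_mul]
  · intro i
    by_cases hi : i ∈ Finset.Icc a b
    · rw [← map_mul]
      ext k l
      have := hf (⟨i, hi⟩, 3, k, l)
      simpa using this
    · rw [hD0out i hi, map_zero, mul_zero]
  · intro i hi
    have hi' : i ∉ Finset.Icc a b := by
      rw [Finset.mem_Icc]
      omega
    exact ⟨by change g.mapMatrix (D0 i) = 0; rw [hD0out i hi', map_zero],
      by change g.mapMatrix (e0 i) = 0; rw [he0out i hi', map_zero]⟩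
  · apply CxData.ext
    · funext i
      ext k l
      change (c.ι.app j).hom (g (D0 i k l)) = dat.D i k l
      rw [hg, hD0]
    · funext i
      ext k l
      change (c.ι.app j).hom (g (e0 i k l)) = dat.e i k l
      rw [hg, he0]

end Descent

end Groth.Agent.H4.PerfDesc2
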