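import Mathlib
import Groth.Prelude.Def_DRing2
import Groth.Agent.H4.PerfDesc2
import Groth.Agent.H4.ExtS

/-!
# A bounded complex of finite projective modules is the image of an idempotent on a complex of
free modules given by matrices; base change of matrix complexes
-/

set_option autoImplicit false
universe u
open CategoryTheory Category Limits

namespace Groth.Agent.H4.PerfDesc3

open Groth.Agent.H4.PerfDesc2 DRing

section Retract

variable {R : Type u} [CommRing R]

theorem exists_data (E : Cx R) (a b : ℤ) (hvan : VanishesOutside E a b)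
    (hproj : TermwiseFiniteProjective E) :
    ∃ (N : ℕ) (dat : CxData R N) (s : E ⟶ dat.cx) (π : dat.cx ⟶ E), dat.SuppIn a b ∧
      s ≫ π = 𝟙 E ∧ π ≫ s = dat.idem := by
  classical
  haveI : ∀ i, Module.Finite R (E.X i) := fun i => (hproj i).1
  haveI : ∀ i, Module.Projective R (E.X i) := fun i => (hproj i).2
  obtain ⟨N, f, hf⟩ := Module.Finite.exists_fin' R (∀ i : ↥(Finset.Icc a b), E.X i.1)
  have key : ∀ i : ℤ, ∃ (p : (Fin N → R) →ₗ[R] E.X i) (s : E.X i →ₗ[R] (Fin N → R)),
      p ∘ₗ s = LinearMap.id ∧ ((i < a ∨ b < i) → p = 0 ∧ s = 0) := by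
    intro i
    by_cases h : i ∈ Finset.Icc a b
    · let pi : (Fin N → R) →ₗ[R] E.X i :=
        (LinearMap.proj (⟨i, h⟩ : ↥(Finset.Icc a b)) : (∀ i : ↥(Finset.Icc a b), E.X i.1) →ₗ[R] _) ∘ₗ f
      have hpi : Function.Surjective pi := by
        intro x
        obtain ⟨z, hz⟩ := hf (Function.update (fun _ => 0) (⟨i, h⟩ : ↥(Finset.Icc a b)) x)
        refine ⟨z, ?_⟩
        change (f z) ⟨i, h⟩ = x
        rw [hz, Function.update_self]
      obtain ⟨si, hsi⟩ := Module.projective_lifting_property pi LinearMap.id hpi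
      refine ⟨pi, si, hsi, fun h' => ?_⟩
      rw [Finset.mem_Icc] at h
      omega
    · have h' : i < a ∨ b < i := by
        rw [Finset.mem_Icc] at h
        omega
      haveI : Subsingleton (E.X i) := ModuleCat.subsingleton_of_isZero (hvan i h')
      exact ⟨0, 0, LinearMap.ext (fun x => Subsingleton.elim _ _), fun _ => ⟨rfl, rfl⟩⟩
  choose p s hps h0 using key
  have hps' : ∀ i x, p i (s i x) = x := fun i x => LinearMap.congr_fun (hps i) x
  have hdd : ∀ i x, (E.d (i + 1) (i + 1 + 1)).hom ((E.d i (i + 1)).hom x) = 0 := by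
    intro i x
    change (E.d i (i + 1) ≫ E.d (i + 1) (i + 1 + 1)).hom x = 0
    rw [E.d_comp_d]
    rfl
  let dat : CxData R N :=
    { D := fun i => LinearMap.toMatrix' (s (i + 1) ∘ₗ (E.d i (i + 1)).hom ∘ₗ p i)
      e := fun i => LinearMap.toMatrix' (s i ∘ₗ p i)
      hDD := fun i => by
        apply Matrix.toLin'.injective
        rw [Matrix.toLin'_mul, Matrix.toLin'_toMatrix', Matrix.toLin'_toMatrix', map_zero]
        refine LinearMap.ext fun v => ?_
        simp only [LinearMap.comp_apply, hps', hdd, map_zero, LinearMap.zero_apply]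
      hee := fun i => by
        apply Matrix.toLin'.injective
        rw [Matrix.toLin'_mul, Matrix.toLin'_toMatrix']
        refine LinearMap.ext fun v => ?_
        simp only [LinearMap.comp_apply, hps']
      hDe := fun i => by
        apply Matrix.toLin'.injective
        rw [Matrix.toLin'_mul, Matrix.toLin'_toMatrix', Matrix.toLin'_toMatrix']
        refine LinearMap.ext fun v => ?_
        simp only [LinearMap.comp_apply, hps']
      heD := fun i => by
        apply Matrix.toLin'.injective
        rw [Matrix.toLin'_mul, Matrix.toLin'_toMatrix', Matrix.toLin'_toMatrix']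
        refine LinearMap.ext fun v => ?_
        simp only [LinearMap.comp_apply, hps'] }
  have hD : ∀ i, Matrix.toLin' (dat.D i) = s (i + 1) ∘ₗ (E.d i (i + 1)).hom ∘ₗ p i :=
    fun i => Matrix.toLin'_toMatrix' _
  have he : ∀ i, Matrix.toLin' (dat.e i) = s i ∘ₗ p i := fun i => Matrix.toLin'_toMatrix' _
  let sc : E ⟶ dat.cx := CochainComplex.ofHom (fun i => ModuleCat.ofHom (s i)) (fun i => by
    rw [CxData.cx_d]
    apply ModuleCat.hom_ext
    ext x : 1
    change Matrix.toLin' (dat.D i) (s i x) = s (i + 1) ((E.d i (i + 1)).hom x)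
    rw [hD]
    simp only [LinearMap.comp_apply, hps'])
  let pc : dat.cx ⟶ E := CochainComplex.ofHom (fun i => ModuleCat.ofHom (p i)) (fun i => by
    rw [CxData.cx_d]
    apply ModuleCat.hom_ext
    ext v : 1
    change (E.d i (i + 1)).hom (p i v) = p (i + 1) (Matrix.toLin' (dat.D i) v)
    rw [hD]
    simp only [LinearMap.comp_apply, hps'])
  refine ⟨N, dat, sc, pc, ?_, ?_, ?_⟩
  · intro i hi
    obtain ⟨hp0, hs0⟩ := h0 i hi
    constructor
    · change LinearMap.toMatrix' (s (i + 1) ∘ₗ (E.d i (i + 1)).hom ∘ₗ p i) = 0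
      rw [hp0, LinearMap.comp_zero, LinearMap.comp_zero, map_zero]
    · change LinearMap.toMatrix' (s i ∘ₗ p i) = 0
      rw [hp0, LinearMap.comp_zero, map_zero]
  · ext i : 1
    apply ModuleCat.hom_ext
    ext x : 1
    change p i (s i x) = x
    exact hps' i x
  · ext i : 1
    rw [CxData.idem_f]
    apply ModuleCat.hom_ext
    ext v : 1
    change s i (p i v) = Matrix.toLin' (dat.e i) v
    rw [he]
    rfl

end Retract

section BaseChange

open TensorProduct

variable {S R : Type u} [CommRing S] [CommRing R] (φ : S →+* R) (N : ℕ)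

/-- `G(S^N) ≃ R^N`. -/
noncomputable def betaEquiv :
    ((ModuleCat.extendScalars.{u, u, u} φ).obj (ModuleCat.of S (Fin N → S))) ≃ₗ[R] (Fin N → R) :=
  letI := φ.toAlgebra
  (Groth.Agent.H4.ExtS.extEquiv φ (ModuleCat.of S (Fin N → S))).trans
    (TensorProduct.piScalarRight S R R (Fin N))

lemma piScalarRight_baseChange (M : Matrix (Fin N) (Fin N) S) :
    letI := φ.toAlgebra
    ∀ w : R ⊗[S] (Fin N → S),
      TensorProduct.piScalarRight S R R (Fin N) ((Matrix.toLin' M).baseChange R w) =
        Matrix.toLin' (φ.mapMatrix M) (TensorProduct.piScalarRight S R R (Fin N) w) := by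
  letI := φ.toAlgebra
  intro w
  induction w using TensorProduct.induction_on with
  | zero => simp
  | tmul r v =>
    funext k
    simp [Matrix.toLin'_apply, Matrix.mulVec, dotProduct, Algebra.smul_def, Finset.sum_mul,
      map_sum, map_mul, mul_assoc, RingHom.algebraMap_toAlgebra]
  | add x y hx hy => rw [map_add, map_add, hx, hy, map_add, map_add]

lemma betaEquiv_map (M : Matrix (Fin N) (Fin N) S)
    (z : (ModuleCat.extendScalars.{u, u, u} φ).obj (ModuleCat.of S (Fin N → S))) :
    betaEquiv φ N ((ModuleCat.extendScalars.{u, u, u} φ).map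
      (ModuleCat.ofHom (Matrix.toLin' M)) z) =
      Matrix.toLin' (φ.mapMatrix M) (betaEquiv φ N z) := by
  letI := φ.toAlgebra
  have h1 := Groth.Agent.H8.ExtBridge.extEquiv_map (A := S) (B := R)
    (ModuleCat.ofHom (Matrix.toLin' M)) z
  change TensorProduct.piScalarRight S R R (Fin N)
    (Groth.Agent.H8.ExtBridge.extEquiv (A := S) (B := R) (ModuleCat.of S (Fin N → S))
      ((ModuleCat.extendScalars (algebraMap S R)).map (ModuleCat.ofHom (Matrix.toLin' M)) z)) = _
  rw [h1]
  exact piScalarRight_baseChange φ N M _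

/-- `R^N ≅ G(S^N)` in `ModuleCat`. -/
noncomputable def beta : ModuleCat.of R (Fin N → R) ≅
    (ModuleCat.extendScalars.{u, u, u} φ).obj (ModuleCat.of S (Fin N → S)) :=
  (betaEquiv φ N).symm.toModuleIso

lemma beta_comm (M : Matrix (Fin N) (Fin N) S) :
    (beta φ N).hom ≫ (ModuleCat.extendScalars.{u, u, u} φ).map (ModuleCat.ofHom (Matrix.toLin' M)) =
      ModuleCat.ofHom (Matrix.toLin' (φ.mapMatrix M)) ≫ (beta φ N).hom := by
  apply ModuleCat.hom_ext
  refine LinearMap.ext fun v => ?_
  apply (betaEquiv φ N).injective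
  change betaEquiv φ N ((ModuleCat.extendScalars.{u, u, u} φ).map
      (ModuleCat.ofHom (Matrix.toLin' M)) ((betaEquiv φ N).symm v)) =
    betaEquiv φ N ((betaEquiv φ N).symm (Matrix.toLin' (φ.mapMatrix M) v))
  rw [betaEquiv_map, LinearEquiv.apply_symm_apply, LinearEquiv.apply_symm_apply]

variable {N}

/-- base change of the matrix complex. -/
noncomputable def cxIso (dat : CxData S N) :
    (dat.map φ).cx ≅ ((ModuleCat.extendScalars.{u, u, u} φ).mapHomologicalComplex
      (ComplexShape.up ℤ)).obj dat.cx :=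
  HomologicalComplex.Hom.isoOfComponents (fun _ => beta φ N) (fun i j hij => by
    have hij' : i + 1 = j := hij
    subst hij'
    rw [Functor.mapHomologicalComplex_obj_d, CxData.cx_d, CxData.cx_d]
    exact beta_comm φ N (dat.D i))

lemma cxIso_idem (dat : CxData S N) :
    (dat.map φ).idem ≫ (cxIso φ dat).hom = (cxIso φ dat).hom ≫
      ((ModuleCat.extendScalars.{u, u, u} φ).mapHomologicalComplex (ComplexShape.up ℤ)).map
        dat.idem := by
  ext i : 1
  rw [HomologicalComplex.comp_f, HomologicalComplex.comp_f, Functor.mapHomologicalComplex_map_f,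
    CxData.idem_f, CxData.idem_f]
  exact (beta_comm φ N (dat.e i)).symm

end BaseChange

end Groth.Agent.H4.PerfDesc3
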