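import Mathlib
import Groth.Prelude.Def_DRing2
import Groth.Prelude.Def_DDual2
import Groth.Agent.H4.PerfDesc3
import Groth.Agent.H4.LDer2
import Groth.Agent.H4.DRing1

/-!
# Perfect complexes descend along filtered colimits of rings
-/

set_option autoImplicit false
universe u
open CategoryTheory Category Limits

namespace Groth.Agent.H4.PerfDesc4

attribute [local instance] HasDerivedCategory.standard

open Groth.Agent.H4.PerfDesc2 Groth.Agent.H4.PerfDesc3 DRing DerivedCategory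

theorem main {J : Type u} [SmallCategory J] [IsFiltered J]
    (F : J ⥤ CommRingCat.{u}) (c : Cocone F) (hc : IsColimit c)
    [∀ j : J, DRing.HasLBaseChange (c.ι.app j).hom] (K : Dual.D c.pt)
    (hK : DRing.IsPerfect c.pt K) :
    ∃ (j : J) (Kj : Dual.D (F.obj j)), DRing.IsPerfect (F.obj j) Kj ∧
      Nonempty ((DRing.LBaseChange (c.ι.app j).hom).obj Kj ≅ K) := by
  obtain ⟨E, a, b, hvan, hproj, ⟨eK⟩⟩ := hK
  obtain ⟨N, dat, s, π, hsupp, hsπ, hπs⟩ := exists_data E a b hvan hproj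
  obtain ⟨j, datj, hsuppj, hmap⟩ := exists_descent F c hc N a b dat hsupp
  subst hmap
  obtain ⟨Y, i, p, hip, hpi⟩ := IsIdempotentComplete.idempotents_split
    datj.cx datj.idem datj.idem_idem
  have hone : i ≫ datj.idem ≫ p = 𝟙 Y := by
    rw [← hpi, assoc, hip, comp_id, hip]
  have hYvan : VanishesOutside Y a b := by
    intro n hn
    rw [IsZero.iff_id_eq_zero]
    have h1 : 𝟙 (Y.X n) = i.f n ≫ datj.idem.f n ≫ p.f n := by
      rw [← HomologicalComplex.comp_f, ← HomologicalComplex.comp_f, hone]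
      rfl
    rw [h1, datj.idem_f_eq_zero hsuppj n hn, zero_comp, comp_zero]
  have hYproj : TermwiseFiniteProjective Y := by
    intro n
    let iL : Y.X n →ₗ[F.obj j] (Fin N → F.obj j) := (i.f n).hom
    let pL : (Fin N → F.obj j) →ₗ[F.obj j] Y.X n := (p.f n).hom
    have hpi' : pL ∘ₗ iL = LinearMap.id := by
      have := congrArg (fun g => (g.f n).hom) hip
      exact this
    have hsurj : Function.Surjective pL := fun y => ⟨iL y, LinearMap.congr_fun hpi' y⟩
    exact ⟨Module.Finite.of_surjective pL hsurj, Module.Projective.of_split iL pL hpi'⟩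
  haveI : Y.IsKProjective :=
    Groth.Agent.H4.DRing1.isKProjective_of_vanishesAbove_projective Y b
      (fun n hn => hYvan n (Or.inr hn)) (fun n => (hYproj n).2)
  let φ := (c.ι.app j).hom
  let G := (ModuleCat.extendScalars.{u, u, u} φ).mapHomologicalComplex (ComplexShape.up ℤ)
  let B := cxIso φ datj
  have hB : (datj.map φ).idem ≫ B.hom = B.hom ≫ G.map datj.idem := cxIso_idem φ datj
  let u : E ⟶ G.obj Y := s ≫ B.hom ≫ G.map p
  let v : G.obj Y ⟶ E := G.map i ≫ B.inv ≫ π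
  have huv : u ≫ v = 𝟙 E := by
    change (s ≫ B.hom ≫ G.map p) ≫ G.map i ≫ B.inv ≫ π = 𝟙 E
    have h1 : G.map p ≫ G.map i = G.map datj.idem := by rw [← G.map_comp, hpi]
    simp only [assoc]
    rw [reassoc_of% h1, ← reassoc_of% hB, B.hom_inv_id_assoc, ← hπs, assoc, hsπ, comp_id, hsπ]
  have hvu : v ≫ u = 𝟙 (G.obj Y) := by
    change (G.map i ≫ B.inv ≫ π) ≫ s ≫ B.hom ≫ G.map p = 𝟙 (G.obj Y)
    simp only [assoc]
    rw [reassoc_of% hπs, reassoc_of% hB, B.inv_hom_id_assoc, ← G.map_comp, ← G.map_comp, hone,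
      G.map_id]
  let eC : G.obj Y ≅ E := ⟨v, u, hvu, huv⟩
  refine ⟨j, toD Y, ⟨Y, a, b, hYvan, hYproj, ⟨Iso.refl _⟩⟩, ⟨?_⟩⟩
  exact Groth.Agent.H4.LDer.isoOfKProj (ModuleCat.extendScalars.{u, u, u} φ) Y ≪≫
    Q.mapIso eC ≪≫ eK

end Groth.Agent.H4.PerfDesc4
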