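import Mathlib
set_option autoImplicit false
universe u
open CategoryTheory Limits

namespace Groth.Agent.H4.PerfFP

section alg

theorem alg_desc {J : Type u} [SemilatticeSup J] [Nonempty J] {A : Type u} [CommRing A]
    (Q : J → Type u) [∀ j, CommRing (Q j)]
    (t : ∀ i j : J, i ≤ j → Q i →+* Q j)
    (t_trans : ∀ i j k (hij : i ≤ j) (hjk : j ≤ k) (x : Q i),
      t j k hjk (t i j hij x) = t i k (hij.trans hjk) x)
    (c : ∀ j, Q j →+* A)
    (hc : ∀ i j (hij : i ≤ j) (x : Q i), c j (t i j hij x) = c i x)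
    (ha : ∀ a : A, ∃ j x, c j x = a)
    (hb : ∀ j (x : Q j), c j x = 0 → ∃ k, ∃ h : j ≤ k, t j k h x = 0)
    {Z : Type u} [CommRing Z] (g : ∀ j, Q j →+* Z)
    (hg : ∀ i j (hij : i ≤ j) (x : Q i), g j (t i j hij x) = g i x) :
    ∃ f : A →+* Z, ∀ j x, f (c j x) = g j x := by
  have indep : ∀ i j (x : Q i) (y : Q j), c i x = c j y → g i x = g j y := by
    intro i j x y hxy
    have h1 : c (i ⊔ j) (t i _ le_sup_left x - t j _ le_sup_right y) = 0 := by
      rw [map_sub, hc, hc, hxy, sub_self]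
    obtain ⟨k, hk, hk0⟩ := hb _ _ h1
    rw [map_sub, t_trans, t_trans, sub_eq_zero] at hk0
    rw [← hg i k (le_sup_left.trans hk) x, ← hg j k (le_sup_right.trans hk) y, hk0]
  choose jj xx hxx using ha
  have hf : ∀ j x, g (jj (c j x)) (xx (c j x)) = g j x := fun j x => indep _ _ _ _ (hxx _)
  have hval : ∀ (a : A) j x, c j x = a → g (jj a) (xx a) = g j x := by
    intro a j x h; subst h; exact hf j x
  refine ⟨{ toFun := fun a => g (jj a) (xx a), map_one' := ?_, map_mul' := ?_, map_zero' := ?_,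
            map_add' := ?_ }, fun j x => hf j x⟩
  · show g (jj 1) (xx 1) = 1
    obtain ⟨j⟩ := ‹Nonempty J›
    rw [hval 1 j 1 (map_one _), map_one]
  · intro a b
    show g (jj (a * b)) (xx (a * b)) = g (jj a) (xx a) * g (jj b) (xx b)
    have h1 : c (jj a ⊔ jj b) (t _ _ le_sup_left (xx a) * t _ _ le_sup_right (xx b)) = a * b := by
      rw [map_mul, hc, hc, hxx, hxx]
    rw [hval _ _ _ h1, map_mul, hg, hg]
  · show g (jj 0) (xx 0) = 0
    obtain ⟨j⟩ := ‹Nonempty J›
    rw [hval 0 j 0 (map_zero _), map_zero]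
  · intro a b
    show g (jj (a + b)) (xx (a + b)) = g (jj a) (xx a) + g (jj b) (xx b)
    have h1 : c (jj a ⊔ jj b) (t _ _ le_sup_left (xx a) + t _ _ le_sup_right (xx b)) = a + b := by
      rw [map_add, hc, hc, hxx, hxx]
    rw [hval _ _ _ h1, map_add, hg, hg]

end alg

section bridge

variable {p : ℕ} {B : CommRingCat.{u}}

abbrev PP (p : ℕ) (B : CommRingCat.{u}) : ObjectProperty (Under B) :=
  fun Y => (p : Y.right) = 0 ∧ Function.Bijective fun y : Y.right => y ^ p

noncomputable abbrev mkObj (Q : Type u) [CommRing Q] (s : B →+* Q)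
    (h : (p : Q) = 0 ∧ Function.Bijective fun y : Q => y ^ p) : (PP p B).FullSubcategory :=
  ⟨Under.mk (Y := CommRingCat.of Q) (CommRingCat.ofHom s), h⟩

noncomputable def homOf {X Y : (PP p B).FullSubcategory} (f : X.obj.right →+* Y.obj.right)
    (hf : f.comp X.obj.hom.hom = Y.obj.hom.hom) : X ⟶ Y :=
  ObjectProperty.homMk (Under.homMk (CommRingCat.ofHom f) (CommRingCat.hom_ext hf))

def ringOf {X Y : (PP p B).FullSubcategory} (φ : X ⟶ Y) : X.obj.right →+* Y.obj.right :=
  φ.hom.right.hom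

lemma ringOf_homOf {X Y : (PP p B).FullSubcategory} (f : X.obj.right →+* Y.obj.right)
    (hf : f.comp X.obj.hom.hom = Y.obj.hom.hom) : ringOf (homOf f hf) = f := rfl

lemma ringOf_comp_hom {X Y : (PP p B).FullSubcategory} (φ : X ⟶ Y) :
    (ringOf φ).comp X.obj.hom.hom = Y.obj.hom.hom := by
  have h := Under.w φ.hom
  exact congr(CommRingCat.Hom.hom $h)

lemma hom_ext' {X Y : (PP p B).FullSubcategory} {φ ψ : X ⟶ Y} (h : ringOf φ = ringOf ψ) :
    φ = ψ := by
  apply ObjectProperty.hom_ext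
  apply Under.UnderMorphism.ext
  exact CommRingCat.hom_ext h

lemma ringOf_comp {X Y Z : (PP p B).FullSubcategory} (φ : X ⟶ Y) (ψ : Y ⟶ Z) :
    ringOf (φ ≫ ψ) = (ringOf ψ).comp (ringOf φ) := rfl

lemma ringOf_id (X : (PP p B).FullSubcategory) : ringOf (𝟙 X) = RingHom.id _ := rfl

theorem bridge (A : (PP p B).FullSubcategory) [IsFinitelyPresentable.{u} A]
    {J : Type u} [SemilatticeSup J] [Nonempty J]
    (Q : J → Type u) [∀ j, CommRing (Q j)]
    (sQ : ∀ j, B →+* Q j)
    (hQ : ∀ j, (p : Q j) = 0 ∧ Function.Bijective fun y : Q j => y ^ p)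
    (t : ∀ i j : J, i ≤ j → Q i →+* Q j)
    (t_refl : ∀ i (x : Q i), t i i le_rfl x = x)
    (t_trans : ∀ i j k (hij : i ≤ j) (hjk : j ≤ k) (x : Q i),
      t j k hjk (t i j hij x) = t i k (hij.trans hjk) x)
    (t_s : ∀ i j (hij : i ≤ j) (b : B), t i j hij (sQ i b) = sQ j b)
    (c : ∀ j, Q j →+* A.obj.right)
    (c_s : ∀ j (b : B), c j (sQ j b) = A.obj.hom.hom b)
    (hc : ∀ i j (hij : i ≤ j) (x : Q i), c j (t i j hij x) = c i x)
    (ha : ∀ a : A.obj.right, ∃ j x, c j x = a)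
    (hb : ∀ j (x : Q j), c j x = 0 → ∃ k, ∃ h : j ≤ k, t j k h x = 0) :
    ∃ j, ∃ s : A.obj.right →+* Q j, (∀ a, c j (s a) = a) ∧ ∀ b, s (A.obj.hom.hom b) = sQ j b := by
  let D : J ⥤ (PP p B).FullSubcategory :=
    { obj := fun j => mkObj (Q j) (sQ j) (hQ j)
      map := fun {i j} f => homOf (X := mkObj (Q i) (sQ i) (hQ i)) (Y := mkObj (Q j) (sQ j) (hQ j))
        (t i j (leOfHom f)) (RingHom.ext fun b => t_s i j _ b)
      map_id := fun i => hom_ext' (RingHom.ext fun x => t_refl i x)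
      map_comp := fun f g => hom_ext' (RingHom.ext fun x => (t_trans _ _ _ _ _ x).symm) }
  let cc : Cocone D :=
    { pt := A
      ι := { app := fun j => homOf (X := mkObj (Q j) (sQ j) (hQ j)) (Y := A) (c j)
                (RingHom.ext fun b => c_s j b)
             naturality := fun i j f => hom_ext' (RingHom.ext fun x => hc i j (leOfHom f) x) } }
  have hcc : IsColimit cc := by
    refine IsColimit.ofExistsUnique fun s => ?_
    obtain ⟨f, hf⟩ := alg_desc Q t t_trans c hc ha hb (Z := s.pt.obj.right)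
      (fun j => ringOf (s.ι.app j))
      (fun i j hij x => by
        have h := s.w (homOfLE hij)
        exact congr(ringOf $h x))
    have hfB : f.comp A.obj.hom.hom = s.pt.obj.hom.hom := by
      obtain ⟨j⟩ := ‹Nonempty J›
      ext b
      have h1 := ringOf_comp_hom (s.ι.app j)
      have h2 : A.obj.hom.hom b = c j (sQ j b) := (c_s j b).symm
      rw [RingHom.comp_apply, h2, hf]
      exact congr($h1 b)
    refine ⟨homOf f hfB, fun j => hom_ext' (RingHom.ext fun x => hf j x), ?_⟩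
    intro d hd
    apply hom_ext'
    ext a
    obtain ⟨j, x, rfl⟩ := ha a
    rw [ringOf_homOf, hf]
    exact congr(ringOf $(hd j) x)
  obtain ⟨j, φ, hφ⟩ := IsFinitelyPresentable.exists_hom_of_isColimit hcc (𝟙 A)
  refine ⟨j, ringOf φ, fun a => ?_, fun b => ?_⟩
  · exact congr(ringOf $hφ a)
  · have h1 := ringOf_comp_hom φ
    exact congr($h1 b)

end bridge

section step1

variable {A : Type u} [CommRing A] (p : ℕ) [Fact p.Prime] [CharP A p]

/-- elements having a `p`-power in `R` -/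
def pRad (R : Subring A) : Subring A where
  carrier := {a | ∃ n : ℕ, a ^ p ^ n ∈ R}
  mul_mem' := by
    rintro a b ⟨n, ha⟩ ⟨m, hb⟩
    refine ⟨n + m, ?_⟩
    rw [mul_pow, pow_add, pow_mul, pow_mul']
    exact R.mul_mem (R.pow_mem ha _) (R.pow_mem hb _)
  one_mem' := ⟨0, by simp [R.one_mem]⟩
  add_mem' := by
    rintro a b ⟨n, ha⟩ ⟨m, hb⟩
    refine ⟨n + m, ?_⟩
    rw [add_pow_char_pow, pow_add, pow_mul, pow_mul']
    exact R.add_mem (R.pow_mem ha _) (R.pow_mem hb _)
  zero_mem' := ⟨0, by simp [R.zero_mem]⟩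
  neg_mem' := by
    rintro a ⟨n, ha⟩
    refine ⟨n, ?_⟩
    rw [neg_pow]
    exact R.mul_mem (R.pow_mem (R.neg_mem R.one_mem) _) ha

lemma mem_pRad {R : Subring A} {a : A} : a ∈ pRad p R ↔ ∃ n : ℕ, a ^ p ^ n ∈ R := Iff.rfl

lemma pRad_mono {R R' : Subring A} (h : R ≤ R') : pRad p R ≤ pRad p R' :=
  fun _ ⟨n, ha⟩ => ⟨n, h ha⟩

lemma le_pRad (R : Subring A) : R ≤ pRad p R := fun a ha => ⟨0, by simpa using ha⟩

lemma pRad_perfect (R : Subring A) (hA : Function.Bijective fun y : A => y ^ p) :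
    ((p : ℕ) : pRad p R) = 0 ∧ Function.Bijective fun y : pRad p R => y ^ p := by
  refine ⟨Subtype.ext (by simp), ?_, ?_⟩
  · intro x y hxy
    apply Subtype.ext
    apply hA.1
    exact congr(($hxy : A))
  · intro y
    obtain ⟨b, hb⟩ := hA.2 (y : A)
    have hb' : b ^ p = (y : A) := hb
    obtain ⟨n, hn⟩ := y.2
    refine ⟨⟨b, ⟨n + 1, ?_⟩⟩, Subtype.ext hb'⟩
    rw [pow_succ', pow_mul, hb']
    exact hn

end step1

section step1b

theorem step1 {p : ℕ} [Fact p.Prime] {B : CommRingCat.{u}} (A : (PP p B).FullSubcategory)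
    [IsFinitelyPresentable.{u} A] [CharP A.obj.right p] :
    ∃ S : Finset A.obj.right, ∀ a : A.obj.right, ∃ n : ℕ,
      a ^ p ^ n ∈ Subring.closure (Set.range A.obj.hom.hom ∪ (S : Set A.obj.right)) := by
  classical
  obtain ⟨cl, hcl⟩ : ∃ cl : Finset A.obj.right → Subring A.obj.right, ∀ S, cl S =
    Subring.closure (Set.range A.obj.hom.hom ∪ (S : Set A.obj.right)) := ⟨_, fun _ => rfl⟩
  have cl_mono : ∀ S S', S ≤ S' → cl S ≤ cl S' := fun S S' h => by
    rw [hcl, hcl]
    exact Subring.closure_mono (Set.union_subset_union_right _ (Finset.coe_subset.mpr h))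
  have hBcl : ∀ S b, A.obj.hom.hom b ∈ pRad p (cl S) := fun S b =>
    le_pRad p _ (by rw [hcl]; exact Subring.subset_closure (Or.inl ⟨b, rfl⟩))
  obtain ⟨S, s, hs, -⟩ := bridge A (J := Finset A.obj.right)
    (fun S => pRad p (cl S))
    (fun S => RingHom.codRestrict A.obj.hom.hom (pRad p (cl S)) (hBcl S))
    (fun S => pRad_perfect p (cl S) A.property.2)
    (fun S S' h => Subring.inclusion (pRad_mono p (cl_mono S S' h)))
    (fun S x => rfl) (fun _ _ _ _ _ x => rfl) (fun _ _ _ b => rfl)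
    (fun S => (pRad p (cl S)).subtype)
    (fun S b => rfl) (fun _ _ _ x => rfl)
    (fun a => ⟨{a}, ⟨a, le_pRad p _ (by
      rw [hcl]; exact Subring.subset_closure (Or.inr (by simp)))⟩, rfl⟩)
    (fun S x hx => ⟨S, le_rfl, Subtype.ext hx⟩)
  refine ⟨S, fun a => ?_⟩
  have h1 := (s a).2
  have h2 : ((s a : pRad p (cl S)) : A.obj.right) = a := hs a
  rw [h2, mem_pRad, hcl] at h1
  exact h1

end step1b

section pc

variable (p : ℕ) [Fact p.Prime]

noncomputable def pcMap {R₁ R₂ : Type u} [CommRing R₁] [CommRing R₂] [CharP R₁ p] [CharP R₂ p]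
    (f : R₁ →+* R₂) : PerfectClosure R₁ p →+* PerfectClosure R₂ p :=
  PerfectRing.lift (PerfectClosure.of R₁ p) ((PerfectClosure.of R₂ p).comp f) p

lemma pcMap_of {R₁ R₂ : Type u} [CommRing R₁] [CommRing R₂] [CharP R₁ p] [CharP R₂ p]
    (f : R₁ →+* R₂) (x : R₁) :
    pcMap p f (PerfectClosure.of R₁ p x) = PerfectClosure.of R₂ p (f x) :=
  PerfectRing.lift_comp_apply _ _ _ x

noncomputable def pcLift {R M : Type u} [CommRing R] [CommRing M] [CharP R p] [CharP M p]
    [PerfectRing M p] (g : R →+* M) : PerfectClosure R p →+* M :=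
  PerfectRing.lift (PerfectClosure.of R p) g p

lemma pcLift_of {R M : Type u} [CommRing R] [CommRing M] [CharP R p] [CharP M p]
    [PerfectRing M p] (g : R →+* M) (x : R) :
    pcLift p g (PerfectClosure.of R p x) = g x :=
  PerfectRing.lift_comp_apply _ _ _ x

lemma pc_ext {R M : Type u} [CommRing R] [CommRing M] [CharP R p] [CharP M p]
    [PerfectRing M p] {f g : PerfectClosure R p →+* M}
    (h : ∀ x, f (PerfectClosure.of R p x) = g (PerfectClosure.of R p x)) : f = g :=
  IsPRadical.injective_comp_of_perfect (M := M) (i := PerfectClosure.of R p) (p := p)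
    (RingHom.ext h)

end pc

section step24

theorem step24 {p : ℕ} [Fact p.Prime] {B : CommRingCat.{u}} [CharP B p]
    (A : (PP p B).FullSubcategory) [IsFinitelyPresentable.{u} A] [Nontrivial A.obj.right]
    [CharP A.obj.right p] (S : Finset A.obj.right)
    (hS : ∀ a : A.obj.right, ∃ n : ℕ,
      a ^ p ^ n ∈ Subring.closure (Set.range A.obj.hom.hom ∪ (S : Set A.obj.right))) :
    ∃ (I : Ideal (MvPolynomial S B)) (_ : I.FG) (k : (MvPolynomial S B ⧸ I) →+* A.obj.right),
      k.comp (algebraMap B (MvPolynomial S B ⧸ I)) = A.obj.hom.hom ∧ IsPRadical k p := by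
  classical
  haveI hperfA : PerfectRing A.obj.right p := ⟨A.property.2⟩
  obtain ⟨sA, hsA⟩ : ∃ sA : B →+* A.obj.right, sA = A.obj.hom.hom := ⟨_, rfl⟩
  rw [← hsA] at hS ⊢
  obtain ⟨φ, hφ⟩ : ∃ φ : MvPolynomial S B →+* A.obj.right,
      φ = MvPolynomial.eval₂Hom sA (fun i : S => (i : A.obj.right)) := ⟨_, rfl⟩
  have hφC : ∀ b, φ (MvPolynomial.C b) = sA b := fun b => by rw [hφ]; exact MvPolynomial.eval₂Hom_C _ _ b
  have hφX : ∀ i : S, φ (MvPolynomial.X i) = (i : A.obj.right) := fun i => by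
    rw [hφ]; exact MvPolynomial.eval₂Hom_X' _ _ i
  have hrange : ∀ r ∈ Subring.closure (Set.range sA ∪ (S : Set A.obj.right)), ∃ f, φ f = r := by
    intro r hr
    have h1 : Subring.closure (Set.range sA ∪ (S : Set A.obj.right)) ≤ φ.range := by
      rw [Subring.closure_le]
      rintro x (⟨b, rfl⟩ | hx)
      · exact ⟨MvPolynomial.C b, hφC b⟩
      · exact ⟨MvPolynomial.X ⟨x, hx⟩, hφX _⟩
    exact h1 hr
  have hφrad : ∀ a : A.obj.right, ∃ (n : ℕ) (f : MvPolynomial S B), φ f = a ^ p ^ n := by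
    intro a
    obtain ⟨n, hn⟩ := hS a
    obtain ⟨f, hf⟩ := hrange _ hn
    exact ⟨n, f, hf⟩
  -- the index system
  obtain ⟨I, hIdef⟩ : ∃ I : Finset (RingHom.ker φ) → Ideal (MvPolynomial S B), ∀ T, I T =
      Ideal.span ((fun x : RingHom.ker φ => (x : MvPolynomial S B)) '' (T : Set (RingHom.ker φ))) :=
    ⟨_, fun _ => rfl⟩
  have hIle : ∀ T, I T ≤ RingHom.ker φ := fun T => by
    rw [hIdef]; exact Ideal.span_le.mpr (by rintro _ ⟨x, -, rfl⟩; exact x.2)
  have hImono : ∀ T T', T ≤ T' → I T ≤ I T' := fun T T' h => by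
    rw [hIdef, hIdef]; exact Ideal.span_mono (Set.image_mono (Finset.coe_subset.mpr h))
  have hIfg : ∀ T, (I T).FG := fun T =>
    ⟨T.image (fun x : RingHom.ker φ => (x : MvPolynomial S B)), by rw [hIdef]; simp⟩
  have hImem : ∀ (T : Finset (RingHom.ker φ)) (x : RingHom.ker φ), x ∈ T → (x : MvPolynomial S B) ∈ I T :=
    fun T x hx => by rw [hIdef]; exact Ideal.subset_span ⟨x, hx, rfl⟩
  obtain ⟨φT, hφT⟩ : ∃ φT : ∀ T, (MvPolynomial S B ⧸ I T) →+* A.obj.right,
      ∀ T f, φT T (Ideal.Quotient.mk _ f) = φ f :=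
    ⟨fun T => Ideal.Quotient.lift (I T) φ (fun x hx => hIle T hx), fun T f => Ideal.Quotient.lift_mk _ _ _⟩
  haveI hnt : ∀ T, Nontrivial (MvPolynomial S B ⧸ I T) := fun T => (φT T).domain_nontrivial
  haveI hchar : ∀ T, CharP (MvPolynomial S B ⧸ I T) p := fun T => by
    apply ringChar.of_eq
    apply CharP.ringChar_of_prime_eq_zero (Fact.out)
    have h1 : ((p : ℕ) : MvPolynomial S B ⧸ I T) = algebraMap B _ ((p : ℕ) : B) :=
      (map_natCast (algebraMap B (MvPolynomial S B ⧸ I T)) p).symm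
    rw [h1, CharP.cast_eq_zero, map_zero]
  obtain ⟨fac, hfac⟩ : ∃ fac : ∀ T T', T ≤ T' → (MvPolynomial S B ⧸ I T) →+* (MvPolynomial S B ⧸ I T'),
      ∀ T T' h f, fac T T' h (Ideal.Quotient.mk _ f) = Ideal.Quotient.mk _ f :=
    ⟨fun T T' h => Ideal.Quotient.factor (hImono T T' h), fun T T' h f => Ideal.Quotient.factor_mk _ _⟩
  have hφT_fac : ∀ T T' h x, φT T' (fac T T' h x) = φT T x := by
    intro T T' h x
    obtain ⟨f, rfl⟩ := Ideal.Quotient.mk_surjective x
    rw [hfac, hφT, hφT]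
  have hfac_refl : ∀ T x, fac T T le_rfl x = x := by
    intro T x
    obtain ⟨f, rfl⟩ := Ideal.Quotient.mk_surjective x
    rw [hfac]
  have hfac_trans : ∀ T T' T'' h h' x, fac T' T'' h' (fac T T' h x) = fac T T'' (h.trans h') x := by
    intro T T' T'' h h' x
    obtain ⟨f, rfl⟩ := Ideal.Quotient.mk_surjective x
    rw [hfac, hfac, hfac]
  -- the data for the bridge
  obtain ⟨sQ, hsQ⟩ : ∃ sQ : ∀ T, B →+* PerfectClosure (MvPolynomial S B ⧸ I T) p,
      ∀ T b, sQ T b = PerfectClosure.of _ p (Ideal.Quotient.mk _ (MvPolynomial.C b)) :=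
    ⟨fun T => (PerfectClosure.of _ p).comp ((Ideal.Quotient.mk (I T)).comp MvPolynomial.C), fun _ _ => rfl⟩
  obtain ⟨t, ht⟩ : ∃ t : ∀ T T', T ≤ T' → PerfectClosure (MvPolynomial S B ⧸ I T) p →+*
      PerfectClosure (MvPolynomial S B ⧸ I T') p,
      ∀ T T' h x, t T T' h (PerfectClosure.of _ p x) = PerfectClosure.of _ p (fac T T' h x) :=
    ⟨fun T T' h => pcMap p (fac T T' h), fun T T' h x => pcMap_of p _ x⟩
  obtain ⟨c, hcof⟩ : ∃ c : ∀ T, PerfectClosure (MvPolynomial S B ⧸ I T) p →+* A.obj.right,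
      ∀ T x, c T (PerfectClosure.of _ p x) = φT T x :=
    ⟨fun T => pcLift p (φT T), fun T x => pcLift_of p _ x⟩
  have t_refl : ∀ T x, t T T le_rfl x = x := by
    intro T x
    have h1 : t T T le_rfl = RingHom.id _ := pc_ext p (fun y => by rw [ht, hfac_refl]; rfl)
    rw [h1]; rfl
  have t_trans : ∀ T T' T'' (h : T ≤ T') (h' : T' ≤ T'') x,
      t T' T'' h' (t T T' h x) = t T T'' (h.trans h') x := by
    intro T T' T'' h h' x
    have h1 : (t T' T'' h').comp (t T T' h) = t T T'' (h.trans h') :=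
      pc_ext p (fun y => by rw [RingHom.comp_apply, ht, ht, ht, hfac_trans])
    exact congr($h1 x)
  have t_s : ∀ T T' (h : T ≤ T') (b : B), t T T' h (sQ T b) = sQ T' b := by
    intro T T' h b; rw [hsQ, hsQ, ht, hfac]
  have c_s : ∀ T (b : B), c T (sQ T b) = sA b := by
    intro T b; rw [hsQ, hcof, hφT, hφC]
  have hc : ∀ T T' (h : T ≤ T') x, c T' (t T T' h x) = c T x := by
    intro T T' h x
    have h1 : (c T').comp (t T T' h) = c T :=
      pc_ext p (fun y => by rw [RingHom.comp_apply, ht, hcof, hcof, hφT_fac])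
    exact congr($h1 x)
  have ha : ∀ a : A.obj.right, ∃ T x, c T x = a := by
    intro a
    obtain ⟨n, f, hf⟩ := hφrad a
    refine ⟨∅, (iterateFrobeniusEquiv (PerfectClosure (MvPolynomial S B ⧸ I ∅) p) p n).symm
      (PerfectClosure.of _ p (Ideal.Quotient.mk _ f)), ?_⟩
    apply (iterateFrobeniusEquiv A.obj.right p n).injective
    rw [iterateFrobeniusEquiv_def, ← map_pow, ← iterateFrobeniusEquiv_def (R := PerfectClosure _ p),
      RingEquiv.apply_symm_apply, hcof, hφT, hf, iterateFrobeniusEquiv_def]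
  have hb : ∀ T x, c T x = 0 → ∃ T', ∃ h : T ≤ T', t T T' h x = 0 := by
    intro T y hy
    obtain ⟨n, r, hr⟩ := IsPRadical.pow_mem (PerfectClosure.of (MvPolynomial S B ⧸ I T) p) p y
    obtain ⟨f, rfl⟩ := Ideal.Quotient.mk_surjective r
    have hfker : f ∈ RingHom.ker φ := by
      rw [RingHom.mem_ker, ← hφT T, ← hcof, hr, map_pow, hy, zero_pow (pow_ne_zero _ (Fact.out : p.Prime).ne_zero)]
    refine ⟨insert ⟨f, hfker⟩ T, Finset.subset_insert _ _, ?_⟩
    apply (iterateFrobeniusEquiv (PerfectClosure (MvPolynomial S B ⧸ I (insert ⟨f, hfker⟩ T)) p) p n).injective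
    rw [iterateFrobeniusEquiv_def, ← map_pow, ← hr, ht, hfac, map_zero,
      Ideal.Quotient.eq_zero_iff_mem.mpr (hImem _ ⟨f, hfker⟩ (Finset.mem_insert_self _ _)), map_zero]
  obtain ⟨T, s, hs1, hs2⟩ := bridge A (J := Finset (RingHom.ker φ))
    (fun T => PerfectClosure (MvPolynomial S B ⧸ I T) p) sQ
    (fun T => ⟨CharP.cast_eq_zero _ p, PerfectRing.bijective_frobenius⟩)
    t t_refl t_trans t_s c (fun T b => by rw [c_s, hsA]) hc ha hb
  -- improve T
  have hd : ∀ i : S, c T (s (c T (PerfectClosure.of _ p (Ideal.Quotient.mk _ (MvPolynomial.X i)))) -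
      PerfectClosure.of _ p (Ideal.Quotient.mk _ (MvPolynomial.X i))) = 0 := by
    intro i; rw [map_sub, hs1, sub_self]
  choose Ti hTi hTi0 using fun i : S => hb T _ (hd i)
  obtain ⟨T', hT'⟩ : ∃ T', T' = T ⊔ Finset.univ.sup Ti := ⟨_, rfl⟩
  have hTT' : T ≤ T' := hT' ▸ le_sup_left
  have hTiT' : ∀ i, Ti i ≤ T' := fun i => hT' ▸ le_sup_of_le_right (Finset.le_sup (Finset.mem_univ i))
  have hd0 : ∀ i : S, t T T' hTT' (s (c T (PerfectClosure.of _ p (Ideal.Quotient.mk _ (MvPolynomial.X i))))) =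
      t T T' hTT' (PerfectClosure.of _ p (Ideal.Quotient.mk _ (MvPolynomial.X i))) := by
    intro i
    rw [← sub_eq_zero, ← map_sub, ← t_trans T (Ti i) T' (hTi i) (hTiT' i), hTi0, map_zero]
  have hqe : ∀ z, t T T' hTT' (s (c T z)) = t T T' hTT' z := by
    have h1 : (t T T' hTT').comp (s.comp (c T)) = t T T' hTT' := by
      apply pc_ext p
      intro r
      obtain ⟨f, rfl⟩ := Ideal.Quotient.mk_surjective r
      have h2 : ((t T T' hTT').comp (s.comp (c T))).comp
          ((PerfectClosure.of _ p).comp (Ideal.Quotient.mk (I T))) =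
          (t T T' hTT').comp ((PerfectClosure.of _ p).comp (Ideal.Quotient.mk (I T))) := by
        apply MvPolynomial.ringHom_ext
        · intro b
          simp only [RingHom.comp_apply]
          rw [← hsQ, c_s, hsA, hs2]
        · intro i
          simp only [RingHom.comp_apply]
          exact hd0 i
      exact congr($h2 f)
    intro z; exact congr($h1 z)
  have h1 : ∀ a, c T' (t T T' hTT' (s a)) = a := fun a => by rw [hc, hs1]
  have h2 : ∀ y, t T T' hTT' (s (c T' y)) = y := by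
    have h3 : ((t T T' hTT').comp s).comp (c T') = RingHom.id _ := by
      apply pc_ext p
      intro r
      obtain ⟨f, rfl⟩ := Ideal.Quotient.mk_surjective r
      rw [RingHom.comp_apply, RingHom.comp_apply, RingHom.id_apply, ← hfac T T' hTT' f, ← ht, hc, hqe]
    intro y; exact congr($h3 y)
  refine ⟨I T', hIfg T', φT T', ?_, ?_⟩
  · ext b
    rw [RingHom.comp_apply]
    have h3 : algebraMap B (MvPolynomial S B ⧸ I T') b = Ideal.Quotient.mk _ (MvPolynomial.C b) := rfl
    rw [h3, hφT, hφC]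
  · have h3 : φT T' = (c T').comp (PerfectClosure.of _ p) := RingHom.ext fun x => (hcof T' x).symm
    rw [h3]
    haveI : IsPRadical (c T') p :=
      { pow_mem' := fun x => ⟨0, t T T' hTT' (s x), by rw [h1]; simp⟩
        ker_le' := fun x hx => by
          have h4 : x = 0 := by rw [← h2 x, (RingHom.mem_ker).mp hx, map_zero, map_zero]
          rw [h4]; exact Ideal.zero_mem _ }
    exact IsPRadical.trans (PerfectClosure.of _ p) (c T') p

end step24

section final

theorem main (p : ℕ) [Fact p.Prime] (B : CommRingCat.{u}) [CharP B p] [PerfectRing B p]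
    (A : ObjectProperty.FullSubcategory fun Y : Under B =>
      (p : Y.right) = 0 ∧ Function.Bijective fun y : Y.right => y ^ p)
    [IsFinitelyPresentable.{u} A] :
    ∃ (A₀ : Type u) (_ : CommRing A₀) (_ : Algebra B A₀) (_ : Algebra.FinitePresentation B A₀)
      (k : A₀ →+* A.obj.right), k.comp (algebraMap B A₀) = A.obj.hom.hom ∧ IsPRadical k p := by
  rcases subsingleton_or_nontrivial A.obj.right with hsub | hnt
  · refine ⟨B ⧸ (⊤ : Ideal B), inferInstance, inferInstance,
      Algebra.FinitePresentation.quotient ⟨{1}, by simp⟩,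
      Ideal.Quotient.lift ⊤ A.obj.hom.hom (fun x _ => Subsingleton.elim _ _), ?_, ?_⟩
    · ext b; exact Subsingleton.elim _ _
    · exact { pow_mem' := fun x => ⟨0, 0, Subsingleton.elim _ _⟩
              ker_le' := fun x _ => by
                haveI : Subsingleton (B ⧸ (⊤ : Ideal B)) := Ideal.Quotient.subsingleton_iff.mpr rfl
                rw [Subsingleton.elim x 0]; exact Ideal.zero_mem _ }
  · haveI : CharP A.obj.right p :=
      ringChar.of_eq (CharP.ringChar_of_prime_eq_zero Fact.out A.property.1)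
    obtain ⟨S, hS⟩ := step1 (p := p) (B := B) A
    obtain ⟨I, hI, k, hk1, hk2⟩ := step24 (p := p) (B := B) A S hS
    exact ⟨MvPolynomial S B ⧸ I, inferInstance, inferInstance,
      Algebra.FinitePresentation.quotient hI, k, hk1, hk2⟩

end final

end Groth.Agent.H4.PerfFP
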