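import Mathlib
import Groth.Prelude.Def_Flat
import Groth.Prelude.Def_HTop2
import Groth.Agent.Lib.Helper1.UnivHomeoMore

set_option autoImplicit false
universe u
open CategoryTheory CategoryTheory.Limits AlgebraicGeometry TensorProduct

namespace Groth.Agent.H4.UHFactor

section Gen

lemma univInj_of_comp {X Y Z : Scheme.{u}} (f : X ⟶ Y) (g : Y ⟶ Z)
    [h : UniversallyInjective (f ≫ g)] : UniversallyInjective f := by
  have h1 := ((tfae_universallyInjective (f ≫ g)).out 0 1).mp h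
  refine ((tfae_universallyInjective f).out 0 1).mpr ?_
  intro K _ a b hab
  apply h1 K
  show a ≫ f ≫ g = b ≫ f ≫ g
  have hab : a ≫ f = b ≫ f := hab
  rw [← Category.assoc, hab, Category.assoc]

/-- universally closed, universally injective and surjective morphisms are universal
homeomorphisms -/
lemma uh_of_univClosed_univInj_surj {X Y : Scheme.{u}} (f : X ⟶ Y) [UniversallyClosed f]
    [UniversallyInjective f] [Surjective f] : FlatMor.IsUnivHomeo f := by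
  intro X' Y' i₁ i₂ f' sq
  haveI : UniversallyClosed f' := MorphismProperty.of_isPullback sq.flip ‹_›
  haveI : UniversallyInjective f' := MorphismProperty.of_isPullback sq.flip ‹_›
  haveI : Surjective f' := MorphismProperty.of_isPullback sq.flip ‹_›
  show IsHomeomorph f'
  rw [isHomeomorph_iff_continuous_isClosedMap_bijective]
  exact ⟨f'.continuous, f'.isClosedMap, f'.injective, f'.surjective⟩

lemma uh_integral {X Y : Scheme.{u}} (f : X ⟶ Y) (h : FlatMor.IsUnivHomeo f) : IsIntegralHom f :=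
  ((Groth.Agent.H1.isUnivHomeo_iff_integral f).mp h).1

lemma uh_univInj {X Y : Scheme.{u}} (f : X ⟶ Y) (h : FlatMor.IsUnivHomeo f) :
    UniversallyInjective f :=
  ((Groth.Agent.H1.isUnivHomeo_iff_integral f).mp h).2.1

lemma uh_surj {X Y : Scheme.{u}} (f : X ⟶ Y) (h : FlatMor.IsUnivHomeo f) : Surjective f :=
  ((Groth.Agent.H1.isUnivHomeo_iff_integral f).mp h).2.2

/-- the factorization of a morphism from the source of a universal homeomorphism through the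
scheme theoretic image of its graph -/
theorem exists_factor {S X T T' : Scheme.{u}} (fX : X ⟶ S) [IsSeparated fX]
    [LocallyOfFiniteType fX] (fT : T ⟶ S) (ν : T' ⟶ T) (hν : FlatMor.IsUnivHomeo ν)
    (g : T' ⟶ X) (hg : g ≫ fX = ν ≫ fT) :
    ∃ (T₁ : Scheme.{u}) (π : T₁ ⟶ T) (_ : IsFinite π) (_ : FlatMor.IsUnivHomeo π) (g₁ : T₁ ⟶ X)
        (h : T' ⟶ T₁), FlatMor.IsUnivHomeo h ∧ h ≫ π = ν ∧ g₁ ≫ fX = π ≫ fT ∧ h ≫ g₁ = g := by
  haveI := uh_integral ν hν
  haveI := uh_univInj ν hν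
  let γ : T' ⟶ pullback fT fX := pullback.lift ν g hg.symm
  have hγ1 : γ ≫ pullback.fst fT fX = ν := pullback.lift_fst _ _ _
  have hγ2 : γ ≫ pullback.snd fT fX = g := pullback.lift_snd _ _ _
  haveI : IsIntegralHom (γ ≫ pullback.fst fT fX) := by rw [hγ1]; infer_instance
  haveI : UniversallyInjective (γ ≫ pullback.fst fT fX) := by rw [hγ1]; infer_instance
  haveI : IsIntegralHom γ := IsIntegralHom.of_comp γ (pullback.fst fT fX)
  haveI : UniversallyInjective γ := univInj_of_comp γ (pullback.fst fT fX)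
  -- the scheme theoretic image
  have hti : γ.toImage ≫ γ.imageι = γ := γ.toImage_imageι
  haveI : IsIntegralHom (γ.toImage ≫ γ.imageι) := by rw [hti]; infer_instance
  haveI : UniversallyInjective (γ.toImage ≫ γ.imageι) := by rw [hti]; infer_instance
  haveI : IsIntegralHom γ.toImage := IsIntegralHom.of_comp γ.toImage γ.imageι
  haveI : UniversallyInjective γ.toImage := univInj_of_comp γ.toImage γ.imageι
  haveI : Surjective γ.toImage :=
    surjective_of_isDominant_of_isClosed_range γ.toImage γ.toImage.isClosedMap.isClosed_range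
  have hUH : FlatMor.IsUnivHomeo γ.toImage := uh_of_univClosed_univInj_surj _
  have hcomp : γ.toImage ≫ (γ.imageι ≫ pullback.fst fT fX) = ν := by
    rw [← Category.assoc, hti, hγ1]
  have hπ : FlatMor.IsUnivHomeo (γ.imageι ≫ pullback.fst fT fX) :=
    (Groth.Agent.H1.isUnivHomeo_two_out_of_three γ.toImage _).1 (by rw [hcomp]; exact hν) hUH
  haveI := uh_integral _ hπ
  haveI : IsFinite (γ.imageι ≫ pullback.fst fT fX) :=
    (IsFinite.iff_isIntegralHom_and_locallyOfFiniteType _).mpr ⟨inferInstance, inferInstance⟩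
  refine ⟨γ.image, γ.imageι ≫ pullback.fst fT fX, inferInstance, hπ,
    γ.imageι ≫ pullback.snd fT fX, γ.toImage, hUH, hcomp, ?_, ?_⟩
  · rw [Category.assoc, Category.assoc, pullback.condition]
  · rw [← Category.assoc, hti, hγ2]

lemma uh_comp' {X Y Z : Scheme.{u}} (f : X ⟶ Y) (g : Y ⟶ Z) (hf : FlatMor.IsUnivHomeo f)
    (hg : FlatMor.IsUnivHomeo g) : FlatMor.IsUnivHomeo (f ≫ g) :=
  MorphismProperty.comp_mem _ f g hf hg

/-- two factorizations through finite universal homeomorphisms are dominated by a third -/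
theorem exists_dominating {X T T' : Scheme.{u}} [X.IsSeparated] (ν : T' ⟶ T)
    (hν : FlatMor.IsUnivHomeo ν) (T₁ T₂ : Scheme.{u}) (π₁ : T₁ ⟶ T) (π₂ : T₂ ⟶ T)
    [IsFinite π₁] [IsFinite π₂] (hπ₁ : FlatMor.IsUnivHomeo π₁) (hπ₂ : FlatMor.IsUnivHomeo π₂)
    (g₁ : T₁ ⟶ X) (g₂ : T₂ ⟶ X) (h₁ : T' ⟶ T₁) (h₂ : T' ⟶ T₂)
    (e₁ : h₁ ≫ π₁ = ν) (e₂ : h₂ ≫ π₂ = ν) (e : h₁ ≫ g₁ = h₂ ≫ g₂) :
    ∃ (T₃ : Scheme.{u}) (π₃ : T₃ ⟶ T) (_ : IsFinite π₃) (_ : FlatMor.IsUnivHomeo π₃)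
      (a₁ : T₃ ⟶ T₁) (a₂ : T₃ ⟶ T₂) (m : T' ⟶ T₃), a₁ ≫ π₁ = π₃ ∧ a₂ ≫ π₂ = π₃ ∧
        a₁ ≫ g₁ = a₂ ≫ g₂ ∧ m ≫ a₁ = h₁ ∧ m ≫ a₂ = h₂ := by
  have hp₁ : FlatMor.IsUnivHomeo (pullback.fst π₁ π₂) := MorphismProperty.pullback_fst _ _ hπ₂
  have hρ : FlatMor.IsUnivHomeo (pullback.fst π₁ π₂ ≫ π₁) := uh_comp' _ _ hp₁ hπ₁
  let k : T' ⟶ pullback π₁ π₂ := pullback.lift h₁ h₂ (e₁.trans e₂.symm)
  have hk1 : k ≫ pullback.fst π₁ π₂ = h₁ := pullback.lift_fst _ _ _
  have hk2 : k ≫ pullback.snd π₁ π₂ = h₂ := pullback.lift_snd _ _ _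
  have hkρ : k ≫ (pullback.fst π₁ π₂ ≫ π₁) = ν := by rw [← Category.assoc, hk1, e₁]
  have hk : FlatMor.IsUnivHomeo k :=
    (Groth.Agent.H1.isUnivHomeo_two_out_of_three k _).2 (by rw [hkρ]; exact hν) hρ
  haveI := uh_surj k hk
  have hcond : k ≫ (pullback.fst π₁ π₂ ≫ g₁) = k ≫ (pullback.snd π₁ π₂ ≫ g₂) := by
    rw [← Category.assoc, hk1, ← Category.assoc, hk2, e]
  let m : T' ⟶ equalizer (pullback.fst π₁ π₂ ≫ g₁) (pullback.snd π₁ π₂ ≫ g₂) :=
    equalizer.lift k hcond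
  have hm : m ≫ equalizer.ι (pullback.fst π₁ π₂ ≫ g₁) (pullback.snd π₁ π₂ ≫ g₂) = k :=
    equalizer.lift_ι _ _
  haveI : Surjective (m ≫ equalizer.ι (pullback.fst π₁ π₂ ≫ g₁) (pullback.snd π₁ π₂ ≫ g₂)) := by
    rw [hm]; infer_instance
  haveI : Surjective (equalizer.ι (pullback.fst π₁ π₂ ≫ g₁) (pullback.snd π₁ π₂ ≫ g₂)) :=
    Surjective.of_comp m _
  have hι : FlatMor.IsUnivHomeo
      (equalizer.ι (pullback.fst π₁ π₂ ≫ g₁) (pullback.snd π₁ π₂ ≫ g₂)) :=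
    uh_of_univClosed_univInj_surj _
  refine ⟨equalizer (pullback.fst π₁ π₂ ≫ g₁) (pullback.snd π₁ π₂ ≫ g₂),
    equalizer.ι _ _ ≫ (pullback.fst π₁ π₂ ≫ π₁), inferInstance, uh_comp' _ _ hι hρ,
    equalizer.ι _ _ ≫ pullback.fst π₁ π₂, equalizer.ι _ _ ≫ pullback.snd π₁ π₂, m,
    Category.assoc _ _ _, ?_, ?_, ?_, ?_⟩
  · rw [Category.assoc, ← pullback.condition]
  · rw [Category.assoc, Category.assoc]
    exact equalizer.condition _ _
  · rw [← Category.assoc, hm, hk1]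
  · rw [← Category.assoc, hm, hk2]

end Gen

end Groth.Agent.H4.UHFactor
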