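import Mathlib
import Groth.Agent.H4.PerfAWN
import Groth.Agent.H4.PerfUH
import Groth.Agent.H4.UHFactor

set_option autoImplicit false
universe u
open CategoryTheory CategoryTheory.Limits AlgebraicGeometry TensorProduct
open Groth.Agent.H4.PerfAWN Groth.Agent.H4.PerfUH Groth.Agent.H4.UHFactor Groth.Agent.H4.AWNSch
  Groth.Agent.H4.AWNSch2

namespace Groth.Agent.H4.PerfImm

section Ring
variable {R C : Type u} [CommRing R] [CommRing C]

lemma surjective_of_uh_frob (p : ℕ) (hp : p.Prime) (φ : R →+* C) (h0 : (p : R) = 0)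
    (hR : Function.Surjective fun s : R => s ^ p) (hC : Function.Injective fun s : C => s ^ p)
    (h : FlatMor.IsUnivHomeo (Spec.map (CommRingCat.ofHom φ))) : Function.Surjective φ := by
  obtain ⟨-, h2⟩ := (uh_iff_of_p_eq_zero p hp φ h0).mp h
  intro c
  obtain ⟨n, a, ha⟩ := h2 c
  obtain ⟨a', ha'⟩ := iterate_frob_surjective p hR n a
  have ha' : a' ^ p ^ n = a := ha'
  refine ⟨a', ?_⟩
  apply iterate_frob_injective p hC n
  show φ a' ^ p ^ n = c ^ p ^ n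
  rw [← map_pow, ha', ha]

end Ring

section Sch

variable (p : ℕ) [Fact p.Prime]

lemma natCast_eq_zero_of_hom {X W : Scheme.{u}} [FrobSch.IsCharP W p] (f : X ⟶ W) (U : X.Opens) :
    (p : Γ(X, U)) = 0 := by
  haveI : FrobSch.IsCharP X p := FrobSch.IsCharP.of_hom f p
  exact FrobSch.natCast_eq_zero_app X p U

/-- a universal homeomorphism from a perfect scheme to a closed subscheme of a perfect scheme
is a closed immersion -/
lemma isClosedImmersion_of_uh_perfect {XP Z W : Scheme.{u}} [FrobSch.IsCharP W p] (k : XP ⟶ Z)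
    (c : Z ⟶ W) [IsClosedImmersion c] (hk : FlatMor.IsUnivHomeo k) (hXP : HTop.IsAWN XP)
    (hW : HTop.IsAWN W) : IsClosedImmersion k := by
  haveI := uh_integral k hk
  refine HasAffineProperty.of_iSup_eq_top (P := @IsClosedImmersion)
    (fun V : W.affineOpens => (⟨c ⁻¹ᵁ V.1, V.2.preimage c⟩ : Z.affineOpens)) ?_ fun V => ?_
  · rw [eq_top_iff]
    intro z _
    obtain ⟨_, ⟨V, hV, rfl⟩, hzV, -⟩ :=
      W.isBasis_affineOpens.exists_subset_of_mem_open (Set.mem_univ (c z)) isOpen_univ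
    exact TopologicalSpace.Opens.mem_iSup.mpr ⟨⟨V, hV⟩, hzV⟩
  · haveI : IsAffine ((k ⁻¹ᵁ (c ⁻¹ᵁ V.1) : XP.Opens) : Scheme.{u}) :=
      (V.2.preimage c).preimage k
    haveI : IsAffine ((c ⁻¹ᵁ V.1 : Z.Opens) : Scheme.{u}) := V.2.preimage c
    haveI : IsAffine ((V.1 : W.Opens) : Scheme.{u}) := V.2
    refine ⟨inferInstance, ?_⟩
    have hUH : FlatMor.IsUnivHomeo (k ∣_ (c ⁻¹ᵁ V.1)) := IsZariskiLocalAtTarget.restrict hk _
    have hUH' : FlatMor.IsUnivHomeo (Spec.map (k ∣_ (c ⁻¹ᵁ V.1)).appTop) :=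
      (MorphismProperty.arrow_mk_iso_iff (FlatMor.IsUnivHomeo.{u})
        (arrowIsoSpecΓOfIsAffine (k ∣_ (c ⁻¹ᵁ V.1)))).mp hUH
    -- the source ring has surjective Frobenius
    have h0 : (p : Γ(((c ⁻¹ᵁ V.1 : Z.Opens) : Scheme.{u}), ⊤)) = 0 :=
      natCast_eq_zero_of_hom p ((c ⁻¹ᵁ V.1).ι ≫ c) ⊤
    have h0V : (p : Γ(((V.1 : W.Opens) : Scheme.{u}), ⊤)) = 0 :=
      natCast_eq_zero_of_hom p V.1.ι ⊤
    have hsurj : Function.Surjective (c ∣_ V.1).appTop :=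
      (IsClosedImmersion.isAffine_surjective_of_isAffine (f := c ∣_ V.1)).2
    have hV : Function.Bijective fun s : Γ(((V.1 : W.Opens) : Scheme.{u}), ⊤) => s ^ p :=
      perfect_of_isAWNRing p Fact.out h0V (isAWNRing_affineOpen_top hW V)
    have hR : Function.Surjective fun s : Γ(((c ⁻¹ᵁ V.1 : Z.Opens) : Scheme.{u}), ⊤) => s ^ p := by
      intro s
      obtain ⟨t, rfl⟩ := hsurj s
      obtain ⟨t', ht'⟩ := hV.2 t
      have ht' : t' ^ p = t := ht'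
      exact ⟨(c ∣_ V.1).appTop t', by show (c ∣_ V.1).appTop t' ^ p = _; rw [← map_pow, ht']⟩
    -- the target ring has injective Frobenius
    have h0C : (p : Γ(((k ⁻¹ᵁ (c ⁻¹ᵁ V.1) : XP.Opens) : Scheme.{u}), ⊤)) = 0 :=
      natCast_eq_zero_of_hom p ((k ⁻¹ᵁ (c ⁻¹ᵁ V.1)).ι ≫ k ≫ c) ⊤
    have hC : Function.Bijective
        fun s : Γ(((k ⁻¹ᵁ (c ⁻¹ᵁ V.1) : XP.Opens) : Scheme.{u}), ⊤) => s ^ p :=
      perfect_of_isAWNRing p Fact.out h0C
        (isAWNRing_affineOpen_top hXP ⟨k ⁻¹ᵁ (c ⁻¹ᵁ V.1), (V.2.preimage c).preimage k⟩)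
    exact surjective_of_uh_frob p Fact.out (k ∣_ (c ⁻¹ᵁ V.1)).appTop.hom h0 hR hC.1 hUH'

end Sch

end Groth.Agent.H4.PerfImm
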