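import Mathlib
import Groth.Prelude.Def_DRing2
import Groth.Agent.H4.ConeTrick
import Groth.Agent.H4.AwayTrivial

set_option autoImplicit false
universe u
open CategoryTheory CategoryTheory.Limits
attribute [local instance] HasDerivedCategory.standard
open DRing
open Groth.Agent.H4.ConeTrick Groth.Agent.H4.AwayTrivial

namespace Groth.Agent.H4.PerfectIsoTrivial

variable {R : Type u} [CommRing R]

lemma rc_FP : RC (fun X : ModuleCat.{u} R => FP X) where
  iso e h := FP.of_iso e h
  biprod h1 h2 := FP.biprod h1 h2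
  retract r h := FP.retract r h

theorem main (p : Ideal R) [p.IsPrime]
    (M N : DRing.Cx R) (a b : ℤ) (hM : DRing.VanishesOutside M a b) (hN : DRing.VanishesOutside N a b)
    (hMp : DRing.TermwiseFiniteProjective M) (hNp : DRing.TermwiseFiniteProjective N)
    (h : Nonempty (DRing.toD M ≅ DRing.toD N)) :
    ∃ f : R, f ∉ p ∧ ∃ P Q : DRing.Cx (Localization.Away f),
      ((∃ a' b' : ℤ, DRing.VanishesOutside P a' b') ∧ DRing.TermwiseFiniteFree P ∧
          (∀ i : ℤ, Module.Free (Localization.Away f) (LinearMap.range (P.d i (i + 1)).hom)) ∧ Nonempty (Homotopy (𝟙 P) 0)) ∧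
      ((∃ a' b' : ℤ, DRing.VanishesOutside Q a' b') ∧ DRing.TermwiseFiniteFree Q ∧
          (∀ i : ℤ, Module.Free (Localization.Away f) (LinearMap.range (Q.d i (i + 1)).hom)) ∧ Nonempty (Homotopy (𝟙 Q) 0)) ∧
      Nonempty ((((ModuleCat.extendScalars (algebraMap R (Localization.Away f))).mapHomologicalComplex (ComplexShape.up ℤ)).obj M) ⊞ P ≅ (((ModuleCat.extendScalars (algebraMap R (Localization.Away f))).mapHomologicalComplex (ComplexShape.up ℤ)).obj N) ⊞ Q) := by
  classical
  haveI : M.IsStrictlyLE b := (M.isStrictlyLE_iff b).2 (fun i hi => hM i (Or.inr hi))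
  haveI : N.IsStrictlyLE b := (N.isStrictlyLE_iff b).2 (fun i hi => hN i (Or.inr hi))
  haveI : ∀ n, Projective (M.X n) := fun n => by
    haveI := (hMp n).2
    exact ModuleCat.projective_of_categoryTheory_projective _
  haveI : ∀ n, Projective (N.X n) := fun n => by
    haveI := (hNp n).2
    exact ModuleCat.projective_of_categoryTheory_projective _
  haveI : M.IsKProjective := CochainComplex.isKProjective_of_projective M b
  obtain ⟨φ₀, hφ₀⟩ := exists_quasiIso_of_iso M N h.some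
  haveI := hφ₀
  obtain ⟨⟨hQ⟩, ⟨e⟩⟩ := Groth.Agent.H4.ConeTrick.main φ₀ b
  have hT0 : DRing.VanishesOutside (T M) (a-1) b := fun i hi =>
    rc_isZero.T_X M i (hM _ (by omega)) (hM _ (by omega))
  have hQ0 : DRing.VanishesOutside (Qc φ₀) (a-1) b := fun i hi =>
    rc_isZero.Qc_X' φ₀ i (hN i (by omega)) (hM (i+1) (by omega)) (hM i (by omega))
  have hTFP : ∀ i, FP ((T M).X i) := fun i => rc_FP.T_X M i (hMp (i+1)) (hMp i)
  have hQFP : ∀ i, FP ((Qc φ₀).X i) := fun i =>
    rc_FP.Qc_X' φ₀ i (hNp i) (hMp (i+1)) (hMp i)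
  obtain ⟨f1, hf1, H1⟩ := exists_trivial p (Qc φ₀) (a-1) b hQ0 hQFP hQ
  obtain ⟨f2, hf2, H2⟩ := exists_trivial p (T M) (a-1) b hT0 hTFP (hT M)
  haveI : (E (f1 * f2)).Additive :=
    (ModuleCat.extendRestrictScalarsAdj.{u}
      (algebraMap R (Localization.Away (f1 * f2)))).left_adjoint_additive
  refine ⟨f1 * f2, fun hmem => ?_,
    ((E (f1 * f2)).mapHomologicalComplex (ComplexShape.up ℤ)).obj (Qc φ₀),
    ((E (f1 * f2)).mapHomologicalComplex (ComplexShape.up ℤ)).obj (T M),
    H1 _ (dvd_mul_right f1 f2), H2 _ (dvd_mul_left f2 f1), ⟨?_⟩⟩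
  · rcases (‹p.IsPrime›).mem_or_mem hmem with h' | h'
    exacts [hf1 h', hf2 h']
  · exact (isoOfAdditive ((E (f1 * f2)).mapHomologicalComplex (ComplexShape.up ℤ)) M (Qc φ₀)).symm ≪≫
      ((E (f1 * f2)).mapHomologicalComplex (ComplexShape.up ℤ)).mapIso e.symm ≪≫
      isoOfAdditive ((E (f1 * f2)).mapHomologicalComplex (ComplexShape.up ℤ)) N (T M)

end Groth.Agent.H4.PerfectIsoTrivial
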