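import Mathlib
import Groth.Prelude.Def_W4c3degenlocivbPfaff

set_option autoImplicit false
open W4c3degenlocivb

namespace Groth.Agent.H4.PfaffA

universe u

/-! ### generalities on `pf` -/

theorem pf_map {R S : Type*} [CommRing R] [CommRing S] (f : R →+* S) :
    ∀ (n : ℕ) (T : Matrix (Fin n) (Fin n) R), pf n (T.map f) = f (pf n T)
  | 0, _ => by simp [pf]
  | 1, _ => by simp [pf]
  | n + 2, T => by
      simp only [pf, map_sum, map_mul, map_pow, map_neg, map_one, Matrix.map_apply]
      refine Finset.sum_congr rfl fun j _ => ?_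
      rw [← pf_map f n]
      rfl

theorem pf_homog {σ : Type*} {k : Type*} [CommRing k] :
    ∀ (n : ℕ) (T : Matrix (Fin n) (Fin n) (MvPolynomial σ k)),
      (∀ a b, (T a b).IsHomogeneous 1) → (pf n T).IsHomogeneous (n / 2)
  | 0, _, _ => by simpa [pf] using MvPolynomial.isHomogeneous_one σ k
  | 1, _, _ => by simpa [pf] using MvPolynomial.isHomogeneous_zero σ k (1 / 2)
  | n + 2, T, h => by
      simp only [pf]
      refine MvPolynomial.IsHomogeneous.sum _ _ _ fun j _ => ?_
      have h1 : ((-1 : MvPolynomial σ k) ^ (j.val + 1)).IsHomogeneous 0 := by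
        have := ((MvPolynomial.isHomogeneous_one σ k).neg).pow (j.val + 1)
        simpa using this
      have h2 := (h1.mul (h (Fin.last (n + 1)) (Fin.castSucc j))).mul
        (pf_homog n (T.submatrix (Fin.castSucc ∘ j.succAbove) (Fin.castSucc ∘ j.succAbove))
          (fun a b => h _ _))
      have e : 0 + 1 + n / 2 = (n + 2) / 2 := by omega
      exact e ▸ h2

/-! ### tridiagonal alternating matrices -/

/-- the tridiagonal alternating matrix with superdiagonal `u 0, u 1, …`. -/
def Tri {R : Type*} [CommRing R] (n : ℕ) (u : ℕ → R) : Matrix (Fin n) (Fin n) R :=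
  fun a b => if b.val = a.val + 1 then u a.val else if a.val = b.val + 1 then - u b.val else 0

theorem tri_step {R : Type*} [CommRing R] (n : ℕ) (u : ℕ → R) :
    pf (n + 2) (Tri (n + 2) u) = (-1) ^ n * u n * pf n (Tri n u) := by
  simp only [pf]
  rw [Finset.sum_eq_single (Fin.last n)]
  · have e1 : Tri (n + 2) u (Fin.last (n + 1)) (Fin.castSucc (Fin.last n)) = - u n := by
      simp only [Tri, Fin.val_last, Fin.val_castSucc]
      rw [if_neg (by omega)]; simp
    have e2 : (Tri (n + 2) u).submatrix (Fin.castSucc ∘ (Fin.last n).succAbove)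
        (Fin.castSucc ∘ (Fin.last n).succAbove) = Tri n u := by
      ext a b
      simp [Tri, Fin.succAbove_last]
    rw [e1, e2]
    simp only [Fin.val_last]
    ring
  · intro j _ hj
    have hjn : j.val ≠ n := fun h => hj (Fin.ext (by simpa using h))
    have hjl : j.val < n + 1 := j.isLt
    have e1 : Tri (n + 2) u (Fin.last (n + 1)) (Fin.castSucc j) = 0 := by
      simp only [Tri, Fin.val_last, Fin.val_castSucc]
      rw [if_neg (by omega), if_neg (by omega)]
    rw [e1]; ring
  · intro h; exact absurd (Finset.mem_univ _) h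

theorem tri_pf {R : Type*} [CommRing R] (u : ℕ → R) :
    ∀ m : ℕ, pf (2 * m) (Tri (2 * m) u) = ∏ s ∈ Finset.range m, u (2 * s)
  | 0 => by
      show pf 0 (Tri 0 u) = _
      simp [pf]
  | m + 1 => by
      show pf (2 * m + 2) (Tri (2 * m + 2) u) = _
      rw [tri_step, tri_pf u m, Finset.prod_range_succ]
      have : ((-1 : R)) ^ (2 * m) = 1 := by rw [pow_mul]; simp
      rw [this]; ring

theorem succAbove_val {n : ℕ} (i : Fin (n + 1)) (a : Fin n) :
    (i.succAbove a).val = if a.val < i.val then a.val else a.val + 1 := by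
  by_cases h : a.val < i.val
  · rw [if_pos h, Fin.succAbove_of_castSucc_lt _ _ (by simpa [Fin.lt_def] using h)]; rfl
  · rw [if_neg h, Fin.succAbove_of_le_castSucc _ _ (by simpa [Fin.le_def] using not_lt.1 h)]; rfl

theorem tri_sub {R : Type*} [CommRing R] (n : ℕ) (u : ℕ → R) (i : Fin (n + 1)) :
    (Tri (n + 1) u).submatrix i.succAbove i.succAbove =
      Tri n (fun a => if a + 1 = i.val then 0 else if a < i.val then u a else u (a + 1)) := by
  ext a b
  simp only [Matrix.submatrix_apply, Tri, succAbove_val]
  by_cases ha : a.val < i.val <;> by_cases hb : b.val < i.val <;>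
    simp only [ha, hb, if_true, if_false] <;>
    split_ifs <;> first | rfl | (exfalso; omega) | simp

/-- product of a two-valued step function. -/
theorem prod_step {R : Type*} [CommRing R] (x y : R) (r s : ℕ) (hs : s ≤ r) :
    ∏ j ∈ Finset.range r, (if j < s then x else y) = x ^ s * y ^ (r - s) := by
  rw [← Finset.prod_range_mul_prod_Ico _ hs]
  congr 1
  · rw [Finset.prod_congr rfl (fun j hj => if_pos (Finset.mem_range.1 hj))]
    simp
  · rw [Finset.prod_congr rfl (fun j hj => if_neg (not_lt.2 (Finset.mem_Ico.1 hj).1))]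
    simp

end Groth.Agent.H4.PfaffA
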