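import Mathlib
import Groth.Prelude.Def_W4c3degenlocivbPfaff
import Groth.Agent.H4.PfaffA

set_option autoImplicit false
open W4c3degenlocivb
open Groth.Agent.H4.PfaffA

namespace Groth.Agent.H4.PfaffB

universe u

variable (k : Type u) [Field k] (r : ℕ)

/-- index type of the coefficient variables. -/
abbrev II (r : ℕ) : Type := Fin (2 * r + 1) × Fin (2 * r + 1) × Fin 2

/-- universal matrix. -/
noncomputable def Nu : Matrix (Fin (2 * r + 1)) (Fin (2 * r + 1))
    (MvPolynomial (Fin 2) (MvPolynomial (II r) k)) :=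
  Matrix.of fun a b => ∑ l : Fin 2, MvPolynomial.C (MvPolynomial.X (a, b, l)) * MvPolynomial.X l

/-- specialised matrix. -/
noncomputable def Nc (c : Fin (2 * r + 1) → Fin (2 * r + 1) → Fin 2 → k) :
    Matrix (Fin (2 * r + 1)) (Fin (2 * r + 1)) (MvPolynomial (Fin 2) k) :=
  Matrix.of fun a b => ∑ l : Fin 2, MvPolynomial.C (c a b l) * MvPolynomial.X l

noncomputable def evc (c : Fin (2 * r + 1) → Fin (2 * r + 1) → Fin 2 → k) :
    MvPolynomial (II r) k →+* k :=
  MvPolynomial.eval (fun p => c p.1 p.2.1 p.2.2)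

theorem Nu_map (c : Fin (2 * r + 1) → Fin (2 * r + 1) → Fin 2 → k) :
    (Nu k r).map (MvPolynomial.map (evc k r c)) = Nc k r c := by
  ext a b : 2
  simp [Nu, Nc, evc]

noncomputable def Pu (i : Fin (2 * r + 1)) : MvPolynomial (Fin 2) (MvPolynomial (II r) k) :=
  pf (2 * r) ((Nu k r).submatrix i.succAbove i.succAbove)

noncomputable def Pc (c : Fin (2 * r + 1) → Fin (2 * r + 1) → Fin 2 → k) (i : Fin (2 * r + 1)) :
    MvPolynomial (Fin 2) k :=
  pf (2 * r) ((Nc k r c).submatrix i.succAbove i.succAbove)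

theorem Pc_eq (c : Fin (2 * r + 1) → Fin (2 * r + 1) → Fin 2 → k) (i : Fin (2 * r + 1)) :
    Pc k r c i = MvPolynomial.map (evc k r c) (Pu k r i) := by
  unfold Pc Pu
  rw [← pf_map, ← Nu_map]
  rfl

theorem Pc_homog (c : Fin (2 * r + 1) → Fin (2 * r + 1) → Fin 2 → k) (i : Fin (2 * r + 1)) :
    (Pc k r c i).IsHomogeneous r := by
  have h := pf_homog (2 * r) ((Nc k r c).submatrix i.succAbove i.succAbove) (fun a b => by
    simp only [Matrix.submatrix_apply, Nc, Matrix.of_apply]
    refine MvPolynomial.IsHomogeneous.sum _ _ _ fun l _ => ?_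
    have := (MvPolynomial.isHomogeneous_C (Fin 2) (c (i.succAbove a) (i.succAbove b) l)).mul
      (MvPolynomial.isHomogeneous_X k l)
    simpa using this)
  have e : 2 * r / 2 = r := Nat.mul_div_cancel_left r two_pos
  rw [e] at h
  exact h

/-- the monomial `y_0^j y_1^(r-j)`. -/
noncomputable def mono (j : ℕ) : Fin 2 →₀ ℕ := Finsupp.single 0 j + Finsupp.single 1 (r - j)

theorem mono_zero (j : ℕ) : mono r j 0 = j := by
  simp [mono]

theorem mono_one (j : ℕ) : mono r j 1 = r - j := by
  simp [mono]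

theorem mono_inj {j j' : ℕ} (h : mono r j = mono r j') : j = j' := by
  have := DFunLike.congr_fun h 0
  simpa [mono_zero] using this

theorem mono_degree (j : ℕ) (hj : j ≤ r) : (mono r j).degree = r := by
  rw [Finsupp.degree_eq_sum, Fin.sum_univ_two, mono_zero, mono_one]
  omega

theorem eq_mono (m : Fin 2 →₀ ℕ) (h : m.degree = r) : m = mono r (m 0) ∧ m 0 ≤ r := by
  rw [Finsupp.degree_eq_sum, Fin.sum_univ_two] at h
  refine ⟨?_, by omega⟩
  ext i
  fin_cases i
  · simp [mono_zero]
  · show m 1 = mono r (m 0) 1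
    rw [mono_one]; omega

noncomputable def idx (s : Fin (r + 1)) : Fin (2 * r + 1) := ⟨2 * s.val, by have := s.isLt; omega⟩

noncomputable def Phi : MvPolynomial (II r) k :=
  Matrix.det (Matrix.of fun (j s : Fin (r + 1)) =>
    MvPolynomial.coeff (mono r j.val) (Pu k r (idx r s)))

theorem eval_Phi (c : Fin (2 * r + 1) → Fin (2 * r + 1) → Fin 2 → k) :
    evc k r c (Phi k r) = Matrix.det (Matrix.of fun (j s : Fin (r + 1)) =>
      MvPolynomial.coeff (mono r j.val) (Pc k r c (idx r s))) := by
  unfold Phi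
  rw [RingHom.map_det]
  congr 1
  ext j s
  simp [Pc_eq, MvPolynomial.coeff_map]

/-- a binary form of degree `r` is the sum of its `r + 1` monomial terms. -/
theorem decomp {Q : MvPolynomial (Fin 2) k} (hQ : Q.IsHomogeneous r) :
    Q = ∑ j : Fin (r + 1), MvPolynomial.coeff (mono r j.val) Q •
      MvPolynomial.monomial (mono r j.val) (1 : k) := by
  classical
  ext m
  rw [MvPolynomial.coeff_sum]
  simp only [MvPolynomial.coeff_smul, MvPolynomial.coeff_monomial, smul_eq_mul]
  by_cases hm : m.degree = r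
  · obtain ⟨e, hle⟩ := eq_mono r m hm
    rw [Finset.sum_eq_single (⟨m 0, by omega⟩ : Fin (r + 1))]
    · simp only
      rw [← e, if_pos rfl, mul_one]
    · intro j _ hj
      rw [if_neg, mul_zero]
      intro h
      apply hj
      rw [e] at h
      exact Fin.ext (mono_inj r h)
    · intro h; exact absurd (Finset.mem_univ _) h
  · rw [hQ.coeff_eq_zero hm]
    symm
    apply Finset.sum_eq_zero
    intro j _
    rw [if_neg, mul_zero]
    intro h
    apply hm
    rw [← h]
    exact mono_degree r j.val (by have := j.isLt; omega)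

theorem span_of_det (P : Fin (r + 1) → MvPolynomial (Fin 2) k)
    (hP : ∀ s, (P s).IsHomogeneous r)
    (hdet : Matrix.det (Matrix.of fun (j s : Fin (r + 1)) =>
      MvPolynomial.coeff (mono r j.val) (P s)) ≠ 0) (j : Fin (r + 1)) :
    MvPolynomial.monomial (mono r j.val) (1 : k) ∈ Submodule.span k (Set.range P) := by
  classical
  set M : Matrix (Fin (r + 1)) (Fin (r + 1)) k := Matrix.of fun (j s : Fin (r + 1)) =>
    MvPolynomial.coeff (mono r j.val) (P s) with hM
  have hu : IsUnit M.det := isUnit_iff_ne_zero.2 hdet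
  have hMM : M * M⁻¹ = 1 := Matrix.mul_nonsing_inv M hu
  have hexp : ∀ s, P s = ∑ l : Fin (r + 1), M l s •
      MvPolynomial.monomial (mono r l.val) (1 : k) := fun s => decomp k r (hP s)
  have key : MvPolynomial.monomial (mono r j.val) (1 : k) = ∑ s, (M⁻¹ s j) • P s := by
    have e1 : MvPolynomial.monomial (mono r j.val) (1 : k) =
        ∑ l, (M * M⁻¹) l j • MvPolynomial.monomial (mono r l.val) (1 : k) := by
      rw [hMM]
      simp [Matrix.one_apply]
    rw [e1]
    simp only [Matrix.mul_apply, Finset.sum_smul]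
    rw [Finset.sum_comm]
    refine Finset.sum_congr rfl fun s _ => ?_
    conv_rhs => rw [hexp s]
    rw [Finset.smul_sum]
    refine Finset.sum_congr rfl fun l _ => ?_
    rw [smul_smul, mul_comm]
  rw [key]
  exact Submodule.sum_mem _ fun s _ =>
    Submodule.smul_mem _ _ (Submodule.subset_span ⟨s, rfl⟩)

end Groth.Agent.H4.PfaffB
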