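import Mathlib
import Groth.Prelude.Def_W4c3degenlocivbPfaff
import Groth.Agent.H4.PfaffA
import Groth.Agent.H4.PfaffB

set_option autoImplicit false
open W4c3degenlocivb
open Groth.Agent.H4.PfaffA Groth.Agent.H4.PfaffB

namespace Groth.Agent.H4.PfaffC

universe u

variable (k : Type u) [Field k] (r : ℕ)

/-- coefficient array of the tridiagonal example. -/
noncomputable def c0 : Fin (2 * r + 1) → Fin (2 * r + 1) → Fin 2 → k := fun a b l =>
  if b.val = a.val + 1 then (if l.val = a.val % 2 then 1 else 0)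
  else if a.val = b.val + 1 then (if l.val = b.val % 2 then -1 else 0) else 0

theorem c0_antisym (a b : Fin (2 * r + 1)) (l : Fin 2) : c0 k r b a l = - c0 k r a b l := by
  unfold c0
  by_cases h1 : b.val = a.val + 1
  · have h2 : ¬ a.val = b.val + 1 := by omega
    simp only [if_pos h1, if_neg h2]
    split_ifs <;> simp
  · by_cases h2 : a.val = b.val + 1
    · simp only [if_neg h1, if_pos h2]
      split_ifs <;> simp
    · simp only [if_neg h1, if_neg h2]
      simp

noncomputable def u0 : ℕ → MvPolynomial (Fin 2) k :=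
  fun a => MvPolynomial.X (⟨a % 2, Nat.mod_lt _ two_pos⟩ : Fin 2)

theorem sum_dir (d : Fin 2) (z : k) :
    ∑ l : Fin 2, MvPolynomial.C (if l.val = d.val then z else 0) * MvPolynomial.X l =
      MvPolynomial.C z * MvPolynomial.X d := by
  rw [Finset.sum_eq_single d]
  · simp
  · intro l _ hl
    rw [if_neg (fun h => hl (Fin.ext h))]; simp
  · intro h; exact absurd (Finset.mem_univ _) h

theorem Nc_c0 : Nc k r (c0 k r) = Tri (2 * r + 1) (u0 k) := by
  refine Matrix.ext fun a b => ?_
  simp only [Nc, Matrix.of_apply, Tri, c0]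
  by_cases h1 : b.val = a.val + 1
  · simp only [if_pos h1]
    exact (sum_dir k ⟨a.val % 2, Nat.mod_lt _ two_pos⟩ 1).trans (by simp [u0])
  · by_cases h2 : a.val = b.val + 1
    · simp only [if_neg h1, if_pos h2]
      exact (sum_dir k ⟨b.val % 2, Nat.mod_lt _ two_pos⟩ (-1)).trans (by simp [u0])
    · simp only [if_neg h1, if_neg h2]
      simp

theorem Pc_c0 (s : Fin (r + 1)) :
    Pc k r (c0 k r) (idx r s) = MvPolynomial.monomial (mono r s.val) 1 := by
  unfold Pc
  rw [Nc_c0, tri_sub, tri_pf]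
  beta_reduce
  have hs : s.val ≤ r := by have := s.isLt; omega
  have hi : (idx r s).val = 2 * s.val := rfl
  have key : ∀ j ∈ Finset.range r,
      (if 2 * j + 1 = (idx r s).val then 0
        else if 2 * j < (idx r s).val then u0 k (2 * j) else u0 k (2 * j + 1)) =
      if j < s.val then (MvPolynomial.X 0 : MvPolynomial (Fin 2) k) else MvPolynomial.X 1 := by
    intro j _
    rw [hi, if_neg (by omega)]
    by_cases hj : j < s.val
    · rw [if_pos (by omega), if_pos hj]
      have : (⟨2 * j % 2, Nat.mod_lt _ two_pos⟩ : Fin 2) = 0 := Fin.ext (by simp)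
      simp only [u0, this]
    · rw [if_neg (by omega), if_neg hj]
      have : (⟨(2 * j + 1) % 2, Nat.mod_lt _ two_pos⟩ : Fin 2) = 1 := Fin.ext (by simp)
      simp only [u0, this]
  rw [Finset.prod_congr rfl key, prod_step _ _ r s.val hs]
  rw [MvPolynomial.X_pow_eq_monomial, MvPolynomial.X_pow_eq_monomial, MvPolynomial.monomial_mul,
    one_mul]
  rfl

theorem Phi_c0 : evc k r (c0 k r) (Phi k r) ≠ 0 := by
  classical
  rw [eval_Phi]
  have : (Matrix.of fun (j s : Fin (r + 1)) =>
      MvPolynomial.coeff (mono r j.val) (Pc k r (c0 k r) (idx r s))) =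
      (1 : Matrix (Fin (r + 1)) (Fin (r + 1)) k) := by
    ext j s
    rw [Matrix.of_apply, Pc_c0, MvPolynomial.coeff_monomial, Matrix.one_apply]
    by_cases h : j = s
    · subst h; simp
    · rw [if_neg h, if_neg]
      intro h'
      exact h (Fin.ext (mono_inj r h')).symm
  rw [this, Matrix.det_one]
  exact one_ne_zero

theorem main :
    ∃ Φ : MvPolynomial (Fin (2 * r + 1) × Fin (2 * r + 1) × Fin 2) k,
      (∃ c : Fin (2 * r + 1) → Fin (2 * r + 1) → Fin 2 → k, (∀ i j l, c j i l = -c i j l) ∧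
        MvPolynomial.eval (fun p => c p.1 p.2.1 p.2.2) Φ ≠ 0) ∧
      ∀ c : Fin (2 * r + 1) → Fin (2 * r + 1) → Fin 2 → k, (∀ i j l, c j i l = -c i j l) →
        MvPolynomial.eval (fun p => c p.1 p.2.1 p.2.2) Φ ≠ 0 →
        Submodule.span k (Set.range fun i : Fin (2 * r + 1) =>
            W4c3degenlocivb.pf (2 * r) ((Matrix.of fun a b => ∑ l : Fin 2,
              MvPolynomial.C (c a b l) * MvPolynomial.X l).submatrix i.succAbove i.succAbove)) =
          MvPolynomial.homogeneousSubmodule (Fin 2) k r := by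
  refine ⟨Phi k r, ⟨c0 k r, fun i j l => c0_antisym k r i j l, Phi_c0 k r⟩, ?_⟩
  intro c _ hc
  have hc' : evc k r c (Phi k r) ≠ 0 := hc
  rw [eval_Phi] at hc'
  show Submodule.span k (Set.range (Pc k r c)) = _
  apply le_antisymm
  · rw [Submodule.span_le]
    rintro _ ⟨i, rfl⟩
    exact (MvPolynomial.mem_homogeneousSubmodule _ _).2 (Pc_homog k r c i)
  · intro Q hQ
    have hQ' : Q.IsHomogeneous r := (MvPolynomial.mem_homogeneousSubmodule _ _).1 hQ
    rw [decomp k r hQ']
    refine Submodule.sum_mem _ fun j _ => Submodule.smul_mem _ _ ?_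
    have := span_of_det k r (fun s => Pc k r c (idx r s)) (fun s => Pc_homog k r c _) hc' j
    refine Submodule.span_mono ?_ this
    rintro _ ⟨s, rfl⟩
    exact ⟨idx r s, rfl⟩

end Groth.Agent.H4.PfaffC
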