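import Mathlib
import Groth.Agent.H4.FittMor7
import Groth.Agent.H4.FittMor6
import Groth.Agent.Lib.Helper5.Glue.P3

set_option autoImplicit false
universe u
open CategoryTheory Limits AlgebraicGeometry TopologicalSpace Opposite

namespace Groth.Agent.H4.PicDim1
open Groth.Agent.LD Groth.Agent.H5.Glue

/-! ## Pure algebra -/

theorem coset_avoid {R : Type u} [CommRing R] (J : Ideal R) (ρ : R) (Q : Finset (PrimeSpectrum R))
    (hinc : ∀ q ∈ Q, ∀ q' ∈ Q, q.asIdeal ≤ q'.asIdeal → q = q')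
    (hJ : ∀ q ∈ Q, J ≤ q.asIdeal → ρ ∉ q.asIdeal) :
    ∃ j ∈ J, ∀ q ∈ Q, ρ + j ∉ q.asIdeal := by
  classical
  induction Q using Finset.induction_on with
  | empty => exact ⟨0, J.zero_mem, fun q hq => absurd hq (Finset.notMem_empty q)⟩
  | insert q₀ Q' hq₀ ih =>
    obtain ⟨j', hj'J, hj'⟩ := ih
      (fun q hq q' hq' => hinc q (Finset.mem_insert_of_mem hq) q' (Finset.mem_insert_of_mem hq'))
      (fun q hq => hJ q (Finset.mem_insert_of_mem hq))
    by_cases h0 : ρ + j' ∈ q₀.asIdeal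
    · have hnle : ¬ (J ⊓ Q'.inf (fun q => q.asIdeal)) ≤ q₀.asIdeal := by
        intro hle
        rcases (Ideal.IsPrime.inf_le q₀.isPrime).mp hle with h1 | h1
        · have h2 := hJ q₀ (Finset.mem_insert_self _ _) h1
          apply h2
          have h3 : ρ = (ρ + j') - j' := by ring
          rw [h3]
          exact q₀.asIdeal.sub_mem h0 (h1 hj'J)
        · obtain ⟨q, hq, hqle⟩ := (Ideal.IsPrime.inf_le' q₀.isPrime).mp h1
          have h3 := hinc q (Finset.mem_insert_of_mem hq) q₀ (Finset.mem_insert_self _ _) hqle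
          rw [h3] at hq
          exact hq₀ hq
      obtain ⟨a, haJ, ha0⟩ := SetLike.not_le_iff_exists.mp hnle
      refine ⟨j' + a, J.add_mem hj'J haJ.1, fun q hq => ?_⟩
      rcases Finset.mem_insert.mp hq with hq0 | hq
      · rw [hq0]
        intro h
        apply ha0
        have h3 : a = (ρ + (j' + a)) - (ρ + j') := by ring
        rw [h3]
        exact q₀.asIdeal.sub_mem h h0
      · intro h
        apply hj' q hq
        have haq : a ∈ q.asIdeal :=
          (Finset.inf_le hq : Q'.inf (fun q => q.asIdeal) ≤ q.asIdeal) haJ.2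
        have h3 : ρ + j' = (ρ + (j' + a)) - a := by ring
        rw [h3]
        exact q.asIdeal.sub_mem h haq
    · refine ⟨j', hj'J, fun q hq => ?_⟩
      rcases Finset.mem_insert.mp hq with hq0 | hq
      · rw [hq0]; exact h0
      · exact hj' q hq

theorem alg_main {R S : Type u} [CommRing R] [IsNoetherianRing R] [Ring.KrullDimLE 1 R]
    [CommRing S] [Algebra R S] (m : Ideal R) [hm : m.IsPrime] (s' : R) (hs' : s' ∈ m)
    [IsLocalization.Away s' S] (J : Ideal S) (r r' : S) (hrr : r * r' - 1 ∈ J) :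
    ∃ t : R, t ∉ m ∧ ∃ j ∈ J, ∃ w : S, (r + j) * w = algebraMap R S t := by
  classical
  obtain ⟨u, hu⟩ : ∃ u : S, u = algebraMap R S s' := ⟨_, rfl⟩
  have huu : IsUnit u := by rw [hu]; exact IsLocalization.Away.algebraMap_isUnit s'
  obtain ⟨v, hv⟩ := huu.exists_right_inv
  obtain ⟨n, ρ, hρ⟩ := IsLocalization.Away.surj s' r
  obtain ⟨n', ρ', hρ'⟩ := IsLocalization.Away.surj s' r'
  rw [← hu] at hρ hρ'
  obtain ⟨JR, hJR⟩ : ∃ JR : Ideal R, JR = J.comap (algebraMap R S) := ⟨_, rfl⟩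
  have hmemJR : ∀ x : R, x ∈ JR ↔ algebraMap R S x ∈ J := fun x => by rw [hJR, Ideal.mem_comap]
  have h1 : ρ * ρ' - s' ^ (n + n') ∈ JR := by
    rw [hmemJR, map_sub, map_mul, map_pow, ← hu, ← hρ, ← hρ']
    have h2 : r * u ^ n * (r' * u ^ n') - u ^ (n + n') = (r * r' - 1) * u ^ (n + n') := by ring
    rw [h2]
    exact J.mul_mem_right _ hrr
  have hfinQ : {q : PrimeSpectrum R | q.asIdeal ∈ minimalPrimes R ∧ q.asIdeal ≤ m ∧
      s' ∉ q.asIdeal}.Finite := by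
    refine Set.Finite.subset ((minimalPrimes.finite_of_isNoetherianRing R).preimage
      (f := PrimeSpectrum.asIdeal) ?_) (fun q hq => hq.1)
    intro q _ q' _ h
    exact PrimeSpectrum.ext h
  obtain ⟨Q, hQ⟩ : ∃ Q : Finset (PrimeSpectrum R), ∀ q, q ∈ Q ↔
      (q.asIdeal ∈ minimalPrimes R ∧ q.asIdeal ≤ m ∧ s' ∉ q.asIdeal) :=
    ⟨hfinQ.toFinset, fun q => by rw [Set.Finite.mem_toFinset]; rfl⟩
  obtain ⟨jR, hjR, hav⟩ := coset_avoid JR ρ Q
    (fun q hq q' hq' hle => by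
      have h2 := ((hQ q').mp hq').1
      have h3 : q'.asIdeal ≤ q.asIdeal := h2.2 ⟨q.isPrime, bot_le⟩ hle
      exact PrimeSpectrum.ext (le_antisymm hle h3))
    (fun q hq hle hρq => by
      have h2 := ((hQ q).mp hq).2.2
      apply h2
      have h3 : s' ^ (n + n') ∈ q.asIdeal := by
        have h4 : s' ^ (n + n') = ρ * ρ' - (ρ * ρ' - s' ^ (n + n')) := by ring
        rw [h4]
        exact q.asIdeal.sub_mem (q.asIdeal.mul_mem_right _ hρq) (hle h1)
      exact q.isPrime.mem_of_pow_mem _ h3)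
  obtain ⟨ρ₁, hρ₁⟩ : ∃ ρ₁ : R, ρ₁ = ρ + jR := ⟨_, rfl⟩
  have hstep2 : ∃ t : R, t ∉ m ∧ ∃ (N : ℕ) (x : R), t * s' ^ N = ρ₁ * x := by
    by_contra hcon
    push Not at hcon
    obtain ⟨M, hM⟩ : ∃ M : Submonoid R, M = m.primeCompl ⊔ Submonoid.powers s' := ⟨_, rfl⟩
    have hdisj : Disjoint ((Ideal.span {ρ₁} : Ideal R) : Set R) (M : Set R) := by
      rw [Set.disjoint_left]
      intro y hy hyM
      rw [SetLike.mem_coe, hM] at hyM
      obtain ⟨t, ht, z, ⟨N, rfl⟩, rfl⟩ := Submonoid.mem_sup.mp hyM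
      obtain ⟨x, hx⟩ := Ideal.mem_span_singleton'.mp hy
      exact hcon t ht N x (by rw [← hx]; ring)
    obtain ⟨q, hqprime, hIq, hqM⟩ := Ideal.exists_le_prime_disjoint (Ideal.span {ρ₁}) M hdisj
    have hs'q : s' ∉ q := by
      intro h
      refine Set.disjoint_left.mp hqM h ?_
      rw [SetLike.mem_coe, hM]
      exact Submonoid.mem_sup_right (Submonoid.mem_powers s')
    have hqm : q ≤ m := by
      intro x hx
      by_contra hxm
      refine Set.disjoint_left.mp hqM hx ?_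
      rw [SetLike.mem_coe, hM]
      exact Submonoid.mem_sup_left hxm
    have hqmin : q ∈ minimalPrimes R := by
      rcases Ring.krullDimLE_one_iff.mp inferInstance q hqprime with h | h
      · exact h
      · exfalso
        have h5 : q = m := h.eq_of_le hm.ne_top hqm
        rw [h5] at hs'q
        exact hs'q hs'
    have hqQ : (⟨q, hqprime⟩ : PrimeSpectrum R) ∈ Q := (hQ _).mpr ⟨hqmin, hqm, hs'q⟩
    apply hav _ hqQ
    show ρ + jR ∈ q
    rw [← hρ₁]
    exact hIq (Ideal.mem_span_singleton_self ρ₁)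
  obtain ⟨t, htm, N, x, htx⟩ := hstep2
  have hvn : ∀ k : ℕ, u ^ k * v ^ k = 1 := fun k => by rw [← mul_pow, hv, one_pow]
  have hr : r = algebraMap R S ρ * v ^ n := by
    calc r = r * (u ^ n * v ^ n) := by rw [hvn, mul_one]
      _ = (r * u ^ n) * v ^ n := by ring
      _ = algebraMap R S ρ * v ^ n := by rw [hρ]
  refine ⟨t, htm, algebraMap R S jR * v ^ n, J.mul_mem_right _ ((hmemJR jR).mp hjR),
    algebraMap R S x * u ^ n * v ^ N, ?_⟩
  have h2 : algebraMap R S t * u ^ N = algebraMap R S ρ₁ * algebraMap R S x := by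
    rw [hu, ← map_pow, ← map_mul, ← map_mul, htx]
  calc (r + algebraMap R S jR * v ^ n) * (algebraMap R S x * u ^ n * v ^ N)
      = (algebraMap R S ρ + algebraMap R S jR) * algebraMap R S x * (u ^ n * v ^ n) * v ^ N := by
        rw [hr]; ring
    _ = algebraMap R S ρ₁ * algebraMap R S x * v ^ N := by
        rw [hvn, mul_one, hρ₁, map_add]
    _ = algebraMap R S t * (u ^ N * v ^ N) := by rw [← h2]; ring
    _ = algebraMap R S t := by rw [hvn, mul_one]

theorem alg4 {R : Type u} [CommRing R] [IsNoetherianRing R] [Ring.KrullDimLE 1 R] (m : Ideal R)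
    [hm : m.IsMaximal] :
    ∃ s' ∈ m, ∃ s : R, s ∉ m ∧ ∀ q : Ideal R, q.IsPrime → s' ∈ q → s ∉ q → q = m := by
  classical
  have hfinF : {q : PrimeSpectrum R | q.asIdeal ∈ minimalPrimes R ∧ q.asIdeal ≠ m}.Finite := by
    refine Set.Finite.subset ((minimalPrimes.finite_of_isNoetherianRing R).preimage
      (f := PrimeSpectrum.asIdeal) ?_) (fun q hq => hq.1)
    intro q _ q' _ h
    exact PrimeSpectrum.ext h
  obtain ⟨s', hs'm, hs'F⟩ := Groth.Agent.H4.FittMor6.exists_mem_avoid m hfinF.toFinset (by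
    intro p hp hle
    rw [Set.Finite.mem_toFinset] at hp
    exact hp.2 (hm.eq_of_le p.isPrime.ne_top hle).symm)
  have hfinG : {q : PrimeSpectrum R | q.asIdeal ∈ (Ideal.span {s'}).minimalPrimes ∧
      q.asIdeal ≠ m}.Finite := by
    refine Set.Finite.subset
      (((Ideal.span {s'}).finite_minimalPrimes_of_isNoetherianRing R).preimage
      (f := PrimeSpectrum.asIdeal) ?_) (fun q hq => hq.1)
    intro q _ q' _ h
    exact PrimeSpectrum.ext h
  have hGmax : ∀ q ∈ hfinG.toFinset, q.asIdeal.IsMaximal := by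
    intro q hq
    rw [Set.Finite.mem_toFinset] at hq
    have hs'q : s' ∈ q.asIdeal := hq.1.1.2 (Ideal.mem_span_singleton_self s')
    rcases Ring.krullDimLE_one_iff.mp inferInstance q.asIdeal q.isPrime with h | h
    · exfalso
      exact hs'F q (by rw [Set.Finite.mem_toFinset]; exact ⟨h, hq.2⟩) hs'q
    · exact h
  obtain ⟨s, hsG, hsm⟩ := Groth.Agent.H4.FittMor6.exists_mem_avoid
    (hfinG.toFinset.inf (fun q => q.asIdeal)) {(⟨m, hm.isPrime⟩ : PrimeSpectrum R)} (by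
    intro p hp hle
    rw [Finset.mem_singleton] at hp
    rw [hp] at hle
    obtain ⟨q, hq, hqle⟩ := (Ideal.IsPrime.inf_le' hm.isPrime).mp hle
    have h1 := (hGmax q hq).eq_of_le hm.ne_top hqle
    rw [Set.Finite.mem_toFinset] at hq
    exact hq.2 h1)
  refine ⟨s', hs'm, s, hsm _ (Finset.mem_singleton_self _), fun q hq hs'q hsq => ?_⟩
  haveI := hq
  obtain ⟨q₀, hq₀, hq₀le⟩ := Ideal.exists_minimalPrimes_le (I := Ideal.span {s'}) (J := q)
    ((Ideal.span_singleton_le_iff_mem _).mpr hs'q)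
  by_cases h0 : q₀ = m
  · rw [h0] at hq₀le
    exact (hm.eq_of_le hq.ne_top hq₀le).symm
  · exfalso
    apply hsq
    apply hq₀le
    have hmem : (⟨q₀, hq₀.1.1⟩ : PrimeSpectrum R) ∈ hfinG.toFinset := by
      rw [Set.Finite.mem_toFinset]; exact ⟨hq₀, h0⟩
    exact (Finset.inf_le hmem : hfinG.toFinset.inf (fun q => q.asIdeal) ≤ q₀) hsG

/-! ## Topology -/

theorem d1 {Y : Type*} [TopologicalSpace Y] [T0Space Y] (h : topologicalKrullDim Y ≤ 1)
    (x₀ x₁ x₂ : Y) (h01 : x₀ ⤳ x₁) (h12 : x₁ ⤳ x₂) : x₀ = x₁ ∨ x₁ = x₂ := by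
  let c : Y → IrreducibleCloseds Y := fun x =>
    ⟨closure {x}, isIrreducible_singleton.closure, isClosed_closure⟩
  have hle : ∀ a b : Y, a ⤳ b → c b ≤ c a := fun a b hab => by
    show closure {b} ⊆ closure {a}
    exact specializes_iff_closure_subset.mp hab
  have hsp : ∀ a b : Y, c b ≤ c a → a ⤳ b := fun a b hab => by
    have h1 : closure {b} ⊆ closure {a} := hab
    exact specializes_iff_closure_subset.mpr h1
  rcases (Order.krullDim_le_one_iff.mp h) (c x₁) with hmin | hmax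
  · right
    exact (h12.antisymm (hsp x₂ x₁ (hmin (hle x₁ x₂ h12)))).eq
  · left
    exact (h01.antisymm (hsp x₁ x₀ (hmax (hle x₀ x₁ h01)))).eq

theorem krullDimLE_sections {Y : Scheme.{u}} (hdim : topologicalKrullDim Y ≤ 1) {A : Y.Opens}
    (hA : IsAffineOpen A) : Ring.KrullDimLE 1 Γ(Y, A) := by
  rw [Ring.krullDimLE_iff, Nat.cast_one, ← PrimeSpectrum.topologicalKrullDim_eq_ringKrullDim]
  exact (hA.fromSpec.isOpenEmbedding.toIsEmbedding.toIsInducing.topologicalKrullDim_le).trans hdim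

section PP
variable {Y : Scheme.{u}} {A : Y.Opens} (hA : IsAffineOpen A)

theorem mem_basicOpen_iff (g : Γ(Y, A)) (z : Y) (hz : z ∈ A) :
    z ∈ Y.basicOpen g ↔ g ∉ (hA.primeIdealOf ⟨z, hz⟩).asIdeal := by
  have h1 := hA.fromSpec_preimage_basicOpen g
  have h2 : hA.fromSpec (hA.primeIdealOf ⟨z, hz⟩) = z := hA.fromSpec_primeIdealOf ⟨z, hz⟩
  constructor
  · intro h
    have h3 : hA.primeIdealOf ⟨z, hz⟩ ∈ hA.fromSpec ⁻¹ᵁ Y.basicOpen g := by
      show hA.fromSpec (hA.primeIdealOf ⟨z, hz⟩) ∈ Y.basicOpen g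
      rw [h2]; exact h
    rw [h1] at h3
    exact (PrimeSpectrum.mem_basicOpen g _).mp h3
  · intro h
    have h3 : hA.primeIdealOf ⟨z, hz⟩ ∈ hA.fromSpec ⁻¹ᵁ Y.basicOpen g := by
      rw [h1]; exact (PrimeSpectrum.mem_basicOpen g _).mpr h
    have h4 : hA.fromSpec (hA.primeIdealOf ⟨z, hz⟩) ∈ Y.basicOpen g := h3
    rw [h2] at h4; exact h4

theorem eq_of_primeIdealOf_eq (z z' : Y) (hz : z ∈ A) (hz' : z' ∈ A)
    (h : (hA.primeIdealOf ⟨z, hz⟩).asIdeal = (hA.primeIdealOf ⟨z', hz'⟩).asIdeal) : z = z' := by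
  have h1 : hA.primeIdealOf ⟨z, hz⟩ = hA.primeIdealOf ⟨z', hz'⟩ := PrimeSpectrum.ext h
  have h2 : hA.fromSpec (hA.primeIdealOf ⟨z, hz⟩) = z := hA.fromSpec_primeIdealOf ⟨z, hz⟩
  have h3 : hA.fromSpec (hA.primeIdealOf ⟨z', hz'⟩) = z' := hA.fromSpec_primeIdealOf ⟨z', hz'⟩
  rw [h1, h3] at h2
  exact h2.symm

end PP

theorem app_surjective_of_isClosedImmersion_restrict {X Y : Scheme.{u}} (f : X ⟶ Y) (V : Y.Opens)
    [hV : IsClosedImmersion (f ∣_ V)] (W : Y.Opens) (hWaff : IsAffineOpen W) (hW : W ≤ V) :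
    Function.Surjective (f.app W).hom := by
  have h3 : V.ι ''ᵁ V.ι ⁻¹ᵁ W = W := by
    rw [Scheme.Hom.image_preimage_eq_opensRange_inf, Scheme.Opens.opensRange_ι]
    exact inf_eq_right.mpr hW
  have haff : IsAffineOpen (V.ι ⁻¹ᵁ W) := by
    rw [← Scheme.Hom.isAffineOpen_iff_of_isOpenImmersion V.ι, h3]; exact hWaff
  have h1 := (isClosedImmersion_iff_isAffineHom.mp hV).2 _ haff
  rw [morphismRestrict_app] at h1
  have key : ∀ W' : Y.Opens, W' = W → Function.Surjective (f.app W').hom →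
      Function.Surjective (f.app W).hom := by
    intro W' hW' h; subst hW'; exact h
  refine key _ h3 ?_
  intro b
  have hiso : Function.Bijective (X.presheaf.map
      (eqToHom (image_morphismRestrict_preimage f V (V.ι ⁻¹ᵁ W))).op).hom :=
    (ConcreteCategory.isIso_iff_bijective _).mp inferInstance
  obtain ⟨a, ha⟩ := h1 ((X.presheaf.map
      (eqToHom (image_morphismRestrict_preimage f V (V.ι ⁻¹ᵁ W))).op).hom b)
  exact ⟨a, hiso.1 ha⟩

theorem exists_maxpts {Y : Scheme.{u}} [IsNoetherian Y] :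
    ∃ E : Finset Y, (∀ e ∈ E, ∀ x : Y, x ⤳ e → x = e) ∧
      (∀ z : Y, (∀ x : Y, x ⤳ z → x = z) → z ∈ E) ∧
      (∀ V : Y.Opens, Dense (V : Set Y) → ∀ e ∈ E, e ∈ V) := by
  classical
  have hfinC : (irreducibleComponents Y).Finite := NoetherianSpace.finite_irreducibleComponents
  have hfinE : {e : Y | closure {e} ∈ irreducibleComponents Y}.Finite := by
    refine Set.Finite.of_injOn (f := fun e : Y => closure ({e} : Set Y)) (fun e he => he) ?_ hfinC
    intro e _ e' _ h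
    have h' : closure ({e} : Set Y) = closure {e'} := h
    have h1 : e ⤳ e' := specializes_iff_closure_subset.mpr (by rw [h'])
    have h2 : e' ⤳ e := specializes_iff_closure_subset.mpr (by rw [h'])
    exact (h1.antisymm h2).eq
  refine ⟨hfinE.toFinset, ?_, ?_, ?_⟩
  · intro e he x hx
    rw [Set.Finite.mem_toFinset] at he
    have he' : closure {e} ∈ irreducibleComponents Y := he
    have h1 : closure {e} ⊆ closure {x} := specializes_iff_closure_subset.mp hx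
    have h2 : closure {x} ⊆ closure {e} := he'.2 (isIrreducible_singleton.closure) h1
    exact (hx.antisymm (specializes_iff_closure_subset.mpr h2)).eq
  · intro z hz
    rw [Set.Finite.mem_toFinset]
    show closure {z} ∈ irreducibleComponents Y
    have hZ := irreducibleComponent_mem_irreducibleComponents z
    obtain ⟨x, hx⟩ := QuasiSober.sober (isIrreducible_irreducibleComponent (x := z))
      isClosed_irreducibleComponent
    have hzx : x ⤳ z := by
      rw [specializes_iff_mem_closure, hx.def]; exact mem_irreducibleComponent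
    have h5 := hz x hzx
    rw [← h5, hx.def]; exact hZ
  · intro V hV e he
    rw [Set.Finite.mem_toFinset] at he
    obtain ⟨o, ho, hone, hoZ⟩ :=
      NoetherianSpace.exists_isOpen_nonempty_subset_irreducibleComponent _ he
    obtain ⟨p, hpo, hpV⟩ := hV.inter_open_nonempty o ho hone
    have h1 : e ⤳ p := specializes_iff_mem_closure.mpr (hoZ hpo)
    exact h1.mem_open V.isOpen hpV

theorem finite_closedPts {Y : Scheme.{u}} [IsNoetherian Y] (hdim : topologicalKrullDim Y ≤ 1)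
    (A₀ : Y.Opens) (hgen : ∀ z : Y, (∀ x : Y, x ⤳ z → x = z) → z ∈ A₀) :
    ((A₀ : Set Y)ᶜ).Finite ∧ ∀ z : Y, z ∉ A₀ → IsClosed ({z} : Set Y) := by
  have hcl : ∀ z : Y, z ∉ A₀ → IsClosed ({z} : Set Y) := by
    intro z hz
    have h1 : ¬ ∀ x : Y, x ⤳ z → x = z := fun h => hz (hgen z h)
    push Not at h1
    obtain ⟨x, hxz, hne⟩ := h1
    rw [← closure_subset_iff_isClosed]
    intro z' hz'
    have h2 : z ⤳ z' := specializes_iff_mem_closure.mpr hz'
    rcases d1 hdim x z z' hxz h2 with h | h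
    · exact absurd h hne
    · exact Set.mem_singleton_iff.mpr h.symm
  refine ⟨?_, hcl⟩
  obtain ⟨S, hSfin, hScl, hSirr, hSU⟩ := NoetherianSpace.exists_finite_set_isClosed_irreducible
    (s := (A₀ : Set Y)ᶜ) A₀.isOpen.isClosed_compl
  rw [hSU]
  refine Set.Finite.sUnion hSfin (fun t ht => ?_)
  obtain ⟨x, hx⟩ := QuasiSober.sober (hSirr t ht) (hScl t ht)
  have hxt : x ∈ t := by rw [← hx.def]; exact subset_closure (Set.mem_singleton x)
  have hxA : x ∉ A₀ := by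
    have h5 : x ∈ (A₀ : Set Y)ᶜ := by rw [hSU]; exact ⟨t, ht, hxt⟩
    exact h5
  have h6 : t = {x} := by rw [← hx.def]; exact (hcl x hxA).closure_eq
  rw [h6]; exact Set.finite_singleton x

theorem exists_A0 {X Y : Scheme.{u}} (f : X ⟶ Y) [IsFinite f] [IsNoetherian Y] (V : Y.Opens)
    (hV : Dense (V : Set Y)) (L : X.Modules) (hL : PicF.IsInvertible L) :
    ∃ A₀ : Y.Opens, A₀ ≤ V ∧ (∀ z : Y, (∀ x : Y, x ⤳ z → x = z) → z ∈ A₀) ∧
      ∃ e₀ : Γ(L, f ⁻¹ᵁ A₀), QC.IsBasisOver L (f ⁻¹ᵁ A₀) e₀ := by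
  classical
  obtain ⟨E, hE1, hE2, hE3⟩ := exists_maxpts (Y := Y)
  obtain ⟨W, hW, hWV, hEW⟩ :=
    Groth.Agent.H4.FittMor7.exists_affine_of_generic V E (hE3 V hV) hE1
  have hW' : IsAffineOpen (f ⁻¹ᵁ W) := hW.preimage f
  have hZfin : (f ⁻¹' (E : Set Y)).Finite :=
    Set.Finite.preimage' E.finite_toSet (fun y _ => f.finite_preimage_singleton y)
  have hZW : f ⁻¹' (E : Set Y) ⊆ (f ⁻¹ᵁ W : X.Opens) := fun x hx => hEW _ hx
  obtain ⟨U', hZU', hU'W, ⟨φ⟩⟩ := QC.exists_free_nhds_of_finite 1 L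
    ((QC.isInvertible_iff L).mp hL) _ hZfin _ hW' hZW
  have hC : IsClosed (f '' ((U' : Set X)ᶜ)) := f.isClosedMap _ U'.2.isClosed_compl
  let O : Y.Opens := ⟨(f '' ((U' : Set X)ᶜ))ᶜ, hC.isOpen_compl⟩
  have hOU' : f ⁻¹ᵁ (W ⊓ O) ≤ U' := by
    intro z hz
    by_contra hzU'
    exact hz.2 ⟨z, hzU', rfl⟩
  refine ⟨W ⊓ O, inf_le_left.trans hWV, fun z hz => ?_, ?_⟩
  · have hzE := hE2 z hz
    refine ⟨hEW z hzE, ?_⟩
    rintro ⟨x, hx, hxz⟩
    exact hx (hZU' (show f x ∈ (E : Set Y) by rw [hxz]; exact hzE))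
  · obtain ⟨ψ⟩ := QC.freeMod_of_range_subset L U'.ι (f ⁻¹ᵁ (W ⊓ O)).ι (by
      rw [Scheme.Opens.range_ι, Scheme.Opens.range_ι]; exact hOU') 1 φ
    exact ⟨_, QC.isBasisOver_basisOfIso L (f ⁻¹ᵁ (W ⊓ O)) (ψ ≪≫ QC.freeModOneIso _).symm⟩


theorem exists_local_data {X Y : Scheme.{u}} (f : X ⟶ Y) [IsFinite f] [IsNoetherian Y]
    (hdim : topologicalKrullDim Y ≤ 1) (V : Y.Opens) [hfV : IsClosedImmersion (f ∣_ V)]
    (L : X.Modules) (hL : PicF.IsInvertible L) (A₀ : Y.Opens) (hA₀V : A₀ ≤ V)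
    (hfin : ((A₀ : Set Y)ᶜ).Finite) (hcl : ∀ z : Y, z ∉ A₀ → IsClosed ({z} : Set Y))
    (e₀ : Γ(L, f ⁻¹ᵁ A₀)) (he₀ : QC.IsBasisOver L (f ⁻¹ᵁ A₀) e₀) (a : Y) :
    ∃ W : Y.Opens, a ∈ W ∧ (∀ z ∈ W, z ∉ A₀ → z = a) ∧
      ∃ e : Γ(L, f ⁻¹ᵁ W), QC.IsBasisOver L (f ⁻¹ᵁ W) e ∧
      ∃ h hi : Γ(Y, W ⊓ A₀), h * hi = 1 ∧
        mres L (show f ⁻¹ᵁ (W ⊓ A₀) ≤ f ⁻¹ᵁ A₀ from fun _ hx => hx.2) e₀ =
          (f.appLE (W ⊓ A₀) (f ⁻¹ᵁ (W ⊓ A₀)) le_rfl).hom h •
            mres L (show f ⁻¹ᵁ (W ⊓ A₀) ≤ f ⁻¹ᵁ W from fun _ hx => hx.1) e := by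
  classical
  by_cases haA₀ : a ∈ A₀
  · refine ⟨A₀, haA₀, fun z hzW hz => absurd hzW hz, e₀, he₀, 1, 1, one_mul 1, ?_⟩
    rw [map_one, one_smul]
  · -- step 1: a neighbourhood meeting the bad set only in `a`
    have hclS : IsClosed ((A₀ : Set Y)ᶜ \ {a}) := by
      have h1 : ((A₀ : Set Y)ᶜ \ {a}) = ⋃ z ∈ ((A₀ : Set Y)ᶜ \ {a}), ({z} : Set Y) := by
        rw [Set.biUnion_of_singleton]
      rw [h1]
      exact (hfin.subset Set.sdiff_subset).isClosed_biUnion (fun z hz => hcl z hz.1)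
    obtain ⟨Oa, hOadef⟩ : ∃ Oa : Y.Opens, (Oa : Set Y) = ((A₀ : Set Y)ᶜ \ {a})ᶜ :=
      ⟨⟨_, hclS.isOpen_compl⟩, rfl⟩
    have haOa : a ∈ Oa := by
      show a ∈ (Oa : Set Y)
      rw [hOadef]
      exact fun h => h.2 rfl
    have hOa : ∀ z ∈ Oa, z ∉ A₀ → z = a := by
      intro z hz hzA
      by_contra hne
      have hz' : z ∈ (Oa : Set Y) := hz
      rw [hOadef] at hz'
      exact hz' ⟨hzA, hne⟩
    -- step 2
    obtain ⟨W', haW', ⟨φ⟩⟩ := QC.exists_trivial_preimage_of_isFinite f L hL a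
    obtain ⟨b, hbdef⟩ : ∃ b : Γ(L, f ⁻¹ᵁ W'), b = QC.basisOfIso L (f ⁻¹ᵁ W') φ.symm.hom :=
      ⟨_, rfl⟩
    have hb : QC.IsBasisOver L (f ⁻¹ᵁ W') b := by
      rw [hbdef]; exact QC.isBasisOver_basisOfIso L (f ⁻¹ᵁ W') φ.symm
    -- step 3
    obtain ⟨A₁, hA₁, haA₁, hA₁le⟩ := exists_isAffineOpen_mem_and_subset (x := a)
      (U := W' ⊓ Oa) ⟨haW', haOa⟩
    -- step 4
    haveI : IsNoetherianRing Γ(Y, A₁) := IsLocallyNoetherian.component_noetherian ⟨A₁, hA₁⟩
    haveI : Ring.KrullDimLE 1 Γ(Y, A₁) := krullDimLE_sections hdim hA₁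
    haveI hmax : (hA₁.primeIdealOf ⟨a, haA₁⟩).asIdeal.IsMaximal :=
      hA₁.primeIdealOf_isMaximal_of_isClosed ⟨a, haA₁⟩ (hcl a haA₀)
    obtain ⟨s'₁, hs'₁m, s, hsm, hss⟩ := alg4 (hA₁.primeIdealOf ⟨a, haA₁⟩).asIdeal
    -- step 5
    obtain ⟨A, hAdef⟩ : ∃ A : Y.Opens, A = Y.basicOpen s := ⟨_, rfl⟩
    have hAA₁ : A ≤ A₁ := by rw [hAdef]; exact Y.basicOpen_le s
    have hA : IsAffineOpen A := by rw [hAdef]; exact hA₁.basicOpen s
    have haA : a ∈ A := by rw [hAdef]; exact (mem_basicOpen_iff hA₁ s a haA₁).mpr hsm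
    obtain ⟨s', hs'def⟩ : ∃ s' : Γ(Y, A), s' = res hAA₁ s'₁ := ⟨_, rfl⟩
    have hbo : Y.basicOpen s' = A ⊓ Y.basicOpen s'₁ := by
      rw [hs'def]; exact Scheme.basicOpen_res Y s'₁ (homOfLE hAA₁).op
    have hD : Y.basicOpen s' = A ⊓ A₀ := by
      rw [hbo]
      ext z
      constructor
      · rintro ⟨hzA, hz⟩
        refine ⟨hzA, ?_⟩
        by_contra hzA₀
        have hza := hOa z (hA₁le (hAA₁ hzA)).2 hzA₀
        rw [hza] at hz
        exact (mem_basicOpen_iff hA₁ s'₁ a haA₁).mp hz hs'₁m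
      · rintro ⟨hzA, hzA₀⟩
        refine ⟨hzA, ?_⟩
        have hzA₁ : z ∈ A₁ := hAA₁ hzA
        rw [SetLike.mem_coe, mem_basicOpen_iff hA₁ s'₁ z hzA₁]
        intro hmem
        have hsz : s ∉ (hA₁.primeIdealOf ⟨z, hzA₁⟩).asIdeal := by
          rw [← mem_basicOpen_iff hA₁ s z hzA₁, ← hAdef]; exact hzA
        have h1 := hss _ (hA₁.primeIdealOf ⟨z, hzA₁⟩).isPrime hmem hsz
        have h2 := eq_of_primeIdealOf_eq hA₁ z a hzA₁ haA₁ h1
        rw [h2] at hzA₀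
        exact haA₀ hzA₀
    -- step 6
    have hDaff : IsAffineOpen (Y.basicOpen s') := hA.basicOpen s'
    have hDA₀ : Y.basicOpen s' ≤ A₀ := by rw [hD]; exact inf_le_right
    have hDA : Y.basicOpen s' ≤ A := Y.basicOpen_le s'
    haveI : IsNoetherianRing Γ(Y, A) := IsLocallyNoetherian.component_noetherian ⟨A, hA⟩
    haveI : Ring.KrullDimLE 1 Γ(Y, A) := krullDimLE_sections hdim hA
    haveI hloc : IsLocalization.Away s' Γ(Y, Y.basicOpen s') := hA.isLocalization_basicOpen s'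
    have hs'm : s' ∈ (hA.primeIdealOf ⟨a, haA⟩).asIdeal := by
      by_contra hnot
      exact haA₀ (hDA₀ ((mem_basicOpen_iff hA s' a haA).mpr hnot))
    -- step 7
    have hle1 : f ⁻¹ᵁ Y.basicOpen s' ≤ f ⁻¹ᵁ A₀ := fun _ hx => hDA₀ hx
    have hle2 : f ⁻¹ᵁ Y.basicOpen s' ≤ f ⁻¹ᵁ W' := fun _ hx => (hA₁le (hAA₁ (hDA hx))).1
    have hb1 := he₀.mono hle1
    have hb2 := hb.mono hle2
    obtain ⟨g, hg⟩ := hb2.exists_coord (mres L hle1 e₀)
    obtain ⟨g', hg'⟩ := hb1.exists_coord (mres L hle2 b)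
    have hgg' : g * g' = 1 := by
      apply hb1.coord_injective
      rw [mul_smul, ← hg', ← hg, one_smul]
    -- step 8
    have hsurj : Function.Surjective (f.app (Y.basicOpen s')).hom :=
      app_surjective_of_isClosedImmersion_restrict f V _ hDaff (hDA₀.trans hA₀V)
    obtain ⟨r, hr⟩ := hsurj g
    obtain ⟨r', hr'⟩ := hsurj g'
    have hrr : r * r' - 1 ∈ RingHom.ker (f.app (Y.basicOpen s')).hom := by
      rw [RingHom.mem_ker, map_sub, map_mul, map_one, hr, hr', hgg', sub_self]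
    -- step 9
    obtain ⟨t, htm, j, hj, w, hw⟩ := alg_main (hA.primeIdealOf ⟨a, haA⟩).asIdeal s' hs'm
      (RingHom.ker (f.app (Y.basicOpen s')).hom) r r' hrr
    -- step 10
    obtain ⟨W, hWdef⟩ : ∃ W : Y.Opens, W = Y.basicOpen t := ⟨_, rfl⟩
    have hWA : W ≤ A := by rw [hWdef]; exact Y.basicOpen_le t
    have haW : a ∈ W := by rw [hWdef]; exact (mem_basicOpen_iff hA t a haA).mpr htm
    have hWA₀D : W ⊓ A₀ ≤ Y.basicOpen s' := by rw [hD]; exact inf_le_inf_right _ hWA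
    have hleW : f ⁻¹ᵁ W ≤ f ⁻¹ᵁ W' := fun _ hx => (hA₁le (hAA₁ (hWA hx))).1
    have htunit : IsUnit (res (inf_le_left.trans hWA : W ⊓ A₀ ≤ A) t) := by
      have h1 : IsUnit (res (Y.basicOpen_le t) t) :=
        RingedSpace.isUnit_res_basicOpen Y.toRingedSpace t
      have h2 : W ⊓ A₀ ≤ Y.basicOpen t := by rw [← hWdef]; exact inf_le_left
      have h3 := h1.map (res h2)
      rwa [res_res] at h3
    obtain ⟨tinv, htinv⟩ := htunit.exists_right_inv
    refine ⟨W, haW, fun z hz hzA₀ => hOa z (hA₁le (hAA₁ (hWA hz))).2 hzA₀,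
      mres L hleW b, hb.mono hleW, res hWA₀D (r + j), res hWA₀D w * tinv, ?_, ?_⟩
    · calc res hWA₀D (r + j) * (res hWA₀D w * tinv)
          = res hWA₀D ((r + j) * w) * tinv := by rw [map_mul]; ring
        _ = res hWA₀D (algebraMap Γ(Y, A) Γ(Y, Y.basicOpen s') t) * tinv := by rw [hw]
        _ = res (inf_le_left.trans hWA : W ⊓ A₀ ≤ A) t * tinv := by
            have h5 : algebraMap Γ(Y, A) Γ(Y, Y.basicOpen s') t = res hDA t := rfl
            rw [h5, res_res]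
        _ = 1 := htinv
    · have hX₀ : f ⁻¹ᵁ (W ⊓ A₀) ≤ f ⁻¹ᵁ Y.basicOpen s' := fun _ hx => hWA₀D hx
      have h1 := congrArg (mres L hX₀) hg
      rw [mres_mres, mres_smul, mres_mres] at h1
      rw [mres_mres]
      have h2 : res hX₀ g =
          (f.appLE (W ⊓ A₀) (f ⁻¹ᵁ (W ⊓ A₀)) le_rfl).hom (res hWA₀D (r + j)) := by
        have hφ : (f.app (Y.basicOpen s')).hom (r + j) = g := by
          rw [map_add, hr, RingHom.mem_ker.mp hj, add_zero]
        rw [← hφ, appLE_res_left f hWA₀D le_rfl (r + j)]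
        have h6 := res_appLE f hX₀ (le_refl (f ⁻¹ᵁ Y.basicOpen s')) (r + j)
        rw [Scheme.Hom.appLE_eq_app] at h6
        exact h6
      rw [← h2]
      exact h1

theorem main_S7688 {X Y : Scheme.{u}} (f : X ⟶ Y) [IsFinite f] [IsNoetherian Y]
    (hdim : topologicalKrullDim Y ≤ 1) (V : Y.Opens) (hV : Dense (V : Set Y))
    (hfV : IsClosedImmersion (f ∣_ V)) (L : X.Modules) (hL : PicF.IsInvertible L) :
    ∃ N : Y.Modules, PicF.IsInvertible N ∧
      Nonempty ((Scheme.Modules.pullback f).obj N ≅ L) := by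
  classical
  haveI := hfV
  obtain ⟨A₀, hA₀V, hgenA₀, e₀, he₀⟩ := exists_A0 f V hV L hL
  obtain ⟨hfin, hcl⟩ := finite_closedPts hdim A₀ hgenA₀
  choose W haW hW1 e he H Hi hHHi hrel using
    exists_local_data f hdim V L hL A₀ hA₀V hfin hcl e₀ he₀
  have hWA : ∀ a b, a ≠ b → W a ⊓ W b ≤ A₀ := by
    intro a b hne z hz
    by_contra hzA
    exact hne ((hW1 a z hz.1 hzA).symm.trans (hW1 b z hz.2 hzA))
  let U' : Y → X.Opens := fun y => f ⁻¹ᵁ W y
  have hU' : iSup U' = ⊤ := by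
    rw [eq_top_iff]
    intro x _
    exact Opens.mem_iSup.mpr ⟨f x, haW (f x)⟩
  have hcW : iSup W = ⊤ := by
    rw [eq_top_iff]
    intro y _
    exact Opens.mem_iSup.mpr ⟨y, haW y⟩
  have hpre : ∀ y y', U' y ⊓ U' y' ≤ f ⁻¹ᵁ (W y ⊓ W y') := fun y y' _ h => h
  let η : ∀ a b, Γ(Y, W a ⊓ W b) := fun a b =>
    if hab : a = b then 1 else
      res (le_inf inf_le_left (hWA a b hab) : W a ⊓ W b ≤ W a ⊓ A₀) (Hi a) *
        res (le_inf inf_le_right (hWA a b hab) : W a ⊓ W b ≤ W b ⊓ A₀) (H b)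
  have hηself : ∀ a, η a a = 1 := fun a => dif_pos rfl
  have hηres : ∀ (a b : Y) (T : Y.Opens) (hT : T ≤ W a ⊓ W b) (h1 : T ≤ W a ⊓ A₀)
      (h2 : T ≤ W b ⊓ A₀), res hT (η a b) = res h1 (Hi a) * res h2 (H b) := by
    intro a b T hT h1 h2
    by_cases hab : a = b
    · subst hab
      rw [hηself, map_one]
      have h5 : res h1 (Hi a) * res h2 (H a) = res h1 (Hi a * H a) :=
        (map_mul (res h1) _ _).symm
      rw [h5, mul_comm, hHHi, map_one]
    · simp only [η, dif_neg hab, map_mul, res_res]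
  have hηc : IsCocycle W η := by
    intro i j k
    by_cases hij : i = j
    · subst hij
      rw [hηself, map_one, one_mul]
    · by_cases hjk : j = k
      · subst hjk
        rw [hηself, map_one, mul_one]
      · have hTA : W i ⊓ W j ⊓ W k ≤ A₀ := inf_le_left.trans (hWA i j hij)
        have hTi : W i ⊓ W j ⊓ W k ≤ W i ⊓ A₀ := le_inf (inf_le_left.trans inf_le_left) hTA
        have hTj : W i ⊓ W j ⊓ W k ≤ W j ⊓ A₀ := le_inf (inf_le_left.trans inf_le_right) hTA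
        have hTk : W i ⊓ W j ⊓ W k ≤ W k ⊓ A₀ := le_inf inf_le_right hTA
        rw [hηres i k _ _ hTi hTk, hηres i j _ _ hTi hTj, hηres j k _ _ hTj hTk]
        have hj1 : res hTj (H j) * res hTj (Hi j) = 1 := by rw [← map_mul, hHHi, map_one]
        linear_combination (-(res hTi (Hi i) * res hTk (H k))) * hj1
  have hηu : ∀ y, IsUnit (η y y) := fun y => by rw [hηself]; exact isUnit_one
  let N : Y.Modules := glueMod W η
  have hN : PicF.IsInvertible N := isInvertible_glueMod hηc hηu hcW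
  haveI : N.IsQuasicoherent := QC.qc_of_isInvertible N hN
  refine ⟨N, hN, ?_⟩
  let e'' : ∀ y, Γ((Scheme.Modules.pullback f).obj N, U' y) := fun y =>
    QC.pbSec f N (le_refl (f ⁻¹ᵁ W y)) (glueGen hηc y)
  have he'' : ∀ y, QC.IsBasisOver ((Scheme.Modules.pullback f).obj N) (U' y) (e'' y) := fun y =>
    (isBasisOver_glueGen hηc hηu y).pullback f (le_refl (f ⁻¹ᵁ W y))
  let θ : ∀ a b, Γ(X, U' a ⊓ U' b) := fun a b =>
    (f.appLE (W a ⊓ W b) (U' a ⊓ U' b) (hpre a b)).hom (η a b)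
  refine nonempty_iso_of_same_transition hU' he'' he θ ?_ ?_
  · intro y y'
    have h1 := QC.pbSec_res f N (le_refl (f ⁻¹ᵁ W y)) (hpre y y')
      (inf_le_left : U' y ⊓ U' y' ≤ U' y) (inf_le_left : W y ⊓ W y' ≤ W y) (glueGen hηc y)
    have h2 := QC.pbSec_res f N (le_refl (f ⁻¹ᵁ W y')) (hpre y y')
      (inf_le_right : U' y ⊓ U' y' ≤ U' y') (inf_le_right : W y ⊓ W y' ≤ W y') (glueGen hηc y')
    change mres _ _ (e'' y) = θ y y' • mres _ _ (e'' y')
    change _ = mres _ _ (e'' y) at h1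
    change _ = mres _ _ (e'' y') at h2
    rw [← h1, ← h2, glueGen_transition hηc y y', QC.pbSec_smul]
  · intro a b
    by_cases hab : a = b
    · subst hab
      have h5 : θ a a = 1 := by simp only [θ, hηself, map_one]
      rw [h5, one_smul]
    · have hX₀a : U' a ⊓ U' b ≤ f ⁻¹ᵁ (W a ⊓ A₀) :=
        fun z hz => ⟨hz.1, hWA a b hab ⟨hz.1, hz.2⟩⟩
      have hX₀b : U' a ⊓ U' b ≤ f ⁻¹ᵁ (W b ⊓ A₀) :=
        fun z hz => ⟨hz.2, hWA a b hab ⟨hz.1, hz.2⟩⟩
      have h1 := congrArg (mres L hX₀a) (hrel a)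
      have h2 := congrArg (mres L hX₀b) (hrel b)
      rw [mres_mres, mres_smul, mres_mres, res_appLE] at h1 h2
      have hθ : θ a b = (f.appLE (W a ⊓ A₀) (U' a ⊓ U' b) hX₀a).hom (Hi a) *
          (f.appLE (W b ⊓ A₀) (U' a ⊓ U' b) hX₀b).hom (H b) := by
        simp only [θ, η, dif_neg hab, map_mul]
        rw [appLE_res_left, appLE_res_left]
      rw [hθ, mul_smul, ← h2, h1, smul_smul, ← map_mul, mul_comm, hHHi, map_one, one_smul]

end Groth.Agent.H4.PicDim1
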