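import Mathlib
import Groth.Prelude

set_option autoImplicit false
universe u
open CategoryTheory CategoryTheory.Limits AlgebraicGeometry
open PicRel PicF PicLoc

namespace Groth.Agent.H4.PrbA

variable {X S S' : Scheme.{u}} (f : X ⟶ S) (g : S' ⟶ S)

lemma XTmap_fst {T T' : Over S} (m : T' ⟶ T) :
    XTmap f m ≫ pullback.fst f T.hom = pullback.fst f T'.hom :=
  (pullback.lift_fst _ _ _).trans (Category.comp_id _)

lemma XTmap_snd {T T' : Over S} (m : T' ⟶ T) :
    XTmap f m ≫ pullback.snd f T.hom = pullback.snd f T'.hom ≫ m.left :=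
  pullback.lift_snd _ _ _

lemma XTmap_comp' {A B C : Over S} (a : A ⟶ B) (b : B ⟶ C) :
    XTmap f (a ≫ b) = XTmap f a ≫ XTmap f b := by
  apply pullback.hom_ext
  · rw [Category.assoc, XTmap_fst f (a ≫ b), XTmap_fst f b, XTmap_fst f a]
  · rw [Category.assoc, XTmap_snd f (a ≫ b), XTmap_snd f b, ← Category.assoc, XTmap_snd f a,
      Category.assoc, Over.comp_left]

lemma sq (T T' : Over S') (h : T' ⟶ T) (m : Over.mk (T'.hom ≫ g) ⟶ Over.mk (T.hom ≫ g))
    (hm : m.left = h.left) :
    XTmap (pullback.snd f g) h ≫ (pullbackLeftPullbackSndIso f g T.hom).hom =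
      (pullbackLeftPullbackSndIso f g T'.hom).hom ≫ XTmap f m := by
  have h1 : XTmap f m ≫ pullback.fst f (T.hom ≫ g) = pullback.fst f (T'.hom ≫ g) :=
    XTmap_fst f m
  have h2 : XTmap f m ≫ pullback.snd f (T.hom ≫ g) = pullback.snd f (T'.hom ≫ g) ≫ m.left :=
    XTmap_snd f m
  have h3 := XTmap_fst (pullback.snd f g) h
  have h4 := XTmap_snd (pullback.snd f g) h
  apply pullback.hom_ext
  · rw [Category.assoc, Category.assoc, pullbackLeftPullbackSndIso_hom_fst, h1,
      pullbackLeftPullbackSndIso_hom_fst, ← Category.assoc, h3]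
  · rw [Category.assoc, Category.assoc, pullbackLeftPullbackSndIso_hom_snd, h4, h2,
      ← Category.assoc, pullbackLeftPullbackSndIso_hom_snd, hm]

lemma sq_inv (T T' : Over S') (h : T' ⟶ T) (m : Over.mk (T'.hom ≫ g) ⟶ Over.mk (T.hom ≫ g))
    (hm : m.left = h.left) :
    (pullbackLeftPullbackSndIso f g T'.hom).inv ≫ XTmap (pullback.snd f g) h =
      XTmap f m ≫ (pullbackLeftPullbackSndIso f g T.hom).inv := by
  rw [Iso.inv_comp_eq, ← Category.assoc, Iso.eq_comp_inv]
  exact sq f g T T' h m hm

lemma pullCl_inv_hom {Y Y' : Scheme.{u}} (e : Y ≅ Y') (c : Cl Y) :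
    pullCl e.hom (pullCl e.inv c) = c := by
  rw [← pullCl_comp, e.hom_inv_id, pullCl_id]

lemma pullCl_hom_inv {Y Y' : Scheme.{u}} (e : Y ≅ Y') (c : Cl Y') :
    pullCl e.inv (pullCl e.hom c) = c := by
  rw [← pullCl_comp, e.inv_hom_id, pullCl_id]

/-- the bridging morphism for étale covers -/
noncomputable def jm (T : Over S') (U : T.left.Etale) :
    Over.mk ((ovr T U).hom ≫ g) ⟶ ovr (Over.mk (T.hom ≫ g)) U :=
  Over.homMk (𝟙 _) (by simp [ovr])

lemma key_lemma (T : Over S') (U : T.left.Etale) (d : Cl (XT (pullback.snd f g) T)) :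
    pullCl (XTmap (pullback.snd f g) (ovrHom T U)) d =
      pullCl (pullbackLeftPullbackSndIso f g (ovr T U).hom).hom (pullCl (XTmap f (jm g T U))
        (pullCl (XTmap f (ovrHom (Over.mk (T.hom ≫ g)) U))
          (pullCl (pullbackLeftPullbackSndIso f g T.hom).inv d))) := by
  have hm : (jm g T U ≫ ovrHom (Over.mk (T.hom ≫ g)) U).left = (ovrHom T U).left := by
    simp [jm, ovrHom]
  have hsq := sq f g T (ovr T U) (ovrHom T U) (jm g T U ≫ ovrHom (Over.mk (T.hom ≫ g)) U) hm
  rw [← pullCl_comp, ← pullCl_comp, ← pullCl_comp]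
  congr 1
  simp only [Category.assoc]
  rw [← Category.assoc (XTmap f (jm g T U)), ← XTmap_comp', ← Category.assoc, ← hsq,
    Category.assoc, Iso.hom_inv_id, Category.comp_id]

theorem main (P : Over S) (φ : ∀ T : Over S, Cl (XT f T) → (T ⟶ P)) (hP : IsRelPic f P φ) :
    IsRelPic (pullback.snd f g) (Over.mk (pullback.snd P.hom g))
      (fun T c => Over.homMk
        (pullback.lift (φ (Over.mk (T.hom ≫ g))
          (pullCl (pullbackLeftPullbackSndIso f g T.hom).inv c)).left T.hom
          (Over.w (φ (Over.mk (T.hom ≫ g))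
            (pullCl (pullbackLeftPullbackSndIso f g T.hom).inv c))))
        (pullback.lift_snd _ _ _)) := by
  refine ⟨?_, ?_, ?_⟩
  · intro T T' h c hc
    let m : Over.mk (T'.hom ≫ g) ⟶ Over.mk (T.hom ≫ g) :=
      Over.homMk h.left (by
        show h.left ≫ T.hom ≫ g = T'.hom ≫ g
        rw [← Category.assoc, Over.w h])
    have hnat := hP.natural _ _ m (pullCl (pullbackLeftPullbackSndIso f g T.hom).inv c)
      (isInvertibleCl_pullCl _ hc)
    have key : pullCl (pullbackLeftPullbackSndIso f g T'.hom).inv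
        (pullCl (XTmap (pullback.snd f g) h) c) =
        pullCl (XTmap f m) (pullCl (pullbackLeftPullbackSndIso f g T.hom).inv c) := by
      rw [← pullCl_comp, ← pullCl_comp, sq_inv f g T T' h m rfl]
    apply Over.OverMorphism.ext
    apply pullback.hom_ext
    · simp only [Over.homMk_left, Over.comp_left, pullback.lift_fst, Category.assoc]
      rw [key, hnat]
      rfl
    · simp only [Over.homMk_left, Over.comp_left, pullback.lift_snd, Category.assoc]
      exact (Over.w h).symm
  · intro T k
    let k₀ : Over.mk (T.hom ≫ g) ⟶ P :=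
      Over.homMk (k.left ≫ pullback.fst P.hom g) (by
        show (k.left ≫ pullback.fst P.hom g) ≫ P.hom = T.hom ≫ g
        rw [Category.assoc, pullback.condition, ← Category.assoc]
        congr 1
        exact Over.w k)
    obtain ⟨ι, U, hU, hc⟩ := hP.locallySurjective (Over.mk (T.hom ≫ g)) k₀
    refine ⟨ι, U, hU, fun i => ?_⟩
    obtain ⟨c₀, hc₀, hφ⟩ := hc i
    let e := pullbackLeftPullbackSndIso f g (ovr T (U i)).hom
    let c₁ := pullCl (XTmap f (jm g T (U i))) c₀
    have hc₁ : IsInvertibleCl c₁ := isInvertibleCl_pullCl _ hc₀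
    refine ⟨pullCl e.hom c₁, isInvertibleCl_pullCl _ hc₁, ?_⟩
    have hnat := hP.natural _ _ (jm g T (U i)) c₀ hc₀
    apply Over.OverMorphism.ext
    apply pullback.hom_ext
    · simp only [Over.homMk_left, Over.comp_left, pullback.lift_fst, Category.assoc]
      rw [pullCl_hom_inv e c₁, hnat, hφ]
      simp [jm, k₀, ovrHom]
    · simp only [Over.homMk_left, Over.comp_left, pullback.lift_snd, Category.assoc]
      have := Over.w k
      simp only [Over.mk_hom] at this
      simp [ovr, ovrHom, this]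
  · intro T c c' hc hc' hφ
    have h1 : φ (Over.mk (T.hom ≫ g)) (pullCl (pullbackLeftPullbackSndIso f g T.hom).inv c) =
        φ (Over.mk (T.hom ≫ g)) (pullCl (pullbackLeftPullbackSndIso f g T.hom).inv c') := by
      apply Over.OverMorphism.ext
      have h2 := congrArg (fun q => q.left) hφ
      simp only [Over.homMk_left] at h2
      calc (φ (Over.mk (T.hom ≫ g)) (pullCl (pullbackLeftPullbackSndIso f g T.hom).inv c)).left
          = pullback.lift (φ (Over.mk (T.hom ≫ g))
              (pullCl (pullbackLeftPullbackSndIso f g T.hom).inv c)).left T.hom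
              (Over.w (φ (Over.mk (T.hom ≫ g))
                (pullCl (pullbackLeftPullbackSndIso f g T.hom).inv c))) ≫ pullback.fst _ _ :=
            (pullback.lift_fst _ _ _).symm
        _ = pullback.lift (φ (Over.mk (T.hom ≫ g))
              (pullCl (pullbackLeftPullbackSndIso f g T.hom).inv c')).left T.hom
              (Over.w (φ (Over.mk (T.hom ≫ g))
                (pullCl (pullbackLeftPullbackSndIso f g T.hom).inv c'))) ≫ pullback.fst _ _ := by
            rw [h2]
        _ = _ := pullback.lift_fst _ _ _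
    obtain ⟨ι, U, hU, hcc⟩ := hP.locallyInjective (Over.mk (T.hom ≫ g)) _ _
      (isInvertibleCl_pullCl _ hc) (isInvertibleCl_pullCl _ hc') h1
    refine ⟨ι, U, hU, fun i => ?_⟩
    have h3 := hcc i
    rw [key_lemma f g T (U i) c, key_lemma f g T (U i) c', h3]

end Groth.Agent.H4.PrbA
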