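import Mathlib.RingTheory.Ideal.Operations
import Mathlib.Order.Preorder.Finite
import Mathlib.RingTheory.Ideal.Quotient.Basic

/-!
# Prime avoidance for cosets (helper4)
-/

namespace Groth.Agent.H4.PrimeAvoid

/-- Coset version of prime avoidance: if `I` is contained in none of finitely many primes, every
coset of `I` contains an element lying in none of them. -/
theorem exists_add_notMem {A : Type*} [CommRing A] (I : Ideal A) :
    ∀ (s : Finset (Ideal A)), (∀ p ∈ s, p.IsPrime) → (∀ p ∈ s, ¬ I ≤ p) → ∀ f₀ : A,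
      ∃ x ∈ I, ∀ p ∈ s, f₀ + x ∉ p := by
  classical
  intro s
  induction s using Finset.strongInduction with
  | H s ih =>
    intro hs hI f₀
    rcases s.eq_empty_or_nonempty with rfl | hne
    · exact ⟨0, I.zero_mem, by simp⟩
    obtain ⟨q, hq, hmin⟩ := s.exists_minimal hne
    obtain ⟨x₁, hx₁, h₁⟩ := ih (s.erase q) (Finset.erase_ssubset hq)
      (fun p hp => hs p (Finset.mem_of_mem_erase hp))
      (fun p hp => hI p (Finset.mem_of_mem_erase hp)) f₀
    by_cases hf : f₀ + x₁ ∈ q
    · have hqp := hs q hq
      have hnle : ¬ (I ⊓ (s.erase q).inf id ≤ q) := by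
        rw [hqp.inf_le, hqp.inf_le']
        rintro (h | ⟨p, hp, hpq⟩)
        · exact hI q hq h
        · have hps := Finset.mem_of_mem_erase hp
          have : q ≤ p := hmin hps hpq
          exact (Finset.ne_of_mem_erase hp) (le_antisymm hpq this)
      obtain ⟨y, hy, hyq⟩ := SetLike.not_le_iff_exists.1 hnle
      refine ⟨x₁ + y, I.add_mem hx₁ hy.1, ?_⟩
      intro p hp hmem
      by_cases hpq : p = q
      · subst hpq
        apply hyq
        have : y = (f₀ + (x₁ + y)) - (f₀ + x₁) := by ring
        rw [this]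
        exact p.sub_mem hmem hf
      · have hpe : p ∈ s.erase q := Finset.mem_erase.2 ⟨hpq, hp⟩
        have hyp : y ∈ p := (Finset.inf_le hpe : (s.erase q).inf id ≤ id p) hy.2
        apply h₁ p hpe
        have : f₀ + x₁ = (f₀ + (x₁ + y)) - y := by ring
        rw [this]
        exact p.sub_mem hmem hyp
    · refine ⟨x₁, hx₁, ?_⟩
      intro p hp
      by_cases hpq : p = q
      · rw [hpq]
        exact hf
      · exact h₁ p (Finset.mem_erase.2 ⟨hpq, hp⟩)

end Groth.Agent.H4.PrimeAvoid
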