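import Mathlib
set_option autoImplicit false

/-!
# Cochains and homotopies into a product of cochain complexes; products of quasi-isomorphisms (AB4*)
-/

namespace Groth.Agent.H4.ProdCx

open CategoryTheory Limits CochainComplex HomComplex

universe w v u

section Cochains
variable {A : Type u} [Category.{v} A] [Preadditive A]
variable {J : Type w} [HasLimitsOfShape (Discrete J) A]
variable {K : J → CochainComplex A ℤ} {c : Fan K} (hc : IsLimit c)

/-- degreewise, the fan is a limit -/
noncomputable def isLimitEval (p : ℤ) :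
    IsLimit ((HomologicalComplex.eval A (ComplexShape.up ℤ) p).mapCone c) :=
  isLimitOfPreserves (HomologicalComplex.eval A (ComplexShape.up ℤ) p) hc

include hc in
lemma hom_ext_degree {p : ℤ} {T : A} {a b : T ⟶ c.pt.X p}
    (h : ∀ j, a ≫ (c.proj j).f p = b ≫ (c.proj j).f p) : a = b :=
  (isLimitEval hc p).hom_ext (fun ⟨j⟩ => h j)

include hc in
lemma exists_lift_degree (p : ℤ) {T : A} (a : ∀ j, T ⟶ (K j).X p) :
    ∃ b : T ⟶ c.pt.X p, ∀ j, b ≫ (c.proj j).f p = a j := by
  let s : Cone (Discrete.functor K ⋙ HomologicalComplex.eval A (ComplexShape.up ℤ) p) :=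
    { pt := T
      π := Discrete.natTrans (fun ⟨j⟩ => a j) }
  exact ⟨(isLimitEval hc p).lift s, fun j => (isLimitEval hc p).fac s ⟨j⟩⟩

include hc in
lemma cochain_ext {L : CochainComplex A ℤ} {n : ℤ} {α β : Cochain L c.pt n}
    (h : ∀ j, α.comp (Cochain.ofHom (c.proj j)) (add_zero n) =
      β.comp (Cochain.ofHom (c.proj j)) (add_zero n)) : α = β := by
  ext p q hpq
  apply hom_ext_degree hc
  intro j
  have := Cochain.congr_v (h j) p q hpq
  simpa [Cochain.comp_zero_cochain_v] using this

include hc in
lemma exists_cochain {L : CochainComplex A ℤ} {n : ℤ} (z : ∀ j, Cochain L (K j) n) :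
    ∃ Z : Cochain L c.pt n, ∀ j, Z.comp (Cochain.ofHom (c.proj j)) (add_zero n) = z j := by
  have h := fun (p q : ℤ) (hpq : p + n = q) =>
    exists_lift_degree hc q (fun j => (z j).v p q hpq)
  choose b hb using h
  refine ⟨Cochain.mk b, fun j => ?_⟩
  ext p q hpq
  simp [Cochain.comp_zero_cochain_v, hb]

include hc in
/-- A morphism into a product of complexes which is null-homotopic on each factor
is null-homotopic. -/
theorem nonempty_homotopy_zero {L : CochainComplex A ℤ} (g : L ⟶ c.pt)
    (h : ∀ j, Nonempty (Homotopy (g ≫ c.proj j) 0)) : Nonempty (Homotopy g 0) := by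
  have hz : ∀ j, ∃ z : Cochain L (K j) (-1), Cochain.ofHom (g ≫ c.proj j) = δ (-1) 0 z := by
    intro j
    obtain ⟨z, hz⟩ := Cochain.equivHomotopy _ _ (h j).some
    exact ⟨z, by simpa using hz⟩
  choose z hz using hz
  obtain ⟨Z, hZ⟩ := exists_cochain hc z
  refine ⟨(Cochain.equivHomotopy _ _).symm ⟨Z, ?_⟩⟩
  rw [Cochain.ofHom_zero, add_zero]
  apply cochain_ext hc
  intro j
  rw [← Cochain.ofHom_comp, hz j, ← hZ j, δ_comp_ofHom]

end Cochains


section QIso
variable {A : Type u} [Category.{v} A] [Abelian A]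
variable {J : Type w} {ι : Type*} {c : ComplexShape ι}

/-- a family of complexes as a complex of functors on the discrete category -/
@[simps]
def fam (K : J → HomologicalComplex A c) : HomologicalComplex (Discrete J ⥤ A) c where
  X i := Discrete.functor (fun j => (K j).X i)
  d i i' := Discrete.natTrans (fun ⟨j⟩ => (K j).d i i')
  shape i i' h := by
    ext ⟨j⟩
    exact (K j).shape i i' h
  d_comp_d' i i' i'' _ _ := by
    ext ⟨j⟩
    exact (K j).d_comp_d i i' i''

/-- a family of morphisms as a morphism of complexes of functors -/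
@[simps]
def famMap {M K : J → HomologicalComplex A c} (s : ∀ j, M j ⟶ K j) : fam M ⟶ fam K where
  f i := Discrete.natTrans (fun ⟨j⟩ => (s j).f i)
  comm' i i' _ := by
    ext ⟨j⟩
    exact (s j).comm i i'

/-- evaluating the family complex gives back the members -/
def evalFamIso (K : J → HomologicalComplex A c) (j : J) :
    (((evaluation (Discrete J) A).obj ⟨j⟩).mapHomologicalComplex c).obj (fam K) ≅ K j :=
  HomologicalComplex.Hom.isoOfComponents (fun i => Iso.refl _) (by
    intro i i' _
    exact (Category.id_comp _).trans (Category.comp_id _).symm)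

lemma quasiIso_famMap {M K : J → HomologicalComplex A c} (s : ∀ j, M j ⟶ K j)
    [∀ j, QuasiIso (s j)] : QuasiIso (famMap s) := by
  rw [HomologicalComplex.quasiIso_iff_evaluation]
  rintro ⟨j⟩
  have : (((evaluation (Discrete J) A).obj ⟨j⟩).mapHomologicalComplex c).map (famMap s) =
      (evalFamIso M j).hom ≫ s j ≫ (evalFamIso K j).inv := by
    ext i
    exact ((Category.id_comp _).trans (Category.comp_id _)).symm
  rw [this]
  infer_instance

variable [HasLimitsOfShape (Discrete J) A]

/-- the termwise product of a family of complexes -/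
noncomputable abbrev pi (K : J → HomologicalComplex A c) : HomologicalComplex A c :=
  ((lim : (Discrete J ⥤ A) ⥤ A).mapHomologicalComplex c).obj (fam K)

/-- the projections from the termwise product -/
@[simps]
noncomputable def piπ (K : J → HomologicalComplex A c) (j : J) : pi K ⟶ K j where
  f i := limit.π ((fam K).X i) ⟨j⟩
  comm' i i' _ := by
    change limit.π ((fam K).X i) ⟨j⟩ ≫ _ = limMap ((fam K).d i i') ≫ limit.π ((fam K).X i') ⟨j⟩
    rw [limMap_π]
    rfl

/-- the fan of the termwise product -/
noncomputable def piFan (K : J → HomologicalComplex A c) : Fan K :=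
  Fan.mk (pi K) (piπ K)

/-- the termwise product is a product -/
noncomputable def isLimitPiFan (K : J → HomologicalComplex A c) :
    IsLimit (piFan K) :=
  HomologicalComplex.isLimitOfEval _ _ (fun i =>
    { lift := fun s => limit.lift ((fam K).X i)
        { pt := s.pt
          π := Discrete.natTrans (fun ⟨j⟩ => s.π.app ⟨j⟩) }
      fac := fun s ⟨j⟩ => by
        change _ ≫ limit.π ((fam K).X i) ⟨j⟩ = _
        rw [limit.lift_π]
        rfl
      uniq := fun s m hm => by
        change s.pt ⟶ limit ((fam K).X i) at m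
        refine limit.hom_ext (F := (fam K).X i) ?_
        rintro ⟨j⟩
        rw [limit.lift_π]
        exact hm ⟨j⟩ })

lemma map_piπ {M K : J → HomologicalComplex A c} (s : ∀ j, M j ⟶ K j) (j : J) :
    ((lim : (Discrete J ⥤ A) ⥤ A).mapHomologicalComplex c).map (famMap s) ≫ piπ K j =
      piπ M j ≫ s j := by
  ext i
  change limMap ((famMap s).f i) ≫ limit.π ((fam K).X i) ⟨j⟩ = _
  rw [limMap_π]
  rfl

instance lim_additive : (lim : (Discrete J ⥤ A) ⥤ A).Additive where
  map_add {X Y f g} := by
    apply limit.hom_ext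
    intro j
    change limMap (f + g) ≫ limit.π Y j = (limMap f + limMap g) ≫ limit.π Y j
    rw [Preadditive.add_comp, limMap_π, limMap_π, limMap_π, NatTrans.app_add,
      Preadditive.comp_add]

variable [HasExactLimitsOfShape (Discrete J) A]

instance quasiIso_piMap {M K : J → HomologicalComplex A c} (s : ∀ j, M j ⟶ K j)
    [∀ j, QuasiIso (s j)] :
    QuasiIso (((lim : (Discrete J ⥤ A) ⥤ A).mapHomologicalComplex c).map (famMap s)) := by
  have := quasiIso_famMap s
  infer_instance

/-- AB4*: a product of quasi-isomorphisms is a quasi-isomorphism. -/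
theorem quasiIso_of_fans {M K : J → HomologicalComplex A c} {cM : Fan M} {cK : Fan K}
    (hM : IsLimit cM) (hK : IsLimit cK) (s : ∀ j, M j ⟶ K j) [∀ j, QuasiIso (s j)]
    (σ : cM.pt ⟶ cK.pt) (hσ : ∀ j, σ ≫ cK.proj j = cM.proj j ≫ s j) : QuasiIso σ := by
  let eM : cM.pt ≅ pi M := hM.conePointUniqueUpToIso (isLimitPiFan M)
  let eK : cK.pt ≅ pi K := hK.conePointUniqueUpToIso (isLimitPiFan K)
  have heM : ∀ j, eM.hom ≫ piπ M j = cM.proj j := fun j =>
    hM.conePointUniqueUpToIso_hom_comp (isLimitPiFan M) ⟨j⟩
  have heK : ∀ j, eK.hom ≫ piπ K j = cK.proj j := fun j =>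
    hK.conePointUniqueUpToIso_hom_comp (isLimitPiFan K) ⟨j⟩
  have h : σ ≫ eK.hom =
      eM.hom ≫ ((lim : (Discrete J ⥤ A) ⥤ A).mapHomologicalComplex c).map (famMap s) := by
    apply Fan.IsLimit.hom_ext (isLimitPiFan K)
    intro j
    change (_ ≫ _) ≫ piπ K j = (_ ≫ _) ≫ piπ K j
    rw [Category.assoc, Category.assoc, heK, hσ, map_piπ, reassoc_of% (heM j)]
  have h' : σ = eM.hom ≫
      ((lim : (Discrete J ⥤ A) ⥤ A).mapHomologicalComplex c).map (famMap s) ≫ eK.inv := by
    rw [← Category.assoc, ← h, Category.assoc, Iso.hom_inv_id, Category.comp_id]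
  rw [h']
  infer_instance

end QIso

end Groth.Agent.H4.ProdCx
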