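import Groth.Agent.H4.ProjQ2
import Mathlib.RingTheory.IsTensorProduct
import Mathlib.Algebra.Category.Ring.Constructions

set_option autoImplicit false
set_option linter.style.haveILetI false
set_option linter.unusedSectionVars false

namespace Groth.Agent.H4.ProjBC

open CategoryTheory CategoryTheory.Limits AlgebraicGeometry TopologicalSpace Opposite
open HomogeneousLocalization
open Groth.Agent.H4 Groth.Agent.H4.RelSpecLib Groth.Agent.H4.ConeImm Groth.Agent.H4.ConeInf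
open Groth.Agent.H4.ConeRetrAlg Groth.Agent.H4.ConeRetr Groth.Agent.H4.ConeRetr2
open Groth.Agent.H4.ProjQ Groth.Agent.H4.ProjQ2
open scoped HomogeneousIdeal TensorProduct

universe u

section AwayMk

variable {A : Type u} [CommRing A] {𝒜 : ℕ → AddSubgroup A} [GradedRing 𝒜] {f : A} {d : ℕ}
  (hf : f ∈ 𝒜 d)

theorem val_fromZero (a : 𝒜 0) :
    (fromZeroRingHom 𝒜 (Submonoid.powers f) a).val = Localization.mk (a : A) 1 := rfl

/-- `x ↦ x_{kd} / f^k` -/
noncomputable def mkT (k : ℕ) (x : A) : Away 𝒜 f :=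
  Away.mk 𝒜 hf k (DirectSum.decompose 𝒜 x (k • d) : A) (SetLike.coe_mem _)

theorem val_mkT (k : ℕ) (x : A) :
    (mkT hf k x).val =
      Localization.mk (DirectSum.decompose 𝒜 x (k • d) : A)
        (⟨f ^ k, k, rfl⟩ : Submonoid.powers f) := rfl

theorem mkT_of_mem (k : ℕ) (x : A) (hx : x ∈ 𝒜 (k • d)) :
    mkT hf k x = Away.mk 𝒜 hf k x hx := by
  apply HomogeneousLocalization.val_injective
  rw [val_mkT, Away.val_mk, DirectSum.decompose_of_mem_same 𝒜 hx]

theorem mkT_add (k : ℕ) (x y : A) : mkT hf k (x + y) = mkT hf k x + mkT hf k y := by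
  apply HomogeneousLocalization.val_injective
  rw [HomogeneousLocalization.val_add, val_mkT, val_mkT, val_mkT, Localization.add_mk_self,
    DirectSum.decompose_add, DirectSum.add_apply, AddSubgroup.coe_add]

theorem mkT_zero_mul (k : ℕ) (a y : A) (ha : a ∈ 𝒜 0) :
    mkT hf k (a * y) = fromZeroRingHom 𝒜 (Submonoid.powers f) ⟨a, ha⟩ * mkT hf k y := by
  apply HomogeneousLocalization.val_injective
  rw [HomogeneousLocalization.val_mul, val_mkT, val_mkT, val_fromZero, Localization.mk_mul,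
    one_mul, DirectSum.coe_decompose_mul_of_left_mem_zero 𝒜 ha]

theorem mkT_succ (k : ℕ) (y : A) : mkT hf (k + 1) (f * y) = mkT hf k y := by
  apply HomogeneousLocalization.val_injective
  rw [val_mkT, val_mkT, Localization.mk_eq_mk_iff, Localization.r_iff_exists]
  refine ⟨1, ?_⟩
  have e : (DirectSum.decompose 𝒜 (f * y) ((k + 1) • d) : A) =
      f * (DirectSum.decompose 𝒜 y (k • d) : A) := by
    rw [show (k + 1) • d = d + k • d by rw [add_smul, one_smul, add_comm]]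
    exact DirectSum.coe_decompose_mul_add_of_left_mem 𝒜 hf
  simp only [OneMemClass.coe_one, one_mul]
  rw [e, pow_succ]
  ring

theorem exists_pow_mul_eq_zero (k : ℕ) (x : A) (hx : x ∈ 𝒜 (k • d))
    (h : Away.mk 𝒜 hf k x hx = 0) : ∃ j : ℕ, f ^ j * x = 0 := by
  have h1 := congrArg HomogeneousLocalization.val h
  rw [Away.val_mk, HomogeneousLocalization.val_zero, Localization.mk_eq_mk',
    IsLocalization.mk'_eq_zero_iff] at h1
  obtain ⟨⟨_, j, rfl⟩, hj⟩ := h1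
  exact ⟨j, hj⟩

end AwayMk

section MapMkT

variable {A B : Type u} [CommRing A] [CommRing B] {𝒜 : ℕ → AddSubgroup A}
  {ℬ : ℕ → AddSubgroup B} [GradedRing 𝒜] [GradedRing ℬ] (φ : 𝒜 →+*ᵍ ℬ) {f : A} {d : ℕ}
  (hf : f ∈ 𝒜 d)

theorem map_mkT (k : ℕ) (x : A) :
    Away.map φ f (mkT hf k x) = mkT (Graded.map_mem φ hf) k (φ x) := by
  unfold mkT
  rw [Away.map_mk]
  apply HomogeneousLocalization.val_injective
  rw [Away.val_mk, Away.val_mk, GradedRingHom.map_directSumDecompose]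

end MapMkT

section AwayLin

variable {R S : Type u} [CommRing R] [CommRing S] [Algebra R S]
  {𝒜 : ℕ → AddSubgroup S} [GradedRing 𝒜] (h0 : ∀ r : R, algebraMap R S r ∈ 𝒜 0)
  {d : ℕ} {f : S} (hf : f ∈ 𝒜 d) [Algebra R (Away 𝒜 f)]
  (hτ : ∀ r : R, algebraMap R (Away 𝒜 f) r =
    fromZeroRingHom 𝒜 (Submonoid.powers f) ⟨algebraMap R S r, h0 r⟩)

/-- `s ↦ s_{kd}/f^k` as a linear map over a ring acting in degree zero -/
noncomputable def awayLin (k : ℕ) : S →ₗ[R] Away 𝒜 f where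
  toFun := mkT hf k
  map_add' := mkT_add hf k
  map_smul' r s := by
    rw [RingHom.id_apply, Algebra.smul_def, Algebra.smul_def, hτ]
    exact mkT_zero_mul hf k _ _ (h0 r)

@[simp] theorem awayLin_apply (k : ℕ) (s : S) : awayLin h0 hf hτ k s = mkT hf k s := rfl

end AwayLin

section RingBC

variable {R R' S S' : Type u} [CommRing R] [CommRing R'] [CommRing S] [CommRing S']
  [Algebra R R'] [Algebra R S] [Algebra R' S'] [Algebra S S'] [Algebra R S']
  [IsScalarTower R R' S'] [IsScalarTower R S S']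
  {𝒜 : ℕ → AddSubgroup S} {ℬ : ℕ → AddSubgroup S'} [GradedRing 𝒜] [GradedRing ℬ]
  (φ : 𝒜 →+*ᵍ ℬ) (hφ : ∀ s, φ s = algebraMap S S' s)
  (h0 : ∀ r : R, algebraMap R S r ∈ 𝒜 0) (h0' : ∀ r : R', algebraMap R' S' r ∈ ℬ 0)
  (hpo : Algebra.IsPushout R R' S S')

include hφ h0' hpo in
theorem mem_of_forall_map_mem (I : Ideal S') (n : ℕ) (hI : ∀ s ∈ 𝒜 n, φ s ∈ I) :
    ∀ x ∈ ℬ n, x ∈ I := by
  have key : ∀ x : S', (DirectSum.decompose ℬ x n : S') ∈ I := by
    intro x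
    induction x using hpo.out.inductionOn with
    | zero =>
      rw [DirectSum.decompose_zero, DirectSum.zero_apply, ZeroMemClass.coe_zero]
      exact I.zero_mem
    | tmul s =>
      have e : (IsScalarTower.toAlgHom R S S').toLinearMap s = φ s := by rw [hφ]; rfl
      rw [e, ← GradedRingHom.map_directSumDecompose]
      exact hI _ (SetLike.coe_mem _)
    | smul r x hx =>
      rw [Algebra.smul_def, DirectSum.coe_decompose_mul_of_left_mem_zero ℬ (h0' r)]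
      exact I.mul_mem_left _ hx
    | add x y hx hy =>
      rw [DirectSum.decompose_add, DirectSum.add_apply, AddSubgroup.coe_add]
      exact I.add_mem hx hy
  intro x hx
  have h1 := key x
  rwa [DirectSum.decompose_of_mem_same ℬ hx] at h1

variable {d : ℕ} {f : S} (hf : f ∈ 𝒜 d)
  [Algebra R (Away 𝒜 f)] [Algebra R' (Away ℬ (φ f))] [Algebra (Away 𝒜 f) (Away ℬ (φ f))]
  [Algebra R (Away ℬ (φ f))] [IsScalarTower R R' (Away ℬ (φ f))]
  [IsScalarTower R (Away 𝒜 f) (Away ℬ (φ f))]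
  (hτ : ∀ r : R, algebraMap R (Away 𝒜 f) r =
    fromZeroRingHom 𝒜 (Submonoid.powers f) ⟨algebraMap R S r, h0 r⟩)
  (hτ' : ∀ r : R', algebraMap R' (Away ℬ (φ f)) r =
    fromZeroRingHom ℬ (Submonoid.powers (φ f)) ⟨algebraMap R' S' r, h0' r⟩)
  (hmap : ∀ x, algebraMap (Away 𝒜 f) (Away ℬ (φ f)) x = Away.map φ f x)

/-- `s ↦ 1 ⊗ (s_{kd}/f^k)` -/
noncomputable def ell (k : ℕ) : S →ₗ[R] R' ⊗[R] Away 𝒜 f :=
  (TensorProduct.mk R R' (Away 𝒜 f) 1).comp (awayLin h0 hf hτ k)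

/-- the `R'`-linear extension of `ell` to `S' = R' ⊗ S` -/
noncomputable def Pi (k : ℕ) : S' →ₗ[R'] R' ⊗[R] Away 𝒜 f := hpo.out.lift (ell h0 hf hτ k)

theorem Pi_algebraMap (k : ℕ) (s : S) :
    Pi h0 hpo hf hτ k (algebraMap S S' s) = (1 : R') ⊗ₜ[R] mkT hf k s :=
  hpo.out.lift_eq (ell h0 hf hτ k) s

include hφ in
theorem Pi_succ (k : ℕ) (x : S') :
    Pi h0 hpo hf hτ (k + 1) (φ f * x) = Pi h0 hpo hf hτ k x := by
  have key : (Pi h0 hpo hf hτ (k + 1)).comp (LinearMap.mulLeft R' (φ f)) =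
      Pi h0 hpo hf hτ k := by
    apply hpo.out.algHom_ext
    intro s
    show Pi h0 hpo hf hτ (k + 1) (φ f * algebraMap S S' s) =
      Pi h0 hpo hf hτ k (algebraMap S S' s)
    rw [hφ f, ← map_mul, Pi_algebraMap, Pi_algebraMap, mkT_succ]
  exact LinearMap.congr_fun key x

include hφ in
theorem Pi_pow (k j : ℕ) (x : S') :
    Pi h0 hpo hf hτ (k + j) ((φ f) ^ j * x) = Pi h0 hpo hf hτ k x := by
  induction j generalizing x with
  | zero => rw [pow_zero, one_mul, add_zero]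
  | succ j ih =>
    rw [pow_succ', mul_assoc]
    show Pi h0 hpo hf hτ (k + j + 1) (φ f * ((φ f) ^ j * x)) = _
    rw [Pi_succ φ hφ h0 hpo hf hτ, ih]

include hφ h0' hτ' hmap in
theorem Theta_Pi (k : ℕ) (x : S') :
    (IsScalarTower.toAlgHom R (Away 𝒜 f) (Away ℬ (φ f))).toLinearMap.liftBaseChange R'
      (Pi h0 hpo hf hτ k x) = mkT (Graded.map_mem φ hf) k x := by
  have key : ((IsScalarTower.toAlgHom R (Away 𝒜 f)
      (Away ℬ (φ f))).toLinearMap.liftBaseChange R').comp (Pi h0 hpo hf hτ k) =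
      awayLin h0' (Graded.map_mem φ hf) hτ' k := by
    apply hpo.out.algHom_ext
    intro s
    show (IsScalarTower.toAlgHom R (Away 𝒜 f) (Away ℬ (φ f))).toLinearMap.liftBaseChange R'
      (Pi h0 hpo hf hτ k (algebraMap S S' s)) =
        mkT (Graded.map_mem φ hf) k (algebraMap S S' s)
    rw [Pi_algebraMap, LinearMap.liftBaseChange_tmul, one_smul]
    show algebraMap (Away 𝒜 f) (Away ℬ (φ f)) (mkT hf k s) = _
    rw [hmap, map_mkT, hφ s]
  exact LinearMap.congr_fun key x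

include hφ h0' in
theorem exists_Pi (z : R' ⊗[R] Away 𝒜 f) :
    ∃ (k : ℕ) (x : S'), x ∈ ℬ (k • d) ∧ z = Pi h0 hpo hf hτ k x := by
  induction z using TensorProduct.induction_on with
  | zero => exact ⟨0, 0, zero_mem _, (map_zero _).symm⟩
  | tmul r m =>
    obtain ⟨n, a, ha, rfl⟩ := Away.mk_surjective 𝒜 hf m
    refine ⟨n, r • algebraMap S S' a, ?_, ?_⟩
    · rw [← hφ a, Algebra.smul_def r (φ a)]
      have h1 := SetLike.mul_mem_graded (h0' r) (Graded.map_mem φ ha)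
      rwa [zero_add] at h1
    · rw [LinearMap.map_smul, Pi_algebraMap, TensorProduct.smul_tmul', smul_eq_mul, mul_one,
        mkT_of_mem hf n a ha]
  | add z₁ z₂ h₁ h₂ =>
    obtain ⟨k, x₁, hx₁, rfl⟩ := h₁
    obtain ⟨l, x₂, hx₂, rfl⟩ := h₂
    refine ⟨k + l, (φ f) ^ l * x₁ + (φ f) ^ k * x₂, ?_, ?_⟩
    · apply add_mem
      · have h1 := SetLike.mul_mem_graded
          (SetLike.pow_mem_graded l (Graded.map_mem φ hf)) hx₁
        rwa [← add_smul, add_comm l k] at h1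
      · have h1 := SetLike.mul_mem_graded
          (SetLike.pow_mem_graded k (Graded.map_mem φ hf)) hx₂
        rwa [← add_smul] at h1
    · rw [map_add, Pi_pow φ hφ h0 hpo hf hτ k l x₁]
      congr 1
      rw [add_comm k l]
      exact (Pi_pow φ hφ h0 hpo hf hτ l k x₂).symm

include hφ h0 h0' hpo hf hτ hτ' hmap in
theorem isPushout_away : Algebra.IsPushout R R' (Away 𝒜 f) (Away ℬ (φ f)) := by
  constructor
  have hg : φ f ∈ ℬ d := Graded.map_mem φ hf
  have hinj : Function.Injective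
      ((IsScalarTower.toAlgHom R (Away 𝒜 f) (Away ℬ (φ f))).toLinearMap.liftBaseChange R') := by
    rw [injective_iff_map_eq_zero]
    intro z hz
    obtain ⟨k, x, hx, rfl⟩ := exists_Pi φ hφ h0 h0' hpo hf hτ z
    rw [Theta_Pi φ hφ h0 h0' hpo hf hτ hτ' hmap k x, mkT_of_mem hg k x hx] at hz
    obtain ⟨j, hj⟩ := exists_pow_mul_eq_zero hg k x hx hz
    rw [← Pi_pow φ hφ h0 hpo hf hτ k j x, hj, map_zero]
  have hsurj : Function.Surjective
      ((IsScalarTower.toAlgHom R (Away 𝒜 f) (Away ℬ (φ f))).toLinearMap.liftBaseChange R') := by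
    intro y
    obtain ⟨k, x, hx, rfl⟩ := Away.mk_surjective ℬ hg y
    exact ⟨Pi h0 hpo hf hτ k x,
      by rw [Theta_Pi φ hφ h0 h0' hpo hf hτ hτ' hmap k x, mkT_of_mem hg k x hx]⟩
  exact IsBaseChange.of_equiv (LinearEquiv.ofBijective _ ⟨hinj, hsurj⟩) (fun x => by simp)

end RingBC

section Cat

theorem isPushout_away_cat {R R' S S' : CommRingCat.{u}} (ρ : R ⟶ R') (σ : R ⟶ S)
    (σ' : R' ⟶ S') (Φ : S ⟶ S') {𝒜 : ℕ → AddSubgroup S} {ℬ : ℕ → AddSubgroup S'}
    [GradedRing 𝒜] [GradedRing ℬ] (φ : 𝒜 →+*ᵍ ℬ) (hφ : ∀ s, φ s = Φ.hom s)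
    (h0 : ∀ r, σ.hom r ∈ 𝒜 0) (h0' : ∀ r, σ'.hom r ∈ ℬ 0)
    (hpo : IsPushout ρ σ σ' Φ) {d : ℕ} (f : S) (hf : f ∈ 𝒜 d)
    (τ : R ⟶ CommRingCat.of (Away 𝒜 f)) (τ' : R' ⟶ CommRingCat.of (Away ℬ (φ f)))
    (hτ : ∀ r, τ.hom r = fromZeroRingHom 𝒜 (Submonoid.powers f) ⟨σ.hom r, h0 r⟩)
    (hτ' : ∀ r, τ'.hom r = fromZeroRingHom ℬ (Submonoid.powers (φ f)) ⟨σ'.hom r, h0' r⟩) :
    IsPushout ρ τ τ' (CommRingCat.ofHom (Away.map φ f)) := by
  letI : Algebra R R' := ρ.hom.toAlgebra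
  letI : Algebra R S := σ.hom.toAlgebra
  letI : Algebra R' S' := σ'.hom.toAlgebra
  letI : Algebra S S' := Φ.hom.toAlgebra
  letI : Algebra R S' := (Φ.hom.comp σ.hom).toAlgebra
  have hw : ∀ r : R, Φ.hom (σ.hom r) = σ'.hom (ρ.hom r) := fun r =>
    (congrArg (fun t : R ⟶ S' => t.hom r) hpo.w).symm
  haveI : IsScalarTower R R' S' := IsScalarTower.of_algebraMap_eq hw
  haveI : IsScalarTower R S S' := IsScalarTower.of_algebraMap_eq (fun r => rfl)
  have hpo' : Algebra.IsPushout R R' S S' :=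
    (CommRingCat.isPushout_iff_isPushout (R := R) (S := S) (R' := R') (S' := S')).mp hpo
  letI : Algebra R (Away 𝒜 f) := τ.hom.toAlgebra
  letI : Algebra R' (Away ℬ (φ f)) := τ'.hom.toAlgebra
  letI : Algebra (Away 𝒜 f) (Away ℬ (φ f)) := (Away.map φ f).toAlgebra
  letI : Algebra R (Away ℬ (φ f)) := ((Away.map φ f).comp τ.hom).toAlgebra
  haveI : IsScalarTower R (Away 𝒜 f) (Away ℬ (φ f)) :=
    IsScalarTower.of_algebraMap_eq (fun r => rfl)
  haveI : IsScalarTower R R' (Away ℬ (φ f)) := IsScalarTower.of_algebraMap_eq (fun r => by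
    show Away.map φ f (τ.hom r) = τ'.hom (ρ.hom r)
    rw [hτ, hτ']
    have e1 := congrArg (fun t : _ →+* _ => t ⟨σ.hom r, h0 r⟩)
      (ProjG.awayMap_comp_fromZeroRingHom φ f)
    refine e1.trans ?_
    show fromZeroRingHom ℬ _ (ProjG.zeroHom φ ⟨σ.hom r, h0 r⟩) = _
    congr 1
    apply Subtype.ext
    show φ (σ.hom r) = σ'.hom (ρ.hom r)
    rw [hφ]
    exact hw r)
  have key : Algebra.IsPushout R R' (Away 𝒜 f) (Away ℬ (φ f)) :=
    isPushout_away φ hφ h0 h0' hpo' hf hτ hτ' (fun x => rfl)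
  exact (CommRingCat.isPushout_iff_isPushout (R := R) (S := Away 𝒜 f) (R' := R')
    (S' := Away ℬ (φ f))).mpr key

theorem mem_domOpen_cat {R R' S S' : CommRingCat.{u}} (ρ : R ⟶ R') (σ : R ⟶ S)
    (σ' : R' ⟶ S') (Φ : S ⟶ S') {𝒜 : ℕ → AddSubgroup S} {ℬ : ℕ → AddSubgroup S'}
    [GradedRing 𝒜] [GradedRing ℬ] (φ : 𝒜 →+*ᵍ ℬ) (hφ : ∀ s, φ s = Φ.hom s)
    (h0' : ∀ r, σ'.hom r ∈ ℬ 0) (hpo : IsPushout ρ σ σ' Φ) (w : Proj ℬ) :
    w ∈ RelCone.domOpen φ := by
  letI : Algebra R R' := ρ.hom.toAlgebra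
  letI : Algebra R S := σ.hom.toAlgebra
  letI : Algebra R' S' := σ'.hom.toAlgebra
  letI : Algebra S S' := Φ.hom.toAlgebra
  letI : Algebra R S' := (Φ.hom.comp σ.hom).toAlgebra
  have hw : ∀ r : R, Φ.hom (σ.hom r) = σ'.hom (ρ.hom r) := fun r =>
    (congrArg (fun t : R ⟶ S' => t.hom r) hpo.w).symm
  haveI : IsScalarTower R R' S' := IsScalarTower.of_algebraMap_eq hw
  haveI : IsScalarTower R S S' := IsScalarTower.of_algebraMap_eq (fun r => rfl)
  have hpo' : Algebra.IsPushout R R' S S' :=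
    (CommRingCat.isPushout_iff_isPushout (R := R) (S := S) (R' := R') (S' := S')).mp hpo
  rw [RelCone.mem_domOpen]
  obtain ⟨e, he, b, hb, hbw⟩ := exists_homog_basicOpen ℬ w
  by_contra hcon
  push Not at hcon
  exact hbw (mem_of_forall_map_mem φ hφ h0' hpo' w.asHomogeneousIdeal.toIdeal e
    (fun s hs => hcon s (HomogeneousIdeal.mem_irrelevant_of_mem _ he hs)) b hb)

end Cat

end Groth.Agent.H4.ProjBC
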