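import Mathlib
import Groth.Agent.H4.FTImm4
import Groth.Agent.S5729
import Groth.Agent.S8259
import Groth.Agent.S12478
import Groth.Agent.S4418
import Groth.Agent.Lib.Lead.QC.AmpleFamily
import Groth.Agent.Lib.Lead.QC.TensorPow

set_option autoImplicit false
set_option linter.style.haveILetI false
universe u
open CategoryTheory CategoryTheory.Limits AlgebraicGeometry TopologicalSpace Opposite

namespace Groth.Agent.H4.ProjCrit

/-- a proper immersion is a closed immersion. -/
theorem isClosedImmersion_of_isProper {X P : Scheme.{u}} (i : X ⟶ P) [IsImmersion i] [IsProper i] :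
    IsClosedImmersion i := by
  have hcl : IsClosed (Set.range i) := by
    rw [← Set.image_univ]
    exact i.isClosedMap _ isClosed_univ
  exact IsClosedImmersion.of_isPreimmersion i hcl

/-- over a qcqs base, a proper morphism with a relatively very ample module is projective. -/
theorem isProjective_of_isProper_of_veryAmple {X Y : Scheme.{u}} [CompactSpace Y]
    [QuasiSeparatedSpace Y] (q : X ⟶ Y) [IsProper q] (L : X.Modules) (hL : PicF.IsInvertible L)
    (hva : RelProj.IsRelVeryAmple q L) : RelProj.IsProjective q := by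
  obtain ⟨E, 𝒯, j, P, p, chart, O1, lam, i, hE, hft, hj, hP, -, hi, hip, -⟩ :=
    Groth.Agent.H4.FTImm4.main_qcqs q L hL hva
  haveI : IsSeparated p := Groth.Agent.S8259.result 𝒯 p chart hP
  haveI : IsProper (i ≫ p) := by rw [hip]; infer_instance
  haveI : IsProper i := IsProper.of_comp i p
  haveI := hi
  exact (Groth.Agent.S5729.result q).mpr
    ⟨E, 𝒯, j, P, p, chart, i, hE, hft, hj, hP, isClosedImmersion_of_isProper i, hip⟩

/-- over a qcqs base, a proper morphism with a relatively ample module is projective. -/
theorem isProjective_of_isProper_of_ample {X Y : Scheme.{u}} [CompactSpace Y]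
    [QuasiSeparatedSpace Y] (q : X ⟶ Y) [IsProper q] (L : X.Modules)
    (hL : RelAmple.IsRelAmple q L) : RelProj.IsProjective q := by
  have hinv : PicF.IsInvertible L := Groth.Agent.LD.QC.isInvertible_of_isRelAmple q L hL
  obtain ⟨n₀, -, hva⟩ := Groth.Agent.S12478.result q L hinv hL
  exact isProjective_of_isProper_of_veryAmple q (CohB1.tensorPow L n₀)
    (Groth.Agent.LD.QC.isInvertible_tensorPow hinv n₀) (hva n₀ le_rfl)

/-- a projective morphism over a quasi-compact base has a relatively very ample module. -/
theorem exists_veryAmple_of_isProjective {X Y : Scheme.{u}} [CompactSpace Y] (f : X ⟶ Y)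
    (hf : RelProj.IsProjective f) :
    IsProper f ∧ ∃ L : X.Modules, PicF.IsInvertible L ∧ RelProj.IsRelVeryAmple f L := by
  obtain ⟨⟨hlft, hqc, L, hL⟩, hp⟩ := Groth.Agent.S4418.result f hf
  haveI := hlft
  haveI := hqc
  have hinv : PicF.IsInvertible L := Groth.Agent.LD.QC.isInvertible_of_isRelAmple f L hL
  obtain ⟨n₀, -, hva⟩ := Groth.Agent.S12478.result f L hinv hL
  exact ⟨hp, CohB1.tensorPow L n₀, Groth.Agent.LD.QC.isInvertible_tensorPow hinv n₀, hva n₀ le_rfl⟩

end Groth.Agent.H4.ProjCrit
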