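import Mathlib
import Groth.Prelude.Def_CohB1
import Groth.Agent.Lib.Helper1.GradedFG

/-!
# Projective space is smooth over the base; chart surjections (helper4)
-/

set_option autoImplicit false
set_option linter.style.haveILetI false
universe u
open CategoryTheory Limits AlgebraicGeometry TopologicalSpace Opposite
open HomogeneousLocalization MvPolynomial

namespace Groth.Agent.H4.ProjSmooth

section Alg

variable (n : ℕ) (R : Type u) [CommRing R]

/-- the polynomial ring -/
abbrev Pol : Type u := MvPolynomial (Fin (n + 1)) R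

theorem hX (i : Fin (n + 1)) : (X i : Pol n R) ∈ CohB1.polyGrading n R 1 :=
  isHomogeneous_X R i

theorem hX1 (j : Fin (n + 1)) : (X j : Pol n R) ∈ CohB1.polyGrading n R (1 • 1) := by
  simpa using hX n R j

/-- the chart ring -/
abbrev Bi (i : Fin (n + 1)) : Type u := Away (CohB1.polyGrading n R) (X i : Pol n R)

/-- the full localization -/
abbrev Li (i : Fin (n + 1)) : Type u := Localization.Away (X i : Pol n R)

/-- scalars in the chart ring -/
noncomputable def sc (i : Fin (n + 1)) : R →+* Bi n R i :=
  (fromZeroRingHom (CohB1.polyGrading n R) _).comp (algebraMap R (CohB1.polyGrading n R 0))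

/-- the inverse of `X i` -/
noncomputable def uu (i : Fin (n + 1)) : Li n R i :=
  Localization.mk 1 ⟨X i, Submonoid.mem_powers _⟩

theorem uu_mul (i : Fin (n + 1)) :
    uu n R i * algebraMap (Pol n R) (Li n R i) (X i) = 1 := by
  rw [uu, ← Localization.mk_one_eq_algebraMap, Localization.mk_mul, one_mul, mul_one]
  exact Localization.mk_self ⟨X i, Submonoid.mem_powers _⟩

theorem mk_eq (i : Fin (n + 1)) (k : ℕ) (a : Pol n R) :
    Localization.mk a (⟨X i ^ k, pow_mem (Submonoid.mem_powers (X i)) k⟩ :
      Submonoid.powers (X i : Pol n R)) = uu n R i ^ k * algebraMap (Pol n R) (Li n R i) a := by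
  rw [uu, Localization.mk_pow, one_pow, ← Localization.mk_one_eq_algebraMap, Localization.mk_mul,
    one_mul, mul_one]
  rfl

theorem val_mk_eq (i : Fin (n + 1)) (k : ℕ) (a : Pol n R) (ha : a ∈ CohB1.polyGrading n R (k • 1)) :
    (Away.mk (CohB1.polyGrading n R) (hX n R i) k a ha).val =
      uu n R i ^ k * algebraMap (Pol n R) (Li n R i) a :=
  (Away.val_mk (CohB1.polyGrading n R) k (hX n R i) a ha).trans (mk_eq n R i k a)

theorem val_sc (i : Fin (n + 1)) (r : R) :
    (sc n R i r).val = algebraMap R (Li n R i) r := by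
  rw [IsScalarTower.algebraMap_apply R (Pol n R) (Li n R i), ← Localization.mk_one_eq_algebraMap]
  rfl

/-- the `R`-algebra structure of the chart ring -/
theorem smul_def_aux (i : Fin (n + 1)) (r : R) (b : Bi n R i) : r • b = sc n R i r * b := by
  apply HomogeneousLocalization.val_injective
  rw [val_smul, val_mul, val_sc, Algebra.smul_def]

@[reducible] noncomputable def algBi (i : Fin (n + 1)) : Algebra R (Bi n R i) :=
  { (inferInstance : SMul R (Bi n R i)) with
    algebraMap := sc n R i
    commutes' := fun r b => mul_comm _ _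
    smul_def' := fun r b => smul_def_aux n R i r b }

attribute [local instance] algBi

instance towerBi (i : Fin (n + 1)) : IsScalarTower R (Bi n R i) (Li n R i) :=
  ⟨fun r b l => by
    change (r • b).val * l = r • (b.val * l)
    rw [val_smul, smul_mul_assoc]⟩

/-- `val` as an algebra map -/
noncomputable def valA (i : Fin (n + 1)) : Bi n R i →ₐ[R] Li n R i :=
  IsScalarTower.toAlgHom R (Bi n R i) (Li n R i)

theorem valA_apply (i : Fin (n + 1)) (b : Bi n R i) : valA n R i b = b.val := rfl

/-- dehomogenization into the chart ring -/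
noncomputable def evA (i : Fin (n + 1)) : Pol n R →ₐ[R] Bi n R i :=
  aeval (fun j => Away.mk (CohB1.polyGrading n R) (hX n R i) 1 (X j) (hX1 n R j))

/-- dehomogenization into the localization -/
noncomputable def wA (i : Fin (n + 1)) : Pol n R →ₐ[R] Li n R i :=
  aeval (fun j => uu n R i * algebraMap (Pol n R) (Li n R i) (X j))

theorem valA_comp_evA (i : Fin (n + 1)) : (valA n R i).comp (evA n R i) = wA n R i := by
  apply MvPolynomial.algHom_ext
  intro j
  rw [AlgHom.comp_apply, evA, wA, aeval_X, aeval_X, valA_apply, val_mk_eq, pow_one]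

/-- homogeneous evaluation -/
theorem aeval_mul_of_isHomogeneous {S σ : Type*} [CommRing S] [Algebra R S] (g : σ → S) (c : S)
    {a : MvPolynomial σ R} {k : ℕ} (ha : a.IsHomogeneous k) :
    aeval (fun j => c * g j) a = c ^ k * aeval g a := by
  rw [aeval_def, aeval_def, eval₂_eq, eval₂_eq, Finset.mul_sum]
  refine Finset.sum_congr rfl fun v hv => ?_
  have h2 : ∏ i ∈ v.support, (c * g i) ^ v i = c ^ k * ∏ i ∈ v.support, g i ^ v i := by
    simp only [mul_pow]
    rw [Finset.prod_mul_distrib, Finset.prod_pow_eq_pow_sum, ← ha.degree_eq_sum_deg_support hv]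
  rw [h2]; ring

theorem wA_apply (i : Fin (n + 1)) (k : ℕ) (a : Pol n R) (ha : a.IsHomogeneous k) :
    wA n R i a = uu n R i ^ k * algebraMap (Pol n R) (Li n R i) a := by
  rw [wA, aeval_mul_of_isHomogeneous R _ _ ha]
  congr 1
  have h1 := MvPolynomial.aeval_unique (IsScalarTower.toAlgHom R (Pol n R) (Li n R i))
  exact congr($(h1.symm) a)

theorem evA_apply (i : Fin (n + 1)) (k : ℕ) (a : Pol n R)
    (ha : a ∈ CohB1.polyGrading n R (k • 1)) :
    evA n R i a = Away.mk (CohB1.polyGrading n R) (hX n R i) k a ha := by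
  apply HomogeneousLocalization.val_injective
  have h1 : (evA n R i a).val = wA n R i a := by
    rw [← valA_apply, ← AlgHom.comp_apply, valA_comp_evA]
  have h2 : a.IsHomogeneous k := by
    have h3 : a.IsHomogeneous (k • 1) := ha
    rwa [smul_eq_mul, mul_one] at h3
  rw [h1, wA_apply n R i k a h2, val_mk_eq]

theorem evA_X_self (i : Fin (n + 1)) : evA n R i (X i) = 1 := by
  apply HomogeneousLocalization.val_injective
  rw [evA, aeval_X, val_mk_eq, pow_one, uu_mul, val_one]

theorem isUnit_evA (i : Fin (n + 1)) (y : Submonoid.powers (X i : Pol n R)) :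
    IsUnit (evA n R i y) := by
  obtain ⟨m, hm⟩ := y.2
  rw [← hm, map_pow, evA_X_self, one_pow]
  exact isUnit_one

/-- the retraction of the localization onto its degree zero part -/
noncomputable def rhoA (i : Fin (n + 1)) : Li n R i →ₐ[R] Bi n R i :=
  IsLocalization.liftAlgHom (M := Submonoid.powers (X i : Pol n R)) (f := evA n R i)
    (isUnit_evA n R i)

theorem rhoA_algebraMap (i : Fin (n + 1)) (p : Pol n R) :
    rhoA n R i (algebraMap (Pol n R) (Li n R i) p) = evA n R i p :=
  IsLocalization.lift_eq _ p

theorem rhoA_uu (i : Fin (n + 1)) : rhoA n R i (uu n R i) = 1 := by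
  have h1 := congrArg (rhoA n R i) (uu_mul n R i)
  rwa [map_mul, rhoA_algebraMap, evA_X_self, mul_one, map_one] at h1

theorem rhoA_val (i : Fin (n + 1)) (b : Bi n R i) : rhoA n R i b.val = b := by
  obtain ⟨k, a, ha, rfl⟩ := Away.mk_surjective (CohB1.polyGrading n R) (hX n R i) b
  rw [val_mk_eq, map_mul, map_pow, rhoA_uu, one_pow, one_mul, rhoA_algebraMap,
    evA_apply n R i k a ha]

theorem formallySmooth_Bi (i : Fin (n + 1)) : Algebra.FormallySmooth R (Bi n R i) := by
  haveI : Algebra.FormallySmooth (Pol n R) (Li n R i) :=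
    Algebra.FormallySmooth.of_isLocalization (Submonoid.powers (X i : Pol n R))
  haveI : Algebra.FormallySmooth R (Li n R i) :=
    Algebra.FormallySmooth.comp R (Pol n R) (Li n R i)
  refine Algebra.FormallySmooth.of_split (rhoA n R i)
    ((Ideal.Quotient.mkₐ R _).comp (valA n R i)) ?_
  ext b
  rw [AlgHom.comp_apply, AlgHom.comp_apply, Ideal.Quotient.mkₐ_eq_mk, AlgHom.kerSquareLift_mk,
    valA_apply, rhoA_val, AlgHom.id_apply]

theorem finitePresentation_Bi (i : Fin (n + 1)) : Algebra.FinitePresentation R (Bi n R i) := by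
  haveI : Algebra.FinitePresentation (Pol n R) (Li n R i) :=
    IsLocalization.Away.finitePresentation (X i : Pol n R)
  haveI : Algebra.FinitePresentation R (Li n R i) :=
    Algebra.FinitePresentation.trans R (Pol n R) (Li n R i)
  refine Algebra.FinitePresentation.of_surjective (f := rhoA n R i)
    (fun b => ⟨b.val, rhoA_val n R i b⟩) ?_
  obtain ⟨J, hJ⟩ : ∃ J : Ideal (Li n R i), J = Ideal.span (Set.range fun j : Fin (n + 1) =>
      algebraMap (Pol n R) (Li n R i) (X j) -
        (rhoA n R i (algebraMap (Pol n R) (Li n R i) (X j))).val) := ⟨_, rfl⟩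
  have hker : RingHom.ker (rhoA n R i).toRingHom = J := by
    apply le_antisymm
    · intro x hx
      have key : (Ideal.Quotient.mk J) = (Ideal.Quotient.mk J).comp
          ((algebraMap (Bi n R i) (Li n R i)).comp (rhoA n R i).toRingHom) := by
        apply IsLocalization.ringHom_ext (Submonoid.powers (X i : Pol n R))
        apply MvPolynomial.ringHom_ext
        · intro r
          simp only [RingHom.comp_apply]
          congr 1
          have h1 : algebraMap (Pol n R) (Li n R i) (C r) = algebraMap R (Li n R i) r := by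
            rw [IsScalarTower.algebraMap_apply R (Pol n R) (Li n R i)]
            rfl
          rw [h1]
          have h2 : (rhoA n R i).toRingHom (algebraMap R (Li n R i) r) =
              algebraMap R (Bi n R i) r := (rhoA n R i).commutes r
          rw [h2]
          exact IsScalarTower.algebraMap_apply R (Bi n R i) (Li n R i) r
        · intro j
          simp only [RingHom.comp_apply]
          rw [Ideal.Quotient.eq, hJ]
          exact Ideal.subset_span ⟨j, rfl⟩
      have h1 : Ideal.Quotient.mk J x = Ideal.Quotient.mk J ((rhoA n R i x).val) :=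
        congr($key x)
      have hx' : rhoA n R i x = 0 := hx
      rw [hx', val_zero, map_zero] at h1
      exact Ideal.Quotient.eq_zero_iff_mem.mp h1
    · rw [hJ, Ideal.span_le]
      rintro _ ⟨j, rfl⟩
      change rhoA n R i _ = 0
      rw [map_sub, rhoA_val, sub_self]
  rw [hker, hJ]
  exact Submodule.fg_span (Set.finite_range _)

theorem smooth_sc (i : Fin (n + 1)) : (sc n R i).Smooth := by
  have h : algBi n R i = (sc n R i).toAlgebra := Algebra.algebra_ext _ _ (fun r => rfl)
  rw [RingHom.Smooth, ← h]
  exact ⟨formallySmooth_Bi n R i, finitePresentation_Bi n R i⟩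

theorem adjoin_X_eq_top :
    Algebra.adjoin (CohB1.polyGrading n R 0) (Set.range fun i : Fin (n + 1) => (X i : Pol n R)) = ⊤ := by
  rw [eq_top_iff]
  intro p hp
  clear hp
  induction p using MvPolynomial.induction_on with
  | C r =>
    have h1 : (C r : Pol n R) = algebraMap (CohB1.polyGrading n R 0) (Pol n R)
        (algebraMap R (CohB1.polyGrading n R 0) r) := rfl
    rw [h1]
    exact Subalgebra.algebraMap_mem _ _
  | add p q hp hq => exact Subalgebra.add_mem _ hp hq
  | mul_X p i hp => exact Subalgebra.mul_mem _ hp (Algebra.subset_adjoin ⟨i, rfl⟩)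

theorem irrelevant_le :
    (HomogeneousIdeal.irrelevant (CohB1.polyGrading n R)).toIdeal ≤
      Ideal.span (Set.range fun i : Fin (n + 1) => (X i : Pol n R)) :=
  Groth.Agent.H1.GFG.irrelevant_le_span_of_adjoin_eq_top (CohB1.polyGrading n R) _
    (by rintro _ ⟨i, rfl⟩; exact ⟨1, hX n R i⟩) (adjoin_X_eq_top n R)

end Alg

section Sch

variable (n : ℕ) (R : Type u) [CommRing R]

/-- projective space is smooth over the base ring -/
theorem smooth_toSpec : Smooth (CohB1.ProjSpace.toSpec n R) := by
  have hi : ∀ j : Fin (n + 1), Smooth (Proj.awayι (CohB1.polyGrading n R) (X j : Pol n R)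
      (hX n R j) one_pos ≫ Proj.toSpecZero (CohB1.polyGrading n R) ≫
        Spec.map (CommRingCat.ofHom (algebraMap R (CohB1.polyGrading n R 0)))) := by
    intro j
    rw [Proj.awayι_toSpecZero_assoc, ← Spec.map_comp,
      HasRingHomProperty.Spec_iff (P := @Smooth)]
    exact smooth_sc n R j
  obtain ⟨𝒰, h𝒰⟩ : ∃ 𝒰 : (CohB1.ProjSpace n R).AffineOpenCover, 𝒰 =
      Proj.affineOpenCoverOfIrrelevantLESpan (CohB1.polyGrading n R)
        (fun i : Fin (n + 1) => (X i : Pol n R)) (m := fun _ => 1) (hX n R) (fun _ => one_pos)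
        (irrelevant_le n R) := ⟨_, rfl⟩
  rw [IsZariskiLocalAtSource.iff_of_openCover (P := @Smooth) 𝒰.openCover]
  intro i
  subst h𝒰
  exact hi i

/-- projective space over any base is smooth -/
theorem smooth_toBase (S : Scheme.{u}) : Smooth (CohB1.ProjSpaceOver.toBase n S) := by
  exact MorphismProperty.pullback_snd (P := @Smooth) _ _ (smooth_toSpec n (ULift.{u} ℤ))

end Sch

end Groth.Agent.H4.ProjSmooth
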