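import Mathlib
import Groth.Agent.H4.ProjSmooth
import Groth.Agent.Lib.Lead.PN.OverChart
import Groth.Agent.Lib.Helper5.AG.ProjProper
import Groth.Agent.Lib.Helper2.QuotC

/-!
# Affine pieces of finite type morphisms embed into projective space (S17642) (helper4)
-/

set_option autoImplicit false
set_option linter.style.haveILetI false
universe u
open CategoryTheory Limits AlgebraicGeometry TopologicalSpace Opposite
open HomogeneousLocalization MvPolynomial

namespace Groth.Agent.H4.ProjEmb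

open Groth.Agent.H4.ProjSmooth

section Chart

variable {R A : Type u} [CommRing R] [CommRing A]

theorem exists_chart_surj (φ : R →+* A) (hφ : φ.FiniteType) :
    ∃ (n : ℕ) (ψ : Bi n R 0 →+* A), Function.Surjective ψ ∧ ψ.comp (sc n R 0) = φ := by
  letI := φ.toAlgebra
  haveI : Algebra.FiniteType R A := hφ
  obtain ⟨n, π, hπ⟩ := Algebra.FiniteType.iff_quotient_mvPolynomial''.mp ‹_›
  obtain ⟨ev, hev⟩ : ∃ ev : Pol n R →ₐ[R] A,
      ev = aeval (Fin.cases (1 : A) (fun j => π (X j))) := ⟨_, rfl⟩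
  have hev0 : ev (X 0) = 1 := by rw [hev, aeval_X]; rfl
  have hevs : ∀ j : Fin n, ev (X j.succ) = π (X j) := by
    intro j; rw [hev, aeval_X]; rfl
  have hunit : ∀ y : Submonoid.powers (X 0 : Pol n R), IsUnit (ev y) := by
    intro y
    obtain ⟨m, hm⟩ := y.2
    rw [← hm, map_pow, hev0, one_pow]
    exact isUnit_one
  obtain ⟨ρ, hρ⟩ : ∃ ρ : Li n R 0 →ₐ[R] A,
      ∀ p, ρ (algebraMap (Pol n R) (Li n R 0) p) = ev p :=
    ⟨IsLocalization.liftAlgHom (M := Submonoid.powers (X 0 : Pol n R)) (f := ev) hunit,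
      fun p => IsLocalization.lift_eq _ p⟩
  have hρu : ρ (uu n R 0) = 1 := by
    have h1 := congrArg ρ (uu_mul n R 0)
    rwa [map_mul, hρ, hev0, mul_one, map_one] at h1
  letI := algBi n R 0
  obtain ⟨ψA, hψA⟩ : ∃ ψA : Bi n R 0 →ₐ[R] A, ∀ b, ψA b = ρ b.val :=
    ⟨ρ.comp (valA n R 0), fun b => rfl⟩
  refine ⟨n, ψA.toRingHom, ?_, ?_⟩
  · have hcomp : ψA.comp (aeval (fun j : Fin n => Away.mk (CohB1.polyGrading n R) (hX n R 0) 1
        (X j.succ) (hX1 n R j.succ))) = π := by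
      apply MvPolynomial.algHom_ext
      intro j
      rw [AlgHom.comp_apply, aeval_X, hψA, val_mk_eq, pow_one, map_mul, hρu, one_mul, hρ, hevs]
    intro x
    obtain ⟨p, rfl⟩ := hπ x
    exact ⟨aeval _ p, congr($hcomp p)⟩
  · ext r
    change ψA (sc n R 0 r) = φ r
    rw [hψA, val_sc, AlgHom.commutes]
    rfl

end Chart

section Main

theorem awayι_toSpec (n : ℕ) (R : Type u) [CommRing R] (i : Fin (n + 1)) :
    Proj.awayι (CohB1.polyGrading n R) (X i : Pol n R) (hX n R i) one_pos ≫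
      CohB1.ProjSpace.toSpec n R = Spec.map (CommRingCat.ofHom (sc n R i)) := by
  change Proj.awayι (CohB1.polyGrading n R) (X i : Pol n R) (hX n R i) one_pos ≫
    Proj.toSpecZero (CohB1.polyGrading n R) ≫
      Spec.map (CommRingCat.ofHom (algebraMap R (CohB1.polyGrading n R 0))) = _
  rw [Proj.awayι_toSpecZero_assoc, ← Spec.map_comp]
  rfl

/-- the standard chart as a morphism into `CohB1.ProjSpace` -/
noncomputable def chartι (n : ℕ) (R : Type u) [CommRing R] (i : Fin (n + 1)) :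
    Spec (CommRingCat.of (Bi n R i)) ⟶ CohB1.ProjSpace n R :=
  Proj.awayι (CohB1.polyGrading n R) (X i : Pol n R) (hX n R i) one_pos

instance (n : ℕ) (R : Type u) [CommRing R] (i : Fin (n + 1)) : IsOpenImmersion (chartι n R i) := by
  show IsOpenImmersion (Proj.awayι (CohB1.polyGrading n R) (X i : Pol n R) (hX n R i) one_pos)
  infer_instance

theorem chartι_toSpec (n : ℕ) (R : Type u) [CommRing R] (i : Fin (n + 1)) :
    chartι n R i ≫ CohB1.ProjSpace.toSpec n R = Spec.map (CommRingCat.ofHom (sc n R i)) :=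
  awayι_toSpec n R i

open Groth.Agent.H2.Quot in
/-- **S17642** -/
theorem main_S17642 {X Y : Scheme.{u}} [IsNoetherian X] [IsNoetherian Y] (f : X ⟶ Y)
    [LocallyOfFiniteType f] (U : X.Opens) (hU : IsAffineOpen U) (V : Y.Opens)
    (hV : IsAffineOpen V) (hUV : U ≤ f ⁻¹ᵁ V) :
    ∃ (W P : Scheme.{u}) (g : (U : Scheme.{u}) ⟶ W) (h : W ⟶ P) (k : P ⟶ Y),
      IsOpenImmersion g ∧ IsClosedImmersion h ∧ Smooth k ∧ IsProper k ∧
        g ≫ h ≫ k = U.ι ≫ f := by
  have hft : (f.appLE V U hUV).hom.FiniteType := f.finiteType_appLE hV hU hUV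
  obtain ⟨n, ψ, hψs, hψφ⟩ := exists_chart_surj (f.appLE V U hUV).hom hft
  haveI : IsIso U.toSpecΓ := by rw [← hU.isoSpec_hom]; infer_instance
  haveI : IsClosedImmersion (Spec.map (CommRingCat.ofHom ψ)) :=
    IsClosedImmersion.spec_of_surjective _ hψs
  obtain ⟨j, hj⟩ : ∃ j : (U : Scheme.{u}) ⟶ CohB1.ProjSpaceOver n Y,
      j = U.toSpecΓ ≫ Spec.map (CommRingCat.ofHom ψ) ≫
        chartι n Γ(Y, V) 0 ≫ Groth.Agent.LD.PN.OC.chart n hV.fromSpec := ⟨_, rfl⟩
  have h1 : chartι n Γ(Y, V) 0 ≫ Groth.Agent.LD.PN.OC.chart n hV.fromSpec ≫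
      CohB1.ProjSpaceOver.toBase n Y =
      Spec.map (CommRingCat.ofHom (sc n Γ(Y, V) 0)) ≫ hV.fromSpec := by
    rw [Groth.Agent.LD.PN.OC.chart_toBase, ← Category.assoc, chartι_toSpec]
  have h2 : Spec.map (CommRingCat.ofHom ψ) ≫ Spec.map (CommRingCat.ofHom (sc n Γ(Y, V) 0)) =
      Spec.map (f.appLE V U hUV) := by
    rw [← Spec.map_comp, ← CommRingCat.ofHom_comp, hψφ]
    rfl
  have hjk : j ≫ CohB1.ProjSpaceOver.toBase n Y = U.ι ≫ f := by
    calc j ≫ CohB1.ProjSpaceOver.toBase n Y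
        = U.toSpecΓ ≫ Spec.map (CommRingCat.ofHom ψ) ≫
          (chartι n Γ(Y, V) 0 ≫ Groth.Agent.LD.PN.OC.chart n hV.fromSpec ≫
              CohB1.ProjSpaceOver.toBase n Y) := by
          rw [hj]; simp only [Category.assoc]
      _ = U.toSpecΓ ≫ (Spec.map (CommRingCat.ofHom ψ) ≫
            Spec.map (CommRingCat.ofHom (sc n Γ(Y, V) 0))) ≫ hV.fromSpec := by
          rw [h1]; simp only [Category.assoc]
      _ = U.toSpecΓ ≫ Spec.map (f.appLE V U hUV) ≫ hV.fromSpec := by rw [h2]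
      _ = U.ι ≫ f := toSpecΓ_appLE_fromSpec f hV U hUV
  haveI : IsImmersion j := by rw [hj]; infer_instance
  haveI : IsNoetherianRing Γ(X, U) := IsLocallyNoetherian.component_noetherian ⟨U, hU⟩
  haveI : NoetherianSpace U := noetherianSpace_of_isAffineOpen U hU
  haveI : QuasiCompact j := inferInstance
  refine ⟨j.image, CohB1.ProjSpaceOver n Y, j.toImage, j.imageι, CohB1.ProjSpaceOver.toBase n Y,
    inferInstance, inferInstance, smooth_toBase n Y, Groth.Agent.H5.AG.isProper_toBase n Y, ?_⟩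
  rw [← Category.assoc, Scheme.Hom.toImage_imageι, hjk]

end Main

end Groth.Agent.H4.ProjEmb
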