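import Mathlib
import Groth.Prelude.Def_GrTwist
import Groth.Prelude.Def_RelProj2
import Groth.Agent.H4.ProjPhi
import Groth.Agent.Lib.Helper5.Glue.G

set_option autoImplicit false
set_option linter.unusedSectionVars false
set_option linter.unusedVariables false
set_option linter.style.haveILetI false
universe u
open CategoryTheory AlgebraicGeometry TopologicalSpace Opposite

namespace Groth.Agent.H4.ProjFrac
section Abs
variable {A σ : Type u} [CommRing A] [SetLike σ A] [AddSubgroupClass σ A] (𝒜 : ℕ → σ) [GradedRing 𝒜]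
open HomogeneousLocalization GrTwist

/-- pulling back a section over `D₊(h)` along the standard chart `Spec A_(h) ⟶ Proj A`. -/
theorem awayToSection_awayι_appLE {h : A} {m : ℕ} (hh : h ∈ 𝒜 m) (hm : 0 < m)
    (e : (⊤ : (Spec (.of (Away 𝒜 h))).Opens) ≤ Proj.awayι 𝒜 h hh hm ⁻¹ᵁ Proj.basicOpen 𝒜 h) :
    Proj.awayToSection 𝒜 h ≫ (Proj.awayι 𝒜 h hh hm).appLE (Proj.basicOpen 𝒜 h) ⊤ e =
      (Scheme.ΓSpecIso (.of (Away 𝒜 h))).inv := by
  have e1 : (⊤ : (Proj.basicOpen 𝒜 h).toScheme.Opens) ≤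
      (Proj.basicOpen 𝒜 h).ι ⁻¹ᵁ (Proj.basicOpen 𝒜 h) := fun x _ => x.2
  have e2 : (⊤ : (Spec (.of (Away 𝒜 h))).Opens) ≤
      (Proj.basicOpenIsoSpec 𝒜 h hh hm).inv ⁻¹ᵁ ⊤ := le_top
  have h0 := Scheme.Hom.appLE_comp_appLE (Proj.basicOpenIsoSpec 𝒜 h hh hm).inv
    (Proj.basicOpen 𝒜 h).ι (Proj.basicOpen 𝒜 h) ⊤ ⊤ e1 e2
  have h0' : (Proj.awayι 𝒜 h hh hm).appLE (Proj.basicOpen 𝒜 h) ⊤ e =
      (Proj.basicOpen 𝒜 h).ι.appLE (Proj.basicOpen 𝒜 h) ⊤ e1 ≫
        (Proj.basicOpenIsoSpec 𝒜 h hh hm).inv.appLE ⊤ ⊤ e2 := h0.symm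
  have h2 : (Proj.basicOpenIsoSpec 𝒜 h hh hm).inv.appLE ⊤ ⊤ e2 =
      (Proj.basicOpenIsoSpec 𝒜 h hh hm).inv.appTop := by
    rw [Scheme.Hom.appLE, Scheme.Hom.appTop]
    exact (congrArg (fun t => (Proj.basicOpenIsoSpec 𝒜 h hh hm).inv.app ⊤ ≫ t)
      ((Spec (.of (Away 𝒜 h))).presheaf.map_id _)).trans (Category.comp_id _)
  have h5 : (Proj.basicOpenIsoSpec 𝒜 h hh hm).inv.appTop ≫
      (Proj.basicOpenIsoSpec 𝒜 h hh hm).hom.appTop = 𝟙 _ := by
    rw [← Scheme.Hom.comp_appTop, Iso.hom_inv_id]; rfl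
  have h6 : (Proj.basicOpenIsoSpec 𝒜 h hh hm).hom.appTop =
      (Scheme.ΓSpecIso _).hom ≫ Proj.awayToSection 𝒜 h ≫ (Proj.basicOpen 𝒜 h).topIso.inv := by
    rw [Proj.basicOpenIsoSpec_hom]
    exact Proj.basicOpenToSpec_app_top 𝒜 h
  have h7 : (Proj.basicOpen 𝒜 h).ι.appLE (Proj.basicOpen 𝒜 h) ⊤ e1 =
      (Proj.basicOpen 𝒜 h).topIso.inv := by
    rw [Scheme.Opens.ι_appLE]
    rfl
  have h8 : (Proj.basicOpenIsoSpec 𝒜 h hh hm).hom.appTop ≫
      (Proj.basicOpenIsoSpec 𝒜 h hh hm).inv.appTop = 𝟙 _ := by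
    rw [← Scheme.Hom.comp_appTop, Iso.inv_hom_id]; rfl
  have h9 : Proj.awayToSection 𝒜 h ≫ (Proj.basicOpen 𝒜 h).topIso.inv =
      (Scheme.ΓSpecIso _).inv ≫ (Proj.basicOpenIsoSpec 𝒜 h hh hm).hom.appTop := by
    rw [h6, Iso.inv_hom_id_assoc]
  rw [h0', h2, h7, ← Category.assoc, h9, Category.assoc, h8, Category.comp_id]

/-- the value at a point of `D₊(h)` of the function `f / h`. -/
theorem awayToSection_mk_val {f h : A} (hf : f ∈ 𝒜 1) (hh : h ∈ 𝒜 1) (hf' : f ∈ 𝒜 (1 • 1))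
    (y : ProjectiveSpectrum 𝒜) (hy : h ∉ y.asHomogeneousIdeal) :
    (((show O (𝒜 := 𝒜) (op (ProjectiveSpectrum.basicOpen 𝒜 h)) from
      (Proj.awayToSection 𝒜 h).hom (Away.mk 𝒜 hh 1 f hf')).1 ⟨y, hy⟩).val : Loc 𝒜 y) =
      Localization.mk f ⟨h, hy⟩ := by
  refine (ProjectiveSpectrum.Proj.awayToSection_apply 𝒜 h _ ⟨y, hy⟩).trans ?_
  rw [Away.val_mk, Localization.mk_eq_mk', IsLocalization.map_mk', Localization.mk_eq_mk']
  congr 1
  exact Subtype.ext (pow_one h)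

end Abs
section AbsInj
variable {A σ : Type u} [CommRing A] [SetLike σ A] [AddSubgroupClass σ A] (𝒜 : ℕ → σ) [GradedRing 𝒜]
open HomogeneousLocalization

lemma awayι_top_le {h : A} {m : ℕ} (hh : h ∈ 𝒜 m) (hm : 0 < m) :
    (⊤ : (Spec (.of (Away 𝒜 h))).Opens) ≤ Proj.awayι 𝒜 h hh hm ⁻¹ᵁ Proj.basicOpen 𝒜 h := by
  intro x _
  change (Proj.awayι 𝒜 h hh hm).base x ∈ Proj.basicOpen 𝒜 h
  rw [← Proj.opensRange_awayι 𝒜 h hh hm]
  exact ⟨x, rfl⟩

lemma awayToSection_bijective' {h : A} {m : ℕ} (hh : h ∈ 𝒜 m) (hm : 0 < m) :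
    Function.Bijective (Proj.awayToSection 𝒜 h).hom := by
  have : IsIso (Proj.awayToSection 𝒜 h) := by
    rw [← Proj.basicOpenIsoAway_hom 𝒜 h hh hm]; infer_instance
  exact ConcreteCategory.bijective_of_isIso (Proj.awayToSection 𝒜 h)

lemma awayι_appLE_injective {h : A} {m : ℕ} (hh : h ∈ 𝒜 m) (hm : 0 < m) :
    Function.Injective ((Proj.awayι 𝒜 h hh hm).appLE (Proj.basicOpen 𝒜 h) ⊤
      (awayι_top_le 𝒜 hh hm)).hom := by
  intro s₁ s₂ e
  obtain ⟨z₁, rfl⟩ := (awayToSection_bijective' 𝒜 hh hm).2 s₁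
  obtain ⟨z₂, rfl⟩ := (awayToSection_bijective' 𝒜 hh hm).2 s₂
  have k := awayToSection_awayι_appLE 𝒜 hh hm (awayι_top_le 𝒜 hh hm)
  have k1 := ConcreteCategory.congr_hom k z₁
  have k2 := ConcreteCategory.congr_hom k z₂
  rw [CommRingCat.comp_apply] at k1 k2
  have e' : (Scheme.ΓSpecIso (.of (Away 𝒜 h))).inv.hom z₁ =
      (Scheme.ΓSpecIso (.of (Away 𝒜 h))).inv.hom z₂ := k1.symm.trans (e.trans k2)
  have inj : Function.Injective (Scheme.ΓSpecIso (.of (Away 𝒜 h))).inv.hom :=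
    (ConcreteCategory.bijective_of_isIso (Scheme.ΓSpecIso (.of (Away 𝒜 h))).inv).1
  rw [inj e']

end AbsInj

section Rel
open Groth.Agent.LD.QC Groth.Agent.H4.PBundle Groth.Agent.H4.PBundle2 Groth.Agent.H4.PBundle3
open Groth.Agent.H8.RelTwist Groth.Agent.H8.RelTilde Groth.Agent.H8.GTW Groth.Agent.H8.ProjTilde
open Groth.Agent.H4.ProjFunVal Groth.Agent.H4.ProjPhi HomogeneousLocalization Groth.Agent.H5.Glue

variable {Y P : Scheme.{u}} {𝒮 : RelProj.QCGrAlg Y} {p : P ⟶ Y}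
  {chart : ∀ (U : Y.Opens) (hU : IsAffineOpen U), (((p ⁻¹ᵁ U : P.Opens) : Scheme.{u}) ≅ Proj (𝒮.deg U hU))}
  {O1 : P.Modules}
  {lam : ∀ (U : Y.Opens) (hU : IsAffineOpen U),
    O1 ⟶ (Scheme.Modules.pushforward (RelProj.emb p chart U hU)).obj (GrTwist.twist (𝒮.deg U hU) 1)}

/-- the chart open `D₊(h)` inside `P`. -/
abbrev WP (p : P ⟶ Y) (chart : ∀ (U : Y.Opens) (hU : IsAffineOpen U),
      (((p ⁻¹ᵁ U : P.Opens) : Scheme.{u}) ≅ Proj (𝒮.deg U hU)))
    (U : Y.Opens) (hU : IsAffineOpen U) (h : 𝒮.presheaf.obj (op U)) : P.Opens :=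
  RelProj.emb p chart U hU ''ᵁ (Proj.basicOpen (𝒮.deg U hU) h)

lemma WP_le (U : Y.Opens) (hU : IsAffineOpen U) (h : 𝒮.presheaf.obj (op U)) :
    WP p chart U hU h ≤ p ⁻¹ᵁ U := image_basicOpen_le U hU h

lemma one_smul_one_mem {U : Y.Opens} {hU : IsAffineOpen U} {f : 𝒮.presheaf.obj (op U)}
    (hf : f ∈ 𝒮.deg U hU 1) : f ∈ 𝒮.deg U hU (1 • 1) := by simpa using hf

/-- the function `f / h` on the chart open `D₊(h)` of `P`. -/
noncomputable def frac (p : P ⟶ Y) (chart : ∀ (U : Y.Opens) (hU : IsAffineOpen U),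
      (((p ⁻¹ᵁ U : P.Opens) : Scheme.{u}) ≅ Proj (𝒮.deg U hU)))
    (U : Y.Opens) (hU : IsAffineOpen U) (f h : 𝒮.presheaf.obj (op U))
    (hf : f ∈ 𝒮.deg U hU 1) (hh : h ∈ 𝒮.deg U hU 1) : Γ(P, WP p chart U hU h) :=
  ((RelProj.emb p chart U hU).appIso (Proj.basicOpen (𝒮.deg U hU) h)).inv.hom
    ((Proj.awayToSection (𝒮.deg U hU) h).hom (Away.mk (𝒮.deg U hU) hh 1 f (one_smul_one_mem hf)))

lemma emb_appLE_frac (U : Y.Opens) (hU : IsAffineOpen U) (f h : 𝒮.presheaf.obj (op U))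
    (hf : f ∈ 𝒮.deg U hU 1) (hh : h ∈ 𝒮.deg U hU 1) (V : (Proj (𝒮.deg U hU)).Opens)
    (e : V ≤ RelProj.emb p chart U hU ⁻¹ᵁ WP p chart U hU h)
    (e' : V ≤ Proj.basicOpen (𝒮.deg U hU) h) :
    ((RelProj.emb p chart U hU).appLE (WP p chart U hU h) V e).hom (frac p chart U hU f h hf hh) =
      ((Proj (𝒮.deg U hU)).presheaf.map (homOfLE e').op).hom
        ((Proj.awayToSection (𝒮.deg U hU) h).hom
          (Away.mk (𝒮.deg U hU) hh 1 f (one_smul_one_mem hf))) := by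
  have := Scheme.Hom.appIso_inv_appLE (RelProj.emb p chart U hU)
    (U := Proj.basicOpen (𝒮.deg U hU) h) (V := V) e
  exact ConcreteCategory.congr_hom this _

lemma frac_val (U : Y.Opens) (hU : IsAffineOpen U) (f h : 𝒮.presheaf.obj (op U))
    (hf : f ∈ 𝒮.deg U hU 1) (hh : h ∈ 𝒮.deg U hU 1)
    (y : ↥(RelProj.emb p chart U hU ⁻¹ᵁ WP p chart U hU h))
    (hy : h ∉ y.1.asHomogeneousIdeal) :
    (((show GrTwist.O (𝒜 := 𝒮.deg U hU) (op (RelProj.emb p chart U hU ⁻¹ᵁ WP p chart U hU h)) from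
      ((RelProj.emb p chart U hU).app (WP p chart U hU h)).hom (frac p chart U hU f h hf hh)).1 y).val :
        GrTwist.Loc (𝒮.deg U hU) y.1) = Localization.mk f ⟨h, hy⟩ := by
  have e' : RelProj.emb p chart U hU ⁻¹ᵁ WP p chart U hU h ≤ Proj.basicOpen (𝒮.deg U hU) h :=
    preimage_image_basicOpen_le U hU h
  have h1 := emb_appLE_frac (p := p) (chart := chart) U hU f h hf hh _ le_rfl e'
  rw [← Scheme.Hom.app_eq_appLE] at h1
  rw [h1]
  exact awayToSection_mk_val (𝒮.deg U hU) hf hh (one_smul_one_mem hf) y.1 hy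

variable (hP : RelProj.IsRelProj 𝒮 p chart) (hO1 : RelProj.IsRelTwist 𝒮 p chart 1 O1 lam)

include hO1 in
/-- `f / 1 = (f / h) • (h / 1)` over the chart open `D₊(h)` of `P`. -/
theorem sec_res_eq_frac_smul (U : Y.Opens) (hU : IsAffineOpen U) (f h : 𝒮.presheaf.obj (op U))
    (hf : f ∈ 𝒮.deg U hU 1) (hh : h ∈ 𝒮.deg U hU 1) :
    mres O1 (WP_le (p := p) (chart := chart) U hU h) (sec hO1 U hU f hf) =
      frac p chart U hU f h hf hh •
        mres O1 (WP_le (p := p) (chart := chart) U hU h) (sec hO1 U hU h hh) := by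
  apply (hO1.bijective U hU (WP p chart U hU h) (WP_le (p := p) (chart := chart) U hU h)).1
  have e3 := (lam U hU).app_smul (frac p chart U hU f h hf hh)
    (mres O1 (WP_le (p := p) (chart := chart) U hU h) (sec hO1 U hU h hh))
  refine Eq.trans ?_ e3.symm
  change (show GrTwist.sectN (𝒜 := 𝒮.deg U hU) 1
    (op (RelProj.emb p chart U hU ⁻¹ᵁ WP p chart U hU h)) from
    (lam U hU).app _ _) = _
  refine sectN_ext fun y => ?_
  have hy : h ∉ y.1.asHomogeneousIdeal := preimage_image_basicOpen_le U hU h y.2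
  have h1 := val_lam_res U hU f (sec hO1 U hU f hf) (sec_reads hO1 U hU f hf)
    (WP p chart U hU h) (WP_le (p := p) (chart := chart) U hU h) y
  have h2 := val_lam_res U hU h (sec hO1 U hU h hh) (sec_reads hO1 U hU h hh)
    (WP p chart U hU h) (WP_le (p := p) (chart := chart) U hU h) y
  have h3 := frac_val (p := p) (chart := chart) U hU f h hf hh y hy
  refine h1.trans ?_
  have key : (Localization.mk f 1 : GrTwist.Loc (𝒮.deg U hU) y.1) =
      Localization.mk f ⟨h, hy⟩ * Localization.mk h 1 := by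
    rw [Localization.mk_mul, Localization.mk_eq_mk_iff, Localization.r_iff_exists]
    refine ⟨1, ?_⟩
    simp only [OneMemClass.coe_one, one_mul, mul_one]
    ring
  refine key.trans ((congrArg₂ (· * ·) h3.symm h2.symm).trans ?_)
  exact (GrTwist.coe_smul_val 1 y.1 _ _).symm

end Rel
section Pull
open Groth.Agent.LD.QC Groth.Agent.H4.PBundle Groth.Agent.H4.PBundle2 Groth.Agent.H4.PBundle3
open Groth.Agent.H4.ProjFunVal Groth.Agent.H4.ProjPhi HomogeneousLocalization Groth.Agent.H5.Glue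

variable {Y Y' P P' : Scheme.{u}} {q : Y' ⟶ Y} {𝒮 : RelProj.QCGrAlg Y} {𝒮' : RelProj.QCGrAlg Y'}
  (w : RelProj.QGrHom q 𝒮 𝒮')
  {p : P ⟶ Y}
  {chart : ∀ (U : Y.Opens) (hU : IsAffineOpen U), (((p ⁻¹ᵁ U : P.Opens) : Scheme.{u}) ≅ Proj (𝒮.deg U hU))}
  {p' : P' ⟶ Y'}
  {chart' : ∀ (U : Y'.Opens) (hU : IsAffineOpen U), (((p' ⁻¹ᵁ U : P'.Opens) : Scheme.{u}) ≅ Proj (𝒮'.deg U hU))}
  (r : P' ⟶ P)

lemma le_preimage_WP (U : Y.Opens) (hU : IsAffineOpen U) (h : 𝒮.presheaf.obj (op U)) :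
    Proj.basicOpen (𝒮.deg U hU) h ≤ RelProj.emb p chart U hU ⁻¹ᵁ WP p chart U hU h :=
  ((RelProj.emb p chart U hU).preimage_image_eq (Proj.basicOpen (𝒮.deg U hU) h)).ge

@[reassoc]
lemma appIso_inv_appLE_self (U : Y.Opens) (hU : IsAffineOpen U) (h : 𝒮.presheaf.obj (op U)) :
    ((RelProj.emb p chart U hU).appIso (Proj.basicOpen (𝒮.deg U hU) h)).inv ≫
      (RelProj.emb p chart U hU).appLE (WP p chart U hU h) (Proj.basicOpen (𝒮.deg U hU) h)
        (le_preimage_WP U hU h) = 𝟙 _ := by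
  have := Scheme.Hom.appIso_inv_appLE (RelProj.emb p chart U hU)
    (U := Proj.basicOpen (𝒮.deg U hU) h) (V := Proj.basicOpen (𝒮.deg U hU) h) (le_preimage_WP U hU h)
  refine this.trans ?_
  exact (Proj (𝒮.deg U hU)).presheaf.map_id _

theorem appLE_frac (U : Y.Opens) (hU : IsAffineOpen U) (U' : Y'.Opens) (hU' : IsAffineOpen U')
    (hle : U' ≤ q ⁻¹ᵁ U) (f h : 𝒮.presheaf.obj (op U)) (hf : f ∈ 𝒮.deg U hU 1)
    (hh : h ∈ 𝒮.deg U hU 1)
    (hch : RelProj.awayEmb w p' chart' U hU U' hU' hle one_pos h hh ≫ r =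
      Spec.map (CommRingCat.ofHom (Away.map (w.gradedAt U hU U' hU' hle) h)) ≫
        Proj.awayι (𝒮.deg U hU) h hh one_pos ≫ RelProj.emb p chart U hU)
    (hW : WP p' chart' U' hU' (w.gradedAt U hU U' hU' hle h) ≤ r ⁻¹ᵁ WP p chart U hU h) :
    (r.appLE (WP p chart U hU h) (WP p' chart' U' hU' (w.gradedAt U hU U' hU' hle h)) hW).hom
        (frac p chart U hU f h hf hh) =
      frac p' chart' U' hU' (w.gradedAt U hU U' hU' hle f) (w.gradedAt U hU U' hU' hle h)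
        ((w.gradedAt U hU U' hU' hle).map_mem hf) ((w.gradedAt U hU U' hU' hle).map_mem hh) := by
  have e1 := le_preimage_WP (p := p) (chart := chart) U hU h
  have e1' := le_preimage_WP (p := p') (chart := chart') U' hU' (w.gradedAt U hU U' hU' hle h)
  have e2 := awayι_top_le (𝒮.deg U hU) hh one_pos
  have e2' := awayι_top_le (𝒮'.deg U' hU') ((w.gradedAt U hU U' hU' hle).map_mem hh) one_pos
  have et : (⊤ : (Spec (CommRingCat.of (Away (𝒮'.deg U' hU') (w.gradedAt U hU U' hU' hle h)))).Opens) ≤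
      Spec.map (CommRingCat.ofHom (Away.map (w.gradedAt U hU U' hU' hle) h)) ⁻¹ᵁ ⊤ := le_top
  -- the two composites of `appLE`s
  have c1 := Scheme.Hom.appLE_comp_appLE
    (Proj.awayι (𝒮'.deg U' hU') (w.gradedAt U hU U' hU' hle h)
      ((w.gradedAt U hU U' hU' hle).map_mem hh) one_pos)
    (RelProj.emb p' chart' U' hU') _ _ _ e1' e2'
  have c2 := Scheme.Hom.appLE_comp_appLE
    (Proj.awayι (𝒮'.deg U' hU') (w.gradedAt U hU U' hU' hle h)
      ((w.gradedAt U hU U' hU' hle).map_mem hh) one_pos ≫ RelProj.emb p' chart' U' hU') r _ _ _ hW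
    (e2'.trans ((Opens.map (Proj.awayι (𝒮'.deg U' hU') (w.gradedAt U hU U' hU' hle h)
      ((w.gradedAt U hU U' hU' hle).map_mem hh) one_pos).base).map (homOfLE e1')).le)
  have d1 := Scheme.Hom.appLE_comp_appLE
    (Spec.map (CommRingCat.ofHom (Away.map (w.gradedAt U hU U' hU' hle) h)))
    (Proj.awayι (𝒮.deg U hU) h hh one_pos) _ _ _ e2 et
  have d2 := Scheme.Hom.appLE_comp_appLE
    (Spec.map (CommRingCat.ofHom (Away.map (w.gradedAt U hU U' hU' hle) h)) ≫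
      Proj.awayι (𝒮.deg U hU) h hh one_pos) (RelProj.emb p chart U hU) _ _ _ e1
    (et.trans ((Opens.map (Spec.map (CommRingCat.ofHom
      (Away.map (w.gradedAt U hU U' hU' hle) h))).base).map (homOfLE e2)).le)
  have hch' : (Proj.awayι (𝒮'.deg U' hU') (w.gradedAt U hU U' hU' hle h)
      ((w.gradedAt U hU U' hU' hle).map_mem hh) one_pos ≫ RelProj.emb p' chart' U' hU') ≫ r =
      (Spec.map (CommRingCat.ofHom (Away.map (w.gradedAt U hU U' hU' hle) h)) ≫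
        Proj.awayι (𝒮.deg U hU) h hh one_pos) ≫ RelProj.emb p chart U hU := by
    rw [Category.assoc]; exact hch
  have c3 := appLE_congr_hom _ _ hch' (WP p chart U hU h) ⊤
    ((e2'.trans ((Opens.map (Proj.awayι (𝒮'.deg U' hU') (w.gradedAt U hU U' hU' hle h)
      ((w.gradedAt U hU U' hU' hle).map_mem hh) one_pos).base).map (homOfLE e1')).le).trans
      ((Opens.map (Proj.awayι (𝒮'.deg U' hU') (w.gradedAt U hU U' hU' hle h)
        ((w.gradedAt U hU U' hU' hle).map_mem hh) one_pos ≫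
          RelProj.emb p' chart' U' hU').base).map (homOfLE hW)).le)
    ((et.trans ((Opens.map (Spec.map (CommRingCat.ofHom
      (Away.map (w.gradedAt U hU U' hU' hle) h))).base).map (homOfLE e2)).le).trans
      ((Opens.map (Spec.map (CommRingCat.ofHom (Away.map (w.gradedAt U hU U' hU' hle) h)) ≫
        Proj.awayι (𝒮.deg U hU) h hh one_pos).base).map (homOfLE e1)).le)
  have hT : (Spec.map (CommRingCat.ofHom (Away.map (w.gradedAt U hU U' hU' hle) h))).appLE ⊤ ⊤ et =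
      (Spec.map (CommRingCat.ofHom (Away.map (w.gradedAt U hU U' hU' hle) h))).appTop := by
    rw [Scheme.Hom.appLE, Scheme.Hom.appTop]
    exact (congrArg (fun t => (Spec.map (CommRingCat.ofHom
      (Away.map (w.gradedAt U hU U' hU' hle) h))).app ⊤ ≫ t)
      ((Spec (CommRingCat.of (Away (𝒮'.deg U' hU') (w.gradedAt U hU U' hU' hle h)))).presheaf.map_id _)).trans
      (Category.comp_id _)
  have main : Proj.awayToSection (𝒮.deg U hU) h ≫
      ((RelProj.emb p chart U hU).appIso (Proj.basicOpen (𝒮.deg U hU) h)).inv ≫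
      r.appLE (WP p chart U hU h) (WP p' chart' U' hU' (w.gradedAt U hU U' hU' hle h)) hW ≫
      (RelProj.emb p' chart' U' hU').appLE (WP p' chart' U' hU' (w.gradedAt U hU U' hU' hle h))
        (Proj.basicOpen (𝒮'.deg U' hU') (w.gradedAt U hU U' hU' hle h)) e1' ≫
      (Proj.awayι (𝒮'.deg U' hU') (w.gradedAt U hU U' hU' hle h)
        ((w.gradedAt U hU U' hU' hle).map_mem hh) one_pos).appLE _ ⊤ e2' =
      CommRingCat.ofHom (Away.map (w.gradedAt U hU U' hU' hle) h) ≫ (Scheme.ΓSpecIso _).inv := by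
    have s1 := (congrArg (fun t => r.appLE (WP p chart U hU h)
        (WP p' chart' U' hU' (w.gradedAt U hU U' hU' hle h)) hW ≫ t) c1).trans
      (c2.trans (c3.trans (d2.symm.trans (congrArg (fun t => (RelProj.emb p chart U hU).appLE
        (WP p chart U hU h) (Proj.basicOpen (𝒮.deg U hU) h) e1 ≫ t) d1.symm))))
    rw [s1, hT, appIso_inv_appLE_self_assoc,
      ← Category.assoc, awayToSection_awayι_appLE, Scheme.ΓSpecIso_inv_naturality]
  have m1 := ConcreteCategory.congr_hom main (Away.mk (𝒮.deg U hU) hh 1 f (one_smul_one_mem hf))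
  have m2 := ConcreteCategory.congr_hom (awayToSection_awayι_appLE (𝒮'.deg U' hU')
    ((w.gradedAt U hU U' hU' hle).map_mem hh) one_pos e2')
    (Away.mk (𝒮'.deg U' hU') ((w.gradedAt U hU U' hU' hle).map_mem hh) 1
      (w.gradedAt U hU U' hU' hle f) (one_smul_one_mem ((w.gradedAt U hU U' hU' hle).map_mem hf)))
  have m0 : Away.map (w.gradedAt U hU U' hU' hle) h
      (Away.mk (𝒮.deg U hU) hh 1 f (one_smul_one_mem hf)) =
      Away.mk (𝒮'.deg U' hU') ((w.gradedAt U hU U' hU' hle).map_mem hh) 1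
      (w.gradedAt U hU U' hU' hle f) (one_smul_one_mem ((w.gradedAt U hU U' hU' hle).map_mem hf)) :=
    Away.map_mk _ _ _ _ _ _
  have m3 : ((RelProj.emb p' chart' U' hU').appLE (WP p' chart' U' hU' (w.gradedAt U hU U' hU' hle h))
        (Proj.basicOpen (𝒮'.deg U' hU') (w.gradedAt U hU U' hU' hle h)) e1').hom
      ((r.appLE (WP p chart U hU h) (WP p' chart' U' hU' (w.gradedAt U hU U' hU' hle h)) hW).hom
        (frac p chart U hU f h hf hh)) =
      (Proj.awayToSection (𝒮'.deg U' hU') (w.gradedAt U hU U' hU' hle h)).hom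
        (Away.mk (𝒮'.deg U' hU') ((w.gradedAt U hU U' hU' hle).map_mem hh) 1
          (w.gradedAt U hU U' hU' hle f)
          (one_smul_one_mem ((w.gradedAt U hU U' hU' hle).map_mem hf))) := by
    apply awayι_appLE_injective (𝒮'.deg U' hU') ((w.gradedAt U hU U' hU' hle).map_mem hh) one_pos
    refine Eq.trans ?_ m2.symm
    refine Eq.trans ?_ (m1.trans ?_)
    · rfl
    · exact congrArg (Scheme.ΓSpecIso _).inv.hom m0
  have m4 : ((RelProj.emb p' chart' U' hU').appIso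
      (Proj.basicOpen (𝒮'.deg U' hU') (w.gradedAt U hU U' hU' hle h))).hom =
      (RelProj.emb p' chart' U' hU').appLE (WP p' chart' U' hU' (w.gradedAt U hU U' hU' hle h))
        (Proj.basicOpen (𝒮'.deg U' hU') (w.gradedAt U hU U' hU' hle h)) e1' :=
    Scheme.Hom.appIso_hom' _ _
  change _ = ((RelProj.emb p' chart' U' hU').appIso
      (Proj.basicOpen (𝒮'.deg U' hU') (w.gradedAt U hU U' hU' hle h))).inv.hom _
  rw [← m3, ← m4]
  exact (ConcreteCategory.congr_hom ((RelProj.emb p' chart' U' hU').appIso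
      (Proj.basicOpen (𝒮'.deg U' hU') (w.gradedAt U hU U' hU' hle h))).hom_inv_id _).symm

end Pull

end Groth.Agent.H4.ProjFrac
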