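import Mathlib
import Groth.Agent.H4.ProjG

set_option autoImplicit false

namespace Groth.Agent.H4.ProjG2

open AlgebraicGeometry CategoryTheory Limits HomogeneousLocalization DirectSum
open scoped HomogeneousIdeal
open Groth.Agent.H4.ProjG

universe u

variable {A B σ τ : Type u} [CommRing A] [SetLike σ A] [AddSubgroupClass σ A]
  [CommRing B] [SetLike τ B] [AddSubgroupClass τ B]
  {𝒜 : ℕ → σ} {ℬ : ℕ → τ} [GradedRing 𝒜] [GradedRing ℬ]
  (φ : 𝒜 →+*ᵍ ℬ) (hφ : ℬ₊ ≤ 𝒜₊.map φ)

theorem awayMap_bijective_of_eventually_bijOn (n₀ : ℕ)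
    (hbij : ∀ n : ℕ, n₀ ≤ n → Set.BijOn φ (𝒜 n) (ℬ n))
    {d : ℕ} (hd : 0 < d) (s : A) (hs : s ∈ 𝒜 d) :
    Function.Bijective (HomogeneousLocalization.Away.map φ s) := by
  constructor
  · rw [injective_iff_map_eq_zero]
    intro x hx
    obtain ⟨n, a, ha, rfl⟩ := HomogeneousLocalization.Away.mk_surjective 𝒜 hs x
    rw [HomogeneousLocalization.Away.map_mk] at hx
    have h1 := congrArg HomogeneousLocalization.val hx
    rw [HomogeneousLocalization.Away.val_mk, HomogeneousLocalization.val_zero,
      Localization.mk_eq_mk', IsLocalization.mk'_eq_zero_iff] at h1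
    obtain ⟨⟨_, m, rfl⟩, hm⟩ := h1
    have h2 : φ (s ^ (m + n₀) * a) = 0 := by
      rw [map_mul, map_pow, pow_add, mul_comm (φ s ^ m), mul_assoc]
      simp only at hm
      rw [hm, mul_zero]
    have hmem : s ^ (m + n₀) * a ∈ 𝒜 ((m + n₀) • d + n • d) :=
      SetLike.mul_mem_graded (SetLike.pow_mem_graded _ hs) ha
    have hge : n₀ ≤ (m + n₀) • d + n • d := by
      simp only [smul_eq_mul]
      nlinarith
    have h3 : s ^ (m + n₀) * a = 0 :=
      (hbij _ hge).injOn hmem (zero_mem _) (by rw [h2, map_zero])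
    apply HomogeneousLocalization.val_injective
    rw [HomogeneousLocalization.Away.val_mk, HomogeneousLocalization.val_zero,
      Localization.mk_eq_mk', IsLocalization.mk'_eq_zero_iff]
    exact ⟨⟨s ^ (m + n₀), m + n₀, rfl⟩, h3⟩
  · intro y
    obtain ⟨n, b, hb, rfl⟩ := HomogeneousLocalization.Away.mk_surjective ℬ (φ.2 hs) y
    have hmem : b * φ s ^ n₀ ∈ ℬ ((n + n₀) • d) := by
      have := SetLike.mul_mem_graded hb (SetLike.pow_mem_graded n₀ (φ.2 hs))
      rwa [show n • d + n₀ • d = (n + n₀) • d by simp [add_mul]] at this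
    have hge : n₀ ≤ (n + n₀) • d := by simp only [smul_eq_mul]; nlinarith
    obtain ⟨a, ha, hab⟩ := (hbij _ hge).surjOn hmem
    refine ⟨HomogeneousLocalization.Away.mk 𝒜 hs (n + n₀) a ha, ?_⟩
    rw [HomogeneousLocalization.Away.map_mk]
    apply HomogeneousLocalization.val_injective
    rw [HomogeneousLocalization.Away.val_mk, HomogeneousLocalization.Away.val_mk,
      Localization.mk_eq_mk_iff, Localization.r_iff_exists]
    refine ⟨1, ?_⟩
    simp only [OneMemClass.coe_one, one_mul]
    rw [hab, pow_add]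
    change φ s ^ n * (b * φ s ^ n₀) = φ s ^ n * φ s ^ n₀ * b
    ring

theorem isIso_map_of_eventually_bijOn (n₀ : ℕ)
    (hbij : ∀ n : ℕ, n₀ ≤ n → Set.BijOn φ (𝒜 n) (ℬ n)) :
    IsIso (Proj.map φ hφ) := by
  refine of_isPullback_openCover (P := MorphismProperty.isomorphisms Scheme.{u}) (Proj.map φ hφ)
    (Proj.affineOpenCover 𝒜).openCover
    (fun i => Spec (.of (HomogeneousLocalization.Away ℬ (φ i.2.1))))
    (fun i => Spec.map (CommRingCat.ofHom (HomogeneousLocalization.Away.map φ i.2.1)))
    (fun i => Proj.awayι ℬ (φ i.2.1) (φ.2 i.2.2) i.1.2)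
    (fun i => isPullback_awayι_map φ hφ i.1.2 i.2.1 i.2.2) ?_
  intro i
  have hb := awayMap_bijective_of_eventually_bijOn φ n₀ hbij i.1.2 i.2.1 i.2.2
  have : IsIso (CommRingCat.ofHom (HomogeneousLocalization.Away.map φ i.2.1)) := by
    rw [ConcreteCategory.isIso_iff_bijective]
    exact hb
  change IsIso (Spec.map (CommRingCat.ofHom (HomogeneousLocalization.Away.map φ i.2.1)))
  infer_instance

theorem map_base_apply (q : Proj ℬ) :
    (Proj.map φ hφ).base q = ProjectiveSpectrum.comap φ hφ q := rfl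

/-- `Proj.map` of a surjective graded hom with nil kernel is surjective on points. -/
theorem comap_surjective_of_ker_nil (hsurj : Function.Surjective φ)
    (hker : ∀ x : A, φ x = 0 → IsNilpotent x) (p : ProjectiveSpectrum 𝒜) :
    ∃ q : ProjectiveSpectrum ℬ, ProjectiveSpectrum.comap φ hφ q = p := by
  have := p.isPrime
  have hkp : RingHom.ker φ ≤ p.asHomogeneousIdeal.toIdeal := by
    intro x hx
    rw [RingHom.mem_ker] at hx
    exact nilradical_le_prime _ (mem_nilradical.mpr (hker x hx))
  have hprime : (p.asHomogeneousIdeal.toIdeal.map φ).IsPrime :=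
    Ideal.map_isPrime_of_surjective hsurj hkp
  have hcomap : (p.asHomogeneousIdeal.toIdeal.map φ).comap φ =
      p.asHomogeneousIdeal.toIdeal := by
    rw [Ideal.comap_map_of_surjective _ hsurj]
    apply le_antisymm
    · refine sup_le le_rfl ?_
      intro x hx
      apply hkp
      rw [RingHom.mem_ker]
      simpa [Ideal.mem_comap] using hx
    · exact le_sup_left
  refine ⟨{ asHomogeneousIdeal := p.asHomogeneousIdeal.map φ
            isPrime := hprime
            not_irrelevant_le := ?_ }, ?_⟩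
  · intro hle
    apply p.not_irrelevant_le
    intro x hx
    have h1 : φ x ∈ ℬ₊ := by
      rw [HomogeneousIdeal.mem_irrelevant_iff] at hx ⊢
      rw [GradedRing.proj_apply] at hx ⊢
      rw [← GradedRingHom.map_directSumDecompose, hx, map_zero]
    have h2 : φ x ∈ p.asHomogeneousIdeal.map φ := hle h1
    have h3 : x ∈ (p.asHomogeneousIdeal.toIdeal.map φ).comap φ := h2
    rwa [hcomap] at h3
  · apply ProjectiveSpectrum.ext
    apply HomogeneousIdeal.toIdeal_injective
    exact hcomap

theorem map_base_surjective_of_ker_nil (hsurj : Function.Surjective φ)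
    (hker : ∀ x : A, φ x = 0 → IsNilpotent x) :
    Function.Surjective (Proj.map φ hφ).base :=
  fun p => comap_surjective_of_ker_nil φ hφ hsurj hker p

end Groth.Agent.H4.ProjG2
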