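import Groth.Agent.H4.ConeRetr2
import Groth.Prelude.Def_RelProj4

set_option autoImplicit false

namespace Groth.Agent.H4.ProjQ

open CategoryTheory CategoryTheory.Limits AlgebraicGeometry TopologicalSpace Opposite
open HomogeneousLocalization
open Groth.Agent.H4 Groth.Agent.H4.RelSpecLib Groth.Agent.H4.ConeImm Groth.Agent.H4.ConeInf
open Groth.Agent.H4.ConeRetrAlg Groth.Agent.H4.ConeRetr Groth.Agent.H4.ConeRetr2
open scoped HomogeneousIdeal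

universe u

section RingTN

variable {A B : Type u} [CommRing A] [CommRing B] {𝒜 : ℕ → AddSubgroup A} {ℬ : ℕ → AddSubgroup B}
  [GradedRing 𝒜] [GradedRing ℬ] (φ : 𝒜 →+*ᵍ ℬ)

theorem awayMap_surjective_of_tn (n : ℕ)
    (hsurj : ∀ k, n ≤ k → ∀ y ∈ ℬ k, ∃ x ∈ 𝒜 k, φ x = y) {d : ℕ} (hd : 0 < d) (s : A)
    (hs : s ∈ 𝒜 d) : Function.Surjective (Away.map φ s) := by
  intro y
  obtain ⟨m, b, hb, rfl⟩ := Away.mk_surjective ℬ (Graded.map_mem φ hs) y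
  have hmem : φ s ^ n * b ∈ ℬ (n • d + m • d) :=
    SetLike.mul_mem_graded (SetLike.pow_mem_graded _ (Graded.map_mem φ hs)) hb
  have hmem' : φ s ^ n * b ∈ ℬ ((n + m) • d) := by rwa [← add_smul] at hmem
  have hle : n ≤ (n + m) • d := by simp only [smul_eq_mul]; nlinarith
  obtain ⟨a, ha, hab⟩ := hsurj _ hle _ hmem'
  refine ⟨Away.mk 𝒜 hs (n + m) a ha, ?_⟩
  rw [Away.map_mk]
  apply HomogeneousLocalization.val_injective
  rw [Away.val_mk, Away.val_mk, Localization.mk_eq_mk_iff, Localization.r_iff_exists]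
  refine ⟨1, ?_⟩
  simp only [OneMemClass.coe_one, one_mul]
  rw [hab, pow_add]
  ring

theorem awayMap_injective_of_tn (n : ℕ)
    (hinj : ∀ k, n ≤ k → ∀ x ∈ 𝒜 k, φ x = 0 → x = 0) {d : ℕ} (hd : 0 < d) (s : A)
    (hs : s ∈ 𝒜 d) : Function.Injective (Away.map φ s) := by
  rw [injective_iff_map_eq_zero]
  intro x hx
  obtain ⟨m, a, ha, rfl⟩ := Away.mk_surjective 𝒜 hs x
  rw [Away.map_mk] at hx
  have h1 := congrArg HomogeneousLocalization.val hx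
  rw [Away.val_mk, HomogeneousLocalization.val_zero, Localization.mk_eq_mk',
    IsLocalization.mk'_eq_zero_iff] at h1
  obtain ⟨⟨_, N, rfl⟩, hN⟩ := h1
  have h2 : φ (s ^ (N + n) * a) = 0 := by
    rw [map_mul, map_pow, pow_add, mul_comm (φ s ^ N), mul_assoc]
    simp only at hN
    rw [hN, mul_zero]
  have hmem : s ^ (N + n) * a ∈ 𝒜 ((N + n) • d + m • d) :=
    SetLike.mul_mem_graded (SetLike.pow_mem_graded _ hs) ha
  have hle : n ≤ (N + n) • d + m • d := by simp only [smul_eq_mul]; nlinarith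
  have h3 := hinj _ hle _ hmem h2
  apply HomogeneousLocalization.val_injective
  rw [Away.val_mk, HomogeneousLocalization.val_zero, Localization.mk_eq_mk',
    IsLocalization.mk'_eq_zero_iff]
  exact ⟨⟨s ^ (N + n), N + n, rfl⟩, h3⟩

theorem mem_domOpen_of_tn (n : ℕ) (hsurj : ∀ k, n ≤ k → ∀ y ∈ ℬ k, ∃ x ∈ 𝒜 k, φ x = y)
    (w : Proj ℬ) : w ∈ RelCone.domOpen φ := by
  rw [RelCone.mem_domOpen]
  obtain ⟨e, he, b, hb, hbw⟩ := exists_homog_basicOpen ℬ w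
  have hmem : b ^ (n + 1) ∈ ℬ ((n + 1) • e) := SetLike.pow_mem_graded _ hb
  have hle : n ≤ (n + 1) • e := by simp only [smul_eq_mul]; nlinarith
  have hpos : 0 < (n + 1) • e := by simp only [smul_eq_mul]; positivity
  obtain ⟨a, ha, hab⟩ := hsurj _ hle _ hmem
  refine ⟨a, HomogeneousIdeal.mem_irrelevant_of_mem _ hpos ha, ?_⟩
  rw [hab]
  intro hcon
  exact hbw (w.isPrime.mem_of_pow_mem _ hcon)

end RingTN

section PairRefine

theorem exists_pair_refine {Y Y' : Scheme.{u}} (g : Y' ⟶ Y) {U₁ U₂ : Y.Opens}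
    (hU₁ : IsAffineOpen U₁) (hU₂ : IsAffineOpen U₂) {U₁' U₂' : Y'.Opens}
    (hU₁' : IsAffineOpen U₁') (hU₂' : IsAffineOpen U₂') (hle₁ : U₁' ≤ g ⁻¹ᵁ U₁)
    (hle₂ : U₂' ≤ g ⁻¹ᵁ U₂) (t : Y') (ht : t ∈ U₁' ⊓ U₂') :
    ∃ (s₁ : Γ(Y, U₁)) (s₂ : Γ(Y, U₂)) (s₁' : Γ(Y', U₁')) (s₂' : Γ(Y', U₂')),
      Y.basicOpen s₁ = Y.basicOpen s₂ ∧ Y'.basicOpen s₁' = Y'.basicOpen s₂' ∧
        Y'.basicOpen s₁' ≤ g ⁻¹ᵁ Y.basicOpen s₁ ∧ t ∈ Y'.basicOpen s₁' := by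
  have hgt : g.base t ∈ U₁ ⊓ U₂ := ⟨hle₁ ht.1, hle₂ ht.2⟩
  obtain ⟨s₁, s₂, hs, hgs⟩ := exists_basicOpen_le_affine_inter hU₁ hU₂ (g.base t) hgt
  obtain ⟨a₁, a₂, ha, hta⟩ := exists_basicOpen_le_affine_inter hU₁' hU₂' t ht
  have h1 : Y'.basicOpen a₁ ≤ U₁' := Y'.basicOpen_le a₁
  have h2 : Y'.basicOpen a₂ ≤ U₂' := Y'.basicOpen_le a₂
  have e1 : Y'.basicOpen (a₁ * g.appLE U₁ U₁' hle₁ s₁) =
      Y'.basicOpen a₁ ⊓ g ⁻¹ᵁ Y.basicOpen s₁ := by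
    rw [Scheme.basicOpen_mul, Scheme.basicOpen_appLE, ← inf_assoc, inf_eq_left.mpr h1]
  have e2 : Y'.basicOpen (a₂ * g.appLE U₂ U₂' hle₂ s₂) =
      Y'.basicOpen a₂ ⊓ g ⁻¹ᵁ Y.basicOpen s₂ := by
    rw [Scheme.basicOpen_mul, Scheme.basicOpen_appLE, ← inf_assoc, inf_eq_left.mpr h2]
  refine ⟨s₁, s₂, a₁ * g.appLE U₁ U₁' hle₁ s₁, a₂ * g.appLE U₂ U₂' hle₂ s₂, hs, ?_, ?_, ?_⟩
  · rw [e1, e2, ha, hs]
  · rw [e1]; exact inf_le_right
  · rw [e1]; exact ⟨hta, hgs⟩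

theorem isIso_ι_of_eq_top {X : Scheme.{u}} (W : X.Opens) (h : W = ⊤) : IsIso W.ι := by
  subst h
  show IsIso (Scheme.topIso X).hom
  infer_instance

end PairRefine

section Nat

variable {Y Y' : Scheme.{u}} {g : Y' ⟶ Y} {𝒮 : RelProj.QCGrAlg Y} {𝒮' : RelProj.QCGrAlg Y'}
  (u : RelProj.QGrHom g 𝒮 𝒮')

theorem u_res {U W : Y.Opens} (hU : IsAffineOpen U) (hW : IsAffineOpen W) (hWU : W ≤ U)
    {U' W' : Y'.Opens} (hU' : IsAffineOpen U') (hW' : IsAffineOpen W') (hWU' : W' ≤ U')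
    (hle : U' ≤ g ⁻¹ᵁ U) (hle' : W' ≤ g ⁻¹ᵁ W) (a : 𝒮.presheaf.obj (op U)) :
    (𝒮'.res hU' hW' hWU') ((u.gradedAt U hU U' hU' hle) a) =
      (u.gradedAt W hW W' hW' hle') ((𝒮.res hU hW hWU) a) := by
  have h1 := congrArg (fun t : 𝒮.presheaf.obj (op U) ⟶ 𝒮'.presheaf.obj (op W') => t.hom a)
    (u.appLE_map hle hWU')
  have h2 := congrArg (fun t : 𝒮.presheaf.obj (op U) ⟶ 𝒮'.presheaf.obj (op W') => t.hom a)
    (u.map_appLE hWU hle')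
  exact h1.trans h2.symm

theorem domOpen_res_pair {U W : Y.Opens} (hU : IsAffineOpen U) (hW : IsAffineOpen W) (hWU : W ≤ U)
    (s : Γ(Y, U)) (hs : W = Y.basicOpen s)
    {U' W' : Y'.Opens} (hU' : IsAffineOpen U') (hW' : IsAffineOpen W') (hWU' : W' ≤ U')
    (hle : U' ≤ g ⁻¹ᵁ U) (hle' : W' ≤ g ⁻¹ᵁ W)
    (irr' : (𝒮'.deg W' hW')₊ ≤ ((𝒮'.deg U' hU')₊).map (𝒮'.res hU' hW' hWU'))
    (w : Proj (𝒮'.deg W' hW')) :
    w ∈ RelCone.domOpen (u.gradedAt W hW W' hW' hle') ↔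
      (Proj.map (𝒮'.res hU' hW' hWU') irr').base w ∈
        RelCone.domOpen (u.gradedAt U hU U' hU' hle) := by
  rw [RelCone.mem_domOpen, RelCone.mem_domOpen]
  constructor
  · rintro ⟨gW, hgW, hgw⟩
    by_contra hcon
    push Not at hcon
    apply hgw
    have h1 := irr_res (𝒜 := 𝒮) U W hU hW hWU s hs hgW
    have h2 : Ideal.map (𝒮.res hU hW hWU)
        ((HomogeneousIdeal.irrelevant (𝒮.deg U hU)).toIdeal) ≤
        Ideal.comap (u.gradedAt W hW W' hW' hle') w.asHomogeneousIdeal.toIdeal := by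
      rw [Ideal.map_le_iff_le_comap]
      intro f hf
      have h3 := hcon f hf
      show (u.gradedAt W hW W' hW' hle') ((𝒮.res hU hW hWU) f) ∈ w.asHomogeneousIdeal
      rw [← u_res u hU hW hWU hU' hW' hWU' hle hle' f]
      exact h3
    exact h2 h1
  · rintro ⟨f, hf, hfw⟩
    refine ⟨(𝒮.res hU hW hWU) f, ConeLib.gradedHom_mem_irrelevant _ hf, ?_⟩
    rw [← u_res u hU hW hWU hU' hW' hWU' hle hle' f]
    exact hfw

theorem strZero_comp_q (U : Y.Opens) (hU : IsAffineOpen U) (U' : Y'.Opens) (hU' : IsAffineOpen U')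
    (hle : U' ≤ g ⁻¹ᵁ U) :
    𝒮.strZero U hU ≫ CommRingCat.ofHom (ProjG.zeroHom (u.gradedAt U hU U' hU' hle)) =
      g.appLE U U' hle ≫ 𝒮'.strZero U' hU' := by
  ext r
  exact congrArg (fun t : Γ(Y, U) ⟶ 𝒮'.presheaf.obj (op U') => t.hom r) (u.str_appLE U U' hle)

variable {P : Scheme.{u}} (p : P ⟶ Y)
  (chart : ∀ (U : Y.Opens) (hU : IsAffineOpen U),
    (((p ⁻¹ᵁ U : P.Opens) : Scheme.{u}) ≅ Proj (𝒮.deg U hU)))
  {P' : Scheme.{u}} (p' : P' ⟶ Y')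
  (chart' : ∀ (U' : Y'.Opens) (hU' : IsAffineOpen U'),
    (((p' ⁻¹ᵁ U' : P'.Opens) : Scheme.{u}) ≅ Proj (𝒮'.deg U' hU')))

theorem mem_domQ_iff (hP' : RelProj.IsRelProj 𝒮' p' chart') (U : Y.Opens) (hU : IsAffineOpen U)
    (U' : Y'.Opens) (hU' : IsAffineOpen U') (hle : U' ≤ g ⁻¹ᵁ U) (y : Proj (𝒮'.deg U' hU')) :
    (RelProj.emb p' chart' U' hU').base y ∈ RelProj.domQ u p' chart' ↔
      y ∈ RelCone.domOpen (u.gradedAt U hU U' hU' hle) := by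
  constructor
  · intro h
    unfold RelProj.domQ at h
    rw [Opens.mem_iSup] at h
    obtain ⟨⟨⟨⟨U₁, hU₁⟩, ⟨U₁', hU₁'⟩⟩, hle₁⟩, y₁, hy₁, he⟩ := h
    have he' : (RelProj.emb p' chart' U₁' hU₁').base y₁ = (RelProj.emb p' chart' U' hU').base y := he
    have hy₁' : y₁ ∈ RelCone.domOpen (u.gradedAt U₁ hU₁ U₁' hU₁' hle₁) := hy₁
    have ht : p'.base ((RelProj.emb p' chart' U' hU').base y) ∈ U' ⊓ U₁' :=
      ⟨emb_mem p' chart' U' hU' y, by rw [← he']; exact emb_mem p' chart' U₁' hU₁' y₁⟩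
    obtain ⟨r, r₁, r', r₁', hr, hr', hle', htW⟩ :=
      exists_pair_refine g hU hU₁ hU' hU₁' hle hle₁ _ ht
    have hW : IsAffineOpen (Y.basicOpen r) := hU.basicOpen r
    have hW' : IsAffineOpen (Y'.basicOpen r') := hU'.basicOpen r'
    have hW1 : Y.basicOpen r ≤ U₁ := hr ▸ Y.basicOpen_le r₁
    have hW1' : Y'.basicOpen r' ≤ U₁' := hr' ▸ Y'.basicOpen_le r₁'
    obtain ⟨w, hw⟩ := exists_emb p' chart' _ (Y'.basicOpen r') hW' htW
    have irr' := irr_res (𝒜 := 𝒮') U' (Y'.basicOpen r') hU' hW' (Y'.basicOpen_le r') r' rfl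
    have irr₁' := irr_res (𝒜 := 𝒮') U₁' (Y'.basicOpen r') hU₁' hW' hW1' r₁' hr'
    have e1 : (Proj.map (𝒮'.res hU' hW' (Y'.basicOpen_le r')) irr').base w = y := by
      apply (RelProj.emb p' chart' U' hU').isOpenEmbedding.injective
      have k1 := congrArg (fun k : Proj (𝒮'.deg (Y'.basicOpen r') hW') ⟶ P' => k.base w)
        (emb_res p' chart' hP' U' (Y'.basicOpen r') hU' hW' (Y'.basicOpen_le r') r' rfl irr')
      exact k1.trans hw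
    have e2 : (Proj.map (𝒮'.res hU₁' hW' hW1') irr₁').base w = y₁ := by
      apply (RelProj.emb p' chart' U₁' hU₁').isOpenEmbedding.injective
      have k1 := congrArg (fun k : Proj (𝒮'.deg (Y'.basicOpen r') hW') ⟶ P' => k.base w)
        (emb_res p' chart' hP' U₁' (Y'.basicOpen r') hU₁' hW' hW1' r₁' hr' irr₁')
      exact (k1.trans hw).trans he'.symm
    rw [← e1, ← domOpen_res_pair u hU hW (Y.basicOpen_le r) r rfl hU' hW' (Y'.basicOpen_le r') hle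
      hle' irr' w, domOpen_res_pair u hU₁ hW hW1 r₁ hr hU₁' hW' hW1' hle₁ hle' irr₁' w, e2]
    exact hy₁'
  · intro hy
    unfold RelProj.domQ
    rw [Opens.mem_iSup]
    exact ⟨⟨(⟨U, hU⟩, ⟨U', hU'⟩), hle⟩, y, hy, rfl⟩

instance isOpenImmersion_awayEmb (U : Y.Opens) (hU : IsAffineOpen U) (U' : Y'.Opens)
    (hU' : IsAffineOpen U') (hle : U' ≤ g ⁻¹ᵁ U) {d : ℕ} (hd : 0 < d)
    (f : 𝒮.presheaf.obj (op U)) (hf : f ∈ 𝒮.deg U hU d) :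
    IsOpenImmersion (RelProj.awayEmb u p' chart' U hU U' hU' hle hd f hf) := by
  unfold RelProj.awayEmb; infer_instance

/-- the chart of `G(u)` on `D_+(u f)` -/
noncomputable def aq (U : Y.Opens) (hU : IsAffineOpen U) (U' : Y'.Opens)
    (hU' : IsAffineOpen U') (hle : U' ≤ g ⁻¹ᵁ U) {d : ℕ} (hd : 0 < d)
    (f : 𝒮.presheaf.obj (op U)) (hf : f ∈ 𝒮.deg U hU d) :
    Spec (CommRingCat.of (Away (𝒮'.deg U' hU') (u.gradedAt U hU U' hU' hle f))) ⟶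
      ((RelProj.domQ u p' chart' : P'.Opens) : Scheme.{u}) :=
  IsOpenImmersion.lift (RelProj.domQ u p' chart').ι
    (RelProj.awayEmb u p' chart' U hU U' hU' hle hd f hf)
    (RelProj.range_awayEmb_subset_domQ u p' chart' U hU U' hU' hle hd f hf)

theorem aq_ι (U : Y.Opens) (hU : IsAffineOpen U) (U' : Y'.Opens)
    (hU' : IsAffineOpen U') (hle : U' ≤ g ⁻¹ᵁ U) {d : ℕ} (hd : 0 < d)
    (f : 𝒮.presheaf.obj (op U)) (hf : f ∈ 𝒮.deg U hU d) :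
    aq u p' chart' U hU U' hU' hle hd f hf ≫ (RelProj.domQ u p' chart').ι =
      RelProj.awayEmb u p' chart' U hU U' hU' hle hd f hf :=
  IsOpenImmersion.lift_fac _ _ _

instance isOpenImmersion_aq (U : Y.Opens) (hU : IsAffineOpen U) (U' : Y'.Opens)
    (hU' : IsAffineOpen U') (hle : U' ≤ g ⁻¹ᵁ U) {d : ℕ} (hd : 0 < d)
    (f : 𝒮.presheaf.obj (op U)) (hf : f ∈ 𝒮.deg U hU d) :
    IsOpenImmersion (aq u p' chart' U hU U' hU' hle hd f hf) := by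
  have : IsOpenImmersion (aq u p' chart' U hU U' hU' hle hd f hf ≫
      (RelProj.domQ u p' chart').ι) := by
    rw [aq_ι]; infer_instance
  exact IsOpenImmersion.of_comp _ (RelProj.domQ u p' chart').ι

/-- the candidate `Proj(u)` on the chart `D_+(u f)` -/
noncomputable def gq (U : Y.Opens) (hU : IsAffineOpen U) (U' : Y'.Opens)
    (hU' : IsAffineOpen U') (hle : U' ≤ g ⁻¹ᵁ U) {d : ℕ} (hd : 0 < d)
    (f : 𝒮.presheaf.obj (op U)) (hf : f ∈ 𝒮.deg U hU d) :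
    Spec (CommRingCat.of (Away (𝒮'.deg U' hU') (u.gradedAt U hU U' hU' hle f))) ⟶ P :=
  Spec.map (CommRingCat.ofHom (Away.map (u.gradedAt U hU U' hU' hle) f)) ≫
    Proj.awayι (𝒮.deg U hU) f hf hd ≫ RelProj.emb p chart U hU

theorem isProjQMapOn_iff (v : ((RelProj.domQ u p' chart' : P'.Opens) : Scheme.{u}) ⟶ P) :
    RelProj.IsProjQMapOn u p chart p' chart' (RelProj.domQ u p' chart') v ↔
      ∀ (U : Y.Opens) (hU : IsAffineOpen U) (U' : Y'.Opens) (hU' : IsAffineOpen U')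
        (hle : U' ≤ g ⁻¹ᵁ U) (d : ℕ) (hd : 0 < d) (f : 𝒮.presheaf.obj (op U))
        (hf : f ∈ 𝒮.deg U hU d),
        aq u p' chart' U hU U' hU' hle hd f hf ≫ v = gq u p chart U hU U' hU' hle hd f hf := by
  constructor
  · intro h U hU U' hU' hle d hd f hf
    exact h U hU U' hU' hle d hd f hf
      (RelProj.range_awayEmb_subset_domQ u p' chart' U hU U' hU' hle hd f hf)
  · intro h U hU U' hU' hle d hd f hf hW
    exact h U hU U' hU' hle d hd f hf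

theorem cover_aq (e : ((RelProj.domQ u p' chart' : P'.Opens) : Scheme.{u})) :
    ∃ (U : Y.Opens) (hU : IsAffineOpen U) (U' : Y'.Opens) (hU' : IsAffineOpen U')
      (hle : U' ≤ g ⁻¹ᵁ U) (d : ℕ) (hd : 0 < d) (f : 𝒮.presheaf.obj (op U))
      (hf : f ∈ 𝒮.deg U hU d)
      (w : Spec (CommRingCat.of (Away (𝒮'.deg U' hU') (u.gradedAt U hU U' hU' hle f)))),
      (aq u p' chart' U hU U' hU' hle hd f hf).base w = e := by
  obtain ⟨x, hx⟩ : ∃ x : P', x = (RelProj.domQ u p' chart').ι.base e := ⟨_, rfl⟩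
  have hxm : x ∈ RelProj.domQ u p' chart' := by
    have h1 : (RelProj.domQ u p' chart').ι.base e ∈
        Set.range (RelProj.domQ u p' chart').ι.base := ⟨e, rfl⟩
    rw [Scheme.Opens.range_ι] at h1
    rw [hx]; exact h1
  unfold RelProj.domQ at hxm
  rw [Opens.mem_iSup] at hxm
  obtain ⟨⟨⟨⟨U, hU⟩, ⟨U', hU'⟩⟩, hle⟩, y, hy, hyx⟩ := hxm
  have hy' : y ∈ RelCone.domOpen (u.gradedAt U hU U' hU' hle) := hy
  have hyx' : (RelProj.emb p' chart' U' hU').base y = x := hyx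
  rw [RelCone.mem_domOpen] at hy'
  obtain ⟨f, hf, hfy⟩ := hy'
  obtain ⟨d, hd, g₁, hg₁, hgI⟩ := ConeAlg.exists_homog_notMem (𝒮.deg U hU)
    (Ideal.comap (u.gradedAt U hU U' hU' hle) y.asHomogeneousIdeal.toIdeal) hf hfy
  obtain ⟨w, hw⟩ := exists_awayι_eq (𝒮'.deg U' hU') hd _
    (Graded.map_mem (u.gradedAt U hU U' hU' hle) hg₁) y hgI
  refine ⟨U, hU, U', hU', hle, d, hd, g₁, hg₁, w, ?_⟩
  apply (RelProj.domQ u p' chart').ι.isOpenEmbedding.injective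
  have k1 := congrArg (fun t : Spec (CommRingCat.of (Away (𝒮'.deg U' hU')
    (u.gradedAt U hU U' hU' hle g₁))) ⟶ P' => t.base w)
    (aq_ι u p' chart' U hU U' hU' hle hd g₁ hg₁)
  have k2 : (RelProj.awayEmb u p' chart' U hU U' hU' hle hd g₁ hg₁).base w = x := by
    show (RelProj.emb p' chart' U' hU').base ((Proj.awayι _ _ _ _).base w) = x
    rw [hw]; exact hyx'
  exact (k1.trans k2).trans hx

theorem cover_aq_over (hP' : RelProj.IsRelProj 𝒮' p' chart')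
    (e : ((RelProj.domQ u p' chart' : P'.Opens) : Scheme.{u}))
    (U : Y.Opens) (hU : IsAffineOpen U) (U' : Y'.Opens) (hU' : IsAffineOpen U')
    (hle : U' ≤ g ⁻¹ᵁ U)
    (he : ((RelProj.domQ u p' chart').ι ≫ p').base e ∈ U') :
    ∃ (d : ℕ) (hd : 0 < d) (f : 𝒮.presheaf.obj (op U)) (hf : f ∈ 𝒮.deg U hU d)
      (w : Spec (CommRingCat.of (Away (𝒮'.deg U' hU') (u.gradedAt U hU U' hU' hle f)))),
      (aq u p' chart' U hU U' hU' hle hd f hf).base w = e := by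
  obtain ⟨y, hy⟩ := exists_emb p' chart' ((RelProj.domQ u p' chart').ι.base e) U' hU' he
  have hyE : y ∈ RelCone.domOpen (u.gradedAt U hU U' hU' hle) := by
    rw [← mem_domQ_iff u p' chart' hP' U hU U' hU' hle y, hy]
    have h1 : (RelProj.domQ u p' chart').ι.base e ∈
        Set.range (RelProj.domQ u p' chart').ι.base := ⟨e, rfl⟩
    rw [Scheme.Opens.range_ι] at h1
    exact h1
  rw [RelCone.mem_domOpen] at hyE
  obtain ⟨f, hf, hfy⟩ := hyE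
  obtain ⟨d, hd, g₁, hg₁, hgI⟩ := ConeAlg.exists_homog_notMem (𝒮.deg U hU)
    (Ideal.comap (u.gradedAt U hU U' hU' hle) y.asHomogeneousIdeal.toIdeal) hf hfy
  obtain ⟨w, hw⟩ := exists_awayι_eq (𝒮'.deg U' hU') hd _
    (Graded.map_mem (u.gradedAt U hU U' hU' hle) hg₁) y hgI
  refine ⟨d, hd, g₁, hg₁, w, ?_⟩
  apply (RelProj.domQ u p' chart').ι.isOpenEmbedding.injective
  have k1 := congrArg (fun t : Spec (CommRingCat.of (Away (𝒮'.deg U' hU')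
    (u.gradedAt U hU U' hU' hle g₁))) ⟶ P' => t.base w)
    (aq_ι u p' chart' U hU U' hU' hle hd g₁ hg₁)
  have k2 : (RelProj.awayEmb u p' chart' U hU U' hU' hle hd g₁ hg₁).base w =
      (RelProj.domQ u p' chart').ι.base e := by
    show (RelProj.emb p' chart' U' hU').base ((Proj.awayι _ _ _ _).base w) = _
    rw [hw, hy]
  exact k1.trans k2

theorem mem_basicOpen_resQ (hP' : RelProj.IsRelProj 𝒮' p' chart')
    (U : Y.Opens) (hU : IsAffineOpen U) (U' : Y'.Opens) (hU' : IsAffineOpen U')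
    (hle : U' ≤ g ⁻¹ᵁ U) {d : ℕ} (hd : 0 < d)
    (f : 𝒮.presheaf.obj (op U)) (hf : f ∈ 𝒮.deg U hU d)
    (w : Spec (CommRingCat.of (Away (𝒮'.deg U' hU') (u.gradedAt U hU U' hU' hle f))))
    (W : Y.Opens) (hW : IsAffineOpen W) (hWU : W ≤ U)
    (W' : Y'.Opens) (hW' : IsAffineOpen W') (hWU' : W' ≤ U') (s' : Γ(Y', U'))
    (hs' : W' = Y'.basicOpen s') (hle' : W' ≤ g ⁻¹ᵁ W)
    (y : Proj (𝒮'.deg W' hW'))
    (hy : (RelProj.emb p' chart' W' hW').base y =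
      (RelProj.awayEmb u p' chart' U hU U' hU' hle hd f hf).base w) :
    y ∈ Proj.basicOpen (𝒮'.deg W' hW')
      ((u.gradedAt W hW W' hW' hle') ((𝒮.res hU hW hWU) f)) := by
  have irrC := irr_res (𝒜 := 𝒮') U' W' hU' hW' hWU' s' hs'
  have e1 : (Proj.map (𝒮'.res hU' hW' hWU') irrC).base y =
      (Proj.awayι (𝒮'.deg U' hU') _ (Graded.map_mem (u.gradedAt U hU U' hU' hle) hf) hd).base w := by
    apply (RelProj.emb p' chart' U' hU').isOpenEmbedding.injective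
    have k1 := congrArg (fun k : Proj (𝒮'.deg W' hW') ⟶ P' => k.base y)
      (emb_res p' chart' hP' U' W' hU' hW' hWU' s' hs' irrC)
    exact k1.trans hy
  have h2 : (Proj.map (𝒮'.res hU' hW' hWU') irrC).base y ∈
      Proj.basicOpen (𝒮'.deg U' hU') ((u.gradedAt U hU U' hU' hle) f) := by
    rw [e1]; exact awayι_mem_basicOpen _ hd _ _ w
  rw [Proj.mem_basicOpen, ← u_res u hU hW hWU hU' hW' hWU' hle hle' f]
  exact h2

theorem ref_oneQ (hP : RelProj.IsRelProj 𝒮 p chart) (hP' : RelProj.IsRelProj 𝒮' p' chart')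
    (U : Y.Opens) (hU : IsAffineOpen U) (U' : Y'.Opens) (hU' : IsAffineOpen U')
    (hle : U' ≤ g ⁻¹ᵁ U) {d : ℕ} (hd : 0 < d)
    (f : 𝒮.presheaf.obj (op U)) (hf : f ∈ 𝒮.deg U hU d)
    (W : Y.Opens) (hW : IsAffineOpen W) (hWU : W ≤ U) (s : Γ(Y, U)) (hs : W = Y.basicOpen s)
    (W' : Y'.Opens) (hW' : IsAffineOpen W') (hWU' : W' ≤ U') (s' : Γ(Y', U'))
    (hs' : W' = Y'.basicOpen s') (hle' : W' ≤ g ⁻¹ᵁ W)
    {e : ℕ} (f₂ : 𝒮.presheaf.obj (op W)) (hf₂ : f₂ ∈ 𝒮.deg W hW e)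
    {m : ℕ} (hm : 0 < m) (fk : 𝒮.presheaf.obj (op W)) (hfk : fk ∈ 𝒮.deg W hW m)
    (hme : m = d + e) (hx : fk = (𝒮.res hU hW hWU) f * f₂) :
    ∃ uu : Spec (CommRingCat.of (Away (𝒮'.deg W' hW') (u.gradedAt W hW W' hW' hle' fk))) ⟶
        Spec (CommRingCat.of (Away (𝒮'.deg U' hU') (u.gradedAt U hU U' hU' hle f))),
      uu ≫ aq u p' chart' U hU U' hU' hle hd f hf = aq u p' chart' W hW W' hW' hle' hm fk hfk ∧
      uu ≫ gq u p chart U hU U' hU' hle hd f hf = gq u p chart W hW W' hW' hle' hm fk hfk := by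
  have hxB : (u.gradedAt W hW W' hW' hle') fk =
      (𝒮'.res hU' hW' hWU') ((u.gradedAt U hU U' hU' hle) f) *
        (u.gradedAt W hW W' hW' hle') f₂ := by
    rw [hx, map_mul, u_res u hU hW hWU hU' hW' hWU' hle hle' f]
  have irrC := irr_res (𝒜 := 𝒮') U' W' hU' hW' hWU' s' hs'
  have irrP := irr_res (𝒜 := 𝒮) U W hU hW hWU s hs
  have hgf : (u.gradedAt U hU U' hU' hle) f ∈ 𝒮'.deg U' hU' d := Graded.map_mem _ hf
  have hgf₂ : (u.gradedAt W hW W' hW' hle') f₂ ∈ 𝒮'.deg W' hW' e := Graded.map_mem _ hf₂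
  have hgfk : (u.gradedAt W hW W' hW' hle') fk ∈ 𝒮'.deg W' hW' m := Graded.map_mem _ hfk
  refine ⟨Spec.map (CommRingCat.ofHom (refMap (𝒮'.res hU' hW' hWU')
    ((u.gradedAt U hU U' hU' hle) f) hgf₂ hxB)), ?_, ?_⟩
  · rw [← cancel_mono (RelProj.domQ u p' chart').ι, Category.assoc, aq_ι, aq_ι]
    unfold RelProj.awayEmb
    have h1 := spec_refMap_awayι (𝒮'.res hU' hW' hWU') irrC hd _ hgf hgf₂ hxB hme hgfk hm
    have h2 := emb_res p' chart' hP' U' W' hU' hW' hWU' s' hs' irrC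
    rw [reassoc_of% h1, h2]
  · unfold gq
    have h0 := refMap_comm (u.gradedAt U hU U' hU' hle) (u.gradedAt W hW W' hW' hle')
      (𝒮.res hU hW hWU) (𝒮'.res hU' hW' hWU')
      (fun a => u_res u hU hW hWU hU' hW' hWU' hle hle' a) f hf hf₂ hx hxB
    have h0' : Spec.map (CommRingCat.ofHom (refMap (𝒮'.res hU' hW' hWU')
          ((u.gradedAt U hU U' hU' hle) f) hgf₂ hxB)) ≫
        Spec.map (CommRingCat.ofHom (Away.map (u.gradedAt U hU U' hU' hle) f)) =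
        Spec.map (CommRingCat.ofHom (Away.map (u.gradedAt W hW W' hW' hle') fk)) ≫
        Spec.map (CommRingCat.ofHom (refMap (𝒮.res hU hW hWU) f hf₂ hx)) := by
      rw [← Spec.map_comp, ← Spec.map_comp, ← CommRingCat.ofHom_comp, ← CommRingCat.ofHom_comp, h0]
    have h1 := spec_refMap_awayι (𝒮.res hU hW hWU) irrP hd f hf hf₂ hx hme hfk hm
    have h2 := emb_res p chart hP U W hU hW hWU s hs irrP
    rw [reassoc_of% h0', reassoc_of% h1, h2]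

theorem href_auxQ (hP : RelProj.IsRelProj 𝒮 p chart) (hP' : RelProj.IsRelProj 𝒮' p' chart')
    (U₁ : Y.Opens) (hU₁ : IsAffineOpen U₁) (U₁' : Y'.Opens) (hU₁' : IsAffineOpen U₁')
    (hle₁ : U₁' ≤ g ⁻¹ᵁ U₁) {d₁ : ℕ} (hd₁ : 0 < d₁)
    (f₁ : 𝒮.presheaf.obj (op U₁)) (hf₁ : f₁ ∈ 𝒮.deg U₁ hU₁ d₁)
    (U₂ : Y.Opens) (hU₂ : IsAffineOpen U₂) (U₂' : Y'.Opens) (hU₂' : IsAffineOpen U₂')
    (hle₂ : U₂' ≤ g ⁻¹ᵁ U₂) {d₂ : ℕ} (hd₂ : 0 < d₂)
    (f₂ : 𝒮.presheaf.obj (op U₂)) (hf₂ : f₂ ∈ 𝒮.deg U₂ hU₂ d₂)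
    (s₁ : Spec (CommRingCat.of (Away (𝒮'.deg U₁' hU₁') (u.gradedAt U₁ hU₁ U₁' hU₁' hle₁ f₁))))
    (s₂ : Spec (CommRingCat.of (Away (𝒮'.deg U₂' hU₂') (u.gradedAt U₂ hU₂ U₂' hU₂' hle₂ f₂))))
    (h : (aq u p' chart' U₁ hU₁ U₁' hU₁' hle₁ hd₁ f₁ hf₁).base s₁ =
      (aq u p' chart' U₂ hU₂ U₂' hU₂' hle₂ hd₂ f₂ hf₂).base s₂) :
    ∃ (W : Y.Opens) (hW : IsAffineOpen W) (W' : Y'.Opens) (hW' : IsAffineOpen W')
      (hle' : W' ≤ g ⁻¹ᵁ W) (m : ℕ) (hm : 0 < m) (fk : 𝒮.presheaf.obj (op W))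
      (hfk : fk ∈ 𝒮.deg W hW m)
      (uu : Spec (CommRingCat.of (Away (𝒮'.deg W' hW') (u.gradedAt W hW W' hW' hle' fk))) ⟶
        Spec (CommRingCat.of (Away (𝒮'.deg U₁' hU₁') (u.gradedAt U₁ hU₁ U₁' hU₁' hle₁ f₁))))
      (vv : Spec (CommRingCat.of (Away (𝒮'.deg W' hW') (u.gradedAt W hW W' hW' hle' fk))) ⟶
        Spec (CommRingCat.of (Away (𝒮'.deg U₂' hU₂') (u.gradedAt U₂ hU₂ U₂' hU₂' hle₂ f₂)))),
      uu ≫ aq u p' chart' U₁ hU₁ U₁' hU₁' hle₁ hd₁ f₁ hf₁ =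
        aq u p' chart' W hW W' hW' hle' hm fk hfk ∧
      vv ≫ aq u p' chart' U₂ hU₂ U₂' hU₂' hle₂ hd₂ f₂ hf₂ =
        aq u p' chart' W hW W' hW' hle' hm fk hfk ∧
      uu ≫ gq u p chart U₁ hU₁ U₁' hU₁' hle₁ hd₁ f₁ hf₁ =
        gq u p chart W hW W' hW' hle' hm fk hfk ∧
      vv ≫ gq u p chart U₂ hU₂ U₂' hU₂' hle₂ hd₂ f₂ hf₂ =
        gq u p chart W hW W' hW' hle' hm fk hfk ∧
      (aq u p' chart' U₁ hU₁ U₁' hU₁' hle₁ hd₁ f₁ hf₁).base s₁ ∈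
        Set.range (aq u p' chart' W hW W' hW' hle' hm fk hfk).base := by
  have hx1 := congrArg (fun t : Spec (CommRingCat.of (Away (𝒮'.deg U₁' hU₁')
    (u.gradedAt U₁ hU₁ U₁' hU₁' hle₁ f₁))) ⟶ P' => t.base s₁)
    (aq_ι u p' chart' U₁ hU₁ U₁' hU₁' hle₁ hd₁ f₁ hf₁)
  have hx2 := congrArg (fun t : Spec (CommRingCat.of (Away (𝒮'.deg U₂' hU₂')
    (u.gradedAt U₂ hU₂ U₂' hU₂' hle₂ f₂))) ⟶ P' => t.base s₂)
    (aq_ι u p' chart' U₂ hU₂ U₂' hU₂' hle₂ hd₂ f₂ hf₂)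
  have hb12 : (RelProj.awayEmb u p' chart' U₁ hU₁ U₁' hU₁' hle₁ hd₁ f₁ hf₁).base s₁ =
      (RelProj.awayEmb u p' chart' U₂ hU₂ U₂' hU₂' hle₂ hd₂ f₂ hf₂).base s₂ :=
    hx1.symm.trans ((congrArg (RelProj.domQ u p' chart').ι.base h).trans hx2)
  have hm1 : p'.base ((RelProj.awayEmb u p' chart' U₁ hU₁ U₁' hU₁' hle₁ hd₁ f₁ hf₁).base s₁) ∈
      U₁' := emb_mem p' chart' U₁' hU₁' _
  have hm2 : p'.base ((RelProj.awayEmb u p' chart' U₁ hU₁ U₁' hU₁' hle₁ hd₁ f₁ hf₁).base s₁) ∈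
      U₂' := by
    rw [hb12]; exact emb_mem p' chart' U₂' hU₂' _
  obtain ⟨r₁, r₂, r₁', r₂', hr, hr', hle', ht⟩ :=
    exists_pair_refine g hU₁ hU₂ hU₁' hU₂' hle₁ hle₂ _ ⟨hm1, hm2⟩
  have hW : IsAffineOpen (Y.basicOpen r₁) := hU₁.basicOpen r₁
  have hW' : IsAffineOpen (Y'.basicOpen r₁') := hU₁'.basicOpen r₁'
  have hW1 : Y.basicOpen r₁ ≤ U₁ := Y.basicOpen_le r₁
  have hW2 : Y.basicOpen r₁ ≤ U₂ := hr ▸ Y.basicOpen_le r₂
  have hW1' : Y'.basicOpen r₁' ≤ U₁' := Y'.basicOpen_le r₁'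
  have hW2' : Y'.basicOpen r₁' ≤ U₂' := hr' ▸ Y'.basicOpen_le r₂'
  obtain ⟨y, hy⟩ := exists_emb p' chart' _ (Y'.basicOpen r₁') hW' ht
  have hy1 := mem_basicOpen_resQ u p' chart' hP' U₁ hU₁ U₁' hU₁' hle₁ hd₁ f₁ hf₁ s₁
    (Y.basicOpen r₁) hW hW1 (Y'.basicOpen r₁') hW' hW1' r₁' rfl hle' y hy
  have hy2 := mem_basicOpen_resQ u p' chart' hP' U₂ hU₂ U₂' hU₂' hle₂ hd₂ f₂ hf₂ s₂
    (Y.basicOpen r₁) hW hW2 (Y'.basicOpen r₁') hW' hW2' r₂' hr' hle' y (hy.trans hb12)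
  have hf1' : (𝒮.res hU₁ hW hW1) f₁ ∈ 𝒮.deg (Y.basicOpen r₁) hW d₁ := Graded.map_mem _ hf₁
  have hf2' : (𝒮.res hU₂ hW hW2) f₂ ∈ 𝒮.deg (Y.basicOpen r₁) hW d₂ := Graded.map_mem _ hf₂
  have hm : 0 < d₁ + d₂ := Nat.add_pos_left hd₁ _
  have hfk : (𝒮.res hU₁ hW hW1) f₁ * (𝒮.res hU₂ hW hW2) f₂ ∈
      𝒮.deg (Y.basicOpen r₁) hW (d₁ + d₂) := SetLike.mul_mem_graded hf1' hf2'
  obtain ⟨uu, hu1, hu2⟩ := ref_oneQ u p chart p' chart' hP hP' U₁ hU₁ U₁' hU₁' hle₁ hd₁ f₁ hf₁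
    (Y.basicOpen r₁) hW hW1 r₁ rfl (Y'.basicOpen r₁') hW' hW1' r₁' rfl hle' _ hf2' hm _ hfk rfl rfl
  obtain ⟨vv, hv1, hv2⟩ := ref_oneQ u p chart p' chart' hP hP' U₂ hU₂ U₂' hU₂' hle₂ hd₂ f₂ hf₂
    (Y.basicOpen r₁) hW hW2 r₂ hr (Y'.basicOpen r₁') hW' hW2' r₂' hr' hle' _ hf1' hm _ hfk
    (Nat.add_comm _ _) (mul_comm _ _)
  refine ⟨Y.basicOpen r₁, hW, Y'.basicOpen r₁', hW', hle', d₁ + d₂, hm, _, hfk, uu, vv, hu1, hv1,
    hu2, hv2, ?_⟩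
  have hyk : y ∈ Proj.basicOpen (𝒮'.deg (Y'.basicOpen r₁') hW')
      ((u.gradedAt (Y.basicOpen r₁) hW (Y'.basicOpen r₁') hW' hle')
        ((𝒮.res hU₁ hW hW1) f₁ * (𝒮.res hU₂ hW hW2) f₂)) := by
    rw [map_mul, Proj.basicOpen_mul]; exact ⟨hy1, hy2⟩
  obtain ⟨w, hw⟩ := exists_awayι_eq (𝒮'.deg (Y'.basicOpen r₁') hW') hm _
    (Graded.map_mem _ hfk) y hyk
  refine ⟨w, ?_⟩
  apply (RelProj.domQ u p' chart').ι.isOpenEmbedding.injective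
  have hxk := congrArg (fun t : Spec (CommRingCat.of (Away (𝒮'.deg (Y'.basicOpen r₁') hW')
    ((u.gradedAt (Y.basicOpen r₁) hW (Y'.basicOpen r₁') hW' hle')
      ((𝒮.res hU₁ hW hW1) f₁ * (𝒮.res hU₂ hW hW2) f₂)))) ⟶ P' => t.base w)
    (aq_ι u p' chart' (Y.basicOpen r₁) hW (Y'.basicOpen r₁') hW' hle' hm _ hfk)
  have hbk : (RelProj.awayEmb u p' chart' (Y.basicOpen r₁) hW (Y'.basicOpen r₁') hW' hle' hm _
      hfk).base w =
      (RelProj.awayEmb u p' chart' U₁ hU₁ U₁' hU₁' hle₁ hd₁ f₁ hf₁).base s₁ := by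
    show (RelProj.emb p' chart' _ hW').base ((Proj.awayι _ _ _ _).base w) = _
    rw [hw, hy]
  exact hxk.trans (hbk.trans hx1.symm)

/-- index type of the standard charts of `G(u)` -/
structure IdxQ (g : Y' ⟶ Y) (𝒮 : RelProj.QCGrAlg Y) : Type u where
  U : Y.Opens
  hU : IsAffineOpen U
  U' : Y'.Opens
  hU' : IsAffineOpen U'
  hle : U' ≤ g ⁻¹ᵁ U
  d : ℕ
  hd : 0 < d
  f : 𝒮.presheaf.obj (op U)
  hf : f ∈ 𝒮.deg U hU d

theorem hom_ext_Q {Z : Scheme.{u}}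
    (a b : ((RelProj.domQ u p' chart' : P'.Opens) : Scheme.{u}) ⟶ Z)
    (h : ∀ (U : Y.Opens) (hU : IsAffineOpen U) (U' : Y'.Opens) (hU' : IsAffineOpen U')
      (hle : U' ≤ g ⁻¹ᵁ U) (d : ℕ) (hd : 0 < d) (f : 𝒮.presheaf.obj (op U))
      (hf : f ∈ 𝒮.deg U hU d),
      aq u p' chart' U hU U' hU' hle hd f hf ≫ a = aq u p' chart' U hU U' hU' hle hd f hf ≫ b) :
    a = b := by
  refine hom_ext_of_cover (J := IdxQ g 𝒮)
    (fun k => Spec (CommRingCat.of (Away (𝒮'.deg k.U' k.hU')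
      (u.gradedAt k.U k.hU k.U' k.hU' k.hle k.f))))
    (fun k => aq u p' chart' k.U k.hU k.U' k.hU' k.hle k.hd k.f k.hf) ?_ a b
    (fun k => h k.U k.hU k.U' k.hU' k.hle k.d k.hd k.f k.hf)
  intro e
  obtain ⟨U, hU, U', hU', hle, d, hd, f, hf, w, hw⟩ := cover_aq u p' chart' e
  exact ⟨⟨U, hU, U', hU', hle, d, hd, f, hf⟩, w, hw⟩

theorem exists_v (hP : RelProj.IsRelProj 𝒮 p chart) (hP' : RelProj.IsRelProj 𝒮' p' chart') :
    ∃ v : ((RelProj.domQ u p' chart' : P'.Opens) : Scheme.{u}) ⟶ P,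
      ∀ (U : Y.Opens) (hU : IsAffineOpen U) (U' : Y'.Opens) (hU' : IsAffineOpen U')
        (hle : U' ≤ g ⁻¹ᵁ U) (d : ℕ) (hd : 0 < d) (f : 𝒮.presheaf.obj (op U))
        (hf : f ∈ 𝒮.deg U hU d),
        aq u p' chart' U hU U' hU' hle hd f hf ≫ v = gq u p chart U hU U' hU' hle hd f hf := by
  have hcov : ∀ e : ((RelProj.domQ u p' chart' : P'.Opens) : Scheme.{u}),
      ∃ k : IdxQ g 𝒮, e ∈ Set.range (aq u p' chart' k.U k.hU k.U' k.hU' k.hle k.hd k.f k.hf).base := by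
    intro e
    obtain ⟨U, hU, U', hU', hle, d, hd, f, hf, w, hw⟩ := cover_aq u p' chart' e
    exact ⟨⟨U, hU, U', hU', hle, d, hd, f, hf⟩, w, hw⟩
  obtain ⟨v, hv⟩ := glue_refine (J := IdxQ g 𝒮)
    (fun k => Spec (CommRingCat.of (Away (𝒮'.deg k.U' k.hU')
      (u.gradedAt k.U k.hU k.U' k.hU' k.hle k.f))))
    (fun k => aq u p' chart' k.U k.hU k.U' k.hU' k.hle k.hd k.f k.hf) hcov
    (fun k => gq u p chart k.U k.hU k.U' k.hU' k.hle k.hd k.f k.hf)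
    (by
      intro i j si sj hij
      obtain ⟨W, hW, W', hW', hle', m, hm, fk, hfk, uu, vv, h1, h2, h3, h4, h5⟩ :=
        href_auxQ u p chart p' chart' hP hP' i.U i.hU i.U' i.hU' i.hle i.hd i.f i.hf
          j.U j.hU j.U' j.hU' j.hle j.hd j.f j.hf si sj hij
      exact ⟨⟨W, hW, W', hW', hle', m, hm, fk, hfk⟩, uu, vv, h1, h2, h3, h4, h5⟩)
  exact ⟨v, fun U hU U' hU' hle d hd f hf => hv ⟨U, hU, U', hU', hle, d, hd, f, hf⟩⟩

theorem gq_over (hP : RelProj.IsRelProj 𝒮 p chart) (hP' : RelProj.IsRelProj 𝒮' p' chart')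
    (U : Y.Opens) (hU : IsAffineOpen U) (U' : Y'.Opens) (hU' : IsAffineOpen U')
    (hle : U' ≤ g ⁻¹ᵁ U) {d : ℕ} (hd : 0 < d)
    (f : 𝒮.presheaf.obj (op U)) (hf : f ∈ 𝒮.deg U hU d) :
    gq u p chart U hU U' hU' hle hd f hf ≫ p =
      RelProj.awayEmb u p' chart' U hU U' hU' hle hd f hf ≫ p' ≫ g := by
  unfold gq RelProj.awayEmb
  simp only [Category.assoc]
  rw [emb_over p chart hP U hU, reassoc_of% (emb_over p' chart' hP' U' hU'),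
    Proj.awayι_toSpecZero_assoc, Proj.awayι_toSpecZero_assoc,
    ← IsAffineOpen.SpecMap_appLE_fromSpec g hU hU' hle]
  have e : 𝒮.strZero U hU ≫
      CommRingCat.ofHom (fromZeroRingHom (𝒮.deg U hU) (Submonoid.powers f)) ≫
      CommRingCat.ofHom (Away.map (u.gradedAt U hU U' hU' hle) f) =
      g.appLE U U' hle ≫ 𝒮'.strZero U' hU' ≫
        CommRingCat.ofHom (fromZeroRingHom (𝒮'.deg U' hU')
          (Submonoid.powers ((u.gradedAt U hU U' hU' hle) f))) := by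
    rw [← CommRingCat.ofHom_comp, ProjG.awayMap_comp_fromZeroRingHom, CommRingCat.ofHom_comp,
      ← Category.assoc, strZero_comp_q, Category.assoc]
  have e' := congrArg (fun t => Spec.map t ≫ hU.fromSpec) e
  simp only [Spec.map_comp, Category.assoc] at e'
  exact e'

theorem v_over (hP : RelProj.IsRelProj 𝒮 p chart) (hP' : RelProj.IsRelProj 𝒮' p' chart')
    (v : ((RelProj.domQ u p' chart' : P'.Opens) : Scheme.{u}) ⟶ P)
    (hv : ∀ (U : Y.Opens) (hU : IsAffineOpen U) (U' : Y'.Opens) (hU' : IsAffineOpen U')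
      (hle : U' ≤ g ⁻¹ᵁ U) (d : ℕ) (hd : 0 < d) (f : 𝒮.presheaf.obj (op U))
      (hf : f ∈ 𝒮.deg U hU d),
      aq u p' chart' U hU U' hU' hle hd f hf ≫ v = gq u p chart U hU U' hU' hle hd f hf) :
    v ≫ p = (RelProj.domQ u p' chart').ι ≫ p' ≫ g := by
  refine hom_ext_Q u p' chart' _ _ fun U hU U' hU' hle d hd f hf => ?_
  rw [← Category.assoc, hv, ← Category.assoc, aq_ι]
  exact gq_over u p chart p' chart' hP hP' U hU U' hU' hle hd f hf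

end Nat

end Groth.Agent.H4.ProjQ
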