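import Groth.Agent.H4.ProjQ

set_option autoImplicit false

namespace Groth.Agent.H4.ProjQ2

open CategoryTheory CategoryTheory.Limits AlgebraicGeometry TopologicalSpace Opposite
open HomogeneousLocalization
open Groth.Agent.H4 Groth.Agent.H4.RelSpecLib Groth.Agent.H4.ConeImm Groth.Agent.H4.ConeInf
open Groth.Agent.H4.ConeRetrAlg Groth.Agent.H4.ConeRetr Groth.Agent.H4.ConeRetr2
open Groth.Agent.H4.ProjQ
open scoped HomogeneousIdeal

universe u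

section CoverP

variable {Y P : Scheme.{u}} {𝒮 : RelProj.QCGrAlg Y} (p : P ⟶ Y)
  (chart : ∀ (U : Y.Opens) (hU : IsAffineOpen U),
    (((p ⁻¹ᵁ U : P.Opens) : Scheme.{u}) ≅ Proj (𝒮.deg U hU)))

theorem cover_P (x : P) :
    ∃ (U : Y.Opens) (hU : IsAffineOpen U) (d : ℕ) (hd : 0 < d) (f : 𝒮.presheaf.obj (op U))
      (hf : f ∈ 𝒮.deg U hU d) (v : Spec (CommRingCat.of (Away (𝒮.deg U hU) f))),
      (Proj.awayι (𝒮.deg U hU) f hf hd ≫ RelProj.emb p chart U hU).base v = x := by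
  obtain ⟨U, hU, hxU, -⟩ := Opens.isBasis_iff_nbhd.mp Y.isBasis_affineOpens
    (show p.base x ∈ (⊤ : Y.Opens) from trivial)
  obtain ⟨y, rfl⟩ := exists_emb p chart x U hU hxU
  obtain ⟨d, hd, g, hg, hyg⟩ := exists_homog_basicOpen (𝒮.deg U hU) y
  obtain ⟨v, rfl⟩ := exists_awayι_eq (𝒮.deg U hU) hd g hg y hyg
  exact ⟨U, hU, d, hd, g, hg, v, rfl⟩

end CoverP

section SameBase

variable {Y : Scheme.{u}} {𝒜 ℬ : RelProj.QCGrAlg Y} (φ : 𝒜.toQCAlg ⟶ ℬ.toQCAlg)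
  (hφ : RelProj.IsGradedHom φ)
  {PA : Scheme.{u}} (pA : PA ⟶ Y)
  (chartA : ∀ (U : Y.Opens) (hU : IsAffineOpen U),
    (((pA ⁻¹ᵁ U : PA.Opens) : Scheme.{u}) ≅ Proj (𝒜.deg U hU)))
  {PB : Scheme.{u}} (pB : PB ⟶ Y)
  (chartB : ∀ (U : Y.Opens) (hU : IsAffineOpen U),
    (((pB ⁻¹ᵁ U : PB.Opens) : Scheme.{u}) ≅ Proj (ℬ.deg U hU)))

theorem le_id (U : Y.Opens) : U ≤ (𝟙 Y) ⁻¹ᵁ U := le_rfl

theorem gradedAt_ofHom (U : Y.Opens) (hU : IsAffineOpen U) (hle : U ≤ (𝟙 Y) ⁻¹ᵁ U)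
    (a : 𝒜.presheaf.obj (op U)) :
    (RelProj.QGrHom.ofHom φ hφ).gradedAt U hU U hU hle a = RelProj.gradedHomAt φ hφ U hU a := by
  have h1 : ℬ.presheaf.map (homOfLE (show U ≤ U from hle)).op = 𝟙 _ := by
    rw [show homOfLE (show U ≤ U from hle) = 𝟙 U from Subsingleton.elim _ _, op_id]
    exact ℬ.presheaf.map_id _
  exact congrArg (fun t : ℬ.presheaf.obj (op U) ⟶ ℬ.presheaf.obj (op U) =>
    t.hom ((φ.hom.app (op U)).hom a)) h1

theorem mem_domOpen_ofHom (U : Y.Opens) (hU : IsAffineOpen U) (hle : U ≤ (𝟙 Y) ⁻¹ᵁ U)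
    (w : Proj (ℬ.deg U hU)) :
    w ∈ RelCone.domOpen ((RelProj.QGrHom.ofHom φ hφ).gradedAt U hU U hU hle) ↔
      w ∈ RelCone.domOpen (RelProj.gradedHomAt φ hφ U hU) := by
  rw [RelCone.mem_domOpen, RelCone.mem_domOpen]
  constructor
  · rintro ⟨f, hf, h⟩
    exact ⟨f, hf, by rw [← gradedAt_ofHom φ hφ U hU hle f]; exact h⟩
  · rintro ⟨f, hf, h⟩
    exact ⟨f, hf, by rw [gradedAt_ofHom φ hφ U hU hle f]; exact h⟩

theorem domQ_eq_top_of_tn (hB : RelProj.IsRelProj ℬ pB chartB) (n : ℕ)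
    (hsurj : ∀ k, n ≤ k → ∀ (U : Y.Opens) (hU : IsAffineOpen U), ∀ y ∈ ℬ.deg U hU k,
      ∃ x ∈ 𝒜.deg U hU k, (φ.hom.app (op U)).hom x = y) :
    RelProj.domQ (RelProj.QGrHom.ofHom φ hφ) pB chartB = ⊤ := by
  rw [eq_top_iff]
  intro x _
  show x ∈ RelProj.domQ (RelProj.QGrHom.ofHom φ hφ) pB chartB
  obtain ⟨U, hU, hxU, -⟩ := Opens.isBasis_iff_nbhd.mp Y.isBasis_affineOpens
    (show pB.base x ∈ (⊤ : Y.Opens) from trivial)
  obtain ⟨w, rfl⟩ := exists_emb pB chartB x U hU hxU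
  rw [mem_domQ_iff (RelProj.QGrHom.ofHom φ hφ) pB chartB hB U hU U hU (le_id U) w,
    mem_domOpen_ofHom φ hφ U hU (le_id U) w]
  exact mem_domOpen_of_tn (RelProj.gradedHomAt φ hφ U hU) n
    (fun k hk y hy => hsurj k hk U hU y hy) w

variable (Φ : ((RelProj.domQ (RelProj.QGrHom.ofHom φ hφ) pB chartB : PB.Opens) : Scheme.{u}) ⟶ PA)
  (hΦ : ∀ (U : Y.Opens) (hU : IsAffineOpen U) (U' : Y.Opens) (hU' : IsAffineOpen U')
    (hle : U' ≤ (𝟙 Y) ⁻¹ᵁ U) (d : ℕ) (hd : 0 < d) (f : 𝒜.presheaf.obj (op U))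
    (hf : f ∈ 𝒜.deg U hU d),
    aq (RelProj.QGrHom.ofHom φ hφ) pB chartB U hU U' hU' hle hd f hf ≫ Φ =
      gq (RelProj.QGrHom.ofHom φ hφ) pA chartA U hU U' hU' hle hd f hf)

include hΦ in
theorem preimage_chart (hA : RelProj.IsRelProj 𝒜 pA chartA) (hB : RelProj.IsRelProj ℬ pB chartB)
    (U : Y.Opens) (hU : IsAffineOpen U) (hle : U ≤ (𝟙 Y) ⁻¹ᵁ U) {d : ℕ} (hd : 0 < d)
    (f : 𝒜.presheaf.obj (op U)) (hf : f ∈ 𝒜.deg U hU d) :
    Φ ⁻¹ᵁ (Proj.awayι (𝒜.deg U hU) f hf hd ≫ RelProj.emb pA chartA U hU).opensRange =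
      (aq (RelProj.QGrHom.ofHom φ hφ) pB chartB U hU U hU hle hd f hf).opensRange := by
  have hover : Φ ≫ pA = (RelProj.domQ (RelProj.QGrHom.ofHom φ hφ) pB chartB).ι ≫ pB := by
    rw [v_over (RelProj.QGrHom.ofHom φ hφ) pA chartA pB chartB hA hB Φ hΦ, Category.comp_id]
  ext e
  constructor
  · rintro ⟨v', hv'⟩
    have h1 : pA.base (Φ.base e) ∈ U := by
      rw [← hv']; exact emb_mem pA chartA U hU _
    have h2 : ((RelProj.domQ (RelProj.QGrHom.ofHom φ hφ) pB chartB).ι ≫ pB).base e ∈ U := by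
      rw [← hover]; exact h1
    obtain ⟨d', hd', f', hf', w', rfl⟩ :=
      cover_aq_over (RelProj.QGrHom.ofHom φ hφ) pB chartB hB e U hU U hU hle h2
    have h3 := congrArg (fun t : Spec (CommRingCat.of (Away (ℬ.deg U hU)
      ((RelProj.QGrHom.ofHom φ hφ).gradedAt U hU U hU hle f'))) ⟶ PA => t.base w')
      (hΦ U hU U hU hle d' hd' f' hf')
    have h4 : (Proj.awayι (𝒜.deg U hU) f hf hd).base v' =
        (Proj.awayι (𝒜.deg U hU) f' hf' hd').base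
          ((Spec.map (CommRingCat.ofHom
            (Away.map ((RelProj.QGrHom.ofHom φ hφ).gradedAt U hU U hU hle) f'))).base w') := by
      apply (RelProj.emb pA chartA U hU).isOpenEmbedding.injective
      exact hv'.trans h3
    have h5 : (Proj.awayι (𝒜.deg U hU) f' hf' hd').base
          ((Spec.map (CommRingCat.ofHom
            (Away.map ((RelProj.QGrHom.ofHom φ hφ).gradedAt U hU U hU hle) f'))).base w') ∈
        Proj.basicOpen (𝒜.deg U hU) f := by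
      rw [← h4]; exact awayι_mem_basicOpen _ hd f hf v'
    have h6 := (mem_basicOpen_iff_ring ((RelProj.QGrHom.ofHom φ hφ).gradedAt U hU U hU hle)
      hd hd' hf hf' w').mpr h5
    obtain ⟨w'', hw''⟩ := exists_awayι_eq (ℬ.deg U hU) hd _ (Graded.map_mem _ hf) _ h6
    refine ⟨w'', ?_⟩
    apply (RelProj.domQ (RelProj.QGrHom.ofHom φ hφ) pB chartB).ι.isOpenEmbedding.injective
    have k1 := congrArg (fun t : Spec (CommRingCat.of (Away (ℬ.deg U hU)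
      ((RelProj.QGrHom.ofHom φ hφ).gradedAt U hU U hU hle f))) ⟶ PB => t.base w'')
      (aq_ι (RelProj.QGrHom.ofHom φ hφ) pB chartB U hU U hU hle hd f hf)
    have k2 := congrArg (fun t : Spec (CommRingCat.of (Away (ℬ.deg U hU)
      ((RelProj.QGrHom.ofHom φ hφ).gradedAt U hU U hU hle f'))) ⟶ PB => t.base w')
      (aq_ι (RelProj.QGrHom.ofHom φ hφ) pB chartB U hU U hU hle hd' f' hf')
    have k3 : (RelProj.awayEmb (RelProj.QGrHom.ofHom φ hφ) pB chartB U hU U hU hle hd f hf).base w'' =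
        (RelProj.awayEmb (RelProj.QGrHom.ofHom φ hφ) pB chartB U hU U hU hle hd' f' hf').base w' :=
      congrArg (RelProj.emb pB chartB U hU).base hw''
    exact k1.trans (k3.trans k2.symm)
  · rintro ⟨w, rfl⟩
    exact ⟨(Spec.map (CommRingCat.ofHom
      (Away.map ((RelProj.QGrHom.ofHom φ hφ).gradedAt U hU U hU hle) f))).base w,
      (congrArg (fun t : Spec (CommRingCat.of (Away (ℬ.deg U hU)
        ((RelProj.QGrHom.ofHom φ hφ).gradedAt U hU U hU hle f))) ⟶ PA => t.base w)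
        (hΦ U hU U hU hle d hd f hf)).symm⟩

include hΦ in
theorem prop_of_charts {Pr : MorphismProperty Scheme.{u}} [IsZariskiLocalAtTarget Pr]
    (hA : RelProj.IsRelProj 𝒜 pA chartA) (hB : RelProj.IsRelProj ℬ pB chartB)
    (hPr : ∀ (U : Y.Opens) (hU : IsAffineOpen U) (hle : U ≤ (𝟙 Y) ⁻¹ᵁ U) (d : ℕ) (hd : 0 < d)
      (f : 𝒜.presheaf.obj (op U)) (hf : f ∈ 𝒜.deg U hU d),
      Pr (Spec.map (CommRingCat.ofHom
        (Away.map ((RelProj.QGrHom.ofHom φ hφ).gradedAt U hU U hU hle) f)))) : Pr Φ := by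
  let 𝒰 : PA.OpenCover := Scheme.Cover.mkOfCovers (Idx 𝒜)
    (fun k => Spec (CommRingCat.of (Away (𝒜.deg k.U k.hU) k.f)))
    (fun k => Proj.awayι (𝒜.deg k.U k.hU) k.f k.hf k.hd ≫ RelProj.emb pA chartA k.U k.hU)
    (fun x => by
      obtain ⟨U, hU, d, hd, f, hf, v, hv⟩ := cover_P pA chartA x
      exact ⟨⟨U, hU, d, hd, f, hf⟩, v, hv⟩)
    (fun k => inferInstance)
  refine ProjG.of_isPullback_openCover (P := Pr) Φ 𝒰
    (fun k => Spec (CommRingCat.of (Away (ℬ.deg k.U k.hU)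
      ((RelProj.QGrHom.ofHom φ hφ).gradedAt k.U k.hU k.U k.hU (le_id k.U) k.f))))
    (fun k => Spec.map (CommRingCat.ofHom
      (Away.map ((RelProj.QGrHom.ofHom φ hφ).gradedAt k.U k.hU k.U k.hU (le_id k.U)) k.f)))
    (fun k => aq (RelProj.QGrHom.ofHom φ hφ) pB chartB k.U k.hU k.U k.hU (le_id k.U) k.hd k.f k.hf)
    (fun k => ?_) (fun k => hPr k.U k.hU (le_id k.U) k.d k.hd k.f k.hf)
  apply IsOpenImmersion.isPullback
  · exact hΦ k.U k.hU k.U k.hU (le_id k.U) k.d k.hd k.f k.hf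
  · exact preimage_chart φ hφ pA chartA pB chartB Φ hΦ hA hB k.U k.hU (le_id k.U) k.hd k.f k.hf

theorem prop_of_isProjQMap {Pr : MorphismProperty Scheme.{u}} [IsZariskiLocalAtTarget Pr]
    (hA : RelProj.IsRelProj 𝒜 pA chartA) (hB : RelProj.IsRelProj ℬ pB chartB) (h : PB ⟶ PA)
    (hh : RelProj.IsProjQMap (RelProj.QGrHom.ofHom φ hφ) pA chartA pB chartB h)
    (hPr : ∀ (U : Y.Opens) (hU : IsAffineOpen U) (hle : U ≤ (𝟙 Y) ⁻¹ᵁ U) (d : ℕ) (hd : 0 < d)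
      (f : 𝒜.presheaf.obj (op U)) (hf : f ∈ 𝒜.deg U hU d),
      Pr (Spec.map (CommRingCat.ofHom
        (Away.map ((RelProj.QGrHom.ofHom φ hφ).gradedAt U hU U hU hle) f)))) : Pr h := by
  obtain ⟨hdom, hch⟩ := hh
  have hiso : IsIso (RelProj.domQ (RelProj.QGrHom.ofHom φ hφ) pB chartB).ι :=
    isIso_ι_of_eq_top _ hdom
  have hΦ : ∀ (U : Y.Opens) (hU : IsAffineOpen U) (U' : Y.Opens) (hU' : IsAffineOpen U')
      (hle : U' ≤ (𝟙 Y) ⁻¹ᵁ U) (d : ℕ) (hd : 0 < d) (f : 𝒜.presheaf.obj (op U))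
      (hf : f ∈ 𝒜.deg U hU d),
      aq (RelProj.QGrHom.ofHom φ hφ) pB chartB U hU U' hU' hle hd f hf ≫
        ((RelProj.domQ (RelProj.QGrHom.ofHom φ hφ) pB chartB).ι ≫ h) =
        gq (RelProj.QGrHom.ofHom φ hφ) pA chartA U hU U' hU' hle hd f hf := by
    intro U hU U' hU' hle d hd f hf
    rw [← Category.assoc, aq_ι]
    exact hch U hU U' hU' hle d hd f hf
  have h1 : Pr ((RelProj.domQ (RelProj.QGrHom.ofHom φ hφ) pB chartB).ι ≫ h) :=
    prop_of_charts φ hφ pA chartA pB chartB _ hΦ hA hB hPr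
  exact (MorphismProperty.cancel_left_of_respectsIso Pr
    (RelProj.domQ (RelProj.QGrHom.ofHom φ hφ) pB chartB).ι h).mp h1

end SameBase

end Groth.Agent.H4.ProjQ2
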