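import Groth.Agent.H4.ProjQ2

set_option autoImplicit false

namespace Groth.Agent.H4.ProjQ4

open CategoryTheory CategoryTheory.Limits AlgebraicGeometry TopologicalSpace Opposite
open HomogeneousLocalization
open Groth.Agent.H4 Groth.Agent.H4.RelSpecLib Groth.Agent.H4.ConeImm Groth.Agent.H4.ConeInf
open Groth.Agent.H4.ConeRetrAlg Groth.Agent.H4.ConeRetr Groth.Agent.H4.ConeRetr2
open Groth.Agent.H4.ProjQ Groth.Agent.H4.ProjQ2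
open scoped HomogeneousIdeal

universe u

section Local

variable {A B C : Type u} [CommRing A] [CommRing B] [CommRing C]
  {𝒜 : ℕ → AddSubgroup A} {ℬ : ℕ → AddSubgroup B} {𝒞 : ℕ → AddSubgroup C}
  [GradedRing 𝒜] [GradedRing ℬ] [GradedRing 𝒞]

/-- the chart-level composition law `Proj(ψ ∘ φ) = Proj(φ) ∘ Proj(ψ)` -/
theorem comp_local (φ : 𝒜 →+*ᵍ ℬ) (ψ : ℬ →+*ᵍ 𝒞) (χ : 𝒜 →+*ᵍ 𝒞) (hχ : ∀ a, χ a = ψ (φ a))
    {d : ℕ} (hd : 0 < d) (f : A) (hf : f ∈ 𝒜 d)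
    {P P' P'' Z₁ Z₂ Z₃ T : Scheme.{u}}
    (m : Proj 𝒜 ⟶ P) (m' : Proj ℬ ⟶ P') (m'' : Proj 𝒞 ⟶ P'') [Mono m'']
    (ι₁ : Z₁ ⟶ P') [Mono ι₁] (ι₂ : Z₂ ⟶ P'') (ι₃ : Z₃ ⟶ P'')
    (Φ₁ : Z₁ ⟶ P) (Φ₂ : Z₂ ⟶ P') (Φ₃ : Z₃ ⟶ P)
    (a₁ : Spec (CommRingCat.of (Away ℬ (φ f))) ⟶ Z₁)
    (ha₁ : a₁ ≫ ι₁ = Proj.awayι ℬ (φ f) (Graded.map_mem φ hf) hd ≫ m')
    (hΦ₁ : a₁ ≫ Φ₁ = Spec.map (CommRingCat.ofHom (Away.map φ f)) ≫ Proj.awayι 𝒜 f hf hd ≫ m)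
    (a₂ : Spec (CommRingCat.of (Away 𝒞 (ψ (φ f)))) ⟶ Z₂)
    (ha₂ : a₂ ≫ ι₂ =
      Proj.awayι 𝒞 (ψ (φ f)) (Graded.map_mem ψ (Graded.map_mem φ hf)) hd ≫ m'')
    (hΦ₂ : a₂ ≫ Φ₂ = Spec.map (CommRingCat.ofHom (Away.map ψ (φ f))) ≫
      Proj.awayι ℬ (φ f) (Graded.map_mem φ hf) hd ≫ m')
    (a₃ : Spec (CommRingCat.of (Away 𝒞 (χ f))) ⟶ Z₃)
    (ha₃ : a₃ ≫ ι₃ = Proj.awayι 𝒞 (χ f) (Graded.map_mem χ hf) hd ≫ m'')
    (hΦ₃ : a₃ ≫ Φ₃ = Spec.map (CommRingCat.ofHom (Away.map χ f)) ≫ Proj.awayι 𝒜 f hf hd ≫ m)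
    (k₃ : T ⟶ Spec (CommRingCat.of (Away 𝒞 (χ f))))
    (k₂ : T ⟶ Spec (CommRingCat.of (Away 𝒞 (ψ (φ f))))) (e₁ : T ⟶ Z₁)
    (h₃₂ : (k₃ ≫ a₃) ≫ ι₃ = (k₂ ≫ a₂) ≫ ι₂) (h₂₁ : (k₂ ≫ a₂) ≫ Φ₂ = e₁ ≫ ι₁) :
    (k₃ ≫ a₃) ≫ Φ₃ = e₁ ≫ Φ₁ := by
  obtain rfl : χ = ψ.comp φ := DFunLike.ext _ _ hχ
  have hk : k₃ = k₂ := by
    have h1 : k₃ ≫ (Proj.awayι 𝒞 (ψ (φ f)) (Graded.map_mem ψ (Graded.map_mem φ hf)) hd ≫ m'') =
        k₂ ≫ (Proj.awayι 𝒞 (ψ (φ f)) (Graded.map_mem ψ (Graded.map_mem φ hf)) hd ≫ m'') := by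
      have h2 := h₃₂
      rw [Category.assoc, Category.assoc, ha₃, ha₂] at h2
      exact h2
    haveI : Mono (Proj.awayι 𝒞 (ψ (φ f)) (Graded.map_mem ψ (Graded.map_mem φ hf)) hd ≫ m'') :=
      mono_comp _ _
    exact (cancel_mono
      (Proj.awayι 𝒞 (ψ (φ f)) (Graded.map_mem ψ (Graded.map_mem φ hf)) hd ≫ m'')).mp h1
  have he₁ : e₁ = k₂ ≫ Spec.map (CommRingCat.ofHom (Away.map ψ (φ f))) ≫ a₁ := by
    apply (cancel_mono ι₁).mp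
    rw [← h₂₁, Category.assoc, hΦ₂, Category.assoc, Category.assoc, ha₁]
  calc (k₃ ≫ a₃) ≫ Φ₃ = k₃ ≫ a₃ ≫ Φ₃ := Category.assoc _ _ _
    _ = k₂ ≫ Spec.map (CommRingCat.ofHom (Away.map (ψ.comp φ) f)) ≫
          Proj.awayι 𝒜 f hf hd ≫ m := by rw [hΦ₃, hk]; rfl
    _ = k₂ ≫ (Spec.map (CommRingCat.ofHom (Away.map ψ (φ f))) ≫
          Spec.map (CommRingCat.ofHom (Away.map φ f))) ≫ Proj.awayι 𝒜 f hf hd ≫ m := by
        rw [specMap_awayMap_comp φ ψ f]; rfl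
    _ = (k₂ ≫ Spec.map (CommRingCat.ofHom (Away.map ψ (φ f))) ≫ a₁) ≫ Φ₁ := by
        simp only [Category.assoc, hΦ₁]
    _ = e₁ ≫ Φ₁ := by rw [he₁]

end Local

section One

variable {Y Y' : Scheme.{u}} {g : Y' ⟶ Y} {𝒮 : RelProj.QCGrAlg Y} {𝒮' : RelProj.QCGrAlg Y'}
  (u : RelProj.QGrHom g 𝒮 𝒮')
  {P : Scheme.{u}} (p : P ⟶ Y)
  (chart : ∀ (U : Y.Opens) (hU : IsAffineOpen U),
    (((p ⁻¹ᵁ U : P.Opens) : Scheme.{u}) ≅ Proj (𝒮.deg U hU)))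
  {P' : Scheme.{u}} (p' : P' ⟶ Y')
  (chart' : ∀ (U' : Y'.Opens) (hU' : IsAffineOpen U'),
    (((p' ⁻¹ᵁ U' : P'.Opens) : Scheme.{u}) ≅ Proj (𝒮'.deg U' hU')))

theorem mem_domQ_homog (hP' : RelProj.IsRelProj 𝒮' p' chart') (U : Y.Opens) (hU : IsAffineOpen U)
    (U' : Y'.Opens) (hU' : IsAffineOpen U') (hle : U' ≤ g ⁻¹ᵁ U) (w : Proj (𝒮'.deg U' hU')) :
    (RelProj.emb p' chart' U' hU').base w ∈ RelProj.domQ u p' chart' ↔
      ∃ (d : ℕ) (_ : 0 < d) (f : 𝒮.presheaf.obj (op U)) (_ : f ∈ 𝒮.deg U hU d),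
        w ∈ Proj.basicOpen (𝒮'.deg U' hU') (u.gradedAt U hU U' hU' hle f) := by
  rw [mem_domQ_iff u p' chart' hP' U hU U' hU' hle w, RelCone.mem_domOpen]
  constructor
  · rintro ⟨f, hf, hfw⟩
    obtain ⟨d, hd, g₁, hg₁, hgI⟩ := ConeAlg.exists_homog_notMem (𝒮.deg U hU)
      (Ideal.comap (u.gradedAt U hU U' hU' hle) w.asHomogeneousIdeal.toIdeal) hf hfw
    exact ⟨d, hd, g₁, hg₁, hgI⟩
  · rintro ⟨d, hd, f, hf, hfw⟩
    exact ⟨f, HomogeneousIdeal.mem_irrelevant_of_mem _ hd hf, hfw⟩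

theorem mem_domQ_of_ι (e : ((RelProj.domQ u p' chart' : P'.Opens) : Scheme.{u})) :
    (RelProj.domQ u p' chart').ι.base e ∈ RelProj.domQ u p' chart' := by
  have h1 : (RelProj.domQ u p' chart').ι.base e ∈
      Set.range (RelProj.domQ u p' chart').ι.base := ⟨e, rfl⟩
  rw [Scheme.Opens.range_ι] at h1
  exact h1

theorem exists_aq_eq (U : Y.Opens) (hU : IsAffineOpen U)
    (U' : Y'.Opens) (hU' : IsAffineOpen U') (hle : U' ≤ g ⁻¹ᵁ U) {d : ℕ} (hd : 0 < d)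
    (f : 𝒮.presheaf.obj (op U)) (hf : f ∈ 𝒮.deg U hU d) (w : Proj (𝒮'.deg U' hU'))
    (hw : w ∈ Proj.basicOpen (𝒮'.deg U' hU') (u.gradedAt U hU U' hU' hle f))
    (e : ((RelProj.domQ u p' chart' : P'.Opens) : Scheme.{u}))
    (he : (RelProj.domQ u p' chart').ι.base e = (RelProj.emb p' chart' U' hU').base w) :
    ∃ w₂ : Spec (CommRingCat.of (Away (𝒮'.deg U' hU') (u.gradedAt U hU U' hU' hle f))),
      (aq u p' chart' U hU U' hU' hle hd f hf).base w₂ = e ∧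
      (Proj.awayι (𝒮'.deg U' hU') (u.gradedAt U hU U' hU' hle f)
        (Graded.map_mem (u.gradedAt U hU U' hU' hle) hf) hd).base w₂ = w := by
  obtain ⟨w₂, hw₂⟩ := exists_awayι_eq (𝒮'.deg U' hU') hd _
    (Graded.map_mem (u.gradedAt U hU U' hU' hle) hf) w hw
  refine ⟨w₂, ?_, hw₂⟩
  apply (RelProj.domQ u p' chart').ι.isOpenEmbedding.injective
  have k1 := congrArg (fun t : Spec (CommRingCat.of (Away (𝒮'.deg U' hU')
    (u.gradedAt U hU U' hU' hle f))) ⟶ P' => t.base w₂)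
    (aq_ι u p' chart' U hU U' hU' hle hd f hf)
  have k2 : (RelProj.awayEmb u p' chart' U hU U' hU' hle hd f hf).base w₂ =
      (RelProj.emb p' chart' U' hU').base w := by
    show (RelProj.emb p' chart' U' hU').base ((Proj.awayι _ _ _ _).base w₂) = _
    rw [hw₂]
  exact (k1.trans k2).trans he.symm

theorem Φ_aq (Φ : ((RelProj.domQ u p' chart' : P'.Opens) : Scheme.{u}) ⟶ P)
    (hΦ : ∀ (U : Y.Opens) (hU : IsAffineOpen U) (U' : Y'.Opens) (hU' : IsAffineOpen U')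
      (hle : U' ≤ g ⁻¹ᵁ U) (d : ℕ) (hd : 0 < d) (f : 𝒮.presheaf.obj (op U))
      (hf : f ∈ 𝒮.deg U hU d),
      aq u p' chart' U hU U' hU' hle hd f hf ≫ Φ = gq u p chart U hU U' hU' hle hd f hf)
    (U : Y.Opens) (hU : IsAffineOpen U)
    (U' : Y'.Opens) (hU' : IsAffineOpen U') (hle : U' ≤ g ⁻¹ᵁ U) {d : ℕ} (hd : 0 < d)
    (f : 𝒮.presheaf.obj (op U)) (hf : f ∈ 𝒮.deg U hU d)
    (w₂ : Spec (CommRingCat.of (Away (𝒮'.deg U' hU') (u.gradedAt U hU U' hU' hle f)))) :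
    Φ.base ((aq u p' chart' U hU U' hU' hle hd f hf).base w₂) =
      (RelProj.emb p chart U hU).base ((Proj.awayι (𝒮.deg U hU) f hf hd).base
        ((Spec.map (CommRingCat.ofHom (Away.map (u.gradedAt U hU U' hU' hle) f))).base w₂)) :=
  congrArg (fun t : Spec (CommRingCat.of (Away (𝒮'.deg U' hU')
    (u.gradedAt U hU U' hU' hle f))) ⟶ P => t.base w₂) (hΦ U hU U' hU' hle d hd f hf)

end One

section Comp

variable {Y Y' Y'' : Scheme.{u}} {g : Y' ⟶ Y} {g' : Y'' ⟶ Y'} {g'' : Y'' ⟶ Y}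
  {𝒮 : RelProj.QCGrAlg Y} {𝒮' : RelProj.QCGrAlg Y'} {𝒮'' : RelProj.QCGrAlg Y''}
  (u₁ : RelProj.QGrHom g 𝒮 𝒮') (u₂ : RelProj.QGrHom g' 𝒮' 𝒮'') (u₃ : RelProj.QGrHom g'' 𝒮 𝒮'')

theorem exists_triple (hg : g'' = g' ≫ g) (y : Y'') :
    ∃ (U : Y.Opens) (hU : IsAffineOpen U) (U' : Y'.Opens) (hU' : IsAffineOpen U')
      (_ : U' ≤ g ⁻¹ᵁ U) (U'' : Y''.Opens) (hU'' : IsAffineOpen U'') (_ : U'' ≤ g' ⁻¹ᵁ U')
      (_ : U'' ≤ g'' ⁻¹ᵁ U), y ∈ U'' := by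
  subst hg
  obtain ⟨U, hU, hyU, -⟩ := Opens.isBasis_iff_nbhd.mp Y.isBasis_affineOpens
    (show (g' ≫ g).base y ∈ (⊤ : Y.Opens) from trivial)
  obtain ⟨U', hU', hyU', hU'le⟩ := Opens.isBasis_iff_nbhd.mp Y'.isBasis_affineOpens
    (show g'.base y ∈ g ⁻¹ᵁ U from hyU)
  obtain ⟨U'', hU'', hyU'', hU''le⟩ := Opens.isBasis_iff_nbhd.mp Y''.isBasis_affineOpens
    (show y ∈ g' ⁻¹ᵁ U' from hyU')
  exact ⟨U, hU, U', hU', hU'le, U'', hU'', hU''le, fun x hx => hU'le (hU''le hx), hyU''⟩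

variable (hg : g'' = g' ≫ g)
  (hcomp : ∀ (U : Y.Opens) (hU : IsAffineOpen U) (U' : Y'.Opens) (hU' : IsAffineOpen U')
    (hle : U' ≤ g ⁻¹ᵁ U) (U'' : Y''.Opens) (hU'' : IsAffineOpen U'') (hle' : U'' ≤ g' ⁻¹ᵁ U')
    (hle'' : U'' ≤ g'' ⁻¹ᵁ U) (a : 𝒮.presheaf.obj (op U)),
    u₃.gradedAt U hU U'' hU'' hle'' a =
      u₂.gradedAt U' hU' U'' hU'' hle' (u₁.gradedAt U hU U' hU' hle a))
  {P : Scheme.{u}} (p : P ⟶ Y)
  (chart : ∀ (U : Y.Opens) (hU : IsAffineOpen U),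
    (((p ⁻¹ᵁ U : P.Opens) : Scheme.{u}) ≅ Proj (𝒮.deg U hU)))
  {P' : Scheme.{u}} (p' : P' ⟶ Y')
  (chart' : ∀ (U' : Y'.Opens) (hU' : IsAffineOpen U'),
    (((p' ⁻¹ᵁ U' : P'.Opens) : Scheme.{u}) ≅ Proj (𝒮'.deg U' hU')))
  {P'' : Scheme.{u}} (p'' : P'' ⟶ Y'')
  (chart'' : ∀ (U'' : Y''.Opens) (hU'' : IsAffineOpen U''),
    (((p'' ⁻¹ᵁ U'' : P''.Opens) : Scheme.{u}) ≅ Proj (𝒮''.deg U'' hU'')))

include hg hcomp in
/-- `G(u₂ ∘ u₁) ⊆ G(u₂)` -/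
theorem domQ_comp_le (hP'' : RelProj.IsRelProj 𝒮'' p'' chart'') :
    RelProj.domQ u₃ p'' chart'' ≤ RelProj.domQ u₂ p'' chart'' := by
  intro x hx
  have hx' : x ∈ RelProj.domQ u₃ p'' chart'' := hx
  show x ∈ RelProj.domQ u₂ p'' chart''
  obtain ⟨U, hU, U', hU', hle, U'', hU'', hle', hle'', hy⟩ := exists_triple hg (p''.base x)
  obtain ⟨w, rfl⟩ := exists_emb p'' chart'' x U'' hU'' hy
  rw [mem_domQ_homog u₃ p'' chart'' hP'' U hU U'' hU'' hle'' w] at hx'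
  obtain ⟨d, hd, f, hf, hfw⟩ := hx'
  rw [mem_domQ_homog u₂ p'' chart'' hP'' U' hU' U'' hU'' hle' w]
  refine ⟨d, hd, u₁.gradedAt U hU U' hU' hle f, Graded.map_mem _ hf, ?_⟩
  rw [← hcomp U hU U' hU' hle U'' hU'' hle' hle'' f]
  exact hfw

include hg hcomp in
/-- a point of `G(u₂)` lies in `G(u₂ ∘ u₁)` iff `Proj(u₂)` maps it into `G(u₁)` -/
theorem mem_domQ_comp_iff (hP' : RelProj.IsRelProj 𝒮' p' chart')
    (hP'' : RelProj.IsRelProj 𝒮'' p'' chart'')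
    (Φ₂ : ((RelProj.domQ u₂ p'' chart'' : P''.Opens) : Scheme.{u}) ⟶ P')
    (hΦ₂ : ∀ (U : Y'.Opens) (hU : IsAffineOpen U) (U' : Y''.Opens) (hU' : IsAffineOpen U')
      (hle : U' ≤ g' ⁻¹ᵁ U) (d : ℕ) (hd : 0 < d) (f : 𝒮'.presheaf.obj (op U))
      (hf : f ∈ 𝒮'.deg U hU d),
      aq u₂ p'' chart'' U hU U' hU' hle hd f hf ≫ Φ₂ = gq u₂ p' chart' U hU U' hU' hle hd f hf)
    (e₂ : ((RelProj.domQ u₂ p'' chart'' : P''.Opens) : Scheme.{u})) :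
    (RelProj.domQ u₂ p'' chart'').ι.base e₂ ∈ RelProj.domQ u₃ p'' chart'' ↔
      Φ₂.base e₂ ∈ RelProj.domQ u₁ p' chart' := by
  obtain ⟨U, hU, U', hU', hle, U'', hU'', hle', hle'', hy⟩ :=
    exists_triple hg (p''.base ((RelProj.domQ u₂ p'' chart'').ι.base e₂))
  obtain ⟨w, hw⟩ := exists_emb p'' chart'' _ U'' hU'' hy
  have he₂ : (RelProj.emb p'' chart'' U'' hU'').base w ∈ RelProj.domQ u₂ p'' chart'' := by
    rw [hw]; exact mem_domQ_of_ι u₂ p'' chart'' e₂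
  rw [mem_domQ_homog u₂ p'' chart'' hP'' U' hU' U'' hU'' hle' w] at he₂
  obtain ⟨d', hd', f', hf', hf'w⟩ := he₂
  obtain ⟨w₂, hw₂, hw₂'⟩ := exists_aq_eq u₂ p'' chart'' U' hU' U'' hU'' hle' hd' f' hf' w hf'w
    e₂ hw.symm
  have hΦe : Φ₂.base e₂ = (RelProj.emb p' chart' U' hU').base
      ((Proj.awayι (𝒮'.deg U' hU') f' hf' hd').base
        ((Spec.map (CommRingCat.ofHom
          (Away.map (u₂.gradedAt U' hU' U'' hU'' hle') f'))).base w₂)) := by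
    rw [← hw₂]
    exact Φ_aq u₂ p' chart' p'' chart'' Φ₂ hΦ₂ U' hU' U'' hU'' hle' hd' f' hf' w₂
  rw [hΦe, ← hw, mem_domQ_homog u₃ p'' chart'' hP'' U hU U'' hU'' hle'' w,
    mem_domQ_homog u₁ p' chart' hP' U hU U' hU' hle _]
  constructor
  · rintro ⟨d, hd, f, hf, hfw⟩
    refine ⟨d, hd, f, hf, ?_⟩
    rw [hcomp U hU U' hU' hle U'' hU'' hle' hle'' f, ← hw₂'] at hfw
    exact (mem_basicOpen_iff_ring (u₂.gradedAt U' hU' U'' hU'' hle') hd hd'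
      (Graded.map_mem (u₁.gradedAt U hU U' hU' hle) hf) hf' w₂).mp hfw
  · rintro ⟨d, hd, f, hf, hfw⟩
    refine ⟨d, hd, f, hf, ?_⟩
    rw [hcomp U hU U' hU' hle U'' hU'' hle' hle'' f, ← hw₂']
    exact (mem_basicOpen_iff_ring (u₂.gradedAt U' hU' U'' hU'' hle') hd hd'
      (Graded.map_mem (u₁.gradedAt U hU U' hU' hle) hf) hf' w₂).mpr hfw

include hg hcomp in
/-- the composition law `Proj(u₂ ∘ u₁) = Proj(u₁) ∘ Proj(u₂)`, on `T`-valued points -/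
theorem comp_eq (hP'' : RelProj.IsRelProj 𝒮'' p'' chart'')
    (Φ₁ : ((RelProj.domQ u₁ p' chart' : P'.Opens) : Scheme.{u}) ⟶ P)
    (hΦ₁ : ∀ (U : Y.Opens) (hU : IsAffineOpen U) (U' : Y'.Opens) (hU' : IsAffineOpen U')
      (hle : U' ≤ g ⁻¹ᵁ U) (d : ℕ) (hd : 0 < d) (f : 𝒮.presheaf.obj (op U))
      (hf : f ∈ 𝒮.deg U hU d),
      aq u₁ p' chart' U hU U' hU' hle hd f hf ≫ Φ₁ = gq u₁ p chart U hU U' hU' hle hd f hf)
    (Φ₂ : ((RelProj.domQ u₂ p'' chart'' : P''.Opens) : Scheme.{u}) ⟶ P')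
    (hΦ₂ : ∀ (U : Y'.Opens) (hU : IsAffineOpen U) (U' : Y''.Opens) (hU' : IsAffineOpen U')
      (hle : U' ≤ g' ⁻¹ᵁ U) (d : ℕ) (hd : 0 < d) (f : 𝒮'.presheaf.obj (op U))
      (hf : f ∈ 𝒮'.deg U hU d),
      aq u₂ p'' chart'' U hU U' hU' hle hd f hf ≫ Φ₂ = gq u₂ p' chart' U hU U' hU' hle hd f hf)
    (Φ₃ : ((RelProj.domQ u₃ p'' chart'' : P''.Opens) : Scheme.{u}) ⟶ P)
    (hΦ₃ : ∀ (U : Y.Opens) (hU : IsAffineOpen U) (U' : Y''.Opens) (hU' : IsAffineOpen U')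
      (hle : U' ≤ g'' ⁻¹ᵁ U) (d : ℕ) (hd : 0 < d) (f : 𝒮.presheaf.obj (op U))
      (hf : f ∈ 𝒮.deg U hU d),
      aq u₃ p'' chart'' U hU U' hU' hle hd f hf ≫ Φ₃ = gq u₃ p chart U hU U' hU' hle hd f hf)
    {T : Scheme.{u}} (e₃ : T ⟶ ((RelProj.domQ u₃ p'' chart'' : P''.Opens) : Scheme.{u}))
    (e₂ : T ⟶ ((RelProj.domQ u₂ p'' chart'' : P''.Opens) : Scheme.{u}))
    (e₁ : T ⟶ ((RelProj.domQ u₁ p' chart' : P'.Opens) : Scheme.{u}))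
    (h32 : e₃ ≫ (RelProj.domQ u₃ p'' chart'').ι = e₂ ≫ (RelProj.domQ u₂ p'' chart'').ι)
    (h21 : e₂ ≫ Φ₂ = e₁ ≫ (RelProj.domQ u₁ p' chart').ι) :
    e₃ ≫ Φ₃ = e₁ ≫ Φ₁ := by
  have hloc : ∀ t : T, ∃ V : T.Opens, t ∈ V ∧ V.ι ≫ e₃ ≫ Φ₃ = V.ι ≫ e₁ ≫ Φ₁ := by
    intro t
    obtain ⟨U, hU, U', hU', hle, U'', hU'', hle', hle'', hy⟩ :=
      exists_triple hg (((RelProj.domQ u₃ p'' chart'').ι ≫ p'').base (e₃.base t))
    obtain ⟨d, hd, f, hf, w₃, hw₃⟩ :=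
      cover_aq_over u₃ p'' chart'' hP'' (e₃.base t) U hU U'' hU'' hle'' hy
    let V : T.Opens := e₃ ⁻¹ᵁ (aq u₃ p'' chart'' U hU U'' hU'' hle'' hd f hf).opensRange
    have htV : t ∈ V := by
      show e₃.base t ∈ Set.range (aq u₃ p'' chart'' U hU U'' hU'' hle'' hd f hf).base
      exact ⟨w₃, hw₃⟩
    have hr₃ : Set.range (V.ι ≫ e₃).base ⊆
        Set.range (aq u₃ p'' chart'' U hU U'' hU'' hle'' hd f hf).base := by
      rintro _ ⟨s, rfl⟩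
      have hs : V.ι.base s ∈ V := by
        have h1 : V.ι.base s ∈ Set.range V.ι.base := ⟨s, rfl⟩
        rw [Scheme.Opens.range_ι] at h1
        exact h1
      exact hs
    have hr₂ : Set.range (V.ι ≫ e₂).base ⊆
        Set.range (aq u₂ p'' chart'' U' hU' U'' hU'' hle' hd (u₁.gradedAt U hU U' hU' hle f)
          (Graded.map_mem (u₁.gradedAt U hU U' hU' hle) hf)).base := by
      rintro _ ⟨s, rfl⟩
      obtain ⟨w, hw⟩ := hr₃ ⟨s, rfl⟩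
      have h1 : (RelProj.domQ u₂ p'' chart'').ι.base ((V.ι ≫ e₂).base s) =
          (RelProj.emb p'' chart'' U'' hU'').base
            ((Proj.awayι (𝒮''.deg U'' hU'') (u₃.gradedAt U hU U'' hU'' hle'' f)
              (Graded.map_mem (u₃.gradedAt U hU U'' hU'' hle'') hf) hd).base w) := by
        have k1 := congrArg (fun m : T ⟶ P'' => m.base (V.ι.base s)) h32
        have k2 := congrArg (fun m : Spec (CommRingCat.of (Away (𝒮''.deg U'' hU'')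
          (u₃.gradedAt U hU U'' hU'' hle'' f))) ⟶ P'' => m.base w)
          (aq_ι u₃ p'' chart'' U hU U'' hU'' hle'' hd f hf)
        have k3 : (RelProj.domQ u₃ p'' chart'').ι.base
            ((aq u₃ p'' chart'' U hU U'' hU'' hle'' hd f hf).base w) =
            (RelProj.domQ u₃ p'' chart'').ι.base ((V.ι ≫ e₃).base s) := congrArg _ hw
        exact k1.symm.trans (k3.symm.trans k2)
      have hmem : (Proj.awayι (𝒮''.deg U'' hU'') (u₃.gradedAt U hU U'' hU'' hle'' f)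
          (Graded.map_mem (u₃.gradedAt U hU U'' hU'' hle'') hf) hd).base w ∈
          Proj.basicOpen (𝒮''.deg U'' hU'')
            (u₂.gradedAt U' hU' U'' hU'' hle' (u₁.gradedAt U hU U' hU' hle f)) := by
        rw [← hcomp U hU U' hU' hle U'' hU'' hle' hle'' f]
        exact awayι_mem_basicOpen (𝒮''.deg U'' hU'') hd _
          (Graded.map_mem (u₃.gradedAt U hU U'' hU'' hle'') hf) w
      obtain ⟨w₂, hw₂, -⟩ := exists_aq_eq u₂ p'' chart'' U' hU' U'' hU'' hle' hd _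
        (Graded.map_mem (u₁.gradedAt U hU U' hU' hle) hf) _ hmem ((V.ι ≫ e₂).base s) h1
      exact ⟨w₂, hw₂⟩
    have hk₃ := IsOpenImmersion.lift_fac (aq u₃ p'' chart'' U hU U'' hU'' hle'' hd f hf)
      (V.ι ≫ e₃) hr₃
    have hk₂ := IsOpenImmersion.lift_fac
      (aq u₂ p'' chart'' U' hU' U'' hU'' hle' hd (u₁.gradedAt U hU U' hU' hle f)
        (Graded.map_mem (u₁.gradedAt U hU U' hU' hle) hf)) (V.ι ≫ e₂) hr₂
    refine ⟨V, htV, ?_⟩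
    have key := comp_local (u₁.gradedAt U hU U' hU' hle) (u₂.gradedAt U' hU' U'' hU'' hle')
      (u₃.gradedAt U hU U'' hU'' hle'') (hcomp U hU U' hU' hle U'' hU'' hle' hle'') hd f hf
      (RelProj.emb p chart U hU) (RelProj.emb p' chart' U' hU') (RelProj.emb p'' chart'' U'' hU'')
      (RelProj.domQ u₁ p' chart').ι (RelProj.domQ u₂ p'' chart'').ι
      (RelProj.domQ u₃ p'' chart'').ι Φ₁ Φ₂ Φ₃
      (aq u₁ p' chart' U hU U' hU' hle hd f hf) (aq_ι u₁ p' chart' U hU U' hU' hle hd f hf)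
      (hΦ₁ U hU U' hU' hle d hd f hf)
      (aq u₂ p'' chart'' U' hU' U'' hU'' hle' hd (u₁.gradedAt U hU U' hU' hle f)
        (Graded.map_mem (u₁.gradedAt U hU U' hU' hle) hf))
      (aq_ι u₂ p'' chart'' U' hU' U'' hU'' hle' hd (u₁.gradedAt U hU U' hU' hle f)
        (Graded.map_mem (u₁.gradedAt U hU U' hU' hle) hf))
      (hΦ₂ U' hU' U'' hU'' hle' d hd (u₁.gradedAt U hU U' hU' hle f)
        (Graded.map_mem (u₁.gradedAt U hU U' hU' hle) hf))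
      (aq u₃ p'' chart'' U hU U'' hU'' hle'' hd f hf)
      (aq_ι u₃ p'' chart'' U hU U'' hU'' hle'' hd f hf)
      (hΦ₃ U hU U'' hU'' hle'' d hd f hf)
      (IsOpenImmersion.lift (aq u₃ p'' chart'' U hU U'' hU'' hle'' hd f hf) (V.ι ≫ e₃) hr₃)
      (IsOpenImmersion.lift
        (aq u₂ p'' chart'' U' hU' U'' hU'' hle' hd (u₁.gradedAt U hU U' hU' hle f)
          (Graded.map_mem (u₁.gradedAt U hU U' hU' hle) hf)) (V.ι ≫ e₂) hr₂)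
      (V.ι ≫ e₁)
      (by rw [hk₃, hk₂, Category.assoc, Category.assoc, h32])
      (by rw [hk₂, Category.assoc, Category.assoc, h21])
    rw [hk₃] at key
    simpa only [Category.assoc] using key
  choose V hV hVeq using hloc
  refine hom_ext_of_cover (J := T) (fun t => ((V t : T.Opens) : Scheme.{u}))
    (fun t => (V t).ι) (fun t => ⟨t, ?_⟩) _ _ (fun t => hVeq t)
  rw [Scheme.Opens.range_ι]
  exact hV t

end Comp

end Groth.Agent.H4.ProjQ4
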