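import Groth.Agent.H4.ProjQ4
import Groth.Prelude.Def_Pic

set_option autoImplicit false

namespace Groth.Agent.H4.ProjQ5

open CategoryTheory CategoryTheory.Limits AlgebraicGeometry TopologicalSpace Opposite
open HomogeneousLocalization
open Groth.Agent.H4 Groth.Agent.H4.RelSpecLib Groth.Agent.H4.ConeImm Groth.Agent.H4.ConeInf
open Groth.Agent.H4.ConeRetrAlg Groth.Agent.H4.ConeRetr Groth.Agent.H4.ConeRetr2
open Groth.Agent.H4.ProjQ Groth.Agent.H4.ProjQ2 Groth.Agent.H4.ProjQ4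
open scoped HomogeneousIdeal

universe u

section Top

set_option backward.isDefEq.respectTransparency false in
theorem isOpenImmersion_of_comp_closedImmersion {X Y Z : Scheme.{u}} (f : X ⟶ Y) (j : Y ⟶ Z)
    [IsClosedImmersion j] [IsOpenImmersion (f ≫ j)] : IsOpenImmersion f := by
  have hfj : Topology.IsOpenEmbedding (j.base ∘ f.base) := (f ≫ j).isOpenEmbedding
  have hj : Topology.IsClosedEmbedding j.base := j.isClosedEmbedding
  have hopen : Topology.IsOpenEmbedding f.base := by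
    refine ⟨Topology.IsEmbedding.of_comp f.continuous j.continuous hfj.isEmbedding, ?_⟩
    have h1 : Set.range f.base = j.base ⁻¹' Set.range (j.base ∘ f.base) := by
      ext x
      constructor
      · rintro ⟨y, rfl⟩; exact ⟨y, rfl⟩
      · rintro ⟨y, hy⟩; exact ⟨y, hj.injective hy⟩
    rw [h1]
    exact hfj.isOpen_range.preimage j.continuous
  haveI : ∀ x, IsIso (f.stalkMap x) := by
    intro x
    haveI h1 : IsIso (j.stalkMap (f x) ≫ f.stalkMap x) := by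
      rw [← Scheme.Hom.stalkMap_comp]
      infer_instance
    have hsurj : Function.Surjective (j.stalkMap (f x)) := j.stalkMap_surjective _
    have hinj : Function.Injective (j.stalkMap (f x)) := by
      have h2 : Function.Injective (j.stalkMap (f x) ≫ f.stalkMap x) :=
        (ConcreteCategory.bijective_of_isIso _).1
      exact Function.Injective.of_comp (f := f.stalkMap x) h2
    haveI : IsIso (j.stalkMap (f x)) :=
      (ConcreteCategory.isIso_iff_bijective _).mpr ⟨hinj, hsurj⟩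
    exact IsIso.of_isIso_comp_left (j.stalkMap (f x)) (f.stalkMap x)
  exact IsOpenImmersion.of_isIso_stalkMap f hopen

theorem isDominant_spec_of_injective {R S : CommRingCat.{u}} (φ : R ⟶ S)
    (h : Function.Injective φ.hom) : IsDominant (Spec.map φ) where
  denseRange := (PrimeSpectrum.denseRange_comap_iff_ker_le_nilRadical φ.hom).mpr (by
    rw [(RingHom.injective_iff_ker_eq_bot _).mp h]; exact bot_le)

end Top

section VU

variable {Y X : Scheme.{u}} {q : X ⟶ Y} {𝒮 𝒯 : RelProj.QCGrAlg Y} {𝒮L : RelProj.QCGrAlg X}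
  (u : RelProj.QGrHom q 𝒮 𝒮L) (v : 𝒯.toQCAlg ⟶ 𝒮.toQCAlg) (hv : RelProj.IsGradedHom v)
  (u' : RelProj.QGrHom q 𝒯 𝒮L) (hu' : ∀ U : Y.Opens, u'.app U = v.hom.app (op U) ≫ u.app U)

include hu' in
theorem hcomp_left (U : Y.Opens) (hU : IsAffineOpen U) (U' : Y.Opens) (hU' : IsAffineOpen U')
    (hle : U' ≤ (𝟙 Y) ⁻¹ᵁ U) (U'' : X.Opens) (hU'' : IsAffineOpen U'') (hle' : U'' ≤ q ⁻¹ᵁ U')
    (hle'' : U'' ≤ q ⁻¹ᵁ U) (a : 𝒯.presheaf.obj (op U)) :
    u'.gradedAt U hU U'' hU'' hle'' a =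
      u.gradedAt U' hU' U'' hU'' hle' ((RelProj.QGrHom.ofHom v hv).gradedAt U hU U' hU' hle a) := by
  have hUU : U' ≤ U := hle
  have e1 : 𝒮.presheaf.map (homOfLE hUU).op ≫ u.appLE U' U'' hle' =
      u.appLE U U'' (hle'.trans (q.preimage_mono hUU)) := u.map_appLE hUU hle'
  have e2 : u'.appLE U U'' hle'' = v.hom.app (op U) ≫ u.appLE U U'' hle'' := by
    rw [RelSpec.QHom.appLE_eq, RelSpec.QHom.appLE_eq, hu' U, Category.assoc]
  have e3 := congrArg (fun t : 𝒯.presheaf.obj (op U) ⟶ 𝒮L.presheaf.obj (op U'') => t.hom a) e2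
  have e4 := congrArg (fun t : 𝒮.presheaf.obj (op U) ⟶ 𝒮L.presheaf.obj (op U'') =>
    t.hom ((v.hom.app (op U)).hom a)) e1
  exact e3.trans e4.symm

variable {P : Scheme.{u}} (p : P ⟶ Y)
  (chart : ∀ (U : Y.Opens) (hU : IsAffineOpen U),
    (((p ⁻¹ᵁ U : P.Opens) : Scheme.{u}) ≅ Proj (𝒮.deg U hU)))
  {PL : Scheme.{u}} (pL : PL ⟶ X)
  (chartL : ∀ (U : X.Opens) (hU : IsAffineOpen U),
    (((pL ⁻¹ᵁ U : PL.Opens) : Scheme.{u}) ≅ Proj (𝒮L.deg U hU)))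
  {P' : Scheme.{u}} (p' : P' ⟶ Y)
  (chart' : ∀ (U : Y.Opens) (hU : IsAffineOpen U),
    (((p' ⁻¹ᵁ U : P'.Opens) : Scheme.{u}) ≅ Proj (𝒯.deg U hU)))

include hu' hv in
theorem domQ_le (hPL : RelProj.IsRelProj 𝒮L pL chartL) :
    RelProj.domQ u' pL chartL ≤ RelProj.domQ u pL chartL :=
  domQ_comp_le (RelProj.QGrHom.ofHom v hv) u u' (Category.comp_id q).symm
    (hcomp_left u v hv u' hu') pL chartL hPL

variable (r : ((RelProj.domQ u pL chartL : PL.Opens) : Scheme.{u}) ⟶ P)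
  (hr : ∀ (U : Y.Opens) (hU : IsAffineOpen U) (U' : X.Opens) (hU' : IsAffineOpen U')
    (hle : U' ≤ q ⁻¹ᵁ U) (d : ℕ) (hd : 0 < d) (f : 𝒮.presheaf.obj (op U))
    (hf : f ∈ 𝒮.deg U hU d),
    aq u pL chartL U hU U' hU' hle hd f hf ≫ r = gq u p chart U hU U' hU' hle hd f hf)
  (r' : ((RelProj.domQ u' pL chartL : PL.Opens) : Scheme.{u}) ⟶ P')
  (hr' : ∀ (U : Y.Opens) (hU : IsAffineOpen U) (U' : X.Opens) (hU' : IsAffineOpen U')
    (hle : U' ≤ q ⁻¹ᵁ U) (d : ℕ) (hd : 0 < d) (f : 𝒯.presheaf.obj (op U))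
    (hf : f ∈ 𝒯.deg U hU d),
    aq u' pL chartL U hU U' hU' hle hd f hf ≫ r' = gq u' p' chart' U hU U' hU' hle hd f hf)
  (Φ₁ : ((RelProj.domQ (RelProj.QGrHom.ofHom v hv) p chart : P.Opens) : Scheme.{u}) ⟶ P')
  (hΦ₁ : ∀ (U : Y.Opens) (hU : IsAffineOpen U) (U' : Y.Opens) (hU' : IsAffineOpen U')
    (hle : U' ≤ (𝟙 Y) ⁻¹ᵁ U) (d : ℕ) (hd : 0 < d) (f : 𝒯.presheaf.obj (op U))
    (hf : f ∈ 𝒯.deg U hU d),
    aq (RelProj.QGrHom.ofHom v hv) p chart U hU U' hU' hle hd f hf ≫ Φ₁ =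
      gq (RelProj.QGrHom.ofHom v hv) p' chart' U hU U' hU' hle hd f hf)

include hu' hr hr' hΦ₁ in
theorem exists_factor (hP : RelProj.IsRelProj 𝒮 p chart) (hPL : RelProj.IsRelProj 𝒮L pL chartL)
    (hle32 : RelProj.domQ u' pL chartL ≤ RelProj.domQ u pL chartL) :
    ∃ e₁ : ((RelProj.domQ u' pL chartL : PL.Opens) : Scheme.{u}) ⟶
        ((RelProj.domQ (RelProj.QGrHom.ofHom v hv) p chart : P.Opens) : Scheme.{u}),
      e₁ ≫ (RelProj.domQ (RelProj.QGrHom.ofHom v hv) p chart).ι = PL.homOfLE hle32 ≫ r ∧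
        r' = e₁ ≫ Φ₁ := by
  have he₂ : PL.homOfLE hle32 ≫ (RelProj.domQ u pL chartL).ι = (RelProj.domQ u' pL chartL).ι :=
    PL.homOfLE_ι hle32
  have hrange : Set.range (PL.homOfLE hle32 ≫ r).base ⊆
      Set.range (RelProj.domQ (RelProj.QGrHom.ofHom v hv) p chart).ι.base := by
    rw [Scheme.Opens.range_ι]
    rintro _ ⟨s, rfl⟩
    refine (mem_domQ_comp_iff (RelProj.QGrHom.ofHom v hv) u u' (Category.comp_id q).symm
      (hcomp_left u v hv u' hu') p chart pL chartL hP hPL r hr ((PL.homOfLE hle32).base s)).mp ?_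
    have h1 := congrArg (fun m : ((RelProj.domQ u' pL chartL : PL.Opens) : Scheme.{u}) ⟶ PL =>
      m.base s) he₂
    have h2 : (RelProj.domQ u pL chartL).ι.base ((PL.homOfLE hle32).base s) =
        (RelProj.domQ u' pL chartL).ι.base s := h1
    rw [h2]
    exact mem_domQ_of_ι u' pL chartL s
  refine ⟨IsOpenImmersion.lift (RelProj.domQ (RelProj.QGrHom.ofHom v hv) p chart).ι
    (PL.homOfLE hle32 ≫ r) hrange, IsOpenImmersion.lift_fac _ _ _, ?_⟩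
  have key := comp_eq (RelProj.QGrHom.ofHom v hv) u u' (Category.comp_id q).symm
    (hcomp_left u v hv u' hu') p' chart' p chart pL chartL hPL Φ₁ hΦ₁ r hr r' hr'
    (𝟙 _) (PL.homOfLE hle32)
    (IsOpenImmersion.lift (RelProj.domQ (RelProj.QGrHom.ofHom v hv) p chart).ι
      (PL.homOfLE hle32 ≫ r) hrange)
    (by rw [Category.id_comp, he₂]) (IsOpenImmersion.lift_fac _ _ _).symm
  rwa [Category.id_comp] at key

end VU

theorem main_S12147 {Y X P PL : Scheme.{u}} (q : X ⟶ Y)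
    (L : X.Modules) (hL : PicF.IsInvertible L) (hLq : Coh.IsQCoh L)
    (𝒮 : RelProj.QCGrAlg Y) (𝒮L : RelProj.QCGrAlg X) (j : L ⟶ 𝒮L.toModule) (hj : RelProj.IsGrSymAlg L 𝒮L j)
    (u : RelProj.QGrHom q 𝒮 𝒮L)
    (p : P ⟶ Y) (chart : ∀ (U : Y.Opens) (hU : IsAffineOpen U), (((p ⁻¹ᵁ U : P.Opens) : Scheme.{u}) ≅ Proj (𝒮.deg U hU)))
    (hP : RelProj.IsRelProj 𝒮 p chart)
    (pL : PL ⟶ X) (chartL : ∀ (U : X.Opens) (hU : IsAffineOpen U), (((pL ⁻¹ᵁ U : PL.Opens) : Scheme.{u}) ≅ Proj (𝒮L.deg U hU)))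
    (hPL : RelProj.IsRelProj 𝒮L pL chartL)
    (𝒯 : RelProj.QCGrAlg Y) (v : 𝒯.toQCAlg ⟶ 𝒮.toQCAlg) (hv : RelProj.IsGradedHom v)
    (u' : RelProj.QGrHom q 𝒯 𝒮L) (hu' : ∀ U : Y.Opens, u'.app U = v.hom.app (op U) ≫ u.app U) :
    RelProj.domQ u' pL chartL ≤ RelProj.domQ u pL chartL := by
  exact domQ_le u v hv u' hu' pL chartL hPL

theorem main_S12148 {Y X P PL P' : Scheme.{u}} (q : X ⟶ Y)
    (L : X.Modules) (hL : PicF.IsInvertible L) (hLq : Coh.IsQCoh L)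
    (𝒮 : RelProj.QCGrAlg Y) (𝒮L : RelProj.QCGrAlg X) (j : L ⟶ 𝒮L.toModule) (hj : RelProj.IsGrSymAlg L 𝒮L j)
    (u : RelProj.QGrHom q 𝒮 𝒮L)
    (p : P ⟶ Y) (chart : ∀ (U : Y.Opens) (hU : IsAffineOpen U), (((p ⁻¹ᵁ U : P.Opens) : Scheme.{u}) ≅ Proj (𝒮.deg U hU)))
    (hP : RelProj.IsRelProj 𝒮 p chart)
    (pL : PL ⟶ X) (chartL : ∀ (U : X.Opens) (hU : IsAffineOpen U), (((pL ⁻¹ᵁ U : PL.Opens) : Scheme.{u}) ≅ Proj (𝒮L.deg U hU)))
    (hPL : RelProj.IsRelProj 𝒮L pL chartL)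
    (r : ((RelProj.domQ u pL chartL : PL.Opens) : Scheme.{u}) ⟶ P)
    (hr : RelProj.IsProjQMapOn u p chart pL chartL (RelProj.domQ u pL chartL) r)
    (𝒯 : RelProj.QCGrAlg Y) (v : 𝒯.toQCAlg ⟶ 𝒮.toQCAlg) (hv : RelProj.IsGradedHom v)
    (u' : RelProj.QGrHom q 𝒯 𝒮L) (hu' : ∀ U : Y.Opens, u'.app U = v.hom.app (op U) ≫ u.app U)
    (p' : P' ⟶ Y) (chart' : ∀ (U : Y.Opens) (hU : IsAffineOpen U), (((p' ⁻¹ᵁ U : P'.Opens) : Scheme.{u}) ≅ Proj (𝒯.deg U hU)))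
    (hP' : RelProj.IsRelProj 𝒯 p' chart')
    (r' : ((RelProj.domQ u' pL chartL : PL.Opens) : Scheme.{u}) ⟶ P')
    (hr' : RelProj.IsProjQMapOn u' p' chart' pL chartL (RelProj.domQ u' pL chartL) r')
    (hTN : ∃ n : ℕ, ∀ k, n ≤ k → ∀ (U : Y.Opens) (hU : IsAffineOpen U), ∀ y ∈ 𝒮.deg U hU k,
      ∃ x ∈ 𝒯.deg U hU k, (v.hom.app (op U)).hom x = y) (hdom : IsDominant r') :
    IsDominant r := by
  obtain ⟨n, hn⟩ := hTN
  have hr₀ := (isProjQMapOn_iff u p chart pL chartL r).mp hr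
  have hr'₀ := (isProjQMapOn_iff u' p' chart' pL chartL r').mp hr'
  obtain ⟨Φ₁, hΦ₁⟩ := exists_v (RelProj.QGrHom.ofHom v hv) p' chart' p chart hP' hP
  have hG₁ : RelProj.domQ (RelProj.QGrHom.ofHom v hv) p chart = ⊤ :=
    domQ_eq_top_of_tn v hv p chart hP n hn
  have hcl : IsClosedImmersion Φ₁ :=
    prop_of_charts (Pr := @IsClosedImmersion) v hv p' chart' p chart Φ₁ hΦ₁ hP' hP
      (fun U hU hle d hd f hf => IsClosedImmersion.spec_of_surjective _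
        (awayMap_surjective_of_tn _ n (fun k hk y hy => by
          obtain ⟨x, hx, hxy⟩ := hn k hk U hU y hy
          exact ⟨x, hx, (gradedAt_ofHom v hv U hU hle x).trans hxy⟩) hd f hf))
  have hle32 := domQ_le u v hv u' hu' pL chartL hPL
  obtain ⟨e₁, he₁, hfac⟩ := exists_factor u v hv u' hu' p chart pL chartL p' chart' r hr₀ r' hr'₀
    Φ₁ hΦ₁ hP hPL hle32
  haveI hde₁ : IsDominant e₁ := by
    constructor
    have hd' : DenseRange (e₁ ≫ Φ₁).base := by rw [← hfac]; exact hdom.denseRange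
    have hind : Topology.IsInducing Φ₁.base := Φ₁.isClosedEmbedding.isInducing
    show Dense (Set.range e₁.base)
    rw [hind.dense_iff]
    intro x
    rw [← Set.range_comp]
    exact hd' (Φ₁.base x)
  haveI := isIso_ι_of_eq_top _ hG₁
  haveI : IsDominant (PL.homOfLE hle32 ≫ r) := by rw [← he₁]; infer_instance
  exact IsDominant.of_comp (f := PL.homOfLE hle32) (g := r)

theorem main_S12149 {Y X P PL P' : Scheme.{u}} (q : X ⟶ Y)
    (L : X.Modules) (hL : PicF.IsInvertible L) (hLq : Coh.IsQCoh L)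
    (𝒮 : RelProj.QCGrAlg Y) (𝒮L : RelProj.QCGrAlg X) (j : L ⟶ 𝒮L.toModule) (hj : RelProj.IsGrSymAlg L 𝒮L j)
    (u : RelProj.QGrHom q 𝒮 𝒮L)
    (p : P ⟶ Y) (chart : ∀ (U : Y.Opens) (hU : IsAffineOpen U), (((p ⁻¹ᵁ U : P.Opens) : Scheme.{u}) ≅ Proj (𝒮.deg U hU)))
    (hP : RelProj.IsRelProj 𝒮 p chart)
    (pL : PL ⟶ X) (chartL : ∀ (U : X.Opens) (hU : IsAffineOpen U), (((pL ⁻¹ᵁ U : PL.Opens) : Scheme.{u}) ≅ Proj (𝒮L.deg U hU)))
    (hPL : RelProj.IsRelProj 𝒮L pL chartL)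
    (r : ((RelProj.domQ u pL chartL : PL.Opens) : Scheme.{u}) ⟶ P)
    (hr : RelProj.IsProjQMapOn u p chart pL chartL (RelProj.domQ u pL chartL) r)
    (𝒯 : RelProj.QCGrAlg Y) (v : 𝒯.toQCAlg ⟶ 𝒮.toQCAlg) (hv : RelProj.IsGradedHom v)
    (u' : RelProj.QGrHom q 𝒯 𝒮L) (hu' : ∀ U : Y.Opens, u'.app U = v.hom.app (op U) ≫ u.app U)
    (p' : P' ⟶ Y) (chart' : ∀ (U : Y.Opens) (hU : IsAffineOpen U), (((p' ⁻¹ᵁ U : P'.Opens) : Scheme.{u}) ≅ Proj (𝒯.deg U hU)))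
    (hP' : RelProj.IsRelProj 𝒯 p' chart')
    (r' : ((RelProj.domQ u' pL chartL : PL.Opens) : Scheme.{u}) ⟶ P')
    (hr' : RelProj.IsProjQMapOn u' p' chart' pL chartL (RelProj.domQ u' pL chartL) r')
    (hTN : ∃ n : ℕ, ∀ k, n ≤ k → ∀ (U : Y.Opens) (hU : IsAffineOpen U), ∀ x ∈ 𝒯.deg U hU k,
      (v.hom.app (op U)).hom x = 0 → x = 0) (hdom : IsDominant r) :
    IsDominant r' := by
  obtain ⟨n, hn⟩ := hTN
  have hr₀ := (isProjQMapOn_iff u p chart pL chartL r).mp hr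
  have hr'₀ := (isProjQMapOn_iff u' p' chart' pL chartL r').mp hr'
  obtain ⟨Φ₁, hΦ₁⟩ := exists_v (RelProj.QGrHom.ofHom v hv) p' chart' p chart hP' hP
  haveI hdΦ : IsDominant Φ₁ :=
    prop_of_charts (Pr := @IsDominant) v hv p' chart' p chart Φ₁ hΦ₁ hP' hP
      (fun U hU hle d hd f hf => isDominant_spec_of_injective _
        (awayMap_injective_of_tn _ n (fun k hk x hx hx0 =>
          hn k hk U hU x hx ((gradedAt_ofHom v hv U hU hle x).symm.trans hx0)) hd f hf))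
  have hrange : Set.range ((r ⁻¹ᵁ RelProj.domQ (RelProj.QGrHom.ofHom v hv) p chart).ι ≫
      (RelProj.domQ u pL chartL).ι).base ⊆ Set.range (RelProj.domQ u' pL chartL).ι.base := by
    rw [Scheme.Opens.range_ι]
    rintro _ ⟨s, rfl⟩
    have hs : r.base ((r ⁻¹ᵁ RelProj.domQ (RelProj.QGrHom.ofHom v hv) p chart).ι.base s) ∈
        RelProj.domQ (RelProj.QGrHom.ofHom v hv) p chart := by
      have h1 : (r ⁻¹ᵁ RelProj.domQ (RelProj.QGrHom.ofHom v hv) p chart).ι.base s ∈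
          Set.range (r ⁻¹ᵁ RelProj.domQ (RelProj.QGrHom.ofHom v hv) p chart).ι.base := ⟨s, rfl⟩
      rw [Scheme.Opens.range_ι] at h1
      exact h1
    exact (mem_domQ_comp_iff (RelProj.QGrHom.ofHom v hv) u u' (Category.comp_id q).symm
      (hcomp_left u v hv u' hu') p chart pL chartL hP hPL r hr₀
      ((r ⁻¹ᵁ RelProj.domQ (RelProj.QGrHom.ofHom v hv) p chart).ι.base s)).mpr hs
  have hfac := comp_eq (RelProj.QGrHom.ofHom v hv) u u' (Category.comp_id q).symm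
    (hcomp_left u v hv u' hu') p' chart' p chart pL chartL hPL Φ₁ hΦ₁ r hr₀ r' hr'₀
    (IsOpenImmersion.lift (RelProj.domQ u' pL chartL).ι
      ((r ⁻¹ᵁ RelProj.domQ (RelProj.QGrHom.ofHom v hv) p chart).ι ≫
        (RelProj.domQ u pL chartL).ι) hrange)
    (r ⁻¹ᵁ RelProj.domQ (RelProj.QGrHom.ofHom v hv) p chart).ι
    (r ∣_ RelProj.domQ (RelProj.QGrHom.ofHom v hv) p chart)
    (IsOpenImmersion.lift_fac _ _ _)
    (morphismRestrict_ι r (RelProj.domQ (RelProj.QGrHom.ofHom v hv) p chart)).symm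
  haveI : IsDominant (r ∣_ RelProj.domQ (RelProj.QGrHom.ofHom v hv) p chart) :=
    IsZariskiLocalAtTarget.restrict hdom _
  haveI : IsDominant ((IsOpenImmersion.lift (RelProj.domQ u' pL chartL).ι
      ((r ⁻¹ᵁ RelProj.domQ (RelProj.QGrHom.ofHom v hv) p chart).ι ≫
        (RelProj.domQ u pL chartL).ι) hrange) ≫ r') := by rw [hfac]; infer_instance
  exact IsDominant.of_comp (f := IsOpenImmersion.lift (RelProj.domQ u' pL chartL).ι
      ((r ⁻¹ᵁ RelProj.domQ (RelProj.QGrHom.ofHom v hv) p chart).ι ≫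
        (RelProj.domQ u pL chartL).ι) hrange) (g := r')

theorem main_S12153 {Y X P PL P' : Scheme.{u}} (q : X ⟶ Y)
    (L : X.Modules) (hL : PicF.IsInvertible L) (hLq : Coh.IsQCoh L)
    (𝒮 : RelProj.QCGrAlg Y) (𝒮L : RelProj.QCGrAlg X) (j : L ⟶ 𝒮L.toModule) (hj : RelProj.IsGrSymAlg L 𝒮L j)
    (u : RelProj.QGrHom q 𝒮 𝒮L)
    (p : P ⟶ Y) (chart : ∀ (U : Y.Opens) (hU : IsAffineOpen U), (((p ⁻¹ᵁ U : P.Opens) : Scheme.{u}) ≅ Proj (𝒮.deg U hU)))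
    (hP : RelProj.IsRelProj 𝒮 p chart)
    (pL : PL ⟶ X) (chartL : ∀ (U : X.Opens) (hU : IsAffineOpen U), (((pL ⁻¹ᵁ U : PL.Opens) : Scheme.{u}) ≅ Proj (𝒮L.deg U hU)))
    (hPL : RelProj.IsRelProj 𝒮L pL chartL)
    (r : ((RelProj.domQ u pL chartL : PL.Opens) : Scheme.{u}) ⟶ P)
    (hr : RelProj.IsProjQMapOn u p chart pL chartL (RelProj.domQ u pL chartL) r)
    (𝒯 : RelProj.QCGrAlg Y) (v : 𝒯.toQCAlg ⟶ 𝒮.toQCAlg) (hv : RelProj.IsGradedHom v)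
    (u' : RelProj.QGrHom q 𝒯 𝒮L) (hu' : ∀ U : Y.Opens, u'.app U = v.hom.app (op U) ≫ u.app U)
    (p' : P' ⟶ Y) (chart' : ∀ (U : Y.Opens) (hU : IsAffineOpen U), (((p' ⁻¹ᵁ U : P'.Opens) : Scheme.{u}) ≅ Proj (𝒯.deg U hU)))
    (hP' : RelProj.IsRelProj 𝒯 p' chart')
    (r' : ((RelProj.domQ u' pL chartL : PL.Opens) : Scheme.{u}) ⟶ P')
    (hr' : RelProj.IsProjQMapOn u' p' chart' pL chartL (RelProj.domQ u' pL chartL) r')
    (hdef : RelProj.domQ u' pL chartL = ⊤) (himm : IsImmersion r') :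
    RelProj.domQ u pL chartL = ⊤ ∧ IsImmersion r := by
  have hr₀ := (isProjQMapOn_iff u p chart pL chartL r).mp hr
  have hr'₀ := (isProjQMapOn_iff u' p' chart' pL chartL r').mp hr'
  obtain ⟨Φ₁, hΦ₁⟩ := exists_v (RelProj.QGrHom.ofHom v hv) p' chart' p chart hP' hP
  have hle32 := domQ_le u v hv u' hu' pL chartL hPL
  have hG₂ : RelProj.domQ u pL chartL = ⊤ := by
    rw [eq_top_iff, ← hdef]; exact hle32
  refine ⟨hG₂, ?_⟩
  obtain ⟨e₁, he₁, hfac⟩ := exists_factor u v hv u' hu' p chart pL chartL p' chart' r hr₀ r' hr'₀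
    Φ₁ hΦ₁ hP hPL hle32
  have he₂ : PL.homOfLE hle32 ≫ (RelProj.domQ u pL chartL).ι = (RelProj.domQ u' pL chartL).ι :=
    PL.homOfLE_ι hle32
  haveI h3 : IsIso (RelProj.domQ u' pL chartL).ι := isIso_ι_of_eq_top _ hdef
  haveI h2 : IsIso (RelProj.domQ u pL chartL).ι := isIso_ι_of_eq_top _ hG₂
  haveI : IsIso (PL.homOfLE hle32 ≫ (RelProj.domQ u pL chartL).ι) := by rw [he₂]; exact h3
  haveI he₂iso : IsIso (PL.homOfLE hle32) :=
    IsIso.of_isIso_comp_right (PL.homOfLE hle32) (RelProj.domQ u pL chartL).ι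
  haveI : IsImmersion (e₁ ≫ Φ₁) := hfac ▸ himm
  haveI : IsImmersion e₁ := IsImmersion.of_comp e₁ Φ₁
  haveI : IsImmersion (PL.homOfLE hle32 ≫ r) := by rw [← he₁]; infer_instance
  have hreq : r = inv (PL.homOfLE hle32) ≫ (PL.homOfLE hle32 ≫ r) := by
    rw [IsIso.inv_hom_id_assoc]
  rw [hreq]; infer_instance

theorem main_S12154 {Y X P PL P' : Scheme.{u}} (q : X ⟶ Y)
    (L : X.Modules) (hL : PicF.IsInvertible L) (hLq : Coh.IsQCoh L)
    (𝒮 : RelProj.QCGrAlg Y) (𝒮L : RelProj.QCGrAlg X) (j : L ⟶ 𝒮L.toModule) (hj : RelProj.IsGrSymAlg L 𝒮L j)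
    (u : RelProj.QGrHom q 𝒮 𝒮L)
    (p : P ⟶ Y) (chart : ∀ (U : Y.Opens) (hU : IsAffineOpen U), (((p ⁻¹ᵁ U : P.Opens) : Scheme.{u}) ≅ Proj (𝒮.deg U hU)))
    (hP : RelProj.IsRelProj 𝒮 p chart)
    (pL : PL ⟶ X) (chartL : ∀ (U : X.Opens) (hU : IsAffineOpen U), (((pL ⁻¹ᵁ U : PL.Opens) : Scheme.{u}) ≅ Proj (𝒮L.deg U hU)))
    (hPL : RelProj.IsRelProj 𝒮L pL chartL)
    (r : ((RelProj.domQ u pL chartL : PL.Opens) : Scheme.{u}) ⟶ P)
    (hr : RelProj.IsProjQMapOn u p chart pL chartL (RelProj.domQ u pL chartL) r)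
    (𝒯 : RelProj.QCGrAlg Y) (v : 𝒯.toQCAlg ⟶ 𝒮.toQCAlg) (hv : RelProj.IsGradedHom v)
    (u' : RelProj.QGrHom q 𝒯 𝒮L) (hu' : ∀ U : Y.Opens, u'.app U = v.hom.app (op U) ≫ u.app U)
    (p' : P' ⟶ Y) (chart' : ∀ (U : Y.Opens) (hU : IsAffineOpen U), (((p' ⁻¹ᵁ U : P'.Opens) : Scheme.{u}) ≅ Proj (𝒯.deg U hU)))
    (hP' : RelProj.IsRelProj 𝒯 p' chart')
    (r' : ((RelProj.domQ u' pL chartL : PL.Opens) : Scheme.{u}) ⟶ P')
    (hr' : RelProj.IsProjQMapOn u' p' chart' pL chartL (RelProj.domQ u' pL chartL) r')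
    (hTN : ∃ n : ℕ, ∀ k, n ≤ k → ∀ (U : Y.Opens) (hU : IsAffineOpen U), ∀ y ∈ 𝒮.deg U hU k,
      ∃ x ∈ 𝒯.deg U hU k, (v.hom.app (op U)).hom x = y)
    (hdef : RelProj.domQ u' pL chartL = ⊤) :
    (IsOpenImmersion r' → IsOpenImmersion r) ∧ (IsClosedImmersion r' → IsClosedImmersion r) := by
  obtain ⟨n, hn⟩ := hTN
  have hr₀ := (isProjQMapOn_iff u p chart pL chartL r).mp hr
  have hr'₀ := (isProjQMapOn_iff u' p' chart' pL chartL r').mp hr'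
  obtain ⟨Φ₁, hΦ₁⟩ := exists_v (RelProj.QGrHom.ofHom v hv) p' chart' p chart hP' hP
  have hG₁ : RelProj.domQ (RelProj.QGrHom.ofHom v hv) p chart = ⊤ :=
    domQ_eq_top_of_tn v hv p chart hP n hn
  haveI hcl : IsClosedImmersion Φ₁ :=
    prop_of_charts (Pr := @IsClosedImmersion) v hv p' chart' p chart Φ₁ hΦ₁ hP' hP
      (fun U hU hle d hd f hf => IsClosedImmersion.spec_of_surjective _
        (awayMap_surjective_of_tn _ n (fun k hk y hy => by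
          obtain ⟨x, hx, hxy⟩ := hn k hk U hU y hy
          exact ⟨x, hx, (gradedAt_ofHom v hv U hU hle x).trans hxy⟩) hd f hf))
  have hle32 := domQ_le u v hv u' hu' pL chartL hPL
  have hG₂ : RelProj.domQ u pL chartL = ⊤ := by
    rw [eq_top_iff, ← hdef]; exact hle32
  obtain ⟨e₁, he₁, hfac⟩ := exists_factor u v hv u' hu' p chart pL chartL p' chart' r hr₀ r' hr'₀
    Φ₁ hΦ₁ hP hPL hle32
  have he₂ : PL.homOfLE hle32 ≫ (RelProj.domQ u pL chartL).ι = (RelProj.domQ u' pL chartL).ι :=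
    PL.homOfLE_ι hle32
  haveI h3 : IsIso (RelProj.domQ u' pL chartL).ι := isIso_ι_of_eq_top _ hdef
  haveI h2 : IsIso (RelProj.domQ u pL chartL).ι := isIso_ι_of_eq_top _ hG₂
  haveI h1 : IsIso (RelProj.domQ (RelProj.QGrHom.ofHom v hv) p chart).ι :=
    isIso_ι_of_eq_top _ hG₁
  haveI : IsIso (PL.homOfLE hle32 ≫ (RelProj.domQ u pL chartL).ι) := by rw [he₂]; exact h3
  haveI he₂iso : IsIso (PL.homOfLE hle32) :=
    IsIso.of_isIso_comp_right (PL.homOfLE hle32) (RelProj.domQ u pL chartL).ι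
  have hreq : r = inv (PL.homOfLE hle32) ≫
      e₁ ≫ (RelProj.domQ (RelProj.QGrHom.ofHom v hv) p chart).ι := by
    rw [he₁, IsIso.inv_hom_id_assoc]
  constructor
  · intro h
    haveI : IsOpenImmersion (e₁ ≫ Φ₁) := hfac ▸ h
    haveI : IsOpenImmersion e₁ := isOpenImmersion_of_comp_closedImmersion e₁ Φ₁
    rw [hreq]; infer_instance
  · intro h
    haveI : IsClosedImmersion (e₁ ≫ Φ₁) := hfac ▸ h
    haveI : IsClosedImmersion e₁ := IsClosedImmersion.of_comp_isClosedImmersion e₁ Φ₁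
    rw [hreq]; infer_instance

end Groth.Agent.H4.ProjQ5
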