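import Groth.Agent.H4.ProjQ5

set_option autoImplicit false

namespace Groth.Agent.H4.ProjQ6

open CategoryTheory CategoryTheory.Limits AlgebraicGeometry TopologicalSpace Opposite
open HomogeneousLocalization
open Groth.Agent.H4 Groth.Agent.H4.RelSpecLib Groth.Agent.H4.ConeImm Groth.Agent.H4.ConeInf
open Groth.Agent.H4.ConeRetrAlg Groth.Agent.H4.ConeRetr Groth.Agent.H4.ConeRetr2
open Groth.Agent.H4.ProjQ Groth.Agent.H4.ProjQ2 Groth.Agent.H4.ProjQ4 Groth.Agent.H4.ProjQ5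
open scoped HomogeneousIdeal

universe u

section Ring

variable {A B : Type u} [CommRing A] [CommRing B] {𝒜 : ℕ → AddSubgroup A} {ℬ : ℕ → AddSubgroup B}
  [GradedRing 𝒜] [GradedRing ℬ] (ι : 𝒜 →+*ᵍ ℬ) (z : B) (hz : z ∈ ℬ 1)

include hz in
theorem z_or_ι_notMem
    (hsurj : Function.Surjective (Polynomial.eval₂RingHom ι.toRingHom z)) (I : Ideal B) {n : ℕ}
    {y : B} (hy : y ∈ ℬ n) (hyI : y ∉ I) : z ∉ I ∨ ∃ a ∈ 𝒜 n, ι a ∉ I := by
  by_contra hcon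
  push Not at hcon
  obtain ⟨hzI, haI⟩ := hcon
  apply hyI
  obtain ⟨p, rfl⟩ := hsurj y
  rw [Polynomial.coe_eval₂RingHom] at hy ⊢
  rw [ConeAlg.eq_sum_of_mem ι z hz p n hy]
  refine Ideal.sum_mem _ fun j _ => ?_
  rcases Nat.eq_zero_or_pos j with rfl | hj
  · rw [pow_zero, mul_one, Nat.sub_zero]
    exact haI _ (ConeAlg.proj_mem 𝒜 n _)
  · apply Ideal.mul_mem_left
    exact Ideal.pow_mem_of_mem _ hzI j hj

end Ring

section Constr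

variable {Y Y' : Scheme.{u}} {g : Y' ⟶ Y}

/-- precompose a graded `g`-morphism with a graded homomorphism on the base -/
def ofHomComp {𝒜 ℬ : RelProj.QCGrAlg Y} {𝒞 : RelProj.QCGrAlg Y'} (φ : 𝒜.toQCAlg ⟶ ℬ.toQCAlg)
    (hφ : RelProj.IsGradedHom φ) (w : RelProj.QGrHom g ℬ 𝒞) : RelProj.QGrHom g 𝒜 𝒞 where
  app U := φ.hom.app (op U) ≫ w.app U
  naturality {U V} i := by
    rw [Category.assoc, w.naturality i, ← Category.assoc, ← φ.hom.naturality, Category.assoc]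
  str_app U := by
    have h1 : 𝒜.str.app (op U) ≫ φ.hom.app (op U) = ℬ.str.app (op U) := by
      rw [← NatTrans.comp_app, φ.comm]
    rw [← Category.assoc, h1, w.str_app]
  map_mem U hU U' hU' hle d x hx := w.map_mem U hU U' hU' hle (hφ U hU _ x hx)

theorem hcomp_right {𝒜 : RelProj.QCGrAlg Y} {ℬ 𝒞 : RelProj.QCGrAlg Y'}
    (w : RelProj.QGrHom g 𝒜 ℬ) (φ : ℬ.toQCAlg ⟶ 𝒞.toQCAlg) (hφ : RelProj.IsGradedHom φ)
    (c : RelProj.QGrHom g 𝒜 𝒞)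
    (hc : ∀ U : Y.Opens, c.app U = w.app U ≫ φ.hom.app (op (g ⁻¹ᵁ U)))
    (U : Y.Opens) (hU : IsAffineOpen U) (U' : Y'.Opens) (hU' : IsAffineOpen U')
    (hle : U' ≤ g ⁻¹ᵁ U) (U'' : Y'.Opens) (hU'' : IsAffineOpen U'')
    (hle' : U'' ≤ (𝟙 Y') ⁻¹ᵁ U') (hle'' : U'' ≤ g ⁻¹ᵁ U) (a : 𝒜.presheaf.obj (op U)) :
    c.gradedAt U hU U'' hU'' hle'' a =
      (RelProj.QGrHom.ofHom φ hφ).gradedAt U' hU' U'' hU'' hle' (w.gradedAt U hU U' hU' hle a) := by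
  have hUU : U'' ≤ U' := hle'
  have e1 : c.appLE U U'' hle'' = w.appLE U U'' hle'' ≫ φ.hom.app (op U'') := by
    rw [RelSpec.QHom.appLE_eq, RelSpec.QHom.appLE_eq, hc U, Category.assoc, Category.assoc,
      φ.hom.naturality]
  have e2 : w.appLE U U' hle ≫ φ.hom.app (op U') ≫ 𝒞.presheaf.map (homOfLE hUU).op =
      w.appLE U U'' hle'' ≫ φ.hom.app (op U'') := by
    rw [← φ.hom.naturality (homOfLE hUU).op, ← Category.assoc, w.appLE_map hle hUU]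
  have e3 := congrArg (fun t : 𝒜.presheaf.obj (op U) ⟶ 𝒞.presheaf.obj (op U'') => t.hom a) e1
  have e4 := congrArg (fun t : 𝒜.presheaf.obj (op U) ⟶ 𝒞.presheaf.obj (op U'') => t.hom a) e2
  exact e3.trans e4.symm

theorem ι_mem {X : Scheme.{u}} (W : X.Opens) (e : ((W : X.Opens) : Scheme.{u})) :
    W.ι.base e ∈ W := by
  have h1 : W.ι.base e ∈ Set.range W.ι.base := ⟨e, rfl⟩
  rw [Scheme.Opens.range_ι] at h1
  exact h1

theorem transport_W {𝒮 : RelProj.QCGrAlg Y} {𝒮' : RelProj.QCGrAlg Y'} (u : RelProj.QGrHom g 𝒮 𝒮')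
    {P : Scheme.{u}} (p : P ⟶ Y)
    (chart : ∀ (U : Y.Opens) (hU : IsAffineOpen U),
      (((p ⁻¹ᵁ U : P.Opens) : Scheme.{u}) ≅ Proj (𝒮.deg U hU)))
    {P' : Scheme.{u}} (p' : P' ⟶ Y')
    (chart' : ∀ (U' : Y'.Opens) (hU' : IsAffineOpen U'),
      (((p' ⁻¹ᵁ U' : P'.Opens) : Scheme.{u}) ≅ Proj (𝒮'.deg U' hU')))
    (W : P'.Opens) (hW : W = RelProj.domQ u p' chart') (r : ((W : P'.Opens) : Scheme.{u}) ⟶ P)
    (hr : RelProj.IsProjQMapOn u p chart p' chart' W r) :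
    ∃ rt : ((RelProj.domQ u p' chart' : P'.Opens) : Scheme.{u}) ⟶ P,
      RelProj.IsProjQMapOn u p chart p' chart' (RelProj.domQ u p' chart') rt ∧
      ∀ {T : Scheme.{u}} (a : T ⟶ ((W : P'.Opens) : Scheme.{u}))
        (b : T ⟶ ((RelProj.domQ u p' chart' : P'.Opens) : Scheme.{u})),
        a ≫ W.ι = b ≫ (RelProj.domQ u p' chart').ι → a ≫ r = b ≫ rt := by
  subst hW
  exact ⟨r, hr, fun a b hab => by rw [(cancel_mono _).mp hab]⟩

end Constr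

section Cone

variable {Y : Scheme.{u}} {𝒮 Sh : RelProj.QCGrAlg Y} {ι : 𝒮.toQCAlg ⟶ Sh.toQCAlg}
  {z : Sh.presheaf.obj (op ⊤)} (hz : RelCone.IsPolyOver 𝒮 Sh ι z)
  {PC : Scheme.{u}} (pC : PC ⟶ Y)
  (chartC : ∀ (U : Y.Opens) (hU : IsAffineOpen U),
    (((pC ⁻¹ᵁ U : PC.Opens) : Scheme.{u}) ≅ Proj (Sh.deg U hU)))

theorem pointed_eq_domQ (hPC : RelProj.IsRelProj Sh pC chartC) :
    RelCone.pointedProjCone 𝒮 hz pC chartC =
      RelProj.domQ (RelProj.QGrHom.ofHom ι hz.graded) pC chartC := by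
  ext x
  obtain ⟨U, hU, hxU, -⟩ := Opens.isBasis_iff_nbhd.mp Y.isBasis_affineOpens
    (show pC.base x ∈ (⊤ : Y.Opens) from trivial)
  obtain ⟨w, rfl⟩ := exists_emb pC chartC x U hU hxU
  show (RelProj.emb pC chartC U hU).base w ∈ RelCone.pointedProjCone 𝒮 hz pC chartC ↔
    (RelProj.emb pC chartC U hU).base w ∈ RelProj.domQ (RelProj.QGrHom.ofHom ι hz.graded) pC chartC
  rw [mem_pointedProjCone_iff hz pC chartC hPC U hU w,
    mem_domQ_iff (RelProj.QGrHom.ofHom ι hz.graded) pC chartC hPC U hU U hU (le_id U) w,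
    mem_domOpen_ofHom ι hz.graded U hU (le_id U) w]

end Cone

section Hat

variable {Y Y' : Scheme.{u}} {q : Y' ⟶ Y} {𝒮h : RelProj.QCGrAlg Y} {𝒮h' : RelProj.QCGrAlg Y'}
  (uh : RelProj.QGrHom q 𝒮h 𝒮h') {z : 𝒮h.presheaf.obj (op ⊤)} {z' : 𝒮h'.presheaf.obj (op ⊤)}
  (huhz : (uh.app ⊤).hom z = RelCone.restrictTop 𝒮h' z' (q ⁻¹ᵁ ⊤))

include huhz in
theorem uh_z (U : Y.Opens) (hU : IsAffineOpen U) (U' : Y'.Opens) (hU' : IsAffineOpen U')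
    (hle : U' ≤ q ⁻¹ᵁ U) :
    uh.gradedAt U hU U' hU' hle (RelCone.restrictTop 𝒮h z U) = RelCone.restrictTop 𝒮h' z' U' := by
  have e1 := uh.map_appLE (le_top : U ≤ ⊤) hle
  have e2 := congrArg (fun t : 𝒮h.presheaf.obj (op ⊤) ⟶ 𝒮h'.presheaf.obj (op U') => t.hom z) e1
  have hle₂ : U' ≤ q ⁻¹ᵁ ⊤ := hle.trans (q.preimage_mono le_top)
  have h : 𝒮h'.presheaf.map (homOfLE (le_top : q ⁻¹ᵁ ⊤ ≤ ⊤)).op ≫
      𝒮h'.presheaf.map (homOfLE hle₂).op =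
      𝒮h'.presheaf.map (homOfLE (le_top : U' ≤ ⊤)).op := by
    rw [← Functor.map_comp]; rfl
  have e3 : (uh.appLE ⊤ U' hle₂).hom z = RelCone.restrictTop 𝒮h' z' U' := by
    show (𝒮h'.presheaf.map (homOfLE hle₂).op).hom ((uh.app ⊤).hom z) = _
    rw [huhz]
    exact congrArg (fun t => t.hom z') h
  exact e2.trans e3

end Hat

theorem main_S12155 {Y Y' PC PC' : Scheme.{u}} (q : Y' ⟶ Y)
    (𝒮 : RelProj.QCGrAlg Y) (𝒮' : RelProj.QCGrAlg Y') (h0 : RelCone.StrZeroBij 𝒮) (h0' : RelCone.StrZeroBij 𝒮')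
    (u : RelProj.QGrHom q 𝒮 𝒮')
    (𝒮h : RelProj.QCGrAlg Y) (ι : 𝒮.toQCAlg ⟶ 𝒮h.toQCAlg) (z : 𝒮h.presheaf.obj (op ⊤))
    (hz : RelCone.IsPolyOver 𝒮 𝒮h ι z)
    (pC : PC ⟶ Y) (chartC : ∀ (U : Y.Opens) (hU : IsAffineOpen U), (((pC ⁻¹ᵁ U : PC.Opens) : Scheme.{u}) ≅ Proj (𝒮h.deg U hU)))
    (hC : RelProj.IsRelProj 𝒮h pC chartC)
    (𝒮h' : RelProj.QCGrAlg Y') (ι' : 𝒮'.toQCAlg ⟶ 𝒮h'.toQCAlg) (z' : 𝒮h'.presheaf.obj (op ⊤))
    (hz' : RelCone.IsPolyOver 𝒮' 𝒮h' ι' z')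
    (pC' : PC' ⟶ Y') (chartC' : ∀ (U : Y'.Opens) (hU : IsAffineOpen U), (((pC' ⁻¹ᵁ U : PC'.Opens) : Scheme.{u}) ≅ Proj (𝒮h'.deg U hU)))
    (hC' : RelProj.IsRelProj 𝒮h' pC' chartC')
    (uh : RelProj.QGrHom q 𝒮h 𝒮h')
    (huh : ∀ U : Y.Opens, ι.hom.app (op U) ≫ uh.app U = u.app U ≫ ι'.hom.app (op (q ⁻¹ᵁ U)))
    (huhz : (uh.app ⊤).hom z = RelCone.restrictTop 𝒮h' z' (q ⁻¹ᵁ ⊤))
    (Φh : ((RelProj.domQ uh pC' chartC' : PC'.Opens) : Scheme.{u}) ⟶ PC)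
    (hΦh : RelProj.IsProjQMapOn uh pC chartC pC' chartC' (RelProj.domQ uh pC' chartC') Φh)
    {P' : Scheme.{u}} (p' : P' ⟶ Y') (chart' : ∀ (U : Y'.Opens) (hU : IsAffineOpen U), (((p' ⁻¹ᵁ U : P'.Opens) : Scheme.{u}) ≅ Proj (𝒮'.deg U hU)))
    (hP' : RelProj.IsRelProj 𝒮' p' chart') :
    (RelProj.domQ uh pC' chartC').ι ''ᵁ (Φh ⁻¹ᵁ RelCone.pointedProjCone 𝒮 hz pC chartC) ≤ RelCone.pointedProjCone 𝒮' hz' pC' chartC' ∧
      (RelProj.domQ u p' chart' = ⊤ →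
        RelProj.domQ uh pC' chartC' = ⊤ ∧
          (RelProj.domQ uh pC' chartC').ι ''ᵁ (Φh ⁻¹ᵁ RelCone.pointedProjCone 𝒮 hz pC chartC) = RelCone.pointedProjCone 𝒮' hz' pC' chartC') := by
  have hΦh₀ := (isProjQMapOn_iff uh pC chartC pC' chartC' Φh).mp hΦh
  have hE := pointed_eq_domQ hz pC chartC hC
  have hE' := pointed_eq_domQ hz' pC' chartC' hC'
  obtain ⟨cq, hcq⟩ : ∃ cq : RelProj.QGrHom q 𝒮 𝒮h',
      ∀ U : Y.Opens, cq.app U = ι.hom.app (op U) ≫ uh.app U :=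
    ⟨ofHomComp ι hz.graded uh, fun U => rfl⟩
  have hcL := hcomp_left uh ι hz.graded cq hcq
  have hcR := hcomp_right u ι' hz'.graded cq (fun U => (hcq U).trans (huh U))
  have hg1 : q = q ≫ 𝟙 Y := (Category.comp_id q).symm
  have hg2 : q = 𝟙 Y' ≫ q := (Category.id_comp q).symm
  have key1 : ∀ e : ((RelProj.domQ uh pC' chartC' : PC'.Opens) : Scheme.{u}),
      (RelProj.domQ uh pC' chartC').ι.base e ∈ RelProj.domQ cq pC' chartC' ↔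
        Φh.base e ∈ RelProj.domQ (RelProj.QGrHom.ofHom ι hz.graded) pC chartC :=
    fun e => mem_domQ_comp_iff (RelProj.QGrHom.ofHom ι hz.graded) uh cq hg1 hcL pC chartC
      pC' chartC' hC hC' Φh hΦh₀ e
  have key2 : RelProj.domQ cq pC' chartC' ≤
      RelProj.domQ (RelProj.QGrHom.ofHom ι' hz'.graded) pC' chartC' :=
    domQ_comp_le u (RelProj.QGrHom.ofHom ι' hz'.graded) cq hg2 hcR pC' chartC' hC'
  have key3 : RelProj.domQ cq pC' chartC' ≤ RelProj.domQ uh pC' chartC' :=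
    domQ_comp_le (RelProj.QGrHom.ofHom ι hz.graded) uh cq hg1 hcL pC' chartC' hC'
  have part1 : (RelProj.domQ uh pC' chartC').ι ''ᵁ
      (Φh ⁻¹ᵁ RelCone.pointedProjCone 𝒮 hz pC chartC) ≤
      RelCone.pointedProjCone 𝒮' hz' pC' chartC' := by
    rintro _ ⟨e, he, rfl⟩
    rw [hE']
    apply key2
    show (RelProj.domQ uh pC' chartC').ι.base e ∈ RelProj.domQ cq pC' chartC'
    rw [key1 e, ← hE]
    exact he
  refine ⟨part1, fun hG => ?_⟩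
  obtain ⟨r', hr'⟩ := exists_v (RelProj.QGrHom.ofHom ι' hz'.graded) p' chart' pC' chartC' hP' hC'
  have key4 : ∀ e : ((RelProj.domQ (RelProj.QGrHom.ofHom ι' hz'.graded) pC' chartC' :
      PC'.Opens) : Scheme.{u}),
      (RelProj.domQ (RelProj.QGrHom.ofHom ι' hz'.graded) pC' chartC').ι.base e ∈
        RelProj.domQ cq pC' chartC' ↔ r'.base e ∈ RelProj.domQ u p' chart' :=
    fun e => mem_domQ_comp_iff u (RelProj.QGrHom.ofHom ι' hz'.graded) cq hg2 hcR p' chart'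
      pC' chartC' hP' hC' r' hr' e
  have key5 : RelProj.domQ (RelProj.QGrHom.ofHom ι' hz'.graded) pC' chartC' ≤
      RelProj.domQ cq pC' chartC' := by
    intro x hx
    have h1 := (key4 ⟨x, hx⟩).mpr (by rw [hG]; trivial)
    exact h1
  have hGuh : RelProj.domQ uh pC' chartC' = ⊤ := by
    rw [eq_top_iff]
    intro x _
    show x ∈ RelProj.domQ uh pC' chartC'
    obtain ⟨U, hU, hyU, -⟩ := Opens.isBasis_iff_nbhd.mp Y.isBasis_affineOpens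
      (show q.base (pC'.base x) ∈ (⊤ : Y.Opens) from trivial)
    obtain ⟨U', hU', hyU', hU'le⟩ := Opens.isBasis_iff_nbhd.mp Y'.isBasis_affineOpens
      (show pC'.base x ∈ q ⁻¹ᵁ U from hyU)
    obtain ⟨w, rfl⟩ := exists_emb pC' chartC' x U' hU' hyU'
    obtain ⟨n, hn, g₀, hg₀, hg₀w⟩ := exists_homog_basicOpen (𝒮h'.deg U' hU') w
    rcases z_or_ι_notMem (RelProj.gradedHomAt ι' hz'.graded U' hU')
      (RelCone.restrictTop 𝒮h' z' U') (hz'.deg_z U' hU') (ConeImm.hsurj hz' U' hU')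
      w.asHomogeneousIdeal.toIdeal hg₀ hg₀w with hzw | ⟨a, ha, haw⟩
    · rw [mem_domQ_homog uh pC' chartC' hC' U hU U' hU' hU'le w]
      refine ⟨1, one_pos, RelCone.restrictTop 𝒮h z U, hz.deg_z U hU, ?_⟩
      rw [uh_z uh huhz U hU U' hU' hU'le]
      exact hzw
    · apply key3
      apply key5
      show (RelProj.emb pC' chartC' U' hU').base w ∈
        RelProj.domQ (RelProj.QGrHom.ofHom ι' hz'.graded) pC' chartC'
      rw [mem_domQ_homog (RelProj.QGrHom.ofHom ι' hz'.graded) pC' chartC' hC' U' hU' U' hU'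
        (le_id U') w]
      refine ⟨n, hn, a, ha, ?_⟩
      rw [gradedAt_ofHom ι' hz'.graded U' hU' (le_id U') a]
      exact haw
  refine ⟨hGuh, le_antisymm part1 ?_⟩
  intro x hx
  rw [hE'] at hx
  have hxc : x ∈ RelProj.domQ cq pC' chartC' := key5 hx
  have hxuh : x ∈ RelProj.domQ uh pC' chartC' := key3 hxc
  refine ⟨⟨x, hxuh⟩, ?_, rfl⟩
  show Φh.base ⟨x, hxuh⟩ ∈ RelCone.pointedProjCone 𝒮 hz pC chartC
  rw [hE, ← key1 ⟨x, hxuh⟩]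
  exact hxc

theorem main_S12156 {Y Y' PC PC' : Scheme.{u}} (q : Y' ⟶ Y)
    (𝒮 : RelProj.QCGrAlg Y) (𝒮' : RelProj.QCGrAlg Y') (h0 : RelCone.StrZeroBij 𝒮) (h0' : RelCone.StrZeroBij 𝒮')
    (u : RelProj.QGrHom q 𝒮 𝒮')
    (𝒮h : RelProj.QCGrAlg Y) (ι : 𝒮.toQCAlg ⟶ 𝒮h.toQCAlg) (z : 𝒮h.presheaf.obj (op ⊤))
    (hz : RelCone.IsPolyOver 𝒮 𝒮h ι z)
    (pC : PC ⟶ Y) (chartC : ∀ (U : Y.Opens) (hU : IsAffineOpen U), (((pC ⁻¹ᵁ U : PC.Opens) : Scheme.{u}) ≅ Proj (𝒮h.deg U hU)))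
    (hC : RelProj.IsRelProj 𝒮h pC chartC)
    (𝒮h' : RelProj.QCGrAlg Y') (ι' : 𝒮'.toQCAlg ⟶ 𝒮h'.toQCAlg) (z' : 𝒮h'.presheaf.obj (op ⊤))
    (hz' : RelCone.IsPolyOver 𝒮' 𝒮h' ι' z')
    (pC' : PC' ⟶ Y') (chartC' : ∀ (U : Y'.Opens) (hU : IsAffineOpen U), (((pC' ⁻¹ᵁ U : PC'.Opens) : Scheme.{u}) ≅ Proj (𝒮h'.deg U hU)))
    (hC' : RelProj.IsRelProj 𝒮h' pC' chartC')
    (uh : RelProj.QGrHom q 𝒮h 𝒮h')
    (huh : ∀ U : Y.Opens, ι.hom.app (op U) ≫ uh.app U = u.app U ≫ ι'.hom.app (op (q ⁻¹ᵁ U)))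
    (huhz : (uh.app ⊤).hom z = RelCone.restrictTop 𝒮h' z' (q ⁻¹ᵁ ⊤))
    (Φh : ((RelProj.domQ uh pC' chartC' : PC'.Opens) : Scheme.{u}) ⟶ PC)
    (hΦh : RelProj.IsProjQMapOn uh pC chartC pC' chartC' (RelProj.domQ uh pC' chartC') Φh)
    {P P' : Scheme.{u}} (p : P ⟶ Y) (chart : ∀ (U : Y.Opens) (hU : IsAffineOpen U), (((p ⁻¹ᵁ U : P.Opens) : Scheme.{u}) ≅ Proj (𝒮.deg U hU)))
    (hP : RelProj.IsRelProj 𝒮 p chart)
    (p' : P' ⟶ Y') (chart' : ∀ (U : Y'.Opens) (hU : IsAffineOpen U), (((p' ⁻¹ᵁ U : P'.Opens) : Scheme.{u}) ≅ Proj (𝒮'.deg U hU)))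
    (hP' : RelProj.IsRelProj 𝒮' p' chart')
    (Φ : ((RelProj.domQ u p' chart' : P'.Opens) : Scheme.{u}) ⟶ P)
    (hΦ : RelProj.IsProjQMapOn u p chart p' chart' (RelProj.domQ u p' chart') Φ)
    (r : ((RelCone.pointedProjCone 𝒮 hz pC chartC : PC.Opens) : Scheme.{u}) ⟶ P)
    (hr : RelProj.IsProjQMapOn (RelProj.QGrHom.ofHom ι hz.graded) p chart pC chartC (RelCone.pointedProjCone 𝒮 hz pC chartC) r)
    (r' : ((RelCone.pointedProjCone 𝒮' hz' pC' chartC' : PC'.Opens) : Scheme.{u}) ⟶ P')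
    (hr' : RelProj.IsProjQMapOn (RelProj.QGrHom.ofHom ι' hz'.graded) p' chart' pC' chartC' (RelCone.pointedProjCone 𝒮' hz' pC' chartC') r')
    (T : Scheme.{u}) (a : T ⟶ ((RelCone.pointedProjCone 𝒮' hz' pC' chartC' : PC'.Opens) : Scheme.{u}))
    (b : T ⟶ ((RelProj.domQ uh pC' chartC' : PC'.Opens) : Scheme.{u}))
    (c : T ⟶ ((RelCone.pointedProjCone 𝒮 hz pC chartC : PC.Opens) : Scheme.{u}))
    (hab : a ≫ (RelCone.pointedProjCone 𝒮' hz' pC' chartC').ι = b ≫ (RelProj.domQ uh pC' chartC').ι) (hbc : b ≫ Φh = c ≫ (RelCone.pointedProjCone 𝒮 hz pC chartC).ι) :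
    Set.range (a ≫ r').base ⊆ ((RelProj.domQ u p' chart' : P'.Opens) : Set P') ∧
      ∀ d : T ⟶ ((RelProj.domQ u p' chart' : P'.Opens) : Scheme.{u}),
        a ≫ r' = d ≫ (RelProj.domQ u p' chart').ι → c ≫ r = d ≫ Φ := by
  have hΦh₀ := (isProjQMapOn_iff uh pC chartC pC' chartC' Φh).mp hΦh
  have hΦ₀ := (isProjQMapOn_iff u p chart p' chart' Φ).mp hΦ
  have hE := pointed_eq_domQ hz pC chartC hC
  have hE' := pointed_eq_domQ hz' pC' chartC' hC'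
  obtain ⟨rt, hrt, hrtT⟩ := transport_W (RelProj.QGrHom.ofHom ι hz.graded) p chart pC chartC _ hE
    r hr
  obtain ⟨rt', hrt', hrtT'⟩ := transport_W (RelProj.QGrHom.ofHom ι' hz'.graded) p' chart' pC'
    chartC' _ hE' r' hr'
  have hrt₀ := (isProjQMapOn_iff (RelProj.QGrHom.ofHom ι hz.graded) p chart pC chartC rt).mp hrt
  have hrt'₀ := (isProjQMapOn_iff (RelProj.QGrHom.ofHom ι' hz'.graded) p' chart' pC' chartC'
    rt').mp hrt'
  obtain ⟨cq, hcq⟩ : ∃ cq : RelProj.QGrHom q 𝒮 𝒮h',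
      ∀ U : Y.Opens, cq.app U = ι.hom.app (op U) ≫ uh.app U :=
    ⟨ofHomComp ι hz.graded uh, fun U => rfl⟩
  have hcL := hcomp_left uh ι hz.graded cq hcq
  have hcR := hcomp_right u ι' hz'.graded cq (fun U => (hcq U).trans (huh U))
  have hg1 : q = q ≫ 𝟙 Y := (Category.comp_id q).symm
  have hg2 : q = 𝟙 Y' ≫ q := (Category.id_comp q).symm
  -- lifts of `a` and `c` into the `domQ` opens
  obtain ⟨at', hat⟩ : ∃ m : T ⟶ ((RelProj.domQ (RelProj.QGrHom.ofHom ι' hz'.graded) pC' chartC' :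
      PC'.Opens) : Scheme.{u}),
      m ≫ (RelProj.domQ (RelProj.QGrHom.ofHom ι' hz'.graded) pC' chartC').ι =
        a ≫ (RelCone.pointedProjCone 𝒮' hz' pC' chartC').ι := by
    have hra : Set.range (a ≫ (RelCone.pointedProjCone 𝒮' hz' pC' chartC').ι).base ⊆
        Set.range (RelProj.domQ (RelProj.QGrHom.ofHom ι' hz'.graded) pC' chartC').ι.base := by
      rw [Scheme.Opens.range_ι, ← hE']
      rintro _ ⟨t, rfl⟩
      exact ι_mem _ (a.base t)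
    exact ⟨IsOpenImmersion.lift _ _ hra, IsOpenImmersion.lift_fac _ _ _⟩
  obtain ⟨ct, hct⟩ : ∃ m : T ⟶ ((RelProj.domQ (RelProj.QGrHom.ofHom ι hz.graded) pC chartC :
      PC.Opens) : Scheme.{u}),
      m ≫ (RelProj.domQ (RelProj.QGrHom.ofHom ι hz.graded) pC chartC).ι =
        c ≫ (RelCone.pointedProjCone 𝒮 hz pC chartC).ι := by
    have hrc : Set.range (c ≫ (RelCone.pointedProjCone 𝒮 hz pC chartC).ι).base ⊆
        Set.range (RelProj.domQ (RelProj.QGrHom.ofHom ι hz.graded) pC chartC).ι.base := by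
      rw [Scheme.Opens.range_ι, ← hE]
      rintro _ ⟨t, rfl⟩
      exact ι_mem _ (c.base t)
    exact ⟨IsOpenImmersion.lift _ _ hrc, IsOpenImmersion.lift_fac _ _ _⟩
  have har : a ≫ r' = at' ≫ rt' := hrtT' a at' hat.symm
  have hcr : c ≫ r = ct ≫ rt := hrtT c ct hct.symm
  obtain ⟨e₃, he₃⟩ : ∃ m : T ⟶ ((RelProj.domQ cq pC' chartC' : PC'.Opens) : Scheme.{u}),
      m ≫ (RelProj.domQ cq pC' chartC').ι = b ≫ (RelProj.domQ uh pC' chartC').ι := by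
    have hre : Set.range (b ≫ (RelProj.domQ uh pC' chartC').ι).base ⊆
        Set.range (RelProj.domQ cq pC' chartC').ι.base := by
      rw [Scheme.Opens.range_ι]
      rintro _ ⟨t, rfl⟩
      refine (mem_domQ_comp_iff (RelProj.QGrHom.ofHom ι hz.graded) uh cq hg1 hcL pC chartC
        pC' chartC' hC hC' Φh hΦh₀ (b.base t)).mpr ?_
      have h1 := congrArg (fun m : T ⟶ PC => m.base t) (hbc.trans hct.symm)
      have h2 : Φh.base (b.base t) =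
          (RelProj.domQ (RelProj.QGrHom.ofHom ι hz.graded) pC chartC).ι.base (ct.base t) := h1
      rw [h2]
      exact ι_mem _ (ct.base t)
    exact ⟨IsOpenImmersion.lift _ _ hre, IsOpenImmersion.lift_fac _ _ _⟩
  obtain ⟨Φc, hΦc⟩ := exists_v cq p chart pC' chartC' hP hC'
  have eq1 : e₃ ≫ Φc = ct ≫ rt :=
    comp_eq (RelProj.QGrHom.ofHom ι hz.graded) uh cq hg1 hcL p chart pC chartC pC' chartC' hC'
      rt hrt₀ Φh hΦh₀ Φc hΦc e₃ b ct he₃ (hbc.trans hct.symm)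
  have eq2 : ∀ d : T ⟶ ((RelProj.domQ u p' chart' : P'.Opens) : Scheme.{u}),
      a ≫ r' = d ≫ (RelProj.domQ u p' chart').ι → e₃ ≫ Φc = d ≫ Φ := fun d hd =>
    comp_eq u (RelProj.QGrHom.ofHom ι' hz'.graded) cq hg2 hcR p chart p' chart' pC' chartC' hC'
      Φ hΦ₀ rt' hrt'₀ Φc hΦc e₃ at' d (he₃.trans (hab.symm.trans hat.symm)) (har.symm.trans hd)
  refine ⟨?_, fun d hd => by rw [hcr, ← eq1]; exact eq2 d hd⟩
  rintro _ ⟨t, rfl⟩
  show (a ≫ r').base t ∈ RelProj.domQ u p' chart'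
  rw [har]
  refine (mem_domQ_comp_iff u (RelProj.QGrHom.ofHom ι' hz'.graded) cq hg2 hcR p' chart'
    pC' chartC' hP' hC' rt' hrt'₀ (at'.base t)).mp ?_
  have h1 := congrArg (fun m : T ⟶ PC' => m.base t) (hat.trans (hab.trans he₃.symm))
  have h2 : (RelProj.domQ (RelProj.QGrHom.ofHom ι' hz'.graded) pC' chartC').ι.base (at'.base t) =
      (RelProj.domQ cq pC' chartC').ι.base (e₃.base t) := h1
  rw [h2]
  exact ι_mem _ (e₃.base t)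

end Groth.Agent.H4.ProjQ6
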