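import Groth.Agent.H4.ProjQ6

set_option autoImplicit false

namespace Groth.Agent.H4.ProjQ7

open CategoryTheory CategoryTheory.Limits AlgebraicGeometry TopologicalSpace Opposite
open HomogeneousLocalization
open Groth.Agent.H4 Groth.Agent.H4.RelSpecLib Groth.Agent.H4.ConeImm Groth.Agent.H4.ConeInf
open Groth.Agent.H4.ConeRetrAlg Groth.Agent.H4.ConeRetr Groth.Agent.H4.ConeRetr2
open Groth.Agent.H4.ProjQ Groth.Agent.H4.ProjQ2 Groth.Agent.H4.ProjQ4 Groth.Agent.H4.ProjQ5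
open Groth.Agent.H4.ProjQ6
open scoped HomogeneousIdeal

universe u

section Aux

variable {Y Y' : Scheme.{u}} {g : Y' ⟶ Y}

theorem hcomp_right_aux {𝒜 : RelProj.QCGrAlg Y} {ℬ 𝒞 : RelProj.QCGrAlg Y'}
    (w : RelProj.QGrHom g 𝒜 ℬ) (φ : ℬ.toQCAlg ⟶ 𝒞.toQCAlg) (hφ : RelProj.IsGradedHom φ)
    (U : Y.Opens) (hU : IsAffineOpen U) (U' : Y'.Opens) (hU' : IsAffineOpen U')
    (hle : U' ≤ g ⁻¹ᵁ U) (U'' : Y'.Opens) (hU'' : IsAffineOpen U'')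
    (hle' : U'' ≤ (𝟙 Y') ⁻¹ᵁ U') (hle'' : U'' ≤ g ⁻¹ᵁ U) (a : 𝒜.presheaf.obj (op U)) :
    (RelProj.QGrHom.ofHom φ hφ).gradedAt U' hU' U'' hU'' hle' (w.gradedAt U hU U' hU' hle a) =
      (φ.hom.app (op U'')).hom ((w.appLE U U'' hle'').hom a) := by
  have hUU : U'' ≤ U' := hle'
  have e2 : w.appLE U U' hle ≫ φ.hom.app (op U') ≫ 𝒞.presheaf.map (homOfLE hUU).op =
      w.appLE U U'' hle'' ≫ φ.hom.app (op U'') := by
    rw [← φ.hom.naturality (homOfLE hUU).op, ← Category.assoc, w.appLE_map hle hUU]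
  exact congrArg (fun t : 𝒜.presheaf.obj (op U) ⟶ 𝒞.presheaf.obj (op U'') => t.hom a) e2

theorem aq_form_of_isProjQMap {𝒜 ℬ : RelProj.QCGrAlg Y} (φ : 𝒜.toQCAlg ⟶ ℬ.toQCAlg)
    (hφ : RelProj.IsGradedHom φ)
    {PA : Scheme.{u}} (pA : PA ⟶ Y)
    (chartA : ∀ (U : Y.Opens) (hU : IsAffineOpen U),
      (((pA ⁻¹ᵁ U : PA.Opens) : Scheme.{u}) ≅ Proj (𝒜.deg U hU)))
    {PB : Scheme.{u}} (pB : PB ⟶ Y)
    (chartB : ∀ (U : Y.Opens) (hU : IsAffineOpen U),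
      (((pB ⁻¹ᵁ U : PB.Opens) : Scheme.{u}) ≅ Proj (ℬ.deg U hU)))
    (h : PB ⟶ PA)
    (hh : RelProj.IsProjQMap (RelProj.QGrHom.ofHom φ hφ) pA chartA pB chartB h) :
    ∀ (U : Y.Opens) (hU : IsAffineOpen U) (U' : Y.Opens) (hU' : IsAffineOpen U')
      (hle : U' ≤ (𝟙 Y) ⁻¹ᵁ U) (d : ℕ) (hd : 0 < d) (f : 𝒜.presheaf.obj (op U))
      (hf : f ∈ 𝒜.deg U hU d),
      aq (RelProj.QGrHom.ofHom φ hφ) pB chartB U hU U' hU' hle hd f hf ≫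
        ((RelProj.domQ (RelProj.QGrHom.ofHom φ hφ) pB chartB).ι ≫ h) =
        gq (RelProj.QGrHom.ofHom φ hφ) pA chartA U hU U' hU' hle hd f hf := by
  intro U hU U' hU' hle d hd f hf
  rw [← Category.assoc, aq_ι]
  exact hh.2 U hU U' hU' hle d hd f hf

end Aux

section Theta

variable {Y Y' : Scheme.{u}} {q : Y' ⟶ Y} {𝒮 𝒮h : RelProj.QCGrAlg Y} {𝒮' 𝒮h' : RelProj.QCGrAlg Y'}
  (u : RelProj.QGrHom q 𝒮 𝒮') {ι : 𝒮.toQCAlg ⟶ 𝒮h.toQCAlg} {z : 𝒮h.presheaf.obj (op ⊤)}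
  (hz : RelCone.IsPolyOver 𝒮 𝒮h ι z) {ι' : 𝒮'.toQCAlg ⟶ 𝒮h'.toQCAlg}
  {z' : 𝒮h'.presheaf.obj (op ⊤)} (hz' : RelCone.IsPolyOver 𝒮' 𝒮h' ι' z')
  (uh : RelProj.QGrHom q 𝒮h 𝒮h')
  (huh : ∀ U : Y.Opens, ι.hom.app (op U) ≫ uh.app U = u.app U ≫ ι'.hom.app (op (q ⁻¹ᵁ U)))
  (huhz : (uh.app ⊤).hom z = RelCone.restrictTop 𝒮h' z' (q ⁻¹ᵁ ⊤))
  (θ : 𝒮h.toQCAlg ⟶ 𝒮.toQCAlg) (hθ : RelProj.IsGradedHom θ) (hθι : ι ≫ θ = 𝟙 _)
  (hθz : (θ.hom.app (op ⊤)).hom z = 0)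
  (θ' : 𝒮h'.toQCAlg ⟶ 𝒮'.toQCAlg) (hθ' : RelProj.IsGradedHom θ') (hθι' : ι' ≫ θ' = 𝟙 _)
  (hθz' : (θ'.hom.app (op ⊤)).hom z' = 0)

include hz hz' huh huhz hθ hθι hθz hθ' hθι' hθz' in
theorem θ_compat (U : Y.Opens) (hU : IsAffineOpen U) (U'' : Y'.Opens) (hU'' : IsAffineOpen U'')
    (hle'' : U'' ≤ q ⁻¹ᵁ U) (s : 𝒮h.presheaf.obj (op U)) :
    (u.appLE U U'' hle'').hom ((θ.hom.app (op U)).hom s) =
      (θ'.hom.app (op U'')).hom ((uh.appLE U U'' hle'').hom s) := by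
  obtain ⟨p, rfl⟩ := ConeImm.hsurj hz U hU s
  have h2' : ι.hom.app (op U) ≫ uh.appLE U U'' hle'' =
      u.appLE U U'' hle'' ≫ ι'.hom.app (op U'') := by
    rw [RelSpec.QHom.appLE_eq, RelSpec.QHom.appLE_eq, ← Category.assoc, huh U, Category.assoc,
      Category.assoc, ι'.hom.naturality]
  have key : ((u.appLE U U'' hle'').hom.comp (θ.hom.app (op U)).hom).comp
      (Polynomial.eval₂RingHom (RelProj.gradedHomAt ι hz.graded U hU).toRingHom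
        (RelCone.restrictTop 𝒮h z U)) =
      ((θ'.hom.app (op U'')).hom.comp (uh.appLE U U'' hle'').hom).comp
      (Polynomial.eval₂RingHom (RelProj.gradedHomAt ι hz.graded U hU).toRingHom
        (RelCone.restrictTop 𝒮h z U)) := by
    apply Polynomial.ringHom_ext
    · intro a
      show (u.appLE U U'' hle'').hom ((θ.hom.app (op U)).hom
        (Polynomial.eval₂ (RelProj.gradedHomAt ι hz.graded U hU).toRingHom
          (RelCone.restrictTop 𝒮h z U) (Polynomial.C a))) =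
        (θ'.hom.app (op U'')).hom ((uh.appLE U U'' hle'').hom
          (Polynomial.eval₂ (RelProj.gradedHomAt ι hz.graded U hU).toRingHom
            (RelCone.restrictTop 𝒮h z U) (Polynomial.C a)))
      rw [Polynomial.eval₂_C]
      show (u.appLE U U'' hle'').hom ((θ.hom.app (op U)).hom ((ι.hom.app (op U)).hom a)) =
        (θ'.hom.app (op U'')).hom ((uh.appLE U U'' hle'').hom ((ι.hom.app (op U)).hom a))
      have h1 : (θ.hom.app (op U)).hom ((ι.hom.app (op U)).hom a) = a :=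
        ρ_ι hz θ hθ hθι U hU a
      have h2 : (uh.appLE U U'' hle'').hom ((ι.hom.app (op U)).hom a) =
          (ι'.hom.app (op U'')).hom ((u.appLE U U'' hle'').hom a) :=
        congrArg (fun t : 𝒮.presheaf.obj (op U) ⟶ 𝒮h'.presheaf.obj (op U'') => t.hom a) h2'
      have h3 : (θ'.hom.app (op U'')).hom ((ι'.hom.app (op U'')).hom
          ((u.appLE U U'' hle'').hom a)) = (u.appLE U U'' hle'').hom a :=
        ρ_ι hz' θ' hθ' hθι' U'' hU'' _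
      rw [h1, h2, h3]
    · show (u.appLE U U'' hle'').hom ((θ.hom.app (op U)).hom
        (Polynomial.eval₂ (RelProj.gradedHomAt ι hz.graded U hU).toRingHom
          (RelCone.restrictTop 𝒮h z U) Polynomial.X)) =
        (θ'.hom.app (op U'')).hom ((uh.appLE U U'' hle'').hom
          (Polynomial.eval₂ (RelProj.gradedHomAt ι hz.graded U hU).toRingHom
            (RelCone.restrictTop 𝒮h z U) Polynomial.X))
      rw [Polynomial.eval₂_X]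
      have h1 : (θ.hom.app (op U)).hom (RelCone.restrictTop 𝒮h z U) = 0 :=
        ρ_z θ hθ hθz U hU
      have h2 : (uh.appLE U U'' hle'').hom (RelCone.restrictTop 𝒮h z U) =
          RelCone.restrictTop 𝒮h' z' U'' := uh_z uh huhz U hU U'' hU'' hle''
      have h3 : (θ'.hom.app (op U'')).hom (RelCone.restrictTop 𝒮h' z' U'') = 0 :=
        ρ_z θ' hθ' hθz' U'' hU''
      rw [h1, map_zero, h2, h3]
  exact RingHom.congr_fun key p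

include hz hz' huh huhz hθ hθι hθz hθι' hθz' in
theorem hcomp_θ (w : RelProj.QGrHom q 𝒮h 𝒮')
    (hw : ∀ U : Y.Opens, w.app U = θ.hom.app (op U) ≫ u.app U)
    (U : Y.Opens) (hU : IsAffineOpen U) (U' : Y'.Opens) (hU' : IsAffineOpen U')
    (hle : U' ≤ q ⁻¹ᵁ U) (U'' : Y'.Opens) (hU'' : IsAffineOpen U'')
    (hle' : U'' ≤ (𝟙 Y') ⁻¹ᵁ U') (hle'' : U'' ≤ q ⁻¹ᵁ U) (a : 𝒮h.presheaf.obj (op U)) :
    w.gradedAt U hU U'' hU'' hle'' a =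
      (RelProj.QGrHom.ofHom θ' hθ').gradedAt U' hU' U'' hU'' hle'
        (uh.gradedAt U hU U' hU' hle a) := by
  have e0 : w.appLE U U'' hle'' = θ.hom.app (op U) ≫ u.appLE U U'' hle'' := by
    rw [RelSpec.QHom.appLE_eq, RelSpec.QHom.appLE_eq, hw U, Category.assoc]
  have e1 := congrArg (fun t : 𝒮h.presheaf.obj (op U) ⟶ 𝒮'.presheaf.obj (op U'') => t.hom a) e0
  have e2 := θ_compat u hz hz' uh huh huhz θ hθ hθι hθz θ' hθ' hθι' hθz' U hU U'' hU'' hle'' a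
  have e3 := hcomp_right_aux uh θ' hθ' U hU U' hU' hle U'' hU'' hle' hle'' a
  exact e1.trans (e2.trans e3.symm)

end Theta

theorem main_S12158 {Y Y' PC PC' : Scheme.{u}} (q : Y' ⟶ Y)
    (𝒮 : RelProj.QCGrAlg Y) (𝒮' : RelProj.QCGrAlg Y') (h0 : RelCone.StrZeroBij 𝒮) (h0' : RelCone.StrZeroBij 𝒮')
    (u : RelProj.QGrHom q 𝒮 𝒮')
    (𝒮h : RelProj.QCGrAlg Y) (ι : 𝒮.toQCAlg ⟶ 𝒮h.toQCAlg) (z : 𝒮h.presheaf.obj (op ⊤))
    (hz : RelCone.IsPolyOver 𝒮 𝒮h ι z)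
    (pC : PC ⟶ Y) (chartC : ∀ (U : Y.Opens) (hU : IsAffineOpen U), (((pC ⁻¹ᵁ U : PC.Opens) : Scheme.{u}) ≅ Proj (𝒮h.deg U hU)))
    (hC : RelProj.IsRelProj 𝒮h pC chartC)
    (𝒮h' : RelProj.QCGrAlg Y') (ι' : 𝒮'.toQCAlg ⟶ 𝒮h'.toQCAlg) (z' : 𝒮h'.presheaf.obj (op ⊤))
    (hz' : RelCone.IsPolyOver 𝒮' 𝒮h' ι' z')
    (pC' : PC' ⟶ Y') (chartC' : ∀ (U : Y'.Opens) (hU : IsAffineOpen U), (((pC' ⁻¹ᵁ U : PC'.Opens) : Scheme.{u}) ≅ Proj (𝒮h'.deg U hU)))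
    (hC' : RelProj.IsRelProj 𝒮h' pC' chartC')
    (uh : RelProj.QGrHom q 𝒮h 𝒮h')
    (huh : ∀ U : Y.Opens, ι.hom.app (op U) ≫ uh.app U = u.app U ≫ ι'.hom.app (op (q ⁻¹ᵁ U)))
    (huhz : (uh.app ⊤).hom z = RelCone.restrictTop 𝒮h' z' (q ⁻¹ᵁ ⊤))
    (Φh : ((RelProj.domQ uh pC' chartC' : PC'.Opens) : Scheme.{u}) ⟶ PC)
    (hΦh : RelProj.IsProjQMapOn uh pC chartC pC' chartC' (RelProj.domQ uh pC' chartC') Φh)
    {P P' : Scheme.{u}} (p : P ⟶ Y) (chart : ∀ (U : Y.Opens) (hU : IsAffineOpen U), (((p ⁻¹ᵁ U : P.Opens) : Scheme.{u}) ≅ Proj (𝒮.deg U hU)))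
    (hP : RelProj.IsRelProj 𝒮 p chart)
    (p' : P' ⟶ Y') (chart' : ∀ (U : Y'.Opens) (hU : IsAffineOpen U), (((p' ⁻¹ᵁ U : P'.Opens) : Scheme.{u}) ≅ Proj (𝒮'.deg U hU)))
    (hP' : RelProj.IsRelProj 𝒮' p' chart')
    (Φ : ((RelProj.domQ u p' chart' : P'.Opens) : Scheme.{u}) ⟶ P)
    (hΦ : RelProj.IsProjQMapOn u p chart p' chart' (RelProj.domQ u p' chart') Φ)
    (θ : 𝒮h.toQCAlg ⟶ 𝒮.toQCAlg) (hθ : RelProj.IsGradedHom θ) (hθι : ι ≫ θ = 𝟙 _)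
    (hθz : (θ.hom.app (op ⊤)).hom z = 0)
    (jX : P ⟶ PC) (hjX : RelProj.IsProjQMap (RelProj.QGrHom.ofHom θ hθ) pC chartC p chart jX)
    (θ' : 𝒮h'.toQCAlg ⟶ 𝒮'.toQCAlg) (hθ' : RelProj.IsGradedHom θ') (hθι' : ι' ≫ θ' = 𝟙 _)
    (hθz' : (θ'.hom.app (op ⊤)).hom z' = 0)
    (jX' : P' ⟶ PC') (hjX' : RelProj.IsProjQMap (RelProj.QGrHom.ofHom θ' hθ') pC' chartC' p' chart' jX')
    (T : Scheme.{u}) (d : T ⟶ ((RelProj.domQ u p' chart' : P'.Opens) : Scheme.{u}))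
    (e : T ⟶ ((RelProj.domQ uh pC' chartC' : PC'.Opens) : Scheme.{u}))
    (hde : d ≫ (RelProj.domQ u p' chart').ι ≫ jX' = e ≫ (RelProj.domQ uh pC' chartC').ι) :
    jX'.base '' ((RelProj.domQ u p' chart' : P'.Opens) : Set P') ⊆ ((RelProj.domQ uh pC' chartC' : PC'.Opens) : Set PC') ∧ e ≫ Φh = d ≫ Φ ≫ jX := by
  have hΦh₀ := (isProjQMapOn_iff uh pC chartC pC' chartC' Φh).mp hΦh
  have hΦ₀ := (isProjQMapOn_iff u p chart p' chart' Φ).mp hΦ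
  have hΦθ := aq_form_of_isProjQMap θ hθ pC chartC p chart jX hjX
  have hΦθ' := aq_form_of_isProjQMap θ' hθ' pC' chartC' p' chart' jX' hjX'
  have hGθ : RelProj.domQ (RelProj.QGrHom.ofHom θ hθ) p chart = ⊤ := hjX.1
  have hGθ' : RelProj.domQ (RelProj.QGrHom.ofHom θ' hθ') p' chart' = ⊤ := hjX'.1
  obtain ⟨w, hw⟩ : ∃ w : RelProj.QGrHom q 𝒮h 𝒮',
      ∀ U : Y.Opens, w.app U = θ.hom.app (op U) ≫ u.app U :=
    ⟨ofHomComp θ hθ u, fun U => rfl⟩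
  have hcL := hcomp_left u θ hθ w hw
  have hcR := hcomp_θ u hz hz' uh huh huhz θ hθ hθι hθz θ' hθ' hθι' hθz' w hw
  have hg1 : q = q ≫ 𝟙 Y := (Category.comp_id q).symm
  have hg2 : q = 𝟙 Y' ≫ q := (Category.id_comp q).symm
  obtain ⟨Φw, hΦw⟩ := exists_v w pC chartC p' chart' hC hP'
  -- `G(u) ≤ G(w)`
  have hle_uw : RelProj.domQ u p' chart' ≤ RelProj.domQ w p' chart' := by
    intro x hx
    have h1 := (mem_domQ_comp_iff (RelProj.QGrHom.ofHom θ hθ) u w hg1 hcL p chart p' chart' hP hP'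
      Φ hΦ₀ ⟨x, hx⟩).mpr (by rw [hGθ]; trivial)
    exact h1
  have part1 : jX'.base '' ((RelProj.domQ u p' chart' : P'.Opens) : Set P') ⊆
      ((RelProj.domQ uh pC' chartC' : PC'.Opens) : Set PC') := by
    rintro _ ⟨x, hx, rfl⟩
    have hxw : x ∈ RelProj.domQ w p' chart' := hle_uw hx
    have hxθ : x ∈ RelProj.domQ (RelProj.QGrHom.ofHom θ' hθ') p' chart' := by rw [hGθ']; trivial
    have h1 := (mem_domQ_comp_iff uh (RelProj.QGrHom.ofHom θ' hθ') w hg2 hcR pC' chartC' p' chart'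
      hC' hP' ((RelProj.domQ (RelProj.QGrHom.ofHom θ' hθ') p' chart').ι ≫ jX') hΦθ'
      ⟨x, hxθ⟩).mp hxw
    exact h1
  refine ⟨part1, ?_⟩
  obtain ⟨e₃, he₃⟩ : ∃ m : T ⟶ ((RelProj.domQ w p' chart' : P'.Opens) : Scheme.{u}),
      m ≫ (RelProj.domQ w p' chart').ι = d ≫ (RelProj.domQ u p' chart').ι := by
    have hre : Set.range (d ≫ (RelProj.domQ u p' chart').ι).base ⊆
        Set.range (RelProj.domQ w p' chart').ι.base := by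
      rw [Scheme.Opens.range_ι]
      rintro _ ⟨t, rfl⟩
      exact hle_uw (ι_mem _ (d.base t))
    exact ⟨IsOpenImmersion.lift _ _ hre, IsOpenImmersion.lift_fac _ _ _⟩
  obtain ⟨e₁, he₁⟩ : ∃ m : T ⟶ ((RelProj.domQ (RelProj.QGrHom.ofHom θ hθ) p chart : P.Opens) :
      Scheme.{u}), m ≫ (RelProj.domQ (RelProj.QGrHom.ofHom θ hθ) p chart).ι = d ≫ Φ := by
    have hre : Set.range (d ≫ Φ).base ⊆
        Set.range (RelProj.domQ (RelProj.QGrHom.ofHom θ hθ) p chart).ι.base := by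
      rw [Scheme.Opens.range_ι, hGθ]
      exact fun _ _ => trivial
    exact ⟨IsOpenImmersion.lift _ _ hre, IsOpenImmersion.lift_fac _ _ _⟩
  obtain ⟨e₂, he₂⟩ : ∃ m : T ⟶ ((RelProj.domQ (RelProj.QGrHom.ofHom θ' hθ') p' chart' :
      P'.Opens) : Scheme.{u}),
      m ≫ (RelProj.domQ (RelProj.QGrHom.ofHom θ' hθ') p' chart').ι =
        d ≫ (RelProj.domQ u p' chart').ι := by
    have hre : Set.range (d ≫ (RelProj.domQ u p' chart').ι).base ⊆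
        Set.range (RelProj.domQ (RelProj.QGrHom.ofHom θ' hθ') p' chart').ι.base := by
      rw [Scheme.Opens.range_ι, hGθ']
      exact fun _ _ => trivial
    exact ⟨IsOpenImmersion.lift _ _ hre, IsOpenImmersion.lift_fac _ _ _⟩
  have eq1 : e₃ ≫ Φw = e₁ ≫ ((RelProj.domQ (RelProj.QGrHom.ofHom θ hθ) p chart).ι ≫ jX) :=
    comp_eq (RelProj.QGrHom.ofHom θ hθ) u w hg1 hcL pC chartC p chart p' chart' hP'
      ((RelProj.domQ (RelProj.QGrHom.ofHom θ hθ) p chart).ι ≫ jX) hΦθ Φ hΦ₀ Φw hΦw e₃ d e₁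
      he₃ he₁.symm
  have eq2 : e₃ ≫ Φw = e ≫ Φh :=
    comp_eq uh (RelProj.QGrHom.ofHom θ' hθ') w hg2 hcR pC chartC pC' chartC' p' chart' hP'
      Φh hΦh₀ ((RelProj.domQ (RelProj.QGrHom.ofHom θ' hθ') p' chart').ι ≫ jX') hΦθ' Φw hΦw
      e₃ e₂ e (he₃.trans he₂.symm)
      (by rw [← Category.assoc, he₂, Category.assoc]; exact hde)
  rw [← eq2, eq1, ← Category.assoc, he₁, Category.assoc]

end Groth.Agent.H4.ProjQ7
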