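import Groth.Agent.H4.ProjQ7

set_option autoImplicit false

namespace Groth.Agent.H4.ProjQ8

open CategoryTheory CategoryTheory.Limits AlgebraicGeometry TopologicalSpace Opposite
open HomogeneousLocalization
open Groth.Agent.H4 Groth.Agent.H4.RelSpecLib Groth.Agent.H4.ConeImm Groth.Agent.H4.ConeInf
open Groth.Agent.H4.ConeRetrAlg Groth.Agent.H4.ConeRetr Groth.Agent.H4.ConeRetr2
open Groth.Agent.H4.ProjQ Groth.Agent.H4.ProjQ2 Groth.Agent.H4.ProjQ4 Groth.Agent.H4.ProjQ5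
open Groth.Agent.H4.ProjQ6 Groth.Agent.H4.ProjQ7
open scoped HomogeneousIdeal

universe u

section RingR

variable {A B A' B' : Type u} [CommRing A] [CommRing B] [CommRing A'] [CommRing B']
  {ℬ : ℕ → AddSubgroup B} {ℬ' : ℕ → AddSubgroup B'} [GradedRing ℬ] [GradedRing ℬ']

theorem away_compat (φ : ℬ →+*ᵍ ℬ') (ζ : B) (hζ : ζ ∈ ℬ 1) (ev : B →+* A) (ev' : B' →+* A')
    (u₀ : A →+* A') (hev : ∀ x, u₀ (ev x) = ev' (φ x))
    (T : Away ℬ ζ →+* A)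
    (hT : ∀ (q : Away ℬ ζ) (x : B) (k : ℕ),
      q.val = Localization.mk x ⟨ζ ^ k, pow_mem (Submonoid.mem_powers ζ) k⟩ → T q = ev x)
    (T' : Away ℬ' (φ ζ) →+* A')
    (hT' : ∀ (q : Away ℬ' (φ ζ)) (x : B') (k : ℕ),
      q.val = Localization.mk x ⟨(φ ζ) ^ k, pow_mem (Submonoid.mem_powers (φ ζ)) k⟩ →
        T' q = ev' x) :
    u₀.comp T = T'.comp (Away.map φ ζ) := by
  refine RingHom.ext fun q => ?_
  obtain ⟨k, x, hx, rfl⟩ := Away.mk_surjective ℬ hζ q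
  rw [RingHom.comp_apply, RingHom.comp_apply, Away.map_mk,
    hT _ x k (by rw [Away.val_mk]), hT' _ (φ x) k (by rw [Away.val_mk])]
  exact hev x

theorem transport_T (ζ₁ ζ₂ : B') (h : ζ₁ = ζ₂) (hζ₁ : ζ₁ ∈ ℬ' 1) (hζ₂ : ζ₂ ∈ ℬ' 1)
    (ev' : B' →+* A') (T₂ : Away ℬ' ζ₂ →+* A')
    (hT₂ : ∀ (q : Away ℬ' ζ₂) (x : B') (k : ℕ),
      q.val = Localization.mk x ⟨ζ₂ ^ k, pow_mem (Submonoid.mem_powers ζ₂) k⟩ → T₂ q = ev' x) :
    ∃ T₁ : Away ℬ' ζ₁ →+* A',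
      (∀ (q : Away ℬ' ζ₁) (x : B') (k : ℕ),
        q.val = Localization.mk x ⟨ζ₁ ^ k, pow_mem (Submonoid.mem_powers ζ₁) k⟩ → T₁ q = ev' x) ∧
      Spec.map (CommRingCat.ofHom T₁) ≫ Proj.awayι ℬ' ζ₁ hζ₁ one_pos =
        Spec.map (CommRingCat.ofHom T₂) ≫ Proj.awayι ℬ' ζ₂ hζ₂ one_pos := by
  subst h
  exact ⟨T₂, hT₂, rfl⟩

end RingR

section Hat

variable {Y Y' : Scheme.{u}} {q : Y' ⟶ Y} {𝒮 𝒮h : RelProj.QCGrAlg Y} {𝒮' 𝒮h' : RelProj.QCGrAlg Y'}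
  (u : RelProj.QGrHom q 𝒮 𝒮') {ι : 𝒮.toQCAlg ⟶ 𝒮h.toQCAlg} {z : 𝒮h.presheaf.obj (op ⊤)}
  (hz : RelCone.IsPolyOver 𝒮 𝒮h ι z) {ι' : 𝒮'.toQCAlg ⟶ 𝒮h'.toQCAlg}
  {z' : 𝒮h'.presheaf.obj (op ⊤)} (hz' : RelCone.IsPolyOver 𝒮' 𝒮h' ι' z')
  (uh : RelProj.QGrHom q 𝒮h 𝒮h')
  (huh : ∀ U : Y.Opens, ι.hom.app (op U) ≫ uh.app U = u.app U ≫ ι'.hom.app (op (q ⁻¹ᵁ U)))
  (huhz : (uh.app ⊤).hom z = RelCone.restrictTop 𝒮h' z' (q ⁻¹ᵁ ⊤))

include huh in
theorem ι_uh_appLE (U : Y.Opens) (U' : Y'.Opens) (hle : U' ≤ q ⁻¹ᵁ U) :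
    ι.hom.app (op U) ≫ uh.appLE U U' hle = u.appLE U U' hle ≫ ι'.hom.app (op U') := by
  rw [RelSpec.QHom.appLE_eq, RelSpec.QHom.appLE_eq, ← Category.assoc, huh U, Category.assoc,
    Category.assoc, ι'.hom.naturality]

include huh huhz in
theorem evalOne_compat (U : Y.Opens) (hU : IsAffineOpen U) (U' : Y'.Opens) (hU' : IsAffineOpen U')
    (hle : U' ≤ q ⁻¹ᵁ U) (x : 𝒮h.presheaf.obj (op U)) :
    (u.appLE U U' hle).hom (hz.evalOne U hU x) =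
      hz'.evalOne U' hU' (uh.gradedAt U hU U' hU' hle x) := by
  obtain ⟨p, rfl⟩ := ConeImm.hsurj hz U hU x
  have key : ((u.appLE U U' hle).hom.comp (hz.evalOne U hU)).comp
      (Polynomial.eval₂RingHom (RelProj.gradedHomAt ι hz.graded U hU).toRingHom
        (RelCone.restrictTop 𝒮h z U)) =
      ((hz'.evalOne U' hU').comp (uh.appLE U U' hle).hom).comp
      (Polynomial.eval₂RingHom (RelProj.gradedHomAt ι hz.graded U hU).toRingHom
        (RelCone.restrictTop 𝒮h z U)) := by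
    apply Polynomial.ringHom_ext
    · intro a
      show (u.appLE U U' hle).hom (hz.evalOne U hU
        (Polynomial.eval₂ (RelProj.gradedHomAt ι hz.graded U hU).toRingHom
          (RelCone.restrictTop 𝒮h z U) (Polynomial.C a))) =
        hz'.evalOne U' hU' ((uh.appLE U U' hle).hom
          (Polynomial.eval₂ (RelProj.gradedHomAt ι hz.graded U hU).toRingHom
            (RelCone.restrictTop 𝒮h z U) (Polynomial.C a)))
      rw [Polynomial.eval₂_C]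
      show (u.appLE U U' hle).hom (hz.evalOne U hU ((ι.hom.app (op U)).hom a)) =
        hz'.evalOne U' hU' ((uh.appLE U U' hle).hom ((ι.hom.app (op U)).hom a))
      have h2 : (uh.appLE U U' hle).hom ((ι.hom.app (op U)).hom a) =
          (ι'.hom.app (op U')).hom ((u.appLE U U' hle).hom a) :=
        congrArg (fun t : 𝒮.presheaf.obj (op U) ⟶ 𝒮h'.presheaf.obj (op U') => t.hom a)
          (ι_uh_appLE u uh huh U U' hle)
      rw [hz.evalOne_ι U hU a, h2, hz'.evalOne_ι U' hU' _]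
    · show (u.appLE U U' hle).hom (hz.evalOne U hU
        (Polynomial.eval₂ (RelProj.gradedHomAt ι hz.graded U hU).toRingHom
          (RelCone.restrictTop 𝒮h z U) Polynomial.X)) =
        hz'.evalOne U' hU' ((uh.appLE U U' hle).hom
          (Polynomial.eval₂ (RelProj.gradedHomAt ι hz.graded U hU).toRingHom
            (RelCone.restrictTop 𝒮h z U) Polynomial.X))
      rw [Polynomial.eval₂_X]
      have h2 : (uh.appLE U U' hle).hom (RelCone.restrictTop 𝒮h z U) =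
          RelCone.restrictTop 𝒮h' z' U' := uh_z uh huhz U hU U' hU' hle
      rw [hz.evalOne_z U hU, map_one, h2, hz'.evalOne_z U' hU']
  exact RingHom.congr_fun key p

end Hat

theorem main_S12157 {Y Y' PC PC' : Scheme.{u}} (q : Y' ⟶ Y)
    (𝒮 : RelProj.QCGrAlg Y) (𝒮' : RelProj.QCGrAlg Y') (h0 : RelCone.StrZeroBij 𝒮) (h0' : RelCone.StrZeroBij 𝒮')
    (u : RelProj.QGrHom q 𝒮 𝒮')
    (𝒮h : RelProj.QCGrAlg Y) (ι : 𝒮.toQCAlg ⟶ 𝒮h.toQCAlg) (z : 𝒮h.presheaf.obj (op ⊤))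
    (hz : RelCone.IsPolyOver 𝒮 𝒮h ι z)
    (pC : PC ⟶ Y) (chartC : ∀ (U : Y.Opens) (hU : IsAffineOpen U), (((pC ⁻¹ᵁ U : PC.Opens) : Scheme.{u}) ≅ Proj (𝒮h.deg U hU)))
    (hC : RelProj.IsRelProj 𝒮h pC chartC)
    (𝒮h' : RelProj.QCGrAlg Y') (ι' : 𝒮'.toQCAlg ⟶ 𝒮h'.toQCAlg) (z' : 𝒮h'.presheaf.obj (op ⊤))
    (hz' : RelCone.IsPolyOver 𝒮' 𝒮h' ι' z')
    (pC' : PC' ⟶ Y') (chartC' : ∀ (U : Y'.Opens) (hU : IsAffineOpen U), (((pC' ⁻¹ᵁ U : PC'.Opens) : Scheme.{u}) ≅ Proj (𝒮h'.deg U hU)))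
    (hC' : RelProj.IsRelProj 𝒮h' pC' chartC')
    (uh : RelProj.QGrHom q 𝒮h 𝒮h')
    (huh : ∀ U : Y.Opens, ι.hom.app (op U) ≫ uh.app U = u.app U ≫ ι'.hom.app (op (q ⁻¹ᵁ U)))
    (huhz : (uh.app ⊤).hom z = RelCone.restrictTop 𝒮h' z' (q ⁻¹ᵁ ⊤))
    (Φh : ((RelProj.domQ uh pC' chartC' : PC'.Opens) : Scheme.{u}) ⟶ PC)
    (hΦh : RelProj.IsProjQMapOn uh pC chartC pC' chartC' (RelProj.domQ uh pC' chartC') Φh)
    (Φc : 𝒮'.toQCAlg.spec ⟶ 𝒮.toQCAlg.spec) (hΦc : RelSpec.IsSpecQMap u.toQHom Φc)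
    (i : 𝒮.toQCAlg.spec ⟶ PC) (hi : RelCone.IsConeImm 𝒮 hz pC chartC i)
    (i' : 𝒮'.toQCAlg.spec ⟶ PC') (hi' : RelCone.IsConeImm 𝒮' hz' pC' chartC' i') :
    Set.range i'.base ⊆ ((RelProj.domQ uh pC' chartC' : PC'.Opens) : Set PC') ∧
      ∀ i'' : 𝒮'.toQCAlg.spec ⟶ ((RelProj.domQ uh pC' chartC' : PC'.Opens) : Scheme.{u}),
        i'' ≫ (RelProj.domQ uh pC' chartC').ι = i' → i'' ≫ Φh = Φc ≫ i := by
  have hΦh₀ := (isProjQMapOn_iff uh pC chartC pC' chartC' Φh).mp hΦh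
  have hloc : ∀ x : 𝒮'.toQCAlg.spec, ∃ (U' : Y'.Opens) (hU' : IsAffineOpen U'),
      x ∈ Set.range (𝒮'.toQCAlg.ι U' hU').base ∧
      Set.range (𝒮'.toQCAlg.ι U' hU' ≫ i').base ⊆
        ((RelProj.domQ uh pC' chartC' : PC'.Opens) : Set PC') ∧
      ∀ i'' : 𝒮'.toQCAlg.spec ⟶ ((RelProj.domQ uh pC' chartC' : PC'.Opens) : Scheme.{u}),
        i'' ≫ (RelProj.domQ uh pC' chartC').ι = i' →
          𝒮'.toQCAlg.ι U' hU' ≫ i'' ≫ Φh = 𝒮'.toQCAlg.ι U' hU' ≫ Φc ≫ i := by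
    intro x
    obtain ⟨U, hU, hyU, -⟩ := Opens.isBasis_iff_nbhd.mp Y.isBasis_affineOpens
      (show q.base (𝒮'.toQCAlg.π.base x) ∈ (⊤ : Y.Opens) from trivial)
    obtain ⟨U', hU', hyU', hle⟩ := Opens.isBasis_iff_nbhd.mp Y'.isBasis_affineOpens
      (show 𝒮'.toQCAlg.π.base x ∈ q ⁻¹ᵁ U from hyU)
    have hx : x ∈ 𝒮'.toQCAlg.π ⁻¹ᵁ U' := hyU'
    rw [𝒮'.toQCAlg.π_preimage U' hU'] at hx
    have hζφ : uh.gradedAt U hU U' hU' hle (RelCone.restrictTop 𝒮h z U) =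
        RelCone.restrictTop 𝒮h' z' U' := uh_z uh huhz U hU U' hU' hle
    obtain ⟨T₁, hT₁, hT₁ι⟩ := transport_T
      (uh.gradedAt U hU U' hU' hle (RelCone.restrictTop 𝒮h z U))
      (RelCone.restrictTop 𝒮h' z' U') hζφ
      (Graded.map_mem (uh.gradedAt U hU U' hU' hle) (hz.deg_z U hU)) (hz'.deg_z U' hU')
      (hz'.evalOne U' hU') (hz'.awayZToBase U' hU') (hz'.awayZToBase_of_val U' hU')
    have hchart : 𝒮'.toQCAlg.ι U' hU' ≫ i' =
        (Spec.map (CommRingCat.ofHom T₁) ≫ aq uh pC' chartC' U hU U' hU' hle one_pos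
          (RelCone.restrictTop 𝒮h z U) (hz.deg_z U hU)) ≫ (RelProj.domQ uh pC' chartC').ι := by
      rw [Category.assoc, aq_ι, hi' U' hU', ← reassoc_of% hT₁ι]
      rfl
    refine ⟨U', hU', hx, ?_, ?_⟩
    · rintro _ ⟨v, rfl⟩
      have h1 := congrArg (fun m : Spec (𝒮'.presheaf.obj (op U')) ⟶ PC' => m.base v) hchart
      have h2 : (𝒮'.toQCAlg.ι U' hU' ≫ i').base v =
          (RelProj.domQ uh pC' chartC').ι.base
            ((Spec.map (CommRingCat.ofHom T₁) ≫ aq uh pC' chartC' U hU U' hU' hle one_pos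
              (RelCone.restrictTop 𝒮h z U) (hz.deg_z U hU)).base v) := h1
      rw [h2]
      exact ι_mem _ _
    · intro i'' hi''
      have h1 : 𝒮'.toQCAlg.ι U' hU' ≫ i'' =
          Spec.map (CommRingCat.ofHom T₁) ≫ aq uh pC' chartC' U hU U' hU' hle one_pos
            (RelCone.restrictTop 𝒮h z U) (hz.deg_z U hU) := by
        apply (cancel_mono (RelProj.domQ uh pC' chartC').ι).mp
        rw [Category.assoc, hi'', hchart]
      have hR0 : CommRingCat.ofHom (Away.map (uh.gradedAt U hU U' hU' hle)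
          (RelCone.restrictTop 𝒮h z U)) ≫ CommRingCat.ofHom T₁ =
          CommRingCat.ofHom (hz.awayZToBase U hU) ≫ u.appLE U U' hle := by
        apply CommRingCat.hom_ext
        exact (away_compat (uh.gradedAt U hU U' hU' hle) (RelCone.restrictTop 𝒮h z U)
          (hz.deg_z U hU) (hz.evalOne U hU) (hz'.evalOne U' hU') (u.appLE U U' hle).hom
          (evalOne_compat u hz hz' uh huh huhz U hU U' hU' hle)
          (hz.awayZToBase U hU) (hz.awayZToBase_of_val U hU) T₁ hT₁).symm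
      have hR : Spec.map (CommRingCat.ofHom T₁) ≫ Spec.map (CommRingCat.ofHom
          (Away.map (uh.gradedAt U hU U' hU' hle) (RelCone.restrictTop 𝒮h z U))) =
          Spec.map (u.appLE U U' hle) ≫ Spec.map (CommRingCat.ofHom (hz.awayZToBase U hU)) := by
        rw [← Spec.map_comp, ← Spec.map_comp, hR0]
      rw [← Category.assoc, h1, Category.assoc,
        hΦh₀ U hU U' hU' hle 1 one_pos (RelCone.restrictTop 𝒮h z U) (hz.deg_z U hU)]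
      unfold gq
      rw [reassoc_of% hR, ← Category.assoc (𝒮'.toQCAlg.ι U' hU'), hΦc U hU U' hU' hle,
        Category.assoc, hi U hU]
  choose U' hU' hxU' hrange hcomm using hloc
  refine ⟨?_, fun i'' hi'' => ?_⟩
  · rintro _ ⟨x, rfl⟩
    obtain ⟨v, hv⟩ := hxU' x
    have h1 : i'.base x = (𝒮'.toQCAlg.ι (U' x) (hU' x) ≫ i').base v :=
      congrArg (fun y => i'.base y) hv.symm
    rw [h1]
    exact hrange x ⟨v, rfl⟩
  · exact hom_ext_of_cover (J := 𝒮'.toQCAlg.spec)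
      (fun x => Spec (𝒮'.presheaf.obj (op (U' x))))
      (fun x => 𝒮'.toQCAlg.ι (U' x) (hU' x)) (fun x => ⟨x, hxU' x⟩) _ _
      (fun x => hcomm x i'' hi'')

end Groth.Agent.H4.ProjQ8
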