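import Groth.Agent.H4.ProjBC
import Groth.Agent.Lib.Helper6.SymU
import Groth.Agent.Lib.Lead.QC.InvBasis
import Groth.Prelude.Def_RelProj2
import Groth.Prelude.Def_Pic

set_option autoImplicit false
set_option linter.style.haveILetI false
set_option linter.unusedSectionVars false

namespace Groth.Agent.H4.ProjSymL

open CategoryTheory CategoryTheory.Limits AlgebraicGeometry TopologicalSpace Opposite
open HomogeneousLocalization
open Groth.Agent.H4 Groth.Agent.H4.RelSpecLib Groth.Agent.H4.ConeImm Groth.Agent.H4.ConeInf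
open Groth.Agent.H4.ConeRetrAlg Groth.Agent.H4.ConeRetr Groth.Agent.H4.ConeRetr2
open Groth.Agent.H4.ProjQ Groth.Agent.H4.ProjQ2 Groth.Agent.H4.ProjBC
open Groth.Agent.LD.QC Groth.Agent.H6.Sym
open scoped HomogeneousIdeal

universe u

section Ring

variable {R A : Type u} [CommRing R] [CommRing A] {𝒜 : ℕ → AddSubgroup A} [GradedRing 𝒜]

theorem exists_proj_eq (σ : R →+* A) (hσ : ∀ r, σ r ∈ 𝒜 0) (t : A) (ht : t ∈ 𝒜 1)
    (Ψ : MvPolynomial Unit R →+* A) (hΨC : ∀ r, Ψ (MvPolynomial.C r) = σ r)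
    (hΨX : Ψ (MvPolynomial.X ()) = t) (p : MvPolynomial Unit R) :
    ∀ n : ℕ, ∃ r : R, (DirectSum.decompose 𝒜 (Ψ p) n : A) = σ r * t ^ n := by
  induction p using MvPolynomial.induction_on with
  | C a =>
    intro n
    rw [hΨC]
    by_cases hn : n = 0
    · subst hn
      exact ⟨a, by rw [DirectSum.decompose_of_mem_same 𝒜 (hσ a), pow_zero, mul_one]⟩
    · exact ⟨0, by
        rw [DirectSum.decompose_of_mem_ne 𝒜 (hσ a) (Ne.symm hn), map_zero, zero_mul]⟩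
  | add p q hp hq =>
    intro n
    obtain ⟨r₁, h₁⟩ := hp n
    obtain ⟨r₂, h₂⟩ := hq n
    exact ⟨r₁ + r₂, by
      rw [map_add, DirectSum.decompose_add, DirectSum.add_apply, AddSubgroup.coe_add, h₁, h₂,
        map_add, add_mul]⟩
  | mul_X p i hp =>
    intro n
    cases i
    rw [map_mul, hΨX]
    cases n with
    | zero =>
      refine ⟨0, ?_⟩
      rw [DirectSum.coe_decompose_mul_of_right_mem_of_not_le 𝒜 ht (by norm_num), map_zero,
        zero_mul]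
    | succ n =>
      obtain ⟨r, hr⟩ := hp n
      refine ⟨r, ?_⟩
      rw [DirectSum.coe_decompose_mul_add_of_right_mem 𝒜 ht, hr, pow_succ, mul_assoc]

theorem exists_eq_mul_pow (σ : R →+* A) (hσ : ∀ r, σ r ∈ 𝒜 0) (t : A) (ht : t ∈ 𝒜 1)
    (Ψ : MvPolynomial Unit R →+* A) (hΨC : ∀ r, Ψ (MvPolynomial.C r) = σ r)
    (hΨX : Ψ (MvPolynomial.X ()) = t) (hsurj : Function.Surjective Ψ) (n : ℕ) (x : A)
    (hx : x ∈ 𝒜 n) : ∃ r : R, x = σ r * t ^ n := by
  obtain ⟨p, rfl⟩ := hsurj x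
  obtain ⟨r, hr⟩ := exists_proj_eq σ hσ t ht Ψ hΨC hΨX p n
  exact ⟨r, by rw [← hr, DirectSum.decompose_of_mem_same 𝒜 hx]⟩

theorem eq_zero_of_mul_pow_eq_zero (σ : R →+* A) (t : A)
    (Ψ : MvPolynomial Unit R →+* A) (hΨC : ∀ r, Ψ (MvPolynomial.C r) = σ r)
    (hΨX : Ψ (MvPolynomial.X ()) = t) (hinj : Function.Injective Ψ) (r : R) (m : ℕ)
    (h : σ r * t ^ m = 0) : r = 0 := by
  have h1 : Ψ (MvPolynomial.C r * MvPolynomial.X () ^ m) = 0 := by
    rw [map_mul, map_pow, hΨC, hΨX, h]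
  have h2 := hinj (h1.trans (map_zero Ψ).symm)
  rw [MvPolynomial.C_mul_X_pow_eq_monomial] at h2
  exact MvPolynomial.monomial_eq_zero.mp h2

theorem isIso_toSpecZero_comp {R : CommRingCat.{u}} (𝒜 : ℕ → AddSubgroup A) [GradedRing 𝒜]
    (τ : R ⟶ CommRingCat.of (𝒜 0)) (t : A) (ht : t ∈ 𝒜 1)
    (N1 : ∀ (n : ℕ) (x : A), x ∈ 𝒜 n → ∃ r : R, x = ((τ.hom r : 𝒜 0) : A) * t ^ n)
    (N2 : ∀ (r : R) (m : ℕ), ((τ.hom r : 𝒜 0) : A) * t ^ m = 0 → r = 0) :
    IsIso (Proj.toSpecZero 𝒜 ≫ Spec.map τ) := by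
  have hι : IsIso (Proj.awayι 𝒜 t ht one_pos) := by
    rw [isIso_iff_isOpenImmersion_and_epi_base]
    refine ⟨inferInstance, ?_⟩
    rw [TopCat.epi_iff_surjective]
    intro y
    apply exists_awayι_eq 𝒜 one_pos t ht y
    obtain ⟨d, hd, g, hg, hyg⟩ := exists_homog_basicOpen 𝒜 y
    obtain ⟨r, rfl⟩ := N1 d g hg
    refine (ProjectiveSpectrum.mem_basicOpen 𝒜 t y).mpr ?_
    intro hty
    refine (ProjectiveSpectrum.mem_basicOpen 𝒜 _ y).mp hyg ?_
    show _ ∈ y.asHomogeneousIdeal.toIdeal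
    exact Ideal.mul_mem_left _ _ (Ideal.pow_mem_of_mem _ hty d hd)
  have hcomp : Proj.awayι 𝒜 t ht one_pos ≫ Proj.toSpecZero 𝒜 ≫ Spec.map τ =
      Spec.map (τ ≫ CommRingCat.ofHom (fromZeroRingHom 𝒜 (Submonoid.powers t))) := by
    rw [Proj.awayι_toSpecZero_assoc, Spec.map_comp]
  have hring : IsIso (τ ≫ CommRingCat.ofHom (fromZeroRingHom 𝒜 (Submonoid.powers t))) := by
    rw [ConcreteCategory.isIso_iff_bijective]
    constructor
    · intro r₁ r₂ h
      have h' : fromZeroRingHom 𝒜 (Submonoid.powers t) (τ.hom r₁) =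
          fromZeroRingHom 𝒜 (Submonoid.powers t) (τ.hom r₂) := h
      have h0 : fromZeroRingHom 𝒜 (Submonoid.powers t) (τ.hom (r₁ - r₂)) = 0 := by
        rw [map_sub, map_sub, sub_eq_zero]; exact h'
      have h1 := congrArg HomogeneousLocalization.val h0
      rw [val_fromZero, HomogeneousLocalization.val_zero, Localization.mk_eq_mk',
        IsLocalization.mk'_eq_zero_iff] at h1
      obtain ⟨⟨_, m, rfl⟩, hm⟩ := h1
      have h2 := N2 (r₁ - r₂) m (by rw [mul_comm]; exact hm)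
      exact sub_eq_zero.mp h2
    · intro y
      obtain ⟨n, x, hx, rfl⟩ := Away.mk_surjective 𝒜 ht y
      have hx' : x ∈ 𝒜 n := by rwa [smul_eq_mul, mul_one] at hx
      obtain ⟨r, hr⟩ := N1 n x hx'
      refine ⟨r, ?_⟩
      show fromZeroRingHom 𝒜 (Submonoid.powers t) (τ.hom r) = _
      apply HomogeneousLocalization.val_injective
      rw [val_fromZero, Away.val_mk, Localization.mk_eq_mk_iff, Localization.r_iff_exists]
      refine ⟨1, ?_⟩
      simp only [OneMemClass.coe_one, one_mul]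
      rw [hr]
      ring
  haveI : IsIso (Proj.awayι 𝒜 t ht one_pos ≫ Proj.toSpecZero 𝒜 ≫ Spec.map τ) := by
    rw [hcomp]; infer_instance
  exact IsIso.of_isIso_comp_left (Proj.awayι 𝒜 t ht one_pos) _

end Ring

section Sch

variable {X : Scheme.{u}} (L : X.Modules) (𝒮L : RelProj.QCGrAlg X) (j : L ⟶ 𝒮L.toModule)

theorem isIso_chart_of_basis [L.IsQuasicoherent] (hj : RelProj.IsGrSymAlg L 𝒮L j)
    (U : X.Opens) (hU : IsAffineOpen U) (e : Γ(L, U)) (he : IsBasisOver L U e) :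
    IsIso (Proj.toSpecZero (𝒮L.deg U hU) ≫ Spec.map (𝒮L.strZero U hU)) := by
  have hbij : Function.Bijective (LinearMap.toSpanSingleton Γ(X, U) Γ(L, U) e) := by
    have h1 := he U le_rfl
    rw [res_self L le_rfl e] at h1
    exact h1
  let eqv : Γ(X, U) ≃ₗ[Γ(X, U)] Γ(L, U) :=
    LinearEquiv.ofBijective (LinearMap.toSpanSingleton Γ(X, U) Γ(L, U) e) hbij
  let b : Module.Basis Unit Γ(X, U) Γ(L, U) := (Module.Basis.singleton Unit Γ(X, U)).map eqv
  have hb : b () = e := by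
    show eqv ((Module.Basis.singleton Unit Γ(X, U)) ()) = e
    rw [Module.Basis.singleton_apply]
    show (1 : Γ(X, U)) • e = e
    exact one_smul _ _
  let t : 𝒮L.presheaf.obj (op U) := Groth.Agent.H6.QA.sec j U e
  have ht : t ∈ 𝒮L.deg U hU 1 := hj.2 U hU e
  let Ψ : MvPolynomial Unit Γ(X, U) →+* 𝒮L.presheaf.obj (op U) :=
    (liftSec L 𝒮L.toQCAlg j U).comp
      ((SymmetricAlgebra.equivMvPolynomial b).symm : MvPolynomial Unit Γ(X, U) →+* _)
  have hΨC : ∀ r, Ψ (MvPolynomial.C r) = (𝒮L.str.app (op U)).hom r := by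
    intro r
    show liftSec L 𝒮L.toQCAlg j U
      ((SymmetricAlgebra.equivMvPolynomial b).symm (MvPolynomial.C r)) = _
    rw [← MvPolynomial.algebraMap_eq, AlgEquiv.commutes, liftSec_algebraMap]
  have hΨX : Ψ (MvPolynomial.X ()) = t := by
    show liftSec L 𝒮L.toQCAlg j U
      ((SymmetricAlgebra.equivMvPolynomial b).symm (MvPolynomial.X ())) = _
    rw [SymmetricAlgebra.equivMvPolynomial_symm_X, hb, liftSec_ι]
  have hΨbij : Function.Bijective Ψ :=
    (liftSec_bijective hj.1 U hU).comp (SymmetricAlgebra.equivMvPolynomial b).symm.bijective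
  exact isIso_toSpecZero_comp (𝒮L.deg U hU) (𝒮L.strZero U hU) t ht
    (fun n x hx => exists_eq_mul_pow (𝒮L.str.app (op U)).hom (𝒮L.str_mem U hU) t ht Ψ hΨC hΨX
      hΨbij.2 n x hx)
    (fun r m h => eq_zero_of_mul_pow_eq_zero (𝒮L.str.app (op U)).hom t Ψ hΨC hΨX hΨbij.1 r m h)

theorem isIso_restrict_of {PL : Scheme.{u}} (pL : PL ⟶ X)
    (chartL : ∀ (U : X.Opens) (hU : IsAffineOpen U),
      (((pL ⁻¹ᵁ U : PL.Opens) : Scheme.{u}) ≅ Proj (𝒮L.deg U hU)))
    (hPL : RelProj.IsRelProj 𝒮L pL chartL) (U : X.Opens) (hU : IsAffineOpen U)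
    (h : IsIso (Proj.toSpecZero (𝒮L.deg U hU) ≫ Spec.map (𝒮L.strZero U hU))) :
    IsIso (pL ∣_ U) := by
  haveI : IsAffine U := hU
  have h1 : pL ∣_ U = (chartL U hU).hom ≫
      (Proj.toSpecZero (𝒮L.deg U hU) ≫ Spec.map (𝒮L.strZero U hU)) ≫ hU.isoSpec.inv := by
    rw [← cancel_mono U.ι, morphismRestrict_ι]
    simp only [Category.assoc]
    exact (hPL.chart_over U hU).symm
  rw [h1]
  infer_instance

end Sch

theorem main_S12143 {X PL : Scheme.{u}} (L : X.Modules)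
    (hL : PicF.IsInvertible L) (hLq : Coh.IsQCoh L)
    (𝒮L : RelProj.QCGrAlg X) (j : L ⟶ 𝒮L.toModule) (hj : RelProj.IsGrSymAlg L 𝒮L j)
    (pL : PL ⟶ X) (chartL : ∀ (U : X.Opens) (hU : IsAffineOpen U), (((pL ⁻¹ᵁ U : PL.Opens) : Scheme.{u}) ≅ Proj (𝒮L.deg U hU)))
    (hPL : RelProj.IsRelProj 𝒮L pL chartL) :
    IsIso pL := by
  haveI : L.IsQuasicoherent := hLq
  have hcov : ∀ x : X, ∃ (U : X.Opens), IsAffineOpen U ∧ x ∈ U ∧
      ∃ e : Γ(L, U), IsBasisOver L U e := by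
    intro x
    obtain ⟨U₀, e₀, hx, he₀⟩ := (isInvertible_iff_exists_isBasisOver L).mp hL x
    obtain ⟨U, hU, hxU, hle⟩ := Opens.isBasis_iff_nbhd.mp X.isBasis_affineOpens hx
    exact ⟨U, hU, hxU, _, he₀.mono hle⟩
  choose U hU hxU e he using hcov
  have hsup : iSup U = ⊤ := by
    rw [eq_top_iff]
    intro x _
    exact Opens.mem_iSup.mpr ⟨x, hxU x⟩
  rw [← MorphismProperty.isomorphisms.iff]
  refine IsZariskiLocalAtTarget.of_iSup_eq_top (P := MorphismProperty.isomorphisms Scheme.{u})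
    U hsup (fun x => ?_)
  rw [MorphismProperty.isomorphisms.iff]
  exact isIso_restrict_of 𝒮L pL chartL hPL (U x) (hU x)
    (isIso_chart_of_basis L 𝒮L j hj (U x) (hU x) (e x) (he x))

end Groth.Agent.H4.ProjSymL
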