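import Groth.Agent.H4.ProjSymL
import Groth.Prelude.Def_RelProj4

set_option autoImplicit false
set_option linter.style.haveILetI false
set_option linter.unusedSectionVars false

namespace Groth.Agent.H4.ProjSymL2

open CategoryTheory CategoryTheory.Limits AlgebraicGeometry TopologicalSpace Opposite
open HomogeneousLocalization
open Groth.Agent.H4 Groth.Agent.H4.RelSpecLib Groth.Agent.H4.ConeImm Groth.Agent.H4.ConeInf
open Groth.Agent.H4.ConeRetrAlg Groth.Agent.H4.ConeRetr Groth.Agent.H4.ConeRetr2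
open Groth.Agent.H4.ProjQ Groth.Agent.H4.ProjQ2 Groth.Agent.H4.ProjBC Groth.Agent.H4.ProjSymL
open Groth.Agent.LD.QC Groth.Agent.H6.Sym
open scoped HomogeneousIdeal

universe u

section Ring

variable {A : Type u} [CommRing A] (𝒜 : ℕ → AddSubgroup A) [GradedRing 𝒜]

theorem rl_mem_awayι_iff {m : ℕ} (hm : 0 < m) (g : A) (hg : g ∈ 𝒜 m) (b : A) (hb : b ∈ 𝒜 0)
    (v : Spec (CommRingCat.of (Away 𝒜 g))) :
    b ∈ ((Proj.awayι 𝒜 g hg hm).base v).asHomogeneousIdeal ↔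
      fromZeroRingHom 𝒜 (Submonoid.powers g) ⟨b, hb⟩ ∈ PrimeSpectrum.asIdeal v := by
  have hg' : b * g ∈ 𝒜 m := by
    have h := SetLike.mul_mem_graded hb hg
    rwa [zero_add] at h
  have h1 := Proj.awayι_preimage_basicOpen 𝒜 hg hm hg' hm
  have hgv : g ∉ ((Proj.awayι 𝒜 g hg hm).base v).asHomogeneousIdeal :=
    (ProjectiveSpectrum.mem_basicOpen 𝒜 g _).mp (awayι_mem_basicOpen 𝒜 hm g hg v)
  have e1 : v ∈ Proj.awayι 𝒜 g hg hm ⁻¹ᵁ Proj.basicOpen 𝒜 (b * g) ↔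
      b ∉ ((Proj.awayι 𝒜 g hg hm).base v).asHomogeneousIdeal := by
    have e0 : v ∈ Proj.awayι 𝒜 g hg hm ⁻¹ᵁ Proj.basicOpen 𝒜 (b * g) ↔
        b * g ∉ ((Proj.awayι 𝒜 g hg hm).base v).asHomogeneousIdeal := Iff.rfl
    rw [e0]
    constructor
    · intro h hb'
      exact h (Ideal.mul_mem_right g
        ((Proj.awayι 𝒜 g hg hm).base v).asHomogeneousIdeal.toIdeal hb')
    · intro h hbg
      rcases ((Proj.awayι 𝒜 g hg hm).base v).isPrime.mem_or_mem hbg with h' | h'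
      · exact h h'
      · exact hgv h'
  have e2 : Away.isLocalizationElem hg hg' =
      (fromZeroRingHom 𝒜 (Submonoid.powers g) ⟨b, hb⟩) ^ m := by
    apply HomogeneousLocalization.val_injective
    rw [HomogeneousLocalization.val_pow, val_fromZero, Away.val_mk, Localization.mk_pow, one_pow,
      Localization.mk_eq_mk_iff, Localization.r_iff_exists]
    refine ⟨1, ?_⟩
    show (1 : A) * ((1 : A) * (b * g) ^ m) = (1 : A) * (g ^ m * b ^ m)
    ring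
  rw [h1] at e1
  have e3 : v ∈ PrimeSpectrum.basicOpen (Away.isLocalizationElem hg hg') ↔
      fromZeroRingHom 𝒜 (Submonoid.powers g) ⟨b, hb⟩ ∉ PrimeSpectrum.asIdeal v := by
    have e30 : v ∈ PrimeSpectrum.basicOpen (Away.isLocalizationElem hg hg') ↔
      Away.isLocalizationElem hg hg' ∉ PrimeSpectrum.asIdeal v := Iff.rfl
    rw [e30, e2]
    exact not_congr ((PrimeSpectrum.isPrime v).pow_mem_iff_mem m hm)
  exact not_iff_not.mp (e1.symm.trans e3)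

theorem rl_mem_toSpecZero_iff (y : Proj 𝒜) (b : A) (hb : b ∈ 𝒜 0) :
    (⟨b, hb⟩ : 𝒜 0) ∈ PrimeSpectrum.asIdeal ((Proj.toSpecZero 𝒜).base y) ↔
      b ∈ y.asHomogeneousIdeal := by
  obtain ⟨m, hm, g, hg, hyg⟩ := exists_homog_basicOpen 𝒜 y
  obtain ⟨v, rfl⟩ := exists_awayι_eq 𝒜 hm g hg y hyg
  rw [rl_mem_awayι_iff 𝒜 hm g hg b hb v]
  have h1 := congrArg (fun k : Spec (CommRingCat.of (Away 𝒜 g)) ⟶ Spec (CommRingCat.of (𝒜 0)) =>
    k.base v) (Proj.awayι_toSpecZero 𝒜 g hg hm)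
  have h2 : (Proj.toSpecZero 𝒜).base ((Proj.awayι 𝒜 g hg hm).base v) =
      (Spec.map (CommRingCat.ofHom (fromZeroRingHom 𝒜 (Submonoid.powers g)))).base v := h1
  rw [h2]
  exact Iff.rfl

theorem rl_sub_projZero_mem_span {R M : Type u} [CommSemiring R] [AddCommMonoid M] [Module R M]
    (Λ : SymmetricAlgebra R M →+* A)
    (hΛ0 : ∀ r, Λ (algebraMap R (SymmetricAlgebra R M) r) ∈ 𝒜 0)
    (hΛ1 : ∀ m, Λ (SymmetricAlgebra.ι R M m) ∈ 𝒜 1) (z : SymmetricAlgebra R M) :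
    Λ z - GradedRing.projZeroRingHom 𝒜 (Λ z) ∈ Ideal.span ((𝒜 1 : AddSubgroup A) : Set A) := by
  induction z using SymmetricAlgebra.induction with
  | algebraMap r =>
    rw [GradedRing.projZeroRingHom_apply, DirectSum.decompose_of_mem_same 𝒜 (hΛ0 r), sub_self]
    exact Ideal.zero_mem _
  | ι m =>
    rw [GradedRing.projZeroRingHom_apply,
      DirectSum.decompose_of_mem_ne 𝒜 (hΛ1 m) one_ne_zero, sub_zero]
    exact Ideal.subset_span (hΛ1 m)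
  | mul a b ha hb =>
    have e : Λ (a * b) - GradedRing.projZeroRingHom 𝒜 (Λ (a * b)) =
        (Λ a - GradedRing.projZeroRingHom 𝒜 (Λ a)) * Λ b +
          GradedRing.projZeroRingHom 𝒜 (Λ a) * (Λ b - GradedRing.projZeroRingHom 𝒜 (Λ b)) := by
      rw [map_mul, map_mul]; ring
    rw [e]
    exact Ideal.add_mem _ (Ideal.mul_mem_right _ _ ha) (Ideal.mul_mem_left _ _ hb)
  | add a b ha hb =>
    have e : Λ (a + b) - GradedRing.projZeroRingHom 𝒜 (Λ (a + b)) =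
        (Λ a - GradedRing.projZeroRingHom 𝒜 (Λ a)) +
          (Λ b - GradedRing.projZeroRingHom 𝒜 (Λ b)) := by
      rw [map_add, map_add]; ring
    rw [e]
    exact Ideal.add_mem _ ha hb

theorem rl_irrelevant_le_span_one {R M : Type u} [CommSemiring R] [AddCommMonoid M] [Module R M]
    (Λ : SymmetricAlgebra R M →+* A)
    (hΛ0 : ∀ r, Λ (algebraMap R (SymmetricAlgebra R M) r) ∈ 𝒜 0)
    (hΛ1 : ∀ m, Λ (SymmetricAlgebra.ι R M m) ∈ 𝒜 1) (hsurj : Function.Surjective Λ) :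
    (HomogeneousIdeal.irrelevant 𝒜).toIdeal ≤ Ideal.span ((𝒜 1 : AddSubgroup A) : Set A) := by
  intro x hx
  obtain ⟨z, rfl⟩ := hsurj x
  have h := rl_sub_projZero_mem_span 𝒜 Λ hΛ0 hΛ1 z
  rwa [GradedRing.projZeroRingHom_apply, ← GradedRing.proj_apply,
    (HomogeneousIdeal.mem_irrelevant_iff _ _).mp hx, sub_zero] at h

theorem rl_false_of_deg_le_prime {R M : Type u} [CommSemiring R] [AddCommMonoid M] [Module R M]
    (Λ : SymmetricAlgebra R M →+* A)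
    (hΛ0 : ∀ r, Λ (algebraMap R (SymmetricAlgebra R M) r) ∈ 𝒜 0)
    (hΛ1 : ∀ m, Λ (SymmetricAlgebra.ι R M m) ∈ 𝒜 1) (hsurj : Function.Surjective Λ)
    (y : Proj 𝒜) {n : ℕ} (hn : 0 < n)
    (h : ∀ x ∈ 𝒜 n, x ∈ y.asHomogeneousIdeal) : False := by
  apply y.not_irrelevant_le
  intro x hx
  have h1 := rl_irrelevant_le_span_one 𝒜 Λ hΛ0 hΛ1 hsurj hx
  have hle : Ideal.span ((𝒜 1 : AddSubgroup A) : Set A) ≤ y.asHomogeneousIdeal.toIdeal := by
    rw [Ideal.span_le]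
    intro l hl
    have h2 : l ^ n ∈ 𝒜 n := by
      have h3 := SetLike.pow_mem_graded n hl
      rwa [smul_eq_mul, mul_one] at h3
    exact y.isPrime.mem_of_pow_mem n (h _ h2)
  exact hle h1

theorem rl_isNilpotent_of_basicOpen_empty {n : ℕ} (hn : 0 < n) (s : A) (hs : s ∈ 𝒜 n)
    (h : ∀ z : Proj 𝒜, z ∉ Proj.basicOpen 𝒜 s) : IsNilpotent s := by
  have hsub : Subsingleton (Away 𝒜 s) := by
    by_contra hne
    rw [not_subsingleton_iff_nontrivial] at hne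
    haveI := hne
    obtain ⟨v⟩ : Nonempty (PrimeSpectrum (Away 𝒜 s)) := inferInstance
    exact h _ (awayι_mem_basicOpen 𝒜 hn s hs v)
  have h10 : (1 : Away 𝒜 s) = 0 := Subsingleton.elim _ _
  have h1 := congrArg HomogeneousLocalization.val h10
  rw [HomogeneousLocalization.val_one, HomogeneousLocalization.val_zero] at h1
  have h2 : Localization.mk (1 : A) (1 : Submonoid.powers s) = 0 := by
    rw [Localization.mk_one]; exact h1
  rw [Localization.mk_eq_mk', IsLocalization.mk'_eq_zero_iff] at h2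
  obtain ⟨⟨_, k, rfl⟩, hk⟩ := h2
  exact ⟨k, by simpa using hk⟩

theorem rl_exists_homog_basicOpen_le (z : Proj 𝒜) (O : (Proj 𝒜).Opens) (hz : z ∈ O) :
    ∃ (m : ℕ) (_ : 0 < m) (g : A) (_ : g ∈ 𝒜 m),
      z ∈ Proj.basicOpen 𝒜 g ∧ Proj.basicOpen 𝒜 g ≤ O := by
  obtain ⟨_, ⟨g₀, rfl⟩, hzg₀, hg₀O⟩ := Opens.isBasis_iff_nbhd.mp (Proj.isBasis_basicOpen 𝒜) hz
  have hzg₀' := hzg₀
  rw [Proj.basicOpen_eq_iSup_proj, Opens.mem_iSup] at hzg₀'
  obtain ⟨i, hi⟩ := hzg₀'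
  obtain ⟨k, hk, h, hh, hzh⟩ := exists_homog_basicOpen 𝒜 z
  have hgi : GradedRing.proj 𝒜 i g₀ ∈ 𝒜 i := by
    rw [GradedRing.proj_apply]; exact SetLike.coe_mem _
  refine ⟨i + k, by omega, GradedRing.proj 𝒜 i g₀ * h, SetLike.mul_mem_graded hgi hh, ?_, ?_⟩
  · rw [Proj.basicOpen_mul]; exact ⟨hi, hzh⟩
  · rw [Proj.basicOpen_mul]
    refine inf_le_left.trans (le_trans ?_ hg₀O)
    rw [Proj.basicOpen_eq_iSup_proj 𝒜 g₀]
    exact le_iSup (fun i => Proj.basicOpen 𝒜 (GradedRing.proj 𝒜 i g₀)) i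

end Ring

theorem le_pre {X Y : Scheme.{u}} (q : X ⟶ Y) (V : X.Opens) : V ≤ q ⁻¹ᵁ (⊤ : Y.Opens) :=
  le_top.trans (Scheme.Hom.preimage_top q).ge

theorem mem_preimage_iSup {X Y : Scheme.{u}} (f : X ⟶ Y) {ι : Sort*} (s : ι → Y.Opens) (x : X) :
    x ∈ f ⁻¹ᵁ (⨆ i, s i) ↔ ∃ i, f.base x ∈ s i := by
  show f.base x ∈ (⨆ i, s i) ↔ _
  exact Opens.mem_iSup

section Sch

variable {Y X P PL : Scheme.{u}} {q : X ⟶ Y} {L : X.Modules}
  {𝒮 : RelProj.QCGrAlg Y} {𝒮L : RelProj.QCGrAlg X} {j : L ⟶ 𝒮L.toModule}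
  (u : RelProj.QGrHom q 𝒮 𝒮L)
  {p : P ⟶ Y}
  (chart : ∀ (U : Y.Opens) (hU : IsAffineOpen U),
    (((p ⁻¹ᵁ U : P.Opens) : Scheme.{u}) ≅ Proj (𝒮.deg U hU)))
  {pL : PL ⟶ X}
  (chartL : ∀ (U : X.Opens) (hU : IsAffineOpen U),
    (((pL ⁻¹ᵁ U : PL.Opens) : Scheme.{u}) ≅ Proj (𝒮L.deg U hU)))

theorem exists_N [L.IsQuasicoherent] (hj : RelProj.IsGrSymAlg L 𝒮L j)
    (U : X.Opens) (hU : IsAffineOpen U) (e : Γ(L, U)) (he : IsBasisOver L U e) :
    (∀ (n : ℕ) (x : 𝒮L.presheaf.obj (op U)), x ∈ 𝒮L.deg U hU n →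
      ∃ r : Γ(X, U), x = (𝒮L.str.app (op U)).hom r * (Groth.Agent.H6.QA.sec j U e) ^ n) ∧
    (∀ (r : Γ(X, U)) (m : ℕ),
      (𝒮L.str.app (op U)).hom r * (Groth.Agent.H6.QA.sec j U e) ^ m = 0 → r = 0) := by
  have hbij : Function.Bijective (LinearMap.toSpanSingleton Γ(X, U) Γ(L, U) e) := by
    have h1 := he U le_rfl
    rw [res_self L le_rfl e] at h1
    exact h1
  let eqv : Γ(X, U) ≃ₗ[Γ(X, U)] Γ(L, U) :=
    LinearEquiv.ofBijective (LinearMap.toSpanSingleton Γ(X, U) Γ(L, U) e) hbij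
  let b : Module.Basis Unit Γ(X, U) Γ(L, U) := (Module.Basis.singleton Unit Γ(X, U)).map eqv
  have hb : b () = e := by
    show eqv ((Module.Basis.singleton Unit Γ(X, U)) ()) = e
    rw [Module.Basis.singleton_apply]
    show (1 : Γ(X, U)) • e = e
    exact one_smul _ _
  let t : 𝒮L.presheaf.obj (op U) := Groth.Agent.H6.QA.sec j U e
  have ht : t ∈ 𝒮L.deg U hU 1 := hj.2 U hU e
  let Ψ : MvPolynomial Unit Γ(X, U) →+* 𝒮L.presheaf.obj (op U) :=
    (liftSec L 𝒮L.toQCAlg j U).comp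
      ((SymmetricAlgebra.equivMvPolynomial b).symm : MvPolynomial Unit Γ(X, U) →+* _)
  have hΨC : ∀ r, Ψ (MvPolynomial.C r) = (𝒮L.str.app (op U)).hom r := by
    intro r
    show liftSec L 𝒮L.toQCAlg j U
      ((SymmetricAlgebra.equivMvPolynomial b).symm (MvPolynomial.C r)) = _
    rw [← MvPolynomial.algebraMap_eq, AlgEquiv.commutes, liftSec_algebraMap]
  have hΨX : Ψ (MvPolynomial.X ()) = t := by
    show liftSec L 𝒮L.toQCAlg j U
      ((SymmetricAlgebra.equivMvPolynomial b).symm (MvPolynomial.X ())) = _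
    rw [SymmetricAlgebra.equivMvPolynomial_symm_X, hb, liftSec_ι]
  have hΨbij : Function.Bijective Ψ :=
    (liftSec_bijective hj.1 U hU).comp (SymmetricAlgebra.equivMvPolynomial b).symm.bijective
  exact ⟨fun n x hx => exists_eq_mul_pow (𝒮L.str.app (op U)).hom (𝒮L.str_mem U hU) t ht Ψ hΨC hΨX
      hΨbij.2 n x hx,
    fun r m h => eq_zero_of_mul_pow_eq_zero (𝒮L.str.app (op U)).hom t Ψ hΨC hΨX hΨbij.1 r m h⟩

theorem notMem_of_deg_le_span [L.IsQuasicoherent] (hj : RelProj.IsGrSymAlg L 𝒮L j)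
    (V : X.Opens) (hV : IsAffineOpen V) (y : Proj (𝒮L.deg V hV)) {n : ℕ} (hn : 0 < n)
    (s : 𝒮L.presheaf.obj (op V))
    (hs : ((𝒮L.deg V hV n : AddSubgroup (𝒮L.presheaf.obj (op V))) :
        Set (𝒮L.presheaf.obj (op V))) ⊆
      (Ideal.span {s} : Set (𝒮L.presheaf.obj (op V)))) :
    s ∉ y.asHomogeneousIdeal := by
  intro hsy
  refine rl_false_of_deg_le_prime (𝒮L.deg V hV) (liftSec L 𝒮L.toQCAlg j V) ?_ ?_
    (liftSec_bijective hj.1 V hV).2 y hn ?_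
  · intro r
    rw [liftSec_algebraMap]
    exact 𝒮L.str_mem V hV r
  · intro m
    rw [liftSec_ι]
    exact hj.2 V hV m
  · intro x hx
    have h1 : x ∈ Ideal.span {s} := hs hx
    rw [Ideal.mem_span_singleton'] at h1
    obtain ⟨a, rfl⟩ := h1
    exact Ideal.mul_mem_left y.asHomogeneousIdeal.toIdeal a hsy

theorem pL_emb_mem_basicOpen_iff (hPL : RelProj.IsRelProj 𝒮L pL chartL) (V : X.Opens)
    (hV : IsAffineOpen V) (y : Proj (𝒮L.deg V hV)) (a : Γ(X, V)) :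
    pL.base ((RelProj.emb pL chartL V hV).base y) ∈ X.basicOpen a ↔
      (𝒮L.str.app (op V)).hom a ∉ y.asHomogeneousIdeal := by
  have h1 := congrArg (fun k : Proj (𝒮L.deg V hV) ⟶ X => k.base y) (emb_over pL chartL hPL V hV)
  have h2 : pL.base ((RelProj.emb pL chartL V hV).base y) =
      hV.fromSpec.base ((Spec.map (𝒮L.strZero V hV)).base
        ((Proj.toSpecZero (𝒮L.deg V hV)).base y)) := h1
  rw [h2]
  have h3 : hV.fromSpec.base ((Spec.map (𝒮L.strZero V hV)).base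
        ((Proj.toSpecZero (𝒮L.deg V hV)).base y)) ∈ X.basicOpen a ↔
      (Spec.map (𝒮L.strZero V hV)).base ((Proj.toSpecZero (𝒮L.deg V hV)).base y) ∈
        hV.fromSpec ⁻¹ᵁ X.basicOpen a := Iff.rfl
  rw [h3, hV.fromSpec_preimage_basicOpen]
  exact not_congr (rl_mem_toSpecZero_iff (𝒮L.deg V hV) y _ (𝒮L.str_mem V hV a))

theorem exists_affine_of_notMem [L.IsQuasicoherent] (hL : PicF.IsInvertible L)
    (hj : RelProj.IsGrSymAlg L 𝒮L j) (hPL : RelProj.IsRelProj 𝒮L pL chartL)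
    (hY : IsAffineOpen (⊤ : Y.Opens)) (d : ℕ) (f : 𝒮.presheaf.obj (op ⊤))
    (hf : f ∈ 𝒮.deg ⊤ hY d)
    (V : X.Opens) (hV : IsAffineOpen V) (y : Proj (𝒮L.deg V hV))
    (hy : (u.appLE ⊤ V (le_pre q V)).hom f ∉ y.asHomogeneousIdeal) :
    ∃ (V' : X.Opens) (hV' : IsAffineOpen V'),
      pL.base ((RelProj.emb pL chartL V hV).base y) ∈ V' ∧
      ((𝒮L.deg V' hV' d : AddSubgroup (𝒮L.presheaf.obj (op V'))) :
          Set (𝒮L.presheaf.obj (op V'))) ⊆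
        (Ideal.span {(u.appLE ⊤ V' (le_pre q V')).hom f} : Set (𝒮L.presheaf.obj (op V'))) := by
  have hxV : pL.base ((RelProj.emb pL chartL V hV).base y) ∈ V := emb_mem pL chartL V hV y
  obtain ⟨U₀, e₀, hxU₀, he₀⟩ := (isInvertible_iff_exists_isBasisOver L).mp hL
    (pL.base ((RelProj.emb pL chartL V hV).base y))
  obtain ⟨r, hrU₀, hxr⟩ := hV.exists_basicOpen_le ⟨_, hxU₀⟩ hxV
  have hW : IsAffineOpen (X.basicOpen r) := hV.basicOpen r
  have hWV : X.basicOpen r ≤ V := X.basicOpen_le r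
  have he : IsBasisOver L (X.basicOpen r) (L.presheaf.map (homOfLE hrU₀).op e₀) := he₀.mono hrU₀
  obtain ⟨N1, -⟩ := exists_N hj (X.basicOpen r) hW _ he
  have irr' := irr_res (𝒜 := 𝒮L) V (X.basicOpen r) hV hW hWV r rfl
  obtain ⟨w, hw⟩ := exists_emb pL chartL ((RelProj.emb pL chartL V hV).base y) (X.basicOpen r)
    hW hxr
  have e1 : (Proj.map (𝒮L.res hV hW hWV) irr').base w = y := by
    apply (RelProj.emb pL chartL V hV).isOpenEmbedding.injective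
    have k1 := congrArg (fun k : Proj (𝒮L.deg (X.basicOpen r) hW) ⟶ PL => k.base w)
      (emb_res pL chartL hPL V (X.basicOpen r) hV hW hWV r rfl irr')
    exact k1.trans hw
  have hsW : (𝒮L.presheaf.map (homOfLE hWV).op).hom ((u.appLE ⊤ V (le_pre q V)).hom f) =
      (u.appLE ⊤ (X.basicOpen r) (le_pre q _)).hom f :=
    congrArg (fun t : 𝒮.presheaf.obj (op ⊤) ⟶ 𝒮L.presheaf.obj (op (X.basicOpen r)) => t.hom f)
      (u.appLE_map (le_pre q V) hWV)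
  have hsw : (u.appLE ⊤ (X.basicOpen r) (le_pre q _)).hom f ∉ w.asHomogeneousIdeal := by
    intro hcon
    apply hy
    have h5 : (𝒮L.res hV hW hWV) ((u.appLE ⊤ V (le_pre q V)).hom f) ∈ w.asHomogeneousIdeal := by
      rw [RelProj.QCGrAlg.res_apply, hsW]
      exact hcon
    rw [← e1]
    exact h5
  have hsdeg : (u.appLE ⊤ (X.basicOpen r) (le_pre q _)).hom f ∈ 𝒮L.deg (X.basicOpen r) hW d :=
    u.map_mem ⊤ hY (X.basicOpen r) hW (le_pre q _) hf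
  obtain ⟨a, ha⟩ := N1 d _ hsdeg
  have haw : (𝒮L.str.app (op (X.basicOpen r))).hom a ∉ w.asHomogeneousIdeal := by
    intro hcon
    apply hsw
    rw [ha]
    exact Ideal.mul_mem_right _ w.asHomogeneousIdeal.toIdeal hcon
  have hxa : pL.base ((RelProj.emb pL chartL (X.basicOpen r) hW).base w) ∈ X.basicOpen a :=
    (pL_emb_mem_basicOpen_iff chartL hPL (X.basicOpen r) hW w a).mpr haw
  rw [hw] at hxa
  have hV' : IsAffineOpen (X.basicOpen a) := hW.basicOpen a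
  have hV'W : X.basicOpen a ≤ X.basicOpen r := X.basicOpen_le a
  refine ⟨X.basicOpen a, hV', hxa, ?_⟩
  have he' : IsBasisOver L (X.basicOpen a)
      (L.presheaf.map (homOfLE hV'W).op (L.presheaf.map (homOfLE hrU₀).op e₀)) := he.mono hV'W
  obtain ⟨N1', -⟩ := exists_N hj (X.basicOpen a) hV' _ he'
  have hun : IsUnit ((X.presheaf.map (homOfLE hV'W).op).hom a) :=
    X.toRingedSpace.isUnit_res_basicOpen a
  obtain ⟨c, hc⟩ := hun.exists_right_inv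
  have hs' : (u.appLE ⊤ (X.basicOpen a) (le_pre q _)).hom f =
      (𝒮L.str.app (op (X.basicOpen a))).hom ((X.presheaf.map (homOfLE hV'W).op).hom a) *
        (Groth.Agent.H6.QA.sec j (X.basicOpen a)
          (L.presheaf.map (homOfLE hV'W).op (L.presheaf.map (homOfLE hrU₀).op e₀))) ^ d := by
    have h1 : (𝒮L.presheaf.map (homOfLE hV'W).op).hom
        ((u.appLE ⊤ (X.basicOpen r) (le_pre q _)).hom f) =
        (u.appLE ⊤ (X.basicOpen a) (le_pre q _)).hom f :=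
      congrArg (fun t : 𝒮.presheaf.obj (op ⊤) ⟶ 𝒮L.presheaf.obj (op (X.basicOpen a)) => t.hom f)
        (u.appLE_map (le_pre q _) hV'W)
    rw [← h1, ha, map_mul, map_pow, Groth.Agent.H6.QA.str_res, Groth.Agent.H6.QA.sec_res]
  intro z hz
  obtain ⟨b, hb⟩ := N1' d z hz
  show z ∈ Ideal.span {(u.appLE ⊤ (X.basicOpen a) (le_pre q _)).hom f}
  rw [Ideal.mem_span_singleton']
  refine ⟨(𝒮L.str.app (op (X.basicOpen a))).hom (b * c), ?_⟩
  have h2 : (𝒮L.str.app (op (X.basicOpen a))).hom ((X.presheaf.map (homOfLE hV'W).op).hom a) *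
      (𝒮L.str.app (op (X.basicOpen a))).hom c = 1 := by
    rw [← map_mul, hc, map_one]
  rw [hs', hb, map_mul]
  linear_combination ((𝒮L.str.app (op (X.basicOpen a))).hom b *
    (Groth.Agent.H6.QA.sec j (X.basicOpen a)
      (L.presheaf.map (homOfLE hV'W).op (L.presheaf.map (homOfLE hrU₀).op e₀))) ^ d) * h2

theorem exists_y_of_mem_preimage (hPL : RelProj.IsRelProj 𝒮L pL chartL)
    (r : ((RelProj.domQ u pL chartL : PL.Opens) : Scheme.{u}) ⟶ P)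
    (hr : RelProj.IsProjQMapOn u p chart pL chartL (RelProj.domQ u pL chartL) r)
    (hY : IsAffineOpen (⊤ : Y.Opens)) {d : ℕ} (hd : 0 < d) (f : 𝒮.presheaf.obj (op ⊤))
    (hf : f ∈ 𝒮.deg ⊤ hY d)
    (e : ((RelProj.domQ u pL chartL : PL.Opens) : Scheme.{u}))
    (he : r.base e ∈ (RelProj.emb p chart ⊤ hY) ''ᵁ Proj.basicOpen (𝒮.deg ⊤ hY) f)
    (V : X.Opens) (hV : IsAffineOpen V)
    (hxV : pL.base ((RelProj.domQ u pL chartL).ι.base e) ∈ V) :
    ∃ y : Proj (𝒮L.deg V hV),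
      (RelProj.emb pL chartL V hV).base y = (RelProj.domQ u pL chartL).ι.base e ∧
      (u.appLE ⊤ V (le_pre q V)).hom f ∉ y.asHomogeneousIdeal := by
  have hr' := (isProjQMapOn_iff u p chart pL chartL r).mp hr
  obtain ⟨z, hz, hze⟩ := he
  have hxV' : ((RelProj.domQ u pL chartL).ι ≫ pL).base e ∈ V := hxV
  obtain ⟨d', hd', f', hf', w', rfl⟩ :=
    cover_aq_over u pL chartL hPL e ⊤ hY V hV (le_pre q V) hxV'
  have h3 := congrArg (fun t : Spec (CommRingCat.of (Away (𝒮L.deg V hV)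
    ((u.gradedAt ⊤ hY V hV (le_pre q V)) f'))) ⟶ P => t.base w')
    (hr' ⊤ hY V hV (le_pre q V) d' hd' f' hf')
  have h4 : z = (Proj.awayι (𝒮.deg ⊤ hY) f' hf' hd').base
      ((Spec.map (CommRingCat.ofHom
        (Away.map (u.gradedAt ⊤ hY V hV (le_pre q V)) f'))).base w') := by
    apply (RelProj.emb p chart ⊤ hY).isOpenEmbedding.injective
    exact hze.trans h3
  have h5 : (Proj.awayι (𝒮.deg ⊤ hY) f' hf' hd').base
      ((Spec.map (CommRingCat.ofHom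
        (Away.map (u.gradedAt ⊤ hY V hV (le_pre q V)) f'))).base w') ∈
      Proj.basicOpen (𝒮.deg ⊤ hY) f := by
    rw [← h4]; exact hz
  have h6 := (mem_basicOpen_iff_ring (u.gradedAt ⊤ hY V hV (le_pre q V)) hd hd' hf hf' w').mpr h5
  refine ⟨(Proj.awayι (𝒮L.deg V hV) _
    (Graded.map_mem (u.gradedAt ⊤ hY V hV (le_pre q V)) hf') hd').base w', ?_, ?_⟩
  · have k2 := congrArg (fun t : Spec (CommRingCat.of (Away (𝒮L.deg V hV)
      ((u.gradedAt ⊤ hY V hV (le_pre q V)) f'))) ⟶ PL => t.base w')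
      (aq_ι u pL chartL ⊤ hY V hV (le_pre q V) hd' f' hf')
    exact k2.symm
  · exact (ProjectiveSpectrum.mem_basicOpen _ _ _).mp h6

theorem exists_e_of_notMem
    (r : ((RelProj.domQ u pL chartL : PL.Opens) : Scheme.{u}) ⟶ P)
    (hr : RelProj.IsProjQMapOn u p chart pL chartL (RelProj.domQ u pL chartL) r)
    (hY : IsAffineOpen (⊤ : Y.Opens)) {d : ℕ} (hd : 0 < d) (f : 𝒮.presheaf.obj (op ⊤))
    (hf : f ∈ 𝒮.deg ⊤ hY d)
    (V : X.Opens) (hV : IsAffineOpen V) (y : Proj (𝒮L.deg V hV))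
    (hy : (u.appLE ⊤ V (le_pre q V)).hom f ∉ y.asHomogeneousIdeal) :
    ∃ e : ((RelProj.domQ u pL chartL : PL.Opens) : Scheme.{u}),
      (RelProj.domQ u pL chartL).ι.base e = (RelProj.emb pL chartL V hV).base y ∧
      r.base e ∈ (RelProj.emb p chart ⊤ hY) ''ᵁ Proj.basicOpen (𝒮.deg ⊤ hY) f := by
  have hr' := (isProjQMapOn_iff u p chart pL chartL r).mp hr
  obtain ⟨w, hw⟩ := exists_awayι_eq (𝒮L.deg V hV) hd _
    (Graded.map_mem (u.gradedAt ⊤ hY V hV (le_pre q V)) hf) y hy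
  refine ⟨(aq u pL chartL ⊤ hY V hV (le_pre q V) hd f hf).base w, ?_, ?_⟩
  · have k1 := congrArg (fun t : Spec (CommRingCat.of (Away (𝒮L.deg V hV)
      ((u.gradedAt ⊤ hY V hV (le_pre q V)) f))) ⟶ PL => t.base w)
      (aq_ι u pL chartL ⊤ hY V hV (le_pre q V) hd f hf)
    have k2 : (RelProj.awayEmb u pL chartL ⊤ hY V hV (le_pre q V) hd f hf).base w =
        (RelProj.emb pL chartL V hV).base y := by
      show (RelProj.emb pL chartL V hV).base ((Proj.awayι _ _ _ _).base w) = _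
      rw [hw]
    exact k1.trans k2
  · have h3 := congrArg (fun t : Spec (CommRingCat.of (Away (𝒮L.deg V hV)
      ((u.gradedAt ⊤ hY V hV (le_pre q V)) f))) ⟶ P => t.base w)
      (hr' ⊤ hY V hV (le_pre q V) d hd f hf)
    exact ⟨_, awayι_mem_basicOpen (𝒮.deg ⊤ hY) hd f hf
      ((Spec.map (CommRingCat.ofHom
        (Away.map (u.gradedAt ⊤ hY V hV (le_pre q V)) f))).base w), h3.symm⟩

theorem exists_nilpotent_of_forall_notMem (hL : PicF.IsInvertible L) (hLq : Coh.IsQCoh L)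
    (hj : RelProj.IsGrSymAlg L 𝒮L j) (hPL : RelProj.IsRelProj 𝒮L pL chartL)
    (r : ((RelProj.domQ u pL chartL : PL.Opens) : Scheme.{u}) ⟶ P)
    (hr : RelProj.IsProjQMapOn u p chart pL chartL (RelProj.domQ u pL chartL) r)
    (hY : IsAffineOpen (⊤ : Y.Opens)) {m : ℕ} (hm : 0 < m) (g : 𝒮.presheaf.obj (op ⊤))
    (hg : g ∈ 𝒮.deg ⊤ hY m)
    (hdis : ∀ e, r.base e ∉ (RelProj.emb p chart ⊤ hY) ''ᵁ Proj.basicOpen (𝒮.deg ⊤ hY) g)
    (x : X) :
    ∃ (V : X.Opens) (_ : IsAffineOpen V), x ∈ V ∧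
      IsNilpotent ((u.appLE ⊤ V (le_pre q V)).hom g) := by
  haveI : L.IsQuasicoherent := hLq
  haveI : IsIso pL := main_S12143 L hL hLq 𝒮L j hj pL chartL hPL
  obtain ⟨U₀, e₀, hxU₀, he₀⟩ := (isInvertible_iff_exists_isBasisOver L).mp hL x
  obtain ⟨V, hV, hxV, hle⟩ := Opens.isBasis_iff_nbhd.mp X.isBasis_affineOpens hxU₀
  have he := he₀.mono hle
  obtain ⟨N1, -⟩ := exists_N hj V hV _ he
  refine ⟨V, hV, hxV, ?_⟩
  have hsdeg : (u.appLE ⊤ V (le_pre q V)).hom g ∈ 𝒮L.deg V hV m :=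
    u.map_mem ⊤ hY V hV (le_pre q V) hg
  obtain ⟨a, ha⟩ := N1 m _ hsdeg
  have hanil : IsNilpotent a := by
    rw [Scheme.isNilpotent_iff_basicOpen_eq_bot_of_isCompact hV.isCompact a, eq_bot_iff]
    intro x₁ hx₁
    exfalso
    obtain ⟨x₁', hx₁'⟩ : ∃ x₁', pL.base x₁' = x₁ := pL.homeomorph.surjective x₁
    subst hx₁'
    have hx₁V : pL.base x₁' ∈ V := X.basicOpen_le a hx₁
    obtain ⟨y, rfl⟩ := exists_emb pL chartL x₁' V hV hx₁V
    have hay := (pL_emb_mem_basicOpen_iff chartL hPL V hV y a).mp hx₁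
    have hty : Groth.Agent.H6.QA.sec j V (L.presheaf.map (homOfLE hle).op e₀) ∉
        y.asHomogeneousIdeal := by
      refine notMem_of_deg_le_span hj V hV y one_pos _ ?_
      intro z hz
      obtain ⟨b, hb⟩ := N1 1 z hz
      show z ∈ Ideal.span {Groth.Agent.H6.QA.sec j V (L.presheaf.map (homOfLE hle).op e₀)}
      rw [Ideal.mem_span_singleton']
      exact ⟨(𝒮L.str.app (op V)).hom b, by rw [hb, pow_one]⟩
    have hsy : (u.appLE ⊤ V (le_pre q V)).hom g ∉ y.asHomogeneousIdeal := by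
      rw [ha]
      intro hcon
      rcases y.isPrime.mem_or_mem hcon with h' | h'
      · exact hay h'
      · exact hty (y.isPrime.mem_of_pow_mem m h')
    obtain ⟨e, -, he2⟩ := exists_e_of_notMem u chart chartL r hr hY hm g hg V hV y hsy
    exact hdis e he2
  obtain ⟨k, hk⟩ := hanil
  exact ⟨k, by rw [ha, mul_pow, ← map_pow, hk, map_zero, zero_mul]⟩

end Sch

theorem main_S12144 {Y X P PL : Scheme.{u}} (q : X ⟶ Y)
    (L : X.Modules) (hL : PicF.IsInvertible L) (hLq : Coh.IsQCoh L)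
    (𝒮 : RelProj.QCGrAlg Y) (𝒮L : RelProj.QCGrAlg X) (j : L ⟶ 𝒮L.toModule) (hj : RelProj.IsGrSymAlg L 𝒮L j)
    (u : RelProj.QGrHom q 𝒮 𝒮L)
    (p : P ⟶ Y) (chart : ∀ (U : Y.Opens) (hU : IsAffineOpen U), (((p ⁻¹ᵁ U : P.Opens) : Scheme.{u}) ≅ Proj (𝒮.deg U hU)))
    (hP : RelProj.IsRelProj 𝒮 p chart)
    (pL : PL ⟶ X) (chartL : ∀ (U : X.Opens) (hU : IsAffineOpen U), (((pL ⁻¹ᵁ U : PL.Opens) : Scheme.{u}) ≅ Proj (𝒮L.deg U hU)))
    (hPL : RelProj.IsRelProj 𝒮L pL chartL)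
    (r : ((RelProj.domQ u pL chartL : PL.Opens) : Scheme.{u}) ⟶ P)
    (hr : RelProj.IsProjQMapOn u p chart pL chartL (RelProj.domQ u pL chartL) r)
    (hY : IsAffineOpen (⊤ : Y.Opens)) (d : ℕ) (hd : 0 < d) (f : 𝒮.presheaf.obj (op ⊤)) (hf : f ∈ 𝒮.deg ⊤ hY d) :
    (RelProj.domQ u pL chartL).ι ''ᵁ (r ⁻¹ᵁ ((RelProj.emb p chart ⊤ hY) ''ᵁ Proj.basicOpen (𝒮.deg ⊤ hY) f)) =
      pL ⁻¹ᵁ
        (⨆ V : {V : X.affineOpens //
          ((𝒮L.deg V.1 V.2 d : AddSubgroup (𝒮L.presheaf.obj (op (V.1 : X.Opens)))) : Set (𝒮L.presheaf.obj (op (V.1 : X.Opens)))) ⊆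
            (Ideal.span {(u.appLE ⊤ (V.1 : X.Opens) (le_top.trans (Scheme.Hom.preimage_top q).ge)).hom f} : Set (𝒮L.presheaf.obj (op (V.1 : X.Opens))))},
          (V.1.1 : X.Opens)) := by
  haveI : L.IsQuasicoherent := hLq
  refine SetLike.ext (fun x' => ⟨?_, ?_⟩)
  · rintro ⟨e, he, rfl⟩
    obtain ⟨V, hV, hxV, -⟩ := Opens.isBasis_iff_nbhd.mp X.isBasis_affineOpens
      (show pL.base ((RelProj.domQ u pL chartL).ι.base e) ∈ (⊤ : X.Opens) from trivial)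
    obtain ⟨y, hy1, hy2⟩ :=
      exists_y_of_mem_preimage u chart chartL hPL r hr hY hd f hf e he V hV hxV
    obtain ⟨V', hV', hxV', hsub⟩ :=
      exists_affine_of_notMem u chartL hL hj hPL hY d f hf V hV y hy2
    rw [hy1] at hxV'
    exact (mem_preimage_iSup pL _ _).mpr ⟨⟨⟨V', hV'⟩, hsub⟩, hxV'⟩
  · intro hx'
    obtain ⟨⟨⟨V, hV⟩, hsub⟩, hxV⟩ := (mem_preimage_iSup pL _ x').mp hx'
    obtain ⟨y, rfl⟩ := exists_emb pL chartL x' V hV hxV
    have hsy := notMem_of_deg_le_span hj V hV y hd _ hsub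
    obtain ⟨e, he1, he2⟩ := exists_e_of_notMem u chart chartL r hr hY hd f hf V hV y hsy
    exact ⟨e, he2, he1⟩

theorem main_S12145 {Y X P PL : Scheme.{u}} (q : X ⟶ Y)
    (L : X.Modules) (hL : PicF.IsInvertible L) (hLq : Coh.IsQCoh L)
    (𝒮 : RelProj.QCGrAlg Y) (𝒮L : RelProj.QCGrAlg X) (j : L ⟶ 𝒮L.toModule) (hj : RelProj.IsGrSymAlg L 𝒮L j)
    (u : RelProj.QGrHom q 𝒮 𝒮L)
    (p : P ⟶ Y) (chart : ∀ (U : Y.Opens) (hU : IsAffineOpen U), (((p ⁻¹ᵁ U : P.Opens) : Scheme.{u}) ≅ Proj (𝒮.deg U hU)))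
    (hP : RelProj.IsRelProj 𝒮 p chart)
    (pL : PL ⟶ X) (chartL : ∀ (U : X.Opens) (hU : IsAffineOpen U), (((pL ⁻¹ᵁ U : PL.Opens) : Scheme.{u}) ≅ Proj (𝒮L.deg U hU)))
    (hPL : RelProj.IsRelProj 𝒮L pL chartL)
    (hY : IsAffineOpen (⊤ : Y.Opens)) :
    RelProj.domQ u pL chartL = ⊤ ↔
      ∀ x : X, ∃ (n : ℕ) (_ : 0 < n) (s : 𝒮.presheaf.obj (op ⊤)) (_ : s ∈ 𝒮.deg ⊤ hY n)
        (V : X.Opens) (hV : IsAffineOpen V), x ∈ V ∧
          ((𝒮L.deg V hV n : AddSubgroup (𝒮L.presheaf.obj (op V))) : Set (𝒮L.presheaf.obj (op V))) ⊆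
            (Ideal.span {(u.appLE ⊤ V (le_top.trans (Scheme.Hom.preimage_top q).ge)).hom s} : Set (𝒮L.presheaf.obj (op V))) := by
  haveI : L.IsQuasicoherent := hLq
  constructor
  · intro hdom x
    haveI : IsIso pL := main_S12143 L hL hLq 𝒮L j hj pL chartL hPL
    obtain ⟨x', hx'x⟩ : ∃ x', pL.base x' = x := pL.homeomorph.surjective x
    subst hx'x
    have hx' : x' ∈ RelProj.domQ u pL chartL := by rw [hdom]; trivial
    obtain ⟨V, hV, hxV, -⟩ := Opens.isBasis_iff_nbhd.mp X.isBasis_affineOpens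
      (show pL.base x' ∈ (⊤ : X.Opens) from trivial)
    obtain ⟨y, rfl⟩ := exists_emb pL chartL x' V hV hxV
    rw [mem_domQ_iff u pL chartL hPL ⊤ hY V hV (le_pre q V) y, RelCone.mem_domOpen] at hx'
    obtain ⟨f, hf, hfy⟩ := hx'
    obtain ⟨d, hd, g, hg, hgI⟩ := ConeAlg.exists_homog_notMem (𝒮.deg ⊤ hY)
      (Ideal.comap (u.gradedAt ⊤ hY V hV (le_pre q V)) y.asHomogeneousIdeal.toIdeal) hf hfy
    obtain ⟨V', hV', hxV', hsub⟩ :=
      exists_affine_of_notMem u chartL hL hj hPL hY d g hg V hV y hgI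
    exact ⟨d, hd, g, hg, V', hV', hxV', hsub⟩
  · intro h
    rw [eq_top_iff]
    intro x' _
    obtain ⟨n, hn, s, hs, V, hV, hxV, hsub⟩ := h (pL.base x')
    obtain ⟨y, rfl⟩ := exists_emb pL chartL x' V hV hxV
    show _ ∈ RelProj.domQ u pL chartL
    rw [mem_domQ_iff u pL chartL hPL ⊤ hY V hV (le_pre q V) y, RelCone.mem_domOpen]
    exact ⟨s, HomogeneousIdeal.mem_irrelevant_of_mem _ hn hs,
      notMem_of_deg_le_span hj V hV y hn _ hsub⟩

theorem main_S12146 {Y X P PL : Scheme.{u}} (q : X ⟶ Y)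
    (L : X.Modules) (hL : PicF.IsInvertible L) (hLq : Coh.IsQCoh L)
    (𝒮 : RelProj.QCGrAlg Y) (𝒮L : RelProj.QCGrAlg X) (j : L ⟶ 𝒮L.toModule) (hj : RelProj.IsGrSymAlg L 𝒮L j)
    (u : RelProj.QGrHom q 𝒮 𝒮L)
    (p : P ⟶ Y) (chart : ∀ (U : Y.Opens) (hU : IsAffineOpen U), (((p ⁻¹ᵁ U : P.Opens) : Scheme.{u}) ≅ Proj (𝒮.deg U hU)))
    (hP : RelProj.IsRelProj 𝒮 p chart)
    (pL : PL ⟶ X) (chartL : ∀ (U : X.Opens) (hU : IsAffineOpen U), (((pL ⁻¹ᵁ U : PL.Opens) : Scheme.{u}) ≅ Proj (𝒮L.deg U hU)))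
    (hPL : RelProj.IsRelProj 𝒮L pL chartL)
    (r : ((RelProj.domQ u pL chartL : PL.Opens) : Scheme.{u}) ⟶ P)
    (hr : RelProj.IsProjQMapOn u p chart pL chartL (RelProj.domQ u pL chartL) r)
    (hY : IsAffineOpen (⊤ : Y.Opens)) :
    IsDominant r ↔
      ∀ (n : ℕ), 0 < n → ∀ s ∈ 𝒮.deg ⊤ hY n,
        (∀ x : X, ∃ (V : X.Opens) (_ : IsAffineOpen V), x ∈ V ∧ IsNilpotent ((u.appLE ⊤ V (le_top.trans (Scheme.Hom.preimage_top q).ge)).hom s)) →
          IsNilpotent s := by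
  haveI : L.IsQuasicoherent := hLq
  constructor
  · intro hdom n hn s hs hloc
    have hempty : ∀ e, r.base e ∉
        (RelProj.emb p chart ⊤ hY) ''ᵁ Proj.basicOpen (𝒮.deg ⊤ hY) s := by
      intro e he
      obtain ⟨V, hV, hxV, hnil⟩ := hloc (pL.base ((RelProj.domQ u pL chartL).ι.base e))
      obtain ⟨y, hy1, hy2⟩ :=
        exists_y_of_mem_preimage u chart chartL hPL r hr hY hn s hs e he V hV hxV
      apply hy2
      obtain ⟨k, hk⟩ := hnil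
      have h0 : (u.appLE ⊤ V (le_pre q V)).hom s ^ k = 0 := hk
      exact y.isPrime.mem_of_pow_mem k (by rw [h0]; exact Ideal.zero_mem _)
    have hbot : ∀ z : Proj (𝒮.deg ⊤ hY), z ∉ Proj.basicOpen (𝒮.deg ⊤ hY) s := by
      intro z hz
      have hden : Dense (Set.range r.base) := (isDominant_iff r).mp hdom
      obtain ⟨_, ⟨e, rfl⟩, he⟩ := hden.exists_mem_open
        ((RelProj.emb p chart ⊤ hY) ''ᵁ Proj.basicOpen (𝒮.deg ⊤ hY) s).isOpen
        ⟨(RelProj.emb p chart ⊤ hY).base z, z, hz, rfl⟩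
      exact hempty e he
    exact rl_isNilpotent_of_basicOpen_empty (𝒮.deg ⊤ hY) hn s hs hbot
  · intro hcond
    refine (isDominant_iff r).mpr (dense_iff_inter_open.mpr ?_)
    intro O hO hOne
    by_contra hcon
    obtain ⟨z', hz'⟩ := hOne
    obtain ⟨z, rfl⟩ := exists_emb p chart z' ⊤ hY trivial
    have hzO' : z ∈ (RelProj.emb p chart ⊤ hY) ⁻¹ᵁ (⟨O, hO⟩ : P.Opens) := hz'
    obtain ⟨m, hm, g, hg, hzg, hgO⟩ := rl_exists_homog_basicOpen_le (𝒮.deg ⊤ hY) z _ hzO'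
    have hdis : ∀ e, r.base e ∉
        (RelProj.emb p chart ⊤ hY) ''ᵁ Proj.basicOpen (𝒮.deg ⊤ hY) g := by
      rintro e ⟨z₁, hz₁, hz₁e⟩
      apply hcon
      refine ⟨r.base e, ?_, e, rfl⟩
      rw [← hz₁e]
      exact hgO hz₁
    have hnil : IsNilpotent g := hcond m hm g hg (fun x =>
      exists_nilpotent_of_forall_notMem u chart chartL hL hLq hj hPL r hr hY hm g hg hdis x)
    obtain ⟨k, hk⟩ := hnil
    exact (ProjectiveSpectrum.mem_basicOpen _ _ _).mp hzg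
      (z.isPrime.mem_of_pow_mem k (by rw [hk]; exact Ideal.zero_mem _))

end Groth.Agent.H4.ProjSymL2
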