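import Groth.Agent.H4.ProjSymL2
import Groth.Agent.H4.ProjBC2

set_option autoImplicit false
set_option linter.style.haveILetI false
set_option linter.unusedSectionVars false
set_option linter.unusedVariables false

namespace Groth.Agent.H4.ProjSymL3

open CategoryTheory CategoryTheory.Limits AlgebraicGeometry TopologicalSpace Opposite
open HomogeneousLocalization
open Groth.Agent.H4 Groth.Agent.H4.RelSpecLib Groth.Agent.H4.ConeImm Groth.Agent.H4.ConeInf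
open Groth.Agent.H4.ConeRetrAlg Groth.Agent.H4.ConeRetr Groth.Agent.H4.ConeRetr2
open Groth.Agent.H4.ProjQ Groth.Agent.H4.ProjQ2 Groth.Agent.H4.ProjBC Groth.Agent.H4.ProjBC2
open Groth.Agent.H4.ProjSymL Groth.Agent.H4.ProjSymL2
open Groth.Agent.LD.QC Groth.Agent.H6.Sym
open scoped HomogeneousIdeal

universe u

theorem surjective_of_isClosedImmersion_SpecMap {R S : CommRingCat.{u}} (φ : R ⟶ S)
    [IsClosedImmersion (Spec.map φ)] : Function.Surjective φ.hom := by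
  have h := (IsClosedImmersion.isAffine_surjective_of_isAffine (Spec.map φ)).2
  have nat := Scheme.ΓSpecIso_naturality φ
  intro y
  obtain ⟨x, hx⟩ := h ((Scheme.ΓSpecIso S).inv.hom y)
  refine ⟨(Scheme.ΓSpecIso R).hom.hom x, ?_⟩
  have h1 := congrArg (fun t : Γ(Spec R, ⊤) ⟶ S => t.hom x) nat
  have h2 : (Scheme.ΓSpecIso S).hom.hom ((Spec.map φ).appTop.hom x) =
      φ.hom ((Scheme.ΓSpecIso R).hom.hom x) := h1
  rw [← h2]
  have h3 : (Spec.map φ).appTop.hom x = (Scheme.ΓSpecIso S).inv.hom y := hx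
  rw [h3]
  have h4 := congrArg (fun t : S ⟶ S => t.hom y) (Scheme.ΓSpecIso S).inv_hom_id
  exact h4

section RingPhi

variable {A S₀ R : Type u} [CommRing A] [CommRing S₀] [CommRing R]
  {𝒜 : ℕ → AddSubgroup A} {𝒮₀ : ℕ → AddSubgroup S₀} [GradedRing 𝒜] [GradedRing 𝒮₀]
  (ψ : 𝒮₀ →+*ᵍ 𝒜) {n : ℕ} (s : S₀)

theorem deg_aux (hs : s ∈ 𝒮₀ n) (k m : ℕ) (a : S₀) (ha : a ∈ 𝒮₀ (m • n)) :
    s ^ (k + 1) * a ∈ 𝒮₀ ((m + k + 1) * n) := by
  have h1 := SetLike.mul_mem_graded (SetLike.pow_mem_graded (k + 1) hs) ha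
  have e : (k + 1) • n + m • n = (m + k + 1) * n := by
    simp only [smul_eq_mul]; ring
  rwa [e] at h1

theorem awayMap_surjective_of_cond (hs : s ∈ 𝒮₀ n) (σ : R →+* A) (hσ : ∀ t, σ t ∈ 𝒜 0)
    (hτ : ∀ z : Away 𝒜 (ψ s), ∃ t : R,
      fromZeroRingHom 𝒜 (Submonoid.powers (ψ s)) ⟨σ t, hσ t⟩ = z)
    (hc : ∀ t : R, ∃ (m : ℕ) (_ : 0 < m) (s' : S₀) (_ : s' ∈ 𝒮₀ (m * n)),
      σ t * (ψ s) ^ m = ψ s') :
    Function.Surjective (Away.map ψ s) := by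
  intro z
  obtain ⟨t, rfl⟩ := hτ z
  obtain ⟨m, -, s', hs', e⟩ := hc t
  have hs'' : s' ∈ 𝒮₀ (m • n) := by rwa [smul_eq_mul]
  refine ⟨Away.mk 𝒮₀ hs m s' hs'', ?_⟩
  rw [Away.map_mk]
  apply HomogeneousLocalization.val_injective
  rw [Away.val_mk, val_fromZero, Localization.mk_eq_mk_iff, Localization.r_iff_exists]
  refine ⟨1, ?_⟩
  show (1 : A) * ((1 : A) * ψ s') = (1 : A) * ((ψ s) ^ m * σ t)
  rw [← e]; ring

theorem cond_of_awayMap_surjective (hs : s ∈ 𝒮₀ n)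
    (hsurj : Function.Surjective (Away.map ψ s)) (σ : R →+* A) (hσ : ∀ t, σ t ∈ 𝒜 0) :
    ∀ t : R, ∃ (m : ℕ) (_ : 0 < m) (s' : S₀) (_ : s' ∈ 𝒮₀ (m * n)),
      σ t * (ψ s) ^ m = ψ s' := by
  intro t
  obtain ⟨x, hx⟩ := hsurj (fromZeroRingHom 𝒜 (Submonoid.powers (ψ s)) ⟨σ t, hσ t⟩)
  obtain ⟨m, a, ha, rfl⟩ := Away.mk_surjective 𝒮₀ hs x
  rw [Away.map_mk] at hx
  have h1 := congrArg HomogeneousLocalization.val hx
  rw [Away.val_mk, val_fromZero, Localization.mk_eq_mk_iff, Localization.r_iff_exists] at h1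
  obtain ⟨⟨_, k, rfl⟩, hk⟩ := h1
  have hk' : (ψ s) ^ k * ((1 : A) * ψ a) = (ψ s) ^ k * ((ψ s) ^ m * σ t) := hk
  refine ⟨m + k + 1, by omega, s ^ (k + 1) * a, deg_aux s hs k m a ha, ?_⟩
  rw [map_mul, map_pow]
  linear_combination (-(ψ s)) * hk'

theorem awayMap_injective_of_cond (hs : s ∈ 𝒮₀ n)
    (hc : ∀ m : ℕ, 0 < m → ∀ s' ∈ 𝒮₀ (m * n), ψ s' = 0 → ∃ k : ℕ, 0 < k ∧ s ^ k * s' = 0) :
    Function.Injective (Away.map ψ s) := by
  rw [injective_iff_map_eq_zero]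
  intro x hx
  obtain ⟨m, a, ha, rfl⟩ := Away.mk_surjective 𝒮₀ hs x
  rw [Away.map_mk] at hx
  have h1 := congrArg HomogeneousLocalization.val hx
  rw [Away.val_mk, HomogeneousLocalization.val_zero, Localization.mk_eq_mk',
    IsLocalization.mk'_eq_zero_iff] at h1
  obtain ⟨⟨_, k, rfl⟩, hk⟩ := h1
  have hk' : (ψ s) ^ k * ψ a = 0 := hk
  have h2 : ψ (s ^ (k + 1) * a) = 0 := by
    rw [map_mul, map_pow]
    linear_combination (ψ s) * hk'
  obtain ⟨k', -, hk''⟩ := hc (m + k + 1) (by omega) _ (deg_aux s hs k m a ha) h2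
  apply HomogeneousLocalization.val_injective
  rw [Away.val_mk, HomogeneousLocalization.val_zero, Localization.mk_eq_mk',
    IsLocalization.mk'_eq_zero_iff]
  refine ⟨⟨s ^ (k' + (k + 1)), _, rfl⟩, ?_⟩
  show s ^ (k' + (k + 1)) * a = 0
  rw [pow_add, mul_assoc]; exact hk''

theorem cond_of_awayMap_injective (hs : s ∈ 𝒮₀ n)
    (hinj : Function.Injective (Away.map ψ s)) :
    ∀ m : ℕ, 0 < m → ∀ s' ∈ 𝒮₀ (m * n), ψ s' = 0 → ∃ k : ℕ, 0 < k ∧ s ^ k * s' = 0 := by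
  intro m _ s' hs' e
  have hs'' : s' ∈ 𝒮₀ (m • n) := by rwa [smul_eq_mul]
  have h0 : Away.map ψ s (Away.mk 𝒮₀ hs m s' hs'') = 0 := by
    rw [Away.map_mk]
    apply HomogeneousLocalization.val_injective
    rw [Away.val_mk, HomogeneousLocalization.val_zero, e, Localization.mk_zero]
  have h1 : Away.mk 𝒮₀ hs m s' hs'' = 0 := hinj (h0.trans (map_zero _).symm)
  have h2 := congrArg HomogeneousLocalization.val h1
  rw [Away.val_mk, HomogeneousLocalization.val_zero, Localization.mk_eq_mk',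
    IsLocalization.mk'_eq_zero_iff] at h2
  obtain ⟨⟨_, k, rfl⟩, hk⟩ := h2
  have hk' : s ^ k * s' = 0 := hk
  exact ⟨k + 1, Nat.succ_pos k, by rw [pow_succ', mul_assoc, hk', mul_zero]⟩

end RingPhi

section Sch

variable {Y X P PL : Scheme.{u}} {q : X ⟶ Y} {L : X.Modules}
  {𝒮 : RelProj.QCGrAlg Y} {𝒮L : RelProj.QCGrAlg X} {j : L ⟶ 𝒮L.toModule}
  (u : RelProj.QGrHom q 𝒮 𝒮L)
  {p : P ⟶ Y}
  (chart : ∀ (U : Y.Opens) (hU : IsAffineOpen U),
    (((p ⁻¹ᵁ U : P.Opens) : Scheme.{u}) ≅ Proj (𝒮.deg U hU)))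
  {pL : PL ⟶ X}
  (chartL : ∀ (U : X.Opens) (hU : IsAffineOpen U),
    (((pL ⁻¹ᵁ U : PL.Opens) : Scheme.{u}) ≅ Proj (𝒮L.deg U hU)))

/-- the open `X_f` where the section `u s` of `L^{⊗ n}` does not vanish -/
noncomputable def XF (n : ℕ) (s : 𝒮.presheaf.obj (op ⊤)) : X.Opens :=
  ⨆ V : {V : X.affineOpens //
    ((𝒮L.deg V.1 V.2 n : AddSubgroup (𝒮L.presheaf.obj (op (V.1 : X.Opens)))) : Set (𝒮L.presheaf.obj (op (V.1 : X.Opens)))) ⊆
      (Ideal.span {(u.appLE ⊤ (V.1 : X.Opens) (le_top.trans (Scheme.Hom.preimage_top q).ge)).hom s} : Set (𝒮L.presheaf.obj (op (V.1 : X.Opens))))},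
    (V.1.1 : X.Opens)

theorem mem_XF (n : ℕ) (s : 𝒮.presheaf.obj (op ⊤)) (x : X) :
    x ∈ XF u n s ↔ ∃ (V : X.Opens) (hV : IsAffineOpen V), x ∈ V ∧
      ((𝒮L.deg V hV n : AddSubgroup (𝒮L.presheaf.obj (op V))) : Set (𝒮L.presheaf.obj (op V))) ⊆
        (Ideal.span {(u.appLE ⊤ V (le_pre q V)).hom s} : Set (𝒮L.presheaf.obj (op V))) := by
  unfold XF
  rw [Opens.mem_iSup]
  constructor
  · rintro ⟨⟨⟨V, hV⟩, hsub⟩, hx⟩
    exact ⟨V, hV, hx, hsub⟩
  · rintro ⟨V, hV, hx, hsub⟩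
    exact ⟨⟨⟨V, hV⟩, hsub⟩, hx⟩

variable (hL : PicF.IsInvertible L) (hLq : Coh.IsQCoh L) (hj : RelProj.IsGrSymAlg L 𝒮L j)
  (hP : RelProj.IsRelProj 𝒮 p chart) (hPL : RelProj.IsRelProj 𝒮L pL chartL)
  (r : ((RelProj.domQ u pL chartL : PL.Opens) : Scheme.{u}) ⟶ P)
  (hr : RelProj.IsProjQMapOn u p chart pL chartL (RelProj.domQ u pL chartL) r)
  (hY : IsAffineOpen (⊤ : Y.Opens))

include hL hLq hj hP hPL hr hY

theorem preimage_eq_XF {d : ℕ} (hd : 0 < d) (f : 𝒮.presheaf.obj (op ⊤))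
    (hf : f ∈ 𝒮.deg ⊤ hY d) :
    (RelProj.domQ u pL chartL).ι ''ᵁ
        (r ⁻¹ᵁ ((RelProj.emb p chart ⊤ hY) ''ᵁ Proj.basicOpen (𝒮.deg ⊤ hY) f)) =
      pL ⁻¹ᵁ XF u d f :=
  main_S12144 q L hL hLq 𝒮 𝒮L j hj u p chart hP pL chartL hPL r hr hY d hd f hf

theorem mem_preimage_iff {d : ℕ} (hd : 0 < d) (f : 𝒮.presheaf.obj (op ⊤))
    (hf : f ∈ 𝒮.deg ⊤ hY d) (e : ((RelProj.domQ u pL chartL : PL.Opens) : Scheme.{u})) :
    r.base e ∈ (RelProj.emb p chart ⊤ hY) ''ᵁ Proj.basicOpen (𝒮.deg ⊤ hY) f ↔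
      pL.base ((RelProj.domQ u pL chartL).ι.base e) ∈ XF u d f := by
  have h := preimage_eq_XF u chart chartL hL hLq hj hP hPL r hr hY hd f hf
  constructor
  · intro he
    have h1 : (RelProj.domQ u pL chartL).ι.base e ∈ (RelProj.domQ u pL chartL).ι ''ᵁ
        (r ⁻¹ᵁ ((RelProj.emb p chart ⊤ hY) ''ᵁ Proj.basicOpen (𝒮.deg ⊤ hY) f)) := ⟨e, he, rfl⟩
    rw [h] at h1
    exact h1
  · intro hx
    have h1 : (RelProj.domQ u pL chartL).ι.base e ∈ pL ⁻¹ᵁ XF u d f := hx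
    rw [← h] at h1
    obtain ⟨e', he', hee⟩ := h1
    have h2 := (RelProj.domQ u pL chartL).ι.isOpenEmbedding.injective hee
    subst h2
    exact he'

theorem notMem_of_mem_XF {n : ℕ} (hn : 0 < n) (s : 𝒮.presheaf.obj (op ⊤)) (V : X.Opens)
    (hV : IsAffineOpen V) (y : Proj (𝒮L.deg V hV))
    (hx : pL.base ((RelProj.emb pL chartL V hV).base y) ∈ XF u n s) :
    (u.appLE ⊤ V (le_pre q V)).hom s ∉ y.asHomogeneousIdeal := by
  haveI : L.IsQuasicoherent := hLq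
  obtain ⟨V', hV', hxV', hsub⟩ := (mem_XF u n s _).mp hx
  have hxV : pL.base ((RelProj.emb pL chartL V hV).base y) ∈ V := emb_mem pL chartL V hV y
  obtain ⟨f, g, hfg, hxf⟩ := exists_basicOpen_le_affine_inter hV hV' _ ⟨hxV, hxV'⟩
  have hW : IsAffineOpen (X.basicOpen f) := hV.basicOpen f
  have hWV : X.basicOpen f ≤ V := X.basicOpen_le f
  have hWV' : X.basicOpen f ≤ V' := by rw [hfg]; exact X.basicOpen_le g
  have irr := irr_res (𝒜 := 𝒮L) V (X.basicOpen f) hV hW hWV f rfl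
  have irr' := irr_res (𝒜 := 𝒮L) V' (X.basicOpen f) hV' hW hWV' g hfg
  obtain ⟨w, hw⟩ := exists_emb pL chartL ((RelProj.emb pL chartL V hV).base y) (X.basicOpen f)
    hW hxf
  have e1 : (Proj.map (𝒮L.res hV hW hWV) irr).base w = y := by
    apply (RelProj.emb pL chartL V hV).isOpenEmbedding.injective
    have k1 := congrArg (fun k : Proj (𝒮L.deg (X.basicOpen f) hW) ⟶ PL => k.base w)
      (emb_res pL chartL hPL V (X.basicOpen f) hV hW hWV f rfl irr)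
    exact k1.trans hw
  have hsy' := notMem_of_deg_le_span hj V' hV'
    ((Proj.map (𝒮L.res hV' hW hWV') irr').base w) hn _ hsub
  have hsW' : (𝒮L.presheaf.map (homOfLE hWV').op).hom ((u.appLE ⊤ V' (le_pre q V')).hom s) =
      (u.appLE ⊤ (X.basicOpen f) (le_pre q _)).hom s :=
    congrArg (fun t : 𝒮.presheaf.obj (op ⊤) ⟶ 𝒮L.presheaf.obj (op (X.basicOpen f)) => t.hom s)
      (u.appLE_map (le_pre q V') hWV')
  have hsW : (𝒮L.presheaf.map (homOfLE hWV).op).hom ((u.appLE ⊤ V (le_pre q V)).hom s) =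
      (u.appLE ⊤ (X.basicOpen f) (le_pre q _)).hom s :=
    congrArg (fun t : 𝒮.presheaf.obj (op ⊤) ⟶ 𝒮L.presheaf.obj (op (X.basicOpen f)) => t.hom s)
      (u.appLE_map (le_pre q V) hWV)
  intro hcon
  apply hsy'
  rw [← e1] at hcon
  have h5 : (𝒮L.res hV hW hWV) ((u.appLE ⊤ V (le_pre q V)).hom s) ∈ w.asHomogeneousIdeal := hcon
  rw [RelProj.QCGrAlg.res_apply, hsW] at h5
  show (𝒮L.res hV' hW hWV') ((u.appLE ⊤ V' (le_pre q V')).hom s) ∈ w.asHomogeneousIdeal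
  rw [RelProj.QCGrAlg.res_apply, hsW']
  exact h5

theorem forall_notMem {n : ℕ} (hn : 0 < n) (s : 𝒮.presheaf.obj (op ⊤))
    (hT : IsAffineOpen (XF u n s)) (y : Proj (𝒮L.deg (XF u n s) hT)) :
    (u.appLE ⊤ (XF u n s) (le_pre q _)).hom s ∉ y.asHomogeneousIdeal :=
  notMem_of_mem_XF u chart chartL hL hLq hj hP hPL r hr hY hn s _ hT y
    (emb_mem pL chartL _ hT y)

theorem opensRange_aq_eq {n : ℕ} (hn : 0 < n) (s : 𝒮.presheaf.obj (op ⊤))
    (hs : s ∈ 𝒮.deg ⊤ hY n) (hT : IsAffineOpen (XF u n s)) :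
    (aq u pL chartL ⊤ hY (XF u n s) hT (le_pre q _) hn s hs).opensRange =
      r ⁻¹ᵁ ((RelProj.emb p chart ⊤ hY) ''ᵁ Proj.basicOpen (𝒮.deg ⊤ hY) s) := by
  have hr' := (isProjQMapOn_iff u p chart pL chartL r).mp hr
  ext e
  constructor
  · rintro ⟨w, rfl⟩
    have h3 := congrArg (fun t : Spec (CommRingCat.of (Away (𝒮L.deg (XF u n s) hT)
      ((u.gradedAt ⊤ hY (XF u n s) hT (le_pre q _)) s))) ⟶ P => t.base w)
      (hr' ⊤ hY (XF u n s) hT (le_pre q _) n hn s hs)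
    show r.base ((aq u pL chartL ⊤ hY (XF u n s) hT (le_pre q _) hn s hs).base w) ∈
      (RelProj.emb p chart ⊤ hY) ''ᵁ Proj.basicOpen (𝒮.deg ⊤ hY) s
    exact ⟨_, awayι_mem_basicOpen (𝒮.deg ⊤ hY) hn s hs
      ((Spec.map (CommRingCat.ofHom
        (Away.map (u.gradedAt ⊤ hY (XF u n s) hT (le_pre q _)) s))).base w), h3.symm⟩
  · intro he
    have he' : r.base e ∈ (RelProj.emb p chart ⊤ hY) ''ᵁ Proj.basicOpen (𝒮.deg ⊤ hY) s := he
    have hx := (mem_preimage_iff u chart chartL hL hLq hj hP hPL r hr hY hn s hs e).mp he'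
    obtain ⟨y, hy⟩ := exists_emb pL chartL ((RelProj.domQ u pL chartL).ι.base e) (XF u n s) hT hx
    have hsy := forall_notMem u chart chartL hL hLq hj hP hPL r hr hY hn s hT y
    obtain ⟨w, hw⟩ := exists_awayι_eq (𝒮L.deg (XF u n s) hT) hn _
      (Graded.map_mem (u.gradedAt ⊤ hY (XF u n s) hT (le_pre q _)) hs) y hsy
    refine ⟨w, ?_⟩
    apply (RelProj.domQ u pL chartL).ι.isOpenEmbedding.injective
    have k1 := congrArg (fun t : Spec (CommRingCat.of (Away (𝒮L.deg (XF u n s) hT)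
      ((u.gradedAt ⊤ hY (XF u n s) hT (le_pre q _)) s))) ⟶ PL => t.base w)
      (aq_ι u pL chartL ⊤ hY (XF u n s) hT (le_pre q _) hn s hs)
    have k2 : (RelProj.awayEmb u pL chartL ⊤ hY (XF u n s) hT (le_pre q _) hn s hs).base w =
        (RelProj.emb pL chartL (XF u n s) hT).base y := by
      show (RelProj.emb pL chartL (XF u n s) hT).base ((Proj.awayι _ _ _ _).base w) = _
      rw [hw]
    exact (k1.trans k2).trans hy

theorem tau_bijective {n : ℕ} (hn : 0 < n) (s : 𝒮.presheaf.obj (op ⊤))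
    (hs : s ∈ 𝒮.deg ⊤ hY n) (hT : IsAffineOpen (XF u n s)) :
    Function.Bijective (𝒮L.strZero (XF u n s) hT ≫
      CommRingCat.ofHom (fromZeroRingHom (𝒮L.deg (XF u n s) hT)
        (Submonoid.powers ((u.gradedAt ⊤ hY (XF u n s) hT (le_pre q _)) s)))).hom := by
  haveI : IsIso pL := main_S12143 L hL hLq 𝒮L j hj pL chartL hPL
  rw [← isIso_SpecMap_iff]
  have hover := awayEmb_over u pL chartL hPL ⊤ hY (XF u n s) hT (le_pre q _) hn s hs
  haveI h1 : IsOpenImmersion (Spec.map (𝒮L.strZero (XF u n s) hT ≫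
      CommRingCat.ofHom (fromZeroRingHom (𝒮L.deg (XF u n s) hT)
        (Submonoid.powers ((u.gradedAt ⊤ hY (XF u n s) hT (le_pre q _)) s)))) ≫
      hT.fromSpec) := by
    rw [← hover]; infer_instance
  haveI h2 : IsOpenImmersion (Spec.map (𝒮L.strZero (XF u n s) hT ≫
      CommRingCat.ofHom (fromZeroRingHom (𝒮L.deg (XF u n s) hT)
        (Submonoid.powers ((u.gradedAt ⊤ hY (XF u n s) hT (le_pre q _)) s))))) :=
    IsOpenImmersion.of_comp _ hT.fromSpec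
  rw [isIso_iff_isOpenImmersion_and_epi_base]
  refine ⟨h2, ?_⟩
  rw [TopCat.epi_iff_surjective]
  intro 𝔭
  have hxT : hT.fromSpec.base 𝔭 ∈ XF u n s := by
    have h3 : hT.fromSpec.base 𝔭 ∈ Set.range hT.fromSpec.base := ⟨𝔭, rfl⟩
    rw [hT.range_fromSpec] at h3
    exact h3
  obtain ⟨x', hx'⟩ : ∃ x', pL.base x' = hT.fromSpec.base 𝔭 := pL.homeomorph.surjective _
  obtain ⟨y, hy⟩ := exists_emb pL chartL x' (XF u n s) hT (by rw [hx']; exact hxT)
  have hsy := forall_notMem u chart chartL hL hLq hj hP hPL r hr hY hn s hT y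
  obtain ⟨w, hw⟩ := exists_awayι_eq (𝒮L.deg (XF u n s) hT) hn _
    (Graded.map_mem (u.gradedAt ⊤ hY (XF u n s) hT (le_pre q _)) hs) y hsy
  refine ⟨w, ?_⟩
  apply hT.fromSpec.isOpenEmbedding.injective
  have k1 := congrArg (fun t : Spec (CommRingCat.of (Away (𝒮L.deg (XF u n s) hT)
      ((u.gradedAt ⊤ hY (XF u n s) hT (le_pre q _)) s))) ⟶ X => t.base w) hover
  have k2 : (RelProj.awayEmb u pL chartL ⊤ hY (XF u n s) hT (le_pre q _) hn s hs ≫ pL).base w =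
      hT.fromSpec.base 𝔭 := by
    show pL.base ((RelProj.emb pL chartL (XF u n s) hT).base ((Proj.awayι _ _ _ _).base w)) = _
    rw [hw, hy, hx']
  exact k1.symm.trans k2

theorem isPullback_chart {n : ℕ} (hn : 0 < n) (s : 𝒮.presheaf.obj (op ⊤))
    (hs : s ∈ 𝒮.deg ⊤ hY n) (hT : IsAffineOpen (XF u n s))
    {Z : Scheme.{u}} (m : Z ⟶ P) [IsOpenImmersion m]
    (r' : ((RelProj.domQ u pL chartL : PL.Opens) : Scheme.{u}) ⟶ Z) (hr' : r' ≫ m = r)
    (k : Spec (CommRingCat.of (Away (𝒮.deg ⊤ hY) s)) ⟶ Z)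
    (hk : k ≫ m = Proj.awayι (𝒮.deg ⊤ hY) s hs hn ≫ RelProj.emb p chart ⊤ hY) :
    IsPullback (Spec.map (CommRingCat.ofHom
        (Away.map (u.gradedAt ⊤ hY (XF u n s) hT (le_pre q _)) s)))
      (aq u pL chartL ⊤ hY (XF u n s) hT (le_pre q _) hn s hs) k r' := by
  have hr'' := (isProjQMapOn_iff u p chart pL chartL r).mp hr
  haveI : IsOpenImmersion k := by
    haveI : IsOpenImmersion (k ≫ m) := by rw [hk]; infer_instance
    exact IsOpenImmersion.of_comp k m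
  have a3 : ∀ v, m.base (k.base v) = (RelProj.emb p chart ⊤ hY).base
      ((Proj.awayι (𝒮.deg ⊤ hY) s hs hn).base v) := fun v =>
    congrArg (fun t : Spec (CommRingCat.of (Away (𝒮.deg ⊤ hY) s)) ⟶ P => t.base v) hk
  have a4 : ∀ e, m.base (r'.base e) = r.base e := fun e =>
    congrArg (fun t : ((RelProj.domQ u pL chartL : PL.Opens) : Scheme.{u}) ⟶ P => t.base e) hr'
  apply IsOpenImmersion.isPullback
  · rw [← cancel_mono m, Category.assoc, Category.assoc, hr', hk]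
    exact hr'' ⊤ hY (XF u n s) hT (le_pre q _) n hn s hs
  · rw [opensRange_aq_eq u chart chartL hL hLq hj hP hPL r hr hY hn s hs hT]
    ext e
    constructor
    · rintro ⟨v, hv⟩
      have hv' : k.base v = r'.base e := hv
      show r.base e ∈ (RelProj.emb p chart ⊤ hY) ''ᵁ Proj.basicOpen (𝒮.deg ⊤ hY) s
      rw [← a4 e, ← hv', a3 v]
      exact ⟨_, awayι_mem_basicOpen _ hn s hs v, rfl⟩
    · rintro ⟨z, hz, hze⟩
      obtain ⟨v, rfl⟩ := exists_awayι_eq (𝒮.deg ⊤ hY) hn s hs z hz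
      refine ⟨v, ?_⟩
      apply m.isOpenEmbedding.injective
      exact ((a3 v).trans hze).trans (a4 e).symm

theorem core_of_factor {Z : Scheme.{u}} (m : Z ⟶ P) [IsOpenImmersion m]
    (r' : ((RelProj.domQ u pL chartL : PL.Opens) : Scheme.{u}) ⟶ Z) (hr' : r' ≫ m = r)
    [IsClosedImmersion r']
    {n : ℕ} (hn : 0 < n) (s : 𝒮.presheaf.obj (op ⊤)) (hs : s ∈ 𝒮.deg ⊤ hY n)
    (hD : (RelProj.emb p chart ⊤ hY) ''ᵁ Proj.basicOpen (𝒮.deg ⊤ hY) s ≤ m.opensRange) :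
    ∃ hT : IsAffineOpen (XF u n s),
      Function.Surjective (Away.map (u.gradedAt ⊤ hY (XF u n s) hT (le_pre q _)) s) ∧
      (IsIso r' → Function.Injective
        (Away.map (u.gradedAt ⊤ hY (XF u n s) hT (le_pre q _)) s)) := by
  haveI : IsIso pL := main_S12143 L hL hLq 𝒮L j hj pL chartL hPL
  have hS := preimage_eq_XF u chart chartL hL hLq hj hP hPL r hr hY hn s hs
  have hjr : (Proj.awayι (𝒮.deg ⊤ hY) s hs hn ≫ RelProj.emb p chart ⊤ hY).opensRange =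
      (RelProj.emb p chart ⊤ hY) ''ᵁ Proj.basicOpen (𝒮.deg ⊤ hY) s := by
    ext x
    constructor
    · rintro ⟨v, rfl⟩
      exact ⟨_, awayι_mem_basicOpen _ hn s hs v, rfl⟩
    · rintro ⟨z, hz, rfl⟩
      obtain ⟨v, rfl⟩ := exists_awayι_eq (𝒮.deg ⊤ hY) hn s hs z hz
      exact ⟨v, rfl⟩
  have hDaff : IsAffineOpen ((RelProj.emb p chart ⊤ hY) ''ᵁ
      Proj.basicOpen (𝒮.deg ⊤ hY) s) := by
    rw [← hjr]; exact isAffineOpen_opensRange _
  have h1 : IsAffineOpen (r' ⁻¹ᵁ (m ⁻¹ᵁ ((RelProj.emb p chart ⊤ hY) ''ᵁ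
      Proj.basicOpen (𝒮.deg ⊤ hY) s))) :=
    (hDaff.preimage_of_isOpenImmersion m hD).preimage r'
  have h2 : r' ⁻¹ᵁ (m ⁻¹ᵁ ((RelProj.emb p chart ⊤ hY) ''ᵁ
      Proj.basicOpen (𝒮.deg ⊤ hY) s)) =
      r ⁻¹ᵁ ((RelProj.emb p chart ⊤ hY) ''ᵁ Proj.basicOpen (𝒮.deg ⊤ hY) s) := by
    rw [← hr']; rfl
  rw [h2] at h1
  have h3 := h1.image_of_isOpenImmersion (RelProj.domQ u pL chartL).ι
  rw [hS] at h3
  have h4 := h3.image_of_isOpenImmersion pL
  have h5 : pL ''ᵁ (pL ⁻¹ᵁ XF u n s) = XF u n s := by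
    ext x
    constructor
    · rintro ⟨x', hx', rfl⟩
      exact hx'
    · intro hx
      obtain ⟨x', hx'⟩ : ∃ x', pL.base x' = x := pL.homeomorph.surjective x
      subst hx'
      exact ⟨x', hx, rfl⟩
  rw [h5] at h4
  have hrange : Set.range (Proj.awayι (𝒮.deg ⊤ hY) s hs hn ≫
      RelProj.emb p chart ⊤ hY).base ⊆ Set.range m.base := by
    rintro _ ⟨v, rfl⟩
    exact hD ⟨_, awayι_mem_basicOpen _ hn s hs v, rfl⟩
  have sq := isPullback_chart u chart chartL hL hLq hj hP hPL r hr hY hn s hs h4 m r' hr'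
    (IsOpenImmersion.lift m _ hrange) (IsOpenImmersion.lift_fac _ _ _)
  refine ⟨h4, ?_, ?_⟩
  · haveI : IsClosedImmersion (Spec.map (CommRingCat.ofHom
        (Away.map (u.gradedAt ⊤ hY (XF u n s) h4 (le_pre q _)) s))) :=
      MorphismProperty.of_isPullback (P := @IsClosedImmersion) sq.flip inferInstance
    exact surjective_of_isClosedImmersion_SpecMap (CommRingCat.ofHom
      (Away.map (u.gradedAt ⊤ hY (XF u n s) h4 (le_pre q _)) s))
  · intro hiso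
    haveI := hiso
    have h6 : (MorphismProperty.isomorphisms Scheme.{u}) (Spec.map (CommRingCat.ofHom
        (Away.map (u.gradedAt ⊤ hY (XF u n s) h4 (le_pre q _)) s))) :=
      MorphismProperty.of_isPullback (P := MorphismProperty.isomorphisms Scheme.{u}) sq.flip
        (MorphismProperty.isomorphisms.infer_property r')
    have h7 : IsIso (Spec.map (CommRingCat.ofHom
        (Away.map (u.gradedAt ⊤ hY (XF u n s) h4 (le_pre q _)) s))) :=
      (MorphismProperty.isomorphisms.iff _).mp h6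
    exact (isIso_SpecMap_iff.mp h7).1

theorem exists_family_of_factor (hdom : RelProj.domQ u pL chartL = ⊤) {Z : Scheme.{u}}
    (m : Z ⟶ P) [IsOpenImmersion m]
    (r' : ((RelProj.domQ u pL chartL : PL.Opens) : Scheme.{u}) ⟶ Z) (hr' : r' ≫ m = r)
    [IsClosedImmersion r'] :
    ∃ (ι : Type u) (n : ι → ℕ) (s : ι → 𝒮.presheaf.obj (op ⊤)),
      (∀ a, 0 < n a ∧ s a ∈ 𝒮.deg ⊤ hY (n a)) ∧
      (⨆ a, XF u (n a) (s a)) = ⊤ ∧
      (∀ a, ∃ hT : IsAffineOpen (XF u (n a) (s a)),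
        Function.Surjective
          (Away.map (u.gradedAt ⊤ hY (XF u (n a) (s a)) hT (le_pre q _)) (s a)) ∧
        (IsIso r' → Function.Injective
          (Away.map (u.gradedAt ⊤ hY (XF u (n a) (s a)) hT (le_pre q _)) (s a)))) ∧
      (∀ (k : ℕ) (g : 𝒮.presheaf.obj (op ⊤)), 0 < k → g ∈ 𝒮.deg ⊤ hY k →
        (RelProj.emb p chart ⊤ hY) ''ᵁ Proj.basicOpen (𝒮.deg ⊤ hY) g ≤ m.opensRange →
          ∃ a, s a = g) := by
  haveI : IsIso pL := main_S12143 L hL hLq 𝒮L j hj pL chartL hPL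
  refine ⟨{a : ℕ × 𝒮.presheaf.obj (op ⊤) // 0 < a.1 ∧ a.2 ∈ 𝒮.deg ⊤ hY a.1 ∧
      (RelProj.emb p chart ⊤ hY) ''ᵁ Proj.basicOpen (𝒮.deg ⊤ hY) a.2 ≤ m.opensRange},
    fun a => a.1.1, fun a => a.1.2, fun a => ⟨a.2.1, a.2.2.1⟩, ?_, ?_, ?_⟩
  · rw [eq_top_iff]
    intro x _
    obtain ⟨x', hx'⟩ : ∃ x', pL.base x' = x := pL.homeomorph.surjective x
    have hx'd : x' ∈ RelProj.domQ u pL chartL := by rw [hdom]; trivial
    obtain ⟨e, he⟩ : ∃ e : ((RelProj.domQ u pL chartL : PL.Opens) : Scheme.{u}),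
        (RelProj.domQ u pL chartL).ι.base e = x' := ⟨⟨x', hx'd⟩, rfl⟩
    have hre : r.base e ∈ m.opensRange := by
      have a4 : m.base (r'.base e) = r.base e :=
        congrArg (fun t : ((RelProj.domQ u pL chartL : PL.Opens) : Scheme.{u}) ⟶ P =>
          t.base e) hr'
      rw [← a4]; exact ⟨_, rfl⟩
    obtain ⟨z, hz⟩ := exists_emb p chart (r.base e) ⊤ hY trivial
    have hzO : z ∈ (RelProj.emb p chart ⊤ hY) ⁻¹ᵁ m.opensRange := by
      show (RelProj.emb p chart ⊤ hY).base z ∈ m.opensRange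
      rw [hz]; exact hre
    obtain ⟨k, hk, g, hg, hzg, hgO⟩ := rl_exists_homog_basicOpen_le (𝒮.deg ⊤ hY) z _ hzO
    have hD : (RelProj.emb p chart ⊤ hY) ''ᵁ Proj.basicOpen (𝒮.deg ⊤ hY) g ≤ m.opensRange := by
      rintro _ ⟨z₁, hz₁, rfl⟩
      exact hgO hz₁
    refine Opens.mem_iSup.mpr ⟨⟨(k, g), hk, hg, hD⟩, ?_⟩
    show x ∈ XF u k g
    rw [← hx', ← he]
    exact (mem_preimage_iff u chart chartL hL hLq hj hP hPL r hr hY hk g hg e).mp ⟨z, hzg, hz⟩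
  · intro a
    exact core_of_factor u chart chartL hL hLq hj hP hPL r hr hY m r' hr' a.2.1 a.1.2 a.2.2.1
      a.2.2.2
  · intro k g hk hg hD
    exact ⟨⟨(k, g), hk, hg, hD⟩, rfl⟩

theorem exists_lift_of_family {Pr : MorphismProperty Scheme.{u}} [IsZariskiLocalAtTarget Pr]
    {ι : Type u} (n : ι → ℕ) (s : ι → 𝒮.presheaf.obj (op ⊤))
    (hns : ∀ a, 0 < n a ∧ s a ∈ 𝒮.deg ⊤ hY (n a))
    (hcov : (⨆ a, XF u (n a) (s a)) = ⊤) (hT : ∀ a, IsAffineOpen (XF u (n a) (s a)))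
    (hPr : ∀ a, Pr (Spec.map (CommRingCat.ofHom
      (Away.map (u.gradedAt ⊤ hY (XF u (n a) (s a)) (hT a) (le_pre q _)) (s a))))) :
    ∃ (U : P.Opens) (r' : ((RelProj.domQ u pL chartL : PL.Opens) : Scheme.{u}) ⟶
        (U : Scheme.{u})),
      r' ≫ U.ι = r ∧ Pr r' ∧
        U = ⨆ a, (RelProj.emb p chart ⊤ hY) ''ᵁ Proj.basicOpen (𝒮.deg ⊤ hY) (s a) := by
  obtain ⟨U, hU⟩ : ∃ U : P.Opens,
      U = ⨆ a, (RelProj.emb p chart ⊤ hY) ''ᵁ Proj.basicOpen (𝒮.deg ⊤ hY) (s a) := ⟨_, rfl⟩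
  have hrange : Set.range r.base ⊆ Set.range U.ι.base := by
    rw [Scheme.Opens.range_ι]
    rintro _ ⟨e, rfl⟩
    have hx : pL.base ((RelProj.domQ u pL chartL).ι.base e) ∈ (⨆ a, XF u (n a) (s a)) := by
      rw [hcov]; trivial
    rw [Opens.mem_iSup] at hx
    obtain ⟨a, ha⟩ := hx
    have h1 := (mem_preimage_iff u chart chartL hL hLq hj hP hPL r hr hY (hns a).1 (s a)
      (hns a).2 e).mpr ha
    show r.base e ∈ U
    rw [hU]
    exact Opens.mem_iSup.mpr ⟨a, h1⟩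
  have hfac : IsOpenImmersion.lift U.ι r hrange ≫ U.ι = r := IsOpenImmersion.lift_fac _ _ _
  have hjrange : ∀ a, Set.range (Proj.awayι (𝒮.deg ⊤ hY) (s a) (hns a).2 (hns a).1 ≫
      RelProj.emb p chart ⊤ hY).base ⊆ Set.range U.ι.base := by
    intro a
    rw [Scheme.Opens.range_ι]
    rintro _ ⟨v, rfl⟩
    show _ ∈ U
    rw [hU]
    exact Opens.mem_iSup.mpr ⟨a, _, awayι_mem_basicOpen _ (hns a).1 (s a) (hns a).2 v, rfl⟩
  have hk : ∀ a, IsOpenImmersion.lift U.ι _ (hjrange a) ≫ U.ι =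
      Proj.awayι (𝒮.deg ⊤ hY) (s a) (hns a).2 (hns a).1 ≫ RelProj.emb p chart ⊤ hY :=
    fun a => IsOpenImmersion.lift_fac _ _ _
  have hko : ∀ a, IsOpenImmersion (IsOpenImmersion.lift U.ι _ (hjrange a)) := by
    intro a
    haveI : IsOpenImmersion (IsOpenImmersion.lift U.ι _ (hjrange a) ≫ U.ι) := by
      rw [hk a]; infer_instance
    exact IsOpenImmersion.of_comp _ U.ι
  let 𝒰 : (U : Scheme.{u}).OpenCover := Scheme.Cover.mkOfCovers ι
    (fun a => Spec (CommRingCat.of (Away (𝒮.deg ⊤ hY) (s a))))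
    (fun a => IsOpenImmersion.lift U.ι _ (hjrange a))
    (fun y => by
      have hy : U.ι.base y ∈ U := by
        have h3 : U.ι.base y ∈ Set.range U.ι.base := ⟨y, rfl⟩
        rw [Scheme.Opens.range_ι] at h3
        exact h3
      have hy' : U.ι.base y ∈ ⨆ a, (RelProj.emb p chart ⊤ hY) ''ᵁ
          Proj.basicOpen (𝒮.deg ⊤ hY) (s a) := hU.le hy
      obtain ⟨a, z, hz, hzy⟩ := Opens.mem_iSup.mp hy'
      obtain ⟨v, rfl⟩ := exists_awayι_eq (𝒮.deg ⊤ hY) (hns a).1 (s a) (hns a).2 z hz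
      refine ⟨a, v, ?_⟩
      apply U.ι.isOpenEmbedding.injective
      have a3 := congrArg (fun t : Spec (CommRingCat.of (Away (𝒮.deg ⊤ hY) (s a))) ⟶ P =>
        t.base v) (hk a)
      exact a3.trans hzy)
    (fun a => hko a)
  refine ⟨U, IsOpenImmersion.lift U.ι r hrange, hfac, ?_, hU⟩
  exact ProjG.of_isPullback_openCover (P := Pr) (IsOpenImmersion.lift U.ι r hrange) 𝒰
    (fun a => Spec (CommRingCat.of (Away (𝒮L.deg (XF u (n a) (s a)) (hT a))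
      ((u.gradedAt ⊤ hY (XF u (n a) (s a)) (hT a) (le_pre q _)) (s a)))))
    (fun a => Spec.map (CommRingCat.ofHom
      (Away.map (u.gradedAt ⊤ hY (XF u (n a) (s a)) (hT a) (le_pre q _)) (s a))))
    (fun a => aq u pL chartL ⊤ hY (XF u (n a) (s a)) (hT a) (le_pre q _) (hns a).1 (s a)
      (hns a).2)
    (fun a => isPullback_chart u chart chartL hL hLq hj hP hPL r hr hY (hns a).1 (s a) (hns a).2
      (hT a) U.ι (IsOpenImmersion.lift U.ι r hrange) hfac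
      (IsOpenImmersion.lift U.ι _ (hjrange a)) (hk a))
    hPr

end Sch

theorem main_S12150 {Y X P PL : Scheme.{u}} (q : X ⟶ Y)
    (L : X.Modules) (hL : PicF.IsInvertible L) (hLq : Coh.IsQCoh L)
    (𝒮 : RelProj.QCGrAlg Y) (𝒮L : RelProj.QCGrAlg X) (j : L ⟶ 𝒮L.toModule) (hj : RelProj.IsGrSymAlg L 𝒮L j)
    (u : RelProj.QGrHom q 𝒮 𝒮L)
    (p : P ⟶ Y) (chart : ∀ (U : Y.Opens) (hU : IsAffineOpen U), (((p ⁻¹ᵁ U : P.Opens) : Scheme.{u}) ≅ Proj (𝒮.deg U hU)))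
    (hP : RelProj.IsRelProj 𝒮 p chart)
    (pL : PL ⟶ X) (chartL : ∀ (U : X.Opens) (hU : IsAffineOpen U), (((pL ⁻¹ᵁ U : PL.Opens) : Scheme.{u}) ≅ Proj (𝒮L.deg U hU)))
    (hPL : RelProj.IsRelProj 𝒮L pL chartL)
    (r : ((RelProj.domQ u pL chartL : PL.Opens) : Scheme.{u}) ⟶ P)
    (hr : RelProj.IsProjQMapOn u p chart pL chartL (RelProj.domQ u pL chartL) r)
    (hY : IsAffineOpen (⊤ : Y.Opens)) :
    (RelProj.domQ u pL chartL = ⊤ ∧ IsImmersion r) ↔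
      ∃ (ι : Type u) (n : ι → ℕ) (s : ι → 𝒮.presheaf.obj (op ⊤)) (XT : ι → X.Opens),
        (∀ a, 0 < n a ∧ s a ∈ 𝒮.deg ⊤ hY (n a)) ∧
        (∀ a, XT a = (⨆ V : {V : X.affineOpens //
          ((𝒮L.deg V.1 V.2 (n a) : AddSubgroup (𝒮L.presheaf.obj (op (V.1 : X.Opens)))) : Set (𝒮L.presheaf.obj (op (V.1 : X.Opens)))) ⊆
            (Ideal.span {(u.appLE ⊤ (V.1 : X.Opens) (le_top.trans (Scheme.Hom.preimage_top q).ge)).hom (s a)} : Set (𝒮L.presheaf.obj (op (V.1 : X.Opens))))},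
          (V.1.1 : X.Opens))) ∧
        (⨆ a, XT a) = ⊤ ∧ (∀ a, IsAffineOpen (XT a)) ∧
        (∀ (a : ι) (t : X.presheaf.obj (op (XT a))), ∃ (m : ℕ) (_ : 0 < m) (s' : 𝒮.presheaf.obj (op ⊤)) (_ : s' ∈ 𝒮.deg ⊤ hY (m * n a)),
            (𝒮L.str.app (op (XT a))).hom t * ((u.appLE ⊤ (XT a) (le_top.trans (Scheme.Hom.preimage_top q).ge)).hom (s a)) ^ m =
              (u.appLE ⊤ (XT a) (le_top.trans (Scheme.Hom.preimage_top q).ge)).hom s') := by
  haveI : L.IsQuasicoherent := hLq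
  constructor
  · rintro ⟨hdom, himm⟩
    obtain ⟨Z, g₁, g₂, hg₁, hg₂, hfac⟩ := (IsImmersion.isImmersion_iff_exists (f := r)).mp himm
    haveI := hg₁
    haveI := hg₂
    obtain ⟨ι, n, s, hns, hcov, hcore, -⟩ :=
      exists_family_of_factor u chart chartL hL hLq hj hP hPL r hr hY hdom g₂ g₁ hfac
    choose hT hsurj hinj using hcore
    refine ⟨ι, n, s, fun a => XF u (n a) (s a), hns, fun a => rfl, hcov, hT, ?_⟩
    intro a t
    exact cond_of_awayMap_surjective (u.gradedAt ⊤ hY (XF u (n a) (s a)) (hT a) (le_pre q _))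
      (s a) (hns a).2 (hsurj a) (𝒮L.str.app (op (XF u (n a) (s a)))).hom
      (𝒮L.str_mem _ (hT a)) t
  · rintro ⟨ι, n, s, XT, hns, hXT, hcov, hT, hiii⟩
    obtain rfl : XT = fun a => XF u (n a) (s a) := funext hXT
    have hdom : RelProj.domQ u pL chartL = ⊤ := by
      refine (main_S12145 q L hL hLq 𝒮 𝒮L j hj u p chart hP pL chartL hPL hY).mpr ?_
      intro x
      have hx : x ∈ (⨆ a, XF u (n a) (s a)) := by rw [hcov]; trivial
      obtain ⟨a, ha⟩ := Opens.mem_iSup.mp hx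
      obtain ⟨V, hV, hxV, hsub⟩ := (mem_XF u (n a) (s a) x).mp ha
      exact ⟨n a, (hns a).1, s a, (hns a).2, V, hV, hxV, hsub⟩
    refine ⟨hdom, ?_⟩
    have hPr : ∀ a, IsClosedImmersion (Spec.map (CommRingCat.ofHom
        (Away.map (u.gradedAt ⊤ hY (XF u (n a) (s a)) (hT a) (le_pre q _)) (s a)))) := by
      intro a
      apply IsClosedImmersion.spec_of_surjective
      exact awayMap_surjective_of_cond (u.gradedAt ⊤ hY (XF u (n a) (s a)) (hT a) (le_pre q _))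
        (s a) (hns a).2 (𝒮L.str.app (op (XF u (n a) (s a)))).hom (𝒮L.str_mem _ (hT a))
        (fun z => (tau_bijective u chart chartL hL hLq hj hP hPL r hr hY (hns a).1 (s a)
          (hns a).2 (hT a)).2 z) (hiii a)
    obtain ⟨U, r', hfac, hcl, -⟩ := exists_lift_of_family (Pr := @IsClosedImmersion)
      u chart chartL hL hLq hj hP hPL r hr hY n s hns hcov hT hPr
    haveI : IsClosedImmersion r' := hcl
    rw [← hfac]
    infer_instance

theorem main_S12151 {Y X P PL : Scheme.{u}} (q : X ⟶ Y)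
    (L : X.Modules) (hL : PicF.IsInvertible L) (hLq : Coh.IsQCoh L)
    (𝒮 : RelProj.QCGrAlg Y) (𝒮L : RelProj.QCGrAlg X) (j : L ⟶ 𝒮L.toModule) (hj : RelProj.IsGrSymAlg L 𝒮L j)
    (u : RelProj.QGrHom q 𝒮 𝒮L)
    (p : P ⟶ Y) (chart : ∀ (U : Y.Opens) (hU : IsAffineOpen U), (((p ⁻¹ᵁ U : P.Opens) : Scheme.{u}) ≅ Proj (𝒮.deg U hU)))
    (hP : RelProj.IsRelProj 𝒮 p chart)
    (pL : PL ⟶ X) (chartL : ∀ (U : X.Opens) (hU : IsAffineOpen U), (((pL ⁻¹ᵁ U : PL.Opens) : Scheme.{u}) ≅ Proj (𝒮L.deg U hU)))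
    (hPL : RelProj.IsRelProj 𝒮L pL chartL)
    (r : ((RelProj.domQ u pL chartL : PL.Opens) : Scheme.{u}) ⟶ P)
    (hr : RelProj.IsProjQMapOn u p chart pL chartL (RelProj.domQ u pL chartL) r)
    (hY : IsAffineOpen (⊤ : Y.Opens)) :
    (RelProj.domQ u pL chartL = ⊤ ∧ IsOpenImmersion r) ↔
      ∃ (ι : Type u) (n : ι → ℕ) (s : ι → 𝒮.presheaf.obj (op ⊤)) (XT : ι → X.Opens),
        (∀ a, 0 < n a ∧ s a ∈ 𝒮.deg ⊤ hY (n a)) ∧
        (∀ a, XT a = (⨆ V : {V : X.affineOpens //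
          ((𝒮L.deg V.1 V.2 (n a) : AddSubgroup (𝒮L.presheaf.obj (op (V.1 : X.Opens)))) : Set (𝒮L.presheaf.obj (op (V.1 : X.Opens)))) ⊆
            (Ideal.span {(u.appLE ⊤ (V.1 : X.Opens) (le_top.trans (Scheme.Hom.preimage_top q).ge)).hom (s a)} : Set (𝒮L.presheaf.obj (op (V.1 : X.Opens))))},
          (V.1.1 : X.Opens))) ∧
        (⨆ a, XT a) = ⊤ ∧ (∀ a, IsAffineOpen (XT a)) ∧
        (∀ (a : ι) (t : X.presheaf.obj (op (XT a))), ∃ (m : ℕ) (_ : 0 < m) (s' : 𝒮.presheaf.obj (op ⊤)) (_ : s' ∈ 𝒮.deg ⊤ hY (m * n a)),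
            (𝒮L.str.app (op (XT a))).hom t * ((u.appLE ⊤ (XT a) (le_top.trans (Scheme.Hom.preimage_top q).ge)).hom (s a)) ^ m =
              (u.appLE ⊤ (XT a) (le_top.trans (Scheme.Hom.preimage_top q).ge)).hom s') ∧
        (∀ (a : ι) (m : ℕ), 0 < m → ∀ s' ∈ 𝒮.deg ⊤ hY (m * n a),
            (u.appLE ⊤ (XT a) (le_top.trans (Scheme.Hom.preimage_top q).ge)).hom s' = 0 → ∃ (k : ℕ), 0 < k ∧ (s a) ^ k * s' = 0) := by
  haveI : L.IsQuasicoherent := hLq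
  constructor
  · rintro ⟨hdom, hopen⟩
    haveI := hopen
    obtain ⟨ι, n, s, hns, hcov, hcore, -⟩ :=
      exists_family_of_factor u chart chartL hL hLq hj hP hPL r hr hY hdom r (𝟙 _)
        (Category.id_comp r)
    choose hT hsurj hinj using hcore
    refine ⟨ι, n, s, fun a => XF u (n a) (s a), hns, fun a => rfl, hcov, hT, ?_, ?_⟩
    · intro a t
      exact cond_of_awayMap_surjective (u.gradedAt ⊤ hY (XF u (n a) (s a)) (hT a) (le_pre q _))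
        (s a) (hns a).2 (hsurj a) (𝒮L.str.app (op (XF u (n a) (s a)))).hom
        (𝒮L.str_mem _ (hT a)) t
    · intro a
      exact cond_of_awayMap_injective (u.gradedAt ⊤ hY (XF u (n a) (s a)) (hT a) (le_pre q _))
        (s a) (hns a).2 (hinj a inferInstance)
  · rintro ⟨ι, n, s, XT, hns, hXT, hcov, hT, hiii, hiv⟩
    obtain rfl : XT = fun a => XF u (n a) (s a) := funext hXT
    have hdom : RelProj.domQ u pL chartL = ⊤ := by
      refine (main_S12145 q L hL hLq 𝒮 𝒮L j hj u p chart hP pL chartL hPL hY).mpr ?_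
      intro x
      have hx : x ∈ (⨆ a, XF u (n a) (s a)) := by rw [hcov]; trivial
      obtain ⟨a, ha⟩ := Opens.mem_iSup.mp hx
      obtain ⟨V, hV, hxV, hsub⟩ := (mem_XF u (n a) (s a) x).mp ha
      exact ⟨n a, (hns a).1, s a, (hns a).2, V, hV, hxV, hsub⟩
    refine ⟨hdom, ?_⟩
    have hPr : ∀ a, (MorphismProperty.isomorphisms Scheme.{u}) (Spec.map (CommRingCat.ofHom
        (Away.map (u.gradedAt ⊤ hY (XF u (n a) (s a)) (hT a) (le_pre q _)) (s a)))) := by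
      intro a
      refine (MorphismProperty.isomorphisms.iff _).mpr (isIso_SpecMap_iff.mpr ⟨?_, ?_⟩)
      · exact awayMap_injective_of_cond
          (u.gradedAt ⊤ hY (XF u (n a) (s a)) (hT a) (le_pre q _)) (s a) (hns a).2 (hiv a)
      · exact awayMap_surjective_of_cond
          (u.gradedAt ⊤ hY (XF u (n a) (s a)) (hT a) (le_pre q _))
          (s a) (hns a).2 (𝒮L.str.app (op (XF u (n a) (s a)))).hom (𝒮L.str_mem _ (hT a))
          (fun z => (tau_bijective u chart chartL hL hLq hj hP hPL r hr hY (hns a).1 (s a)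
            (hns a).2 (hT a)).2 z) (hiii a)
    obtain ⟨U, r', hfac, hiso, -⟩ := exists_lift_of_family
      (Pr := MorphismProperty.isomorphisms Scheme.{u})
      u chart chartL hL hLq hj hP hPL r hr hY n s hns hcov hT hPr
    haveI : IsIso r' := (MorphismProperty.isomorphisms.iff _).mp hiso
    rw [← hfac]
    infer_instance

theorem main_S12152 {Y X P PL : Scheme.{u}} (q : X ⟶ Y)
    (L : X.Modules) (hL : PicF.IsInvertible L) (hLq : Coh.IsQCoh L)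
    (𝒮 : RelProj.QCGrAlg Y) (𝒮L : RelProj.QCGrAlg X) (j : L ⟶ 𝒮L.toModule) (hj : RelProj.IsGrSymAlg L 𝒮L j)
    (u : RelProj.QGrHom q 𝒮 𝒮L)
    (p : P ⟶ Y) (chart : ∀ (U : Y.Opens) (hU : IsAffineOpen U), (((p ⁻¹ᵁ U : P.Opens) : Scheme.{u}) ≅ Proj (𝒮.deg U hU)))
    (hP : RelProj.IsRelProj 𝒮 p chart)
    (pL : PL ⟶ X) (chartL : ∀ (U : X.Opens) (hU : IsAffineOpen U), (((pL ⁻¹ᵁ U : PL.Opens) : Scheme.{u}) ≅ Proj (𝒮L.deg U hU)))
    (hPL : RelProj.IsRelProj 𝒮L pL chartL)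
    (r : ((RelProj.domQ u pL chartL : PL.Opens) : Scheme.{u}) ⟶ P)
    (hr : RelProj.IsProjQMapOn u p chart pL chartL (RelProj.domQ u pL chartL) r)
    (hY : IsAffineOpen (⊤ : Y.Opens)) :
    (RelProj.domQ u pL chartL = ⊤ ∧ IsClosedImmersion r) ↔
      ∃ (ι : Type u) (n : ι → ℕ) (s : ι → 𝒮.presheaf.obj (op ⊤)) (XT : ι → X.Opens),
        (∀ a, 0 < n a ∧ s a ∈ 𝒮.deg ⊤ hY (n a)) ∧
        (∀ a, XT a = (⨆ V : {V : X.affineOpens //
          ((𝒮L.deg V.1 V.2 (n a) : AddSubgroup (𝒮L.presheaf.obj (op (V.1 : X.Opens)))) : Set (𝒮L.presheaf.obj (op (V.1 : X.Opens)))) ⊆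
            (Ideal.span {(u.appLE ⊤ (V.1 : X.Opens) (le_top.trans (Scheme.Hom.preimage_top q).ge)).hom (s a)} : Set (𝒮L.presheaf.obj (op (V.1 : X.Opens))))},
          (V.1.1 : X.Opens))) ∧
        (⨆ a, XT a) = ⊤ ∧ (∀ a, IsAffineOpen (XT a)) ∧
        (∀ (a : ι) (t : X.presheaf.obj (op (XT a))), ∃ (m : ℕ) (_ : 0 < m) (s' : 𝒮.presheaf.obj (op ⊤)) (_ : s' ∈ 𝒮.deg ⊤ hY (m * n a)),
            (𝒮L.str.app (op (XT a))).hom t * ((u.appLE ⊤ (XT a) (le_top.trans (Scheme.Hom.preimage_top q).ge)).hom (s a)) ^ m =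
              (u.appLE ⊤ (XT a) (le_top.trans (Scheme.Hom.preimage_top q).ge)).hom s') ∧
        (⨆ a, Proj.basicOpen (𝒮.deg ⊤ hY) (s a)) = ⊤ := by
  haveI : L.IsQuasicoherent := hLq
  constructor
  · rintro ⟨hdom, hcl⟩
    haveI := hcl
    obtain ⟨ι, n, s, hns, hcov, hcore, hall⟩ :=
      exists_family_of_factor u chart chartL hL hLq hj hP hPL r hr hY hdom (𝟙 P) r
        (Category.comp_id r)
    choose hT hsurj hinj using hcore
    refine ⟨ι, n, s, fun a => XF u (n a) (s a), hns, fun a => rfl, hcov, hT, ?_, ?_⟩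
    · intro a t
      exact cond_of_awayMap_surjective (u.gradedAt ⊤ hY (XF u (n a) (s a)) (hT a) (le_pre q _))
        (s a) (hns a).2 (hsurj a) (𝒮L.str.app (op (XF u (n a) (s a)))).hom
        (𝒮L.str_mem _ (hT a)) t
    · rw [eq_top_iff]
      intro z _
      obtain ⟨k, hk, g, hg, hzg⟩ := exists_homog_basicOpen (𝒮.deg ⊤ hY) z
      obtain ⟨a, ha⟩ := hall k g hk hg (fun x _ => ⟨x, rfl⟩)
      exact Opens.mem_iSup.mpr ⟨a, by rw [ha]; exact hzg⟩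
  · rintro ⟨ι, n, s, XT, hns, hXT, hcov, hT, hiii, hv⟩
    obtain rfl : XT = fun a => XF u (n a) (s a) := funext hXT
    have hdom : RelProj.domQ u pL chartL = ⊤ := by
      refine (main_S12145 q L hL hLq 𝒮 𝒮L j hj u p chart hP pL chartL hPL hY).mpr ?_
      intro x
      have hx : x ∈ (⨆ a, XF u (n a) (s a)) := by rw [hcov]; trivial
      obtain ⟨a, ha⟩ := Opens.mem_iSup.mp hx
      obtain ⟨V, hV, hxV, hsub⟩ := (mem_XF u (n a) (s a) x).mp ha
      exact ⟨n a, (hns a).1, s a, (hns a).2, V, hV, hxV, hsub⟩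
    refine ⟨hdom, ?_⟩
    have hPr : ∀ a, IsClosedImmersion (Spec.map (CommRingCat.ofHom
        (Away.map (u.gradedAt ⊤ hY (XF u (n a) (s a)) (hT a) (le_pre q _)) (s a)))) := by
      intro a
      apply IsClosedImmersion.spec_of_surjective
      exact awayMap_surjective_of_cond (u.gradedAt ⊤ hY (XF u (n a) (s a)) (hT a) (le_pre q _))
        (s a) (hns a).2 (𝒮L.str.app (op (XF u (n a) (s a)))).hom (𝒮L.str_mem _ (hT a))
        (fun z => (tau_bijective u chart chartL hL hLq hj hP hPL r hr hY (hns a).1 (s a)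
          (hns a).2 (hT a)).2 z) (hiii a)
    obtain ⟨U, r', hfac, hcl, hUeq⟩ := exists_lift_of_family (Pr := @IsClosedImmersion)
      u chart chartL hL hLq hj hP hPL r hr hY n s hns hcov hT hPr
    haveI : IsClosedImmersion r' := hcl
    have hUtop : U = ⊤ := by
      rw [hUeq, eq_top_iff]
      intro z' _
      obtain ⟨z, rfl⟩ := exists_emb p chart z' ⊤ hY trivial
      have hz : z ∈ (⨆ a, Proj.basicOpen (𝒮.deg ⊤ hY) (s a)) := by rw [hv]; trivial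
      obtain ⟨a, ha⟩ := Opens.mem_iSup.mp hz
      exact Opens.mem_iSup.mpr ⟨a, z, ha, rfl⟩
    haveI : IsIso U.ι := isIso_ι_of_eq_top U hUtop
    rw [← hfac]
    infer_instance

end Groth.Agent.H4.ProjSymL3
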