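import Groth.Agent.H4.ProjSymL2

set_option autoImplicit false
set_option linter.style.haveILetI false
set_option linter.unusedSectionVars false
set_option linter.unusedVariables false

namespace Groth.Agent.H4.ProjSymL4

open CategoryTheory CategoryTheory.Limits AlgebraicGeometry TopologicalSpace Opposite
open HomogeneousLocalization
open Groth.Agent.H4 Groth.Agent.H4.RelSpecLib Groth.Agent.H4.ConeImm Groth.Agent.H4.ConeInf
open Groth.Agent.H4.ConeRetrAlg Groth.Agent.H4.ConeRetr Groth.Agent.H4.ConeRetr2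
open Groth.Agent.H4.ProjQ Groth.Agent.H4.ProjQ2 Groth.Agent.H4.ProjBC
open Groth.Agent.H4.ProjSymL Groth.Agent.H4.ProjSymL2
open scoped HomogeneousIdeal

universe u

theorem domQ_le_of_factor {Y X PL : Scheme.{u}} {q : X ⟶ Y} {𝒯 𝒯' : RelProj.QCGrAlg Y}
    {𝒮L : RelProj.QCGrAlg X}
    (v : RelProj.QGrHom q 𝒯 𝒮L) (w : RelProj.QGrHom q 𝒯' 𝒮L)
    (θ : 𝒯.toQCAlg ⟶ 𝒯'.toQCAlg) (hθ : RelProj.IsGradedHom θ)
    (hvw : ∀ U : Y.Opens, v.app U = θ.hom.app (op U) ≫ w.app U)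
    {pL : PL ⟶ X}
    (chartL : ∀ (U : X.Opens) (hU : IsAffineOpen U),
      (((pL ⁻¹ᵁ U : PL.Opens) : Scheme.{u}) ≅ Proj (𝒮L.deg U hU)))
    (hPL : RelProj.IsRelProj 𝒮L pL chartL) :
    RelProj.domQ v pL chartL ≤ RelProj.domQ w pL chartL := by
  intro x' hx'
  obtain ⟨U, hU, hxU, -⟩ := Opens.isBasis_iff_nbhd.mp Y.isBasis_affineOpens
    (show q.base (pL.base x') ∈ (⊤ : Y.Opens) from trivial)
  obtain ⟨U', hU', hxU', hle⟩ := Opens.isBasis_iff_nbhd.mp X.isBasis_affineOpens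
    (show pL.base x' ∈ q ⁻¹ᵁ U from hxU)
  obtain ⟨y, rfl⟩ := exists_emb pL chartL x' U' hU' hxU'
  have hx'' : (RelProj.emb pL chartL U' hU').base y ∈ RelProj.domQ v pL chartL := hx'
  have h1 := (mem_domQ_iff v pL chartL hPL U hU U' hU' hle y).mp hx''
  show (RelProj.emb pL chartL U' hU').base y ∈ RelProj.domQ w pL chartL
  rw [mem_domQ_iff w pL chartL hPL U hU U' hU' hle y]
  rw [RelCone.mem_domOpen] at h1 ⊢
  obtain ⟨f, hf, hfy⟩ := h1
  refine ⟨(RelProj.gradedHomAt θ hθ U hU) f, ConeLib.gradedHom_mem_irrelevant _ hf, ?_⟩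
  have e : (w.gradedAt U hU U' hU' hle) ((RelProj.gradedHomAt θ hθ U hU) f) =
      (v.gradedAt U hU U' hU' hle) f := by
    have h2 : v.appLE U U' hle = θ.hom.app (op U) ≫ w.appLE U U' hle := by
      rw [RelSpec.QHom.appLE_eq, RelSpec.QHom.appLE_eq, hvw U, Category.assoc]
    exact (congrArg (fun t : 𝒯.presheaf.obj (op U) ⟶ 𝒮L.presheaf.obj (op U') => t.hom f) h2).symm
  rw [e]
  exact hfy

theorem main_S12159 {Y X P PL : Scheme.{u}} (q : X ⟶ Y)
    (L : X.Modules) (hL : PicF.IsInvertible L) (hLq : Coh.IsQCoh L)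
    (𝒮 : RelProj.QCGrAlg Y) (𝒮L : RelProj.QCGrAlg X) (j : L ⟶ 𝒮L.toModule) (hj : RelProj.IsGrSymAlg L 𝒮L j)
    (u : RelProj.QGrHom q 𝒮 𝒮L)
    (p : P ⟶ Y) (chart : ∀ (U : Y.Opens) (hU : IsAffineOpen U), (((p ⁻¹ᵁ U : P.Opens) : Scheme.{u}) ≅ Proj (𝒮.deg U hU)))
    (hP : RelProj.IsRelProj 𝒮 p chart)
    (pL : PL ⟶ X) (chartL : ∀ (U : X.Opens) (hU : IsAffineOpen U), (((pL ⁻¹ᵁ U : PL.Opens) : Scheme.{u}) ≅ Proj (𝒮L.deg U hU)))
    (hPL : RelProj.IsRelProj 𝒮L pL chartL)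
    [CompactSpace Y] [QuasiCompact q]
    (Λ : Type u) [Preorder Λ] [IsDirected Λ (· ≤ ·)] [Nonempty Λ]
    (𝒮i : Λ → RelProj.QCGrAlg Y) (φ : ∀ i, (𝒮i i).toQCAlg ⟶ 𝒮.toQCAlg) (hφ : ∀ i, RelProj.IsGradedHom (φ i))
    (t : ∀ i j, i ≤ j → ((𝒮i i).toQCAlg ⟶ (𝒮i j).toQCAlg)) (ht : ∀ i j (h : i ≤ j), RelProj.IsGradedHom (t i j h))
    (hφt : ∀ i j (h : i ≤ j), t i j h ≫ φ j = φ i)
    (hsurj : ∀ (U : Y.Opens), IsAffineOpen U → ∀ x : 𝒮.presheaf.obj (op U),
      ∃ (i : Λ) (y : (𝒮i i).presheaf.obj (op U)), ((φ i).hom.app (op U)).hom y = x)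
    (hker : ∀ (U : Y.Opens), IsAffineOpen U → ∀ (i : Λ) (y : (𝒮i i).presheaf.obj (op U)),
      ((φ i).hom.app (op U)).hom y = 0 → ∃ (j : Λ) (h : i ≤ j), ((t i j h).hom.app (op U)).hom y = 0)
    (ui : ∀ i, RelProj.QGrHom q (𝒮i i) 𝒮L) (hui : ∀ i (U : Y.Opens), (ui i).app U = (φ i).hom.app (op U) ≫ u.app U) :
    (RelProj.domQ u pL chartL = ⊤ ↔ ∃ i, RelProj.domQ (ui i) pL chartL = ⊤) ∧
      ∀ i, RelProj.domQ (ui i) pL chartL = ⊤ → ∀ j, i ≤ j → RelProj.domQ (ui j) pL chartL = ⊤ := by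
  have hmono : ∀ i j, i ≤ j →
      RelProj.domQ (ui i) pL chartL ≤ RelProj.domQ (ui j) pL chartL := by
    intro i j h
    refine domQ_le_of_factor (ui i) (ui j) (t i j h) (ht i j h) ?_ chartL hPL
    intro U
    rw [hui i U, hui j U, ← Category.assoc]
    congr 1
    exact (congrArg (fun θ : (𝒮i i).toQCAlg ⟶ 𝒮.toQCAlg => θ.hom.app (op U)) (hφt i j h)).symm
  have hle_u : ∀ i, RelProj.domQ (ui i) pL chartL ≤ RelProj.domQ u pL chartL :=
    fun i => domQ_le_of_factor (ui i) u (φ i) (hφ i) (hui i) chartL hPL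
  have hex : ∀ x' : PL, x' ∈ RelProj.domQ u pL chartL →
      ∃ i, x' ∈ RelProj.domQ (ui i) pL chartL := by
    intro x' hx'
    obtain ⟨U, hU, hxU, -⟩ := Opens.isBasis_iff_nbhd.mp Y.isBasis_affineOpens
      (show q.base (pL.base x') ∈ (⊤ : Y.Opens) from trivial)
    obtain ⟨U', hU', hxU', hle⟩ := Opens.isBasis_iff_nbhd.mp X.isBasis_affineOpens
      (show pL.base x' ∈ q ⁻¹ᵁ U from hxU)
    obtain ⟨y, rfl⟩ := exists_emb pL chartL x' U' hU' hxU'
    have h1 := (mem_domQ_iff u pL chartL hPL U hU U' hU' hle y).mp hx'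
    rw [RelCone.mem_domOpen] at h1
    obtain ⟨f, hf, hfy⟩ := h1
    obtain ⟨d, hd, f', hf', hf'y⟩ := ConeAlg.exists_homog_notMem (𝒮.deg U hU)
      (Ideal.comap (u.gradedAt U hU U' hU' hle) y.asHomogeneousIdeal.toIdeal) hf hfy
    obtain ⟨i, g, hg⟩ := hsurj U hU f'
    refine ⟨i, ?_⟩
    rw [mem_domQ_iff (ui i) pL chartL hPL U hU U' hU' hle y, RelCone.mem_domOpen]
    have hgd : ((DirectSum.decompose ((𝒮i i).deg U hU) g d :
        (𝒮i i).deg U hU d) : (𝒮i i).presheaf.obj (op U)) ∈ (𝒮i i).deg U hU d := SetLike.coe_mem _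
    have hφgd : ((φ i).hom.app (op U)).hom ((DirectSum.decompose ((𝒮i i).deg U hU) g d :
        (𝒮i i).deg U hU d) : (𝒮i i).presheaf.obj (op U)) = f' := by
      have h2 : (RelProj.gradedHomAt (φ i) (hφ i) U hU)
          ((DirectSum.decompose ((𝒮i i).deg U hU) g d :
            (𝒮i i).deg U hU d) : (𝒮i i).presheaf.obj (op U)) =
          (DirectSum.decompose (𝒮.deg U hU) ((RelProj.gradedHomAt (φ i) (hφ i) U hU) g) d :
            𝒮.presheaf.obj (op U)) :=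
        GradedRingHom.map_directSumDecompose _ _ _
      have h3 : (RelProj.gradedHomAt (φ i) (hφ i) U hU) g = f' := hg
      rw [h3, DirectSum.decompose_of_mem_same _ hf'] at h2
      exact h2
    refine ⟨_, HomogeneousIdeal.mem_irrelevant_of_mem _ hd hgd, ?_⟩
    have e : ((ui i).gradedAt U hU U' hU' hle)
        ((DirectSum.decompose ((𝒮i i).deg U hU) g d :
          (𝒮i i).deg U hU d) : (𝒮i i).presheaf.obj (op U)) =
        (u.gradedAt U hU U' hU' hle) f' := by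
      have h2 : (ui i).appLE U U' hle = (φ i).hom.app (op U) ≫ u.appLE U U' hle := by
        rw [RelSpec.QHom.appLE_eq, RelSpec.QHom.appLE_eq, hui i U, Category.assoc]
      have h3 := congrArg (fun t : (𝒮i i).presheaf.obj (op U) ⟶ 𝒮L.presheaf.obj (op U') =>
        t.hom ((DirectSum.decompose ((𝒮i i).deg U hU) g d :
          (𝒮i i).deg U hU d) : (𝒮i i).presheaf.obj (op U))) h2
      exact h3.trans (congrArg (u.appLE U U' hle).hom hφgd)
    rw [e]
    exact hf'y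
  refine ⟨⟨?_, ?_⟩, ?_⟩
  · intro hdom
    haveI : IsIso pL := main_S12143 L hL hLq 𝒮L j hj pL chartL hPL
    haveI : CompactSpace X := QuasiCompact.compactSpace_of_compactSpace q
    haveI : CompactSpace PL := pL.homeomorph.symm.compactSpace
    obtain ⟨i, hi⟩ := isCompact_univ.elim_directed_cover
      (fun i => ((RelProj.domQ (ui i) pL chartL : PL.Opens) : Set PL))
      (fun i => (RelProj.domQ (ui i) pL chartL).isOpen)
      (by
        intro x' _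
        obtain ⟨i, hi⟩ := hex x' (by rw [hdom]; trivial)
        exact Set.mem_iUnion.mpr ⟨i, hi⟩)
      (by
        intro i j
        obtain ⟨k, hik, hjk⟩ := directed_of (· ≤ ·) i j
        exact ⟨k, SetLike.coe_subset_coe.mpr (hmono i k hik),
          SetLike.coe_subset_coe.mpr (hmono j k hjk)⟩)
    exact ⟨i, eq_top_iff.mpr (fun x' _ => hi (Set.mem_univ x'))⟩
  · rintro ⟨i, hi⟩
    refine eq_top_iff.mpr ?_
    rw [← hi]
    exact hle_u i
  · intro i hi j hij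
    refine eq_top_iff.mpr ?_
    rw [← hi]
    exact hmono i j hij

end Groth.Agent.H4.ProjSymL4
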