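import Mathlib
import Groth.Agent.Lib.Helper2.ConeD
import Groth.Agent.Lib.Helper1.ProjBasic
import Groth.Agent.H4.ProjG

set_option autoImplicit false

namespace Groth.Agent.H4.ProjVer

open CategoryTheory CategoryTheory.Limits AlgebraicGeometry HomogeneousLocalization
open Groth.Agent.H2.Cone

universe u

theorem awayMap_mk' {B A : Type*} [CommRing A] [CommRing B] (φ : B →+* A) (g a s : B)
    (hs : s ∈ Submonoid.powers g) (hs' : φ s ∈ Submonoid.powers (φ g)) :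
    Localization.awayMap φ g (Localization.mk a ⟨s, hs⟩) = Localization.mk (φ a) ⟨φ s, hs'⟩ := by
  rw [Localization.mk_eq_mk', Localization.mk_eq_mk']
  unfold Localization.awayMap IsLocalization.Away.map
  rw [IsLocalization.map_mk']

section

variable {R A : Type u} [CommRing R] [CommRing A] [Algebra R A] (𝒜 : ℕ → Submodule R A)
  [GradedAlgebra 𝒜]
  {B : Type u} [CommRing B] [Algebra R B] (ℬ : ℕ → Submodule R B) [GradedAlgebra ℬ]
  (d : ℕ) (φ : B →ₐ[R] A)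

theorem mem_range_awayι_iff {f : A} {m : ℕ} (hf : f ∈ 𝒜 m) (hm : 0 < m) (p : Proj 𝒜) :
    p ∈ Set.range (Proj.awayι 𝒜 f hf hm) ↔ f ∉ p.asHomogeneousIdeal := by
  rw [← Proj.mem_basicOpen, ← Proj.opensRange_awayι 𝒜 f hf hm]
  rfl

theorem algMap_inj (f : A) :
    Function.Injective (algebraMap (Away 𝒜 f) (Localization.Away f)) := by
  intro a b h
  rw [HomogeneousLocalization.algebraMap_apply, HomogeneousLocalization.algebraMap_apply] at h
  exact HomogeneousLocalization.val_injective _ h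

/-- the comparison map into the full localization -/
noncomputable def ψ (g : B) : Away ℬ g →+* Localization.Away (φ g) :=
  (Localization.awayMap φ.toRingHom g).comp (algebraMap (Away ℬ g) (Localization.Away g))

variable (hmap : ∀ n : ℕ, ∀ b ∈ ℬ n, φ b ∈ 𝒜 (n * d))

include hmap in
theorem exists_val_eq (g : B) (x : Away ℬ g) :
    ∃ y : Away 𝒜 (φ g), algebraMap (Away 𝒜 (φ g)) (Localization.Away (φ g)) y = ψ ℬ φ g x := by
  obtain ⟨c, rfl⟩ := HomogeneousLocalization.mk_surjective x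
  obtain ⟨k, hk⟩ := (Submonoid.mem_powers_iff _ _).mp c.den_mem
  have hden : φ (c.den : B) ∈ Submonoid.powers (φ g) :=
    (Submonoid.mem_powers_iff _ _).mpr ⟨k, by rw [← hk, map_pow]⟩
  refine ⟨HomogeneousLocalization.mk ⟨c.deg * d, ⟨φ c.num, hmap _ _ c.num.2⟩,
    ⟨φ c.den, hmap _ _ c.den.2⟩, hden⟩, ?_⟩
  rw [HomogeneousLocalization.algebraMap_apply, HomogeneousLocalization.val_mk]
  show _ = Localization.awayMap φ.toRingHom g
    (algebraMap (Away ℬ g) (Localization.Away g) (HomogeneousLocalization.mk c))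
  rw [HomogeneousLocalization.algebraMap_apply, HomogeneousLocalization.val_mk]
  exact (awayMap_mk' φ.toRingHom g _ _ c.den_mem hden).symm

/-- the underlying function of the chart comparison -/
noncomputable def γfun (g : B) (x : Away ℬ g) : Away 𝒜 (φ g) :=
  (exists_val_eq 𝒜 ℬ d φ hmap g x).choose

theorem γfun_spec (g : B) (x : Away ℬ g) :
    algebraMap (Away 𝒜 (φ g)) (Localization.Away (φ g)) (γfun 𝒜 ℬ d φ hmap g x) = ψ ℬ φ g x :=
  (exists_val_eq 𝒜 ℬ d φ hmap g x).choose_spec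

/-- the chart comparison `ℬ_(g) → 𝒜_(φ g)` -/
noncomputable def γ (g : B) : Away ℬ g →+* Away 𝒜 (φ g) where
  toFun := γfun 𝒜 ℬ d φ hmap g
  map_one' := algMap_inj 𝒜 _ (by rw [γfun_spec, map_one, map_one])
  map_mul' x y := algMap_inj 𝒜 _ (by rw [γfun_spec, map_mul, map_mul, γfun_spec, γfun_spec])
  map_zero' := algMap_inj 𝒜 _ (by rw [γfun_spec, map_zero, map_zero])
  map_add' x y := algMap_inj 𝒜 _ (by rw [γfun_spec, map_add, map_add, γfun_spec, γfun_spec])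

theorem γ_spec (g : B) (x : Away ℬ g) :
    algebraMap (Away 𝒜 (φ g)) (Localization.Away (φ g)) (γ 𝒜 ℬ d φ hmap g x) = ψ ℬ φ g x :=
  γfun_spec 𝒜 ℬ d φ hmap g x

include hmap in
theorem hmapk {n k : ℕ} {b : B} (hb : b ∈ ℬ (k • n)) : φ b ∈ 𝒜 (k • (n * d)) := by
  have h := hmap (k • n) b hb
  have e : (k • n) * d = k • (n * d) := by simp only [smul_eq_mul]; ring
  rwa [e] at h

theorem γ_mk {g : B} {n : ℕ} (hg : g ∈ ℬ n) (k : ℕ) (b : B) (hb : b ∈ ℬ (k • n)) :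
    γ 𝒜 ℬ d φ hmap g (Away.mk ℬ hg k b hb) =
      Away.mk 𝒜 (hmap n g hg) k (φ b) (hmapk 𝒜 ℬ d φ hmap hb) := by
  apply algMap_inj 𝒜
  rw [γ_spec, HomogeneousLocalization.algebraMap_apply, Away.val_mk]
  show Localization.awayMap φ.toRingHom g
    (algebraMap (Away ℬ g) (Localization.Away g) (Away.mk ℬ hg k b hb)) = _
  rw [HomogeneousLocalization.algebraMap_apply, Away.val_mk]
  have hs' : φ.toRingHom (g ^ k) ∈ Submonoid.powers (φ.toRingHom g) :=
    ⟨k, (map_pow _ _ _).symm⟩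
  rw [awayMap_mk' φ.toRingHom g b (g ^ k) _ hs']
  rw [Localization.mk_eq_mk_iff, Localization.r_iff_exists]
  refine ⟨1, ?_⟩
  show (1 : A) * (φ g ^ k * φ b) = (1 : A) * (φ (g ^ k) * φ b)
  rw [map_pow]

theorem γ_awayMap {f g x : B} {n n' : ℕ} (hf : f ∈ ℬ n) (hg : g ∈ ℬ n') (hx : x = f * g)
    (hx' : φ x = φ f * φ g) :
    (γ 𝒜 ℬ d φ hmap x).comp (awayMap ℬ hg hx) =
      (awayMap 𝒜 (hmap n' g hg) hx').comp (γ 𝒜 ℬ d φ hmap f) := by
  ext z
  obtain ⟨k, a, ha, rfl⟩ := Away.mk_surjective ℬ hf z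
  simp only [RingHom.comp_apply]
  rw [awayMap_mk, γ_mk, γ_mk, awayMap_mk]
  simp only [Away.val_mk, map_mul, map_pow]

theorem γ_injective (hφ : Function.Injective φ) (g : B) :
    Function.Injective (γ 𝒜 ℬ d φ hmap g) := by
  have h1 : Function.Injective (ψ ℬ φ g) := by
    show Function.Injective ((Localization.awayMap φ.toRingHom g).comp
      (algebraMap (Away ℬ g) (Localization.Away g)))
    rw [RingHom.coe_comp]
    refine Function.Injective.comp ?_ (algMap_inj ℬ g)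
    rw [Localization.awayMap_injective_iff]
    intro a ha
    exact ⟨0, by rw [pow_zero, one_mul]; exact hφ (by rw [map_zero]; exact ha)⟩
  intro a b hab
  apply h1
  rw [← γ_spec 𝒜 ℬ d φ hmap, ← γ_spec 𝒜 ℬ d φ hmap, hab]

theorem γ_surjective (hsurjd : ∀ n : ℕ, ∀ a ∈ 𝒜 (n * d), ∃ b ∈ ℬ n, φ b = a)
    {n : ℕ} {g : B} (hg : g ∈ ℬ n) :
    Function.Surjective (γ 𝒜 ℬ d φ hmap g) := by
  intro w
  obtain ⟨k, a, ha, rfl⟩ := Away.mk_surjective 𝒜 (hmap n g hg) w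
  have ha' : a ∈ 𝒜 ((k • n) * d) := by
    have e : (k • n) * d = k • (n * d) := by simp only [smul_eq_mul]; ring
    rw [e]; exact ha
  obtain ⟨b, hb, rfl⟩ := hsurjd (k • n) a ha'
  refine ⟨Away.mk ℬ hg k b hb, ?_⟩
  rw [γ_mk]

variable (hd : 0 < d)

include hmap hd in
theorem decompose_map (b : B) (i : ℕ) :
    (DirectSum.decompose 𝒜 (φ b) (i * d) : A) = φ (DirectSum.decompose ℬ b i : B) := by
  classical
  conv_lhs => rw [← DirectSum.sum_support_decompose ℬ b]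
  rw [map_sum, DirectSum.decompose_sum, DFinsupp.finset_sum_apply,
    AddSubmonoidClass.coe_finset_sum]
  rw [Finset.sum_eq_single i]
  · exact DirectSum.decompose_of_mem_same 𝒜 (hmap i _ (SetLike.coe_mem _))
  · intro k _ hki
    exact DirectSum.decompose_of_mem_ne 𝒜 (hmap k _ (SetLike.coe_mem _))
      (fun h => hki (Nat.eq_of_mul_eq_mul_right hd h))
  · intro hi
    have h0 : (DirectSum.decompose ℬ b i : B) = 0 := by
      rw [DFinsupp.notMem_support_iff] at hi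
      rw [hi]; rfl
    rw [h0, map_zero, DirectSum.decompose_zero]
    rfl

variable (hsurjd : ∀ n : ℕ, ∀ a ∈ 𝒜 (n * d), ∃ b ∈ ℬ n, φ b = a)

include hd hsurjd in
theorem hcov (x : Proj 𝒜) :
    ∃ (n : ℕ) (g : B) (hn : 0 < n) (hg : g ∈ ℬ n),
      x ∈ Set.range (Proj.awayι 𝒜 (φ g) (hmap n g hg) (Nat.mul_pos hn hd)) := by
  obtain ⟨m, f, hm, hf, hfx⟩ := Groth.Agent.H1.PB.exists_homogeneous_pos_notMem 𝒜 x
  have hfd : f ^ d ∈ 𝒜 (m * d) := by
    have := SetLike.pow_mem_graded d hf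
    rwa [smul_eq_mul, mul_comm] at this
  obtain ⟨g, hg, hgf⟩ := hsurjd m _ hfd
  refine ⟨m, g, hm, hg, ?_⟩
  rw [mem_range_awayι_iff, hgf]
  intro h
  exact hfx (((x : ProjectiveSpectrum 𝒜).isPrime.pow_mem_iff_mem d hd).mp h)

include hd hsurjd in
theorem exists_π :
    ∃ π : Proj 𝒜 ⟶ Proj ℬ, ∀ (n : ℕ) (g : B) (hn : 0 < n) (hg : g ∈ ℬ n),
      Proj.awayι 𝒜 (φ g) (hmap n g hg) (Nat.mul_pos hn hd) ≫ π =
        Spec.map (CommRingCat.ofHom (γ 𝒜 ℬ d φ hmap g)) ≫ Proj.awayι ℬ g hg hn := by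
  have key := existsUnique_of_charts ℬ (E := Proj 𝒜) (fun g => Away 𝒜 (φ g))
    (fun n g hn hg => Proj.awayι 𝒜 (φ g) (hmap n g hg) (Nat.mul_pos hn hd))
    (hc := fun _ _ _ _ => inferInstance)
    (fun x => hcov 𝒜 ℬ d φ hmap hd hsurjd x)
    (fun g => γ 𝒜 ℬ d φ hmap g)
    (by
      intro n f hn hf n' g hn' hg x hx e he hxe
      have hx' : φ x = φ f * φ g := by rw [hx, map_mul]
      refine ⟨awayMap 𝒜 (hmap n' g hg) hx', ?_, ?_⟩
      · exact Proj.SpecMap_awayMap_awayι 𝒜 (hmap n f hf) (Nat.mul_pos hn hd) (hmap n' g hg) hx'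
      · exact γ_awayMap 𝒜 ℬ d φ hmap hf hg hx hx')
    (by
      intro n f hn hf n' g hn' hg p hp
      obtain ⟨h1, h2⟩ := hp
      rw [mem_range_awayι_iff] at h1 h2 ⊢
      rw [map_mul]
      intro h
      rcases (p : ProjectiveSpectrum 𝒜).isPrime.mem_or_mem h with h | h
      · exact h1 h
      · exact h2 h)
  obtain ⟨π, hπ, -⟩ := key
  exact ⟨π, hπ⟩

variable (π : Proj 𝒜 ⟶ Proj ℬ)
  (hπ : ∀ (n : ℕ) (g : B) (hn : 0 < n) (hg : g ∈ ℬ n),
      Proj.awayι 𝒜 (φ g) (hmap n g hg) (Nat.mul_pos hn hd) ≫ π =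
        Spec.map (CommRingCat.ofHom (γ 𝒜 ℬ d φ hmap g)) ≫ Proj.awayι ℬ g hg hn)

include hπ hsurjd in
theorem mem_π_iff (p : Proj 𝒜) {m : ℕ} {b : B} (hb : b ∈ ℬ m) :
    b ∈ (π.base p : ProjectiveSpectrum ℬ).asHomogeneousIdeal ↔
      φ b ∈ (p : ProjectiveSpectrum 𝒜).asHomogeneousIdeal := by
  obtain ⟨n, g, hn, hg, y, rfl⟩ := hcov 𝒜 ℬ d φ hmap hd hsurjd p
  have e1 : π.base ((Proj.awayι 𝒜 (φ g) (hmap n g hg) (Nat.mul_pos hn hd)).base y) =
      (Proj.awayι ℬ g hg hn).base ((Spec.map (CommRingCat.ofHom (γ 𝒜 ℬ d φ hmap g))).base y) := by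
    have := congrArg (fun t : Spec (CommRingCat.of (Away 𝒜 (φ g))) ⟶ Proj ℬ => t.base y)
      (hπ n g hn hg)
    exact this
  rw [e1, mem_awayι_iff_of_mem ℬ hg hn _ hb]
  change γ 𝒜 ℬ d φ hmap g (Away.mk ℬ hg m (b ^ n) _) ∈ (y : PrimeSpectrum _).asIdeal ↔ _
  rw [γ_mk, Away.mk, mk_mem_iff_awayι 𝒜 (hmap n g hg) (Nat.mul_pos hn hd)]
  change φ (b ^ n) ∈ (Proj.awayι 𝒜 (φ g) (hmap n g hg) (Nat.mul_pos hn hd) y :
    ProjectiveSpectrum 𝒜).asHomogeneousIdeal.toIdeal ↔ _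
  rw [map_pow, (Proj.awayι 𝒜 (φ g) (hmap n g hg) (Nat.mul_pos hn hd) y :
    ProjectiveSpectrum 𝒜).isPrime.pow_mem_iff_mem n hn]
  exact Iff.rfl

include hπ hsurjd in
theorem π_ideal (p : Proj 𝒜) :
    (π.base p : ProjectiveSpectrum ℬ).asHomogeneousIdeal.toIdeal =
      Ideal.comap φ (p : ProjectiveSpectrum 𝒜).asHomogeneousIdeal.toIdeal := by
  classical
  ext b
  rw [Ideal.mem_comap]
  constructor
  · intro hb
    rw [← DirectSum.sum_support_decompose ℬ b, map_sum]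
    refine sum_mem (fun i _ => ?_)
    have h1 : (DirectSum.decompose ℬ b i : B) ∈
        (π.base p : ProjectiveSpectrum ℬ).asHomogeneousIdeal :=
      (π.base p : ProjectiveSpectrum ℬ).asHomogeneousIdeal.isHomogeneous i hb
    exact (mem_π_iff 𝒜 ℬ d φ hmap hd hsurjd π hπ p (SetLike.coe_mem _)).mp h1
  · intro hb
    rw [← DirectSum.sum_support_decompose ℬ b]
    refine sum_mem (fun i _ => ?_)
    have h1 : (DirectSum.decompose 𝒜 (φ b) (i * d) : A) ∈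
        (p : ProjectiveSpectrum 𝒜).asHomogeneousIdeal :=
      (p : ProjectiveSpectrum 𝒜).asHomogeneousIdeal.isHomogeneous (i * d) hb
    rw [decompose_map 𝒜 ℬ d φ hmap hd] at h1
    exact (mem_π_iff 𝒜 ℬ d φ hmap hd hsurjd π hπ p (SetLike.coe_mem _)).mpr h1

include hπ hsurjd in
theorem π_preimage {n : ℕ} {g : B} (hn : 0 < n) (hg : g ∈ ℬ n) :
    π ⁻¹ᵁ (Proj.awayι ℬ g hg hn).opensRange =
      (Proj.awayι 𝒜 (φ g) (hmap n g hg) (Nat.mul_pos hn hd)).opensRange := by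
  rw [Proj.opensRange_awayι, Proj.opensRange_awayι]
  ext p
  show π.base p ∈ Proj.basicOpen ℬ g ↔ p ∈ Proj.basicOpen 𝒜 (φ g)
  rw [Proj.mem_basicOpen, Proj.mem_basicOpen]
  exact not_congr (mem_π_iff 𝒜 ℬ d φ hmap hd hsurjd π hπ p hg)

include hπ hsurjd in
theorem isIso_π (hφ : Function.Injective φ) : IsIso π := by
  have h := Groth.Agent.H4.ProjG.of_isPullback_openCover
    (P := MorphismProperty.isomorphisms Scheme.{u}) π
    (Proj.affineOpenCover ℬ).openCover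
    (fun i => Spec (.of (Away 𝒜 (φ i.2.1))))
    (fun i => Spec.map (CommRingCat.ofHom (γ 𝒜 ℬ d φ hmap i.2.1)))
    (fun i => Proj.awayι 𝒜 (φ i.2.1) (hmap _ _ i.2.2) (Nat.mul_pos i.1.2 hd))
    (fun i => IsOpenImmersion.isPullback _ _ _ _ (hπ _ _ i.1.2 i.2.2)
      (π_preimage 𝒜 ℬ d φ hmap hd hsurjd π hπ i.1.2 i.2.2))
    (fun i => (MorphismProperty.isomorphisms.iff _).mpr (isIso_SpecMap_iff.mpr
      ⟨γ_injective 𝒜 ℬ d φ hmap hφ _, γ_surjective 𝒜 ℬ d φ hmap hsurjd i.2.2⟩))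
  exact (MorphismProperty.isomorphisms.iff _).mp h

end

theorem main_S3580 {R A : Type u} [CommRing R] [CommRing A] [Algebra R A] (𝒜 : ℕ → Submodule R A) [GradedAlgebra 𝒜]
    {B : Type u} [CommRing B] [Algebra R B] (ℬ : ℕ → Submodule R B) [GradedAlgebra ℬ]
    (d : ℕ) (hd : 0 < d) (φ : B →ₐ[R] A) (hφ : Function.Injective φ)
    (hdeg : ∀ n : ℕ, Submodule.map φ.toLinearMap (ℬ n) = 𝒜 (n * d)) :
    ∃ e : Proj 𝒜 ≅ Proj ℬ,
      (∀ p : Proj 𝒜, (e.hom.base p).asHomogeneousIdeal.toIdeal = Ideal.comap φ p.asHomogeneousIdeal.toIdeal) ∧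
      ∀ (n : ℕ) (g : B) (hn : 0 < n) (hg : g ∈ ℬ n)
        (θ : CommRingCat.of (HomogeneousLocalization.Away ℬ g) ⟶ CommRingCat.of (HomogeneousLocalization.Away 𝒜 (φ g))),
        (algebraMap (HomogeneousLocalization.Away 𝒜 (φ g)) (Localization.Away (φ g))).comp θ.hom =
          (Localization.awayMap φ.toRingHom g).comp
            (algebraMap (HomogeneousLocalization.Away ℬ g) (Localization.Away g)) →
        Proj.awayι 𝒜 (φ g) ((hdeg n).le (Submodule.mem_map_of_mem hg)) (Nat.mul_pos hn hd) ≫ e.hom =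
          Spec.map θ ≫ Proj.awayι ℬ g hg hn := by
  have hmap : ∀ n : ℕ, ∀ b ∈ ℬ n, φ b ∈ 𝒜 (n * d) := fun n b hb =>
    (hdeg n).le (Submodule.mem_map_of_mem hb)
  have hsurjd : ∀ n : ℕ, ∀ a ∈ 𝒜 (n * d), ∃ b ∈ ℬ n, φ b = a := fun n a ha => by
    obtain ⟨b, hb, hba⟩ := Submodule.mem_map.mp ((hdeg n).ge ha)
    exact ⟨b, hb, hba⟩
  obtain ⟨π, hπ⟩ := exists_π 𝒜 ℬ d φ hmap hd hsurjd
  haveI : IsIso π := isIso_π 𝒜 ℬ d φ hmap hd hsurjd π hπ hφ
  refine ⟨asIso π, fun p => π_ideal 𝒜 ℬ d φ hmap hd hsurjd π hπ p, ?_⟩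
  intro n g hn hg θ hθ
  have hθγ : θ = CommRingCat.ofHom (γ 𝒜 ℬ d φ hmap g) := by
    apply CommRingCat.hom_ext
    apply RingHom.ext
    intro z
    apply algMap_inj 𝒜
    have h2 := congrArg (fun t : _ →+* _ => t z) hθ
    simp only [RingHom.comp_apply] at h2
    rw [h2]
    exact (γ_spec 𝒜 ℬ d φ hmap g z).symm
  rw [hθγ]
  exact hπ n g hn hg

end Groth.Agent.H4.ProjVer
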