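import Groth.Prelude.Def_W4c1hilbchowincPtFun
import Groth.Agent.H4.NormInt
set_option autoImplicit false
universe u
open CategoryTheory AlgebraicGeometry W4c1hilbchowinc
namespace Groth.Agent.H4.PtFunAff

variable (A : Type u) [CommRing A]

/-- evaluation `A → κ(x)` on `Spec A` -/
noncomputable def ev (x : Spec (CommRingCat.of A)) :
    A →+* (Spec (CommRingCat.of A)).residueField x :=
  ((Spec (CommRingCat.of A)).Γevaluation x).hom.comp (Scheme.ΓSpecIso (CommRingCat.of A)).inv.hom

variable {A}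

lemma ev_apply (x : Spec (CommRingCat.of A)) (a : A) :
    ev A x a = (Spec (CommRingCat.of A)).Γevaluation x
      ((Scheme.ΓSpecIso (CommRingCat.of A)).inv a) := rfl

lemma Γevaluation_eq_ev (x : Spec (CommRingCat.of A)) (s : Γ(Spec (CommRingCat.of A), ⊤)) :
    (Spec (CommRingCat.of A)).Γevaluation x s =
      ev A x ((Scheme.ΓSpecIso (CommRingCat.of A)).hom s) := by
  rw [ev_apply]
  congr 1
  exact (congrFun (congrArg (fun φ => (φ.hom : _ → _))
    (Scheme.ΓSpecIso (CommRingCat.of A)).hom_inv_id) s).symm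

/-- the prime ideal of a point -/
def pr (x : Spec (CommRingCat.of A)) : Ideal A := PrimeSpectrum.asIdeal (R := A) x

instance (x : Spec (CommRingCat.of A)) : (pr x).IsPrime := PrimeSpectrum.isPrime (R := A) x

lemma ev_eq_zero_iff (x : Spec (CommRingCat.of A)) (a : A) :
    ev A x a = 0 ↔ a ∈ pr x := by
  rw [ev_apply]
  refine (Scheme.evaluation_eq_zero_iff_notMem_basicOpen (U := ⊤) _ x trivial _).trans ?_
  rw [AlgebraicGeometry.basicOpen_eq_of_affine]
  change ¬ (a ∉ pr x) ↔ _
  exact not_not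

lemma exists_ev_frac (x : Spec (CommRingCat.of A)) (z : (Spec (CommRingCat.of A)).residueField x) :
    ∃ a b : A, ev A x b ≠ 0 ∧ z * ev A x b = ev A x a := by
  obtain ⟨a, b, hb, hab⟩ := Groth.Agent.H4.NormInt.exists_evaluation_frac
    (isAffineOpen_top (Spec (CommRingCat.of A))) x trivial z
  refine ⟨(Scheme.ΓSpecIso (CommRingCat.of A)).hom a, (Scheme.ΓSpecIso (CommRingCat.of A)).hom b, ?_, ?_⟩
  · rw [← Γevaluation_eq_ev]; exact hb
  · rw [← Γevaluation_eq_ev, ← Γevaluation_eq_ev]; exact hab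

lemma ev_naturality {R : Type u} [CommRing R] (φ : A →+* R) (y : Spec (CommRingCat.of R)) (a : A) :
    (Spec.map (CommRingCat.ofHom φ)).residueFieldMap y
      (ev A (Spec.map (CommRingCat.ofHom φ) y) a) = ev R y (φ a) := by
  rw [ev_apply, Scheme.Γevaluation_naturality_apply, ev_apply]
  congr 1
  exact (congrFun (congrArg (fun φ => (φ.hom : _ → _))
    (Scheme.ΓSpecIso_inv_naturality (CommRingCat.ofHom φ))) a).symm

lemma ev_congr (f : PtFun (Spec (CommRingCat.of A))) {x x' : Spec (CommRingCat.of A)} (h : x = x')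
    (a : A) (hx : ev A x a = f x) : ev A x' a = f x' := by
  subst h; exact hx

lemma ofSection_eq_iff (f : PtFun (Spec (CommRingCat.of A))) (s : Γ(Spec (CommRingCat.of A), ⊤)) :
    PtFun.ofSection _ s = f ↔
      ∀ x, ev A x ((Scheme.ΓSpecIso (CommRingCat.of A)).hom s) = f x := by
  constructor
  · intro h x
    rw [← Γevaluation_eq_ev]
    exact congrFun h x
  · intro h
    funext x
    rw [← h x, ← Γevaluation_eq_ev]
    rfl

/-- data from `VariesAlongDVR` in ring terms -/
lemma exists_of_varies (f : PtFun (Spec (CommRingCat.of A))) (hf : f.VariesAlongDVR)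
    (R : Type u) [CommRing R] [IsDomain R] [IsDiscreteValuationRing R] (φ : A →+* R) :
    ∃ r : R, ∀ y : Spec (CommRingCat.of R), ev R y r =
      (Spec.map (CommRingCat.ofHom φ)).residueFieldMap y (f (Spec.map (CommRingCat.ofHom φ) y)) := by
  obtain ⟨s, hs⟩ := hf R (Spec.map (CommRingCat.ofHom φ))
  refine ⟨(Scheme.ΓSpecIso (CommRingCat.of R)).hom s, fun y => ?_⟩
  rw [← Γevaluation_eq_ev]
  exact congrFun hs y

end Groth.Agent.H4.PtFunAff
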