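import Groth.Agent.H4.PtFunAff
import Groth.Agent.Lib.Helper8.DVRDominate
import Groth.Agent.S4434
import Groth.Agent.H4.TotFrac
set_option autoImplicit false
universe u
open CategoryTheory AlgebraicGeometry W4c1hilbchowinc Groth.Agent.H4.PtFunAff
namespace Groth.Agent.H4.PtFunDVR

variable {A : Type u} [CommRing A]

/-- the generic point of a domain -/
def gen (R : Type u) [CommRing R] [IsDomain R] : Spec (CommRingCat.of R) :=
  (⟨⊥, Ideal.isPrime_bot⟩ : PrimeSpectrum R)

lemma pr_gen (R : Type u) [CommRing R] [IsDomain R] : pr (gen R) = ⊥ := rfl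

/-- spreading: if `a` computes `f` at the image of the generic point of a DVR, it computes `f`
at the image of every point -/
lemma spread (f : PtFun (Spec (CommRingCat.of A))) (hf : f.VariesAlongDVR)
    (R : Type u) [CommRing R] [IsDomain R] [IsDiscreteValuationRing R] (φ : A →+* R) (a : A)
    (ha : ev A (Spec.map (CommRingCat.ofHom φ) (gen R)) a = f (Spec.map (CommRingCat.ofHom φ) (gen R)))
    (y : Spec (CommRingCat.of R)) :
    ev A (Spec.map (CommRingCat.ofHom φ) y) a = f (Spec.map (CommRingCat.ofHom φ) y) := by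
  obtain ⟨r, hr⟩ := exists_of_varies f hf R φ
  have h1 : φ a = r := by
    have h2 : ev R (gen R) (φ a) = ev R (gen R) r := by
      rw [hr, ← ev_naturality, ha]
    have h3 : ev R (gen R) (φ a - r) = 0 := by rw [map_sub, h2, sub_self]
    rw [ev_eq_zero_iff, pr_gen, Ideal.mem_bot, sub_eq_zero] at h3
    exact h3
  have h4 := hr y
  rw [← h1, ← ev_naturality] at h4
  exact RingHom.injective _ h4


lemma eq_of_minimal [IsNoetherianRing A] (f : PtFun (Spec (CommRingCat.of A)))
    (hf : f.VariesAlongDVR) (a : A)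
    (ha : ∀ q : Spec (CommRingCat.of A), pr q ∈ minimalPrimes A → ev A q a = f q)
    (x : Spec (CommRingCat.of A)) : ev A x a = f x := by
  obtain ⟨q, hq, hqx⟩ := Ideal.exists_minimalPrimes_le (I := (⊥ : Ideal A)) (J := pr x) bot_le
  let q' : PrimeSpectrum A := ⟨q, hq.1.1⟩
  let x' : PrimeSpectrum A := x
  have hle : q' ≤ x' := hqx
  rcases hle.eq_or_lt with h | h
  · have : (q' : Spec (CommRingCat.of A)) = x := h
    exact ev_congr f this a (ha q' hq)
  · obtain ⟨B, _, _, _, _, h1, h2⟩ := Groth.Agent.H8.KA.exists_dvr_of_lt h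
    have h3 := spread f hf B (algebraMap A B) a ?_ (IsLocalRing.closedPoint B)
    · exact ev_congr f h2 a h3
    · have h4 : Spec.map (CommRingCat.ofHom (algebraMap A B)) (gen B) = q' := h1
      exact ev_congr f h4.symm a (ha q' hq)


lemma mem_dvr (f : PtFun (Spec (CommRingCat.of A))) (hf : f.VariesAlongDVR)
    (x : Spec (CommRingCat.of A))
    (W : ValuationSubring ((Spec (CommRingCat.of A)).residueField x))
    [IsDiscreteValuationRing W] (hW : ∀ a, ev A x a ∈ W) : f x ∈ W := by
  let φ : A →+* W := (ev A x).codRestrict W.toSubring hW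
  have hφ : ∀ a, ((φ a : W) : (Spec (CommRingCat.of A)).residueField x) = ev A x a := fun a => rfl
  obtain ⟨r, hr⟩ := exists_of_varies f hf W φ
  have hx : Spec.map (CommRingCat.ofHom φ) (gen W) = x := by
    apply PrimeSpectrum.ext
    change Ideal.comap φ ⊥ = pr x
    ext a
    rw [Ideal.mem_comap, Ideal.mem_bot, ← ev_eq_zero_iff, ← hφ]
    exact ⟨fun h => by rw [h]; rfl, fun h => Subtype.ext h⟩
  have hQ : ∀ x' : Spec (CommRingCat.of A), x' = Spec.map (CommRingCat.ofHom φ) (gen W) →
      ∃ a b : A, ev A x' b ≠ 0 ∧ f x' * ev A x' b = ev A x' a ∧ r * φ b = φ a := by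
    intro x' hx'
    subst hx'
    obtain ⟨a, b, hb, hab⟩ := exists_ev_frac (Spec.map (CommRingCat.ofHom φ) (gen W))
      (f (Spec.map (CommRingCat.ofHom φ) (gen W)))
    refine ⟨a, b, hb, hab, ?_⟩
    have h1 := congrArg ((Spec.map (CommRingCat.ofHom φ)).residueFieldMap (gen W)) hab
    rw [map_mul, ev_naturality, ev_naturality, ← hr, ← map_mul, ← sub_eq_zero, ← map_sub,
      ev_eq_zero_iff, pr_gen, Ideal.mem_bot, sub_eq_zero] at h1
    exact h1
  obtain ⟨a, b, hb, hab, hr2⟩ := hQ x hx.symm
  have h2 : (r : (Spec (CommRingCat.of A)).residueField x) * ev A x b = ev A x a := by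
    rw [← hφ, ← hφ]
    exact congrArg Subtype.val hr2
  have h3 : f x = r := by
    have := hab.trans h2.symm
    exact mul_right_cancel₀ hb this
  rw [h3]
  exact r.2


/-- the point of a prime ideal -/
def pt (P : Ideal A) [hP : P.IsPrime] : Spec (CommRingCat.of A) := (⟨P, hP⟩ : PrimeSpectrum A)

lemma pr_pt (P : Ideal A) [hP : P.IsPrime] : pr (pt P) = P := rfl

/-- evaluation on the quotient -/
noncomputable def evQ (P : Ideal A) [hP : P.IsPrime] :
    A ⧸ P →+* (Spec (CommRingCat.of A)).residueField (pt P) :=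
  Ideal.Quotient.lift P (ev A (pt P)) (fun a ha => (ev_eq_zero_iff (pt P) a).mpr ha)

lemma evQ_mk (P : Ideal A) [hP : P.IsPrime] (a : A) : evQ P (Ideal.Quotient.mk P a) = ev A (pt P) a :=
  rfl

lemma evQ_injective (P : Ideal A) [hP : P.IsPrime] : Function.Injective (evQ P) := by
  rw [injective_iff_map_eq_zero]
  intro d hd
  obtain ⟨a, rfl⟩ := Ideal.Quotient.mk_surjective d
  rw [evQ_mk, ev_eq_zero_iff] at hd
  exact Ideal.Quotient.eq_zero_iff_mem.mpr hd

lemma isFractionRing_evQ (P : Ideal A) [hP : P.IsPrime] :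
    letI := (evQ P).toAlgebra
    IsFractionRing (A ⧸ P) ((Spec (CommRingCat.of A)).residueField (pt P)) := by
  letI := (evQ P).toAlgebra
  haveI : FaithfulSMul (A ⧸ P) ((Spec (CommRingCat.of A)).residueField (pt P)) :=
    (faithfulSMul_iff_algebraMap_injective _ _).mpr (evQ_injective P)
  apply IsFractionRing.of_field
  intro z
  obtain ⟨a, b, hb, hab⟩ := exists_ev_frac (pt P) z
  refine ⟨Ideal.Quotient.mk P a, Ideal.Quotient.mk P b, ?_⟩
  change z = evQ P _ / evQ P _
  rw [evQ_mk, evQ_mk, eq_div_iff hb]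
  exact hab

lemma isIntegral_evQ [IsNoetherianRing A] (f : PtFun (Spec (CommRingCat.of A)))
    (hf : f.VariesAlongDVR) (P : Ideal A) [hP : P.IsPrime] :
    letI := (evQ P).toAlgebra
    IsIntegral (A ⧸ P) (f (pt P)) := by
  letI := (evQ P).toAlgebra
  haveI := isFractionRing_evQ P
  rw [Groth.Agent.S4434.result (A ⧸ P) ((Spec (CommRingCat.of A)).residueField (pt P))
    ((Spec (CommRingCat.of A)).residueField (pt P)) ?_ (f (pt P))]
  · intro W hW hmem
    haveI := hW
    apply mem_dvr f hf (pt P) W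
    intro a
    exact hmem (Ideal.Quotient.mk P a)
  · exact IntermediateField.fg_of_noetherian _

open Groth.Agent.H4.TotFrac

/-- identification of the fraction field of `A/P` with the residue field of the point -/
noncomputable def eK (P : Ideal A) [hP : P.IsPrime] :
    FractionRing (A ⧸ P) ≃+* (Spec (CommRingCat.of A)).residueField (pt P) :=
  letI := (evQ P).toAlgebra
  haveI := isFractionRing_evQ P
  (FractionRing.algEquiv (A ⧸ P) ((Spec (CommRingCat.of A)).residueField (pt P))).toRingEquiv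

lemma eK_algebraMap (P : Ideal A) [hP : P.IsPrime] (d : A ⧸ P) :
    eK P (algebraMap (A ⧸ P) (FractionRing (A ⧸ P)) d) = evQ P d := by
  letI := (evQ P).toAlgebra
  haveI := isFractionRing_evQ P
  exact (FractionRing.algEquiv (A ⧸ P) ((Spec (CommRingCat.of A)).residueField (pt P))).commutes d

lemma isIntegral_eK_symm [IsNoetherianRing A] (f : PtFun (Spec (CommRingCat.of A)))
    (hf : f.VariesAlongDVR) (P : Ideal A) [hP : P.IsPrime] :
    IsIntegral (A ⧸ P) ((eK P).symm (f (pt P))) := by
  letI := (evQ P).toAlgebra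
  haveI := isFractionRing_evQ P
  have h := isIntegral_evQ f hf P
  exact h.map (FractionRing.algEquiv (A ⧸ P) ((Spec (CommRingCat.of A)).residueField (pt P))).symm

theorem exists_section [IsReduced A] [IsNoetherianRing A] [IsIntegrallyClosed A]
    (f : PtFun (Spec (CommRingCat.of A))) (hf : f.VariesAlongDVR) :
    ∃ a : A, ∀ x, ev A x a = f x := by
  haveI : Finite (MinP A) := (minimalPrimes.finite_of_isNoetherianRing A).to_subtype
  obtain ⟨x, hx⟩ := Φ_surjective (A := A) (fun p => (eK p.1).symm (f (pt p.1)))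
  have hint : IsIntegral A x := by
    apply isIntegral_of_Φ
    intro p
    rw [hx]
    exact isIntegral_eK_symm f hf p.1
  obtain ⟨a, ha⟩ := IsIntegrallyClosed.isIntegral_iff.mp hint
  refine ⟨a, eq_of_minimal f hf a ?_⟩
  intro q hq
  let p : MinP A := ⟨pr q, hq⟩
  have h1 : toKp p a = (eK p.1).symm (f (pt p.1)) := by
    rw [← Φ_algebraMap, ha, hx]
  have h2 : ev A (pt p.1) a = f (pt p.1) := by
    have := congrArg (eK p.1) h1
    rw [RingEquiv.apply_symm_apply] at this
    rw [← this]
    change _ = eK p.1 (algebraMap (A ⧸ p.1) _ (Ideal.Quotient.mk p.1 a))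
    rw [eK_algebraMap, evQ_mk]
  have h3 : pt p.1 = q := rfl
  exact ev_congr f h3 a h2


end Groth.Agent.H4.PtFunDVR
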