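import Groth.Prelude.Def_W4c1hilbchowincPtFun
import Groth.Agent.H4.NormalSN
import Groth.Agent.H4.SNSch
set_option autoImplicit false
universe u
open HTop
open CategoryTheory AlgebraicGeometry W4c1hilbchowinc
namespace Groth.Agent.H4.PtFunLib

/-- a global section of a reduced scheme with all values zero is zero -/
lemma eq_zero_of_forall_evaluation {X : Scheme.{u}} [IsReduced X] (s : Γ(X, ⊤))
    (h : ∀ x : X, X.Γevaluation x s = 0) : s = 0 := by
  rw [← AlgebraicGeometry.basicOpen_eq_bot_iff, Scheme.basicOpen_eq_bot_iff_forall_evaluation_eq_zero]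
  intro x
  exact h x

lemma eq_of_forall_evaluation {X : Scheme.{u}} [IsReduced X] (s t : Γ(X, ⊤))
    (h : ∀ x : X, X.Γevaluation x s = X.Γevaluation x t) : s = t := by
  rw [← sub_eq_zero]
  apply eq_zero_of_forall_evaluation
  intro x
  rw [map_sub, h x, sub_self]

/-- the pointwise function `y / x` (zero where `x` vanishes) -/
noncomputable def quotFun (X : Scheme.{u}) (sx sy : Γ(X, ⊤)) : PtFun X := fun p =>
  X.Γevaluation p sy / X.Γevaluation p sx

lemma quotFun_varies (X : Scheme.{u}) (sx sy : Γ(X, ⊤)) (hxy : sx ^ 3 = sy ^ 2) :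
    (quotFun X sx sy).VariesAlongDVR := by
  intro R _ _ _ g
  -- Γ(Spec R, ⊤) is seminormal
  have hsn : IsSeminormalRing Γ(Spec (CommRingCat.of R), ⊤) := by
    have h1 : IsSeminormalRing R :=
      Groth.Agent.H4.NormalSN.isSeminormalRing_of_isIntegrallyClosed R
    exact Groth.Agent.H4.Seminormal.isSeminormalRing_of_ringEquiv
      (Scheme.ΓSpecIso (CommRingCat.of R)).symm.commRingCatIsoToRingEquiv h1
  have hR : (g.appTop sx) ^ 3 = (g.appTop sy) ^ 2 := by
    rw [← map_pow, ← map_pow, hxy]
  obtain ⟨r, ⟨hr2, hr3⟩, -⟩ := hsn _ _ hR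
  refine ⟨r, ?_⟩
  funext q
  change (Spec (CommRingCat.of R)).Γevaluation q r = g.residueFieldMap q (quotFun X sx sy (g q))
  unfold quotFun
  rw [map_div₀, Scheme.Γevaluation_naturality_apply, Scheme.Γevaluation_naturality_apply,
    hr2, hr3, map_pow, map_pow]
  set e := (Spec (CommRingCat.of R)).Γevaluation q r
  by_cases he : e = 0
  · rw [he]; simp
  · field_simp

end Groth.Agent.H4.PtFunLib
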