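import Mathlib
import Groth.Agent.H4.ProjFrac
import Groth.Agent.H4.ProjQ
import Groth.Agent.H4.ConeImm
import Groth.Agent.Lib.Lead.QC.PullInv
import Groth.Agent.Lib.Helper8.RelTwist.Inv
import Groth.Agent.Lib.Helper5.Glue.G
import Groth.Agent.Lib.Helper5.Glue.P2

set_option autoImplicit false
set_option linter.unusedSectionVars false
set_option linter.unusedVariables false
set_option linter.style.haveILetI false
universe u
open CategoryTheory AlgebraicGeometry TopologicalSpace Opposite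

namespace Groth.Agent.H4.PullO1
noncomputable section
open Groth.Agent.LD.QC Groth.Agent.H4.PBundle Groth.Agent.H4.PBundle2 Groth.Agent.H4.PBundle3
open Groth.Agent.H8.RelTwist Groth.Agent.H8.RelTilde Groth.Agent.H8.GTW Groth.Agent.H8.ProjTilde
open Groth.Agent.H4.ProjFunVal Groth.Agent.H4.ProjPhi HomogeneousLocalization Groth.Agent.H5.Glue
open Groth.Agent.H4.ProjFrac

section PB
variable {X X' : Scheme.{u}} (g : X' ⟶ X) (M : X.Modules)

lemma pbSec_mres {W' : X'.Opens} {W V : X.Opens} (hW : W' ≤ g ⁻¹ᵁ W) (hWV : W ≤ V)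
    (s : Γ(M, V)) (e : W' ≤ g ⁻¹ᵁ V) :
    pbSec g M hW (mres M hWV s) = pbSec g M e s := by
  have h1 := pbSec_res g M e hW le_rfl hWV s
  refine h1.trans ?_
  exact mres_self _ _

lemma mres_pbSec {N W' : X'.Opens} {V : X.Opens} (hN : N ≤ W') (e : W' ≤ g ⁻¹ᵁ V)
    (s : Γ(M, V)) (e' : N ≤ g ⁻¹ᵁ V) :
    mres ((Scheme.Modules.pullback g).obj M) hN (pbSec g M e s) = pbSec g M e' s := by
  have h1 := pbSec_res g M e e' hN le_rfl s
  refine h1.symm.trans ?_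
  congr 1
  exact mres_self _ _

end PB
section Main
variable {Y Y' P P' : Scheme.{u}} {q : Y' ⟶ Y} {𝒮 : RelProj.QCGrAlg Y} {𝒮' : RelProj.QCGrAlg Y'}
  {w : RelProj.QGrHom q 𝒮 𝒮'}
  {p : P ⟶ Y}
  {chart : ∀ (U : Y.Opens) (hU : IsAffineOpen U), (((p ⁻¹ᵁ U : P.Opens) : Scheme.{u}) ≅ Proj (𝒮.deg U hU))}
  {p' : P' ⟶ Y'}
  {chart' : ∀ (U : Y'.Opens) (hU : IsAffineOpen U), (((p' ⁻¹ᵁ U : P'.Opens) : Scheme.{u}) ≅ Proj (𝒮'.deg U hU))}
  {r : P' ⟶ P}
  {O1 : P.Modules}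
  {lam : ∀ (U : Y.Opens) (hU : IsAffineOpen U),
    O1 ⟶ (Scheme.Modules.pushforward (RelProj.emb p chart U hU)).obj (GrTwist.twist (𝒮.deg U hU) 1)}
  {O1' : P'.Modules}
  {lam' : ∀ (U : Y'.Opens) (hU : IsAffineOpen U),
    O1' ⟶ (Scheme.Modules.pushforward (RelProj.emb p' chart' U hU)).obj (GrTwist.twist (𝒮'.deg U hU) 1)}

/-- the standard chart of `P'` at `u h` maps into the standard chart of `P` at `h`. -/
lemma WP_le_preimage (U : Y.Opens) (hU : IsAffineOpen U) (U' : Y'.Opens) (hU' : IsAffineOpen U')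
    (hle : U' ≤ q ⁻¹ᵁ U) (h : 𝒮.presheaf.obj (op U)) (hh : h ∈ 𝒮.deg U hU 1)
    (hch : RelProj.awayEmb w p' chart' U hU U' hU' hle one_pos h hh ≫ r =
      Spec.map (CommRingCat.ofHom (Away.map (w.gradedAt U hU U' hU' hle) h)) ≫
        Proj.awayι (𝒮.deg U hU) h hh one_pos ≫ RelProj.emb p chart U hU) :
    WP p' chart' U' hU' (w.gradedAt U hU U' hU' hle h) ≤ r ⁻¹ᵁ WP p chart U hU h := by
  rintro _ ⟨y', hy', rfl⟩
  have hy'' : y' ∈ (Proj.awayι (𝒮'.deg U' hU') (w.gradedAt U hU U' hU' hle h)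
      ((w.gradedAt U hU U' hU' hle).map_mem hh) one_pos).opensRange := by
    rw [Proj.opensRange_awayι]; exact hy'
  obtain ⟨v, rfl⟩ := hy''
  have k := congrArg (fun k : Spec (CommRingCat.of (Away (𝒮'.deg U' hU')
    (w.gradedAt U hU U' hU' hle h))) ⟶ P => k.base v) hch
  change r.base _ ∈ WP p chart U hU h
  refine (congrArg (fun z => z ∈ WP p chart U hU h) k).mpr ?_
  refine ⟨(Proj.awayι (𝒮.deg U hU) h hh one_pos).base
    ((Spec.map (CommRingCat.ofHom (Away.map (w.gradedAt U hU U' hU' hle) h))).base v), ?_, rfl⟩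
  exact Groth.Agent.H4.ConeRetr.awayι_mem_basicOpen (𝒮.deg U hU) one_pos h hh _

variable (hP : RelProj.IsRelProj 𝒮 p chart) (hP' : RelProj.IsRelProj 𝒮' p' chart')
  (hO1 : RelProj.IsRelTwist 𝒮 p chart 1 O1 lam)
  (hO1' : RelProj.IsRelTwist 𝒮' p' chart' 1 O1' lam')

/-- the section of `r^* O(1)` over `N` attached to `f ∈ 𝒮(U)_1`. -/
def eN (r : P' ⟶ P) (hO1 : RelProj.IsRelTwist 𝒮 p chart 1 O1 lam) (N : P'.Opens) (U : Y.Opens)
    (hU : IsAffineOpen U) (hN : N ≤ r ⁻¹ᵁ (p ⁻¹ᵁ U)) (f : 𝒮.presheaf.obj (op U))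
    (hf : f ∈ 𝒮.deg U hU 1) : Γ((Scheme.Modules.pullback r).obj O1, N) :=
  pbSec r O1 hN (sec hO1 U hU f hf)

/-- the section of `O'(1)` over `N` attached to `g ∈ 𝒮'(U')_1`. -/
def eN' (hO1' : RelProj.IsRelTwist 𝒮' p' chart' 1 O1' lam') (N : P'.Opens) (U' : Y'.Opens)
    (hU' : IsAffineOpen U') (hN : N ≤ p' ⁻¹ᵁ U') (g : 𝒮'.presheaf.obj (op U'))
    (hg : g ∈ 𝒮'.deg U' hU' 1) : Γ(O1', N) :=
  mres O1' hN (sec hO1' U' hU' g hg)

lemma eN_mres {N N' : P'.Opens} (hN'N : N' ≤ N) (U : Y.Opens) (hU : IsAffineOpen U)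
    (hN : N ≤ r ⁻¹ᵁ (p ⁻¹ᵁ U)) (f : 𝒮.presheaf.obj (op U)) (hf : f ∈ 𝒮.deg U hU 1) :
    mres ((Scheme.Modules.pullback r).obj O1) hN'N (eN r hO1 N U hU hN f hf) =
      eN r hO1 N' U hU (hN'N.trans hN) f hf :=
  mres_pbSec r O1 hN'N hN _ _

lemma eN_congr (N : P'.Opens) (U : Y.Opens) (hU : IsAffineOpen U)
    (hN : N ≤ r ⁻¹ᵁ (p ⁻¹ᵁ U)) (f f' : 𝒮.presheaf.obj (op U)) (hf : f ∈ 𝒮.deg U hU 1)
    (e : f = f') : eN r hO1 N U hU hN f hf = eN r hO1 N U hU hN f' (e ▸ hf) := by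
  subst e; rfl

lemma eN'_congr (N : P'.Opens) (U' : Y'.Opens) (hU' : IsAffineOpen U')
    (hN : N ≤ p' ⁻¹ᵁ U') (g g' : 𝒮'.presheaf.obj (op U')) (hg : g ∈ 𝒮'.deg U' hU' 1)
    (e : g = g') : eN' hO1' N U' hU' hN g hg = eN' hO1' N U' hU' hN g' (e ▸ hg) := by
  subst e; rfl

include hP in
lemma eN_resU (N : P'.Opens) {U V : Y.Opens} (hU : IsAffineOpen U) (hV : IsAffineOpen V)
    (hVU : V ≤ U) (hN : N ≤ r ⁻¹ᵁ (p ⁻¹ᵁ V)) (f : 𝒮.presheaf.obj (op U))
    (hf : f ∈ 𝒮.deg U hU 1) :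
    eN r hO1 N V hV hN ((𝒮.presheaf.map (homOfLE hVU).op).hom f) (res_mem hU hV hVU f hf) =
      eN r hO1 N U hU (hN.trans (r.preimage_mono (p.preimage_mono hVU))) f hf := by
  unfold eN
  rw [← sec_res hP hO1 hU hV hVU f hf]
  exact pbSec_mres r O1 hN (p.preimage_mono hVU) _ _

lemma eN'_mres {N N' : P'.Opens} (hN'N : N' ≤ N) (U' : Y'.Opens) (hU' : IsAffineOpen U')
    (hN : N ≤ p' ⁻¹ᵁ U') (g : 𝒮'.presheaf.obj (op U')) (hg : g ∈ 𝒮'.deg U' hU' 1) :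
    mres O1' hN'N (eN' hO1' N U' hU' hN g hg) = eN' hO1' N' U' hU' (hN'N.trans hN) g hg :=
  mres_mres O1' hN hN'N _

include hP' in
lemma eN'_resU (N : P'.Opens) {U' V' : Y'.Opens} (hU' : IsAffineOpen U') (hV' : IsAffineOpen V')
    (hVU : V' ≤ U') (hN : N ≤ p' ⁻¹ᵁ V') (g : 𝒮'.presheaf.obj (op U'))
    (hg : g ∈ 𝒮'.deg U' hU' 1) :
    eN' hO1' N V' hV' hN ((𝒮'.presheaf.map (homOfLE hVU).op).hom g) (res_mem hU' hV' hVU g hg) =
      eN' hO1' N U' hU' (hN.trans (p'.preimage_mono hVU)) g hg := by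
  unfold eN'
  rw [← sec_res hP' hO1' hU' hV' hVU g hg]
  exact mres_mres O1' (p'.preimage_mono hVU) hN _

include hO1 in
lemma eN_frac (N : P'.Opens) (U : Y.Opens) (hU : IsAffineOpen U)
    (f h : 𝒮.presheaf.obj (op U)) (hf : f ∈ 𝒮.deg U hU 1) (hh : h ∈ 𝒮.deg U hU 1)
    (hN : N ≤ r ⁻¹ᵁ (WP p chart U hU h)) :
    eN r hO1 N U hU (hN.trans (r.preimage_mono (WP_le U hU h))) f hf =
      (r.appLE (WP p chart U hU h) N hN).hom (frac p chart U hU f h hf hh) •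
        eN r hO1 N U hU (hN.trans (r.preimage_mono (WP_le U hU h))) h hh := by
  unfold eN
  rw [← pbSec_mres r O1 hN (WP_le (p := p) (chart := chart) U hU h) (sec hO1 U hU f hf),
    ← pbSec_mres r O1 hN (WP_le (p := p) (chart := chart) U hU h) (sec hO1 U hU h hh),
    sec_res_eq_frac_smul hO1 U hU f h hf hh, pbSec_smul]

include hO1' in
lemma eN'_frac (N : P'.Opens) (U' : Y'.Opens) (hU' : IsAffineOpen U')
    (g g₀ : 𝒮'.presheaf.obj (op U')) (hg : g ∈ 𝒮'.deg U' hU' 1) (hg₀ : g₀ ∈ 𝒮'.deg U' hU' 1)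
    (hN : N ≤ WP p' chart' U' hU' g₀) :
    eN' hO1' N U' hU' (hN.trans (WP_le U' hU' g₀)) g hg =
      res hN (frac p' chart' U' hU' g g₀ hg hg₀) •
        eN' hO1' N U' hU' (hN.trans (WP_le U' hU' g₀)) g₀ hg₀ := by
  unfold eN'
  rw [← mres_mres O1' (WP_le (p := p') (chart := chart') U' hU' g₀) hN (sec hO1' U' hU' g hg),
    ← mres_mres O1' (WP_le (p := p') (chart := chart') U' hU' g₀) hN (sec hO1' U' hU' g₀ hg₀),
    sec_res_eq_frac_smul hO1' U' hU' g g₀ hg hg₀, mres_smul]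

include hO1 in
lemma eN_basis (N : P'.Opens) (U : Y.Opens) (hU : IsAffineOpen U)
    (f : 𝒮.presheaf.obj (op U)) (hf : f ∈ 𝒮.deg U hU 1)
    (hN : N ≤ r ⁻¹ᵁ (WP p chart U hU f)) :
    IsBasisOver ((Scheme.Modules.pullback r).obj O1) N
      (eN r hO1 N U hU (hN.trans (r.preimage_mono (WP_le U hU f))) f hf) := by
  haveI : O1.IsQuasicoherent := relTwist_isQuasicoherent hO1
  have hb := isBasisOver_of_reads hO1 U hU f hf (sec hO1 U hU f hf) (sec_reads hO1 U hU f hf)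
  have hb' := hb.pullback r hN
  unfold eN
  rw [← pbSec_mres r O1 hN (WP_le (p := p) (chart := chart) U hU f) (sec hO1 U hU f hf)]
  exact hb'

include hO1' in
lemma eN'_basis (N : P'.Opens) (U' : Y'.Opens) (hU' : IsAffineOpen U')
    (g : 𝒮'.presheaf.obj (op U')) (hg : g ∈ 𝒮'.deg U' hU' 1)
    (hN : N ≤ WP p' chart' U' hU' g) :
    IsBasisOver O1' N (eN' hO1' N U' hU' (hN.trans (WP_le U' hU' g)) g hg) := by
  have hb := isBasisOver_of_reads hO1' U' hU' g hg (sec hO1' U' hU' g hg)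
    (sec_reads hO1' U' hU' g hg)
  have hb' := hb.mono hN
  unfold eN'
  rw [← mres_mres O1' (WP_le (p := p') (chart := chart') U' hU' g) hN (sec hO1' U' hU' g hg)]
  exact hb'

include hO1 hO1' in
/-- **same chart pair**: the two families of sections have the same transition function. -/
lemma same_chart (V : Y.Opens) (hV : IsAffineOpen V) (V' : Y'.Opens) (hV' : IsAffineOpen V')
    (hle : V' ≤ q ⁻¹ᵁ V) (f₁ f₂ : 𝒮.presheaf.obj (op V)) (hf₁ : f₁ ∈ 𝒮.deg V hV 1)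
    (hf₂ : f₂ ∈ 𝒮.deg V hV 1)
    (hch : RelProj.awayEmb w p' chart' V hV V' hV' hle one_pos f₂ hf₂ ≫ r =
      Spec.map (CommRingCat.ofHom (Away.map (w.gradedAt V hV V' hV' hle) f₂)) ≫
        Proj.awayι (𝒮.deg V hV) f₂ hf₂ one_pos ≫ RelProj.emb p chart V hV)
    (N : P'.Opens) (hN : N ≤ WP p' chart' V' hV' (w.gradedAt V hV V' hV' hle f₂))
    (hNr : N ≤ r ⁻¹ᵁ (p ⁻¹ᵁ V)) (hNp : N ≤ p' ⁻¹ᵁ V') :
    eN r hO1 N V hV hNr f₁ hf₁ =
      res hN (frac p' chart' V' hV' (w.gradedAt V hV V' hV' hle f₁) (w.gradedAt V hV V' hV' hle f₂)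
        ((w.gradedAt V hV V' hV' hle).map_mem hf₁) ((w.gradedAt V hV V' hV' hle).map_mem hf₂)) •
        eN r hO1 N V hV hNr f₂ hf₂ ∧
    eN' hO1' N V' hV' hNp (w.gradedAt V hV V' hV' hle f₁) ((w.gradedAt V hV V' hV' hle).map_mem hf₁) =
      res hN (frac p' chart' V' hV' (w.gradedAt V hV V' hV' hle f₁) (w.gradedAt V hV V' hV' hle f₂)
        ((w.gradedAt V hV V' hV' hle).map_mem hf₁) ((w.gradedAt V hV V' hV' hle).map_mem hf₂)) •
        eN' hO1' N V' hV' hNp (w.gradedAt V hV V' hV' hle f₂)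
          ((w.gradedAt V hV V' hV' hle).map_mem hf₂) := by
  have hW := WP_le_preimage (w := w) (p := p) (chart := chart) (p' := p') (chart' := chart')
    (r := r) V hV V' hV' hle f₂ hf₂ hch
  constructor
  · have h1 := eN_frac (r := r) hO1 N V hV f₁ f₂ hf₁ hf₂ (hN.trans hW)
    have h2 := appLE_frac w r V hV V' hV' hle f₁ f₂ hf₁ hf₂ hch hW
    have h3 := res_appLE r hN hW (frac p chart V hV f₁ f₂ hf₁ hf₂)
    rw [h2] at h3
    rw [h3]
    exact h1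
  · exact eN'_frac hO1' N V' hV' _ _ _ _ hN

include hP' in
/-- membership in a standard chart open passes to a smaller basic affine. -/
lemma mem_WP_res (U' : Y'.Opens) (hU' : IsAffineOpen U') (V' : Y'.Opens) (hV' : IsAffineOpen V')
    (hVU : V' ≤ U') (s' : Γ(Y', U')) (hs' : V' = Y'.basicOpen s')
    (g : 𝒮'.presheaf.obj (op U')) (z : P') (hz : z ∈ WP p' chart' U' hU' g)
    (hzV : p'.base z ∈ V') :
    z ∈ WP p' chart' V' hV' ((𝒮'.presheaf.map (homOfLE hVU).op).hom g) := by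
  obtain ⟨y, hy, rfl⟩ := hz
  have hz' : (RelProj.emb p' chart' U' hU').base y ∈ (RelProj.emb p' chart' V' hV').opensRange := by
    rw [opensRange_emb 𝒮' p' chart' V' hV']; exact hzV
  obtain ⟨y₂, hy₂⟩ := hz'
  have irr := Groth.Agent.H4.ConeImm.irr_res (𝒜 := 𝒮') U' V' hU' hV' hVU s' hs'
  have hres := Groth.Agent.H4.ConeImm.emb_res (p := p') (chart := chart') hP' U' V' hU' hV' hVU s' hs' irr
  have e1 : (Proj.map (𝒮'.res hU' hV' hVU) irr).base y₂ = y := by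
    apply (RelProj.emb p' chart' U' hU').isOpenEmbedding.injective
    have k1 := congrArg (fun k : Proj (𝒮'.deg V' hV') ⟶ P' => k.base y₂) hres
    exact k1.trans hy₂
  refine ⟨y₂, ?_, hy₂⟩
  have h2 : (Proj.map (𝒮'.res hU' hV' hVU) irr).base y₂ ∈ Proj.basicOpen (𝒮'.deg U' hU') g := by
    rw [e1]; exact hy
  exact h2

/-- index type: an affine chart pair together with a degree-one section. -/
structure Idx (q : Y' ⟶ Y) (𝒮 : RelProj.QCGrAlg Y) : Type u where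
  U : Y.Opens
  hU : IsAffineOpen U
  U' : Y'.Opens
  hU' : IsAffineOpen U'
  hle : U' ≤ q ⁻¹ᵁ U
  f : 𝒮.presheaf.obj (op U)
  hf : f ∈ 𝒮.deg U hU 1

/-- the image of the degree-one section. -/
def gi (w : RelProj.QGrHom q 𝒮 𝒮') (i : Idx q 𝒮) : 𝒮'.presheaf.obj (op i.U') :=
  w.gradedAt i.U i.hU i.U' i.hU' i.hle i.f

lemma gi_mem (w : RelProj.QGrHom q 𝒮 𝒮') (i : Idx q 𝒮) : gi w i ∈ 𝒮'.deg i.U' i.hU' 1 :=
  (w.gradedAt i.U i.hU i.U' i.hU' i.hle).map_mem i.hf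

/-- the chart open of `P'` attached to an index. -/
def Wp (w : RelProj.QGrHom q 𝒮 𝒮') (p' : P' ⟶ Y')
    (chart' : ∀ (U : Y'.Opens) (hU : IsAffineOpen U),
      (((p' ⁻¹ᵁ U : P'.Opens) : Scheme.{u}) ≅ Proj (𝒮'.deg U hU)))
    (i : Idx q 𝒮) : P'.Opens :=
  WP p' chart' i.U' i.hU' (gi w i)

lemma Wp_le_p' (i : Idx q 𝒮) : Wp w p' chart' i ≤ p' ⁻¹ᵁ i.U' := WP_le i.U' i.hU' (gi w i)

variable (hr : RelProj.IsProjQMap w p chart p' chart' r)

include hr in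
lemma Wp_le_r (i : Idx q 𝒮) : Wp w p' chart' i ≤ r ⁻¹ᵁ WP p chart i.U i.hU i.f :=
  WP_le_preimage i.U i.hU i.U' i.hU' i.hle i.f i.hf (hr.2 i.U i.hU i.U' i.hU' i.hle 1 one_pos i.f i.hf)

include hr in
lemma Wp_le_rp (i : Idx q 𝒮) : Wp w p' chart' i ≤ r ⁻¹ᵁ (p ⁻¹ᵁ i.U) :=
  (Wp_le_r hr i).trans (r.preimage_mono (WP_le i.U i.hU i.f))

/-- the local basis of `r^* O(1)`. -/
def eI (hO1 : RelProj.IsRelTwist 𝒮 p chart 1 O1 lam)
    (hr : RelProj.IsProjQMap w p chart p' chart' r) (i : Idx q 𝒮) :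
    Γ((Scheme.Modules.pullback r).obj O1, Wp w p' chart' i) :=
  eN r hO1 (Wp w p' chart' i) i.U i.hU (Wp_le_rp hr i) i.f i.hf

/-- the local basis of `O'(1)`. -/
def eI' (w : RelProj.QGrHom q 𝒮 𝒮') (hO1' : RelProj.IsRelTwist 𝒮' p' chart' 1 O1' lam')
    (i : Idx q 𝒮) : Γ(O1', Wp w p' chart' i) :=
  eN' hO1' (Wp w p' chart' i) i.U' i.hU' (Wp_le_p' i) (gi w i) (gi_mem w i)

include hO1 in
lemma eI_basis (i : Idx q 𝒮) :
    IsBasisOver ((Scheme.Modules.pullback r).obj O1) (Wp w p' chart' i) (eI hO1 hr i) :=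
  eN_basis hO1 (Wp w p' chart' i) i.U i.hU i.f i.hf (Wp_le_r hr i)

include hO1' in
lemma eI'_basis (i : Idx q 𝒮) : IsBasisOver O1' (Wp w p' chart' i) (eI' w hO1' i) :=
  eN'_basis hO1' (Wp w p' chart' i) i.U' i.hU' (gi w i) (gi_mem w i) le_rfl

include hP hP' hO1 hO1' hr in
/-- **the local relation**: near every point of an overlap the two families of local bases
have a common transition function. -/
lemma local_rel (i k : Idx q 𝒮) (z : P') (hz : z ∈ Wp w p' chart' i ⊓ Wp w p' chart' k) :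
    ∃ (N : P'.Opens) (hN : N ≤ Wp w p' chart' i ⊓ Wp w p' chart' k), z ∈ N ∧ ∃ c : Γ(P', N),
      mres ((Scheme.Modules.pullback r).obj O1) (hN.trans inf_le_left) (eI hO1 hr i) =
        c • mres ((Scheme.Modules.pullback r).obj O1) (hN.trans inf_le_right) (eI hO1 hr k) ∧
      mres O1' (hN.trans inf_le_left) (eI' w hO1' i) =
        c • mres O1' (hN.trans inf_le_right) (eI' w hO1' k) := by
  have ht : p'.base z ∈ i.U' ⊓ k.U' := ⟨Wp_le_p' i hz.1, Wp_le_p' k hz.2⟩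
  obtain ⟨s₁, s₂, s₁', s₂', hVV, hVV', hle', htV⟩ :=
    Groth.Agent.H4.ProjQ.exists_pair_refine q i.hU k.hU i.hU' k.hU' i.hle k.hle (p'.base z) ht
  have hV : IsAffineOpen (Y.basicOpen s₁) := i.hU.basicOpen s₁
  have hV' : IsAffineOpen (Y'.basicOpen s₁') := i.hU'.basicOpen s₁'
  have hVi : Y.basicOpen s₁ ≤ i.U := Y.basicOpen_le s₁
  have hVk : Y.basicOpen s₁ ≤ k.U := hVV.le.trans (Y.basicOpen_le s₂)
  have hV'i : Y'.basicOpen s₁' ≤ i.U' := Y'.basicOpen_le s₁'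
  have hV'k : Y'.basicOpen s₁' ≤ k.U' := hVV'.le.trans (Y'.basicOpen_le s₂')
  have hf₁ := res_mem i.hU hV hVi i.f i.hf
  have hf₂ := res_mem k.hU hV hVk k.f k.hf
  have e₁ : (𝒮'.presheaf.map (homOfLE hV'i).op).hom (gi w i) =
      w.gradedAt (Y.basicOpen s₁) hV (Y'.basicOpen s₁') hV' hle'
        ((𝒮.presheaf.map (homOfLE hVi).op).hom i.f) :=
    Groth.Agent.H4.ProjQ.u_res w i.hU hV hVi i.hU' hV' hV'i i.hle hle' i.f
  have e₂ : (𝒮'.presheaf.map (homOfLE hV'k).op).hom (gi w k) =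
      w.gradedAt (Y.basicOpen s₁) hV (Y'.basicOpen s₁') hV' hle'
        ((𝒮.presheaf.map (homOfLE hVk).op).hom k.f) :=
    Groth.Agent.H4.ProjQ.u_res w k.hU hV hVk k.hU' hV' hV'k k.hle hle' k.f
  have hz₁ := mem_WP_res hP' i.U' i.hU' (Y'.basicOpen s₁') hV' hV'i s₁' rfl (gi w i) z hz.1 htV
  have hz₂ := mem_WP_res hP' k.U' k.hU' (Y'.basicOpen s₁') hV' hV'k s₂' hVV' (gi w k) z hz.2 htV
  rw [e₁] at hz₁
  rw [e₂] at hz₂
  have hch := hr.2 (Y.basicOpen s₁) hV (Y'.basicOpen s₁') hV' hle' 1 one_pos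
    ((𝒮.presheaf.map (homOfLE hVk).op).hom k.f) hf₂
  have hN0 : (Wp w p' chart' i ⊓ Wp w p' chart' k) ⊓
      (WP p' chart' (Y'.basicOpen s₁') hV' (w.gradedAt (Y.basicOpen s₁) hV (Y'.basicOpen s₁') hV' hle'
        ((𝒮.presheaf.map (homOfLE hVi).op).hom i.f)) ⊓
       WP p' chart' (Y'.basicOpen s₁') hV' (w.gradedAt (Y.basicOpen s₁) hV (Y'.basicOpen s₁') hV' hle'
        ((𝒮.presheaf.map (homOfLE hVk).op).hom k.f))) ≤
      Wp w p' chart' i ⊓ Wp w p' chart' k := inf_le_left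
  have hN2 : (Wp w p' chart' i ⊓ Wp w p' chart' k) ⊓
      (WP p' chart' (Y'.basicOpen s₁') hV' (w.gradedAt (Y.basicOpen s₁) hV (Y'.basicOpen s₁') hV' hle'
        ((𝒮.presheaf.map (homOfLE hVi).op).hom i.f)) ⊓
       WP p' chart' (Y'.basicOpen s₁') hV' (w.gradedAt (Y.basicOpen s₁) hV (Y'.basicOpen s₁') hV' hle'
        ((𝒮.presheaf.map (homOfLE hVk).op).hom k.f))) ≤
      WP p' chart' (Y'.basicOpen s₁') hV' (w.gradedAt (Y.basicOpen s₁) hV (Y'.basicOpen s₁') hV' hle'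
        ((𝒮.presheaf.map (homOfLE hVk).op).hom k.f)) := inf_le_right.trans inf_le_right
  have hNp := hN2.trans (WP_le (p := p') (chart := chart') (Y'.basicOpen s₁') hV' _)
  have hNr := hN2.trans ((WP_le_preimage (w := w) (p := p) (chart := chart) (p' := p')
    (chart' := chart') (r := r) (Y.basicOpen s₁) hV (Y'.basicOpen s₁') hV' hle' _ hf₂ hch).trans
    (r.preimage_mono (WP_le (p := p) (chart := chart) (Y.basicOpen s₁) hV _)))
  obtain ⟨sc1, sc2⟩ := same_chart hO1 hO1' (Y.basicOpen s₁) hV (Y'.basicOpen s₁') hV' hle'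
    ((𝒮.presheaf.map (homOfLE hVi).op).hom i.f) ((𝒮.presheaf.map (homOfLE hVk).op).hom k.f)
    hf₁ hf₂ hch _ hN2 hNr hNp
  refine ⟨_, hN0, ⟨hz, hz₁, hz₂⟩, res hN2 (frac p' chart' (Y'.basicOpen s₁') hV' _ _
    ((w.gradedAt (Y.basicOpen s₁) hV (Y'.basicOpen s₁') hV' hle').map_mem hf₁)
    ((w.gradedAt (Y.basicOpen s₁) hV (Y'.basicOpen s₁') hV' hle').map_mem hf₂)), ?_, ?_⟩
  · have a1 := eN_mres hO1 (hN0.trans inf_le_left) i.U i.hU (Wp_le_rp hr i) i.f i.hf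
    have a2 := eN_resU hP hO1 _ i.hU hV hVi hNr i.f i.hf
    have b1 := eN_mres hO1 (hN0.trans inf_le_right) k.U k.hU (Wp_le_rp hr k) k.f k.hf
    have b2 := eN_resU hP hO1 _ k.hU hV hVk hNr k.f k.hf
    exact a1.trans (a2.symm.trans (sc1.trans (congrArg (fun t => _ • t) (b2.trans b1.symm))))
  · have a1 := eN'_mres hO1' (hN0.trans inf_le_left) i.U' i.hU' (Wp_le_p' i) (gi w i) (gi_mem w i)
    have a2 := eN'_resU hP' hO1' _ i.hU' hV' hV'i hNp (gi w i) (gi_mem w i)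
    have a3 := eN'_congr hO1' _ (Y'.basicOpen s₁') hV' hNp _ _
      (res_mem i.hU' hV' hV'i (gi w i) (gi_mem w i)) e₁
    have b1 := eN'_mres hO1' (hN0.trans inf_le_right) k.U' k.hU' (Wp_le_p' k) (gi w k) (gi_mem w k)
    have b2 := eN'_resU hP' hO1' _ k.hU' hV' hV'k hNp (gi w k) (gi_mem w k)
    have b3 := eN'_congr hO1' _ (Y'.basicOpen s₁') hV' hNp _ _
      (res_mem k.hU' hV' hV'k (gi w k) (gi_mem w k)) e₂
    exact a1.trans (a2.symm.trans (a3.trans (sc2.trans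
      (congrArg (fun t => _ • t) (b3.symm.trans (b2.trans b1.symm))))))

include hP hP' hO1 hO1' hr in
/-- the transition functions of `r^* O(1)` are transition functions of `O'(1)`. -/
lemma transition_rel (i k : Idx q 𝒮) :
    mres O1' (inf_le_left : Wp w p' chart' i ⊓ Wp w p' chart' k ≤ Wp w p' chart' i) (eI' w hO1' i) =
      transition (U := fun i : Idx q 𝒮 => Wp w p' chart' i)
        (L := (Scheme.Modules.pullback r).obj O1) (e := fun i => eI hO1 hr i)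
        (fun i => eI_basis hO1 hr i) i k •
      mres O1' (inf_le_right : Wp w p' chart' i ⊓ Wp w p' chart' k ≤ Wp w p' chart' k)
        (eI' w hO1' k) := by
  have hη := transition_spec (U := fun i : Idx q 𝒮 => Wp w p' chart' i)
    (L := (Scheme.Modules.pullback r).obj O1) (e := fun i => eI hO1 hr i)
    (fun i => eI_basis hO1 hr i) i k
  have key := fun z : ↥(Wp w p' chart' i ⊓ Wp w p' chart' k) =>
    local_rel hP hP' hO1 hO1' hr i k z.1 z.2
  choose N hN hzN c hc1 hc2 using key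
  apply section_ext_of_cover O1' N hN
  · intro z hz
    exact Opens.mem_iSup.mpr ⟨⟨z, hz⟩, hzN ⟨z, hz⟩⟩
  · intro z
    have h1 := congrArg (mres ((Scheme.Modules.pullback r).obj O1) (hN z)) hη
    rw [mres_smul, mres_mres, mres_mres] at h1
    have hb := (eI_basis hO1 hr k).mono ((hN z).trans inf_le_right)
    have h2 : c z = res (hN z) (transition (U := fun i : Idx q 𝒮 => Wp w p' chart' i)
        (L := (Scheme.Modules.pullback r).obj O1) (e := fun i => eI hO1 hr i)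
        (fun i => eI_basis hO1 hr i) i k) :=
      hb.coord_injective ((hc1 z).symm.trans h1)
    change mres O1' (hN z) _ = mres O1' (hN z) _
    rw [mres_smul, mres_mres, mres_mres, ← h2]
    exact hc2 z

include hP' hr in
lemma iSup_Wp (hgen : 𝒮.IsGenDegOne) : iSup (fun i : Idx q 𝒮 => Wp w p' chart' i) = ⊤ := by
  rw [eq_top_iff]
  intro z _
  obtain ⟨U0, hU0, hzU, -⟩ := (Opens.isBasis_iff_nbhd.mp Y.isBasis_affineOpens)
    (show q.base (p'.base z) ∈ (⊤ : Y.Opens) from trivial)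
  obtain ⟨U0', hU0', hzU', hle⟩ := (Opens.isBasis_iff_nbhd.mp Y'.isBasis_affineOpens)
    (show p'.base z ∈ (q ⁻¹ᵁ U0 : Y'.Opens) from hzU)
  replace hU0 : IsAffineOpen U0 := hU0
  replace hU0' : IsAffineOpen U0' := hU0'
  have hz' : z ∈ (RelProj.emb p' chart' U0' hU0').opensRange := by
    rw [opensRange_emb 𝒮' p' chart' U0' hU0']; exact hzU'
  obtain ⟨y, rfl⟩ := hz'
  have hdom : (RelProj.emb p' chart' U0' hU0').base y ∈ RelProj.domQ w p' chart' := by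
    rw [hr.1]; trivial
  rw [Groth.Agent.H4.ProjQ.mem_domQ_iff w p' chart' hP' U0 hU0 U0' hU0' hle y,
    RelCone.mem_domOpen] at hdom
  obtain ⟨f, hf, hfy⟩ := hdom
  have hspan := irrelevant_eq_span_degOne (𝒜 := 𝒮.deg U0 hU0) (hgen U0 hU0)
  by_contra hcon
  apply hfy
  have hle' : (HomogeneousIdeal.irrelevant (𝒮.deg U0 hU0)).toIdeal ≤
      Ideal.comap (w.gradedAt U0 hU0 U0' hU0' hle) y.asHomogeneousIdeal.toIdeal := by
    rw [hspan, Ideal.span_le]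
    intro f₁ hf₁
    by_contra h1
    exact hcon (Opens.mem_iSup.mpr ⟨⟨U0, hU0, U0', hU0', hle, f₁, hf₁⟩, y, h1, rfl⟩)
  exact hle' hf

include hP hP' hO1 hO1' hr in
/-- **`r^* O_P(1) ≅ O_{P'}(1)`** for the morphism `r = Proj(u)` of relative `Proj`'s over a base
morphism `q`, everywhere defined, `𝒮` generated in degree one. -/
theorem nonempty_pullback_iso_of_isProjQMap (hgen : 𝒮.IsGenDegOne) :
    Nonempty ((Scheme.Modules.pullback r).obj O1 ≅ O1') :=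
  nonempty_iso_of_same_transition (U := fun i : Idx q 𝒮 => Wp w p' chart' i)
    (iSup_Wp hP' hr hgen) (e := fun i => eI hO1 hr i) (e' := fun i => eI' w hO1' i)
    (fun i => eI_basis hO1 hr i) (fun i => eI'_basis hO1' i)
    (transition (fun i => eI_basis hO1 hr i))
    (fun i k => transition_spec (fun i => eI_basis hO1 hr i) i k)
    (fun i k => transition_rel hP hP' hO1 hO1' hr i k)

end Main

end
end Groth.Agent.H4.PullO1
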