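import Mathlib
import Groth.Prelude.Def_CAlgX
import Groth.Prelude.Def_W4stkadequatePure

/-!
# Pure exact sequences, pure projective and pure injective modules
-/

namespace Groth.Agent.H4.Pure

open TensorProduct

universe u

variable (R : Type u) [CommRing R]

/-- pure injective -/
def PureInj (I : Type u) [AddCommGroup I] [Module R I] : Prop :=
  ∀ ⦃K L : Type u⦄ [AddCommGroup K] [Module R K] [AddCommGroup L] [Module R L] (f : K →ₗ[R] L),
    CAlgX.UniversallyInjective R f → ∀ φ : K →ₗ[R] I, ∃ ψ : L →ₗ[R] I, ψ ∘ₗ f = φ

/-- pure projective -/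
def PureProj (P : Type u) [AddCommGroup P] [Module R P] : Prop :=
  ∀ ⦃L N : Type u⦄ [AddCommGroup L] [Module R L] [AddCommGroup N] [Module R N] (g : L →ₗ[R] N),
    Function.Surjective g → CAlgX.UniversallyInjective R (LinearMap.ker g).subtype →
    ∀ φ : P →ₗ[R] N, ∃ ψ : P →ₗ[R] L, g ∘ₗ ψ = φ

variable {R}

/-- Character modules are pure injective. -/
theorem pureInj_characterModule (B : Type u) [AddCommGroup B] [Module R B] :
    PureInj R (CharacterModule B) := by
  intro K L _ _ _ _ f hf φ
  have := (rTensor_injective_iff_lcomp_surjective (f := f) (B := B)).mp (hf B)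
  obtain ⟨ψ, hψ⟩ := this φ
  exact ⟨ψ, hψ⟩

/-- the flip of a map into a character module -/
def flipChar {M Q : Type u} [AddCommGroup M] [Module R M] [AddCommGroup Q] [Module R Q]
    (g : M →ₗ[R] CharacterModule Q) : Q →ₗ[R] CharacterModule M where
  toFun q :=
    { toFun := fun m => g m q
      map_zero' := by
        rw [map_zero]
        rfl
      map_add' := fun m m' => by
        rw [map_add]
        rfl }
  map_add' q q' := by
    ext m
    exact map_add (g m) q q'
  map_smul' r q := by
    ext m
    show g m (r • q) = g (r • m) q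
    rw [LinearMap.map_smul g r m, CharacterModule.smul_apply]

/-- The evaluation map into the double character module is universally injective. -/
theorem universallyInjective_charEval (M : Type u) [AddCommGroup M] [Module R M] :
    CAlgX.UniversallyInjective R (PureExt.charEval R M) := by
  intro Q _ _
  rw [rTensor_injective_iff_lcomp_surjective]
  intro g
  refine ⟨CharacterModule.dual (flipChar g), ?_⟩
  ext m q
  rfl

/-- retracts of pure injectives are pure injective -/
theorem PureInj.of_retract {I J : Type u} [AddCommGroup I] [Module R I] [AddCommGroup J] [Module R J]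
    (hJ : PureInj R J) (s : I →ₗ[R] J) (r : J →ₗ[R] I) (hrs : r ∘ₗ s = LinearMap.id) :
    PureInj R I := by
  intro K L _ _ _ _ f hf φ
  obtain ⟨ψ, hψ⟩ := hJ f hf (s ∘ₗ φ)
  refine ⟨r ∘ₗ ψ, ?_⟩
  rw [LinearMap.comp_assoc, hψ, ← LinearMap.comp_assoc, hrs, LinearMap.id_comp]

theorem pureInj_iff_charEval_splits (I : Type u) [AddCommGroup I] [Module R I] :
    PureInj R I ↔
      ∃ r : CharacterModule (CharacterModule I) →ₗ[R] I, r ∘ₗ PureExt.charEval R I = LinearMap.id := by
  constructor
  · intro h
    exact h (PureExt.charEval R I) (universallyInjective_charEval I) LinearMap.id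
  · rintro ⟨r, hr⟩
    exact (pureInj_characterModule (CharacterModule I)).of_retract (PureExt.charEval R I) r hr

/-- universally exact at the middle implies the image inclusion is universally injective -/
theorem universallyInjective_range_subtype {L M N : Type u} [AddCommGroup L] [Module R L]
    [AddCommGroup M] [Module R M] [AddCommGroup N] [Module R N]
    (f : L →ₗ[R] M) (g : M →ₗ[R] N)
    (h : ∀ (Q : Type u) [AddCommGroup Q] [Module R Q], Function.Exact (f.rTensor Q) (g.rTensor Q)) :
    CAlgX.UniversallyInjective R (LinearMap.range g).subtype := by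
  -- g ∘ f = 0
  have hgf : g ∘ₗ f = 0 := by
    have h1 := h R
    ext x
    have h2 : (g.rTensor R) ((f.rTensor R) (x ⊗ₜ[R] (1 : R))) = 0 := h1.apply_apply_eq_zero _
    simp only [LinearMap.rTensor_tmul] at h2
    have h3 := congrArg (TensorProduct.rid R N) h2
    simpa using h3
  intro Q _ _
  rw [injective_iff_map_eq_zero]
  intro x hx
  -- lift x along the surjection M ⊗ Q → range g ⊗ Q
  have hsurj : Function.Surjective (g.rangeRestrict.rTensor Q) :=
    LinearMap.rTensor_surjective Q g.surjective_rangeRestrict
  obtain ⟨y, rfl⟩ := hsurj x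
  have hy : (g.rTensor Q) y = 0 := by
    have : g = (LinearMap.range g).subtype ∘ₗ g.rangeRestrict := by
      ext x
      rfl
    rw [this, LinearMap.rTensor_comp]
    exact hx
  obtain ⟨z, rfl⟩ := (h Q y).mp hy
  rw [← LinearMap.comp_apply, ← LinearMap.rTensor_comp]
  have : g.rangeRestrict ∘ₗ f = 0 := by
    ext x
    have := LinearMap.congr_fun hgf x
    simpa using this
  rw [this, LinearMap.rTensor_zero, LinearMap.zero_apply]

end Groth.Agent.H4.Pure
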