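import Mathlib
import Groth.Agent.H4.Pure

namespace Groth.Agent.H4.Pure

open TensorProduct

universe u

variable {R : Type u} [CommRing R]

/-- descend a map along a surjection -/
theorem exists_descend {F Q L : Type*} [AddCommGroup F] [Module R F] [AddCommGroup Q] [Module R Q]
    [AddCommGroup L] [Module R L] (π : F →ₗ[R] Q) (hπ : Function.Surjective π) (l : F →ₗ[R] L)
    (h : LinearMap.ker π ≤ LinearMap.ker l) : ∃ ψ : Q →ₗ[R] L, ψ ∘ₗ π = l := by
  refine ⟨(LinearMap.ker π).liftQ l h ∘ₗ (π.quotKerEquivOfSurjective hπ).symm.toLinearMap, ?_⟩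
  ext x
  have : (π.quotKerEquivOfSurjective hπ).symm (π x) = Submodule.Quotient.mk x := by
    rw [LinearEquiv.symm_apply_eq]
    rfl
  simp [this]

section psr

variable {ι κ : Type*} [Fintype ι] [DecidableEq ι] [Fintype κ] [DecidableEq κ]
variable {X Y : Type*} [AddCommGroup X] [Module R X] [AddCommGroup Y] [Module R Y]

theorem psr_lTensor (A : ι → κ → R) (s : X ⊗[R] (ι → R)) :
    piScalarRight R R X κ ((Fintype.linearCombination R A).lTensor X s) =
      fun j => ∑ i, A i j • (piScalarRight R R X ι s) i := by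
  induction s with
  | zero => simp; rfl
  | tmul x f =>
    ext j
    simp only [LinearMap.lTensor_tmul, piScalarRight_apply, piScalarRightHom_tmul,
      Fintype.linearCombination_apply, Finset.sum_apply, Pi.smul_apply, smul_eq_mul]
    rw [Finset.sum_smul]
    refine Finset.sum_congr rfl fun i _ => ?_
    rw [smul_smul, mul_comm]
  | add s t hs ht =>
    rw [map_add, map_add, hs, ht]
    ext j
    simp only [Pi.add_apply, map_add, smul_add, Finset.sum_add_distrib]

theorem psr_rTensor (f : X →ₗ[R] Y) (s : X ⊗[R] (ι → R)) :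
    piScalarRight R R Y ι (f.rTensor (ι → R) s) = fun j => f (piScalarRight R R X ι s j) := by
  induction s with
  | zero => simp; rfl
  | tmul x g =>
    ext j
    simp only [LinearMap.rTensor_tmul, piScalarRight_apply, piScalarRightHom_tmul, map_smul]
  | add s t hs ht =>
    rw [map_add, map_add, hs, ht]
    ext j
    simp only [Pi.add_apply, map_add]

end psr

section KL

variable {n a : Type} [Fintype n] [DecidableEq n] [Fintype a] [DecidableEq a]

/-- Lemma E -/
theorem exists_of_tmul_mkQ_eq_zero {X : Type u} [AddCommGroup X] [Module R X]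
    (A : n → a → R) (z : a → X)
    (h : ((LinearMap.range (Fintype.linearCombination R A)).mkQ.lTensor X)
      ((piScalarRight R R X a).symm z) = 0) :
    ∃ x : n → X, ∀ j, z j = ∑ i, A i j • x i := by
  have hex := lTensor_exact X (LinearMap.exact_map_mkQ_range (Fintype.linearCombination R A))
    (Submodule.mkQ_surjective _)
  obtain ⟨s, hs⟩ := (hex _).mp h
  refine ⟨piScalarRight R R X n s, fun j => ?_⟩
  have := psr_lTensor A s
  rw [hs, LinearEquiv.apply_symm_apply] at this
  exact congrFun this j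

/-- KL' : solvability of finite linear systems descends along universally injective maps -/
theorem exists_of_universallyInjective {X Y : Type u} [AddCommGroup X] [Module R X]
    [AddCommGroup Y] [Module R Y] (ι : X →ₗ[R] Y) (hι : CAlgX.UniversallyInjective R ι)
    (A : n → a → R) (x' : a → X) (y : n → Y) (h : ∀ j, ι (x' j) = ∑ i, A i j • y i) :
    ∃ x : n → X, ∀ j, x' j = ∑ i, A i j • x i := by
  apply exists_of_tmul_mkQ_eq_zero A x'
  apply hι ((a → R) ⧸ LinearMap.range (Fintype.linearCombination R A))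
  rw [map_zero, ← LinearMap.comp_apply, LinearMap.rTensor_comp_lTensor,
    ← LinearMap.lTensor_comp_rTensor, LinearMap.comp_apply]
  have h1 : ι.rTensor (a → R) ((piScalarRight R R X a).symm x') =
      (Fintype.linearCombination R A).lTensor Y ((piScalarRight R R Y n).symm y) := by
    apply (piScalarRight R R Y a).injective
    rw [psr_rTensor, psr_lTensor]
    ext j
    simp [h]
  rw [h1, ← LinearMap.comp_apply, ← LinearMap.lTensor_comp]
  have h2 : (LinearMap.range (Fintype.linearCombination R A)).mkQ ∘ₗ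
      Fintype.linearCombination R A = 0 := LinearMap.range_mkQ_comp _
  rw [h2, LinearMap.lTensor_zero, LinearMap.zero_apply]

end KL

theorem apply_eq_sum_single {ι : Type*} [Fintype ι] [DecidableEq ι] {M : Type*} [AddCommGroup M]
    [Module R M] (f : (ι → R) →ₗ[R] M) (x : ι → R) : f x = ∑ i, x i • f (Pi.single i 1) := by
  conv_lhs => rw [pi_eq_sum_univ' x]
  rw [map_sum]
  simp only [map_smul]

/-- T2: finitely presented modules are pure projective -/
theorem pureProj_of_finitePresentation (Q : Type u) [AddCommGroup Q] [Module R Q]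
    [Module.FinitePresentation R Q] : PureProj R Q := by
  intro L N _ _ _ _ g hg hK φ
  obtain ⟨n, m, π, κ, hπ, hex⟩ := Module.FinitePresentation.exists_fin' R Q
  obtain ⟨l, hl⟩ := Module.projective_lifting_property g (φ ∘ₗ π) hg
  let A : Fin n → Fin m → R := fun i j => κ (Pi.single j 1) i
  let y : Fin n → L := fun i => l (Pi.single i 1)
  have h1 : ∀ j, l (κ (Pi.single j 1)) = ∑ i, A i j • y i := fun j =>
    apply_eq_sum_single l _
  have h2 : ∀ j, l (κ (Pi.single j 1)) ∈ LinearMap.ker g := by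
    intro j
    rw [LinearMap.mem_ker]
    have := LinearMap.congr_fun hl (κ (Pi.single j 1))
    rw [LinearMap.comp_apply] at this
    rw [this, LinearMap.comp_apply, hex.apply_apply_eq_zero, map_zero]
  obtain ⟨x, hx⟩ := exists_of_universallyInjective (LinearMap.ker g).subtype hK A
    (fun j => ⟨_, h2 j⟩) y h1
  let μ : (Fin n → R) →ₗ[R] LinearMap.ker g := Fintype.linearCombination R x
  let l' : (Fin n → R) →ₗ[R] L := l - (LinearMap.ker g).subtype ∘ₗ μ
  have h3 : l' ∘ₗ κ = 0 := by
    apply LinearMap.pi_ext'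
    intro j
    ext
    simp only [LinearMap.comp_apply, LinearMap.single_apply, LinearMap.zero_apply]
    show l (κ (Pi.single j 1)) - ((μ (κ (Pi.single j 1)) : LinearMap.ker g) : L) = 0
    have h4 : μ (κ (Pi.single j 1)) = ∑ i, A i j • x i := by
      simp only [μ, Fintype.linearCombination_apply, A]
    rw [h4, ← hx j, sub_self]
  have h5 : LinearMap.ker π ≤ LinearMap.ker l' := by
    intro v hv
    obtain ⟨w, rfl⟩ := (hex v).mp hv
    exact LinearMap.congr_fun h3 w
  obtain ⟨ψ, hψ⟩ := exists_descend π hπ l' h5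
  refine ⟨ψ, ?_⟩
  rw [← LinearMap.cancel_right hπ, LinearMap.comp_assoc, hψ]
  ext i
  simp only [LinearMap.comp_apply, l', LinearMap.sub_apply, map_sub, Submodule.subtype_apply]
  have h6 : ∀ v, g ((μ v : LinearMap.ker g) : L) = 0 := fun v => (μ v).2
  rw [h6, sub_zero]
  exact LinearMap.congr_fun hl _

/-- the finitely-presented lifting property of a linear map -/
def FPLift {P M : Type u} [AddCommGroup P] [Module R P] [AddCommGroup M] [Module R M]
    (g : P →ₗ[R] M) : Prop :=
  ∀ (Q : Type u) [AddCommGroup Q] [Module R Q] [Module.FinitePresentation R Q] (φ : Q →ₗ[R] M),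
    ∃ ψ : Q →ₗ[R] P, g ∘ₗ ψ = φ

theorem FPLift.solve {P M : Type u} [AddCommGroup P] [Module R P] [AddCommGroup M] [Module R M]
    {g : P →ₗ[R] M} (hg : FPLift g)
    {ιl : Type} [Fintype ιl] [DecidableEq ιl] {ιc : Type u} [Finite ιc]
    (a : ιl → ιc → R) (p : ιl → P) (h : ∀ q, ∑ l, a l q • p l ∈ LinearMap.ker g) :
    ∃ k : ιl → LinearMap.ker g, ∀ q, ∑ l, a l q • (k l : P) = ∑ l, a l q • p l := by
  let cols : ιc → (ιl → R) := fun q l => a l q
  let S : Submodule R (ιl → R) := Submodule.span R (Set.range cols)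
  have : Module.FinitePresentation R ((ιl → R) ⧸ S) :=
    Module.finitePresentation_of_surjective S.mkQ (Submodule.mkQ_surjective S)
      (by rw [Submodule.ker_mkQ]; exact Submodule.fg_span (Set.finite_range cols))
  let lin : (ιl → R) →ₗ[R] P := Fintype.linearCombination R p
  have hS : S ≤ LinearMap.ker (g ∘ₗ lin) := by
    rw [Submodule.span_le]
    rintro _ ⟨q, rfl⟩
    have := h q
    rw [LinearMap.mem_ker] at this
    simpa [lin, cols, Fintype.linearCombination_apply] using this
  obtain ⟨ψ, hψ⟩ := hg ((ιl → R) ⧸ S) (S.liftQ (g ∘ₗ lin) hS)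
  have h1 : ∀ l, g (ψ (S.mkQ (Pi.single l 1))) = g (p l) := by
    intro l
    have := LinearMap.congr_fun hψ (S.mkQ (Pi.single l 1))
    rw [LinearMap.comp_apply] at this
    rw [this]
    simp [lin]
  refine ⟨fun l => ⟨p l - ψ (S.mkQ (Pi.single l 1)), by
    rw [LinearMap.mem_ker, map_sub, h1, sub_self]⟩, fun q => ?_⟩
  simp only [smul_sub, Finset.sum_sub_distrib]
  have h2 : ∑ l, a l q • ψ (S.mkQ (Pi.single l 1)) = ψ (S.mkQ (cols q)) := by
    conv_rhs => rw [pi_eq_sum_univ' (cols q)]
    simp only [map_sum, map_smul, cols]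
  have h3 : S.mkQ (cols q) = 0 := by
    rw [Submodule.mkQ_apply, Submodule.Quotient.mk_eq_zero]
    exact Submodule.subset_span ⟨q, rfl⟩
  rw [h2, h3, map_zero, sub_zero]

theorem fsr_rTensor {X Y : Type*} [AddCommGroup X] [Module R X] [AddCommGroup Y] [Module R Y]
    {ι : Type*} [DecidableEq ι] (f : X →ₗ[R] Y) (t : X ⊗[R] (ι →₀ R)) (i : ι) :
    finsuppScalarRight R R Y ι (f.rTensor _ t) i = f (finsuppScalarRight R R X ι t i) := by
  induction t with
  | zero => simp
  | tmul x g => simp [finsuppScalarRight_apply_tmul_apply]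
  | add s t hs ht => simp only [map_add, Finsupp.add_apply, hs, ht]

/-- T1: if every map from a finitely presented module lifts along `g`, then the kernel of `g`
is a pure submodule. -/
theorem universallyInjective_ker_of_FPLift {P M : Type u} [AddCommGroup P] [Module R P]
    [AddCommGroup M] [Module R M] {g : P →ₗ[R] M} (hg : FPLift g) :
    CAlgX.UniversallyInjective R (LinearMap.ker g).subtype := by
  classical
  intro Q _ _
  rw [injective_iff_map_eq_zero]
  intro t ht
  let πQ : (Q →₀ R) →ₗ[R] Q := Finsupp.linearCombination R id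
  have hπQ : Function.Surjective πQ := Finsupp.linearCombination_id_surjective R Q
  obtain ⟨t', rfl⟩ := LinearMap.lTensor_surjective (LinearMap.ker g) hπQ t
  have hu : (πQ.lTensor P) ((LinearMap.ker g).subtype.rTensor (Q →₀ R) t') = 0 := by
    rw [← LinearMap.comp_apply, LinearMap.lTensor_comp_rTensor, ← LinearMap.rTensor_comp_lTensor]
    exact ht
  have hexP := @lTensor_exact R (LinearMap.ker πQ) (Q →₀ R) Q _ _ _ _ _ _ _
    (LinearMap.ker πQ).subtype πQ P _ _ (LinearMap.exact_subtype_ker_map πQ) hπQ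
  obtain ⟨w, hw⟩ := (hexP _).mp hu
  obtain ⟨L, p, s, rfl⟩ := exists_sum_tmul_eq w
  -- coordinates
  have hcoord : ∀ q : Q, ∑ l, (s l : Q →₀ R) q • p l =
      ((finsuppScalarRight R R (LinearMap.ker g) Q t' q : LinearMap.ker g) : P) := by
    intro q
    have := fsr_rTensor (LinearMap.ker g).subtype t' q
    rw [← hw] at this
    rw [Submodule.subtype_apply] at this
    rw [← this]
    simp [finsuppScalarRight_apply_tmul_apply]
  let supp : Finset Q := Finset.univ.biUnion fun l => (s l : Q →₀ R).support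
  obtain ⟨k, hk⟩ := hg.solve (ιl := Fin L) (ιc := supp) (fun l q => (s l : Q →₀ R) q.1) p
    (fun q => by rw [hcoord]; exact Submodule.coe_mem _)
  have hk' : ∀ q : Q, ∑ l, (s l : Q →₀ R) q • (k l : P) = ∑ l, (s l : Q →₀ R) q • p l := by
    intro q
    by_cases hq : q ∈ supp
    · exact hk ⟨q, hq⟩
    · have : ∀ l, (s l : Q →₀ R) q = 0 := by
        intro l
        by_contra h
        exact hq (Finset.mem_biUnion.mpr ⟨l, Finset.mem_univ _, Finsupp.mem_support_iff.mpr h⟩)
      simp [this]
  have ht' : t' = (LinearMap.ker πQ).subtype.lTensor (LinearMap.ker g) (∑ l, k l ⊗ₜ s l) := by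
    apply (finsuppScalarRight R R (LinearMap.ker g) Q).injective
    ext q
    rw [← hcoord q, ← hk' q]
    simp [finsuppScalarRight_apply_tmul_apply]
  rw [ht', ← LinearMap.comp_apply, ← LinearMap.lTensor_comp]
  have : πQ ∘ₗ (LinearMap.ker πQ).subtype = 0 := by
    ext x
    exact x.2
  rw [this, LinearMap.lTensor_zero, LinearMap.zero_apply]

theorem FPLift.surjective {P M : Type u} [AddCommGroup P] [Module R P]
    [AddCommGroup M] [Module R M] {g : P →ₗ[R] M} (hg : FPLift g) : Function.Surjective g := by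
  intro m
  obtain ⟨ψ, hψ⟩ := hg R (LinearMap.toSpanSingleton R M m)
  refine ⟨ψ 1, ?_⟩
  have := LinearMap.congr_fun hψ 1
  simpa using this

/-- S8770 -/
theorem exists_pure_cover (M : Type u) [AddCommGroup M] [Module R M] :
    ∃ (ι : Type u) (Q : ι → Type u) (_ : ∀ i, AddCommGroup (Q i)) (_ : ∀ i, Module R (Q i)),
      (∀ i, Module.FinitePresentation R (Q i)) ∧
      ∃ g : (Π₀ i, Q i) →ₗ[R] M, Function.Surjective g ∧
        CAlgX.UniversallyInjective R (LinearMap.ker g).subtype := by
  classical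
  let ι : Type u := Σ (n : ℕ) (K : {K : Submodule R (Fin n → R) // K.FG}),
    ((Fin n → R) ⧸ K.1 →ₗ[R] M)
  let Q : ι → Type u := fun i => (Fin i.1 → R) ⧸ i.2.1.1
  have hQ : ∀ i, Module.FinitePresentation R (Q i) := fun i =>
    Module.finitePresentation_of_surjective i.2.1.1.mkQ (Submodule.mkQ_surjective _)
      (by rw [Submodule.ker_mkQ]; exact i.2.1.2)
  let g : (Π₀ i, Q i) →ₗ[R] M := DFinsupp.lsum ℕ (fun i => i.2.2)
  have hg : @FPLift R _ (Π₀ i, Q i) M _ _ _ _ g := by
    intro Q' _ _ _ φ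
    obtain ⟨n, K, e, hK⟩ := Module.FinitePresentation.exists_fin R Q'
    let i : ι := ⟨n, ⟨K, hK⟩, φ ∘ₗ e.symm.toLinearMap⟩
    refine ⟨DFinsupp.lsingle i ∘ₗ e.toLinearMap, ?_⟩
    ext x
    simp [g, i]
  exact ⟨ι, Q, inferInstance, inferInstance, hQ, g, hg.surjective,
    universallyInjective_ker_of_FPLift hg⟩

theorem PureProj.of_retract {P P' : Type u} [AddCommGroup P] [Module R P] [AddCommGroup P']
    [Module R P'] (hP' : PureProj R P') (s : P →ₗ[R] P') (r : P' →ₗ[R] P)
    (hrs : r ∘ₗ s = LinearMap.id) : PureProj R P := by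
  intro L N _ _ _ _ g hg hK φ
  obtain ⟨ψ, hψ⟩ := hP' g hg hK (φ ∘ₗ r)
  refine ⟨ψ ∘ₗ s, ?_⟩
  rw [← LinearMap.comp_assoc, hψ, LinearMap.comp_assoc, hrs, LinearMap.comp_id]

theorem PureProj.dfinsupp {ι : Type u} (Q : ι → Type u) [∀ i, AddCommGroup (Q i)]
    [∀ i, Module R (Q i)] (hQ : ∀ i, PureProj R (Q i)) : PureProj R (Π₀ i, Q i) := by
  classical
  intro L N _ _ _ _ g hg hK φ
  choose ψ hψ using fun i => hQ i g hg hK (φ ∘ₗ DFinsupp.lsingle i)
  refine ⟨DFinsupp.lsum ℕ ψ, ?_⟩
  apply DFinsupp.lhom_ext'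
  intro i
  rw [← hψ i]
  ext x
  simp

/-- S8769 -/
theorem pureProj_iff (P : Type u) [AddCommGroup P] [Module R P] :
    PureProj R P ↔
    ∃ (ι : Type u) (Q : ι → Type u) (_ : ∀ i, AddCommGroup (Q i)) (_ : ∀ i, Module R (Q i)),
      (∀ i, Module.FinitePresentation R (Q i)) ∧
      ∃ (s : P →ₗ[R] (Π₀ i, Q i)) (r : (Π₀ i, Q i) →ₗ[R] P), r ∘ₗ s = LinearMap.id := by
  constructor
  · intro hP
    obtain ⟨ι, Q, i1, i2, hQ, g, hg, hK⟩ := exists_pure_cover (R := R) P
    obtain ⟨ψ, hψ⟩ := hP g hg hK LinearMap.id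
    exact ⟨ι, Q, i1, i2, hQ, ψ, g, hψ⟩
  · rintro ⟨ι, Q, i1, i2, hQ, s, r, hrs⟩
    exact (PureProj.dfinsupp Q fun i => pureProj_of_finitePresentation (Q i)).of_retract s r hrs

end Groth.Agent.H4.Pure
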