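import Mathlib
import Groth.Agent.H4.Pure2

namespace Groth.Agent.H4.PureCx

open CategoryTheory MonoidalCategory TensorProduct

universe u
variable {R : Type u} [CommRing R]

lemma tensorRight_map_hom {X Y : ModuleCat.{u} R} (T : ModuleCat.{u} R) (f : X ⟶ Y) :
    ((tensorRight T).map f).hom = f.hom.rTensor T := rfl

theorem chain_quasiIsoAt_succ_iff (N' : ChainComplex (ModuleCat.{u} R) ℕ) (N : ModuleCat.{u} R)
    (ε : N' ⟶ (ChainComplex.single₀ _).obj N) (T : ModuleCat.{u} R) (n : ℕ) :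
    QuasiIsoAt (((tensorRight T).mapHomologicalComplex (ComplexShape.down ℕ)).map ε) (n+1) ↔
      Function.Exact ((N'.d (n+2) (n+1)).hom.rTensor T) ((N'.d (n+1) n).hom.rTensor T) := by
  rw [quasiIsoAt_iff_exactAt']
  · rw [HomologicalComplex.exactAt_iff' _ (n + 1 + 1) (n + 1) n (by simp) (by simp)]
    rw [ShortComplex.ShortExact.moduleCat_exact_iff_function_exact]
    rfl
  · apply ShortComplex.exact_of_isZero_X₂
    show Limits.IsZero ((tensorRight T).obj _)
    apply Functor.map_isZero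
    exact HomologicalComplex.isZero_single_obj_X _ _ _ _ (by simp)

theorem chain_quasiIsoAt_zero_iff (N' : ChainComplex (ModuleCat.{u} R) ℕ) (N : ModuleCat.{u} R)
    (ε : N' ⟶ (ChainComplex.single₀ _).obj N) (T : ModuleCat.{u} R) :
    QuasiIsoAt (((tensorRight T).mapHomologicalComplex (ComplexShape.down ℕ)).map ε) 0 ↔
      Function.Exact ((N'.d 1 0).hom.rTensor T) ((ε.f 0).hom.rTensor T) ∧
      Function.Surjective ((ε.f 0).hom.rTensor T) := by
  rw [ChainComplex.quasiIsoAt₀_iff, ShortComplex.quasiIso_iff_of_zeros']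
  · rw [ShortComplex.ShortExact.moduleCat_exact_iff_function_exact, ModuleCat.epi_iff_surjective]
    rfl
  · simp <;> first | rfl | exact (tensorRight T).map_zero _ _
  · simp <;> first | rfl | exact (tensorRight T).map_zero _ _
  · simp <;> first | rfl | exact (tensorRight T).map_zero _ _

theorem cochain_quasiIsoAt_succ_iff (M' : CochainComplex (ModuleCat.{u} R) ℕ) (M : ModuleCat.{u} R)
    (η : (CochainComplex.single₀ _).obj M ⟶ M') (T : ModuleCat.{u} R) (n : ℕ) :
    QuasiIsoAt (((tensorRight T).mapHomologicalComplex (ComplexShape.up ℕ)).map η) (n+1) ↔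
      Function.Exact ((M'.d n (n+1)).hom.rTensor T) ((M'.d (n+1) (n+2)).hom.rTensor T) := by
  rw [quasiIsoAt_iff_exactAt]
  · rw [HomologicalComplex.exactAt_iff' _ n (n + 1) (n + 1 + 1) (by simp) (by simp)]
    rw [ShortComplex.ShortExact.moduleCat_exact_iff_function_exact]
    rfl
  · apply ShortComplex.exact_of_isZero_X₂
    show Limits.IsZero ((tensorRight T).obj _)
    apply Functor.map_isZero
    exact HomologicalComplex.isZero_single_obj_X _ _ _ _ (by simp)

theorem cochain_quasiIsoAt_zero_iff (M' : CochainComplex (ModuleCat.{u} R) ℕ) (M : ModuleCat.{u} R)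
    (η : (CochainComplex.single₀ _).obj M ⟶ M') (T : ModuleCat.{u} R) :
    QuasiIsoAt (((tensorRight T).mapHomologicalComplex (ComplexShape.up ℕ)).map η) 0 ↔
      Function.Exact ((η.f 0).hom.rTensor T) ((M'.d 0 1).hom.rTensor T) ∧
      Function.Injective ((η.f 0).hom.rTensor T) := by
  rw [CochainComplex.quasiIsoAt₀_iff, ShortComplex.quasiIso_iff_of_zeros]
  · rw [ShortComplex.ShortExact.moduleCat_exact_iff_function_exact, ModuleCat.mono_iff_injective]
    rfl
  · simp <;> first | rfl | exact (tensorRight T).map_zero _ _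
  · simp <;> first | rfl | exact (tensorRight T).map_zero _ _
  · simp <;> first | rfl | exact (tensorRight T).map_zero _ _

open Groth.Agent.H4.Pure

section modlevel

variable {A B C : Type u} [AddCommGroup A] [Module R A] [AddCommGroup B] [Module R B]
  [AddCommGroup C] [Module R C]

theorem rid_naturality (f : A →ₗ[R] B) :
    f ∘ₗ (TensorProduct.rid R A).toLinearMap = (TensorProduct.rid R B).toLinearMap ∘ₗ f.rTensor R := by
  apply TensorProduct.ext'
  intro a r
  simp

theorem exact_of_rTensor_exact {f : A →ₗ[R] B} {g : B →ₗ[R] C}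
    (h : Function.Exact (f.rTensor R) (g.rTensor R)) : Function.Exact f g :=
  (Function.Exact.iff_of_ladder_linearEquiv (e₁ := TensorProduct.rid R A)
    (e₂ := TensorProduct.rid R B) (e₃ := TensorProduct.rid R C)
    (rid_naturality f) (rid_naturality g)).mpr h

theorem surjective_of_rTensor_surjective {f : A →ₗ[R] B}
    (h : Function.Surjective (f.rTensor R)) : Function.Surjective f := by
  have h1 : Function.Surjective (f ∘ₗ (TensorProduct.rid R A).toLinearMap) := by
    rw [rid_naturality]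
    exact (TensorProduct.rid R B).surjective.comp h
  exact Function.Surjective.of_comp h1

theorem injective_of_rTensor_injective {f : A →ₗ[R] B}
    (h : Function.Injective (f.rTensor R)) : Function.Injective f := by
  have h1 : Function.Injective ((TensorProduct.rid R B).toLinearMap ∘ₗ f.rTensor R) :=
    (TensorProduct.rid R B).injective.comp h
  rw [← rid_naturality] at h1
  intro x y hxy
  have := h1 (a₁ := (TensorProduct.rid R A).symm x) (a₂ := (TensorProduct.rid R A).symm y)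
    (by simpa using hxy)
  exact (TensorProduct.rid R A).symm.injective this

/-- EX: converse of S8773 -/
theorem rTensor_exact_of_exact_of_universallyInjective {f : A →ₗ[R] B} {g : B →ₗ[R] C}
    (hfg : Function.Exact f g) (hg : CAlgX.UniversallyInjective R (LinearMap.range g).subtype)
    (Q : Type u) [AddCommGroup Q] [Module R Q] :
    Function.Exact (f.rTensor Q) (g.rTensor Q) := by
  have h1 : Function.Exact f g.rangeRestrict := by
    intro b
    rw [← hfg b]
    constructor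
    · intro h
      have := congrArg Subtype.val h
      simpa using this
    · intro h
      apply Subtype.ext
      simpa using h
  have h2 := rTensor_exact Q h1 g.surjective_rangeRestrict
  have h3 : g = (LinearMap.range g).subtype ∘ₗ g.rangeRestrict := by
    ext x
    rfl
  intro x
  rw [← h2 x]
  conv_lhs => rw [h3, LinearMap.rTensor_comp, LinearMap.comp_apply]
  constructor
  · intro h
    exact hg Q (by rw [h, map_zero])
  · intro h
    rw [h, map_zero]

/-- LIFT -/
theorem exists_lift_of_pureProj {P X Y Z : Type u} [AddCommGroup P] [Module R P]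
    [AddCommGroup X] [Module R X] [AddCommGroup Y] [Module R Y] [AddCommGroup Z] [Module R Z]
    (hP : PureProj R P) (a : X →ₗ[R] Y) (b : Y →ₗ[R] Z) (hab : Function.Exact a b)
    (hK : CAlgX.UniversallyInjective R (LinearMap.ker a).subtype)
    (h : P →ₗ[R] Y) (hh : b ∘ₗ h = 0) : ∃ l : P →ₗ[R] X, a ∘ₗ l = h := by
  have h1 : ∀ x, h x ∈ LinearMap.range a := by
    intro x
    rw [← hab.linearMap_ker_eq]
    exact LinearMap.congr_fun hh x
  have hK' : CAlgX.UniversallyInjective R (LinearMap.ker a.rangeRestrict).subtype := by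
    rw [LinearMap.ker_rangeRestrict]
    exact hK
  obtain ⟨ψ, hψ⟩ := hP a.rangeRestrict a.surjective_rangeRestrict hK'
    (h.codRestrict (LinearMap.range a) h1)
  refine ⟨ψ, ?_⟩
  ext x
  have := congrArg Subtype.val (LinearMap.congr_fun hψ x)
  simpa using this

/-- EXT -/
theorem exists_ext_of_pureInj {I X Y Z : Type u} [AddCommGroup I] [Module R I]
    [AddCommGroup X] [Module R X] [AddCommGroup Y] [Module R Y] [AddCommGroup Z] [Module R Z]
    (hI : PureInj R I) (a : X →ₗ[R] Y) (b : Y →ₗ[R] Z) (hab : Function.Exact a b)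
    (hK : CAlgX.UniversallyInjective R (LinearMap.range b).subtype)
    (h : Y →ₗ[R] I) (hh : h ∘ₗ a = 0) : ∃ l : Z →ₗ[R] I, l ∘ₗ b = h := by
  have h1 : LinearMap.ker b.rangeRestrict ≤ LinearMap.ker h := by
    rw [LinearMap.ker_rangeRestrict, hab.linearMap_ker_eq]
    rintro _ ⟨x, rfl⟩
    exact LinearMap.congr_fun hh x
  obtain ⟨h', hh'⟩ := exists_descend b.rangeRestrict b.surjective_rangeRestrict h h1
  obtain ⟨l, hl⟩ := hI (LinearMap.range b).subtype hK h'
  refine ⟨l, ?_⟩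
  rw [← hh', ← hl]
  rfl

end modlevel

section cat

variable {P X Y Z : ModuleCat.{u} R}

theorem exists_lift_cat (hP : PureProj R P) (a : X ⟶ Y) (b : Y ⟶ Z)
    (hab : Function.Exact a.hom b.hom)
    (hK : CAlgX.UniversallyInjective R (LinearMap.ker a.hom).subtype)
    (h : P ⟶ Y) (hh : h ≫ b = 0) : ∃ l : P ⟶ X, l ≫ a = h := by
  obtain ⟨l, hl⟩ := exists_lift_of_pureProj hP a.hom b.hom hab hK h.hom
    (by rw [← ModuleCat.hom_comp, hh]; rfl)
  exact ⟨ModuleCat.ofHom l, by ext1; simpa using hl⟩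

/-- lifting from a pure projective along a universally exact pair -/
noncomputable def liftP (hP : PureProj R P) (a : X ⟶ Y) (b : Y ⟶ Z)
    (hab : Function.Exact a.hom b.hom)
    (hK : CAlgX.UniversallyInjective R (LinearMap.ker a.hom).subtype)
    (h : P ⟶ Y) (hh : h ≫ b = 0) : P ⟶ X :=
  Classical.choose (exists_lift_cat hP a b hab hK h hh)

@[simp]
theorem liftP_comp (hP : PureProj R P) (a : X ⟶ Y) (b : Y ⟶ Z)
    (hab : Function.Exact a.hom b.hom)
    (hK : CAlgX.UniversallyInjective R (LinearMap.ker a.hom).subtype)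
    (h : P ⟶ Y) (hh : h ≫ b = 0) : liftP hP a b hab hK h hh ≫ a = h :=
  Classical.choose_spec (exists_lift_cat hP a b hab hK h hh)

variable {I : ModuleCat.{u} R}

theorem exists_desc_cat (hI : PureInj R I) (a : X ⟶ Y) (b : Y ⟶ Z)
    (hab : Function.Exact a.hom b.hom)
    (hK : CAlgX.UniversallyInjective R (LinearMap.range b.hom).subtype)
    (h : Y ⟶ I) (hh : a ≫ h = 0) : ∃ l : Z ⟶ I, b ≫ l = h := by
  obtain ⟨l, hl⟩ := exists_ext_of_pureInj hI a.hom b.hom hab hK h.hom
    (by rw [← ModuleCat.hom_comp, hh]; rfl)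
  exact ⟨ModuleCat.ofHom l, by ext1; simpa using hl⟩

/-- extending to a pure injective along a universally exact pair -/
noncomputable def descI (hI : PureInj R I) (a : X ⟶ Y) (b : Y ⟶ Z)
    (hab : Function.Exact a.hom b.hom)
    (hK : CAlgX.UniversallyInjective R (LinearMap.range b.hom).subtype)
    (h : Y ⟶ I) (hh : a ≫ h = 0) : Z ⟶ I :=
  Classical.choose (exists_desc_cat hI a b hab hK h hh)

@[simp]
theorem comp_descI (hI : PureInj R I) (a : X ⟶ Y) (b : Y ⟶ Z)
    (hab : Function.Exact a.hom b.hom)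
    (hK : CAlgX.UniversallyInjective R (LinearMap.range b.hom).subtype)
    (h : Y ⟶ I) (hh : a ≫ h = 0) : b ≫ descI hI a b hab hK h hh = h :=
  Classical.choose_spec (exists_desc_cat hI a b hab hK h hh)

end cat

section res

/-- a universally exact (left) resolution, in module terms -/
structure UExactRes (N' : ChainComplex (ModuleCat.{u} R) ℕ) {N : ModuleCat.{u} R}
    (ε : N' ⟶ (ChainComplex.single₀ _).obj N) : Prop where
  exact_succ : ∀ n, Function.Exact (N'.d (n+2) (n+1)).hom (N'.d (n+1) n).hom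
  exact_zero : Function.Exact (N'.d 1 0).hom (ε.f 0).hom
  surj : Function.Surjective (ε.f 0).hom
  ui_succ : ∀ n, CAlgX.UniversallyInjective R (LinearMap.ker (N'.d (n+1) n).hom).subtype
  ui_zero : CAlgX.UniversallyInjective R (LinearMap.ker (ε.f 0).hom).subtype

theorem uExactRes_of_quasiIso (N' : ChainComplex (ModuleCat.{u} R) ℕ) {N : ModuleCat.{u} R}
    (ε : N' ⟶ (ChainComplex.single₀ _).obj N)
    (hN' : ∀ T : ModuleCat.{u} R,
      QuasiIso (((tensorRight T).mapHomologicalComplex (ComplexShape.down ℕ)).map ε)) :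
    UExactRes N' ε := by
  have hE : ∀ (Q : Type u) [AddCommGroup Q] [Module R Q] (n : ℕ),
      Function.Exact ((N'.d (n+2) (n+1)).hom.rTensor Q) ((N'.d (n+1) n).hom.rTensor Q) := by
    intro Q _ _ n
    have := hN' (ModuleCat.of R Q)
    exact (chain_quasiIsoAt_succ_iff N' N ε (ModuleCat.of R Q) n).mp (this.quasiIsoAt (n+1))
  have hE0 : ∀ (Q : Type u) [AddCommGroup Q] [Module R Q],
      Function.Exact ((N'.d 1 0).hom.rTensor Q) ((ε.f 0).hom.rTensor Q) ∧
      Function.Surjective ((ε.f 0).hom.rTensor Q) := by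
    intro Q _ _
    have := hN' (ModuleCat.of R Q)
    exact (chain_quasiIsoAt_zero_iff N' N ε (ModuleCat.of R Q)).mp (this.quasiIsoAt 0)
  have e : ∀ n, Function.Exact (N'.d (n+2) (n+1)).hom (N'.d (n+1) n).hom := fun n =>
    exact_of_rTensor_exact (hE R n)
  have e0 : Function.Exact (N'.d 1 0).hom (ε.f 0).hom := exact_of_rTensor_exact (hE0 R).1
  refine ⟨e, e0, surjective_of_rTensor_surjective (hE0 R).2, fun n => ?_, ?_⟩
  · rw [(e n).linearMap_ker_eq]
    exact universallyInjective_range_subtype _ _ (fun Q _ _ => hE Q (n+1))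
  · rw [e0.linearMap_ker_eq]
    exact universallyInjective_range_subtype _ _ (fun Q _ _ => hE Q 0)

/-- a universally exact (right) resolution, in module terms -/
structure UExactCores (M' : CochainComplex (ModuleCat.{u} R) ℕ) {M : ModuleCat.{u} R}
    (η : (CochainComplex.single₀ _).obj M ⟶ M') : Prop where
  exact_succ : ∀ n, Function.Exact (M'.d n (n+1)).hom (M'.d (n+1) (n+2)).hom
  exact_zero : Function.Exact (η.f 0).hom (M'.d 0 1).hom
  ui_eta : CAlgX.UniversallyInjective R (η.f 0).hom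
  ui_succ : ∀ n, CAlgX.UniversallyInjective R (LinearMap.range (M'.d n (n+1)).hom).subtype

theorem uExactCores_of_quasiIso (M' : CochainComplex (ModuleCat.{u} R) ℕ) {M : ModuleCat.{u} R}
    (η : (CochainComplex.single₀ _).obj M ⟶ M')
    (hM' : ∀ T : ModuleCat.{u} R,
      QuasiIso (((tensorRight T).mapHomologicalComplex (ComplexShape.up ℕ)).map η)) :
    UExactCores M' η := by
  have hE : ∀ (Q : Type u) [AddCommGroup Q] [Module R Q] (n : ℕ),
      Function.Exact ((M'.d n (n+1)).hom.rTensor Q) ((M'.d (n+1) (n+2)).hom.rTensor Q) := by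
    intro Q _ _ n
    have := hM' (ModuleCat.of R Q)
    exact (cochain_quasiIsoAt_succ_iff M' M η (ModuleCat.of R Q) n).mp (this.quasiIsoAt (n+1))
  have hE0 : ∀ (Q : Type u) [AddCommGroup Q] [Module R Q],
      Function.Exact ((η.f 0).hom.rTensor Q) ((M'.d 0 1).hom.rTensor Q) ∧
      Function.Injective ((η.f 0).hom.rTensor Q) := by
    intro Q _ _
    have := hM' (ModuleCat.of R Q)
    exact (cochain_quasiIsoAt_zero_iff M' M η (ModuleCat.of R Q)).mp (this.quasiIsoAt 0)
  refine ⟨fun n => exact_of_rTensor_exact (hE R n), exact_of_rTensor_exact (hE0 R).1,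
    fun Q _ _ => (hE0 Q).2, fun n => ?_⟩
  cases n with
  | zero => exact universallyInjective_range_subtype _ _ (fun Q _ _ => (hE0 Q).1)
  | succ n => exact universallyInjective_range_subtype _ _ (fun Q _ _ => hE Q n)

end res

section compare

theorem exists_chainMap {M N : ModuleCat.{u} R} (f : M ⟶ N)
    (P N' : ChainComplex (ModuleCat.{u} R) ℕ)
    (π : P ⟶ (ChainComplex.single₀ _).obj M) (ε : N' ⟶ (ChainComplex.single₀ _).obj N)
    (hP : ∀ n, PureProj R (P.X n)) (hN : UExactRes N' ε) :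
    ∃ φ : P ⟶ N', φ ≫ ε = π ≫ (ChainComplex.single₀ _).map f := by
  have h0 : ∃ φ0 : P.X 0 ⟶ N'.X 0,
      φ0 ≫ ε.f 0 = π.f 0 ≫ ((ChainComplex.single₀ _).map f).f 0 := by
    obtain ⟨ψ, hψ⟩ := hP 0 (ε.f 0).hom hN.surj hN.ui_zero
      (π.f 0 ≫ ((ChainComplex.single₀ _).map f).f 0).hom
    exact ⟨ModuleCat.ofHom ψ, ModuleCat.hom_ext (by
      rw [ModuleCat.hom_comp, ModuleCat.hom_ofHom]; exact hψ)⟩
  obtain ⟨φ0, hφ0⟩ := h0
  have h1' : P.d 1 0 ≫ π.f 0 = 0 := by
    rw [← π.comm]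
    simp
    exact Limits.comp_zero
  have h1 : (P.d 1 0 ≫ φ0) ≫ ε.f 0 = 0 := by
    rw [Category.assoc, hφ0, ← Category.assoc, h1', Limits.zero_comp]
  refine ⟨ChainComplex.mkHom P N' φ0
    (liftP (hP 1) (N'.d 1 0) (ε.f 0) hN.exact_zero (hN.ui_succ 0) (P.d 1 0 ≫ φ0) h1)
    (liftP_comp _ _ _ _ _ _ _)
    (fun n p => ⟨liftP (hP (n+2)) (N'.d (n+2) (n+1)) (N'.d (n+1) n) (hN.exact_succ n)
      (hN.ui_succ (n+1)) (P.d (n+2) (n+1) ≫ p.2.1) (by rw [Category.assoc, p.2.2]; simp),
      liftP_comp _ _ _ _ _ _ _⟩), ?_⟩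
  apply HomologicalComplex.to_single_hom_ext
  simpa using hφ0

theorem nonempty_homotopy_zero {N : ModuleCat.{u} R}
    (P N' : ChainComplex (ModuleCat.{u} R) ℕ)
    (ε : N' ⟶ (ChainComplex.single₀ _).obj N)
    (hP : ∀ n, PureProj R (P.X n)) (hN : UExactRes N' ε) (e : P ⟶ N') (comm : e ≫ ε = 0) :
    Nonempty (Homotopy e 0) := by
  have c0 : e.f 0 ≫ ε.f 0 = 0 := congr_fun (congr_arg HomologicalComplex.Hom.f comm) 0
  let z : P.X 0 ⟶ N'.X 1 :=
    liftP (hP 0) (N'.d 1 0) (ε.f 0) hN.exact_zero (hN.ui_succ 0) (e.f 0) c0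
  have hz : z ≫ N'.d 1 0 = e.f 0 := liftP_comp _ _ _ _ _ _ _
  have c1 : (e.f 1 - P.d 1 0 ≫ z) ≫ N'.d 1 0 = 0 := by
    rw [Preadditive.sub_comp, Category.assoc, HomologicalComplex.Hom.comm, hz, sub_self]
  let o : P.X 1 ⟶ N'.X 2 :=
    liftP (hP 1) (N'.d 2 1) (N'.d 1 0) (hN.exact_succ 0) (hN.ui_succ 1) (e.f 1 - P.d 1 0 ≫ z) c1
  have ho : o ≫ N'.d 2 1 = e.f 1 - P.d 1 0 ≫ z := liftP_comp _ _ _ _ _ _ _
  exact ⟨Homotopy.mkInductive e z hz.symm o (by rw [ho]; abel) (fun n p =>
    ⟨liftP (hP (n+2)) (N'.d (n+3) (n+2)) (N'.d (n+2) (n+1)) (hN.exact_succ (n+1))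
      (hN.ui_succ (n+2)) (e.f (n+2) - P.d (n+2) (n+1) ≫ p.2.1) (by simp [p.2.2]),
      by rw [liftP_comp]; abel⟩)⟩

theorem nonempty_homotopy {M N : ModuleCat.{u} R} (f : M ⟶ N)
    (P N' : ChainComplex (ModuleCat.{u} R) ℕ)
    (π : P ⟶ (ChainComplex.single₀ _).obj M) (ε : N' ⟶ (ChainComplex.single₀ _).obj N)
    (hP : ∀ n, PureProj R (P.X n)) (hN : UExactRes N' ε) (α β : P ⟶ N')
    (hα : α ≫ ε = π ≫ (ChainComplex.single₀ _).map f)
    (hβ : β ≫ ε = π ≫ (ChainComplex.single₀ _).map f) : Nonempty (Homotopy α β) := by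
  obtain ⟨h⟩ := nonempty_homotopy_zero P N' ε hP hN (α - β) (by simp [hα, hβ])
  exact ⟨Homotopy.equivSubZero.invFun h⟩

theorem exists_cochainMap {M N : ModuleCat.{u} R} (f : M ⟶ N)
    (M' I : CochainComplex (ModuleCat.{u} R) ℕ)
    (η : (CochainComplex.single₀ _).obj M ⟶ M') (ε : (CochainComplex.single₀ _).obj N ⟶ I)
    (hM : UExactCores M' η) (hI : ∀ n, PureInj R (I.X n)) :
    ∃ φ : M' ⟶ I, η ≫ φ = (CochainComplex.single₀ _).map f ≫ ε := by
  have h0 : ∃ φ0 : M'.X 0 ⟶ I.X 0,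
      η.f 0 ≫ φ0 = ((CochainComplex.single₀ _).map f).f 0 ≫ ε.f 0 := by
    obtain ⟨ψ, hψ⟩ := hI 0 (η.f 0).hom hM.ui_eta
      (((CochainComplex.single₀ _).map f).f 0 ≫ ε.f 0).hom
    exact ⟨ModuleCat.ofHom ψ, ModuleCat.hom_ext (by
      rw [ModuleCat.hom_comp, ModuleCat.hom_ofHom]; exact hψ)⟩
  obtain ⟨φ0, hφ0⟩ := h0
  have h1' : ε.f 0 ≫ I.d 0 1 = 0 := by
    rw [ε.comm]
    simp
    exact Limits.zero_comp
  have h1 : η.f 0 ≫ φ0 ≫ I.d 0 1 = 0 := by
    rw [← Category.assoc, hφ0, Category.assoc, h1', Limits.comp_zero]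
  refine ⟨CochainComplex.mkHom M' I φ0
    (descI (hI 1) (η.f 0) (M'.d 0 1) hM.exact_zero (hM.ui_succ 0) (φ0 ≫ I.d 0 1) h1)
    (comp_descI _ _ _ _ _ _ _).symm
    (fun n p => ⟨descI (hI (n+2)) (M'.d n (n+1)) (M'.d (n+1) (n+2)) (hM.exact_succ n)
      (hM.ui_succ (n+1)) (p.2.1 ≫ I.d (n+1) (n+2)) (by rw [← Category.assoc, ← p.2.2]; simp),
      (comp_descI _ _ _ _ _ _ _).symm⟩), ?_⟩
  apply HomologicalComplex.from_single_hom_ext
  simpa using hφ0

theorem nonempty_cohomotopy_zero {M : ModuleCat.{u} R}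
    (M' I : CochainComplex (ModuleCat.{u} R) ℕ)
    (η : (CochainComplex.single₀ _).obj M ⟶ M')
    (hM : UExactCores M' η) (hI : ∀ n, PureInj R (I.X n)) (e : M' ⟶ I) (comm : η ≫ e = 0) :
    Nonempty (Homotopy e 0) := by
  have c0 : η.f 0 ≫ e.f 0 = 0 := congr_fun (congr_arg HomologicalComplex.Hom.f comm) 0
  let z : M'.X 1 ⟶ I.X 0 :=
    descI (hI 0) (η.f 0) (M'.d 0 1) hM.exact_zero (hM.ui_succ 0) (e.f 0) c0
  have hz : M'.d 0 1 ≫ z = e.f 0 := comp_descI _ _ _ _ _ _ _
  have c1 : M'.d 0 1 ≫ (e.f 1 - z ≫ I.d 0 1) = 0 := by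
    rw [Preadditive.comp_sub, ← Category.assoc, hz, HomologicalComplex.Hom.comm, sub_self]
  let o : M'.X 2 ⟶ I.X 1 :=
    descI (hI 1) (M'.d 0 1) (M'.d 1 2) (hM.exact_succ 0) (hM.ui_succ 1) (e.f 1 - z ≫ I.d 0 1) c1
  have ho : M'.d 1 2 ≫ o = e.f 1 - z ≫ I.d 0 1 := comp_descI _ _ _ _ _ _ _
  exact ⟨Homotopy.mkCoinductive e z hz.symm o (by rw [ho]; abel) (fun n ⟨g, g', w⟩ =>
    ⟨descI (hI (n+2)) (M'.d (n+1) (n+2)) (M'.d (n+2) (n+3)) (hM.exact_succ (n+1))
      (hM.ui_succ (n+2)) (e.f (n+2) - g' ≫ I.d (n+1) (n+2)) (by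
        rw [Preadditive.comp_sub, ← HomologicalComplex.Hom.comm, w, Preadditive.add_comp,
          Category.assoc, Category.assoc, HomologicalComplex.d_comp_d, Limits.comp_zero]
        abel),
      by rw [comp_descI]; abel⟩)⟩

theorem nonempty_cohomotopy {M N : ModuleCat.{u} R} (f : M ⟶ N)
    (M' I : CochainComplex (ModuleCat.{u} R) ℕ)
    (η : (CochainComplex.single₀ _).obj M ⟶ M') (ε : (CochainComplex.single₀ _).obj N ⟶ I)
    (hM : UExactCores M' η) (hI : ∀ n, PureInj R (I.X n)) (α β : M' ⟶ I)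
    (hα : η ≫ α = (CochainComplex.single₀ _).map f ≫ ε)
    (hβ : η ≫ β = (CochainComplex.single₀ _).map f ≫ ε) : Nonempty (Homotopy α β) := by
  obtain ⟨h⟩ := nonempty_cohomotopy_zero M' I η hM hI (α - β) (by simp [hα, hβ])
  exact ⟨Homotopy.equivSubZero.invFun h⟩

end compare

end Groth.Agent.H4.PureCx
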