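import Mathlib
import Groth.Agent.H4.PureCx


namespace Groth.Agent.H4.PureCx

open CategoryTheory MonoidalCategory TensorProduct Limits

universe u v w

section mkind

variable {V : Type w} [Category.{v} V] [HasZeroMorphisms V]

theorem cochain_mk'_ind (X₀ X₁ : V) (d₀ : X₀ ⟶ X₁)
    (succ' : ∀ {X₀ X₁ : V} (f : X₀ ⟶ X₁), Σ' (X₂ : V) (d : X₁ ⟶ X₂), f ≫ d = 0)
    (Pr : ∀ {A B C : V}, (A ⟶ B) → (B ⟶ C) → Prop)
    (h : ∀ {A B : V} (f : A ⟶ B), Pr f (succ' f).2.1) (n : ℕ) :
    Pr ((CochainComplex.mk' X₀ X₁ d₀ succ').d n (n+1))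
      ((CochainComplex.mk' X₀ X₁ d₀ succ').d (n+1) (n+1+1)) := by
  simp only [CochainComplex.mk', CochainComplex.mk, CochainComplex.of_d]
  match n with
  | 0 => exact h _
  | n+1 => exact h _

theorem cochain_mk'_X_ind (X₀ X₁ : V) (d₀ : X₀ ⟶ X₁)
    (succ' : ∀ {X₀ X₁ : V} (f : X₀ ⟶ X₁), Σ' (X₂ : V) (d : X₁ ⟶ X₂), f ≫ d = 0)
    (Pr : V → Prop) (h0 : Pr X₀) (h1 : Pr X₁)
    (h : ∀ {A B : V} (f : A ⟶ B), Pr (succ' f).1) (n : ℕ) :
    Pr ((CochainComplex.mk' X₀ X₁ d₀ succ').X n) := by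
  obtain (_ | _ | _ | n) := n
  · exact h0
  · exact h1
  · exact h _
  · exact h _

theorem chain_mk'_ind (X₀ X₁ : V) (d₀ : X₁ ⟶ X₀)
    (succ' : ∀ {X₀ X₁ : V} (f : X₁ ⟶ X₀), Σ' (X₂ : V) (d : X₂ ⟶ X₁), d ≫ f = 0)
    (Pr : ∀ {A B C : V}, (A ⟶ B) → (B ⟶ C) → Prop)
    (h : ∀ {A B : V} (f : A ⟶ B), Pr (succ' f).2.1 f) (n : ℕ) :
    Pr ((ChainComplex.mk' X₀ X₁ d₀ succ').d (n+1+1) (n+1))
      ((ChainComplex.mk' X₀ X₁ d₀ succ').d (n+1) n) := by
  simp only [ChainComplex.mk', ChainComplex.mk, ChainComplex.of_d]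
  match n with
  | 0 => exact h _
  | n+1 => exact h _

theorem chain_mk'_X_ind (X₀ X₁ : V) (d₀ : X₁ ⟶ X₀)
    (succ' : ∀ {X₀ X₁ : V} (f : X₁ ⟶ X₀), Σ' (X₂ : V) (d : X₂ ⟶ X₁), d ≫ f = 0)
    (Pr : V → Prop) (h0 : Pr X₀) (h1 : Pr X₁)
    (h : ∀ {A B : V} (f : A ⟶ B), Pr (succ' f).1) (n : ℕ) :
    Pr ((ChainComplex.mk' X₀ X₁ d₀ succ').X n) := by
  obtain (_ | _ | _ | n) := n
  · exact h0
  · exact h1
  · exact h _
  · exact h _

end mkind

open Groth.Agent.H4.Pure

variable {R : Type u} [CommRing R]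

section ui

variable {A B C : Type u} [AddCommGroup A] [Module R A] [AddCommGroup B] [Module R B]
  [AddCommGroup C] [Module R C]

theorem ui_of_comp_surjective (g : B →ₗ[R] C) (e : A →ₗ[R] B) (he : Function.Surjective e)
    (h : CAlgX.UniversallyInjective R (g ∘ₗ e)) : CAlgX.UniversallyInjective R g := by
  intro Q _ _
  rw [injective_iff_map_eq_zero]
  intro x hx
  obtain ⟨y, rfl⟩ := LinearMap.rTensor_surjective Q he x
  rw [← LinearMap.comp_apply, ← LinearMap.rTensor_comp] at hx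
  have := h Q (a₁ := y) (a₂ := 0) (by rw [hx, map_zero])
  rw [this, map_zero]

theorem ui_range_subtype (g : A →ₗ[R] B) (h : CAlgX.UniversallyInjective R g) :
    CAlgX.UniversallyInjective R (LinearMap.range g).subtype :=
  ui_of_comp_surjective _ g.rangeRestrict g.surjective_rangeRestrict h

theorem ui_of_bijective (f : A →ₗ[R] B) (hf : Function.Bijective f) :
    CAlgX.UniversallyInjective R f := by
  intro Q _ _
  have : f.rTensor Q = ((LinearEquiv.ofBijective f hf).rTensor Q).toLinearMap := by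
    apply TensorProduct.ext'
    intro a q
    simp
  rw [this]
  exact ((LinearEquiv.ofBijective f hf).rTensor Q).injective

theorem ui_range_subtype_of_surjective (g : A →ₗ[R] B) (h : Function.Surjective g) :
    CAlgX.UniversallyInjective R (LinearMap.range g).subtype := by
  apply ui_of_bijective
  refine ⟨Submodule.injective_subtype _, fun b => ?_⟩
  obtain ⟨a, rfl⟩ := h b
  exact ⟨⟨g a, a, rfl⟩, rfl⟩

theorem ui_range_of_exact {d : A →ₗ[R] B} {f : B →ₗ[R] C} (hex : Function.Exact d f)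
    (hk : CAlgX.UniversallyInjective R (LinearMap.ker f).subtype) :
    CAlgX.UniversallyInjective R (LinearMap.range d).subtype := by
  rw [← hex.linearMap_ker_eq]
  exact hk

end ui

section injres

/-- the step of the pure injective resolution -/
noncomputable def injStep {X₀ X₁ : ModuleCat.{u} R} (f : X₀ ⟶ X₁) :
    Σ' (X₂ : ModuleCat.{u} R) (d : X₁ ⟶ X₂), f ≫ d = 0 :=
  ⟨ModuleCat.of R (CharacterModule (CharacterModule (X₁ ⧸ LinearMap.range f.hom))),
   ModuleCat.ofHom (PureExt.charEval R _ ∘ₗ (LinearMap.range f.hom).mkQ),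
   by
    ext x
    have : (LinearMap.range f.hom).mkQ (f.hom x) = 0 := by
      rw [Submodule.mkQ_apply, Submodule.Quotient.mk_eq_zero]
      exact ⟨x, rfl⟩
    simp [this]⟩

theorem injStep_exact {X₀ X₁ : ModuleCat.{u} R} (f : X₀ ⟶ X₁) :
    Function.Exact f.hom (injStep f).2.1.hom := by
  intro y
  have hinj : Function.Injective (PureExt.charEval R (X₁ ⧸ LinearMap.range f.hom)) :=
    injective_of_rTensor_injective (universallyInjective_charEval _ R)
  show (PureExt.charEval R _ ((LinearMap.range f.hom).mkQ y) = 0) ↔ _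
  rw [← map_zero (PureExt.charEval R (X₁ ⧸ LinearMap.range f.hom)), hinj.eq_iff,
    Submodule.mkQ_apply, Submodule.Quotient.mk_eq_zero]
  rfl

theorem injStep_ui {X₀ X₁ : ModuleCat.{u} R} (f : X₀ ⟶ X₁) :
    CAlgX.UniversallyInjective R (LinearMap.range (injStep f).2.1.hom).subtype := by
  have : LinearMap.range (injStep f).2.1.hom =
      LinearMap.range (PureExt.charEval R (X₁ ⧸ LinearMap.range f.hom)) := by
    show LinearMap.range (PureExt.charEval R _ ∘ₗ (LinearMap.range f.hom).mkQ) = _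
    rw [LinearMap.range_comp, Submodule.range_mkQ, Submodule.map_top]
  rw [this]
  exact ui_range_subtype _ (universallyInjective_charEval _)

theorem injStep_pureInj {X₀ X₁ : ModuleCat.{u} R} (f : X₀ ⟶ X₁) :
    PureInj R (injStep f).1 :=
  pureInj_characterModule _

/-- S8777 -/
theorem exists_pureInjective_resolution (M : ModuleCat.{u} R) :
    ∃ (I : CochainComplex (ModuleCat.{u} R) ℕ)
      (η : (CochainComplex.single₀ (ModuleCat.{u} R)).obj M ⟶ I),
      (∀ n : ℕ, PureInj R (I.X n)) ∧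
      ∀ T : ModuleCat.{u} R,
      QuasiIso (((tensorRight T).mapHomologicalComplex (ComplexShape.up ℕ)).map η) := by
  let η₀ : M ⟶ ModuleCat.of R (CharacterModule (CharacterModule M)) :=
    ModuleCat.ofHom (PureExt.charEval R M)
  let I : CochainComplex (ModuleCat.{u} R) ℕ :=
    CochainComplex.mk' _ (injStep η₀).1 (injStep η₀).2.1 (fun f => injStep f)
  have hd01 : I.d 0 1 = (injStep η₀).2.1 := CochainComplex.mk'_d_1_0 _ _ _ _
  let η : (CochainComplex.single₀ (ModuleCat.{u} R)).obj M ⟶ I :=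
    (CochainComplex.fromSingle₀Equiv _ _).symm ⟨η₀, by rw [hd01]; exact (injStep η₀).2.2⟩
  have hη0 : η.f 0 = η₀ := by simp [η]
  have hPr := cochain_mk'_ind _ (injStep η₀).1 (injStep η₀).2.1 (fun f => injStep f)
    (fun {A B C} (f : A ⟶ B) (d : B ⟶ C) => Function.Exact f.hom d.hom ∧
      CAlgX.UniversallyInjective R (LinearMap.range d.hom).subtype)
    (fun f => ⟨injStep_exact f, injStep_ui f⟩)
  refine ⟨I, η, ?_, fun T => ⟨fun n => ?_⟩⟩
  · exact cochain_mk'_X_ind _ (injStep η₀).1 (injStep η₀).2.1 (fun f => injStep f)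
      (fun X => PureInj R X) (pureInj_characterModule _) (injStep_pureInj _)
      (fun f => injStep_pureInj f)
  · cases n with
    | zero =>
      rw [cochain_quasiIsoAt_zero_iff, hη0, hd01]
      exact ⟨rTensor_exact_of_exact_of_universallyInjective (injStep_exact η₀) (injStep_ui η₀) T,
        universallyInjective_charEval M T⟩
    | succ n =>
      rw [cochain_quasiIsoAt_succ_iff]
      exact rTensor_exact_of_exact_of_universallyInjective (hPr n).1 (hPr n).2 T

end injres

section projres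

/-- the statement's condition on the terms of a pure projective resolution -/
def IsDFP (R : Type u) [CommRing R] (X : Type u) [AddCommGroup X] [Module R X] : Prop :=
  ∃ (ι : Type u) (Q : ι → Type u) (_ : ∀ i, AddCommGroup (Q i)) (_ : ∀ i, Module R (Q i)),
    (∀ i, Module.FinitePresentation R (Q i)) ∧
    ∃ (s : X →ₗ[R] (Π₀ i, Q i)) (r : (Π₀ i, Q i) →ₗ[R] X), r ∘ₗ s = LinearMap.id

theorem exists_cover_cat (M : ModuleCat.{u} R) :
    ∃ (X : ModuleCat.{u} R) (g : X ⟶ M), IsDFP R X ∧ Function.Surjective g.hom ∧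
      CAlgX.UniversallyInjective R (LinearMap.ker g.hom).subtype := by
  obtain ⟨ι, Q, i1, i2, hQ, g, hg, hK⟩ := exists_pure_cover (R := R) M
  exact ⟨ModuleCat.of R (Π₀ i, Q i), ModuleCat.ofHom g,
    ⟨ι, Q, i1, i2, hQ, LinearMap.id, LinearMap.id, rfl⟩, hg, hK⟩

/-- a chosen pure projective cover -/
noncomputable def cover (M : ModuleCat.{u} R) : ModuleCat.{u} R := (exists_cover_cat M).choose

/-- the map from the chosen cover -/
noncomputable def coverπ (M : ModuleCat.{u} R) : cover M ⟶ M :=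
  (exists_cover_cat M).choose_spec.choose

theorem cover_spec (M : ModuleCat.{u} R) :
    IsDFP R (cover M) ∧ Function.Surjective (coverπ M).hom ∧
      CAlgX.UniversallyInjective R (LinearMap.ker (coverπ M).hom).subtype :=
  (exists_cover_cat M).choose_spec.choose_spec

/-- the step of the pure projective resolution -/
noncomputable def projStep {X₀ X₁ : ModuleCat.{u} R} (f : X₁ ⟶ X₀) :
    Σ' (X₂ : ModuleCat.{u} R) (d : X₂ ⟶ X₁), d ≫ f = 0 :=
  ⟨cover (ModuleCat.of R (LinearMap.ker f.hom)),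
   coverπ _ ≫ ModuleCat.ofHom (LinearMap.ker f.hom).subtype,
   by
    ext x
    exact ((coverπ (ModuleCat.of R (LinearMap.ker f.hom))).hom x).2⟩

theorem projStep_exact {X₀ X₁ : ModuleCat.{u} R} (f : X₁ ⟶ X₀) :
    Function.Exact (projStep f).2.1.hom f.hom := by
  intro y
  constructor
  · intro hy
    obtain ⟨x, hx⟩ := (cover_spec (ModuleCat.of R (LinearMap.ker f.hom))).2.1 ⟨y, hy⟩
    refine ⟨x, ?_⟩
    show ((coverπ (ModuleCat.of R (LinearMap.ker f.hom))).hom x).1 = y
    rw [hx]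
  · rintro ⟨x, rfl⟩
    exact ((coverπ (ModuleCat.of R (LinearMap.ker f.hom))).hom x).2

theorem projStep_ui {X₀ X₁ : ModuleCat.{u} R} (f : X₁ ⟶ X₀) :
    CAlgX.UniversallyInjective R (LinearMap.ker (projStep f).2.1.hom).subtype := by
  have : LinearMap.ker (projStep f).2.1.hom =
      LinearMap.ker (coverπ (ModuleCat.of R (LinearMap.ker f.hom))).hom := by
    show LinearMap.ker ((LinearMap.ker f.hom).subtype ∘ₗ
      (coverπ (ModuleCat.of R (LinearMap.ker f.hom))).hom) = _
    exact LinearMap.ker_comp_of_ker_eq_bot _ (Submodule.ker_subtype _)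
  rw [this]
  exact (cover_spec _).2.2

theorem projStep_isDFP {X₀ X₁ : ModuleCat.{u} R} (f : X₁ ⟶ X₀) :
    IsDFP R (projStep f).1 :=
  (cover_spec _).1

/-- S8774 -/
theorem exists_pureProjective_resolution (M : ModuleCat.{u} R) :
    ∃ (P : ChainComplex (ModuleCat.{u} R) ℕ)
      (π : P ⟶ (ChainComplex.single₀ (ModuleCat.{u} R)).obj M),
      (∀ n : ℕ, IsDFP R (P.X n)) ∧
      ∀ N : ModuleCat.{u} R,
        QuasiIso (((tensorRight N).mapHomologicalComplex (ComplexShape.down ℕ)).map π) := by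
  let π₀ : cover M ⟶ M := coverπ M
  let P : ChainComplex (ModuleCat.{u} R) ℕ :=
    ChainComplex.mk' _ (projStep π₀).1 (projStep π₀).2.1 (fun f => projStep f)
  have hd10 : P.d 1 0 = (projStep π₀).2.1 := ChainComplex.mk'_d_1_0 _ _ _ _
  let π : P ⟶ (ChainComplex.single₀ (ModuleCat.{u} R)).obj M :=
    (ChainComplex.toSingle₀Equiv _ _).symm ⟨π₀, by rw [hd10]; exact (projStep π₀).2.2⟩
  have hπ0 : π.f 0 = π₀ := by simp [π]
  have hPr := chain_mk'_ind _ (projStep π₀).1 (projStep π₀).2.1 (fun f => projStep f)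
    (fun {A B C} (d : A ⟶ B) (f : B ⟶ C) => Function.Exact d.hom f.hom ∧
      CAlgX.UniversallyInjective R (LinearMap.ker d.hom).subtype)
    (fun f => ⟨projStep_exact f, projStep_ui f⟩)
  have hex0 : Function.Exact (P.d 1 0).hom π₀.hom := by
    rw [hd10]
    exact projStep_exact π₀
  have hui0 : CAlgX.UniversallyInjective R (LinearMap.ker (P.d 1 0).hom).subtype := by
    rw [hd10]
    exact projStep_ui π₀
  have hui : ∀ n, CAlgX.UniversallyInjective R (LinearMap.range (P.d (n+1) n).hom).subtype := by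
    intro n
    cases n with
    | zero => exact ui_range_of_exact hex0 (cover_spec M).2.2
    | succ n =>
      cases n with
      | zero => exact ui_range_of_exact (hPr 0).1 hui0
      | succ n => exact ui_range_of_exact (hPr (n+1)).1 (hPr n).2
  refine ⟨P, π, ?_, fun T => ⟨fun n => ?_⟩⟩
  · exact chain_mk'_X_ind _ (projStep π₀).1 (projStep π₀).2.1 (fun f => projStep f)
      (fun X => IsDFP R X) (cover_spec M).1 (projStep_isDFP _) (fun f => projStep_isDFP f)
  · cases n with
    | zero =>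
      rw [chain_quasiIsoAt_zero_iff, hπ0]
      exact ⟨rTensor_exact_of_exact_of_universallyInjective hex0
        (ui_range_subtype_of_surjective _ (cover_spec M).2.1) T,
        LinearMap.rTensor_surjective T (cover_spec M).2.1⟩
    | succ n =>
      rw [chain_quasiIsoAt_succ_iff]
      exact rTensor_exact_of_exact_of_universallyInjective (hPr n).1 (hui n) T

end projres

end Groth.Agent.H4.PureCx
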