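import Mathlib
import Groth.Agent.H4.PureRes


namespace Groth.Agent.H4.Pure

open TensorProduct

universe u

variable {R : Type u} [CommRing R]

/-- KL' under the weaker hypothesis of injectivity after finitely presented tensoring. -/
theorem exists_of_fp_injective {n a : Type} [Fintype n] [DecidableEq n] [Fintype a] [DecidableEq a]
    {X Y : Type u} [AddCommGroup X] [Module R X]
    [AddCommGroup Y] [Module R Y] (ι : X →ₗ[R] Y)
    (hι : ∀ (Q : Type u) [AddCommGroup Q] [Module R Q], Module.FinitePresentation R Q →
        Function.Injective (ι.rTensor Q))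
    (A : n → a → R) (x' : a → X) (y : n → Y) (h : ∀ j, ι (x' j) = ∑ i, A i j • y i) :
    ∃ x : n → X, ∀ j, x' j = ∑ i, A i j • x i := by
  apply exists_of_tmul_mkQ_eq_zero A x'
  have hfp : Module.FinitePresentation R
      ((a → R) ⧸ LinearMap.range (Fintype.linearCombination R A)) :=
    Module.finitePresentation_of_surjective (Submodule.mkQ _) (Submodule.mkQ_surjective _)
      (by
        rw [Submodule.ker_mkQ, LinearMap.range_eq_map]
        exact Submodule.FG.map _ Module.Finite.fg_top)
  apply hι ((a → R) ⧸ LinearMap.range (Fintype.linearCombination R A)) hfp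
  rw [map_zero, ← LinearMap.comp_apply, LinearMap.rTensor_comp_lTensor,
    ← LinearMap.lTensor_comp_rTensor, LinearMap.comp_apply]
  have h1 : ι.rTensor (a → R) ((piScalarRight R R X a).symm x') =
      (Fintype.linearCombination R A).lTensor Y ((piScalarRight R R Y n).symm y) := by
    apply (piScalarRight R R Y a).injective
    rw [psr_rTensor, psr_lTensor]
    ext j
    simp [h]
  rw [h1, ← LinearMap.comp_apply, ← LinearMap.lTensor_comp]
  have h2 : (LinearMap.range (Fintype.linearCombination R A)).mkQ ∘ₗ
      Fintype.linearCombination R A = 0 := LinearMap.range_mkQ_comp _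
  rw [h2, LinearMap.lTensor_zero, LinearMap.zero_apply]

/-- finite linear systems solvable in `P` with right hand side in `K` are solvable in `K` -/
def SolvableIn {P : Type u} [AddCommGroup P] [Module R P] (K : Submodule R P) : Prop :=
  ∀ (L c : ℕ) (a : Fin L → Fin c → R) (p : Fin L → P), (∀ q, ∑ l, a l q • p l ∈ K) →
    ∃ k : Fin L → K, ∀ q, ∑ l, a l q • (k l : P) = ∑ l, a l q • p l

theorem universallyInjective_subtype_of_solvableIn {P : Type u} [AddCommGroup P] [Module R P]
    (K : Submodule R P) (hK : SolvableIn K) :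
    CAlgX.UniversallyInjective R K.subtype := by
  classical
  intro Q _ _
  rw [injective_iff_map_eq_zero]
  intro t ht
  let πQ : (Q →₀ R) →ₗ[R] Q := Finsupp.linearCombination R id
  have hπQ : Function.Surjective πQ := Finsupp.linearCombination_id_surjective R Q
  obtain ⟨t', rfl⟩ := LinearMap.lTensor_surjective K hπQ t
  have hu : (πQ.lTensor P) (K.subtype.rTensor (Q →₀ R) t') = 0 := by
    rw [← LinearMap.comp_apply, LinearMap.lTensor_comp_rTensor, ← LinearMap.rTensor_comp_lTensor]
    exact ht
  have hexP := @lTensor_exact R (LinearMap.ker πQ) (Q →₀ R) Q _ _ _ _ _ _ _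
    (LinearMap.ker πQ).subtype πQ P _ _ (LinearMap.exact_subtype_ker_map πQ) hπQ
  obtain ⟨w, hw⟩ := (hexP _).mp hu
  obtain ⟨L, p, s, rfl⟩ := exists_sum_tmul_eq w
  have hcoord : ∀ q : Q, ∑ l, (s l : Q →₀ R) q • p l =
      ((finsuppScalarRight R R K Q t' q : K) : P) := by
    intro q
    have := fsr_rTensor K.subtype t' q
    rw [← hw] at this
    rw [Submodule.subtype_apply] at this
    rw [← this]
    simp [finsuppScalarRight_apply_tmul_apply]
  let supp : Finset Q := Finset.univ.biUnion fun l => (s l : Q →₀ R).support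
  let e := supp.equivFin
  obtain ⟨k, hk⟩ := hK L supp.card (fun l q => (s l : Q →₀ R) (e.symm q).1) p
    (fun q => by rw [hcoord]; exact Submodule.coe_mem _)
  have hk' : ∀ q : Q, ∑ l, (s l : Q →₀ R) q • (k l : P) = ∑ l, (s l : Q →₀ R) q • p l := by
    intro q
    by_cases hq : q ∈ supp
    · have := hk (e ⟨q, hq⟩)
      simpa using this
    · have : ∀ l, (s l : Q →₀ R) q = 0 := by
        intro l
        by_contra h
        exact hq (Finset.mem_biUnion.mpr ⟨l, Finset.mem_univ _, Finsupp.mem_support_iff.mpr h⟩)
      simp [this]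
  have ht' : t' = (LinearMap.ker πQ).subtype.lTensor K (∑ l, k l ⊗ₜ s l) := by
    apply (finsuppScalarRight R R K Q).injective
    ext q
    rw [← hcoord q, ← hk' q]
    simp [finsuppScalarRight_apply_tmul_apply]
  rw [ht', ← LinearMap.comp_apply, ← LinearMap.lTensor_comp]
  have : πQ ∘ₗ (LinearMap.ker πQ).subtype = 0 := by
    ext x
    exact x.2
  rw [this, LinearMap.lTensor_zero, LinearMap.zero_apply]

theorem ui_comp {A B C : Type u} [AddCommGroup A] [Module R A] [AddCommGroup B] [Module R B]
    [AddCommGroup C] [Module R C] (g : B →ₗ[R] C) (f : A →ₗ[R] B)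
    (hg : CAlgX.UniversallyInjective R g) (hf : CAlgX.UniversallyInjective R f) :
    CAlgX.UniversallyInjective R (g ∘ₗ f) := by
  intro Q _ _
  rw [LinearMap.rTensor_comp]
  exact (hg Q).comp (hf Q)

/-- equational criterion ⇒ universally injective -/
theorem universallyInjective_of_equational {M₁ M₂ : Type u} [AddCommGroup M₁]
    [Module R M₁] [AddCommGroup M₂] [Module R M₂] (f : M₁ →ₗ[R] M₂) (hf : Function.Injective f)
    (h : ∀ (n m : ℕ) (x : Fin n → M₁) (y : Fin m → M₂) (a : Fin n → Fin m → R),
        (∀ i, f (x i) = ∑ j, a i j • y j) → ∃ z : Fin m → M₁, ∀ i, x i = ∑ j, a i j • z j) :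
    CAlgX.UniversallyInjective R f := by
  have hsolv : SolvableIn (LinearMap.range f) := by
    intro L c a p hp
    choose x hx using hp
    obtain ⟨z, hz⟩ := h c L x p (fun q l => a l q) hx
    refine ⟨fun l => ⟨f (z l), z l, rfl⟩, fun q => ?_⟩
    rw [← hx q, hz q, map_sum]
    simp only [map_smul]
  have h1 := universallyInjective_subtype_of_solvableIn _ hsolv
  have h2 : CAlgX.UniversallyInjective R f.rangeRestrict := by
    apply Groth.Agent.H4.PureCx.ui_of_bijective
    refine ⟨fun x y hxy => hf ?_, f.surjective_rangeRestrict⟩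
    exact congrArg Subtype.val hxy
  have h3 : f = (LinearMap.range f).subtype ∘ₗ f.rangeRestrict := by
    ext x
    rfl
  rw [h3]
  exact ui_comp (LinearMap.range f).subtype f.rangeRestrict h1 h2

/-- S2057 -/
theorem universallyInjective_iff_equational {M₁ M₂ : Type u} [AddCommGroup M₁]
    [Module R M₁] [AddCommGroup M₂] [Module R M₂] (f : M₁ →ₗ[R] M₂) (hf : Function.Injective f) :
    CAlgX.UniversallyInjective R f ↔
      ∀ (n m : ℕ) (x : Fin n → M₁) (y : Fin m → M₂) (a : Fin n → Fin m → R),
        (∀ i, f (x i) = ∑ j, a i j • y j) → ∃ z : Fin m → M₁, ∀ i, x i = ∑ j, a i j • z j := by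
  constructor
  · intro h n m x y a hxy
    exact exists_of_universallyInjective f h (fun j i => a i j) x y hxy
  · exact universallyInjective_of_equational f hf

/-- S2056 -/
theorem universallyInjective_iff_fp {M N : Type u} [AddCommGroup M]
    [Module R M] [AddCommGroup N] [Module R N] (f : M →ₗ[R] N) :
    CAlgX.UniversallyInjective R f ↔
      ∀ (Q : Type u) [AddCommGroup Q] [Module R Q], Module.FinitePresentation R Q →
        Function.Injective (f.rTensor Q) := by
  constructor
  · intro h Q _ _ _
    exact h Q
  · intro h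
    have hf : Function.Injective f :=
      Groth.Agent.H4.PureCx.injective_of_rTensor_injective (h R inferInstance)
    apply universallyInjective_of_equational f hf
    intro n m x y a hxy
    exact exists_of_fp_injective f h (fun j i => a i j) x y hxy

end Groth.Agent.H4.Pure
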