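import Mathlib
import Groth.Prelude.Def_AlgSt5
import Groth.Prelude.Def_ChGrp
import Groth.Agent.H4.BpA

set_option autoImplicit false

open CategoryTheory CategoryTheory.Limits MonoidalCategory CartesianMonoidalCategory MonObj GrpObj AlgebraicGeometry

universe u

namespace Groth.Agent.H4.QsA

open Groth.Agent.H4

variable {S : Scheme.{u}} {G : Over S} [GrpObj G]

theorem lift_leftMul_act {T W : Over S} (g h : W ⟶ G) (t : W ⟶ T) :
    lift g (lift h t) ≫ (AlgSt.leftMul G T).act = lift (g * h) t := by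
  have e : (AlgSt.leftMul G T).act
      = lift (fst G (G ⊗ T) * (snd G (G ⊗ T) ≫ fst G T)) (snd G (G ⊗ T) ≫ snd G T) := rfl
  rw [e, comp_lift, comp_mul, lift_fst, lift_snd_assoc, lift_fst, lift_snd_assoc, lift_snd]

theorem lift_rmul {T T' W : Over S} (g : T ⟶ G) (f : T ⟶ T') (a : W ⟶ G) (t : W ⟶ T) :
    lift a t ≫ lift (fst G T * (snd G T ≫ g)) (snd G T ≫ f) = lift (a * (t ≫ g)) (t ≫ f) := by
  rw [comp_lift, comp_mul, lift_fst, lift_snd_assoc, lift_snd_assoc]

/-- every object of `[X/G]` is locally trivial: the morphism from a trivial object given by a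
section -/
theorem main39 {K : Precoverage Scheme.{u}} [K.HasIsos] {X : Over S} {aX : AlgGrp.Action G X}
    (A : AlgSt.QuotObj K G aX) {T' : Scheme.{u}} (f : T' ⟶ A.base.left) (s : T' ⟶ A.P.left)
    (hs : s ≫ A.π.left = f) :
    ∃ (x : Over.mk (f ≫ A.base.hom) ⟶ X)
      (h : (AlgSt.quotMap K G aX).obj ((AlgSt.ofOverCat X).obj (Over.mk x)) ⟶ A),
      h.base = Over.homMk f rfl := by
  have hσ0 : s ≫ A.P.hom = f ≫ A.base.hom := by
    rw [← Over.w A.π, ← Category.assoc, hs]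
  obtain ⟨σ, hσdef⟩ : ∃ σ : Over.mk (f ≫ A.base.hom) ⟶ A.P, σ.left = s :=
    ⟨Over.homMk s hσ0, rfl⟩
  have hσπ : σ ≫ A.π = (Over.homMk f rfl : Over.mk (f ≫ A.base.hom) ⟶ A.base) := by
    ext
    show σ.left ≫ A.π.left = f
    rw [hσdef, hs]
  have heqv : (AlgSt.leftMul G (Over.mk (f ≫ A.base.hom))).act ≫ ((G ◁ σ) ≫ A.act.act)
      = (G ◁ ((G ◁ σ) ≫ A.act.act)) ≫ A.act.act := by
    apply AlgGrp.Action.hom_ext_lift₂
    intro W g p
    obtain ⟨h, t, rfl⟩ := BpA.exists_lift_eq p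
    calc lift g (lift h t) ≫ (AlgSt.leftMul G (Over.mk (f ≫ A.base.hom))).act ≫
          ((G ◁ σ) ≫ A.act.act)
        = (lift g (lift h t) ≫ (AlgSt.leftMul G (Over.mk (f ≫ A.base.hom))).act) ≫
            (G ◁ σ) ≫ A.act.act := (Category.assoc _ _ _).symm
      _ = lift (g * h) t ≫ (G ◁ σ) ≫ A.act.act := by rw [lift_leftMul_act]
      _ = lift (g * h) (t ≫ σ) ≫ A.act.act := by rw [lift_whiskerLeft_assoc]
      _ = lift g (lift h (t ≫ σ) ≫ A.act.act) ≫ A.act.act :=
          AlgGrp.Action.lift_mul_act A.act _ _ _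
      _ = lift g (lift h t ≫ (G ◁ σ) ≫ A.act.act) ≫ A.act.act := by
          rw [lift_whiskerLeft_assoc]
      _ = lift g (lift h t) ≫ (G ◁ ((G ◁ σ) ≫ A.act.act)) ≫ A.act.act :=
          (lift_whiskerLeft_assoc _ _ _ _).symm
  have hcart : IsPullback ((G ◁ σ) ≫ A.act.act) (snd G (Over.mk (f ≫ A.base.hom))) A.π
      (Over.homMk f rfl) := by
    have h1 := (AlgSt.isPullback_whiskerLeft (G := G) σ).paste_horiz A.cart
    rwa [hσπ] at h1
  have hwφ : ((G ◁ σ) ≫ A.act.act) ≫ A.φ = (G ◁ (σ ≫ A.φ)) ≫ aX.act := by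
    rw [Category.assoc, A.eqv, MonoidalCategory.whiskerLeft_comp, Category.assoc]
  exact ⟨σ ≫ A.φ, ⟨Over.homMk f rfl, (G ◁ σ) ≫ A.act.act, heqv, hcart, hwφ⟩, rfl⟩

/-- morphisms between trivial objects of `[X/G]` are right multiplications -/
theorem main38 (K : Precoverage Scheme.{u}) [K.HasIsos] {X : Over S} (aX : AlgGrp.Action G X)
    (T T' : Over S) (f : T ⟶ T') (x : T ⟶ X) (x' : T' ⟶ X) :
    (∀ h : (AlgSt.quotMap K G aX).obj ((AlgSt.ofOverCat X).obj (Over.mk x)) ⟶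
          (AlgSt.quotMap K G aX).obj ((AlgSt.ofOverCat X).obj (Over.mk x')),
        h.base = f → ∃ g : T ⟶ G, lift g (f ≫ x') ≫ aX.act = x ∧
          h.top = lift (fst G T * (snd G T ≫ g)) (snd G T ≫ f)) ∧
    (∀ g : T ⟶ G, lift g (f ≫ x') ≫ aX.act = x →
        ∃ h : (AlgSt.quotMap K G aX).obj ((AlgSt.ofOverCat X).obj (Over.mk x)) ⟶
            (AlgSt.quotMap K G aX).obj ((AlgSt.ofOverCat X).obj (Over.mk x')),
          h.base = f ∧ h.top = lift (fst G T * (snd G T ≫ g)) (snd G T ≫ f)) := by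
  refine ⟨fun h hb => ?_, fun g hg => ?_⟩
  · obtain ⟨top, htop⟩ : ∃ top : G ⊗ T ⟶ G ⊗ T', top = h.top := ⟨h.top, rfl⟩
    have heqv : (AlgSt.leftMul G T).act ≫ top = (G ◁ top) ≫ (AlgSt.leftMul G T').act := by
      rw [htop]
      exact h.eqv
    have hsnd : top ≫ snd G T' = snd G T ≫ f := by
      have h1 := h.cart.w
      rw [hb] at h1
      rw [htop]
      exact h1
    have hwφ : top ≫ (G ◁ x') ≫ aX.act = (G ◁ x) ≫ aX.act := by
      rw [htop]
      exact h.wφ
    obtain ⟨v, hv⟩ : ∃ v : T ⟶ G ⊗ T', v = lift (1 : T ⟶ G) (𝟙 T) ≫ top := ⟨_, rfl⟩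
    have hv_snd : v ≫ snd G T' = f := by
      rw [hv, Category.assoc, hsnd, lift_snd_assoc, Category.id_comp]
    have hv_eq : v = lift (v ≫ fst G T') f := by
      apply CartesianMonoidalCategory.hom_ext
      · rw [lift_fst]
      · rw [lift_snd, hv_snd]
    refine ⟨v ≫ fst G T', ?_, ?_⟩
    · calc lift (v ≫ fst G T') (f ≫ x') ≫ aX.act
          = lift (v ≫ fst G T') f ≫ (G ◁ x') ≫ aX.act := by rw [lift_whiskerLeft_assoc]
        _ = v ≫ (G ◁ x') ≫ aX.act := by rw [← hv_eq]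
        _ = lift (1 : T ⟶ G) (𝟙 T) ≫ top ≫ (G ◁ x') ≫ aX.act := by rw [hv, Category.assoc]
        _ = lift (1 : T ⟶ G) (𝟙 T) ≫ (G ◁ x) ≫ aX.act := by rw [hwφ]
        _ = x := by rw [lift_whiskerLeft_assoc, Category.id_comp, AlgGrp.Action.lift_one_act]
    · rw [← htop]
      apply AlgGrp.Action.hom_ext_lift₂
      intro W a t
      rw [lift_rmul]
      have e1 : lift a t = lift a (lift (1 : W ⟶ G) t) ≫ (AlgSt.leftMul G T).act := by
        rw [lift_leftMul_act, _root_.mul_one]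
      have e2 : lift (1 : W ⟶ G) t = t ≫ lift (1 : T ⟶ G) (𝟙 T) := by
        rw [comp_lift, Category.comp_id, MonObj.comp_one]
      have e3 : t ≫ v = lift (t ≫ v ≫ fst G T') (t ≫ f) := by
        apply CartesianMonoidalCategory.hom_ext
        · rw [lift_fst, Category.assoc]
        · rw [lift_snd, Category.assoc, hv_snd]
      calc lift a t ≫ top
          = (lift a (lift (1 : W ⟶ G) t) ≫ (AlgSt.leftMul G T).act) ≫ top := by rw [← e1]
        _ = lift a (lift (1 : W ⟶ G) t) ≫ ((AlgSt.leftMul G T).act ≫ top) :=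
            Category.assoc _ _ _
        _ = lift a (lift (1 : W ⟶ G) t) ≫ (G ◁ top) ≫ (AlgSt.leftMul G T').act := by
            rw [heqv]
        _ = lift a (lift (1 : W ⟶ G) t ≫ top) ≫ (AlgSt.leftMul G T').act := by
            rw [lift_whiskerLeft_assoc]
        _ = lift a (t ≫ v) ≫ (AlgSt.leftMul G T').act := by rw [e2, Category.assoc, ← hv]
        _ = lift a (lift (t ≫ v ≫ fst G T') (t ≫ f)) ≫ (AlgSt.leftMul G T').act := by rw [e3]
        _ = lift (a * (t ≫ v ≫ fst G T')) (t ≫ f) := lift_leftMul_act _ _ _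
  · have heqv : (AlgSt.leftMul G T).act ≫ lift (fst G T * (snd G T ≫ g)) (snd G T ≫ f)
        = (G ◁ lift (fst G T * (snd G T ≫ g)) (snd G T ≫ f)) ≫ (AlgSt.leftMul G T').act := by
      apply AlgGrp.Action.hom_ext_lift₂
      intro W a p
      obtain ⟨b, t, rfl⟩ := BpA.exists_lift_eq p
      calc lift a (lift b t) ≫ (AlgSt.leftMul G T).act ≫
            lift (fst G T * (snd G T ≫ g)) (snd G T ≫ f)
          = (lift a (lift b t) ≫ (AlgSt.leftMul G T).act) ≫
              lift (fst G T * (snd G T ≫ g)) (snd G T ≫ f) := (Category.assoc _ _ _).symm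
        _ = lift ((a * b) * (t ≫ g)) (t ≫ f) := by rw [lift_leftMul_act, lift_rmul]
        _ = lift (a * (b * (t ≫ g))) (t ≫ f) := by rw [_root_.mul_assoc]
        _ = lift a (lift (b * (t ≫ g)) (t ≫ f)) ≫ (AlgSt.leftMul G T').act :=
            (lift_leftMul_act _ _ _).symm
        _ = lift a (lift b t ≫ lift (fst G T * (snd G T ≫ g)) (snd G T ≫ f)) ≫
              (AlgSt.leftMul G T').act := by rw [lift_rmul]
        _ = lift a (lift b t) ≫ (G ◁ lift (fst G T * (snd G T ≫ g)) (snd G T ≫ f)) ≫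
              (AlgSt.leftMul G T').act := (lift_whiskerLeft_assoc _ _ _ _).symm
    have hcart : IsPullback (lift (fst G T * (snd G T ≫ g)) (snd G T ≫ f)) (snd G T)
        (snd G T') f := by
      refine ⟨⟨lift_snd _ _⟩, ⟨PullbackCone.IsLimit.mk _
        (fun s => lift ((s.fst ≫ fst G T') * (s.snd ≫ g)⁻¹) s.snd) ?_ ?_ ?_⟩⟩
      · intro s
        rw [lift_rmul, _root_.inv_mul_cancel_right]
        apply CartesianMonoidalCategory.hom_ext
        · rw [lift_fst]
        · rw [lift_snd, s.condition]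
      · intro s
        exact lift_snd _ _
      · intro s m h1 h2
        obtain ⟨a, t, rfl⟩ := BpA.exists_lift_eq m
        rw [lift_snd] at h2
        rw [lift_rmul] at h1
        have h3 : a * (t ≫ g) = s.fst ≫ fst G T' := by rw [← h1, lift_fst]
        subst h2
        rw [← h3, _root_.mul_inv_cancel_right]
    have hwφ : lift (fst G T * (snd G T ≫ g)) (snd G T ≫ f) ≫ (G ◁ x') ≫ aX.act
        = (G ◁ x) ≫ aX.act := by
      apply AlgGrp.Action.hom_ext_lift₂
      intro W a t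
      calc lift a t ≫ lift (fst G T * (snd G T ≫ g)) (snd G T ≫ f) ≫ (G ◁ x') ≫ aX.act
          = (lift a t ≫ lift (fst G T * (snd G T ≫ g)) (snd G T ≫ f)) ≫ (G ◁ x') ≫ aX.act :=
            (Category.assoc _ _ _).symm
        _ = lift (a * (t ≫ g)) ((t ≫ f) ≫ x') ≫ aX.act := by
            rw [lift_rmul, lift_whiskerLeft_assoc]
        _ = lift a (lift (t ≫ g) ((t ≫ f) ≫ x') ≫ aX.act) ≫ aX.act :=
            AlgGrp.Action.lift_mul_act aX _ _ _
        _ = lift a (t ≫ lift g (f ≫ x') ≫ aX.act) ≫ aX.act := by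
            rw [comp_lift_assoc, Category.assoc]
        _ = lift a (t ≫ x) ≫ aX.act := by rw [hg]
        _ = lift a t ≫ (G ◁ x) ≫ aX.act := by rw [lift_whiskerLeft_assoc]
    exact ⟨⟨f, lift (fst G T * (snd G T ≫ g)) (snd G T ≫ f), heqv, hcart, hwφ⟩, rfl, rfl⟩

end Groth.Agent.H4.QsA
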