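import Mathlib
import Groth.Prelude.Def_AlgSt5
import Groth.Prelude.Def_StCoarse
import Groth.Agent.H4.QsA
import Groth.Agent.Lib.Helper3.AlgSt.PshBridge

set_option autoImplicit false

open CategoryTheory CategoryTheory.Limits MonoidalCategory CartesianMonoidalCategory MonObj GrpObj
  AlgebraicGeometry Opposite

universe u

namespace Groth.Agent.H4.QstA

open Groth.Agent.H4 Groth.Agent.H3.PshBridge Groth.Agent.H3.StackPsh Groth.Agent.H3.FibCatAux
  Groth.Agent.H3.FpCalc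

section General

universe w₁ v₁ u₁ v₂ u₂

variable {C : Type u₁} [Category.{v₁} C] {P Q : Cᵒᵖ ⥤ Type w₁} {𝒳 : BasedCategory.{v₂, u₂} C}

lemma map_map (Q : Cᵒᵖ ⥤ Type w₁) {A B D : C} (f : A ⟶ B) (g : B ⟶ D) (x : Q.obj (op D)) :
    Q.map f.op (Q.map g.op x) = Q.map (f ≫ g).op x := by
  rw [op_comp, Functor.map_comp_apply]

/-- the section attached to an object by a functor to a category of elements -/
def sec (e : 𝒳 ⥤ᵇ Stk.ofPsh Q) (a : 𝒳.obj) : Q.obj (op (𝒳.p.obj a)) :=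
  secAt (e.obj a) (e.w_obj a)

lemma sec_map (e : 𝒳 ⥤ᵇ Stk.ofPsh Q) {a b : 𝒳.obj} (f : a ⟶ b) :
    Q.map (𝒳.p.map f).op (sec e b) = sec e a := by
  haveI h1 : 𝒳.p.IsHomLift (𝒳.p.map f) f := IsHomLift.map 𝒳.p f
  haveI h2 : (Stk.EltObj.forget Q).IsHomLift (𝒳.p.map f) (e.map f) :=
    BasedFunctor.preserves_isHomLift e (𝒳.p.map f) f
  exact secAt_map_of_hom (e.map f) (𝒳.p.map f)

lemma sec_ofPshMap (φ : P ⟶ Q) (a : Stk.EltObj P) :
    sec (Stk.ofPshMap φ) a = φ.app (op a.base) a.sec := secAt_rfl _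

lemma secAt_ofPshMap (φ : P ⟶ Q) (a : Stk.EltObj P) {T : C} (h : a.base = T) :
    secAt ((Stk.ofPshMap φ).obj a) h = φ.app (op T) (secAt a h) := by
  subst h
  exact (secAt_rfl ((Stk.ofPshMap φ).obj a)).trans
    (congrArg (φ.app (op a.base)) (secAt_rfl a).symm)

lemma sec_comp_ofPshMap (e : 𝒳 ⥤ᵇ Stk.ofPsh P) (φ : P ⟶ Q) (a : 𝒳.obj) :
    sec (BasedFunctor.comp e (Stk.ofPshMap φ)) a = φ.app (op (𝒳.p.obj a)) (sec e a) :=
  secAt_ofPshMap φ (e.obj a) (e.w_obj a)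

lemma sec_eq_of_iso {e e' : 𝒳 ⥤ᵇ Stk.ofPsh Q} (α : e ≅ e') (a : 𝒳.obj) : sec e a = sec e' a :=
  secAt_eq_of_hom (T := 𝒳.p.obj a) (h := appIso_hom_isHomLift α a rfl) (appIso α a).hom

lemma sec_eq_of_hom_over_id (e : 𝒳 ⥤ᵇ Stk.ofPsh Q) {a b : 𝒳.obj} (f : a ⟶ b) {T : C}
    (ha : 𝒳.p.obj a = T) (hb : 𝒳.p.obj b = T) (hf : 𝒳.p.map f = eqToHom ha ≫ eqToHom hb.symm) :
    secAt (e.obj a) ((e.w_obj a).trans ha) = secAt (e.obj b) ((e.w_obj b).trans hb) := by
  haveI h1 : 𝒳.p.IsHomLift (𝟙 T) f := IsHomLift.of_fac 𝒳.p (𝟙 T) f ha hb (by rw [hf]; simp)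
  haveI h2 : (Stk.EltObj.forget Q).IsHomLift (𝟙 T) (e.map f) :=
    BasedFunctor.preserves_isHomLift e (𝟙 T) f
  exact secAt_eq_of_hom (T := T) (e.map f)

lemma eqToHom_conj {D : Type*} [Category D] {x y z w x' y' : D} (k : z ⟶ w) (p1 : x = z)
    (p2 : w = y) (q0 : x = x') (q1 : x' = z) (q2 : w = y') (q3 : y' = y) :
    eqToHom p1 ≫ k ≫ eqToHom p2 = eqToHom q0 ≫ (eqToHom q1 ≫ k ≫ eqToHom q2) ≫ eqToHom q3 := by
  subst q0
  subst q1
  subst q2
  subst q3
  simp

lemma eqToHom_hom' {a b : Stk.EltObj Q} (h : a = b) :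
    (eqToHom h).hom = eqToHom (congrArg Stk.EltObj.base h) := by
  subst h; rfl

lemma elt_ext' {a b : Stk.EltObj Q} {T : C} (ha : a.base = T) (hb : b.base = T)
    (hs : secAt a ha = secAt b hb) : a = b := by
  obtain ⟨Ta, x⟩ := a
  obtain ⟨Tb, y⟩ := b
  dsimp only at ha hb
  subst ha
  subst hb
  simp only [secAt_rfl] at hs
  subst hs
  rfl

theorem functor_ext_of_obj {e e' : 𝒳 ⥤ᵇ Stk.ofPsh Q} (h : ∀ a : 𝒳.obj, e.obj a = e'.obj a) :
    e = e' := by
  apply basedFunctor_ext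
  refine CategoryTheory.Functor.ext h (fun a b f => ?_)
  apply Stk.EltObj.hom_ext
  haveI h1 : 𝒳.p.IsHomLift (𝒳.p.map f) f := IsHomLift.map 𝒳.p f
  have h2 : (Stk.EltObj.forget Q).IsHomLift (𝒳.p.map f) (e.map f) :=
    BasedFunctor.preserves_isHomLift e (𝒳.p.map f) f
  have h3 : (Stk.EltObj.forget Q).IsHomLift (𝒳.p.map f) (e'.map f) :=
    BasedFunctor.preserves_isHomLift e' (𝒳.p.map f) f
  have e1 := elt_hom_eq Q (𝒳.p.map f) (e.map f) (h := h2)
  have e2 := elt_hom_eq Q (𝒳.p.map f) (e'.map f) (h := h3)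
  simp only [Stk.EltObj.comp_hom, eqToHom_hom', e1, e2]
  exact eqToHom_conj (𝒳.p.map f) _ _ _ _ _ _

theorem functor_ext_of_sec {e e' : 𝒳 ⥤ᵇ Stk.ofPsh Q} (h : ∀ a : 𝒳.obj, sec e a = sec e' a) :
    e = e' :=
  functor_ext_of_obj (fun a => elt_ext' (e.w_obj a) (e'.w_obj a) (h a))

end General

section Quot

variable {S : Scheme.{u}} {G : Over S} [GrpObj G] {X : Over S} {aX : AlgGrp.Action G X}
  {K : Precoverage Scheme.{u}}

/-- a point of `h_X` as an object of `ofSch X` -/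
abbrev pt {T : Over S} (x : T ⟶ X) : (AlgSt.ofSch X).obj :=
  Stk.EltObj.mk (P := ((AlgSp.yon S).obj X).obj) T (ULift.up x)

theorem generate_singleton_mem (A : AlgSt.QuotObj K G aX) :
    Sieve.generate (Presieve.singleton A.π) ∈ QuotSh.J K S A.base := by
  obtain ⟨R, hR, hsec⟩ := A.loc
  rw [GrothendieckTopology.mem_over_iff]
  refine GrothendieckTopology.superset_covering _ ?_ (Precoverage.generate_mem_toGrothendieck hR)
  intro Z g hg
  obtain ⟨W, a, b, hb, rfl⟩ := hg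
  obtain ⟨s, hs⟩ := hsec b hb
  have hs' : s ≫ A.π.left = b := hs
  rw [Sieve.overEquiv_iff]
  have hw : (a ≫ s) ≫ A.P.hom = (a ≫ b) ≫ A.base.hom := by
    rw [← Over.w A.π, Category.assoc, Category.assoc, ← Category.assoc s, hs']
  refine ⟨A.P, Over.homMk (a ≫ s) hw, A.π, Presieve.singleton.mk, ?_⟩
  ext
  simp [hs']

theorem isSheafFor_singleton_π (A : AlgSt.QuotObj K G aX) (M : QuotSh.Sh K S) :
    Presieve.IsSheafFor M.obj (Presieve.singleton A.π) := by
  rw [Presieve.isSheafFor_iff_generate]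
  exact (isSheaf_iff_isSheaf_of_type _ _).1 M.property _ (generate_singleton_mem A)

theorem injective_map_π (A : AlgSt.QuotObj K G aX) (M : QuotSh.Sh K S) :
    Function.Injective (M.obj.map A.π.op) :=
  Presieve.isSeparatedFor_singleton.1 (isSheafFor_singleton_π A M).isSeparatedFor

theorem existsUnique_descend (A : AlgSt.QuotObj K G aX) (M : QuotSh.Sh K S)
    (x : M.obj.obj (op A.P))
    (hx : M.obj.map A.act.act.op x = M.obj.map (snd G A.P).op x) :
    ∃! y : M.obj.obj (op A.base), M.obj.map A.π.op y = x := by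
  refine Presieve.isSheafFor_singleton.1 (isSheafFor_singleton_π A M) x ?_
  intro Z p₁ p₂ h
  have h1 : A.cart.lift p₁ p₂ h ≫ A.act.act = p₁ := A.cart.lift_fst _ _ _
  have h2 : A.cart.lift p₁ p₂ h ≫ snd G A.P = p₂ := A.cart.lift_snd _ _ _
  calc M.obj.map p₁.op x
      = M.obj.map (A.cart.lift p₁ p₂ h).op (M.obj.map A.act.act.op x) := by
        rw [map_map, h1]
    _ = M.obj.map (A.cart.lift p₁ p₂ h).op (M.obj.map (snd G A.P).op x) := by rw [hx]
    _ = M.obj.map p₂.op x := by rw [map_map, h2]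

/-- the section over the total space of a torsor induced by a section over `X` -/
def mP (M : QuotSh.Sh K S) (m : M.obj.obj (op X)) (A : AlgSt.QuotObj K G aX) :
    M.obj.obj (op A.P) :=
  M.obj.map A.φ.op m

lemma mP_inv (M : QuotSh.Sh K S) (m : M.obj.obj (op X))
    (hm : M.obj.map aX.act.op m = M.obj.map (snd G X).op m) (A : AlgSt.QuotObj K G aX) :
    M.obj.map A.act.act.op (mP M m A) = M.obj.map (snd G A.P).op (mP M m A) := by
  calc M.obj.map A.act.act.op (mP M m A)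
      = M.obj.map (A.act.act ≫ A.φ).op m := map_map _ _ _ _
    _ = M.obj.map ((G ◁ A.φ) ≫ aX.act).op m := by rw [A.eqv]
    _ = M.obj.map (G ◁ A.φ).op (M.obj.map aX.act.op m) := (map_map _ _ _ _).symm
    _ = M.obj.map (G ◁ A.φ).op (M.obj.map (snd G X).op m) := by rw [hm]
    _ = M.obj.map ((G ◁ A.φ) ≫ snd G X).op m := map_map _ _ _ _
    _ = M.obj.map (snd G A.P ≫ A.φ).op m := by rw [whiskerLeft_snd]
    _ = M.obj.map (snd G A.P).op (mP M m A) := (map_map _ _ _ _).symm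

/-- the descended section over the base of a torsor -/
noncomputable def desc (M : QuotSh.Sh K S) (m : M.obj.obj (op X))
    (hm : M.obj.map aX.act.op m = M.obj.map (snd G X).op m) (A : AlgSt.QuotObj K G aX) :
    M.obj.obj (op A.base) :=
  (existsUnique_descend A M (mP M m A) (mP_inv M m hm A)).exists.choose

lemma desc_spec (M : QuotSh.Sh K S) (m : M.obj.obj (op X))
    (hm : M.obj.map aX.act.op m = M.obj.map (snd G X).op m) (A : AlgSt.QuotObj K G aX) :
    M.obj.map A.π.op (desc M m hm A) = mP M m A :=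
  (existsUnique_descend A M (mP M m A) (mP_inv M m hm A)).exists.choose_spec

lemma desc_unique (M : QuotSh.Sh K S) (m : M.obj.obj (op X))
    (hm : M.obj.map aX.act.op m = M.obj.map (snd G X).op m) (A : AlgSt.QuotObj K G aX)
    (y : M.obj.obj (op A.base)) (hy : M.obj.map A.π.op y = mP M m A) : y = desc M m hm A :=
  (existsUnique_descend A M (mP M m A) (mP_inv M m hm A)).unique hy (desc_spec M m hm A)

lemma desc_map (M : QuotSh.Sh K S) (m : M.obj.obj (op X))
    (hm : M.obj.map aX.act.op m = M.obj.map (snd G X).op m) {A B : AlgSt.QuotObj K G aX}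
    (h : A ⟶ B) : M.obj.map h.base.op (desc M m hm B) = desc M m hm A := by
  apply desc_unique
  calc M.obj.map A.π.op (M.obj.map h.base.op (desc M m hm B))
      = M.obj.map (A.π ≫ h.base).op (desc M m hm B) := map_map _ _ _ _
    _ = M.obj.map (h.top ≫ B.π).op (desc M m hm B) := by rw [h.cart.w]
    _ = M.obj.map h.top.op (M.obj.map B.π.op (desc M m hm B)) := (map_map _ _ _ _).symm
    _ = M.obj.map h.top.op (mP M m B) := by rw [desc_spec]
    _ = M.obj.map (h.top ≫ B.φ).op m := map_map _ _ _ _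
    _ = mP M m A := by rw [h.wφ]; rfl

/-- the functor `[X/G] ⟶ M` induced by an invariant section of the sheaf `M` over `X` -/
noncomputable def descFunctor (M : QuotSh.Sh K S) (m : M.obj.obj (op X))
    (hm : M.obj.map aX.act.op m = M.obj.map (snd G X).op m) :
    AlgSt.QuotSt K G aX ⥤ᵇ Stk.ofPsh M.obj where
  toFunctor :=
    { obj := fun A => ⟨A.base, desc M m hm A⟩
      map := fun {A B} h => ⟨h.base, desc_map M m hm h⟩
      map_id := fun A => Stk.EltObj.hom_ext rfl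
      map_comp := fun h k => Stk.EltObj.hom_ext rfl }
  w := rfl

lemma sec_descFunctor (M : QuotSh.Sh K S) (m : M.obj.obj (op X))
    (hm : M.obj.map aX.act.op m = M.obj.map (snd G X).op m) (A : AlgSt.QuotObj K G aX) :
    sec (descFunctor M m hm) A = desc M m hm A := secAt_rfl _

lemma desc_quotMap [K.HasIsos] (M : QuotSh.Sh K S) (m : M.obj.obj (op X))
    (hm : M.obj.map aX.act.op m = M.obj.map (snd G X).op m) (a : (AlgSt.ofSch X).obj) :
    desc M m hm ((AlgSt.quotMap K G aX).obj a) = M.obj.map a.sec.down.op m := by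
  symm
  refine desc_unique M m hm ((AlgSt.quotMap K G aX).obj a) _ ?_
  calc M.obj.map (snd G a.base).op (M.obj.map a.sec.down.op m)
      = M.obj.map (snd G a.base ≫ a.sec.down).op m := map_map _ _ _ _
    _ = M.obj.map ((G ◁ a.sec.down) ≫ snd G X).op m := by rw [whiskerLeft_snd]
    _ = M.obj.map (G ◁ a.sec.down).op (M.obj.map (snd G X).op m) := (map_map _ _ _ _).symm
    _ = M.obj.map (G ◁ a.sec.down).op (M.obj.map aX.act.op m) := by rw [hm]
    _ = M.obj.map ((G ◁ a.sec.down) ≫ aX.act).op m := map_map _ _ _ _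

/-- the morphism from a trivial object determined by a point of the total space -/
theorem trivHom [K.HasIsos] (A : AlgSt.QuotObj K G aX) {T' : Over S} (s : T' ⟶ A.P) (x : T' ⟶ X)
    (hx : s ≫ A.φ = x) :
    ∃ h : (AlgSt.quotMap K G aX).obj (pt x) ⟶ A,
      h.base = s ≫ A.π ∧ h.top = (G ◁ s) ≫ A.act.act := by
  subst hx
  have heqv : (AlgSt.leftMul G T').act ≫ ((G ◁ s) ≫ A.act.act)
      = (G ◁ ((G ◁ s) ≫ A.act.act)) ≫ A.act.act := by
    apply AlgGrp.Action.hom_ext_lift₂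
    intro W g p
    obtain ⟨h, t, rfl⟩ := BpA.exists_lift_eq p
    calc lift g (lift h t) ≫ (AlgSt.leftMul G T').act ≫ ((G ◁ s) ≫ A.act.act)
        = (lift g (lift h t) ≫ (AlgSt.leftMul G T').act) ≫ (G ◁ s) ≫ A.act.act :=
          (Category.assoc _ _ _).symm
      _ = lift (g * h) t ≫ (G ◁ s) ≫ A.act.act := by rw [QsA.lift_leftMul_act]
      _ = lift (g * h) (t ≫ s) ≫ A.act.act := by rw [lift_whiskerLeft_assoc]
      _ = lift g (lift h (t ≫ s) ≫ A.act.act) ≫ A.act.act :=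
          AlgGrp.Action.lift_mul_act A.act _ _ _
      _ = lift g (lift h t ≫ (G ◁ s) ≫ A.act.act) ≫ A.act.act := by
          rw [lift_whiskerLeft_assoc]
      _ = lift g (lift h t) ≫ (G ◁ ((G ◁ s) ≫ A.act.act)) ≫ A.act.act :=
          (lift_whiskerLeft_assoc _ _ _ _).symm
  have hcart : IsPullback ((G ◁ s) ≫ A.act.act) (snd G T') A.π (s ≫ A.π) :=
    (AlgSt.isPullback_whiskerLeft (G := G) s).paste_horiz A.cart
  have hwφ : ((G ◁ s) ≫ A.act.act) ≫ A.φ = (G ◁ (s ≫ A.φ)) ≫ aX.act := by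
    rw [Category.assoc, A.eqv, MonoidalCategory.whiskerLeft_comp, Category.assoc]
  exact ⟨⟨s ≫ A.π, (G ◁ s) ≫ A.act.act, heqv, hcart, hwφ⟩, rfl, rfl⟩

lemma sec_quotMap_eq [K.HasIsos] {N : (Over S)ᵒᵖ ⥤ Type (u + 1)}
    (φ : AlgSt.QuotSt K G aX ⥤ᵇ Stk.ofPsh N) {T : Over S} (x : T ⟶ X) :
    sec φ ((AlgSt.quotMap K G aX).obj (pt x)) =
      N.map x.op (sec φ ((AlgSt.quotMap K G aX).obj (pt (𝟙 X)))) := by
  let k : (pt x : (AlgSt.ofSch X).obj) ⟶ pt (𝟙 X) :=
    ⟨x, congrArg ULift.up (Category.comp_id x)⟩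
  exact (sec_map φ ((AlgSt.quotMap K G aX).map k)).symm

/-- the restriction to `X` of a functor on `[X/G]` is invariant -/
theorem restrict_invariant [K.HasIsos] {N : (Over S)ᵒᵖ ⥤ Type (u + 1)}
    (φ : AlgSt.QuotSt K G aX ⥤ᵇ Stk.ofPsh N) :
    N.map aX.act.op (sec φ ((AlgSt.quotMap K G aX).obj (pt (𝟙 X)))) =
      N.map (snd G X).op (sec φ ((AlgSt.quotMap K G aX).obj (pt (𝟙 X)))) := by
  rw [← sec_quotMap_eq φ aX.act, ← sec_quotMap_eq φ (snd G X)]
  obtain ⟨h, hb, -⟩ := (QsA.main38 K aX (G ⊗ X) (G ⊗ X) (𝟙 _) aX.act (snd G X)).2 (fst G X) (by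
    rw [Category.id_comp, lift_fst_snd, Category.id_comp])
  exact sec_eq_of_hom_over_id φ h (T := G ⊗ X) rfl rfl (hb.trans (Category.comp_id (𝟙 (G ⊗ X))).symm)

/-- a functor on `[X/G]` to a sheaf is determined by its restriction to `X` -/
theorem functor_ext_of_quotMap [K.HasIsos] (M : QuotSh.Sh K S)
    (φ φ' : AlgSt.QuotSt K G aX ⥤ᵇ Stk.ofPsh M.obj)
    (h : ∀ a : (AlgSt.ofSch X).obj, sec φ ((AlgSt.quotMap K G aX).obj a) =
      sec φ' ((AlgSt.quotMap K G aX).obj a)) : φ = φ' := by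
  apply functor_ext_of_sec
  intro A
  apply injective_map_π A M
  obtain ⟨k, hk, -⟩ := trivHom A (𝟙 A.P) A.φ (Category.id_comp _)
  have h1 : M.obj.map k.base.op (sec φ A) = sec φ ((AlgSt.quotMap K G aX).obj (pt A.φ)) :=
    sec_map φ k
  have h2 : M.obj.map k.base.op (sec φ' A) = sec φ' ((AlgSt.quotMap K G aX).obj (pt A.φ)) :=
    sec_map φ' k
  rw [hk, Category.id_comp] at h1 h2
  exact h1.trans ((h _).trans h2.symm)

end Quot

section Main

variable {S : Scheme.{u}} {G : Over S} [GrpObj G] {X : Over S} {aX : AlgGrp.Action G X}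

lemma yon_nat (M : AlgSp.Sp S) (f : (AlgSp.yon S).obj X ⟶ M) {T : Over S} (x : T ⟶ X) :
    f.hom.app (op T) (ULift.up x) = M.obj.map x.op (f.hom.app (op X) (ULift.up (𝟙 X))) := by
  have h1 : f.hom.app (op T) (((AlgSp.yon S).obj X).obj.map x.op (ULift.up (𝟙 X))) =
      M.obj.map x.op (f.hom.app (op X) (ULift.up (𝟙 X))) :=
    types_congr_hom (f.hom.naturality x.op)
      (ULift.up (𝟙 X) : ((AlgSp.yon S).obj X).obj.obj (op X))
  rw [← h1]
  exact congrArg (f.hom.app (op T)) (congrArg ULift.up (Category.comp_id x).symm)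

lemma yon_inv (M : AlgSp.Sp S) (f : (AlgSp.yon S).obj X ⟶ M)
    (hf : (AlgSp.yon S).map aX.act ≫ f = (AlgSp.yon S).map (snd G X) ≫ f) :
    M.obj.map aX.act.op (f.hom.app (op X) (ULift.up (𝟙 X))) =
      M.obj.map (snd G X).op (f.hom.app (op X) (ULift.up (𝟙 X))) := by
  rw [← yon_nat, ← yon_nat]
  have h2 := congrArg (fun g => g.hom.app (op (G ⊗ X)) (ULift.up (𝟙 (G ⊗ X)))) hf
  have h3 : f.hom.app (op (G ⊗ X)) (ULift.up (𝟙 (G ⊗ X) ≫ aX.act)) =
      f.hom.app (op (G ⊗ X)) (ULift.up (𝟙 (G ⊗ X) ≫ snd G X)) := h2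
  rw [Category.id_comp, Category.id_comp] at h3
  exact h3

theorem main14978 (M : AlgSp.Sp S) (f : (AlgSp.yon S).obj X ⟶ M)
    (hf : (AlgSp.yon S).map aX.act ≫ f = (AlgSp.yon S).map (snd G X) ≫ f) :
    ∃! φ : AlgSt.QuotSt Scheme.fppfPrecoverage G aX ⥤ᵇ AlgSt.ofSp M,
      BasedFunctor.comp (AlgSt.quotMap Scheme.fppfPrecoverage G aX) φ = AlgSt.ofSpMap f := by
  have hm := yon_inv M f hf
  refine ⟨descFunctor M (f.hom.app (op X) (ULift.up (𝟙 X))) hm, ?_, ?_⟩
  · apply functor_ext_of_obj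
    intro a
    exact congrArg (Stk.EltObj.mk (P := M.obj) a.base)
      ((desc_quotMap M _ hm a).trans (yon_nat M f a.sec.down).symm)
  · intro φ' hφ'
    apply functor_ext_of_quotMap M
    intro a
    have h1 : sec φ' ((AlgSt.quotMap Scheme.fppfPrecoverage G aX).obj a) =
        sec (AlgSt.ofSpMap f) a := congrArg (fun e => sec e a) hφ'
    rw [h1]
    exact (sec_ofPshMap f.hom a).trans ((yon_nat M f a.sec.down).trans
      ((desc_quotMap M _ hm a).symm.trans (sec_descFunctor M _ hm _).symm))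

end Main

end Groth.Agent.H4.QstA
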