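import Mathlib
import Groth.Prelude.Def_AlgSt5
import Groth.Prelude.Def_StCoarse
import Groth.Prelude.Def_W4bk4git07Quot
import Groth.Agent.H4.QstA

set_option autoImplicit false

open CategoryTheory CategoryTheory.Limits MonoidalCategory CartesianMonoidalCategory MonObj GrpObj
  AlgebraicGeometry Opposite

universe u

namespace Groth.Agent.H4.QstB

open Groth.Agent.H4 Groth.Agent.H4.QstA Groth.Agent.H3.PshBridge Groth.Agent.H3.StackPsh
  Groth.Agent.H3.FibCatAux Groth.Agent.H3.FpCalc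

variable {S : Scheme.{u}}

/-- the map `h_Y ⟶ N` attached to a section of `N` over `Y` -/
def yonMk (N : AlgSp.Sp S) {Y : Over S} (n : N.obj.obj (op Y)) : (AlgSp.yon S).obj Y ⟶ N :=
  ObjectProperty.homMk
    { app := fun T => ↾fun y => N.obj.map y.down.op n
      naturality := fun T T' k => by
        ext y
        exact (map_map N.obj k.unop y.down n).symm }

lemma yonMk_app (N : AlgSp.Sp S) {Y : Over S} (n : N.obj.obj (op Y)) {T : Over S} (y : T ⟶ Y) :
    (yonMk N n).hom.app (op T) (ULift.up y) = N.obj.map y.op n := rfl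

lemma yonMk_eta (N : AlgSp.Sp S) {Y : Over S} (g : (AlgSp.yon S).obj Y ⟶ N) :
    g = yonMk N (g.hom.app (op Y) (ULift.up (𝟙 Y))) := by
  apply ObjectProperty.hom_ext
  ext T y
  induction T using Opposite.rec with | _ T => ?_
  exact yon_nat N g y.down

lemma isRep_yon (Y : Over S) : ((AlgSp.yon S).obj Y).obj.IsRepresentable :=
  ⟨⟨Y, ⟨{ homEquiv := Equiv.ulift.symm, homEquiv_comp := fun _ _ => rfl }⟩⟩⟩

variable {G : Over S} [GrpObj G] {X Y : Over S} {aX : AlgGrp.Action G X}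

lemma sec_π (f : X ⟶ Y) (π : AlgSt.QuotSt Scheme.fppfPrecoverage G aX ⥤ᵇ AlgSt.ofSch Y)
    (hπ : Nonempty (BasedFunctor.comp (AlgSt.quotMap Scheme.fppfPrecoverage G aX) π ≅
      AlgSt.ofSpMap ((AlgSp.yon S).map f))) (a : (AlgSt.ofSch X).obj) :
    sec π ((AlgSt.quotMap Scheme.fppfPrecoverage G aX).obj a) = ULift.up (a.sec.down ≫ f) := by
  obtain ⟨α⟩ := hπ
  exact (sec_eq_of_iso α a).trans (sec_ofPshMap _ a)

theorem isCatQuot_of_isCatModuliSch (f : X ⟶ Y)
    (π : AlgSt.QuotSt Scheme.fppfPrecoverage G aX ⥤ᵇ AlgSt.ofSch Y)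
    (hπ : Nonempty (BasedFunctor.comp (AlgSt.quotMap Scheme.fppfPrecoverage G aX) π ≅
      AlgSt.ofSpMap ((AlgSp.yon S).map f)))
    (hM : AlgSt.IsCatModuliSch π) : GIT.IsCatQuot aX f := by
  unfold AlgSt.IsCatModuliSch AlgSt.IsCatModuliIn at hM
  obtain ⟨-, huniv⟩ := hM
  have hsec := sec_π f π hπ
  unfold GIT.IsCatQuot GIT.IsInvariant
  refine ⟨?_, fun Z ψ hψ => ?_⟩
  · have h1 := restrict_invariant (K := Scheme.fppfPrecoverage) π
    rw [hsec (pt (𝟙 X))] at h1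
    have h2 : aX.act ≫ 𝟙 X ≫ f = snd G X ≫ 𝟙 X ≫ f := congrArg ULift.down h1
    simpa using h2
  · have hm : ((AlgSp.yon S).obj Z).obj.map aX.act.op (ULift.up ψ) =
        ((AlgSp.yon S).obj Z).obj.map (snd G X).op (ULift.up ψ) := congrArg ULift.up hψ
    obtain ⟨g, ⟨β⟩, hguniq⟩ := huniv ((AlgSp.yon S).obj Z) (isRep_yon Z)
      (descFunctor ((AlgSp.yon S).obj Z) (ULift.up ψ) hm)
    have hg : ∀ {T : Over S} (y : T ⟶ Y), g.hom.app (op T) (ULift.up y) =
        ULift.up (y ≫ (g.hom.app (op Y) (ULift.up (𝟙 Y))).down) := fun y =>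
      yon_nat _ g y
    refine ⟨(g.hom.app (op Y) (ULift.up (𝟙 Y))).down, ?_, fun χ' hχ' => ?_⟩
    · have e1 : sec (BasedFunctor.comp π (AlgSt.ofSpMap g))
          ((AlgSt.quotMap Scheme.fppfPrecoverage G aX).obj (pt (𝟙 X))) =
          g.hom.app (op X) (sec π ((AlgSt.quotMap Scheme.fppfPrecoverage G aX).obj (pt (𝟙 X)))) :=
        sec_comp_ofPshMap π g.hom _
      have e2 : sec π ((AlgSt.quotMap Scheme.fppfPrecoverage G aX).obj (pt (𝟙 X))) =
          ULift.up (𝟙 X ≫ f) := hsec (pt (𝟙 X))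
      have e3 : sec (descFunctor ((AlgSp.yon S).obj Z) (ULift.up ψ) hm)
          ((AlgSt.quotMap Scheme.fppfPrecoverage G aX).obj (pt (𝟙 X))) = ULift.up (𝟙 X ≫ ψ) :=
        (sec_descFunctor _ _ hm _).trans (desc_quotMap _ _ hm (pt (𝟙 X)))
      have e4 : g.hom.app (op X) (ULift.up (𝟙 X ≫ f)) = ULift.up (𝟙 X ≫ ψ) :=
        (congrArg (fun t => g.hom.app (op X) t) e2).symm.trans
          (e1.symm.trans ((sec_eq_of_iso β _).trans e3))
      rw [hg] at e4
      have e5 : (𝟙 X ≫ f) ≫ (g.hom.app (op Y) (ULift.up (𝟙 Y))).down = 𝟙 X ≫ ψ :=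
        congrArg ULift.down e4
      simpa using e5
    · have hfun : BasedFunctor.comp π (AlgSt.ofSpMap ((AlgSp.yon S).map χ')) =
          descFunctor ((AlgSp.yon S).obj Z) (ULift.up ψ) hm := by
        apply functor_ext_of_quotMap ((AlgSp.yon S).obj Z)
        intro a
        have e1 : sec (BasedFunctor.comp π (AlgSt.ofSpMap ((AlgSp.yon S).map χ')))
            ((AlgSt.quotMap Scheme.fppfPrecoverage G aX).obj a) =
            ((AlgSp.yon S).map χ').hom.app (op a.base)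
              (sec π ((AlgSt.quotMap Scheme.fppfPrecoverage G aX).obj a)) :=
          sec_comp_ofPshMap π ((AlgSp.yon S).map χ').hom _
        have e2 : sec π ((AlgSt.quotMap Scheme.fppfPrecoverage G aX).obj a) =
            ULift.up (a.sec.down ≫ f) := hsec a
        have e3 : sec (descFunctor ((AlgSp.yon S).obj Z) (ULift.up ψ) hm)
            ((AlgSt.quotMap Scheme.fppfPrecoverage G aX).obj a) = ULift.up (a.sec.down ≫ ψ) :=
          (sec_descFunctor _ _ hm _).trans (desc_quotMap _ _ hm a)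
        have e4 : ((AlgSp.yon S).map χ').hom.app (op a.base) (ULift.up (a.sec.down ≫ f)) =
            ULift.up (a.sec.down ≫ ψ) := by
          have hχ'' : f ≫ χ' = ψ := hχ'
          have e0 : ((AlgSp.yon S).map χ').hom.app (op a.base) (ULift.up (a.sec.down ≫ f)) =
              ULift.up ((a.sec.down ≫ f) ≫ χ') := rfl
          rw [e0, Category.assoc, hχ'']
        exact e1.trans ((congrArg (fun t => ((AlgSp.yon S).map χ').hom.app (op a.base) t) e2).trans
          (e4.trans e3.symm))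
      have h1 : (AlgSp.yon S).map χ' = g := hguniq _ ⟨eqToIso hfun⟩
      have h2 : ((AlgSp.yon S).map χ').hom.app (op Y) (ULift.up (𝟙 Y)) = ULift.up (𝟙 Y ≫ χ') := rfl
      rw [← h1, h2, Category.id_comp]

theorem isCatModuliSch_of_isCatQuot (f : X ⟶ Y)
    (π : AlgSt.QuotSt Scheme.fppfPrecoverage G aX ⥤ᵇ AlgSt.ofSch Y)
    (hπ : Nonempty (BasedFunctor.comp (AlgSt.quotMap Scheme.fppfPrecoverage G aX) π ≅
      AlgSt.ofSpMap ((AlgSp.yon S).map f)))
    (hQ : GIT.IsCatQuot aX f) : AlgSt.IsCatModuliSch π := by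
  unfold GIT.IsCatQuot GIT.IsInvariant at hQ
  obtain ⟨hinv, huniv⟩ := hQ
  have hsec := sec_π f π hπ
  unfold AlgSt.IsCatModuliSch AlgSt.IsCatModuliIn
  refine ⟨isRep_yon Y, fun N hN φ => ?_⟩
  obtain ⟨Z, ⟨r⟩⟩ := hN.has_representation
  obtain ⟨n, hn⟩ : ∃ n : N.obj.obj (op X),
      n = sec φ ((AlgSt.quotMap Scheme.fppfPrecoverage G aX).obj (pt (𝟙 X))) := ⟨_, rfl⟩
  have hninv : N.obj.map aX.act.op n = N.obj.map (snd G X).op n := by
    rw [hn]; exact restrict_invariant φ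
  have hnsec : ∀ {T : Over S} (x : T ⟶ X),
      sec φ ((AlgSt.quotMap Scheme.fppfPrecoverage G aX).obj (pt x)) = N.obj.map x.op n := by
    intro T x
    rw [hn]; exact sec_quotMap_eq φ x
  obtain ⟨ψ, hψ⟩ : ∃ ψ : X ⟶ Z, ψ = r.homEquiv.symm n := ⟨_, rfl⟩
  have hψn : r.homEquiv ψ = n := by rw [hψ, Equiv.apply_symm_apply]
  have hψinv : aX.act ≫ ψ = snd G X ≫ ψ :=
    r.homEquiv.injective (by rw [r.homEquiv_comp, r.homEquiv_comp, hψn, hninv])
  obtain ⟨χ, hχ, hχuniq⟩ := huniv Z ψ hψinv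
  have hχ' : f ≫ χ = ψ := hχ
  refine ⟨yonMk N (r.homEquiv χ), ⟨eqToIso ?_⟩, ?_⟩
  · apply functor_ext_of_quotMap N
    intro a
    have e1 : sec (BasedFunctor.comp π (AlgSt.ofSpMap (yonMk N (r.homEquiv χ))))
        ((AlgSt.quotMap Scheme.fppfPrecoverage G aX).obj a) =
        (yonMk N (r.homEquiv χ)).hom.app (op a.base)
          (sec π ((AlgSt.quotMap Scheme.fppfPrecoverage G aX).obj a)) :=
      sec_comp_ofPshMap π (yonMk N (r.homEquiv χ)).hom _
    have e2 : sec π ((AlgSt.quotMap Scheme.fppfPrecoverage G aX).obj a) =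
        ULift.up (a.sec.down ≫ f) := hsec a
    have e3 : (yonMk N (r.homEquiv χ)).hom.app (op a.base) (ULift.up (a.sec.down ≫ f)) =
        N.obj.map (a.sec.down ≫ f).op (r.homEquiv χ) := rfl
    have e4 : N.obj.map (a.sec.down ≫ f).op (r.homEquiv χ) = N.obj.map a.sec.down.op n := by
      rw [← r.homEquiv_comp, Category.assoc, hχ', r.homEquiv_comp, hψn]
    have e5 : sec φ ((AlgSt.quotMap Scheme.fppfPrecoverage G aX).obj a) =
        N.obj.map a.sec.down.op n := hnsec a.sec.down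
    exact e1.trans ((congrArg (fun t => (yonMk N (r.homEquiv χ)).hom.app (op a.base) t) e2).trans
      (e3.trans (e4.trans e5.symm)))
  · rintro g' ⟨β⟩
    obtain ⟨n', hn'⟩ : ∃ n' : N.obj.obj (op Y), n' = g'.hom.app (op Y) (ULift.up (𝟙 Y)) :=
      ⟨_, rfl⟩
    have hg' : g' = yonMk N n' := by rw [hn']; exact yonMk_eta N g'
    have e1 : sec (BasedFunctor.comp π (AlgSt.ofSpMap g'))
        ((AlgSt.quotMap Scheme.fppfPrecoverage G aX).obj (pt (𝟙 X))) =
        g'.hom.app (op X) (sec π ((AlgSt.quotMap Scheme.fppfPrecoverage G aX).obj (pt (𝟙 X)))) :=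
      sec_comp_ofPshMap π g'.hom _
    have e2 : sec π ((AlgSt.quotMap Scheme.fppfPrecoverage G aX).obj (pt (𝟙 X))) =
        ULift.up (𝟙 X ≫ f) := hsec (pt (𝟙 X))
    have e3 : g'.hom.app (op X) (ULift.up (𝟙 X ≫ f)) = N.obj.map (𝟙 X ≫ f).op n' := by
      rw [hn']; exact yon_nat N g' (𝟙 X ≫ f)
    have e5 : N.obj.map (𝟙 X ≫ f).op n' = n :=
      e3.symm.trans ((congrArg (fun t => g'.hom.app (op X) t) e2).symm.trans
        (e1.symm.trans ((sec_eq_of_iso β _).trans hn.symm)))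
    have e6 : f ≫ r.homEquiv.symm n' = ψ :=
      r.homEquiv.injective (by
        rw [r.homEquiv_comp, Equiv.apply_symm_apply, hψn, ← e5, Category.id_comp])
    have e7 : r.homEquiv.symm n' = χ := hχuniq _ e6
    have e8 : n' = r.homEquiv χ := by rw [← e7, Equiv.apply_symm_apply]
    rw [hg', e8]

theorem main16705 (f : X ⟶ Y)
    (π : AlgSt.QuotSt Scheme.fppfPrecoverage G aX ⥤ᵇ AlgSt.ofSch Y)
    (hπ : Nonempty (BasedFunctor.comp (AlgSt.quotMap Scheme.fppfPrecoverage G aX) π ≅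
      AlgSt.ofSpMap ((AlgSp.yon S).map f))) :
    AlgSt.IsCatModuliSch π ↔ GIT.IsCatQuot aX f :=
  ⟨isCatQuot_of_isCatModuliSch f π hπ, isCatModuliSch_of_isCatQuot f π hπ⟩

end Groth.Agent.H4.QstB
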