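import Mathlib
import Groth.Prelude.Def_AlgSt5
import Groth.Prelude.Def_StCoarse
import Groth.Prelude.Def_W4bk4git07Quot
import Groth.Agent.H4.QstA
import Groth.Agent.H4.QstB

set_option autoImplicit false

open CategoryTheory CategoryTheory.Limits MonoidalCategory CartesianMonoidalCategory MonObj GrpObj
  AlgebraicGeometry Opposite

universe u

namespace Groth.Agent.H4.QstC

open Groth.Agent.H4 Groth.Agent.H4.QstA Groth.Agent.H4.QstB Groth.Agent.H3.PshBridge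
  Groth.Agent.H3.StackPsh Groth.Agent.H3.FibCatAux Groth.Agent.H3.FpCalc

section General

universe w₁ v₁ u₁ v₂ u₂

variable {C : Type u₁} [Category.{v₁} C] {Q : Cᵒᵖ ⥤ Type w₁}

lemma secAt_trans (a : Stk.EltObj Q) {T T' : C} (h : a.base = T) (h' : T = T') :
    secAt a (h.trans h') = Q.map (eqToHom h'.symm).op (secAt a h) := by
  subst h'
  simp

/-- an isomorphism in a fibre category from an isomorphism lifting the identity -/
def fiberIso {𝒮 : Type u₁} {𝒳 : Type u₂} [Category.{v₁} 𝒮] [Category.{v₂} 𝒳] {p : 𝒳 ⥤ 𝒮} {T : 𝒮}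
    {a b : p.Fiber T} (i : a.1 ≅ b.1) (h1 : p.IsHomLift (𝟙 T) i.hom)
    (h2 : p.IsHomLift (𝟙 T) i.inv) : a ≅ b where
  hom := ⟨i.hom, h1⟩
  inv := ⟨i.inv, h2⟩
  hom_inv_id := Subtype.ext i.hom_inv_id
  inv_hom_id := Subtype.ext i.inv_hom_id

end General

variable {S : Scheme.{u}} {G : Over S} [GrpObj G] {X Y : Over S} {aX : AlgGrp.Action G X}

section Isos

variable {K : Precoverage Scheme.{u}}

/-- a morphism of `[X/G]` over an isomorphism is an isomorphism -/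
theorem exists_iso_of_isIso_base {A B : AlgSt.QuotObj K G aX} (h : A ⟶ B) [IsIso h.base] :
    ∃ i : A ≅ B, i.hom = h := by
  haveI : IsIso h.top := h.cart.isIso_fst_of_isIso
  have hw : inv h.top ≫ A.π = B.π ≫ inv h.base := by
    rw [IsIso.inv_comp_eq, ← Category.assoc, h.cart.w, Category.assoc, IsIso.hom_inv_id,
      Category.comp_id]
  have heqv : B.act.act ≫ inv h.top = (G ◁ inv h.top) ≫ A.act.act := by
    rw [IsIso.comp_inv_eq, Category.assoc, h.eqv, ← Category.assoc,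
      ← MonoidalCategory.whiskerLeft_comp, IsIso.inv_hom_id, MonoidalCategory.whiskerLeft_id,
      Category.id_comp]
  have hcart : IsPullback (inv h.top) B.π A.π (inv h.base) := IsPullback.of_horiz_isIso ⟨hw⟩
  have hwφ : inv h.top ≫ A.φ = B.φ := by rw [IsIso.inv_comp_eq, h.wφ]
  let k : B ⟶ A := ⟨inv h.base, inv h.top, heqv, hcart, hwφ⟩
  refine ⟨⟨h, k, ?_, ?_⟩, rfl⟩
  · exact AlgSt.QuotObj.hom_ext (IsIso.hom_inv_id h.base) (IsIso.hom_inv_id h.top)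
  · exact AlgSt.QuotObj.hom_ext (IsIso.inv_hom_id h.base) (IsIso.inv_hom_id h.top)

lemma isHomLift_of_base {C D : AlgSt.QuotObj K G aX} (h : C ⟶ D) {T : Over S} (hC : C.base = T)
    (hD : D.base = T) (hb : h.base = eqToHom (hC.trans hD.symm)) :
    (AlgSt.QuotSt K G aX).p.IsHomLift (𝟙 T) h :=
  IsHomLift.of_fac' _ (𝟙 T) h hC hD
    (hb.trans (by simp : eqToHom (hC.trans hD.symm) = eqToHom hC ≫ 𝟙 T ≫ eqToHom hD.symm))

lemma exists_iso_of_base {C D : AlgSt.QuotObj K G aX} (h : C ⟶ D) {T : Over S} (hC : C.base = T)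
    (hD : D.base = T) (hb : h.base = eqToHom (hC.trans hD.symm)) : ∃ i : C ≅ D, i.hom = h := by
  haveI : IsIso h.base := by rw [hb]; infer_instance
  exact exists_iso_of_isIso_base h

/-- two objects of `[X/G]` over `T` with sections whose points of `X` are conjugate are isomorphic
in the fibre category -/
theorem nonempty_fiber_iso [K.HasIsos] {T : Over S} (x y : (AlgSt.QuotSt K G aX).p.Fiber T)
    (sA : x.1.base ⟶ x.1.P) (hsA : sA ≫ x.1.π = 𝟙 _) (sB : y.1.base ⟶ y.1.P)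
    (hsB : sB ≫ y.1.π = 𝟙 _) (g : T ⟶ G)
    (hg : lift g (eqToHom y.2.symm ≫ sB ≫ y.1.φ) ≫ aX.act = eqToHom x.2.symm ≫ sA ≫ x.1.φ) :
    Nonempty (x ≅ y) := by
  obtain ⟨A, hA⟩ := x
  obtain ⟨B, hB⟩ := y
  have hA' : A.base = T := hA
  have hB' : B.base = T := hB
  have hsA' : sA ≫ A.π = 𝟙 A.base := hsA
  have hsB' : sB ≫ B.π = 𝟙 B.base := hsB
  have hg' : lift g (eqToHom hB'.symm ≫ sB ≫ B.φ) ≫ aX.act = eqToHom hA'.symm ≫ sA ≫ A.φ := hg
  obtain ⟨h₁, hb₁, -⟩ := trivHom A sA (sA ≫ A.φ) rfl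
  obtain ⟨h₂, hb₂, -⟩ := trivHom B sB (sB ≫ B.φ) rfl
  have hcond : lift (eqToHom hA' ≫ g) (eqToHom (hA'.trans hB'.symm) ≫ sB ≫ B.φ) ≫ aX.act
      = sA ≫ A.φ := by
    calc lift (eqToHom hA' ≫ g) (eqToHom (hA'.trans hB'.symm) ≫ sB ≫ B.φ) ≫ aX.act
        = (eqToHom hA' ≫ lift g (eqToHom hB'.symm ≫ sB ≫ B.φ)) ≫ aX.act := by
          rw [comp_lift, eqToHom_trans_assoc]
      _ = eqToHom hA' ≫ (lift g (eqToHom hB'.symm ≫ sB ≫ B.φ) ≫ aX.act) := Category.assoc _ _ _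
      _ = eqToHom hA' ≫ eqToHom hA'.symm ≫ sA ≫ A.φ := by rw [hg']
      _ = sA ≫ A.φ := by simp
  obtain ⟨h₃, hb₃⟩ : ∃ h : (AlgSt.quotMap K G aX).obj (pt (sA ≫ A.φ)) ⟶
      (AlgSt.quotMap K G aX).obj (pt (sB ≫ B.φ)), h.base = eqToHom (hA'.trans hB'.symm) := by
    obtain ⟨h, hb, -⟩ := (QsA.main38 K aX A.base B.base (eqToHom (hA'.trans hB'.symm))
      (sA ≫ A.φ) (sB ≫ B.φ)).2 (eqToHom hA' ≫ g) hcond
    exact ⟨h, hb⟩
  have hb₁' : h₁.base = eqToHom (hA'.trans hA'.symm) :=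
    (hb₁.trans hsA').trans (eqToHom_refl _ _).symm
  have hb₂' : h₂.base = eqToHom (hB'.trans hB'.symm) :=
    (hb₂.trans hsB').trans (eqToHom_refl _ _).symm
  have l₁ : (AlgSt.QuotSt K G aX).p.IsHomLift (𝟙 T) h₁ := isHomLift_of_base h₁ hA' hA' hb₁'
  have l₂ : (AlgSt.QuotSt K G aX).p.IsHomLift (𝟙 T) h₂ := isHomLift_of_base h₂ hB' hB' hb₂'
  have l₃ : (AlgSt.QuotSt K G aX).p.IsHomLift (𝟙 T) h₃ := isHomLift_of_base h₃ hA' hB' hb₃
  obtain ⟨i₁, hi₁⟩ := exists_iso_of_base h₁ hA' hA' hb₁'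
  obtain ⟨i₂, hi₂⟩ := exists_iso_of_base h₂ hB' hB' hb₂'
  obtain ⟨i₃, hi₃⟩ := exists_iso_of_base h₃ hA' hB' hb₃
  haveI m₁ : (AlgSt.QuotSt K G aX).p.IsHomLift (𝟙 T) i₁.hom := by rw [hi₁]; exact l₁
  haveI m₂ : (AlgSt.QuotSt K G aX).p.IsHomLift (𝟙 T) i₂.hom := by rw [hi₂]; exact l₂
  haveI m₃ : (AlgSt.QuotSt K G aX).p.IsHomLift (𝟙 T) i₃.hom := by rw [hi₃]; exact l₃
  haveI m₁' : (AlgSt.QuotSt K G aX).p.IsHomLift (𝟙 T) i₁.inv :=
    IsHomLift.lift_id_inv (AlgSt.QuotSt K G aX).p T i₁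
  have lc : (AlgSt.QuotSt K G aX).p.IsHomLift (𝟙 T) (i₁.symm ≪≫ i₃ ≪≫ i₂).hom := by
    show (AlgSt.QuotSt K G aX).p.IsHomLift (𝟙 T) (i₁.inv ≫ i₃.hom ≫ i₂.hom)
    infer_instance
  exact ⟨fiberIso (i₁.symm ≪≫ i₃ ≪≫ i₂) lc
    (@IsHomLift.lift_id_inv _ _ _ _ (AlgSt.QuotSt K G aX).p T _ _ (i₁.symm ≪≫ i₃ ≪≫ i₂) lc)⟩

end Isos

/-- torsors over the spectrum of an algebraically closed field have sections -/
theorem exists_section_of_algClosed (A : AlgSt.QuotObj Scheme.fppfPrecoverage G aX)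
    (Ω : Type u) [Field Ω] [IsAlgClosed Ω] (e : A.base.left ≅ Spec (CommRingCat.of Ω)) :
    ∃ s : A.base ⟶ A.P, s ≫ A.π = 𝟙 A.base := by
  obtain ⟨R, hR, hsec⟩ := A.loc
  have hR' : R ∈ Scheme.precoverage (@Flat ⊓ @LocallyOfFinitePresentation) A.base.left := hR
  have h1 := (Presieve.mem_comap_jointlySurjectivePrecoverage_iff (F := Scheme.forget)).1 hR'.1
  obtain ⟨W, f, hf, w, -⟩ := h1 (e.inv (IsLocalRing.closedPoint Ω))
  haveI : Nonempty W := ⟨w⟩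
  haveI : LocallyOfFinitePresentation f := (hR'.2 hf).2
  haveI : LocallyOfFiniteType (f ≫ e.hom) := inferInstance
  haveI : JacobsonSpace W := LocallyOfFiniteType.jacobsonSpace (f ≫ e.hom)
  obtain ⟨w₀, hw₀⟩ : (closedPoints W).Nonempty := by
    by_contra h
    rw [Set.not_nonempty_iff_eq_empty] at h
    have h2 : closure (closedPoints W) = Set.univ := closure_closedPoints
    rw [h, closure_empty] at h2
    exact Set.empty_ne_univ h2
  obtain ⟨sW, hsW⟩ := hsec f hf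
  have hsW' : sW ≫ A.π.left = f := hsW
  obtain ⟨σ, hσ⟩ : ∃ σ : Spec (CommRingCat.of Ω) ⟶ W, σ ≫ f ≫ e.hom = 𝟙 _ :=
    ⟨pointOfClosedPoint (f ≫ e.hom) w₀ hw₀, pointOfClosedPoint_comp (f ≫ e.hom) w₀ hw₀⟩
  have h3 : (e.hom ≫ σ ≫ sW) ≫ A.π.left = 𝟙 _ := by
    rw [Category.assoc, Category.assoc, hsW']
    calc e.hom ≫ σ ≫ f = e.hom ≫ (σ ≫ f ≫ e.hom) ≫ e.inv := by simp
      _ = 𝟙 _ := by rw [hσ]; simp
  refine ⟨Over.homMk (e.hom ≫ σ ≫ sW) ?_, ?_⟩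
  · rw [← Over.w A.π, ← Category.assoc (e.hom ≫ σ ≫ sW) A.π.left A.base.hom, h3,
      Category.id_comp]
  · ext
    exact h3

lemma fibSec_eq (f : X ⟶ Y) (π : AlgSt.QuotSt Scheme.fppfPrecoverage G aX ⥤ᵇ AlgSt.ofSch Y)
    (hπ : Nonempty (BasedFunctor.comp (AlgSt.quotMap Scheme.fppfPrecoverage G aX) π ≅
      AlgSt.ofSpMap ((AlgSp.yon S).map f))) {T : Over S}
    (x : (AlgSt.QuotSt Scheme.fppfPrecoverage G aX).p.Fiber T)
    (s : x.1.base ⟶ x.1.P) (hs : s ≫ x.1.π = 𝟙 _) :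
    AlgSt.fibSec π x = ULift.up (eqToHom x.2.symm ≫ (s ≫ x.1.φ) ≫ f) := by
  obtain ⟨A, hA⟩ := x
  have hA' : A.base = T := hA
  have hs' : s ≫ A.π = 𝟙 A.base := hs
  obtain ⟨h₁, hb₁, -⟩ := trivHom A s (s ≫ A.φ) rfl
  have hb₁' : h₁.base = eqToHom (hA'.trans hA'.symm) :=
    (hb₁.trans hs').trans (eqToHom_refl _ _).symm
  have l₁ : (AlgSt.QuotSt Scheme.fppfPrecoverage G aX).p.IsHomLift (𝟙 T) h₁ :=
    isHomLift_of_base h₁ hA' hA' hb₁'
  have l₂ : (Stk.EltObj.forget ((AlgSp.yon S).obj Y).obj).IsHomLift (𝟙 T) (π.map h₁) :=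
    BasedFunctor.preserves_isHomLift π (𝟙 T) h₁
  have e1 := secAt_eq_of_hom (T := T) (h := l₂) (π.map h₁)
  have e2 : secAt (π.obj ((AlgSt.quotMap Scheme.fppfPrecoverage G aX).obj (pt (s ≫ A.φ))))
      ((π.w_obj _).trans hA')
      = ((AlgSp.yon S).obj Y).obj.map (eqToHom hA'.symm).op
        (sec π ((AlgSt.quotMap Scheme.fppfPrecoverage G aX).obj (pt (s ≫ A.φ)))) :=
    secAt_trans _ _ hA'
  have e3 : sec π ((AlgSt.quotMap Scheme.fppfPrecoverage G aX).obj (pt (s ≫ A.φ))) =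
      ULift.up ((s ≫ A.φ) ≫ f) := sec_π f π hπ (pt (s ≫ A.φ))
  calc AlgSt.fibSec π ⟨A, hA⟩ = secAt (π.obj A) ((π.w_obj A).trans hA) := rfl
    _ = secAt (π.obj ((AlgSt.quotMap Scheme.fppfPrecoverage G aX).obj (pt (s ≫ A.φ))))
          ((π.w_obj _).trans hA') := e1.symm
    _ = ((AlgSp.yon S).obj Y).obj.map (eqToHom hA'.symm).op
          (sec π ((AlgSt.quotMap Scheme.fppfPrecoverage G aX).obj (pt (s ≫ A.φ)))) := e2
    _ = ((AlgSp.yon S).obj Y).obj.map (eqToHom hA'.symm).op (ULift.up ((s ≫ A.φ) ≫ f)) :=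
          congrArg (fun z => ((AlgSp.yon S).obj Y).obj.map (eqToHom hA'.symm).op z) e3
    _ = ULift.up (eqToHom hA'.symm ≫ (s ≫ A.φ) ≫ f) := rfl

theorem isCatModuli_of_hcat (f : X ⟶ Y)
    (hcat : ∀ (N : AlgSp.Space S) (ψ : (AlgSp.yon S).obj X ⟶ N.obj),
      (AlgSp.yon S).map aX.act ≫ ψ = (AlgSp.yon S).map (snd G X) ≫ ψ →
        ∃! χ : (AlgSp.yon S).obj Y ⟶ N.obj, (AlgSp.yon S).map f ≫ χ = ψ)
    (π : AlgSt.QuotSt Scheme.fppfPrecoverage G aX ⥤ᵇ AlgSt.ofSch Y)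
    (hπ : Nonempty (BasedFunctor.comp (AlgSt.quotMap Scheme.fppfPrecoverage G aX) π ≅
      AlgSt.ofSpMap ((AlgSp.yon S).map f))) :
    AlgSt.IsCatModuliIn (AlgSp.IsAlgSpace (S := S)) π := by
  have hsec := sec_π f π hπ
  unfold AlgSt.IsCatModuliIn
  refine ⟨AlgSp.IsAlgSpace.yon_obj Y, fun N hN φ => ?_⟩
  obtain ⟨n, hn⟩ : ∃ n : N.obj.obj (op X),
      n = sec φ ((AlgSt.quotMap Scheme.fppfPrecoverage G aX).obj (pt (𝟙 X))) := ⟨_, rfl⟩
  have hninv : N.obj.map aX.act.op n = N.obj.map (snd G X).op n := by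
    rw [hn]; exact restrict_invariant φ
  have hnsec : ∀ {T : Over S} (x : T ⟶ X),
      sec φ ((AlgSt.quotMap Scheme.fppfPrecoverage G aX).obj (pt x)) = N.obj.map x.op n := by
    intro T x
    rw [hn]; exact sec_quotMap_eq φ x
  have hψinv : (AlgSp.yon S).map aX.act ≫ yonMk N n = (AlgSp.yon S).map (snd G X) ≫ yonMk N n := by
    apply ObjectProperty.hom_ext
    ext T p
    induction T using Opposite.rec with | _ T => ?_
    show N.obj.map (p.down ≫ aX.act).op n = N.obj.map (p.down ≫ snd G X).op n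
    rw [← map_map, ← map_map, hninv]
  obtain ⟨χ, hχ, hχuniq⟩ := hcat ⟨N, hN⟩ (yonMk N n) hψinv
  have hχ' : (AlgSp.yon S).map f ≫ χ = yonMk N n := hχ
  refine ⟨χ, ⟨eqToIso ?_⟩, ?_⟩
  · apply functor_ext_of_quotMap N
    intro a
    have e1 : sec (BasedFunctor.comp π (AlgSt.ofSpMap χ))
        ((AlgSt.quotMap Scheme.fppfPrecoverage G aX).obj a) =
        χ.hom.app (op a.base) (sec π ((AlgSt.quotMap Scheme.fppfPrecoverage G aX).obj a)) :=
      sec_comp_ofPshMap π χ.hom _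
    have e2 : sec π ((AlgSt.quotMap Scheme.fppfPrecoverage G aX).obj a) =
        ULift.up (a.sec.down ≫ f) := hsec a
    have e3 : χ.hom.app (op a.base) (ULift.up (a.sec.down ≫ f)) =
        (yonMk N n).hom.app (op a.base) (ULift.up a.sec.down) :=
      congrArg (fun g => g.hom.app (op a.base) (ULift.up a.sec.down)) hχ'
    have e4 : (yonMk N n).hom.app (op a.base) (ULift.up a.sec.down) =
        N.obj.map a.sec.down.op n := rfl
    have e5 : sec φ ((AlgSt.quotMap Scheme.fppfPrecoverage G aX).obj a) =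
        N.obj.map a.sec.down.op n := hnsec a.sec.down
    exact e1.trans ((congrArg (fun t => χ.hom.app (op a.base) t) e2).trans
      (e3.trans (e4.trans e5.symm)))
  · rintro χ' ⟨β⟩
    apply hχuniq
    apply ObjectProperty.hom_ext
    ext T x
    induction T using Opposite.rec with | _ T => ?_
    show χ'.hom.app (op T) (ULift.up (x.down ≫ f)) = N.obj.map x.down.op n
    have e1 : sec (BasedFunctor.comp π (AlgSt.ofSpMap χ'))
        ((AlgSt.quotMap Scheme.fppfPrecoverage G aX).obj (pt x.down)) =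
        χ'.hom.app (op T) (sec π ((AlgSt.quotMap Scheme.fppfPrecoverage G aX).obj (pt x.down))) :=
      sec_comp_ofPshMap π χ'.hom _
    have e2 : sec π ((AlgSt.quotMap Scheme.fppfPrecoverage G aX).obj (pt x.down)) =
        ULift.up (x.down ≫ f) := hsec (pt x.down)
    exact (congrArg (fun t => χ'.hom.app (op T) t) e2).symm.trans
      (e1.symm.trans ((sec_eq_of_iso β _).trans (hnsec x.down)))

theorem geomPtBij (f : X ⟶ Y)
    (horb : ∀ (Ω : Type u) [Field Ω] [IsAlgClosed Ω] (t : Spec (CommRingCat.of Ω) ⟶ S),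
      (∀ y : Over.mk t ⟶ Y, ∃ x : Over.mk t ⟶ X, x ≫ f = y) ∧
      (∀ x x' : Over.mk t ⟶ X, x ≫ f = x' ≫ f → ∃ g : Over.mk t ⟶ G, lift g x' ≫ aX.act = x))
    (π : AlgSt.QuotSt Scheme.fppfPrecoverage G aX ⥤ᵇ AlgSt.ofSch Y)
    (hπ : Nonempty (BasedFunctor.comp (AlgSt.quotMap Scheme.fppfPrecoverage G aX) π ≅
      AlgSt.ofSpMap ((AlgSp.yon S).map f))) : AlgSt.GeomPtBij π := by
  intro Ω _ _ t
  obtain ⟨hsurj, hinj⟩ := horb Ω t
  have hsec := sec_π f π hπ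
  refine ⟨fun m => ?_, fun x y hxy => ?_⟩
  · obtain ⟨x₀, hx₀⟩ := hsurj m.down
    refine ⟨⟨(AlgSt.quotMap Scheme.fppfPrecoverage G aX).obj (pt x₀), rfl⟩, ?_⟩
    exact (hsec (pt x₀)).trans (congrArg ULift.up hx₀)
  · obtain ⟨sA, hsA⟩ := exists_section_of_algClosed x.1 Ω
      (eqToIso (congrArg (fun Z : Over S => Z.left) x.2))
    obtain ⟨sB, hsB⟩ := exists_section_of_algClosed y.1 Ω
      (eqToIso (congrArg (fun Z : Over S => Z.left) y.2))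
    rw [fibSec_eq f π hπ x sA hsA, fibSec_eq f π hπ y sB hsB] at hxy
    have h1 : (eqToHom x.2.symm ≫ sA ≫ x.1.φ) ≫ f = (eqToHom y.2.symm ≫ sB ≫ y.1.φ) ≫ f := by
      have h2 := congrArg ULift.down hxy
      simpa [Category.assoc] using h2
    obtain ⟨g, hg⟩ := hinj _ _ h1
    exact nonempty_fiber_iso x y sA hsA sB hsB g hg

theorem main16721 (f : X ⟶ Y)
    (horb : ∀ (Ω : Type u) [Field Ω] [IsAlgClosed Ω] (t : Spec (CommRingCat.of Ω) ⟶ S),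
      (∀ y : Over.mk t ⟶ Y, ∃ x : Over.mk t ⟶ X, x ≫ f = y) ∧
      (∀ x x' : Over.mk t ⟶ X, x ≫ f = x' ≫ f → ∃ g : Over.mk t ⟶ G, lift g x' ≫ aX.act = x))
    (hcat : ∀ (N : AlgSp.Space S) (ψ : (AlgSp.yon S).obj X ⟶ N.obj),
      (AlgSp.yon S).map aX.act ≫ ψ = (AlgSp.yon S).map (snd G X) ≫ ψ →
        ∃! χ : (AlgSp.yon S).obj Y ⟶ N.obj, (AlgSp.yon S).map f ≫ χ = ψ)
    (π : AlgSt.QuotSt Scheme.fppfPrecoverage G aX ⥤ᵇ AlgSt.ofSch Y)
    (hπ : Nonempty (BasedFunctor.comp (AlgSt.quotMap Scheme.fppfPrecoverage G aX) π ≅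
      AlgSt.ofSpMap ((AlgSp.yon S).map f))) :
    AlgSt.IsCoarseModuli π := by
  unfold AlgSt.IsCoarseModuli AlgSt.IsCoarseModuliIn
  exact ⟨isCatModuli_of_hcat f hcat π hπ, geomPtBij f horb π hπ⟩

end Groth.Agent.H4.QstC
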