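import Mathlib
import Groth.Prelude.Def_AlgSt5
import Groth.Agent.H4.QstA
import Groth.Agent.H4.QstB
import Groth.Agent.H4.QstC
import Groth.Agent.Lib.Helper3.FibCatAux

set_option autoImplicit false

open CategoryTheory CategoryTheory.Limits MonoidalCategory CartesianMonoidalCategory MonObj GrpObj
  AlgebraicGeometry Opposite

universe u

namespace Groth.Agent.H4.QstD

open Groth.Agent.H4 Groth.Agent.H4.QstA Groth.Agent.H4.QstC Groth.Agent.H3.FibCatAux

section General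

universe w₁ v₁ u₁

variable {C : Type u₁} [Category.{v₁} C] {P : Cᵒᵖ ⥤ Type w₁}

/-- isomorphisms in a category of elements -/
def eltIso {a b : Stk.EltObj P} (f : a.base ≅ b.base) (h : P.map f.hom.op b.sec = a.sec) :
    a ≅ b where
  hom := ⟨f.hom, h⟩
  inv := ⟨f.inv, by
    rw [← h, map_map, Iso.inv_hom_id, op_id, Functor.map_id_apply]⟩
  hom_inv_id := Stk.EltObj.hom_ext f.hom_inv_id
  inv_hom_id := Stk.EltObj.hom_ext f.inv_hom_id

@[simp] lemma eltIso_hom_hom {a b : Stk.EltObj P} (f : a.base ≅ b.base)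
    (h : P.map f.hom.op b.sec = a.sec) : (eltIso f h).hom.hom = f.hom := rfl

lemma elt_isHomLift_of_hom_eq {a b : Stk.EltObj P} (m : a ⟶ b) {T : C} (ha : a.base = T)
    (hb : b.base = T) (hm : m.hom = eqToHom (ha.trans hb.symm)) :
    (Stk.EltObj.forget P).IsHomLift (𝟙 T) m :=
  IsHomLift.of_fac' _ (𝟙 T) m ha hb
    (hm.trans (by simp : eqToHom (ha.trans hb.symm) = eqToHom ha ≫ 𝟙 T ≫ eqToHom hb.symm))

end General

variable {S : Scheme.{u}} {G : Over S} [GrpObj G] {X : Over S}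

/-- the point of an object of `ofSch Y` -/
abbrev dn {Y : Over S} (w : (AlgSt.ofSch Y).obj) : w.base ⟶ Y := w.sec.down

lemma rmul_nat {T T' : Over S} (k : T ⟶ T') (p : T ⟶ G) (p' : T' ⟶ G) (hk : k ≫ p' = p) :
    (G ◁ k) ≫ lift (fst G T' * (snd G T' ≫ p')) (snd G T' ≫ 𝟙 T') =
      lift (fst G T * (snd G T ≫ p)) (snd G T ≫ 𝟙 T) ≫ (G ◁ k) := by
  subst hk
  apply CartesianMonoidalCategory.hom_ext
  · simp only [Category.assoc, lift_fst, comp_mul, whiskerLeft_fst, whiskerLeft_snd_assoc]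
  · simp only [Category.assoc, lift_snd, whiskerLeft_snd, lift_snd_assoc, Category.comp_id,
      Category.id_comp]

lemma rmul_cancel {T T' : Over S} (u v : T ⟶ T') (g : T ⟶ G) (g' : T' ⟶ G)
    (h : (G ◁ u) ≫ lift (fst G T' * (snd G T' ≫ g')) (snd G T' ≫ 𝟙 T') =
      lift (fst G T * (snd G T ≫ g)) (snd G T ≫ 𝟙 T) ≫ (G ◁ v)) : u ≫ g' = g := by
  have h1 := congrArg (fun m => lift (1 : T ⟶ G) (𝟙 T) ≫ m ≫ fst G T') h
  simp only [Category.assoc, lift_fst, lift_snd, lift_fst_assoc, lift_snd_assoc, comp_mul,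
    whiskerLeft_fst, whiskerLeft_snd, whiskerLeft_fst_assoc, whiskerLeft_snd_assoc,
    lift_whiskerLeft, lift_whiskerLeft_assoc, _root_.one_mul, Category.id_comp,
    Category.comp_id] at h1
  exact h1

lemma rmul_pre {T T' : Over S} (f : T ⟶ T') (g : T ⟶ G) (x : T ⟶ X) :
    (G ◁ 𝟙 T) ≫ lift (fst G T * (snd G T ≫ g)) (snd G T ≫ f) =
      lift (fst G T * (snd G T ≫ lift g x ≫ fst G X)) (snd G T ≫ 𝟙 T) ≫ (G ◁ f) := by
  rw [MonoidalCategory.whiskerLeft_id, Category.id_comp, lift_fst, Category.comp_id,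
    lift_whiskerLeft]

theorem rmul_props (K : Precoverage Scheme.{u}) [K.HasIsos] (aX : AlgGrp.Action G X)
    {T T' : Over S} (f : T ⟶ T') (x : T ⟶ X) (x' : T' ⟶ X) (g : T ⟶ G)
    (hg : lift g (f ≫ x') ≫ aX.act = x) :
    ((AlgSt.leftMul G T).act ≫ lift (fst G T * (snd G T ≫ g)) (snd G T ≫ f) =
        (G ◁ lift (fst G T * (snd G T ≫ g)) (snd G T ≫ f)) ≫ (AlgSt.leftMul G T').act) ∧
      IsPullback (lift (fst G T * (snd G T ≫ g)) (snd G T ≫ f)) (snd G T) (snd G T') f ∧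
      lift (fst G T * (snd G T ≫ g)) (snd G T ≫ f) ≫ (G ◁ x') ≫ aX.act = (G ◁ x) ≫ aX.act := by
  obtain ⟨h, hb, ht⟩ := (QsA.main38 K aX T T' f x x').2 g hg
  refine ⟨?_, ?_, ?_⟩
  · have e := h.eqv
    rw [ht] at e
    exact e
  · have e := h.cart
    rw [ht, hb] at e
    exact e
  · have e := h.wφ
    rw [ht] at e
    exact e

/-- right multiplication by `g` as a morphism of trivial objects of `[X/G]` -/
noncomputable def rmulHom (K : Precoverage Scheme.{u}) [K.HasIsos] (aX : AlgGrp.Action G X)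
    {T T' : Over S} (f : T ⟶ T') (x : T ⟶ X) (x' : T' ⟶ X) (g : T ⟶ G)
    (hg : lift g (f ≫ x') ≫ aX.act = x) :
    (AlgSt.quotMap K G aX).obj (pt x) ⟶ (AlgSt.quotMap K G aX).obj (pt x') :=
  ⟨f, lift (fst G T * (snd G T ≫ g)) (snd G T ≫ f), (rmul_props K aX f x x' g hg).1,
    (rmul_props K aX f x x' g hg).2.1, (rmul_props K aX f x x' g hg).2.2⟩

/-- the component of the canonical 2-isomorphism -/
noncomputable def epsHom (K : Precoverage Scheme.{u}) [K.HasIsos] (aX : AlgGrp.Action G X)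
    (w : (AlgSt.ofSch (G ⊗ X)).obj) :
    (AlgSt.quotMap K G aX).obj ((AlgSt.ofSpMap ((AlgSp.yon S).map aX.act)).obj w) ⟶
      (AlgSt.quotMap K G aX).obj ((AlgSt.ofSpMap ((AlgSp.yon S).map (snd G X))).obj w) :=
  rmulHom K aX (𝟙 w.base) (dn w ≫ aX.act) (dn w ≫ snd G X) (dn w ≫ fst G X) (by
    rw [Category.id_comp, ← comp_lift, lift_fst_snd, Category.comp_id])

theorem epsHom_natural (K : Precoverage Scheme.{u}) [K.HasIsos] (aX : AlgGrp.Action G X)
    {w w' : (AlgSt.ofSch (G ⊗ X)).obj} (k : w ⟶ w') :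
    (AlgSt.quotMap K G aX).map ((AlgSt.ofSpMap ((AlgSp.yon S).map aX.act)).map k) ≫
        epsHom K aX w' =
      epsHom K aX w ≫
        (AlgSt.quotMap K G aX).map ((AlgSt.ofSpMap ((AlgSp.yon S).map (snd G X))).map k) := by
  have hk : k.hom ≫ dn w' = dn w := congrArg ULift.down k.map_sec
  apply AlgSt.QuotObj.hom_ext
  · show k.hom ≫ 𝟙 w'.base = 𝟙 w.base ≫ k.hom
    rw [Category.comp_id, Category.id_comp]
  · exact rmul_nat k.hom (dn w ≫ fst G X) (dn w' ≫ fst G X) (by rw [← Category.assoc, hk])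

theorem isIso_epsHom (K : Precoverage Scheme.{u}) [K.HasIsos] (aX : AlgGrp.Action G X)
    (w : (AlgSt.ofSch (G ⊗ X)).obj) : IsIso (epsHom K aX w) := by
  haveI : IsIso (epsHom K aX w).base := (inferInstance : IsIso (𝟙 w.base))
  obtain ⟨i, hi⟩ := exists_iso_of_isIso_base (epsHom K aX w)
  rw [← hi]
  infer_instance

/-- the component isomorphism -/
noncomputable def epsIso (K : Precoverage Scheme.{u}) [K.HasIsos] (aX : AlgGrp.Action G X)
    (w : (AlgSt.ofSch (G ⊗ X)).obj) :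
    (AlgSt.quotMap K G aX).obj ((AlgSt.ofSpMap ((AlgSp.yon S).map aX.act)).obj w) ≅
      (AlgSt.quotMap K G aX).obj ((AlgSt.ofSpMap ((AlgSp.yon S).map (snd G X))).obj w) :=
  @asIso _ _ _ _ (epsHom K aX w) (isIso_epsHom K aX w)

/-- the canonical 2-isomorphism `π ∘ act ≅ π ∘ pr₂` -/
noncomputable def epsE (K : Precoverage Scheme.{u}) [K.HasIsos] (aX : AlgGrp.Action G X) :
    BasedFunctor.comp (AlgSt.ofSpMap ((AlgSp.yon S).map aX.act)) (AlgSt.quotMap K G aX) ≅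
      BasedFunctor.comp (AlgSt.ofSpMap ((AlgSp.yon S).map (snd G X)))
        (AlgSt.quotMap K G aX) :=
  BasedNatIso.mkNatIso
    (NatIso.ofComponents (fun w => epsIso K aX w) (fun {w w'} k => epsHom_natural K aX k))
    (fun w => isHomLift_of_base (epsHom K aX w) rfl rfl (eqToHom_refl _ _).symm)

theorem faithful_fpLift (K : Precoverage Scheme.{u}) [K.HasIsos] (aX : AlgGrp.Action G X) :
    (FibCat.fpLift (AlgSt.ofSpMap ((AlgSp.yon S).map aX.act))
      (AlgSt.ofSpMap ((AlgSp.yon S).map (snd G X))) (epsE K aX)).toFunctor.Faithful where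
  map_injective := by
    intro w w' g g' h
    apply Stk.EltObj.hom_ext
    exact congrArg (fun m => m.hom.fst.hom) h

theorem full_fpLift (K : Precoverage Scheme.{u}) [K.HasIsos] (aX : AlgGrp.Action G X) :
    (FibCat.fpLift (AlgSt.ofSpMap ((AlgSp.yon S).map aX.act))
      (AlgSt.ofSpMap ((AlgSp.yon S).map (snd G X))) (epsE K aX)).toFunctor.Full where
  map_surjective := by
    intro w w' ψ
    obtain ⟨u, hu⟩ : ∃ u : w.base ⟶ w'.base, u = ψ.hom.fst.hom := ⟨_, rfl⟩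
    obtain ⟨v, hv⟩ : ∃ v : w.base ⟶ w'.base, v = ψ.hom.snd.hom := ⟨_, rfl⟩
    have hvs : v ≫ (dn w' ≫ snd G X) = dn w ≫ snd G X := by
      rw [hv]
      exact congrArg ULift.down ψ.hom.snd.map_sec
    have hw : (AlgSt.quotMap K G aX).map ψ.hom.fst ≫ epsHom K aX w' =
        epsHom K aX w ≫ (AlgSt.quotMap K G aX).map ψ.hom.snd := ψ.hom.w
    have h1 : u ≫ 𝟙 w'.base = 𝟙 w.base ≫ v := by
      rw [hu, hv]
      exact congrArg (fun m => m.base) hw
    have huv : u = v := ((Category.comp_id u).symm.trans h1).trans (Category.id_comp v)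
    have h2 : (G ◁ u) ≫ lift (fst G w'.base * (snd G w'.base ≫ (dn w' ≫ fst G X)))
          (snd G w'.base ≫ 𝟙 w'.base) =
        lift (fst G w.base * (snd G w.base ≫ (dn w ≫ fst G X))) (snd G w.base ≫ 𝟙 w.base) ≫
          (G ◁ v) := by
      rw [hu, hv]
      exact congrArg (fun m => m.top) hw
    have h3 : u ≫ (dn w' ≫ fst G X) = dn w ≫ fst G X := rmul_cancel u v _ _ h2
    have hk : u ≫ dn w' = dn w := by
      apply CartesianMonoidalCategory.hom_ext
      · rw [Category.assoc]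
        exact h3
      · rw [Category.assoc, huv]
        exact hvs
    refine ⟨⟨u, congrArg ULift.up hk⟩, ?_⟩
    apply ObjectProperty.hom_ext
    apply CategoricalPullback.hom_ext
    · exact Stk.EltObj.hom_ext hu
    · exact Stk.EltObj.hom_ext (huv.trans hv)

lemma rmul_sq {T T₁ T₂ : Over S} (u : T ⟶ T₁) (f : T₁ ⟶ T₂) (g : T₁ ⟶ G) :
    (G ◁ u) ≫ lift (fst G T₁ * (snd G T₁ ≫ g)) (snd G T₁ ≫ f) =
      lift (fst G T * (snd G T ≫ u ≫ g)) (snd G T ≫ 𝟙 T) ≫ (G ◁ (u ≫ f)) := by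
  apply CartesianMonoidalCategory.hom_ext
  · simp only [Category.assoc, lift_fst, comp_mul, whiskerLeft_fst, whiskerLeft_snd_assoc]
  · simp only [Category.assoc, lift_snd, whiskerLeft_snd, whiskerLeft_snd_assoc, lift_snd_assoc,
      Category.comp_id, Category.id_comp]

lemma wcond_gen (K : Precoverage Scheme.{u}) [K.HasIsos] (aX : AlgGrp.Action G X)
    (w : (AlgSt.ofSch (G ⊗ X)).obj) (x₁ x₂ : (AlgSt.ofSch X).obj)
    (α : (AlgSt.quotMap K G aX).obj x₁ ⟶ (AlgSt.quotMap K G aX).obj x₂)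
    (eₗ : (AlgSt.ofSpMap ((AlgSp.yon S).map aX.act)).obj w ⟶ x₁)
    (eᵣ : (AlgSt.ofSpMap ((AlgSp.yon S).map (snd G X))).obj w ⟶ x₂) (g : x₁.base ⟶ G)
    (ht : α.top = lift (fst G x₁.base * (snd G x₁.base ≫ g)) (snd G x₁.base ≫ α.base))
    (u : w.base ⟶ x₁.base) (hu : eₗ.hom = u) (v : w.base ⟶ x₂.base) (hv : eᵣ.hom = v)
    (h1 : u ≫ α.base = v) (h2 : u ≫ g = dn w ≫ fst G X) :
    (AlgSt.quotMap K G aX).map eₗ ≫ α = epsHom K aX w ≫ (AlgSt.quotMap K G aX).map eᵣ := by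
  apply AlgSt.QuotObj.hom_ext
  · have e1 : ((AlgSt.quotMap K G aX).map eₗ ≫ α).base = u ≫ α.base := by
      rw [← hu]; rfl
    have e2 : (epsHom K aX w ≫ (AlgSt.quotMap K G aX).map eᵣ).base = 𝟙 w.base ≫ v := by
      rw [← hv]; rfl
    rw [e1, e2, Category.id_comp]
    exact h1
  · have e1 : ((AlgSt.quotMap K G aX).map eₗ ≫ α).top = (G ◁ u) ≫ α.top := by
      rw [← hu]; rfl
    have e2 : (epsHom K aX w ≫ (AlgSt.quotMap K G aX).map eᵣ).top =
        lift (fst G w.base * (snd G w.base ≫ (dn w ≫ fst G X))) (snd G w.base ≫ 𝟙 w.base) ≫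
          (G ◁ v) := by
      rw [← hv]; rfl
    rw [e1, e2, ht, ← h1, ← h2]
    exact rmul_sq u α.base g

theorem hasPre_fpLift (K : Precoverage Scheme.{u}) [K.HasIsos] (aX : AlgGrp.Action G X) :
    HasPre (FibCat.fpLift (AlgSt.ofSpMap ((AlgSp.yon S).map aX.act))
      (AlgSt.ofSpMap ((AlgSp.yon S).map (snd G X))) (epsE K aX)) := by
  intro y
  obtain ⟨α, hα⟩ : ∃ α : (AlgSt.quotMap K G aX).obj y.obj.fst ⟶
      (AlgSt.quotMap K G aX).obj y.obj.snd, α = y.obj.iso.hom := ⟨_, rfl⟩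
  have hiso : IsIso α.base := by
    rw [hα]
    exact (inferInstance : IsIso ((AlgSt.QuotObj.forget K G aX).map y.obj.iso.hom))
  obtain ⟨g, hg, ht⟩ := (QsA.main38 K aX y.obj.fst.base y.obj.snd.base α.base (dn y.obj.fst)
    (dn y.obj.snd)).1 α rfl
  let fiso : y.obj.fst.base ≅ y.obj.snd.base := @asIso _ _ _ _ α.base hiso
  let eₗ : (AlgSt.ofSpMap ((AlgSp.yon S).map aX.act)).obj
      (pt (lift g (α.base ≫ dn y.obj.snd))) ≅ y.obj.fst :=
    eltIso (Iso.refl y.obj.fst.base) (congrArg ULift.up ((Category.id_comp _).trans hg.symm))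
  let eᵣ : (AlgSt.ofSpMap ((AlgSp.yon S).map (snd G X))).obj
      (pt (lift g (α.base ≫ dn y.obj.snd))) ≅ y.obj.snd :=
    eltIso fiso (congrArg ULift.up (lift_snd _ _).symm)
  have wcond : (AlgSt.quotMap K G aX).map eₗ.hom ≫ y.obj.iso.hom =
      epsHom K aX (pt (lift g (α.base ≫ dn y.obj.snd))) ≫
        (AlgSt.quotMap K G aX).map eᵣ.hom := by
    rw [← hα]
    exact wcond_gen K aX (pt (lift g (α.base ≫ dn y.obj.snd))) y.obj.fst y.obj.snd α eₗ.hom
      eᵣ.hom g ht (𝟙 y.obj.fst.base) (eltIso_hom_hom _ _) α.base (eltIso_hom_hom _ _)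
      (Category.id_comp _) ((Category.id_comp g).trans (lift_fst _ _).symm)
  refine ⟨pt (lift g (α.base ≫ dn y.obj.snd)),
    fpIsoMk (X := (FibCat.fpLift (AlgSt.ofSpMap ((AlgSp.yon S).map aX.act))
      (AlgSt.ofSpMap ((AlgSp.yon S).map (snd G X))) (epsE K aX)).obj
        (pt (lift g (α.base ≫ dn y.obj.snd)))) (Y := y) eₗ eᵣ wcond, ?_⟩
  rw [fp_isHomLift_iff]
  exact elt_isHomLift_of_hom_eq eₗ.hom rfl rfl
    ((eltIso_hom_hom _ _).trans (eqToHom_refl _ _).symm)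

theorem main13575 (K : Precoverage Scheme.{u}) [K.HasIsos] (aX : AlgGrp.Action G X) :
    ∃ e : BasedFunctor.comp (AlgSt.ofSpMap ((AlgSp.yon S).map aX.act))
        (AlgSt.quotMap K G aX) ≅
        BasedFunctor.comp (AlgSt.ofSpMap ((AlgSp.yon S).map (snd G X)))
          (AlgSt.quotMap K G aX),
      FibCat.IsTwoCartOver (AlgSt.ofSpMap ((AlgSp.yon S).map aX.act))
        (AlgSt.ofSpMap ((AlgSp.yon S).map (snd G X))) e := by
  haveI := full_fpLift K aX
  haveI := faithful_fpLift K aX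
  exact ⟨epsE K aX, isEquivOver_of_hasPre _ (hasPre_fpLift K aX)⟩

end Groth.Agent.H4.QstD
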