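import Mathlib
import Groth.Prelude.Def_AlgSt5
import Groth.Agent.H4.QstA
import Groth.Agent.H4.QstB
import Groth.Agent.H4.QstC
import Groth.Agent.H4.QstD
import Groth.Agent.Lib.Helper3.FibCatAux
import Groth.Agent.Lib.Helper3.FpCalc
import Groth.Agent.Lib.Helper3.FlatDesc
import Groth.Agent.Lib.Helper5.AlgSp.Points
import Groth.Agent.Lib.Helper5.AlgSp.LocPBasic
import Groth.Agent.Lib.Helper5.AlgSp.FppfLocal
import Groth.Agent.Lib.Helper5.AlgSp.FlatDescentMore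

set_option autoImplicit false

open CategoryTheory CategoryTheory.Limits MonoidalCategory CartesianMonoidalCategory MonObj GrpObj
  AlgebraicGeometry Opposite

universe u

namespace Groth.Agent.H4.QstE

open Groth.Agent.H4 Groth.Agent.H4.QstA Groth.Agent.H4.QstC Groth.Agent.H4.QstD
  Groth.Agent.H3.FibCatAux Groth.Agent.H3.FpCalc

section EqToHom

universe v₁ u₁

variable {C : Type u₁} [Category.{v₁} C]

lemma e_p1 {a b c d e : C} (h₁ : a = b) (h₂ : c = d) (q : b ⟶ e) (π : e ⟶ c) :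
    eqToHom h₁.symm ≫ (eqToHom h₁ ≫ (q ≫ π ≫ eqToHom h₂) ≫ eqToHom h₂.symm) = q ≫ π := by
  subst h₁ h₂
  simp

lemma e_p2 {a b c d : C} (h : a = b) (h' : c = d) (v : b ⟶ d) :
    eqToHom h.symm ≫ (eqToHom h ≫ v ≫ eqToHom h'.symm) = v ≫ eqToHom h'.symm := by
  subst h
  simp

lemma e_p3 {a b c d e : C} (h₀ : a = b) (hy : c = b) (hA : e = d) (th : b ⟶ d) :
    (eqToHom h₀ ≫ 𝟙 b ≫ eqToHom hy.symm) ≫ (eqToHom hy ≫ th ≫ eqToHom hA.symm) =
      eqToHom h₀ ≫ th ≫ eqToHom hA.symm := by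
  subst hy
  simp

lemma e_p4 {a b d e : C} (h₀ : a = b) (hA : e = d) (th : b ⟶ d) :
    (eqToHom h₀.symm ≫ (eqToHom h₀ ≫ th ≫ eqToHom hA.symm)) ≫ eqToHom hA = th := by
  subst h₀ hA
  simp

lemma e_p5 {a b c : C} (h : a = b) (hy : c = b) :
    eqToHom h.symm ≫ (eqToHom h ≫ 𝟙 b ≫ eqToHom hy.symm) = eqToHom hy.symm := by
  subst h
  simp

lemma iso_sq {a b c d : C} (κ : a ⟶ b) [IsIso κ] (α : c ≅ d) (m : b ⟶ c) (n : a ⟶ d)
    (h : κ ≫ m = n ≫ α.inv) : m ≫ α.hom = inv κ ≫ n := by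
  rw [IsIso.eq_inv_comp, ← Category.assoc, h, Category.assoc, Iso.inv_hom_id, Category.comp_id]

lemma iso_sq' {a b c d : C} (κ : a ⟶ b) [IsIso κ] (κ' : c ⟶ d) [IsIso κ'] (m : b ⟶ d) (n : a ⟶ c)
    (h : κ ≫ m = n ≫ κ') : m ≫ inv κ' = inv κ ≫ n := by
  rw [IsIso.comp_inv_eq, Category.assoc, IsIso.eq_inv_comp, h]

lemma iso_sq'' {a b c d : C} (κ : a ⟶ b) [IsIso κ] (κ' : c ⟶ d) [IsIso κ'] (m : b ⟶ d) (n : a ⟶ c)
    (h : m ≫ inv κ' = inv κ ≫ n) : κ ≫ m = n ≫ κ' := by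
  rw [IsIso.comp_inv_eq, Category.assoc, IsIso.eq_inv_comp] at h
  exact h

end EqToHom

variable {S : Scheme.{u}} {G : Over S} [GrpObj G] {X : Over S} {aX : AlgGrp.Action G X}
  {K : Precoverage Scheme.{u}}

section Cart

/-- morphisms of `[X/G]` are cartesian: existence of lifts -/
theorem cart_lift {A B B' : AlgSt.QuotObj K G aX} (h : B ⟶ A) (h' : B' ⟶ A)
    (u : B'.base ⟶ B.base) (hu : u ≫ h.base = h'.base) :
    ∃ k : B' ⟶ B, k.base = u ∧ k ≫ h = h' := by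
  have hw : h'.top ≫ A.π = (B'.π ≫ u) ≫ h.base := by
    rw [Category.assoc, hu]
    exact h'.cart.w
  obtain ⟨kt, hkt1, hkt2⟩ : ∃ kt : B'.P ⟶ B.P, kt ≫ h.top = h'.top ∧ kt ≫ B.π = B'.π ≫ u :=
    ⟨h.cart.lift h'.top (B'.π ≫ u) hw, h.cart.lift_fst _ _ _, h.cart.lift_snd _ _ _⟩
  have hinvB' : B'.act.act ≫ B'.π = snd G B'.P ≫ B'.π := B'.cart.w
  have hinvB : B.act.act ≫ B.π = snd G B.P ≫ B.π := B.cart.w
  have heqv : B'.act.act ≫ kt = (G ◁ kt) ≫ B.act.act := by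
    apply h.cart.hom_ext
    · calc (B'.act.act ≫ kt) ≫ h.top = B'.act.act ≫ kt ≫ h.top := Category.assoc _ _ _
        _ = B'.act.act ≫ h'.top := by rw [hkt1]
        _ = (G ◁ h'.top) ≫ A.act.act := h'.eqv
        _ = (G ◁ (kt ≫ h.top)) ≫ A.act.act := by rw [hkt1]
        _ = (G ◁ kt) ≫ (G ◁ h.top) ≫ A.act.act := by
            rw [MonoidalCategory.whiskerLeft_comp, Category.assoc]
        _ = (G ◁ kt) ≫ B.act.act ≫ h.top := by rw [h.eqv]
        _ = ((G ◁ kt) ≫ B.act.act) ≫ h.top := (Category.assoc _ _ _).symm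
    · calc (B'.act.act ≫ kt) ≫ B.π = B'.act.act ≫ kt ≫ B.π := Category.assoc _ _ _
        _ = B'.act.act ≫ B'.π ≫ u := by rw [hkt2]
        _ = (B'.act.act ≫ B'.π) ≫ u := (Category.assoc _ _ _).symm
        _ = (snd G B'.P ≫ B'.π) ≫ u := by rw [hinvB']
        _ = snd G B'.P ≫ kt ≫ B.π := by rw [Category.assoc, hkt2]
        _ = (G ◁ kt) ≫ snd G B.P ≫ B.π := by rw [whiskerLeft_snd_assoc]
        _ = (G ◁ kt) ≫ B.act.act ≫ B.π := by rw [hinvB]
        _ = ((G ◁ kt) ≫ B.act.act) ≫ B.π := (Category.assoc _ _ _).symm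
  have hcart : IsPullback kt B'.π B.π u := by
    refine IsPullback.of_right ?_ hkt2 h.cart
    rw [hkt1, hu]
    exact h'.cart
  have hwφ : kt ≫ B.φ = B'.φ := by
    rw [← h.wφ, ← Category.assoc, hkt1, h'.wφ]
  exact ⟨⟨u, kt, heqv, hcart, hwφ⟩, rfl, AlgSt.QuotObj.hom_ext hu hkt1⟩

/-- morphisms of `[X/G]` are cartesian: uniqueness of lifts -/
theorem cart_uniq {A B B' : AlgSt.QuotObj K G aX} (h : B ⟶ A) (k₁ k₂ : B' ⟶ B)
    (hb : k₁.base = k₂.base) (hc : k₁ ≫ h = k₂ ≫ h) : k₁ = k₂ := by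
  apply AlgSt.QuotObj.hom_ext hb
  apply h.cart.hom_ext
  · exact congrArg (fun m => m.top) hc
  · rw [k₁.cart.w, k₂.cart.w, hb]

lemma base_eq {C D : AlgSt.QuotObj K G aX} (h : C ⟶ D) {T T' : Over S} (g : T ⟶ T')
    [hl : (AlgSt.QuotSt K G aX).p.IsHomLift g h] (hC : C.base = T) (hD : D.base = T') :
    h.base = eqToHom hC ≫ g ≫ eqToHom hD.symm :=
  IsHomLift.fac' (AlgSt.QuotSt K G aX).p g h

lemma point_eq_of_act_eq {A : AlgSt.QuotObj K G aX} {T T' : Over S} (v : T ⟶ T') (s : T ⟶ A.P)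
    (s' : T' ⟶ A.P) (h : (G ◁ v) ≫ (G ◁ s') ≫ A.act.act = (G ◁ s) ≫ A.act.act) : v ≫ s' = s := by
  have h1 := congrArg (fun m => lift (1 : T ⟶ G) (𝟙 T) ≫ m) h
  simp only [lift_whiskerLeft_assoc, Category.id_comp, AlgGrp.Action.lift_one_act] at h1
  exact h1

end Cart

section Triv

variable [K.HasIsos]

lemma qmap_base {c d : (AlgSt.ofSch X).obj} (m : c ⟶ d) :
    ((AlgSt.quotMap K G aX).map m).base = m.hom := rfl

lemma qmap_top {c d : (AlgSt.ofSch X).obj} (m : c ⟶ d) :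
    ((AlgSt.quotMap K G aX).map m).top = G ◁ m.hom := rfl

/-- the morphism from the trivial object attached to a point of the total space -/
noncomputable def trivMor (A : AlgSt.QuotObj K G aX) {T : Over S} (s : T ⟶ A.P) :
    (AlgSt.quotMap K G aX).obj (pt (s ≫ A.φ)) ⟶ A :=
  (trivHom A s (s ≫ A.φ) rfl).choose

lemma trivMor_base (A : AlgSt.QuotObj K G aX) {T : Over S} (s : T ⟶ A.P) :
    (trivMor A s).base = s ≫ A.π := (trivHom A s (s ≫ A.φ) rfl).choose_spec.1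

lemma trivMor_top (A : AlgSt.QuotObj K G aX) {T : Over S} (s : T ⟶ A.P) :
    (trivMor A s).top = (G ◁ s) ≫ A.act.act := (trivHom A s (s ≫ A.φ) rfl).choose_spec.2

lemma trivMor_nat (A : AlgSt.QuotObj K G aX) {T T' : Over S} (s : T ⟶ A.P) (s' : T' ⟶ A.P)
    (b : (pt (s ≫ A.φ) : (AlgSt.ofSch X).obj) ⟶ pt (s' ≫ A.φ)) (hv : b.hom ≫ s' = s) :
    (AlgSt.quotMap K G aX).map b ≫ trivMor A s' = trivMor A s := by
  obtain ⟨v, hv'⟩ : ∃ v : T ⟶ T', v = b.hom := ⟨_, rfl⟩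
  rw [← hv'] at hv
  apply AlgSt.QuotObj.hom_ext
  · rw [AlgSt.QuotObj.comp_base, qmap_base, trivMor_base, trivMor_base, ← hv', ← hv]
    exact (Category.assoc _ _ _).symm
  · rw [AlgSt.QuotObj.comp_top, qmap_top, trivMor_top, trivMor_top, ← hv', ← hv,
      MonoidalCategory.whiskerLeft_comp]
    exact (Category.assoc _ _ _).symm

lemma top_eq_of_triv {T : Over S} {x : T ⟶ X} {A : AlgSt.QuotObj K G aX}
    (θ : (AlgSt.quotMap K G aX).obj (pt x) ⟶ A) :
    θ.top = (G ◁ (lift (1 : T ⟶ G) (𝟙 T) ≫ θ.top)) ≫ A.act.act := by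
  obtain ⟨tp, htp⟩ : ∃ tp : G ⊗ T ⟶ A.P, tp = θ.top := ⟨_, rfl⟩
  have heqv : (AlgSt.leftMul G T).act ≫ tp = (G ◁ tp) ≫ A.act.act := by
    rw [htp]
    exact θ.eqv
  rw [← htp]
  apply AlgGrp.Action.hom_ext_lift₂
  intro W a t
  have e1 : lift a t = lift a (lift (1 : W ⟶ G) t) ≫ (AlgSt.leftMul G T).act := by
    rw [QsA.lift_leftMul_act, _root_.mul_one]
  have e2 : lift (1 : W ⟶ G) t = t ≫ lift (1 : T ⟶ G) (𝟙 T) := by
    rw [comp_lift, Category.comp_id, MonObj.comp_one]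
  calc lift a t ≫ tp
      = (lift a (lift (1 : W ⟶ G) t) ≫ (AlgSt.leftMul G T).act) ≫ tp := by rw [← e1]
    _ = lift a (lift (1 : W ⟶ G) t) ≫ (G ◁ tp) ≫ A.act.act := by rw [Category.assoc, heqv]
    _ = lift a (lift (1 : W ⟶ G) t ≫ tp) ≫ A.act.act := by rw [lift_whiskerLeft_assoc]
    _ = lift a (t ≫ lift (1 : T ⟶ G) (𝟙 T) ≫ tp) ≫ A.act.act := by rw [e2, Category.assoc]
    _ = lift a t ≫ (G ◁ (lift (1 : T ⟶ G) (𝟙 T) ≫ tp)) ≫ A.act.act := by
        rw [lift_whiskerLeft_assoc]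

lemma triv_point {T T' : Over S} {x : T' ⟶ X} {A : AlgSt.QuotObj K G aX}
    (θ : (AlgSt.quotMap K G aX).obj (pt x) ⟶ A) (ε : T ⟶ T') (p : T ⟶ A.P)
    (hp : p = ε ≫ lift (1 : T' ⟶ G) (𝟙 T') ≫ θ.top) :
    p ≫ A.π = ε ≫ θ.base ∧ p ≫ A.φ = ε ≫ x ∧
      ∀ b : (pt (p ≫ A.φ) : (AlgSt.ofSch X).obj) ⟶ pt x, b.hom = ε →
        (AlgSt.quotMap K G aX).map b ≫ θ = trivMor A p := by
  obtain ⟨tp, htp⟩ : ∃ tp : G ⊗ T' ⟶ A.P, tp = θ.top := ⟨_, rfl⟩
  have hw : tp ≫ A.π = snd G T' ≫ θ.base := by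
    rw [htp]
    exact θ.cart.w
  have hφ : tp ≫ A.φ = (G ◁ x) ≫ aX.act := by
    rw [htp]
    exact θ.wφ
  have htop : tp = (G ◁ (lift (1 : T' ⟶ G) (𝟙 T') ≫ tp)) ≫ A.act.act := by
    rw [htp]
    exact top_eq_of_triv θ
  rw [← htp] at hp
  have h1 : p ≫ A.π = ε ≫ θ.base := by
    rw [hp, Category.assoc, Category.assoc, hw, lift_snd_assoc, Category.id_comp]
  have h2 : p ≫ A.φ = ε ≫ x := by
    rw [hp, Category.assoc, Category.assoc, hφ, lift_whiskerLeft_assoc, Category.id_comp,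
      AlgGrp.Action.lift_one_act]
  refine ⟨h1, h2, fun b hb => ?_⟩
  apply AlgSt.QuotObj.hom_ext
  · rw [AlgSt.QuotObj.comp_base, qmap_base, trivMor_base, hb]
    exact h1.symm
  · rw [AlgSt.QuotObj.comp_top, qmap_top, trivMor_top, hb, ← htp]
    calc (G ◁ ε) ≫ tp
        = (G ◁ ε) ≫ (G ◁ (lift (1 : T' ⟶ G) (𝟙 T') ≫ tp)) ≫ A.act.act := by rw [← htop]
      _ = ((G ◁ ε) ≫ (G ◁ (lift (1 : T' ⟶ G) (𝟙 T') ≫ tp))) ≫ A.act.act :=
          (Category.assoc _ _ _).symm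
      _ = (G ◁ (ε ≫ lift (1 : T' ⟶ G) (𝟙 T') ≫ tp)) ≫ A.act.act :=
          congrArg (fun m => m ≫ A.act.act)
            (MonoidalCategory.whiskerLeft_comp G ε (lift (1 : T' ⟶ G) (𝟙 T') ≫ tp)).symm
      _ = (G ◁ p) ≫ A.act.act := by rw [hp]

end Triv

/-- the canonical functor `X ⟶ [X/G]` on the slice category -/
noncomputable abbrev ff (K : Precoverage Scheme.{u}) [K.HasIsos] {X : Over S}
    (aX : AlgGrp.Action G X) : FibCat.overCat X ⥤ᵇ AlgSt.QuotSt K G aX :=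
  BasedFunctor.comp (AlgSt.ofOverCat X) (AlgSt.quotMap K G aX)

lemma dn_comp {Y : Over S} {w w' : (AlgSt.ofSch Y).obj} (k : w ⟶ w') : k.hom ≫ dn w' = dn w :=
  congrArg ULift.down k.map_sec

section Rep

variable [K.HasIsos] {U : Over S} (y : FibCat.overCat U ⥤ᵇ AlgSt.QuotSt K G aX)

/-- the object of `[X/G]` over `U` classified by `y` -/
noncomputable abbrev AA : AlgSt.QuotObj K G aX := y.obj (Over.mk (𝟙 U))

lemma hAA : (AA y).base = U := y.w_obj (Over.mk (𝟙 U))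

/-- the structure map of the total space to `U` -/
noncomputable def piU : (AA y).P ⟶ U := (AA y).π ≫ eqToHom (hAA y)

/-- the canonical morphism from `y t` to the classified object -/
noncomputable def mm (t : Over U) : y.obj t ⟶ AA y :=
  y.map (Over.homMk t.hom (Category.comp_id _) : t ⟶ Over.mk (𝟙 U))

lemma mm_nat {t t' : Over U} (a : t ⟶ t') : y.map a ≫ mm y t' = mm y t := by
  have e : a ≫ (Over.homMk t'.hom (Category.comp_id _) : t' ⟶ Over.mk (𝟙 U)) =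
      (Over.homMk t.hom (Category.comp_id _) : t ⟶ Over.mk (𝟙 U)) :=
    Over.OverMorphism.ext (Over.w a)
  unfold mm
  rw [← e]
  exact (y.toFunctor.map_comp a _).symm

lemma mm_base (t : Over U) :
    (mm y t).base = eqToHom (y.w_obj t) ≫ t.hom ≫ eqToHom (hAA y).symm := by
  haveI h0 : (FibCat.overCat U).p.IsHomLift t.hom
      (Over.homMk t.hom (Category.comp_id _) : t ⟶ Over.mk (𝟙 U)) :=
    IsHomLift.map (FibCat.overCat U).p
      (Over.homMk t.hom (Category.comp_id _) : t ⟶ Over.mk (𝟙 U))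
  haveI h1 : (AlgSt.QuotSt K G aX).p.IsHomLift t.hom (mm y t) :=
    BasedFunctor.preserves_isHomLift y t.hom _
  exact base_eq (mm y t) t.hom (y.w_obj t) (hAA y)

/-- the object of the slice over `U` attached to a point of the total space -/
noncomputable def tw (w : (AlgSt.ofSch (AA y).P).obj) : Over U := Over.mk (dn w ≫ piU y)

lemma kap_aux (w : (AlgSt.ofSch (AA y).P).obj) :
    eqToHom (y.w_obj (tw y w)).symm ≫ (mm y (tw y w)).base =
      (trivMor (AA y) (dn w)).base := by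
  rw [mm_base, trivMor_base]
  exact e_p1 (y.w_obj (tw y w)) (hAA y) (dn w) (AA y).π

/-- the comparison morphism from the trivial object to `y (tw w)` -/
noncomputable def kap (w : (AlgSt.ofSch (AA y).P).obj) :
    (AlgSt.quotMap K G aX).obj (pt (dn w ≫ (AA y).φ)) ⟶ y.obj (tw y w) :=
  (cart_lift (mm y (tw y w)) (trivMor (AA y) (dn w)) (eqToHom (y.w_obj (tw y w)).symm)
    (kap_aux y w)).choose

lemma kap_base (w : (AlgSt.ofSch (AA y).P).obj) :
    (kap y w).base = eqToHom (y.w_obj (tw y w)).symm :=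
  (cart_lift (mm y (tw y w)) (trivMor (AA y) (dn w)) (eqToHom (y.w_obj (tw y w)).symm)
    (kap_aux y w)).choose_spec.1

lemma kap_comp (w : (AlgSt.ofSch (AA y).P).obj) :
    kap y w ≫ mm y (tw y w) = trivMor (AA y) (dn w) :=
  (cart_lift (mm y (tw y w)) (trivMor (AA y) (dn w)) (eqToHom (y.w_obj (tw y w)).symm)
    (kap_aux y w)).choose_spec.2

lemma isIso_kap (w : (AlgSt.ofSch (AA y).P).obj) : IsIso (kap y w) := by
  haveI : IsIso (kap y w).base := by
    rw [kap_base]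
    exact (inferInstance : IsIso (eqToHom (y.w_obj (tw y w)).symm))
  obtain ⟨i, hi⟩ := exists_iso_of_isIso_base (kap y w)
  rw [← hi]
  infer_instance

/-- the isomorphism `y (tw w) ≅ π (w ≫ φ)` -/
noncomputable def alp (w : (AlgSt.ofSch (AA y).P).obj) :
    y.obj (tw y w) ≅ (ff K aX).obj (Over.mk (dn w ≫ (AA y).φ)) :=
  (@asIso _ _ _ _ (kap y w) (isIso_kap y w)).symm

lemma alp_lift (w : (AlgSt.ofSch (AA y).P).obj) :
    (AlgSt.QuotSt K G aX).p.IsHomLift (𝟙 ((FibCat.overCat U).p.obj (tw y w))) (alp y w).hom := by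
  haveI := isIso_kap y w
  haveI h1 : (AlgSt.QuotSt K G aX).p.IsHomLift (𝟙 w.base) (kap y w) :=
    isHomLift_of_base (kap y w) rfl (y.w_obj (tw y w)) (kap_base y w)
  exact IsHomLift.lift_id_inv_isIso (AlgSt.QuotSt K G aX).p w.base (kap y w)

/-- the object of the fibre product attached to a point of the total space -/
noncomputable def eObj (w : (AlgSt.ofSch (AA y).P).obj) : (FibCat.fp y (ff K aX)).obj :=
  fpMk y (ff K aX) (tw y w) (Over.mk (dn w ≫ (AA y).φ)) (alp y w) (alp_lift y w)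

/-- first component of the image of a morphism -/
noncomputable def aK {w w' : (AlgSt.ofSch (AA y).P).obj} (k : w ⟶ w') : tw y w ⟶ tw y w' :=
  Over.homMk k.hom (by
    show k.hom ≫ (dn w' ≫ piU y) = dn w ≫ piU y
    rw [← Category.assoc, dn_comp])

/-- second component of the image of a morphism -/
noncomputable def bK {w w' : (AlgSt.ofSch (AA y).P).obj} (k : w ⟶ w') :
    (Over.mk (dn w ≫ (AA y).φ) : Over X) ⟶ Over.mk (dn w' ≫ (AA y).φ) :=
  Over.homMk k.hom (by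
    show k.hom ≫ (dn w' ≫ (AA y).φ) = dn w ≫ (AA y).φ
    rw [← Category.assoc, dn_comp])

lemma kap_nat {w w' : (AlgSt.ofSch (AA y).P).obj} (k : w ⟶ w') :
    kap y w ≫ y.map (aK y k) = (ff K aX).map (bK y k) ≫ kap y w' := by
  apply cart_uniq (mm y (tw y w'))
  · haveI h0 : (FibCat.overCat U).p.IsHomLift k.hom (aK y k) :=
      IsHomLift.map (FibCat.overCat U).p (aK y k)
    haveI h1 : (AlgSt.QuotSt K G aX).p.IsHomLift k.hom (y.map (aK y k)) :=
      BasedFunctor.preserves_isHomLift y k.hom _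
    have e1 : (y.map (aK y k)).base =
        eqToHom (y.w_obj (tw y w)) ≫ k.hom ≫ eqToHom (y.w_obj (tw y w')).symm :=
      base_eq (y.map (aK y k)) k.hom (y.w_obj (tw y w)) (y.w_obj (tw y w'))
    have e2 : ((ff K aX).map (bK y k)).base = k.hom := rfl
    rw [AlgSt.QuotObj.comp_base, AlgSt.QuotObj.comp_base, kap_base, kap_base, e1, e2]
    exact e_p2 (y.w_obj (tw y w)) (y.w_obj (tw y w')) k.hom
  · calc (kap y w ≫ y.map (aK y k)) ≫ mm y (tw y w')
        = kap y w ≫ y.map (aK y k) ≫ mm y (tw y w') := Category.assoc _ _ _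
      _ = kap y w ≫ mm y (tw y w) := congrArg (fun m => kap y w ≫ m) (mm_nat y (aK y k))
      _ = trivMor (AA y) (dn w) := kap_comp y w
      _ = (ff K aX).map (bK y k) ≫ trivMor (AA y) (dn w') :=
          (trivMor_nat (AA y) (dn w) (dn w') ((AlgSt.ofOverCat X).map (bK y k))
            (dn_comp k)).symm
      _ = (ff K aX).map (bK y k) ≫ kap y w' ≫ mm y (tw y w') :=
          congrArg (fun m => (ff K aX).map (bK y k) ≫ m) (kap_comp y w').symm
      _ = ((ff K aX).map (bK y k) ≫ kap y w') ≫ mm y (tw y w') := (Category.assoc _ _ _).symm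

lemma alp_nat {w w' : (AlgSt.ofSch (AA y).P).obj} (k : w ⟶ w') :
    y.map (aK y k) ≫ (alp y w').hom = (alp y w).hom ≫ (ff K aX).map (bK y k) := by
  haveI := isIso_kap y w
  haveI := isIso_kap y w'
  exact iso_sq' (kap y w) (kap y w') (y.map (aK y k)) ((ff K aX).map (bK y k)) (kap_nat y k)

/-- the functor from the total space to the fibre product -/
noncomputable def EE : AlgSt.ofSch (AA y).P ⥤ᵇ FibCat.fp y (ff K aX) where
  toFunctor :=
    { obj := fun w => eObj y w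
      map := fun {w w'} k =>
        fpHomMk (X := eObj y w) (Y := eObj y w') (aK y k) (bK y k) (alp_nat y k)
      map_id := fun w => fp_hom_ext (Over.OverMorphism.ext rfl) (Over.OverMorphism.ext rfl)
      map_comp := fun k k' =>
        fp_hom_ext (Over.OverMorphism.ext rfl) (Over.OverMorphism.ext rfl) }
  w := rfl

theorem EE_faithful : (EE y).toFunctor.Faithful where
  map_injective := by
    intro w w' k k' h
    apply Stk.EltObj.hom_ext
    exact congrArg (fun m => m.hom.fst.left) h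

theorem EE_full : (EE y).toFunctor.Full where
  map_surjective := by
    intro w w' ψ
    haveI := isIso_kap y w
    haveI := isIso_kap y w'
    obtain ⟨a, ha⟩ : ∃ a : tw y w ⟶ tw y w', a = ψ.hom.fst := ⟨_, rfl⟩
    obtain ⟨b, hb⟩ : ∃ b : (Over.mk (dn w ≫ (AA y).φ) : Over X) ⟶ Over.mk (dn w' ≫ (AA y).φ),
      b = ψ.hom.snd := ⟨_, rfl⟩
    have hw : y.map a ≫ (alp y w').hom = (alp y w).hom ≫ (ff K aX).map b := by
      rw [ha, hb]
      exact ψ.hom.w
    have hab : a.left = b.left := by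
      have hl : (FibCat.overCat X).p.IsHomLift a.left b := by
        rw [ha, hb]
        exact FibCat.fp_isHomLift_snd (F := y) (G := ff K aX) ψ
      exact @IsHomLift.eq_of_isHomLift _ _ _ _ (FibCat.overCat X).p
        (Over.mk (dn w ≫ (AA y).φ) : Over X) (Over.mk (dn w' ≫ (AA y).φ) : Over X) a.left b hl
    have key : kap y w ≫ y.map a = (ff K aX).map b ≫ kap y w' :=
      iso_sq'' (kap y w) (kap y w') (y.map a) ((ff K aX).map b) hw
    have key2 : trivMor (AA y) (dn w) = (ff K aX).map b ≫ trivMor (AA y) (dn w') :=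
      calc trivMor (AA y) (dn w) = kap y w ≫ mm y (tw y w) := (kap_comp y w).symm
        _ = kap y w ≫ y.map a ≫ mm y (tw y w') :=
            congrArg (fun m => kap y w ≫ m) (mm_nat y a).symm
        _ = (kap y w ≫ y.map a) ≫ mm y (tw y w') := (Category.assoc _ _ _).symm
        _ = ((ff K aX).map b ≫ kap y w') ≫ mm y (tw y w') :=
            congrArg (fun m => m ≫ mm y (tw y w')) key
        _ = (ff K aX).map b ≫ kap y w' ≫ mm y (tw y w') := Category.assoc _ _ _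
        _ = (ff K aX).map b ≫ trivMor (AA y) (dn w') :=
            congrArg (fun m => (ff K aX).map b ≫ m) (kap_comp y w')
    have key3 : (G ◁ b.left) ≫ (G ◁ dn w') ≫ (AA y).act.act = (G ◁ dn w) ≫ (AA y).act.act := by
      have h1 : (trivMor (AA y) (dn w)).top =
          ((ff K aX).map b).top ≫ (trivMor (AA y) (dn w')).top :=
        congrArg (fun m => m.top) key2
      rw [trivMor_top, trivMor_top] at h1
      exact h1.symm
    have hk : a.left ≫ dn w' = dn w := by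
      rw [hab]
      exact point_eq_of_act_eq b.left (dn w) (dn w') key3
    refine ⟨⟨a.left, congrArg ULift.up hk⟩, ?_⟩
    apply fp_hom_ext
    · exact Eq.trans (Over.OverMorphism.ext rfl) ha
    · exact Eq.trans (Over.OverMorphism.ext hab) hb

theorem hasPre_aux (t : Over U) (ξ : Over X) (α : y.obj t ≅ (ff K aX).obj ξ)
    (hz : (AlgSt.QuotSt K G aX).p.IsHomLift (𝟙 t.left) α.hom) :
    ∃ (p : t.left ⟶ (AA y).P) (eₗ : tw y (pt p) ≅ t)
      (eᵣ : (Over.mk (dn (pt p) ≫ (AA y).φ) : Over X) ≅ ξ),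
      y.map eₗ.hom ≫ α.hom = (alp y (pt p)).hom ≫ (ff K aX).map eᵣ.hom ∧
        (FibCat.overCat U).p.map eₗ.hom = 𝟙 t.left := by
  haveI := hz
  have hξt : ξ.left = t.left :=
    IsHomLift.codomain_eq (AlgSt.QuotSt K G aX).p (𝟙 t.left) α.hom
  have hyt : (y.obj t).base = t.left := y.w_obj t
  haveI hz' : (AlgSt.QuotSt K G aX).p.IsHomLift (𝟙 t.left) α.inv :=
    IsHomLift.lift_id_inv (AlgSt.QuotSt K G aX).p t.left α
  obtain ⟨θ, hθ⟩ : ∃ θ : (AlgSt.quotMap K G aX).obj (pt (X := X) ξ.hom) ⟶ AA y,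
      θ = α.inv ≫ mm y t := ⟨_, rfl⟩
  obtain ⟨p, hp⟩ : ∃ p : t.left ⟶ (AA y).P,
      p = eqToHom hξt.symm ≫ lift (1 : ξ.left ⟶ G) (𝟙 ξ.left) ≫ θ.top := ⟨_, rfl⟩
  obtain ⟨h1, h2, h3⟩ := triv_point θ (eqToHom hξt.symm) p hp
  have e2 : α.inv.base = eqToHom hξt ≫ 𝟙 t.left ≫ eqToHom hyt.symm :=
    base_eq α.inv (𝟙 t.left) hξt hyt
  have hθb : θ.base = eqToHom hξt ≫ t.hom ≫ eqToHom (hAA y).symm := by
    rw [hθ, AlgSt.QuotObj.comp_base, e2, mm_base]
    exact e_p3 hξt hyt (hAA y) t.hom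
  have hpU : p ≫ piU y = t.hom :=
    calc p ≫ piU y = (p ≫ (AA y).π) ≫ eqToHom (hAA y) := (Category.assoc _ _ _).symm
      _ = (eqToHom hξt.symm ≫ (eqToHom hξt ≫ t.hom ≫ eqToHom (hAA y).symm)) ≫
            eqToHom (hAA y) := by rw [h1, hθb]
      _ = t.hom := e_p4 hξt (hAA y) t.hom
  obtain ⟨eₗ, heₗ⟩ : ∃ e : tw y (pt p) ≅ t, (FibCat.overCat U).p.map e.hom = 𝟙 t.left :=
    ⟨Over.isoMk (Iso.refl t.left) ((Category.id_comp _).trans hpU.symm), rfl⟩
  obtain ⟨eᵣ, heᵣ⟩ : ∃ e : (Over.mk (dn (pt p) ≫ (AA y).φ) : Over X) ≅ ξ,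
      e.hom.left = eqToHom hξt.symm :=
    ⟨Over.isoMk (eqToIso hξt.symm) h2.symm, rfl⟩
  haveI := isIso_kap y (pt p)
  have key : kap y (pt p) ≫ y.map eₗ.hom = (ff K aX).map eᵣ.hom ≫ α.inv := by
    apply cart_uniq (mm y t)
    · haveI h0 : (FibCat.overCat U).p.IsHomLift (𝟙 t.left) eₗ.hom := by
        have := IsHomLift.map (FibCat.overCat U).p eₗ.hom
        rw [heₗ] at this
        exact this
      haveI h1' : (AlgSt.QuotSt K G aX).p.IsHomLift (𝟙 t.left) (y.map eₗ.hom) :=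
        BasedFunctor.preserves_isHomLift y (𝟙 t.left) _
      have e1 : (y.map eₗ.hom).base =
          eqToHom (y.w_obj (tw y (pt p))) ≫ 𝟙 t.left ≫ eqToHom hyt.symm :=
        base_eq (y.map eₗ.hom) (𝟙 t.left) (y.w_obj (tw y (pt p))) hyt
      have e3 : ((ff K aX).map eᵣ.hom).base = eqToHom hξt.symm := heᵣ
      rw [AlgSt.QuotObj.comp_base, AlgSt.QuotObj.comp_base, kap_base, e1, e2, e3]
      exact (e_p5 (y.w_obj (tw y (pt p))) hyt).trans (e_p5 hξt hyt).symm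
    · calc (kap y (pt p) ≫ y.map eₗ.hom) ≫ mm y t
          = kap y (pt p) ≫ y.map eₗ.hom ≫ mm y t := Category.assoc _ _ _
        _ = kap y (pt p) ≫ mm y (tw y (pt p)) :=
            congrArg (fun m => kap y (pt p) ≫ m) (mm_nat y eₗ.hom)
        _ = trivMor (AA y) p := kap_comp y (pt p)
        _ = (ff K aX).map eᵣ.hom ≫ θ := (h3 ((AlgSt.ofOverCat X).map eᵣ.hom) heᵣ).symm
        _ = (ff K aX).map eᵣ.hom ≫ α.inv ≫ mm y t :=
            congrArg (fun m => (ff K aX).map eᵣ.hom ≫ m) hθ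
        _ = ((ff K aX).map eᵣ.hom ≫ α.inv) ≫ mm y t := (Category.assoc _ _ _).symm
  have wcond : y.map eₗ.hom ≫ α.hom = (alp y (pt p)).hom ≫ (ff K aX).map eᵣ.hom :=
    iso_sq (kap y (pt p)) α (y.map eₗ.hom) ((ff K aX).map eᵣ.hom) key
  exact ⟨p, eₗ, eᵣ, wcond, heₗ⟩

theorem EE_hasPre : HasPre (EE y) := by
  intro z
  obtain ⟨p, eₗ, eᵣ, hw, hl⟩ := hasPre_aux y z.obj.fst z.obj.snd z.obj.iso z.property
  refine ⟨pt p, fpIsoMk (X := (EE y).obj (pt p)) (Y := z) eₗ eᵣ hw, ?_⟩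
  rw [fp_isHomLift_iff]
  have h0 : (FibCat.overCat U).p.IsHomLift ((FibCat.overCat U).p.map eₗ.hom) eₗ.hom :=
    IsHomLift.map (FibCat.overCat U).p eₗ.hom
  rw [hl] at h0
  exact h0

theorem EE_equiv : FibCat.IsEquivOver (EE y) := by
  haveI := EE_full y
  haveI := EE_faithful y
  exact isEquivOver_of_hasPre _ (EE_hasPre y)

theorem spMap_EE :
    AlgSt.spMapOfOver (BasedFunctor.comp (EE y) (FibCat.fpFst y (ff K aX))) =
      (AlgSp.yon S).map (piU y) := by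
  apply ObjectProperty.hom_ext
  ext T x
  induction T using Opposite.rec with | _ T => ?_
  show (AlgSt.spMapOfOver (BasedFunctor.comp (EE y) (FibCat.fpFst y (ff K aX)))).hom.app
    (op T) x = _
  rw [AlgSt.spMapOfOver_app]
  apply ULift.ext
  show AlgSt.secHom (BasedFunctor.comp (EE y) (FibCat.fpFst y (ff K aX))) ⟨T, x⟩ =
    x.down ≫ piU y
  unfold AlgSt.secHom
  exact Category.id_comp _

lemma prop_piU (P : MorphismProperty Scheme.{u}) [P.RespectsIso] (h : P (AA y).π.left) :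
    P (piU y).left := by
  haveI h1 : IsIso (eqToHom (hAA y)) := inferInstance
  haveI h2 : IsIso (eqToHom (hAA y)).left :=
    (Functor.map_isIso (Over.forget S) (eqToHom (hAA y)) :
      IsIso ((Over.forget S).map (eqToHom (hAA y))))
  exact (P.cancel_right_of_respectsIso (AA y).π.left (eqToHom (hAA y)).left).2 h

end Rep

section Geom

lemma toUnit_left (Y : Over S) : (toUnit Y).left = Y.hom :=
  (Category.comp_id _).symm.trans (Over.w (toUnit Y))

theorem prop_pi (P : MorphismProperty Scheme.{u}) [P.IsStableUnderBaseChange]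
    [P.IsLocalAtTarget Scheme.fppfPrecoverage] (hG : P G.hom)
    (A : AlgSt.QuotObj Scheme.fppfPrecoverage G aX) : P A.π.left := by
  obtain ⟨R, hR, hsec⟩ := A.loc
  refine MorphismProperty.IsLocalAtTarget.of_forall_pullbackSnd (P := P)
    (K := Scheme.fppfPrecoverage) hR ?_
  intro V g _ hg
  obtain ⟨s, hs⟩ := hsec g hg
  have hs' : s ≫ A.π.left = g := hs
  have hσ : s ≫ A.P.hom = g ≫ A.base.hom := by
    rw [← Over.w A.π, ← Category.assoc, hs']
  obtain ⟨T, hT⟩ : ∃ T : Over S, T = Over.mk (g ≫ A.base.hom) := ⟨_, rfl⟩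
  subst hT
  obtain ⟨σ, hσ'⟩ : ∃ σ : Over.mk (g ≫ A.base.hom) ⟶ A.P, σ.left = s :=
    ⟨Over.homMk s hσ, rfl⟩
  obtain ⟨gT, hgT⟩ : ∃ gT : Over.mk (g ≫ A.base.hom) ⟶ A.base, gT.left = g :=
    ⟨Over.homMk g rfl, rfl⟩
  have hb : (trivMor A σ).base = gT := by
    rw [trivMor_base]
    apply Over.OverMorphism.ext
    rw [Over.comp_left, hσ', hgT]
    exact hs'
  have hc : IsPullback (trivMor A σ).top (snd G (Over.mk (g ≫ A.base.hom))) A.π gT := by
    have := (trivMor A σ).cart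
    rw [hb] at this
    exact this
  have sqL : IsPullback (trivMor A σ).top.left (snd G (Over.mk (g ≫ A.base.hom))).left
      A.π.left gT.left := hc.map (Over.forget S)
  rw [hgT] at sqL
  rw [← Groth.Agent.H5.AlgSp.prop_of_isPullback_snd_iff (P := P) sqL]
  have sqG : IsPullback (fst G (Over.mk (g ≫ A.base.hom))).left
      (snd G (Over.mk (g ≫ A.base.hom))).left (toUnit G).left
      (toUnit (Over.mk (g ≫ A.base.hom))).left :=
    (AlgSt.isPullback_fst_snd G (Over.mk (g ≫ A.base.hom))).map (Over.forget S)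
  refine MorphismProperty.of_isPullback (P := P) sqG ?_
  rw [toUnit_left]
  exact hG

theorem surj_pi (A : AlgSt.QuotObj Scheme.fppfPrecoverage G aX) : Surjective A.π.left := by
  obtain ⟨R, hR, hsec⟩ := A.loc
  refine ⟨fun b => ?_⟩
  obtain ⟨V, g, hg, v, hv⟩ := Groth.Agent.H5.AlgSp.exists_mem_range_of_mem_fppf hR b
  obtain ⟨s, hs⟩ := hsec g hg
  have hs' : s ≫ A.π.left = g := hs
  refine ⟨s v, ?_⟩
  rw [← Scheme.Hom.comp_apply, hs', hv]

theorem rep_main (P : MorphismProperty Scheme.{u}) [P.IsStableUnderBaseChange]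
    [P.IsStableUnderComposition] [P.IsLocalAtTarget Scheme.fppfPrecoverage]
    (hE : (@Etale : MorphismProperty Scheme.{u}) ≤ P) (hG : P G.hom) :
    AlgSt.RepByAlgSpWith (AlgSp.LocP P) (ff Scheme.fppfPrecoverage aX) := by
  intro U y
  refine ⟨⟨(AlgSp.yon S).obj (AA y).P, AlgSp.IsAlgSpace.yon_obj _⟩, EE y, EE_equiv y, ?_⟩
  show AlgSp.LocP P (AlgSt.spMapOfOver
    (BasedFunctor.comp (EE y) (FibCat.fpFst y (ff Scheme.fppfPrecoverage aX))))
  rw [spMap_EE]
  apply Groth.Agent.H5.AlgSp.locP_of_repWith hE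
  rw [AlgSp.repWith_yon_map_iff]
  exact prop_piU y P (prop_pi P hG (AA y))

theorem surj_main :
    AlgSt.RepByAlgSpWith AlgSp.IsSurjectiveMor (ff Scheme.fppfPrecoverage aX) := by
  intro U y
  refine ⟨⟨(AlgSp.yon S).obj (AA y).P, AlgSp.IsAlgSpace.yon_obj _⟩, EE y, EE_equiv y, ?_⟩
  show AlgSp.IsSurjectiveMor (AlgSt.spMapOfOver
    (BasedFunctor.comp (EE y) (FibCat.fpFst y (ff Scheme.fppfPrecoverage aX))))
  rw [spMap_EE]
  apply Groth.Agent.H5.AlgSp.points_map_surjective_of_repWith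
  rw [AlgSp.repWith_yon_map_iff]
  exact prop_piU y @Surjective (surj_pi (AA y))

example : MorphismProperty.IsLocalAtTarget (@Flat) Scheme.fppfPrecoverage.{u} := inferInstance
example : MorphismProperty.IsLocalAtTarget (@LocallyOfFinitePresentation)
    Scheme.fppfPrecoverage.{u} := inferInstance

end Geom

end Groth.Agent.H4.QstE
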