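import Mathlib
import Groth.Prelude.Def_AlgSt5
import Groth.Agent.H4.QstA
import Groth.Agent.H4.QstB
import Groth.Agent.H4.QstC
import Groth.Agent.H4.QstD
import Groth.Agent.H4.QstE

set_option autoImplicit false

open CategoryTheory CategoryTheory.Limits MonoidalCategory CartesianMonoidalCategory MonObj GrpObj
  AlgebraicGeometry Opposite

universe u

namespace Groth.Agent.H4.QstF

open Groth.Agent.H4 Groth.Agent.H4.QstA Groth.Agent.H4.QstC Groth.Agent.H4.QstD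

section EqToHom

universe v₁ u₁

variable {C : Type u₁} [Category.{v₁} C]

lemma e_q1 {a b c : C} (hA : a = b) (hB : c = b) :
    eqToHom hB.symm = eqToHom hA.symm ≫ (eqToHom hA ≫ 𝟙 b ≫ eqToHom hB.symm) := by
  subst hA
  simp

lemma e_q2 {a b c d : C} (h : a = b) (t : b ⟶ c) (φ : c ⟶ d) :
    eqToHom h.symm ≫ (eqToHom h ≫ t) ≫ φ = t ≫ φ := by
  subst h
  simp

lemma e_q3 {a b : C} (h : a = b) (t : b ⟶ a) (ht : t = eqToHom h.symm) :
    eqToHom h ≫ t = 𝟙 a := by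
  subst h
  subst ht
  simp

end EqToHom

variable {S : Scheme.{u}} {G : Over S} [GrpObj G] {X : Over S} {aX : AlgGrp.Action G X}

/-- étale-locally trivial torsors over the spectrum of an algebraically closed field have
sections -/
theorem exists_section_et (A : AlgSt.QuotObj Scheme.etalePrecoverage G aX)
    (Ω : Type u) [Field Ω] [IsAlgClosed Ω] (e : A.base.left ≅ Spec (CommRingCat.of Ω)) :
    ∃ s : A.base ⟶ A.P, s ≫ A.π = 𝟙 A.base := by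
  obtain ⟨R, hR, hsec⟩ := A.loc
  have hR' : R ∈ Scheme.precoverage @Etale A.base.left := hR
  have h1 := (Presieve.mem_comap_jointlySurjectivePrecoverage_iff (F := Scheme.forget)).1 hR'.1
  obtain ⟨W, f, hf, w, -⟩ := h1 (e.inv (IsLocalRing.closedPoint Ω))
  haveI : Nonempty W := ⟨w⟩
  haveI : Etale f := hR'.2 hf
  haveI : LocallyOfFinitePresentation f := inferInstance
  haveI : LocallyOfFiniteType (f ≫ e.hom) := inferInstance
  haveI : JacobsonSpace W := LocallyOfFiniteType.jacobsonSpace (f ≫ e.hom)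
  obtain ⟨w₀, hw₀⟩ : (closedPoints W).Nonempty := by
    by_contra h
    rw [Set.not_nonempty_iff_eq_empty] at h
    have h2 : closure (closedPoints W) = Set.univ := closure_closedPoints
    rw [h, closure_empty] at h2
    exact Set.empty_ne_univ h2
  obtain ⟨sW, hsW⟩ := hsec f hf
  have hsW' : sW ≫ A.π.left = f := hsW
  obtain ⟨σ, hσ⟩ : ∃ σ : Spec (CommRingCat.of Ω) ⟶ W, σ ≫ f ≫ e.hom = 𝟙 _ :=
    ⟨pointOfClosedPoint (f ≫ e.hom) w₀ hw₀, pointOfClosedPoint_comp (f ≫ e.hom) w₀ hw₀⟩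
  have h3 : (e.hom ≫ σ ≫ sW) ≫ A.π.left = 𝟙 _ := by
    rw [Category.assoc, Category.assoc, hsW']
    calc e.hom ≫ σ ≫ f = e.hom ≫ (σ ≫ f ≫ e.hom) ≫ e.inv := by simp
      _ = 𝟙 _ := by rw [hσ]; simp
  refine ⟨Over.homMk (e.hom ≫ σ ≫ sW) ?_, ?_⟩
  · rw [← Over.w A.π, ← Category.assoc (e.hom ≫ σ ≫ sW) A.π.left A.base.hom, h3,
      Category.id_comp]
  · ext
    exact h3

theorem main14196 (T : Over S) (Ω : Type u) [Field Ω] [IsAlgClosed Ω]
    (e : T.left ≅ Spec (CommRingCat.of Ω)) :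
    (∀ A : (AlgSt.QuotObj.forget Scheme.etalePrecoverage G aX).Fiber T,
        ∃ t : T ⟶ A.1.P, t ≫ A.1.π = eqToHom A.2.symm) ∧
    (∀ (A B : (AlgSt.QuotObj.forget Scheme.etalePrecoverage G aX).Fiber T)
        (tA : T ⟶ A.1.P) (tB : T ⟶ B.1.P),
        tA ≫ A.1.π = eqToHom A.2.symm → tB ≫ B.1.π = eqToHom B.2.symm →
        (Nonempty (A ≅ B) ↔
          ∃ g : T ⟶ G, lift g (tA ≫ A.1.φ) ≫ aX.act = tB ≫ B.1.φ)) ∧
    (∀ x : T ⟶ X,
        ∃ (A : (AlgSt.QuotObj.forget Scheme.etalePrecoverage G aX).Fiber T) (t : T ⟶ A.1.P),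
          t ≫ A.1.π = eqToHom A.2.symm ∧ t ≫ A.1.φ = x) := by
  refine ⟨fun A => ?_, fun A B tA tB hA hB => ⟨?_, ?_⟩, fun x => ?_⟩
  · have hA2 : A.1.base = T := A.2
    obtain ⟨s, hs⟩ := exists_section_et A.1 Ω
      (eqToIso (congrArg (fun Z : Over S => Z.left) hA2) ≪≫ e)
    refine ⟨eqToHom hA2.symm ≫ s, ?_⟩
    rw [Category.assoc, hs, Category.comp_id]
    rfl
  · rintro ⟨i⟩
    have hA2 : A.1.base = T := A.2
    have hB2 : B.1.base = T := B.2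
    obtain ⟨h, hh⟩ : ∃ h : A.1 ⟶ B.1, h = i.hom.1 := ⟨_, rfl⟩
    haveI : (AlgSt.QuotSt Scheme.etalePrecoverage G aX).p.IsHomLift (𝟙 T) h := by
      rw [hh]
      exact i.hom.2
    have hb : h.base = eqToHom hA2 ≫ 𝟙 T ≫ eqToHom hB2.symm := QstE.base_eq h (𝟙 T) hA2 hB2
    have hw : tB ≫ B.1.π = (tA ≫ h.top) ≫ B.1.π := by
      calc tB ≫ B.1.π = eqToHom hB2.symm := hB
        _ = eqToHom hA2.symm ≫ (eqToHom hA2 ≫ 𝟙 T ≫ eqToHom hB2.symm) := e_q1 hA2 hB2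
        _ = (tA ≫ A.1.π) ≫ h.base := (congrArg₂ (fun x y => x ≫ y) hA hb).symm
        _ = tA ≫ A.1.π ≫ h.base := Category.assoc _ _ _
        _ = tA ≫ h.top ≫ B.1.π := by rw [h.cart.w]
        _ = (tA ≫ h.top) ≫ B.1.π := (Category.assoc _ _ _).symm
    obtain ⟨l, hl1, hl2⟩ : ∃ l : T ⟶ G ⊗ B.1.P,
        l ≫ B.1.act.act = tB ∧ l ≫ snd G B.1.P = tA ≫ h.top :=
      ⟨B.1.cart.lift tB (tA ≫ h.top) hw, B.1.cart.lift_fst _ _ _, B.1.cart.lift_snd _ _ _⟩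
    refine ⟨l ≫ fst G B.1.P, ?_⟩
    have hl : l = lift (l ≫ fst G B.1.P) (tA ≫ h.top) := by
      apply CartesianMonoidalCategory.hom_ext
      · rw [lift_fst]
      · rw [lift_snd, hl2]
    calc lift (l ≫ fst G B.1.P) (tA ≫ A.1.φ) ≫ aX.act
        = lift (l ≫ fst G B.1.P) ((tA ≫ h.top) ≫ B.1.φ) ≫ aX.act := by
          rw [Category.assoc, h.wφ]
      _ = (lift (l ≫ fst G B.1.P) (tA ≫ h.top) ≫ (G ◁ B.1.φ)) ≫ aX.act := by
          rw [lift_whiskerLeft]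
      _ = lift (l ≫ fst G B.1.P) (tA ≫ h.top) ≫ B.1.act.act ≫ B.1.φ := by
          rw [Category.assoc, B.1.eqv]
      _ = l ≫ B.1.act.act ≫ B.1.φ := by rw [← hl]
      _ = tB ≫ B.1.φ := by rw [← Category.assoc, hl1]
  · rintro ⟨g, hg⟩
    have hA2 : A.1.base = T := A.2
    have hB2 : B.1.base = T := B.2
    have hsA : (eqToHom hA2 ≫ tA) ≫ A.1.π = 𝟙 _ :=
      (Category.assoc _ _ _).trans (e_q3 hA2 (tA ≫ A.1.π) hA)
    have hsB : (eqToHom hB2 ≫ tB) ≫ B.1.π = 𝟙 _ :=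
      (Category.assoc _ _ _).trans (e_q3 hB2 (tB ≫ B.1.π) hB)
    have hg' : lift g (eqToHom hA2.symm ≫ (eqToHom hA2 ≫ tA) ≫ A.1.φ) ≫ aX.act =
        eqToHom hB2.symm ≫ (eqToHom hB2 ≫ tB) ≫ B.1.φ :=
      (congrArg (fun m => lift g m ≫ aX.act) (e_q2 hA2 tA A.1.φ)).trans
        (hg.trans (e_q2 hB2 tB B.1.φ).symm)
    obtain ⟨j⟩ := QstC.nonempty_fiber_iso (K := Scheme.etalePrecoverage) B A
      (eqToHom hB2 ≫ tB) hsB (eqToHom hA2 ≫ tA) hsA g hg'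
    exact ⟨j.symm⟩
  · refine ⟨⟨(AlgSt.quotMap Scheme.etalePrecoverage G aX).obj (pt x), rfl⟩,
      lift (1 : T ⟶ G) (𝟙 T), ?_, ?_⟩
    · exact (lift_snd _ _).trans (eqToHom_refl _ _).symm
    · show lift (1 : T ⟶ G) (𝟙 T) ≫ (G ◁ x) ≫ aX.act = x
      rw [lift_whiskerLeft_assoc, Category.id_comp, AlgGrp.Action.lift_one_act]

end Groth.Agent.H4.QstF
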