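import Mathlib

set_option autoImplicit false
set_option linter.unusedSectionVars false
set_option linter.unusedVariables false
set_option linter.style.haveILetI false

open Matrix Polynomial

namespace Groth.Agent.H4.QuadSplit
universe u v

/-! ### Basics on quadratic forms given by coefficient matrices -/
section Basics
variable {R : Type*} [CommRing R] {ι ι' : Type*} [Fintype ι] [DecidableEq ι] [Fintype ι']
  [DecidableEq ι']

def qf (C : Matrix ι ι R) (x : ι → R) : R := x ⬝ᵥ (C *ᵥ x)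

def pol (C : Matrix ι ι R) (x y : ι → R) : R := x ⬝ᵥ ((C + Cᵀ) *ᵥ y)

theorem dot_transpose (g : Matrix ι ι' R) (x : ι' → R) (w : ι → R) :
    x ⬝ᵥ (gᵀ *ᵥ w) = w ⬝ᵥ (g *ᵥ x) := by
  rw [Matrix.mulVec_transpose, dotProduct_comm, ← Matrix.dotProduct_mulVec]

theorem pol_eq (C : Matrix ι ι R) (x y : ι → R) :
    pol C x y = x ⬝ᵥ (C *ᵥ y) + y ⬝ᵥ (C *ᵥ x) := by
  unfold pol; rw [Matrix.add_mulVec, dotProduct_add, dot_transpose]

theorem qf_add (C : Matrix ι ι R) (x y : ι → R) :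
    qf C (x + y) = qf C x + qf C y + pol C x y := by
  rw [pol_eq]; unfold qf
  rw [Matrix.mulVec_add, dotProduct_add, add_dotProduct, add_dotProduct]; ring

theorem pol_comm (C : Matrix ι ι R) (x y : ι → R) : pol C x y = pol C y x := by
  rw [pol_eq, pol_eq, add_comm]

theorem pol_add_right (C : Matrix ι ι R) (x y z : ι → R) :
    pol C x (y + z) = pol C x y + pol C x z := by
  unfold pol; rw [Matrix.mulVec_add, dotProduct_add]

theorem pol_smul_right (C : Matrix ι ι R) (c : R) (x y : ι → R) :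
    pol C x (c • y) = c * pol C x y := by
  unfold pol; rw [Matrix.mulVec_smul, dotProduct_smul, smul_eq_mul]

theorem pol_self (C : Matrix ι ι R) (x : ι → R) : pol C x x = 2 * qf C x := by
  rw [pol_eq]; unfold qf; ring

theorem qf_smul (C : Matrix ι ι R) (c : R) (x : ι → R) : qf C (c • x) = c * c * qf C x := by
  unfold qf
  rw [Matrix.mulVec_smul, dotProduct_smul, smul_dotProduct, smul_eq_mul, smul_eq_mul]; ring

theorem qf_zero (C : Matrix ι ι R) : qf C 0 = 0 := by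
  unfold qf; rw [zero_dotProduct]

theorem pol_zero_right (C : Matrix ι ι R) (x : ι → R) : pol C x 0 = 0 := by
  unfold pol; rw [Matrix.mulVec_zero, dotProduct_zero]

theorem qf_mulVec (C : Matrix ι ι R) (g : Matrix ι ι' R) (x : ι' → R) :
    qf C (g *ᵥ x) = qf (gᵀ * C * g) x := by
  unfold qf
  rw [← Matrix.mulVec_mulVec, ← Matrix.mulVec_mulVec, dot_transpose]
  exact dotProduct_comm _ _

theorem pol_mulVec (C : Matrix ι ι R) (g : Matrix ι ι' R) (x y : ι' → R) :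
    pol C (g *ᵥ x) (g *ᵥ y) = pol (gᵀ * C * g) x y := by
  rw [pol_eq, pol_eq]
  rw [← Matrix.mulVec_mulVec, ← Matrix.mulVec_mulVec, ← Matrix.mulVec_mulVec,
    ← Matrix.mulVec_mulVec, dot_transpose, dot_transpose,
    dotProduct_comm (C *ᵥ g *ᵥ y), dotProduct_comm (C *ᵥ g *ᵥ x)]

theorem map_mulVec' {S : Type*} [CommRing S] (f : R →+* S) (C : Matrix ι ι' R) (x : ι' → R) :
    f ∘ (C *ᵥ x) = (C.map f) *ᵥ (f ∘ x) := by
  funext i; exact RingHom.map_mulVec f C x i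

theorem qf_map {S : Type*} [CommRing S] (f : R →+* S) (C : Matrix ι ι R) (x : ι → R) :
    f (qf C x) = qf (C.map f) (f ∘ x) := by
  unfold qf; rw [RingHom.map_dotProduct, map_mulVec']

theorem pol_map {S : Type*} [CommRing S] (f : R →+* S) (C : Matrix ι ι R) (x y : ι → R) :
    f (pol C x y) = pol (C.map f) (f ∘ x) (f ∘ y) := by
  rw [pol_eq, pol_eq, map_add, RingHom.map_dotProduct, RingHom.map_dotProduct, map_mulVec',
    map_mulVec']

theorem qf_single (C : Matrix ι ι R) (i : ι) : qf C (Pi.single i 1) = C i i := by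
  unfold qf; rw [Matrix.mulVec_single_one, single_dotProduct]; simp

theorem pol_single (C : Matrix ι ι R) (i j : ι) :
    pol C (Pi.single i 1) (Pi.single j 1) = C i j + C j i := by
  unfold pol; rw [Matrix.mulVec_single_one, single_dotProduct]; simp

theorem map_single {S : Type*} [CommRing S] (f : R →+* S) (i : ι) :
    f ∘ (Pi.single i (1 : R)) = Pi.single i 1 := by
  funext j
  by_cases h : j = i
  · subst h; simp
  · simp [Pi.single_apply, h]

def disc (C : Matrix ι ι R) (v w : ι → R) : R := (pol C v w) ^ 2 - 4 * qf C v * qf C w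

theorem disc_add_smul (C : Matrix ι ι R) (v w : ι → R) (c : R) :
    disc C v (w + c • v) = disc C v w := by
  unfold disc
  rw [pol_add_right, pol_smul_right, pol_self, qf_add, qf_smul, pol_smul_right,
    pol_comm C w v]
  ring

theorem disc_polarize (C : Matrix ι ι R) (v w w' : ι → R) :
    disc C v (w + w') - disc C v w - disc C v w' =
      2 * pol C v w * pol C v w' - 4 * qf C v * pol C w w' := by
  unfold disc; rw [pol_add_right, qf_add]; ring

theorem disc_map {S : Type*} [CommRing S] (f : R →+* S) (C : Matrix ι ι R) (v w : ι → R) :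
    f (disc C v w) = disc (C.map f) (f ∘ v) (f ∘ w) := by
  unfold disc
  rw [map_sub, map_pow, map_mul, map_mul, pol_map, qf_map, qf_map, map_ofNat]

theorem disc_mulVec (C : Matrix ι ι R) (g : Matrix ι ι' R) (x y : ι' → R) :
    disc C (g *ᵥ x) (g *ᵥ y) = disc (gᵀ * C * g) x y := by
  unfold disc; rw [pol_mulVec, qf_mulVec, qf_mulVec]

theorem disc_single (C : Matrix ι ι R) (i j : ι) :
    disc C (Pi.single i 1) (Pi.single j 1) = (C i j + C j i) ^ 2 - 4 * C i i * C j j := by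
  unfold disc; rw [pol_single, qf_single, qf_single]

theorem disc_zero_right (C : Matrix ι ι R) (v : ι → R) : disc C v 0 = 0 := by
  unfold disc; rw [pol_zero_right, qf_zero]; ring

end Basics

/-! ### Moving matrices -/
section Movers
variable {R : Type*} [CommRing R] {ι : Type*} [Fintype ι] [DecidableEq ι]

def Smat (R : Type*) [CommRing R] (c k : ι) : Matrix ι ι R :=
  (1 : Matrix ι ι R).submatrix (Equiv.swap c k) (Equiv.refl ι)

theorem Smat_det (c k : ι) : IsUnit (Smat R c k).det := by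
  unfold Smat
  have h := Matrix.det_permute (Equiv.swap c k) (1 : Matrix ι ι R)
  rw [show ((1 : Matrix ι ι R).submatrix (Equiv.swap c k) (Equiv.refl ι)) =
    (1 : Matrix ι ι R).submatrix (Equiv.swap c k) id from rfl, h, Matrix.det_one, mul_one]
  have h2 : ((((Equiv.Perm.sign (Equiv.swap c k) : ℤˣ) : ℤ) : R)) *
      ((((Equiv.Perm.sign (Equiv.swap c k) : ℤˣ) : ℤ) : R)) = 1 := by
    rw [← Int.cast_mul, ← Units.val_mul, Int.units_mul_self]; simp
  exact IsUnit.of_mul_eq_one _ h2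

theorem Smat_mulVec (c k : ι) (x : ι → R) : Smat R c k *ᵥ x = x ∘ (Equiv.swap c k) := by
  unfold Smat
  rw [Matrix.submatrix_mulVec_equiv]
  simp

theorem single_comp_swap (c k j : ι) :
    (Pi.single j (1 : R)) ∘ (Equiv.swap c k) = Pi.single (Equiv.swap c k j) 1 := by
  funext i
  simp only [Function.comp, Pi.single_apply]
  by_cases h : i = Equiv.swap c k j
  · subst h; simp
  · rw [if_neg h, if_neg]
    intro h'
    exact h (by rw [← h', Equiv.swap_apply_self])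

def Umat (f : ι → R) (k : ι) : Matrix ι ι R := (1 : Matrix ι ι R).updateCol k f

theorem Umat_det (f : ι → R) (k : ι) : (Umat f k).det = f k := by
  unfold Umat; rw [← Matrix.cramer_apply, Matrix.cramer_one]; rfl

theorem Umat_single_self (f : ι → R) (k : ι) : Umat f k *ᵥ Pi.single k 1 = f := by
  rw [Matrix.mulVec_single_one]; funext i; simp [Umat, Matrix.col, Matrix.updateCol_apply]

theorem Umat_single_ne (f : ι → R) (k j : ι) (h : j ≠ k) :
    Umat f k *ᵥ Pi.single j 1 = Pi.single j 1 := by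
  rw [Matrix.mulVec_single_one]; funext i
  simp [Umat, Matrix.col, Matrix.updateCol_apply, h, Matrix.one_apply, Pi.single_apply]

def Gmat (f : ι → R) (c k : ι) : Matrix ι ι R := Umat f k * Smat R c k

theorem Gmat_det_isUnit (f : ι → R) (c k : ι) (hf : IsUnit (f k)) : IsUnit (Gmat f c k).det := by
  unfold Gmat; rw [Matrix.det_mul, Umat_det]; exact hf.mul (Smat_det c k)

theorem Gmat_single (f : ι → R) (c k : ι) : Gmat f c k *ᵥ Pi.single c 1 = f := by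
  unfold Gmat
  rw [← Matrix.mulVec_mulVec, Smat_mulVec, single_comp_swap, Equiv.swap_apply_left,
    Umat_single_self]

theorem Gmat_single_fix (f : ι → R) (c k j : ι) (hjc : j ≠ c) (hjk : j ≠ k) :
    Gmat f c k *ᵥ Pi.single j 1 = Pi.single j 1 := by
  unfold Gmat
  rw [← Matrix.mulVec_mulVec, Smat_mulVec, single_comp_swap,
    Equiv.swap_apply_of_ne_of_ne hjc hjk, Umat_single_ne _ _ _ hjk]

end Movers

/-! ### Block lemmas -/
section Blocks
variable {R : Type*} [CommRing R] {ι₁ ι₂ : Type*} [Fintype ι₁] [DecidableEq ι₁] [Fintype ι₂]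
  [DecidableEq ι₂]

theorem dot_elim (x : ι₁ ⊕ ι₂ → R) (a : ι₁ → R) (b : ι₂ → R) :
    x ⬝ᵥ Sum.elim a b = (x ∘ Sum.inl) ⬝ᵥ a + (x ∘ Sum.inr) ⬝ᵥ b := by
  simp [dotProduct, Fintype.sum_sum_type]

theorem qf_blocks (N₁₁ : Matrix ι₁ ι₁ R) (N₁₂ : Matrix ι₁ ι₂ R) (N₂₁ : Matrix ι₂ ι₁ R)
    (N₂₂ : Matrix ι₂ ι₂ R) (h : N₁₂ + N₂₁ᵀ = 0) (x : ι₁ ⊕ ι₂ → R) :
    qf (fromBlocks N₁₁ N₁₂ N₂₁ N₂₂) x = qf N₁₁ (x ∘ Sum.inl) + qf N₂₂ (x ∘ Sum.inr) := by
  unfold qf
  rw [Matrix.fromBlocks_mulVec, dot_elim, dotProduct_add, dotProduct_add]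
  have h1 : (x ∘ Sum.inr) ⬝ᵥ (N₂₁ *ᵥ (x ∘ Sum.inl)) =
      (x ∘ Sum.inl) ⬝ᵥ (N₂₁ᵀ *ᵥ (x ∘ Sum.inr)) := (dot_transpose N₂₁ _ _).symm
  have h2 : (x ∘ Sum.inl) ⬝ᵥ (N₁₂ *ᵥ (x ∘ Sum.inr)) +
      (x ∘ Sum.inl) ⬝ᵥ (N₂₁ᵀ *ᵥ (x ∘ Sum.inr)) = 0 := by
    rw [← dotProduct_add, ← Matrix.add_mulVec, h, Matrix.zero_mulVec, dotProduct_zero]
  rw [h1]; linear_combination h2

theorem qf_two (T : Matrix (Fin 2) (Fin 2) R) (hT0 : T 0 0 = 0) (hT1 : T 1 1 = 0)
    (hT01 : T 0 1 + T 1 0 = 1) (y : Fin 2 → R) : qf T y = y 0 * y 1 := by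
  simp only [qf, dotProduct, Matrix.mulVec, Fin.sum_univ_two]
  linear_combination (y 0) ^ 2 * hT0 + (y 0 * y 1) * hT01 + (y 1) ^ 2 * hT1

theorem clear_blocks (N₁₁ : Matrix ι₁ ι₁ R) (N₁₂ : Matrix ι₁ ι₂ R) (N₂₁ : Matrix ι₂ ι₁ R)
    (N₂₂ : Matrix ι₂ ι₂ R) (Λ : Matrix ι₁ ι₂ R)
    (hΛ : (N₁₁ + N₁₁ᵀ) * Λ = N₁₂ + N₂₁ᵀ) :
    ∃ (B₅ : Matrix ι₁ ι₂ R) (C₅ : Matrix ι₂ ι₁ R) (D₅ : Matrix ι₂ ι₂ R),
      (fromBlocks 1 (-Λ) 0 1)ᵀ * fromBlocks N₁₁ N₁₂ N₂₁ N₂₂ * fromBlocks 1 (-Λ) 0 1 =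
        fromBlocks N₁₁ B₅ C₅ D₅ ∧ B₅ + C₅ᵀ = 0 := by
  refine ⟨N₁₂ - N₁₁ * Λ, N₂₁ - Λᵀ * N₁₁,
    (N₂₁ - Λᵀ * N₁₁) * (-Λ) + (N₂₂ - Λᵀ * N₁₂), ?_, ?_⟩
  · rw [Matrix.fromBlocks_transpose, Matrix.fromBlocks_multiply, Matrix.fromBlocks_multiply]
    simp only [Matrix.transpose_one, Matrix.transpose_zero, Matrix.transpose_neg, Matrix.one_mul,
      Matrix.zero_mul, Matrix.mul_one, Matrix.mul_zero, add_zero, zero_add, Matrix.neg_mul,
      Matrix.mul_neg]
    rw [Matrix.fromBlocks_inj]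
    refine ⟨rfl, ?_, ?_, ?_⟩
    · abel
    · abel
    · simp only [Matrix.add_mul, Matrix.sub_mul, Matrix.neg_mul]
      abel
  · rw [Matrix.transpose_sub, Matrix.transpose_mul, Matrix.transpose_transpose]
    have e : N₁₂ - N₁₁ * Λ + (N₂₁ᵀ - N₁₁ᵀ * Λ) = (N₁₂ + N₂₁ᵀ) - (N₁₁ + N₁₁ᵀ) * Λ := by
      rw [Matrix.add_mul]; abel
    rw [e, hΛ, sub_self]

theorem bin_blocks (N₁₁ : Matrix ι₁ ι₁ R) (B₅ : Matrix ι₁ ι₂ R) (C₅ : Matrix ι₂ ι₁ R)
    (D₅ : Matrix ι₂ ι₂ R) (M : Matrix ι₁ ι₁ R) (h : B₅ + C₅ᵀ = 0) :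
    (fromBlocks M 0 0 1)ᵀ * fromBlocks N₁₁ B₅ C₅ D₅ * fromBlocks M 0 0 1 =
        fromBlocks (Mᵀ * N₁₁ * M) (Mᵀ * B₅) (C₅ * M) D₅ ∧ Mᵀ * B₅ + (C₅ * M)ᵀ = 0 := by
  constructor
  · rw [Matrix.fromBlocks_transpose, Matrix.fromBlocks_multiply, Matrix.fromBlocks_multiply]
    simp only [Matrix.transpose_one, Matrix.transpose_zero, Matrix.one_mul,
      Matrix.zero_mul, Matrix.mul_one, Matrix.mul_zero, add_zero, zero_add]
  · rw [Matrix.transpose_mul, ← Matrix.mul_add, h, Matrix.mul_zero]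

end Blocks

/-! ### The 2×2 computation -/
section TwoByTwo
variable {R : Type*} [CommRing R]

def Mmat (N : Matrix (Fin 2) (Fin 2) R) (z αi θi : R) : Matrix (Fin 2) (Fin 2) R :=
  !![z, (z + (N 0 1 + N 1 0)) * αi * θi ^ 2; N 0 0, -θi ^ 2]

theorem two_by_two (N : Matrix (Fin 2) (Fin 2) R) (z αi θi : R)
    (hz : z ^ 2 + ((N 0 1 + N 1 0) * z + N 0 0 * N 1 1) = 0)
    (hα : N 0 0 * αi = 1) (hθ : (2 * z + (N 0 1 + N 1 0)) * θi = 1) :
    ((Mmat N z αi θi)ᵀ * N * Mmat N z αi θi) 0 0 = 0 ∧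
    ((Mmat N z αi θi)ᵀ * N * Mmat N z αi θi) 1 1 = 0 ∧
    ((Mmat N z αi θi)ᵀ * N * Mmat N z αi θi) 0 1 +
      ((Mmat N z αi θi)ᵀ * N * Mmat N z αi θi) 1 0 = 1 ∧
    (Mmat N z αi θi).det * (-(2 * z + (N 0 1 + N 1 0))) = 1 := by
  refine ⟨?_, ?_, ?_, ?_⟩
  · simp [Matrix.mul_apply, Fin.sum_univ_two, Mmat]
    linear_combination N 0 0 * hz
  · simp [Matrix.mul_apply, Fin.sum_univ_two, Mmat]
    linear_combination (αi * θi ^ 4) * hz +
      (αi * θi ^ 4 * (z + (N 0 1 + N 1 0)) ^ 2 - N 1 1 * θi ^ 4) * hα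
  · simp [Matrix.mul_apply, Fin.sum_univ_two, Mmat]
    linear_combination (θi ^ 2 * (z + (N 0 1 + N 1 0)) * (2 * z + (N 0 1 + N 1 0))) * hα
      - 2 * θi ^ 2 * hz + ((2 * z + (N 0 1 + N 1 0)) * θi + 1) * hθ
  · rw [Mmat, Matrix.det_fin_two_of]
    linear_combination ((2 * z + (N 0 1 + N 1 0)) * θi + 1) * hθ +
      ((2 * z + (N 0 1 + N 1 0)) * θi ^ 2 * (z + (N 0 1 + N 1 0))) * hα

theorem polar_det_two (N : Matrix (Fin 2) (Fin 2) R) (z θi : R)
    (hz : z ^ 2 + ((N 0 1 + N 1 0) * z + N 0 0 * N 1 1) = 0)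
    (hθ : (2 * z + (N 0 1 + N 1 0)) * θi = 1) : IsUnit (N + Nᵀ).det := by
  apply IsUnit.of_mul_eq_one (-(θi ^ 2))
  rw [Matrix.det_fin_two]
  simp only [Matrix.add_apply, Matrix.transpose_apply]
  linear_combination ((2 * z + (N 0 1 + N 1 0)) * θi + 1) * hθ - 4 * θi ^ 2 * hz

end TwoByTwo

/-! ### The étale-local framework -/
section Framework
variable {K : Type v} [Field K]

/-- étale-locally around the `K`-point `φ`, the quadratic form with coefficient matrix `Q`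
becomes the form `H` after an invertible linear change of variables. -/
def Good {R : Type u} [CommRing R] {ι : Type} [Fintype ι] [DecidableEq ι]
    (φ : R →+* K) (Q : Matrix ι ι R) (H : ∀ (B : Type u) [CommRing B], (ι → B) → B) : Prop :=
  ∃ (B : Type u) (_ : CommRing B) (_ : Algebra R B), Algebra.Etale R B ∧
    (∃ ψ : B →+* K, ψ.comp (algebraMap R B) = φ) ∧
    ∃ g : Matrix ι ι B, IsUnit g.det ∧
      ∀ x : ι → B, qf (Q.map (algebraMap R B)) (g *ᵥ x) = H B x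

/-- nondegeneracy of the polar form at the `K`-point `φ`. -/
def NonDeg {R : Type u} [CommRing R] {ι : Type} [Fintype ι] [DecidableEq ι]
    (φ : R →+* K) (Q : Matrix ι ι R) : Prop :=
  ∀ x : ι → K, ((Q + Qᵀ).map φ) *ᵥ x = 0 → x = 0

variable {R : Type u} [CommRing R] {ι : Type} [Fintype ι] [DecidableEq ι]
  {φ : R →+* K} {Q : Matrix ι ι R} {H : ∀ (B : Type u) [CommRing B], (ι → B) → B}

theorem Good.refl (φ : R →+* K) (Q : Matrix ι ι R)
    (H : ∀ (B : Type u) [CommRing B], (ι → B) → B)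
    (h : ∀ x : ι → R, qf Q x = H R x) : Good φ Q H := by
  refine ⟨R, inferInstance, inferInstance, inferInstance, ⟨φ, ?_⟩, 1, ?_, ?_⟩
  · ext a; rfl
  · rw [Matrix.det_one]; exact isUnit_one
  · intro x
    have e : Q.map (algebraMap R R) = Q := by ext i j; rfl
    rw [e, Matrix.one_mulVec]; exact h x

theorem Good.congrH {H₂ : ∀ (B : Type u) [CommRing B], (ι → B) → B}
    (hH : ∀ (B : Type u) [CommRing B] (x : ι → B), H B x = H₂ B x) (h : Good φ Q H) :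
    Good φ Q H₂ := by
  obtain ⟨B, _, _, hB, hψ, g, hg, hq⟩ := h
  exact ⟨B, inferInstance, inferInstance, hB, hψ, g, hg, fun x => (hq x).trans (hH B x)⟩

theorem Good.trans_etale (R' : Type u) [CommRing R'] [Algebra R R'] [Algebra.Etale R R']
    (φ' : R' →+* K) (hφ' : φ'.comp (algebraMap R R') = φ)
    (h : Good φ' (Q.map (algebraMap R R')) H) : Good φ Q H := by
  obtain ⟨B, _, _, hB, ⟨ψ, hψ⟩, g, hg, hq⟩ := h
  letI : Algebra R B := ((algebraMap R' B).comp (algebraMap R R')).toAlgebra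
  haveI : IsScalarTower R R' B := IsScalarTower.of_algebraMap_eq (fun _ => rfl)
  haveI := hB
  haveI : Algebra.Etale R B := Algebra.Etale.comp R R' B
  have e : Q.map (algebraMap R B) = (Q.map (algebraMap R R')).map (algebraMap R' B) := by
    ext i j; rfl
  refine ⟨B, inferInstance, inferInstance, inferInstance, ⟨ψ, ?_⟩, g, hg, ?_⟩
  · rw [← hφ', ← hψ]; rfl
  · intro x; rw [e]; exact hq x

theorem Good.step (φ : R →+* K) (Q : Matrix ι ι R)
    (H : ∀ (B : Type u) [CommRing B], (ι → B) → B) (P : StandardEtalePair R) (x : K)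
    (hx : eval₂ φ x P.f = 0) (hg : eval₂ φ x P.g ≠ 0)
    (Hn : ∀ (R' : Type u) [CommRing R'] [Algebra R R'] (φ' : R' →+* K),
      φ'.comp (algebraMap R R') = φ → ∀ z : R', aeval z P.f = 0 → IsUnit (aeval z P.g) →
      Good φ' (Q.map (algebraMap R R')) H) : Good φ Q H := by
  letI : Algebra R K := φ.toAlgebra
  have hmap : P.HasMap x :=
    ⟨by rw [aeval_def]; exact hx, by rw [aeval_def]; exact isUnit_iff_ne_zero.2 hg⟩
  let ψ : P.Ring →ₐ[R] K := P.lift x hmap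
  have hψ : (ψ : P.Ring →+* K).comp (algebraMap R P.Ring) = φ := by
    ext a; exact ψ.commutes a
  exact Good.trans_etale P.Ring (ψ : P.Ring →+* K) hψ
    (Hn P.Ring (ψ : P.Ring →+* K) hψ P.X P.hasMap_X.1 P.hasMap_X.2)

theorem Good.localize (φ : R →+* K) (Q : Matrix ι ι R)
    (H : ∀ (B : Type u) [CommRing B], (ι → B) → B) (a : R) (ha : φ a ≠ 0)
    (Hn : ∀ (R' : Type u) [CommRing R'] [Algebra R R'] (φ' : R' →+* K),
      φ'.comp (algebraMap R R') = φ → IsUnit (algebraMap R R' a) →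
      Good φ' (Q.map (algebraMap R R')) H) : Good φ Q H := by
  have hu : IsUnit (φ a) := isUnit_iff_ne_zero.2 ha
  let φ' : Localization.Away a →+* K := IsLocalization.Away.lift a hu
  have hφ' : φ'.comp (algebraMap R (Localization.Away a)) = φ := IsLocalization.Away.lift_comp a hu
  exact Good.trans_etale (Localization.Away a) φ' hφ'
    (Hn _ φ' hφ' (IsLocalization.Away.algebraMap_isUnit a))

theorem qderiv (b c : R) :
    derivative (X ^ 2 + (Polynomial.C b * X + Polynomial.C c) : R[X]) =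
      Polynomial.C 2 * X + Polynomial.C b := by
  simp only [derivative_add, derivative_X_pow, derivative_mul, derivative_C, derivative_X,
    zero_mul, zero_add, mul_one, add_zero]
  norm_num

/-- the standard étale pair of a monic quadratic, localized at its derivative times `h`. -/
noncomputable def qpair (b c : R) (h : R[X]) : StandardEtalePair R where
  f := X ^ 2 + (Polynomial.C b * X + Polynomial.C c)
  monic_f := monic_X_pow_add (lt_of_le_of_lt degree_linear_le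
    (by exact_mod_cast (Nat.one_lt_two)))
  g := (Polynomial.C 2 * X + Polynomial.C b) * h
  cond := ⟨h, 0, 1, by rw [qderiv]; ring⟩

theorem Good.quad (φ : R →+* K) (Q : Matrix ι ι R)
    (H : ∀ (B : Type u) [CommRing B], (ι → B) → B) (b c : R) (h : R[X]) (x : K)
    (hx : x ^ 2 + (φ b * x + φ c) = 0) (hd : 2 * x + φ b ≠ 0) (hh : eval₂ φ x h ≠ 0)
    (Hn : ∀ (R' : Type u) [CommRing R'] [Algebra R R'] (φ' : R' →+* K),
      φ'.comp (algebraMap R R') = φ → ∀ z : R',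
        z ^ 2 + (algebraMap R R' b * z + algebraMap R R' c) = 0 →
        IsUnit (2 * z + algebraMap R R' b) → IsUnit (aeval z h) →
        Good φ' (Q.map (algebraMap R R')) H) : Good φ Q H := by
  refine Good.step φ Q H (qpair b c h) x ?_ ?_ ?_
  · simp only [qpair, eval₂_add, eval₂_mul, eval₂_pow, eval₂_X, eval₂_C]; exact hx
  · simp only [qpair, eval₂_add, eval₂_mul, eval₂_X, eval₂_C, map_ofNat, eval₂_ofNat]
    exact mul_ne_zero hd hh
  · intro R' _ _ φ' hφ' z hz hu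
    simp only [qpair, map_add, map_mul, map_pow, aeval_X, aeval_C] at hz
    simp only [qpair, map_add, map_mul, aeval_X, aeval_C, map_ofNat] at hu
    exact Hn R' φ' hφ' z hz (IsUnit.mul_iff.1 hu).1 (IsUnit.mul_iff.1 hu).2

theorem Good.congr (g₀ : Matrix ι ι R) (hg₀ : IsUnit g₀.det) (h : Good φ (g₀ᵀ * Q * g₀) H) :
    Good φ Q H := by
  obtain ⟨B, _, _, hB, hψ, g, hg, hq⟩ := h
  refine ⟨B, inferInstance, inferInstance, hB, hψ, g₀.map (algebraMap R B) * g, ?_, ?_⟩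
  · rw [Matrix.det_mul]
    refine IsUnit.mul ?_ hg
    have e : (g₀.map (algebraMap R B)).det = algebraMap R B g₀.det := by
      rw [RingHom.map_det]; rfl
    rw [e]; exact hg₀.map _
  · intro x
    have e : (g₀ᵀ * Q * g₀).map (algebraMap R B) =
        (g₀.map (algebraMap R B))ᵀ * Q.map (algebraMap R B) * g₀.map (algebraMap R B) := by
      rw [Matrix.map_mul, Matrix.map_mul, Matrix.transpose_map]
    rw [← hq x, ← Matrix.mulVec_mulVec,
      qf_mulVec (Q.map (algebraMap R B)) (g₀.map (algebraMap R B)), e]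

/-- the hyperbolic plane plus `H'`. -/
def Hs {ι' : Type} (H' : ∀ (B : Type u) [CommRing B], (ι' → B) → B) :
    ∀ (B : Type u) [CommRing B], (Fin 2 ⊕ ι' → B) → B :=
  fun B _ x => x (Sum.inl 0) * x (Sum.inl 1) + H' B (x ∘ Sum.inr)

theorem Good.assemble {ι' : Type} [Fintype ι'] [DecidableEq ι'] (φ : R →+* K)
    (T : Matrix (Fin 2) (Fin 2) R) (N₁₂ : Matrix (Fin 2) ι' R) (N₂₁ : Matrix ι' (Fin 2) R)
    (Q' : Matrix ι' ι' R) (H' : ∀ (B : Type u) [CommRing B], (ι' → B) → B)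
    (hT0 : T 0 0 = 0) (hT1 : T 1 1 = 0) (hT01 : T 0 1 + T 1 0 = 1) (h12 : N₁₂ + N₂₁ᵀ = 0)
    (h : Good φ Q' H') : Good φ (fromBlocks T N₁₂ N₂₁ Q') (Hs H') := by
  obtain ⟨B, _, _, hB, hψ, g, hg, hq⟩ := h
  refine ⟨B, inferInstance, inferInstance, hB, hψ, fromBlocks 1 0 0 g, ?_, ?_⟩
  · rw [Matrix.det_fromBlocks_zero₂₁, Matrix.det_one, one_mul]; exact hg
  · intro x
    have hm : (fromBlocks T N₁₂ N₂₁ Q').map (algebraMap R B) =
        fromBlocks (T.map (algebraMap R B)) (N₁₂.map (algebraMap R B))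
          (N₂₁.map (algebraMap R B)) (Q'.map (algebraMap R B)) :=
      Matrix.fromBlocks_map _ _ _ _ _
    have h12' : N₁₂.map (algebraMap R B) + (N₂₁.map (algebraMap R B))ᵀ = 0 := by
      ext i j
      have := congrArg (algebraMap R B) (congrFun (congrFun h12 i) j)
      simpa using this
    rw [hm, qf_blocks _ _ _ _ h12', Matrix.fromBlocks_mulVec, Sum.elim_comp_inl,
      Sum.elim_comp_inr, Matrix.one_mulVec, Matrix.zero_mulVec, Matrix.zero_mulVec, add_zero,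
      zero_add, hq, qf_two _ ?_ ?_ ?_]
    · rfl
    · show algebraMap R B (T 0 0) = 0
      rw [hT0, map_zero]
    · show algebraMap R B (T 1 1) = 0
      rw [hT1, map_zero]
    · show algebraMap R B (T 0 1) + algebraMap R B (T 1 0) = 1
      rw [← map_add, hT01, map_one]

theorem qf_submatrix {S : Type*} [CommRing S] {ι₂ : Type} [Fintype ι₂] [DecidableEq ι₂]
    (e : ι ≃ ι₂) (M : Matrix ι₂ ι₂ S) (y : ι → S) :
    qf (M.submatrix e e) y = qf M (y ∘ e.symm) := by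
  unfold qf
  rw [Matrix.submatrix_mulVec_equiv, comp_equiv_symm_dotProduct]

theorem Good.reindex {ι₂ : Type} [Fintype ι₂] [DecidableEq ι₂] (e : ι ≃ ι₂) (φ : R →+* K)
    (M : Matrix ι₂ ι₂ R) (H : ∀ (B : Type u) [CommRing B], (ι → B) → B)
    (h : Good φ (M.submatrix e e) H) : Good φ M (fun B _ x => H B (x ∘ e)) := by
  obtain ⟨B, _, _, hB, hψ, g, hg, hq⟩ := h
  refine ⟨B, inferInstance, inferInstance, hB, hψ, g.submatrix e.symm e.symm, ?_, ?_⟩
  · rw [Matrix.det_submatrix_equiv_self]; exact hg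
  · intro x
    show _ = H B (x ∘ e)
    rw [← hq (x ∘ e)]
    have e1 : (M.submatrix e e).map (algebraMap R B) =
        (M.map (algebraMap R B)).submatrix e e := rfl
    have e2 : g.submatrix e.symm e.symm *ᵥ x = (g *ᵥ (x ∘ e)) ∘ e.symm := by
      rw [Matrix.submatrix_mulVec_equiv, Equiv.symm_symm]
    rw [e1, qf_submatrix, e2]

/-! nondegeneracy -/

theorem NonDeg.of_isUnit_det (φ : R →+* K) (Q : Matrix ι ι R) (h : IsUnit (Q + Qᵀ).det) :
    NonDeg φ Q := by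
  intro x hx
  refine Matrix.eq_zero_of_mulVec_eq_zero ?_ hx
  have e : ((Q + Qᵀ).map φ).det = φ (Q + Qᵀ).det := by rw [RingHom.map_det]; rfl
  rw [e]; exact (h.map φ).ne_zero

theorem NonDeg.map {R' : Type u} [CommRing R'] (f : R →+* R') (φ' : R' →+* K)
    (hφ' : φ'.comp f = φ) (h : NonDeg φ Q) : NonDeg φ' (Q.map f) := by
  intro x hx
  apply h x
  rw [← hx]
  congr 1
  ext i j
  rw [← hφ']
  simp

theorem NonDeg.congr (g : Matrix ι ι R) (hg : φ g.det ≠ 0) (h : NonDeg φ Q) :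
    NonDeg φ (gᵀ * Q * g) := by
  intro x hx
  have e : ((gᵀ * Q * g + (gᵀ * Q * g)ᵀ).map φ) =
      (g.map φ)ᵀ * ((Q + Qᵀ).map φ) * (g.map φ) := by
    rw [← Matrix.transpose_map, ← Matrix.map_mul, ← Matrix.map_mul]
    congr 1
    rw [Matrix.transpose_mul, Matrix.transpose_mul, Matrix.transpose_transpose, Matrix.mul_add,
      Matrix.add_mul, Matrix.mul_assoc gᵀ Qᵀ g]
  have hdet : (g.map φ).det ≠ 0 := by
    have e' : (g.map φ).det = φ g.det := by rw [RingHom.map_det]; rfl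
    rw [e']; exact hg
  rw [e, ← Matrix.mulVec_mulVec, ← Matrix.mulVec_mulVec] at hx
  have h1 := Matrix.eq_zero_of_mulVec_eq_zero (by rw [Matrix.det_transpose]; exact hdet) hx
  have h2 := h _ h1
  exact Matrix.eq_zero_of_mulVec_eq_zero hdet h2

theorem NonDeg.block {ι₁ ι₂ : Type} [Fintype ι₁] [DecidableEq ι₁] [Fintype ι₂] [DecidableEq ι₂]
    {φ : R →+* K} (N₁₁ : Matrix ι₁ ι₁ R) (B₅ : Matrix ι₁ ι₂ R) (C₅ : Matrix ι₂ ι₁ R)
    (D₅ : Matrix ι₂ ι₂ R) (h0 : B₅ + C₅ᵀ = 0) (h : NonDeg φ (fromBlocks N₁₁ B₅ C₅ D₅)) :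
    NonDeg φ D₅ := by
  intro y hy
  have h0' : C₅ + B₅ᵀ = 0 := by
    have := congrArg Matrix.transpose h0
    rw [Matrix.transpose_add, Matrix.transpose_transpose, Matrix.transpose_zero, add_comm] at this
    exact this
  have e : (fromBlocks N₁₁ B₅ C₅ D₅ + (fromBlocks N₁₁ B₅ C₅ D₅)ᵀ).map φ =
      fromBlocks ((N₁₁ + N₁₁ᵀ).map φ) 0 0 ((D₅ + D₅ᵀ).map φ) := by
    rw [Matrix.fromBlocks_transpose, Matrix.fromBlocks_add, h0, h0', Matrix.fromBlocks_map]
    congr 1 <;> (ext i j; simp)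
  have hx := h (Sum.elim 0 y) (by
    rw [e, Matrix.fromBlocks_mulVec, Sum.elim_comp_inl, Sum.elim_comp_inr, hy,
      Matrix.mulVec_zero, Matrix.zero_mulVec, Matrix.zero_mulVec, add_zero, add_zero]
    funext i; cases i <;> rfl)
  funext i
  have := congrFun hx (Sum.inr i)
  simpa using this

theorem NonDeg.reindex {ι₂ : Type} [Fintype ι₂] [DecidableEq ι₂] (e : ι ≃ ι₂)
    {M : Matrix ι₂ ι₂ R} (h : NonDeg φ M) : NonDeg φ (M.submatrix e e) := by
  intro x hx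
  have e1 : ((M.submatrix e e + (M.submatrix e e)ᵀ).map φ) =
      ((M + Mᵀ).map φ).submatrix e e := by
    ext i j; rfl
  rw [e1, Matrix.submatrix_mulVec_equiv] at hx
  have h1 : ((M + Mᵀ).map φ) *ᵥ (x ∘ e.symm) = 0 := by
    funext i
    have := congrFun hx (e.symm i)
    simpa using this
  have h2 := h _ h1
  funext i
  have := congrFun h2 (e i)
  simpa using this

/-! field-level lemmas -/

theorem exists_qf_ne [Nonempty ι] (h : NonDeg φ Q) : ∃ v : ι → R, φ (qf Q v) ≠ 0 := by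
  by_contra hc
  push Not at hc
  have hP : (Q + Qᵀ).map φ = 0 := by
    ext i j
    have h1 := hc (Pi.single i 1 + Pi.single j 1)
    rw [qf_add, map_add, map_add, hc, hc, zero_add, zero_add, pol_single] at h1
    exact h1
  obtain ⟨i₀⟩ := ‹Nonempty ι›
  have h2 := h (fun _ => 1) (by rw [hP, Matrix.zero_mulVec])
  have h3 := congrFun h2 i₀
  simp at h3

theorem exists_disc_ne (i₀ i₁ : ι) (h01 : i₁ ≠ i₀) (hq : φ (Q i₀ i₀) ≠ 0) (h : NonDeg φ Q) :
    ∃ w : ι → R, φ (disc Q (Pi.single i₀ 1) w) ≠ 0 := by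
  by_contra hc
  push Not at hc
  have h1 : ∀ k, φ (Q i₀ k + Q k i₀) ^ 2 - 4 * φ (Q i₀ i₀) * φ (Q k k) = 0 := by
    intro k
    have := hc (Pi.single k 1)
    rw [disc_single, map_sub, map_pow, map_mul, map_mul, map_ofNat] at this
    exact this
  have h2 : ∀ k l, 2 * φ (Q i₀ k + Q k i₀) * φ (Q i₀ l + Q l i₀)
      - 4 * φ (Q i₀ i₀) * φ (Q k l + Q l k) = 0 := by
    intro k l
    have e := congrArg φ (disc_polarize Q (Pi.single i₀ 1) (Pi.single k 1) (Pi.single l 1))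
    rw [map_sub, map_sub, hc, hc, hc, pol_single, pol_single, pol_single, qf_single, map_sub,
      map_mul, map_mul, map_mul, map_mul, map_ofNat, map_ofNat] at e
    linear_combination -e
  have hb0 : φ (Q i₀ i₀ + Q i₀ i₀) = 2 * φ (Q i₀ i₀) := by rw [map_add]; ring
  by_cases h2K : (2 : K) = 0
  · have hb : ∀ k, φ (Q i₀ k + Q k i₀) = 0 := by
      intro k
      have h1k := h1 k
      have h4 : (4 : K) = 0 := by
        have : (4 : K) = 2 * 2 := by norm_num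
        rw [this, h2K, zero_mul]
      rw [h4, zero_mul, zero_mul, sub_zero] at h1k
      exact (pow_eq_zero_iff (two_ne_zero)).1 h1k
    have hx := h (Pi.single i₀ 1) (by
      rw [Matrix.mulVec_single_one]
      funext k
      show φ (Q k i₀ + Q i₀ k) = 0
      rw [add_comm]; exact hb k)
    have h3 := congrFun hx i₀
    simp at h3
  · have h2' : ∀ k, φ (Q i₀ k + Q k i₀) * φ (Q i₀ i₁ + Q i₁ i₀) =
        φ (Q i₀ i₀ + Q i₀ i₀) * φ (Q k i₁ + Q i₁ k) := by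
      intro k
      apply mul_left_cancel₀ h2K
      rw [hb0]
      linear_combination h2 k i₁
    have hx := h (φ (Q i₀ i₁ + Q i₁ i₀) • Pi.single i₀ 1
        - φ (Q i₀ i₀ + Q i₀ i₀) • Pi.single i₁ 1) (by
      rw [Matrix.mulVec_sub, Matrix.mulVec_smul, Matrix.mulVec_smul, Matrix.mulVec_single_one,
        Matrix.mulVec_single_one]
      funext k
      show φ (Q i₀ i₁ + Q i₁ i₀) * φ (Q k i₀ + Q i₀ k)
        - φ (Q i₀ i₀ + Q i₀ i₀) * φ (Q k i₁ + Q i₁ k) = 0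
      rw [← h2' k, add_comm (Q k i₀)]
      ring)
    have h3 := congrFun hx i₁
    simp only [Pi.sub_apply, Pi.smul_apply, Pi.single_eq_same, Pi.single_eq_of_ne h01,
      smul_eq_mul, mul_zero, mul_one, zero_sub, Pi.zero_apply, neg_eq_zero] at h3
    rw [hb0] at h3
    exact hq ((mul_eq_zero.1 h3).resolve_left h2K)

/-! the three preparation stages -/

theorem stage1 (φ : R →+* K) (Q : Matrix ι ι R)
    (H : ∀ (B : Type u) [CommRing B], (ι → B) → B) (o : ι) (hQ : NonDeg φ Q)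
    (Hn : ∀ (R₁ : Type u) [CommRing R₁] (φ₁ : R₁ →+* K) (Q₂ : Matrix ι ι R₁),
      NonDeg φ₁ Q₂ → φ₁ (Q₂ o o) ≠ 0 → Good φ₁ Q₂ H) : Good φ Q H := by
  haveI : Nonempty ι := ⟨o⟩
  obtain ⟨v, hv⟩ := exists_qf_ne hQ
  have hk : ∃ k₀, φ (v k₀) ≠ 0 := by
    by_contra hc
    push Not at hc
    apply hv
    rw [qf_map]
    have e0 : φ ∘ v = 0 := funext hc
    rw [e0, qf_zero]
  obtain ⟨k₀, hk₀⟩ := hk
  refine Good.localize φ Q H (v k₀) hk₀ ?_
  intro R₁ _ _ φ₁ hφ₁ hu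
  have hG : IsUnit (Gmat ((algebraMap R R₁) ∘ v) o k₀).det := Gmat_det_isUnit _ _ _ hu
  refine Good.congr (Gmat ((algebraMap R R₁) ∘ v) o k₀) hG ?_
  apply Hn
  · exact NonDeg.congr _ (hG.map φ₁).ne_zero (hQ.map (algebraMap R R₁) φ₁ hφ₁)
  · have e : ((Gmat ((algebraMap R R₁) ∘ v) o k₀)ᵀ * Q.map (algebraMap R R₁) *
        Gmat ((algebraMap R R₁) ∘ v) o k₀) o o = algebraMap R R₁ (qf Q v) := by
      rw [← qf_single ((Gmat ((algebraMap R R₁) ∘ v) o k₀)ᵀ * Q.map (algebraMap R R₁) *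
        Gmat ((algebraMap R R₁) ∘ v) o k₀) o, ← qf_mulVec, Gmat_single, ← qf_map]
    rw [e, ← RingHom.comp_apply, hφ₁]; exact hv

theorem stage2 (φ : R →+* K) (Q : Matrix ι ι R)
    (H : ∀ (B : Type u) [CommRing B], (ι → B) → B) (o e : ι) (hoe : e ≠ o) (hQ : NonDeg φ Q)
    (hq : φ (Q o o) ≠ 0)
    (Hn : ∀ (R₁ : Type u) [CommRing R₁] (φ₁ : R₁ →+* K) (Q₃ : Matrix ι ι R₁),
      NonDeg φ₁ Q₃ → φ₁ (Q₃ o o) ≠ 0 →
      φ₁ ((Q₃ o e + Q₃ e o) ^ 2 - 4 * Q₃ o o * Q₃ e e) ≠ 0 → Good φ₁ Q₃ H) : Good φ Q H := by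
  obtain ⟨w', hw'⟩ := exists_disc_ne o e hoe hq hQ
  obtain ⟨w, hw0, hdw⟩ : ∃ w : ι → R, w o = 0 ∧ φ (disc Q (Pi.single o 1) w) ≠ 0 :=
    ⟨w' + (-(w' o)) • Pi.single o 1, by simp, by rw [disc_add_smul]; exact hw'⟩
  have hk : ∃ k₁, φ (w k₁) ≠ 0 := by
    by_contra hc
    push Not at hc
    apply hdw
    rw [disc_map]
    have e0 : φ ∘ w = 0 := funext hc
    rw [e0, disc_zero_right]
  obtain ⟨k₁, hk₁⟩ := hk
  have hk₁o : k₁ ≠ o := by
    intro h; apply hk₁; rw [h, hw0, map_zero]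
  refine Good.localize φ Q H (w k₁) hk₁ ?_
  intro R₁ _ _ φ₁ hφ₁ hu
  have hG : IsUnit (Gmat ((algebraMap R R₁) ∘ w) e k₁).det := Gmat_det_isUnit _ _ _ hu
  refine Good.congr (Gmat ((algebraMap R R₁) ∘ w) e k₁) hG ?_
  have hfix : Gmat ((algebraMap R R₁) ∘ w) e k₁ *ᵥ Pi.single o 1 = Pi.single o 1 :=
    Gmat_single_fix _ _ _ _ hoe.symm hk₁o.symm
  apply Hn
  · exact NonDeg.congr _ (hG.map φ₁).ne_zero (hQ.map (algebraMap R R₁) φ₁ hφ₁)
  · have e1 : ((Gmat ((algebraMap R R₁) ∘ w) e k₁)ᵀ * Q.map (algebraMap R R₁) *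
        Gmat ((algebraMap R R₁) ∘ w) e k₁) o o = algebraMap R R₁ (Q o o) := by
      rw [← qf_single ((Gmat ((algebraMap R R₁) ∘ w) e k₁)ᵀ * Q.map (algebraMap R R₁) *
        Gmat ((algebraMap R R₁) ∘ w) e k₁) o, ← qf_mulVec, hfix, qf_single]
      rfl
    rw [e1, ← RingHom.comp_apply, hφ₁]; exact hq
  · have e3 : (((Gmat ((algebraMap R R₁) ∘ w) e k₁)ᵀ * Q.map (algebraMap R R₁) *
        Gmat ((algebraMap R R₁) ∘ w) e k₁) o e +
        ((Gmat ((algebraMap R R₁) ∘ w) e k₁)ᵀ * Q.map (algebraMap R R₁) *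
        Gmat ((algebraMap R R₁) ∘ w) e k₁) e o) ^ 2 -
        4 * ((Gmat ((algebraMap R R₁) ∘ w) e k₁)ᵀ * Q.map (algebraMap R R₁) *
        Gmat ((algebraMap R R₁) ∘ w) e k₁) o o *
        ((Gmat ((algebraMap R R₁) ∘ w) e k₁)ᵀ * Q.map (algebraMap R R₁) *
        Gmat ((algebraMap R R₁) ∘ w) e k₁) e e =
        algebraMap R R₁ (disc Q (Pi.single o 1) w) := by
      rw [← disc_single ((Gmat ((algebraMap R R₁) ∘ w) e k₁)ᵀ * Q.map (algebraMap R R₁) *
        Gmat ((algebraMap R R₁) ∘ w) e k₁) o e, ← disc_mulVec, hfix, Gmat_single,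
        ← map_single (algebraMap R R₁) o, ← disc_map]
    rw [e3, ← RingHom.comp_apply, hφ₁]; exact hdw

end Framework

/-! ### The inductive step -/
section Step
variable {K : Type v} [Field K]

theorem stepB' {ι' : Type} [Fintype ι'] [DecidableEq ι']
    (H' : ∀ (B : Type u) [CommRing B], (ι' → B) → B)
    (IH : ∀ (R : Type u) [CommRing R] (φ : R →+* K) (Q' : Matrix ι' ι' R),
      NonDeg φ Q' → Good φ Q' H')
    {R : Type u} [CommRing R] (φ : R →+* K)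
    (N₁₁ : Matrix (Fin 2) (Fin 2) R) (N₁₂ : Matrix (Fin 2) ι' R) (N₂₁ : Matrix ι' (Fin 2) R)
    (N₂₂ : Matrix ι' ι' R) (hQ : NonDeg φ (fromBlocks N₁₁ N₁₂ N₂₁ N₂₂)) (z αi θi : R)
    (hz : z ^ 2 + ((N₁₁ 0 1 + N₁₁ 1 0) * z + N₁₁ 0 0 * N₁₁ 1 1) = 0)
    (hα : N₁₁ 0 0 * αi = 1) (hθ : (2 * z + (N₁₁ 0 1 + N₁₁ 1 0)) * θi = 1) :
    Good φ (fromBlocks N₁₁ N₁₂ N₂₁ N₂₂) (Hs H') := by
  have hG : IsUnit (N₁₁ + N₁₁ᵀ).det := polar_det_two N₁₁ z θi hz hθ
  have hΛ' : (N₁₁ + N₁₁ᵀ) * ((N₁₁ + N₁₁ᵀ)⁻¹ * (N₁₂ + N₂₁ᵀ)) = N₁₂ + N₂₁ᵀ :=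
    Matrix.mul_nonsing_inv_cancel_left _ _ hG
  obtain ⟨B₅, C₅, D₅, h5, h50⟩ :=
    clear_blocks N₁₁ N₁₂ N₂₁ N₂₂ ((N₁₁ + N₁₁ᵀ)⁻¹ * (N₁₂ + N₂₁ᵀ)) hΛ'
  generalize ((N₁₁ + N₁₁ᵀ)⁻¹ * (N₁₂ + N₂₁ᵀ)) = Λ at h5
  have hP₁ : IsUnit (fromBlocks (1 : Matrix (Fin 2) (Fin 2) R) (-Λ) 0
      (1 : Matrix ι' ι' R)).det := by
    rw [Matrix.det_fromBlocks_zero₂₁, Matrix.det_one, Matrix.det_one, one_mul]
    exact isUnit_one
  refine Good.congr _ hP₁ ?_
  have hQ₁ : NonDeg φ (fromBlocks N₁₁ B₅ C₅ D₅) := by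
    rw [← h5]; exact NonDeg.congr _ (hP₁.map φ).ne_zero hQ
  rw [h5]
  obtain ⟨hM00, hM11, hM01, hMdet⟩ := two_by_two N₁₁ z αi θi hz hα hθ
  generalize Mmat N₁₁ z αi θi = M at hM00 hM11 hM01 hMdet
  have hMu : IsUnit M.det := IsUnit.of_mul_eq_one _ hMdet
  have hP₂ : IsUnit (fromBlocks M 0 0 (1 : Matrix ι' ι' R)).det := by
    rw [Matrix.det_fromBlocks_zero₂₁, Matrix.det_one, mul_one]; exact hMu
  obtain ⟨h6, h60⟩ := bin_blocks N₁₁ B₅ C₅ D₅ M h50
  refine Good.congr _ hP₂ ?_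
  have hQ₂ : NonDeg φ (fromBlocks (Mᵀ * N₁₁ * M) (Mᵀ * B₅) (C₅ * M) D₅) := by
    rw [← h6]; exact NonDeg.congr _ (hP₂.map φ).ne_zero hQ₁
  rw [h6]
  exact Good.assemble φ _ _ _ _ H' hM00 hM11 hM01 h60
    (IH R φ D₅ (NonDeg.block _ _ _ _ h60 hQ₂))

theorem stepB {ι' : Type} [Fintype ι'] [DecidableEq ι']
    (H' : ∀ (B : Type u) [CommRing B], (ι' → B) → B)
    (IH : ∀ (R : Type u) [CommRing R] (φ : R →+* K) (Q' : Matrix ι' ι' R),
      NonDeg φ Q' → Good φ Q' H')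
    {R : Type u} [CommRing R] (φ : R →+* K) (Q : Matrix (Fin 2 ⊕ ι') (Fin 2 ⊕ ι') R)
    (hQ : NonDeg φ Q) (z : R)
    (hz : z ^ 2 + ((Q (Sum.inl 0) (Sum.inl 1) + Q (Sum.inl 1) (Sum.inl 0)) * z +
      Q (Sum.inl 0) (Sum.inl 0) * Q (Sum.inl 1) (Sum.inl 1)) = 0)
    (hθ : IsUnit (2 * z + (Q (Sum.inl 0) (Sum.inl 1) + Q (Sum.inl 1) (Sum.inl 0))))
    (hα : IsUnit (Q (Sum.inl 0) (Sum.inl 0))) : Good φ Q (Hs H') := by
  obtain ⟨αi, hαi⟩ := hα.exists_right_inv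
  obtain ⟨θi, hθi⟩ := hθ.exists_right_inv
  have hb := Matrix.fromBlocks_toBlocks Q
  have hQ' : NonDeg φ (fromBlocks Q.toBlocks₁₁ Q.toBlocks₁₂ Q.toBlocks₂₁ Q.toBlocks₂₂) := by
    rw [hb]; exact hQ
  have := stepB' H' IH φ Q.toBlocks₁₁ Q.toBlocks₁₂ Q.toBlocks₂₁ Q.toBlocks₂₂ hQ' z αi θi hz hαi hθi
  rw [hb] at this
  exact this

theorem stage3 [IsAlgClosed K] {ι' : Type} [Fintype ι'] [DecidableEq ι']
    (H' : ∀ (B : Type u) [CommRing B], (ι' → B) → B)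
    (IH : ∀ (R : Type u) [CommRing R] (φ : R →+* K) (Q' : Matrix ι' ι' R),
      NonDeg φ Q' → Good φ Q' H')
    (R : Type u) [CommRing R] (φ : R →+* K) (Q : Matrix (Fin 2 ⊕ ι') (Fin 2 ⊕ ι') R)
    (hQ : NonDeg φ Q) (hα : φ (Q (Sum.inl 0) (Sum.inl 0)) ≠ 0)
    (hd : φ ((Q (Sum.inl 0) (Sum.inl 1) + Q (Sum.inl 1) (Sum.inl 0)) ^ 2 -
      4 * Q (Sum.inl 0) (Sum.inl 0) * Q (Sum.inl 1) (Sum.inl 1)) ≠ 0) :
    Good φ Q (Hs H') := by
  have hdeg : (X ^ 2 + (Polynomial.C (φ (Q (Sum.inl 0) (Sum.inl 1) + Q (Sum.inl 1) (Sum.inl 0)))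
      * X + Polynomial.C (φ (Q (Sum.inl 0) (Sum.inl 0) * Q (Sum.inl 1) (Sum.inl 1)))) :
      K[X]).degree ≠ 0 := by
    rw [degree_add_eq_left_of_degree_lt]
    · rw [degree_X_pow]; norm_num
    · rw [degree_X_pow]
      exact lt_of_le_of_lt degree_linear_le (by exact_mod_cast Nat.one_lt_two)
  obtain ⟨x, hx⟩ := IsAlgClosed.exists_root _ hdeg
  have hx' : x ^ 2 + (φ (Q (Sum.inl 0) (Sum.inl 1) + Q (Sum.inl 1) (Sum.inl 0)) * x +
      φ (Q (Sum.inl 0) (Sum.inl 0) * Q (Sum.inl 1) (Sum.inl 1))) = 0 := by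
    have := hx
    simp only [IsRoot.def, eval_add, eval_mul, eval_pow, eval_X, eval_C] at this
    exact this
  have hd' : 2 * x + φ (Q (Sum.inl 0) (Sum.inl 1) + Q (Sum.inl 1) (Sum.inl 0)) ≠ 0 := by
    intro h0
    apply hd
    have hx'' := hx'
    rw [map_mul] at hx''
    rw [map_sub, map_pow, map_mul, map_mul, map_ofNat]
    linear_combination
      (2 * x + φ (Q (Sum.inl 0) (Sum.inl 1) + Q (Sum.inl 1) (Sum.inl 0))) * h0 - 4 * hx''
  refine Good.quad φ Q (Hs H') (Q (Sum.inl 0) (Sum.inl 1) + Q (Sum.inl 1) (Sum.inl 0))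
    (Q (Sum.inl 0) (Sum.inl 0) * Q (Sum.inl 1) (Sum.inl 1))
    (Polynomial.C (Q (Sum.inl 0) (Sum.inl 0))) x hx' hd' (by rw [eval₂_C]; exact hα) ?_
  intro R₁ _ _ φ₁ hφ₁ z hz hu hh
  rw [aeval_C] at hh
  refine stepB H' IH φ₁ (Q.map (algebraMap R R₁)) (hQ.map _ φ₁ hφ₁) z ?_ ?_ hh
  · rw [map_add, map_mul] at hz
    exact hz
  · rw [map_add] at hu
    exact hu

theorem step_main [IsAlgClosed K] {ι' : Type} [Fintype ι'] [DecidableEq ι']
    (H' : ∀ (B : Type u) [CommRing B], (ι' → B) → B)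
    (IH : ∀ (R : Type u) [CommRing R] (φ : R →+* K) (Q' : Matrix ι' ι' R),
      NonDeg φ Q' → Good φ Q' H')
    (R : Type u) [CommRing R] (φ : R →+* K) (Q : Matrix (Fin 2 ⊕ ι') (Fin 2 ⊕ ι') R)
    (hQ : NonDeg φ Q) : Good φ Q (Hs H') := by
  refine stage1 φ Q _ (Sum.inl 0) hQ ?_
  intro R₁ _ φ₁ Q₂ hQ₂ hq
  refine stage2 φ₁ Q₂ _ (Sum.inl 0) (Sum.inl 1)
    (fun h => absurd (Sum.inl.inj h) (by decide)) hQ₂ hq ?_
  intro R₂ _ φ₂ Q₃ hQ₃ hq₃ hd₃
  exact stage3 H' IH R₂ φ₂ Q₃ hQ₃ hq₃ hd₃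

/-- the split form. -/
def Hm (m : ℕ) : ∀ (B : Type u) [CommRing B], (Fin m ⊕ Fin m → B) → B :=
  fun B _ x => ∑ j : Fin m, x (Sum.inl j) * x (Sum.inr j)

def epsFun (m : ℕ) : Fin 2 ⊕ (Fin m ⊕ Fin m) → Fin (m + 1) ⊕ Fin (m + 1)
  | Sum.inl i => if i.val = 0 then Sum.inl 0 else Sum.inr 0
  | Sum.inr (Sum.inl j) => Sum.inl j.succ
  | Sum.inr (Sum.inr j) => Sum.inr j.succ

def epsInv (m : ℕ) : Fin (m + 1) ⊕ Fin (m + 1) → Fin 2 ⊕ (Fin m ⊕ Fin m)
  | Sum.inl i => Fin.cases (Sum.inl 0) (fun j => Sum.inr (Sum.inl j)) i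
  | Sum.inr i => Fin.cases (Sum.inl 1) (fun j => Sum.inr (Sum.inr j)) i

def eps (m : ℕ) : Fin 2 ⊕ (Fin m ⊕ Fin m) ≃ Fin (m + 1) ⊕ Fin (m + 1) where
  toFun := epsFun m
  invFun := epsInv m
  left_inv := by
    rintro (i | j | j)
    · fin_cases i <;> simp [epsFun, epsInv]
    · simp [epsFun, epsInv]
    · simp [epsFun, epsInv]
  right_inv := by
    rintro (i | i)
    · refine Fin.cases ?_ (fun j => ?_) i <;> simp [epsFun, epsInv]
    · refine Fin.cases ?_ (fun j => ?_) i <;> simp [epsFun, epsInv]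

theorem target [IsAlgClosed K] (m : ℕ) : ∀ (R : Type u) [CommRing R] (φ : R →+* K)
    (Q : Matrix (Fin m ⊕ Fin m) (Fin m ⊕ Fin m) R), NonDeg φ Q → Good φ Q (Hm m) := by
  induction m with
  | zero =>
    intro R _ φ Q _
    refine Good.refl φ Q _ (fun x => ?_)
    simp [qf, Hm, dotProduct]
  | succ m ih =>
    intro R _ φ Q hQ
    have h1 : Good φ (Q.submatrix (eps m) (eps m)) (Hs (Hm m)) :=
      step_main (Hm m) ih R φ _ (hQ.reindex (eps m))
    have h2 := Good.reindex (eps m) φ Q (Hs (Hm m)) h1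
    refine Good.congrH (fun B _ x => ?_) h2
    show x (eps m (Sum.inl 0)) * x (eps m (Sum.inl 1)) +
      ∑ j : Fin m, x (eps m (Sum.inr (Sum.inl j))) * x (eps m (Sum.inr (Sum.inr j))) =
      ∑ j : Fin (m + 1), x (Sum.inl j) * x (Sum.inr j)
    rw [Fin.sum_univ_succ]
    rfl

end Step

/-! ### The main theorem -/
section Main

/-- the coefficient matrix of the form `∑_{rk i ≤ rk j} a i j x i x j`. -/
def C0 {A : Type u} [CommRing A] {ι : Type} (a : ι → ι → A) (rk : ι → ℕ) : Matrix ι ι A :=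
  Matrix.of fun i j => if rk i ≤ rk j then a i j else 0

theorem C0_polar {A : Type u} [CommRing A] {ι : Type} [DecidableEq ι] (a : ι → ι → A)
    (rk : ι → ℕ) (hrk : Function.Injective rk) :
    C0 a rk + (C0 a rk)ᵀ =
      Matrix.of fun i j => if i = j then a i i + a i i else if rk i ≤ rk j then a i j else a j i := by
  ext i j
  simp only [C0, Matrix.add_apply, Matrix.transpose_apply, Matrix.of_apply]
  by_cases hij : i = j
  · subst hij; simp
  · have hne : rk i ≠ rk j := fun h => hij (hrk h)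
    rw [if_neg hij]
    by_cases hle : rk i ≤ rk j
    · have : ¬ rk j ≤ rk i := fun h => hne (le_antisymm hle h)
      rw [if_pos hle, if_neg this, if_pos hle, add_zero]
    · have : rk j ≤ rk i := le_of_lt (not_le.1 hle)
      rw [if_neg hle, if_pos this, if_neg hle, zero_add]

theorem QB_eq {A : Type u} [CommRing A] {B : Type u} [CommRing B] [Algebra A B] {ι : Type}
    [Fintype ι] [DecidableEq ι] (a : ι → ι → A) (rk : ι → ℕ) (x : ι → B) :
    (∑ i, ∑ j, if rk i ≤ rk j then algebraMap A B (a i j) * x i * x j else 0) =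
      qf ((C0 a rk).map (algebraMap A B)) x := by
  simp only [qf, dotProduct, Matrix.mulVec, Finset.mul_sum]
  refine Finset.sum_congr rfl (fun i _ => Finset.sum_congr rfl (fun j _ => ?_))
  simp only [Matrix.map_apply, C0, Matrix.of_apply]
  split_ifs with h
  · ring
  · rw [map_zero]; ring

theorem rk_inj (m : ℕ) :
    Function.Injective (Sum.elim Fin.val (fun k => m + k.val) : Fin m ⊕ Fin m → ℕ) := by
  rintro (i | i) (j | j) h
  · simp only [Sum.elim_inl] at h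
    rw [Fin.ext h]
  · simp only [Sum.elim_inl, Sum.elim_inr] at h
    have := i.isLt
    omega
  · simp only [Sum.elim_inl, Sum.elim_inr] at h
    have := j.isLt
    omega
  · simp only [Sum.elim_inr] at h
    have : i.val = j.val := by omega
    rw [Fin.ext this]

theorem main (A : Type u) [CommRing A] (m : ℕ)
    (a : (Fin m ⊕ Fin m) → (Fin m ⊕ Fin m) → A) (rk : Fin m ⊕ Fin m → ℕ)
    (hrk : Function.Injective rk)
    (hdet : IsUnit (Matrix.det (Matrix.of fun i j : Fin m ⊕ Fin m =>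
      if i = j then a i i + a i i else if rk i ≤ rk j then a i j else a j i))) :
    ∃ (n : ℕ) (B : Fin n → Type u) (_ : ∀ t, CommRing (B t)) (_ : ∀ t, Algebra A (B t)),
      (∀ t, Algebra.Etale A (B t)) ∧
      (∀ p : PrimeSpectrum A, ∃ (t : Fin n) (q : PrimeSpectrum (B t)),
        q.asIdeal.comap (algebraMap A (B t)) = p.asIdeal) ∧
      ∀ t, ∃ g : Matrix (Fin m ⊕ Fin m) (Fin m ⊕ Fin m) (B t), IsUnit g.det ∧
        ∀ x : Fin m ⊕ Fin m → B t,
          (∑ i, ∑ j, if rk i ≤ rk j then algebraMap A (B t) (a i j) * (g.mulVec x) i *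
            (g.mulVec x) j else 0) = ∑ j : Fin m, x (Sum.inl j) * x (Sum.inr j) := by
  classical
  have loc : ∀ p : PrimeSpectrum A, ∃ (B : Type u) (_ : CommRing B) (_ : Algebra A B),
      Algebra.Etale A B ∧ p ∈ Set.range (PrimeSpectrum.comap (algebraMap A B)) ∧
      ∃ g : Matrix (Fin m ⊕ Fin m) (Fin m ⊕ Fin m) B, IsUnit g.det ∧
        ∀ x : Fin m ⊕ Fin m → B,
          qf ((C0 a rk).map (algebraMap A B)) (g *ᵥ x) = Hm m B x := by
    intro p
    let κ := p.asIdeal.ResidueField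
    let K := AlgebraicClosure κ
    let φ : A →+* K := (algebraMap κ K).comp (algebraMap A κ)
    have hker : RingHom.ker φ = p.asIdeal := by
      rw [← RingHom.comap_ker, (RingHom.injective_iff_ker_eq_bot _).1 (algebraMap κ K).injective,
        ← RingHom.ker_eq_comap_bot, Ideal.ker_algebraMap_residueField]
    have hND : NonDeg φ (C0 a rk) :=
      NonDeg.of_isUnit_det φ _ (by rw [C0_polar a rk hrk]; exact hdet)
    obtain ⟨B, _, _, hB, ⟨ψ, hψ⟩, g, hg, hq⟩ := target (K := K) m A φ (C0 a rk) hND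
    refine ⟨B, inferInstance, inferInstance, hB, ⟨⟨RingHom.ker ψ, RingHom.ker_isPrime ψ⟩, ?_⟩,
      g, hg, hq⟩
    ext1
    show (RingHom.ker ψ).comap (algebraMap A B) = p.asIdeal
    rw [RingHom.comap_ker, hψ, hker]
  choose B iC iA hE hp hg using loc
  have hopen : ∀ p, IsOpen (Set.range (PrimeSpectrum.comap (algebraMap A (B p)))) := by
    intro p
    haveI := hE p
    exact (PrimeSpectrum.isOpenMap_comap_of_hasGoingDown_of_finitePresentation
      (R := A) (S := B p)).isOpen_range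
  obtain ⟨s, hs⟩ := isCompact_univ.elim_finite_subcover
    (fun p => Set.range (PrimeSpectrum.comap (algebraMap A (B p)))) hopen
    (fun p _ => Set.mem_iUnion.2 ⟨p, hp p⟩)
  refine ⟨s.card, fun t => B (s.equivFin.symm t).1, fun t => iC _, fun t => iA _,
    fun t => hE _, ?_, fun t => ?_⟩
  · intro p
    have hmem := hs (Set.mem_univ p)
    simp only [Set.mem_iUnion] at hmem
    obtain ⟨p', hp's, hq⟩ := hmem
    have key : ∀ y : {x // x ∈ s}, y = ⟨p', hp's⟩ →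
        p ∈ Set.range (PrimeSpectrum.comap (algebraMap A (B y.1))) := by
      rintro _ rfl; exact hq
    obtain ⟨q', hq'⟩ := key (s.equivFin.symm (s.equivFin ⟨p', hp's⟩))
      (Equiv.symm_apply_apply _ _)
    exact ⟨s.equivFin ⟨p', hp's⟩, q', congrArg PrimeSpectrum.asIdeal hq'⟩
  · obtain ⟨g, hgu, hgq⟩ := hg (s.equivFin.symm t).1
    exact ⟨g, hgu, fun x => by rw [QB_eq]; exact hgq x⟩

end Main

end Groth.Agent.H4.QuadSplit
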