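import Mathlib

open CategoryTheory Limits Opposite TopologicalSpace TopCat
open scoped AlgebraicGeometry

namespace Groth.Agent.H4.QuasiHomeoSheaf

universe u v w

variable {X₀ X : TopCat.{u}} (f : X₀ ⟶ X)

section ToSheaves

lemma le_of_map_le (hinj : Function.Injective (fun U : Opens X => (Opens.map f).obj U))
    {U V : Opens X} (h : (Opens.map f).obj U ≤ (Opens.map f).obj V) : U ≤ V := by
  have h1 : (Opens.map f).obj (U ⊓ V) = (Opens.map f).obj U := by
    apply le_antisymm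
    · exact (Opens.map f).monotone inf_le_left
    · intro x hx
      exact Set.mem_inter hx (h hx)
  have h2 : U ⊓ V = U := hinj h1
  exact inf_eq_left.1 h2

lemma isEquivalence_map (hbij : Function.Bijective (fun U : Opens X => (Opens.map f).obj U)) :
    (Opens.map f).IsEquivalence where
  faithful := ⟨by intro U V a b _; exact Subsingleton.elim _ _⟩
  full := ⟨fun g => ⟨homOfLE (le_of_map_le f hbij.1 (leOfHom g)), Subsingleton.elim _ _⟩⟩
  essSurj := ⟨fun W => by
    obtain ⟨U, hU⟩ := hbij.2 W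
    exact ⟨U, ⟨eqToIso hU⟩⟩⟩

lemma denseSubsite (hbij : Function.Bijective (fun U : Opens X => (Opens.map f).obj U)) :
    (Opens.map f).IsDenseSubsite (Opens.grothendieckTopology X)
      (Opens.grothendieckTopology X₀) := by
  haveI := isEquivalence_map f hbij
  exact
  { functorPushforward_mem_iff := by
      intro U S
      constructor
      · intro H
        have hU'U : sSup {V : Opens X | ∃ a : V ⟶ U, S a} ≤ U :=
          sSup_le (fun V hV => by obtain ⟨a, _⟩ := hV; exact leOfHom a)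
        have hle : (Opens.map f).obj U ≤
            (Opens.map f).obj (sSup {V : Opens X | ∃ a : V ⟶ U, S a}) := by
          intro x₀ hx₀
          obtain ⟨W, g, ⟨Z, a, b, hSa, hg⟩, hxW⟩ := H x₀ hx₀
          have h1 : x₀ ∈ (Opens.map f).obj Z := leOfHom b hxW
          have hZ : Z ≤ sSup {V : Opens X | ∃ a : V ⟶ U, S a} := le_sSup ⟨a, hSa⟩
          exact hZ h1
        have hUU' := le_of_map_le f hbij.1 hle
        intro x hx
        have hx' := hUU' hx
        rw [Opens.mem_sSup] at hx'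
        obtain ⟨V, ⟨a, hSa⟩, hxV⟩ := hx'
        exact ⟨V, a, hSa, hxV⟩
      · intro H x hx
        obtain ⟨V, a, hS, hxV⟩ := H (f x) hx
        exact ⟨(Opens.map f).obj V, (Opens.map f).map a, ⟨V, a, 𝟙 _, hS, by simp⟩, hxV⟩ }

lemma pushforward_isEquivalence (C : Type v) [Category.{w} C]
    [∀ U, HasLimitsOfShape (StructuredArrow U (Opens.map f).op) C]
    (hbij : Function.Bijective (fun U : Opens X => (Opens.map f).obj U)) :
    (TopCat.Sheaf.pushforward C f).IsEquivalence := by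
  haveI := denseSubsite f hbij
  unfold TopCat.Sheaf.pushforward
  exact Functor.IsDenseSubsite.instIsEquivalenceSheafSheafPushforwardContinuous _ _ _

end ToSheaves

section FromSheaves

lemma inj_of_essSurj {C : Type v} [Category.{u} C] [HasTerminal C] (A₀ : C)
    (hA₀ : IsEmpty (A₀ ≅ ⊤_ C)) [(TopCat.Sheaf.pushforward C f).EssSurj] :
    Function.Injective (fun U : Opens X => (Opens.map f).obj U) := by
  classical
  have aux : ∀ U V : Opens X, (Opens.map f).obj U = (Opens.map f).obj V → U ≤ V := by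
    intro U V h x hx
    by_contra hxV
    let S : TopCat.Sheaf C X := skyscraperSheaf x A₀
    let G := (TopCat.Sheaf.pushforward C f).objPreimage S
    let e : (TopCat.Sheaf.pushforward C f).obj G ≅ S :=
      (TopCat.Sheaf.pushforward C f).objObjPreimageIso S
    let e' := (sheafToPresheaf _ _).mapIso e
    have i1 : A₀ ≅ S.obj.obj (op U) :=
      eqToIso (show A₀ = (if x ∈ U then A₀ else ⊤_ C) from (if_pos hx).symm)
    have i2 : S.obj.obj (op V) ≅ ⊤_ C :=
      eqToIso (show (if x ∈ V then A₀ else ⊤_ C) = ⊤_ C from if_neg hxV)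
    have i3 : G.obj.obj (op ((Opens.map f).obj U)) ≅ G.obj.obj (op ((Opens.map f).obj V)) :=
      eqToIso (by rw [h])
    exact hA₀.false (i1 ≪≫ (e'.app (op U)).symm ≪≫ i3 ≪≫ e'.app (op V) ≪≫ i2)
  intro U V h
  exact le_antisymm (aux U V h) (aux V U h.symm)

lemma surj_of_nhds (hnh : ∀ (W : Opens X₀) (x₀ : X₀), x₀ ∈ W →
      ∃ V : Opens X, f x₀ ∈ V ∧ (Opens.map f).obj V ≤ W) :
    Function.Surjective (fun U : Opens X => (Opens.map f).obj U) := by
  intro W
  refine ⟨sSup {V : Opens X | (Opens.map f).obj V ≤ W}, ?_⟩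
  apply le_antisymm
  · intro x₀ hx₀
    have h1 : f x₀ ∈ sSup {V : Opens X | (Opens.map f).obj V ≤ W} := hx₀
    rw [Opens.mem_sSup] at h1
    obtain ⟨V, hV, hxV⟩ := h1
    exact hV hxV
  · intro x₀ hx₀
    obtain ⟨V, hxV, hVW⟩ := hnh W x₀ hx₀
    show f x₀ ∈ sSup {V : Opens X | (Opens.map f).obj V ≤ W}
    rw [Opens.mem_sSup]
    exact ⟨V, hVW, hxV⟩

open StalkSkyscraperPresheafAdjunctionAuxs in
lemma germ_factor {C : Type v} [Category.{u} C] [HasTerminal C] [HasColimits C]
    [(TopCat.Sheaf.pushforward C f).Full]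
    (F : TopCat.Sheaf C X₀) (x₀ : X₀) (W : Opens X₀) (hx₀ : x₀ ∈ W) (V : Opens X)
    (hV : f x₀ ∈ V) :
    ∃ h : F.obj.obj (op ((Opens.map f).obj V ⊓ W)) ⟶ (f _* F.obj).stalk (f x₀),
      (f _* F.obj).germ V (f x₀) hV =
        F.obj.map (homOfLE (inf_le_left :
          (Opens.map f).obj V ⊓ W ≤ (Opens.map f).obj V)).op ≫ h := by
  classical
  let Q := (f _* F.obj).stalk (f x₀)
  let S : TopCat.Sheaf C X₀ := skyscraperSheaf x₀ Q
  let ψ₀ : f _* F.obj ⟶ f _* S.obj := toSkyscraperPresheaf (f x₀) (𝟙 Q)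
  let ψ : (TopCat.Sheaf.pushforward C f).obj F ⟶ (TopCat.Sheaf.pushforward C f).obj S := ⟨ψ₀⟩
  obtain ⟨φ, hφ⟩ := (TopCat.Sheaf.pushforward C f).map_surjective ψ
  have hV₀ : x₀ ∈ (Opens.map f).obj V := hV
  have hx' : x₀ ∈ (Opens.map f).obj V ⊓ W := ⟨hV, hx₀⟩
  have hφV : φ.hom.app (op ((Opens.map f).obj V)) = ψ₀.app (op V) :=
    congrArg (fun m => m.hom.app (op V)) hφ
  have e1 : ψ₀.app (op V) = (f _* F.obj).germ V (f x₀) hV ≫ eqToHom (if_pos hV₀).symm := by
    have : (toSkyscraperPresheaf (f x₀) (𝟙 Q)).app (op V) =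
        (f _* F.obj).germ V (f x₀) hV ≫ eqToHom (if_pos hV).symm := by
      rw [toSkyscraperPresheaf_app, dif_pos hV, Category.id_comp]
      rfl
    exact this
  have e2 : S.obj.map (homOfLE (inf_le_left :
      (Opens.map f).obj V ⊓ W ≤ (Opens.map f).obj V)).op =
      eqToHom (by
        show (if x₀ ∈ (Opens.map f).obj V then Q else ⊤_ C) =
          (if x₀ ∈ (Opens.map f).obj V ⊓ W then Q else ⊤_ C)
        rw [if_pos hV₀, if_pos hx']) := by
    show (skyscraperPresheaf x₀ Q).map _ = _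
    rw [skyscraperPresheaf_map, dif_pos hx']
    rfl
  have nat := φ.hom.naturality (homOfLE (inf_le_left :
      (Opens.map f).obj V ⊓ W ≤ (Opens.map f).obj V)).op
  refine ⟨φ.hom.app (op ((Opens.map f).obj V ⊓ W)) ≫ eqToHom (if_pos hx'), ?_⟩
  calc (f _* F.obj).germ V (f x₀) hV
      = ((f _* F.obj).germ V (f x₀) hV ≫ eqToHom (if_pos hV₀).symm) ≫ eqToHom (if_pos hV₀) := by
        rw [Category.assoc, eqToHom_trans, eqToHom_refl, Category.comp_id]
    _ = φ.hom.app (op ((Opens.map f).obj V)) ≫ eqToHom (if_pos hV₀) := by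
        rw [← e1, ← hφV]
        rfl
    _ = φ.hom.app (op ((Opens.map f).obj V)) ≫
          (S.obj.map (homOfLE (inf_le_left :
            (Opens.map f).obj V ⊓ W ≤ (Opens.map f).obj V)).op ≫ eqToHom (if_pos hx')) := by
        rw [e2, eqToHom_trans]
    _ = (F.obj.map (homOfLE (inf_le_left :
            (Opens.map f).obj V ⊓ W ≤ (Opens.map f).obj V)).op ≫
          φ.hom.app (op ((Opens.map f).obj V ⊓ W))) ≫ eqToHom (if_pos hx') := by
        rw [← Category.assoc, ← nat]
    _ = _ := Category.assoc _ _ _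

lemma sections_eq_nhds {C : Type v} [Category.{u} C] [HasTerminal C] [HasColimits C]
    {FC : C → C → Type*} {CC : C → Type u} [∀ X Y, FunLike (FC X Y) (CC X) (CC Y)]
    [ConcreteCategory.{u} C FC] [PreservesFilteredColimits (forget C)]
    [(TopCat.Sheaf.pushforward C f).Full]
    (F : TopCat.Sheaf C X₀) (x₀ : X₀) (W : Opens X₀) (hx₀ : x₀ ∈ W) (V : Opens X)
    (hV : f x₀ ∈ V)
    (s t : ToType (F.obj.obj (op ((Opens.map f).obj V))))
    (hst : F.obj.map (homOfLE (inf_le_left :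
        (Opens.map f).obj V ⊓ W ≤ (Opens.map f).obj V)).op s =
      F.obj.map (homOfLE (inf_le_left :
        (Opens.map f).obj V ⊓ W ≤ (Opens.map f).obj V)).op t) :
    ∃ (V' : Opens X) (_ : f x₀ ∈ V') (i : V' ⟶ V),
      F.obj.map ((Opens.map f).map i).op s = F.obj.map ((Opens.map f).map i).op t := by
  obtain ⟨h, hh⟩ := germ_factor f F x₀ W hx₀ V hV
  have hg : (f _* F.obj).germ V (f x₀) hV s = (f _* F.obj).germ V (f x₀) hV t := by
    rw [hh, ConcreteCategory.comp_apply, ConcreteCategory.comp_apply, hst]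
  obtain ⟨V', hxV', iU, iV, e⟩ := (f _* F.obj).germ_eq (f x₀) hV hV s t hg
  refine ⟨V', hxV', iU, ?_⟩
  have hi : iV = iU := Subsingleton.elim _ _
  subst hi
  exact e

/-! ### Type-valued -/

/-- fibres of the test sheaf -/
def TTy (W : Opens X₀) (x : X₀) : Type u := PLift (x ∉ W) → ULift.{u} Bool

lemma nhds_type [(TopCat.Sheaf.pushforward (Type u) f).Full] (W : Opens X₀) (x₀ : X₀)
    (hx₀ : x₀ ∈ W) : ∃ V : Opens X, f x₀ ∈ V ∧ (Opens.map f).obj V ≤ W := by
  by_contra hcon
  push Not at hcon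
  let F : TopCat.Sheaf (Type u) X₀ := sheafToTypes X₀ (TTy W)
  let s : ∀ x : ↥((Opens.map f).obj (⊤ : Opens X)), TTy W x := fun _ _ => ⟨true⟩
  let t : ∀ x : ↥((Opens.map f).obj (⊤ : Opens X)), TTy W x := fun _ _ => ⟨false⟩
  have hst : F.obj.map (homOfLE (inf_le_left :
        (Opens.map f).obj ⊤ ⊓ W ≤ (Opens.map f).obj ⊤)).op s =
      F.obj.map (homOfLE (inf_le_left :
        (Opens.map f).obj ⊤ ⊓ W ≤ (Opens.map f).obj ⊤)).op t := by
    funext x hp
    exact absurd ((inf_le_right : (Opens.map f).obj ⊤ ⊓ W ≤ W) x.2) hp.down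
  obtain ⟨V', hxV', i, e⟩ := sections_eq_nhds f F x₀ W hx₀ ⊤ trivial s t hst
  obtain ⟨z, hz, hzW⟩ : ∃ z, z ∈ (Opens.map f).obj V' ∧ z ∉ W := by
    have h1 := hcon V' hxV'
    rw [SetLike.not_le_iff_exists] at h1
    exact h1
  have h3 : (ULift.up true : ULift.{u} Bool) = ULift.up false :=
    congrFun (congrFun e ⟨z, hz⟩) ⟨hzW⟩
  exact Bool.noConfusion (ULift.up.inj h3)

lemma notIso_type : IsEmpty (ULift.{u} Bool ≅ ⊤_ (Type u)) := by
  constructor
  intro e
  have hsub : ∀ a b : (⊤_ (Type u)), a = b := by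
    intro a b
    have h1 : (Types.terminalIso.{u}).hom a = (Types.terminalIso.{u}).hom b := Subsingleton.elim _ _
    have h2 := congrArg (Types.terminalIso.{u}).inv h1
    simpa using h2
  have h3 : e.hom ⟨true⟩ = e.hom ⟨false⟩ := hsub _ _
  have h4 := congrArg e.inv h3
  have h5 : (ULift.up true : ULift.{u} Bool) = ULift.up false := by simpa using h4
  exact Bool.noConfusion (ULift.up.inj h5)

/-! ### Ab-valued -/

/-- fibres of the test sheaf -/
def TA (W : Opens X₀) (x : X₀) : Type u := PLift (x ∉ W) → ULift.{u} ℤ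

instance (W : Opens X₀) (x : X₀) : AddCommGroup (TA W x) := by unfold TA; infer_instance

/-- the test presheaf of abelian groups -/
def FabPre (W : Opens X₀) : X₀.Presheaf AddCommGrpCat.{u} where
  obj U := AddCommGrpCat.of (∀ x : U.unop, TA W x)
  map {U V} i := AddCommGrpCat.ofHom
    { toFun := fun g x => g (i.unop x)
      map_zero' := rfl
      map_add' := fun _ _ => rfl }
  map_id _ := rfl
  map_comp _ _ := rfl

lemma FabPre_isSheaf (W : Opens X₀) : (FabPre W).IsSheaf := by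
  rw [TopCat.Presheaf.isSheaf_iff_isSheaf_comp (forget AddCommGrpCat.{u})]
  exact TopCat.Presheaf.isSheaf_of_iso
    (NatIso.ofComponents (fun U => Iso.refl _) (by intros; rfl))
    (TopCat.Presheaf.toTypes_isSheaf X₀ (TA W))

lemma nhds_ab [(TopCat.Sheaf.pushforward AddCommGrpCat.{u} f).Full] (W : Opens X₀) (x₀ : X₀)
    (hx₀ : x₀ ∈ W) : ∃ V : Opens X, f x₀ ∈ V ∧ (Opens.map f).obj V ≤ W := by
  by_contra hcon
  push Not at hcon
  let F : TopCat.Sheaf AddCommGrpCat.{u} X₀ := ⟨FabPre W, FabPre_isSheaf W⟩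
  let s : ∀ x : ↥((Opens.map f).obj (⊤ : Opens X)), TA W x := fun _ _ => ⟨1⟩
  let t : ∀ x : ↥((Opens.map f).obj (⊤ : Opens X)), TA W x := fun _ _ => ⟨0⟩
  have hst : F.obj.map (homOfLE (inf_le_left :
        (Opens.map f).obj ⊤ ⊓ W ≤ (Opens.map f).obj ⊤)).op s =
      F.obj.map (homOfLE (inf_le_left :
        (Opens.map f).obj ⊤ ⊓ W ≤ (Opens.map f).obj ⊤)).op t := by
    funext x hp
    exact absurd ((inf_le_right : (Opens.map f).obj ⊤ ⊓ W ≤ W) x.2) hp.down
  obtain ⟨V', hxV', i, e⟩ := sections_eq_nhds f F x₀ W hx₀ ⊤ trivial s t hst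
  obtain ⟨z, hz, hzW⟩ : ∃ z, z ∈ (Opens.map f).obj V' ∧ z ∉ W := by
    have h1 := hcon V' hxV'
    rw [SetLike.not_le_iff_exists] at h1
    exact h1
  have h3 : (ULift.up 1 : ULift.{u} ℤ) = ULift.up 0 :=
    congrFun (congrFun e ⟨z, hz⟩) ⟨hzW⟩
  exact one_ne_zero (ULift.up.inj h3)

lemma notIso_ab : IsEmpty (AddCommGrpCat.of (ULift.{u} ℤ) ≅ ⊤_ AddCommGrpCat.{u}) := by
  constructor
  intro e
  have hz : IsZero (⊤_ AddCommGrpCat.{u}) :=
    (isZero_zero _).of_iso (HasZeroObject.zeroIsoTerminal).symm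
  have hz' : IsZero (AddCommGrpCat.of (ULift.{u} ℤ)) := hz.of_iso e
  haveI := AddCommGrpCat.subsingleton_of_isZero hz'
  have h5 : (ULift.up 1 : ULift.{u} ℤ) = ULift.up 0 := Subsingleton.elim _ _
  exact one_ne_zero (ULift.up.inj h5)

end FromSheaves

theorem main (X₀ X : TopCat.{u}) (f : X₀ ⟶ X) :
    [Function.Bijective (fun U : TopologicalSpace.Opens X => (TopologicalSpace.Opens.map f).obj U),
      (TopCat.Sheaf.pullback (Type u) f).IsEquivalence,
      (TopCat.Sheaf.pullback AddCommGrpCat.{u} f).IsEquivalence].TFAE := by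
  tfae_have 1 → 2 := fun h => by
    haveI := pushforward_isEquivalence f (Type u) h
    exact (TopCat.Sheaf.pullbackPushforwardAdjunction (Type u) f).isEquivalence_left_of_isEquivalence_right
  tfae_have 1 → 3 := fun h => by
    haveI := pushforward_isEquivalence f AddCommGrpCat.{u} h
    exact (TopCat.Sheaf.pullbackPushforwardAdjunction AddCommGrpCat.{u} f).isEquivalence_left_of_isEquivalence_right
  tfae_have 2 → 1 := fun h => by
    haveI := h
    haveI : (TopCat.Sheaf.pushforward (Type u) f).IsEquivalence :=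
      (TopCat.Sheaf.pullbackPushforwardAdjunction (Type u) f).isEquivalence_right_of_isEquivalence_left
    exact ⟨inj_of_essSurj f (ULift.{u} Bool) notIso_type,
      surj_of_nhds f (fun W x₀ hx₀ => nhds_type f W x₀ hx₀)⟩
  tfae_have 3 → 1 := fun h => by
    haveI := h
    haveI : (TopCat.Sheaf.pushforward AddCommGrpCat.{u} f).IsEquivalence :=
      (TopCat.Sheaf.pullbackPushforwardAdjunction AddCommGrpCat.{u} f).isEquivalence_right_of_isEquivalence_left
    exact ⟨inj_of_essSurj f (AddCommGrpCat.of (ULift.{u} ℤ)) notIso_ab,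
      surj_of_nhds f (fun W x₀ hx₀ => nhds_ab f W x₀ hx₀)⟩
  tfae_finish

end Groth.Agent.H4.QuasiHomeoSheaf
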