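import Mathlib
import Groth.Prelude.Def_SGA1
import Groth.Agent.H4.QuotKit
import Groth.Agent.H4.QuotEx

/-!
# Quotients: clopen pieces preserved by a subgroup (S13080) and sections of free quotients (S2919)
(helper4)
-/

set_option autoImplicit false
set_option linter.style.haveILetI false
universe u
open CategoryTheory Limits AlgebraicGeometry TopologicalSpace Opposite

namespace Groth.Agent.H4.QuotClopen

open Groth.Agent.H2.Quot Groth.Agent.H5.Glue Groth.Agent.H4.QuotKit Groth.Agent.H4.QuotEx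

section Tr

variable {X : Scheme.{u}} {G : Type u} [Group G] (ρ : G →* Aut X)

/-- pull back sections along the action of `g` -/
noncomputable abbrev tr (g : G) (A B : X.Opens) (h : B ≤ (ρ g).hom ⁻¹ᵁ A) : Γ(X, A) →+* Γ(X, B) :=
  ((ρ g).hom.appLE A B h).hom

theorem res_tr (g : G) {A B B' : X.Opens} (hB : B' ≤ B) (h : B ≤ (ρ g).hom ⁻¹ᵁ A) (r : Γ(X, A)) :
    res hB (tr ρ g A B h r) = tr ρ g A B' (hB.trans h) r := by
  have := (ρ g).hom.appLE_map h (homOfLE hB).op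
  exact congr($(this).hom r)

theorem tr_res (g : G) {A A' B : X.Opens} (hA : A' ≤ A) (h : B ≤ (ρ g).hom ⁻¹ᵁ A') (r : Γ(X, A)) :
    tr ρ g A' B h (res hA r) = tr ρ g A B (h.trans ((ρ g).hom.preimage_mono hA)) r := by
  have := (ρ g).hom.map_appLE h (homOfLE hA).op
  exact congr($(this).hom r)

theorem hom_mul (g h : G) : (ρ (g * h)).hom = (ρ h).hom ≫ (ρ g).hom := by
  rw [map_mul]; rfl

theorem hom_one : (ρ 1).hom = 𝟙 X := by
  rw [map_one]; rfl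

theorem tr_tr (g h m : G) (hm : m = g * h) {A B C : X.Opens} (h₁ : B ≤ (ρ g).hom ⁻¹ᵁ A)
    (h₂ : C ≤ (ρ h).hom ⁻¹ᵁ B) (h₃ : C ≤ (ρ m).hom ⁻¹ᵁ A) (r : Γ(X, A)) :
    tr ρ h B C h₂ (tr ρ g A B h₁ r) = tr ρ m A C h₃ r := by
  subst hm
  have h2 := Scheme.Hom.appLE_comp_appLE (ρ h).hom (ρ g).hom A B C h₁ h₂
  have h3 : ∀ e, (ρ (g * h)).hom.appLE A C h₃ = ((ρ h).hom ≫ (ρ g).hom).appLE A C e :=
    fun e => appLE_congr_hom (hom_mul ρ g h) A C h₃ e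
  rw [← h3] at h2
  exact congr($(h2).hom r)

theorem tr_one {A : X.Opens} (h : A ≤ (ρ 1).hom ⁻¹ᵁ A) (r : Γ(X, A)) : tr ρ 1 A A h r = r := by
  have key : ∀ (f : X ⟶ X) (_ : f = 𝟙 X) (e : A ≤ f ⁻¹ᵁ A), f.appLE A A e = 𝟙 _ := by
    rintro f rfl e
    simp only [Scheme.Hom.appLE, Scheme.Hom.id_app, Category.id_comp]
    exact X.presheaf.map_id _
  have := key _ (hom_one ρ) h
  exact congr($(this).hom r)

end Tr

section EE

variable {X Z : Scheme.{u}} (p : X ⟶ Z) (Y : X.Opens) (U : Z.Opens)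

/-- the open `Y ∩ p⁻¹U`, in the form in which it carries the sections of `Y` over `U` -/
abbrev EE : X.Opens := Y.ι ''ᵁ ((Y.ι ≫ p) ⁻¹ᵁ U)

theorem EE_le_Y : EE p Y U ≤ Y := by
  rintro x ⟨y, -, rfl⟩
  exact ι_mem Y y

theorem EE_le_O : EE p Y U ≤ p ⁻¹ᵁ U := by
  rintro x ⟨y, hy, rfl⟩
  exact hy

theorem mem_EE (x : X) (hxY : x ∈ Y) (hxO : x ∈ p ⁻¹ᵁ U) : x ∈ EE p Y U := by
  obtain ⟨y, rfl⟩ := exists_point Y x hxY
  exact ⟨y, hxO, rfl⟩

theorem comp_app_eq (a : Γ(Z, U)) :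
    (((Y.ι ≫ p).app U).hom a : Γ(X, EE p Y U)) = res (EE_le_O p Y U) ((p.app U).hom a) := by
  rw [Scheme.Hom.comp_app, Scheme.Opens.ι_app]
  rfl

end EE

section Main

theorem stab_mem {X : Scheme.{u}} {G : Type u} [Group G] (ρ : G →* Aut X) (H : Subgroup G)
    (Y : X.Opens) (ρY : H →* Aut (Y : Scheme.{u}))
    (hρY : ∀ h : H, (ρY h).hom ≫ Y.ι = Y.ι ≫ (ρ (h : G)).hom)
    (h : H) (x : X) (hx : x ∈ Y) : (ρ (h : G)).hom x ∈ Y := by
  obtain ⟨y, rfl⟩ := exists_point Y x hx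
  rw [← Scheme.Hom.comp_apply, ← hρY h, Scheme.Hom.comp_apply]
  exact ι_mem Y _

/-- **S13080**, general form -/
theorem main_S13080 {X Z : Scheme.{u}} {G : Type u} [Group G] (ρ : G →* Aut X) (p : X ⟶ Z)
    (hP : SGA1.IsQuot ρ p) (H : Subgroup G) (Y : X.Opens)
    (hcov : ∀ x : X, ∃ g : G, x ∈ (ρ g).hom.base '' (Y : Set X))
    (hdisj : ∀ g : G, g ∉ H → Disjoint ((ρ g).hom.base '' (Y : Set X)) (Y : Set X))
    (ρY : H →* Aut (Y : Scheme.{u}))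
    (hρY : ∀ h : H, (ρY h).hom ≫ Y.ι = Y.ι ≫ (ρ (h : G)).hom) :
    SGA1.IsQuot ρY (Y.ι ≫ p) := by
  haveI := hP.affine
  have hHY : ∀ (h : H) (x : X), x ∈ Y → (ρ (h : G)).hom x ∈ Y := stab_mem ρ H Y ρY hρY
  have hmemH : ∀ (g : G) (x : X), x ∈ Y → (ρ g).hom x ∈ Y → g ∈ H := by
    intro g x hx hgx
    by_contra hg
    exact Set.disjoint_left.mp (hdisj g hg) (Set.mem_image_of_mem _ hx) hgx
  have hpinv : ∀ (g : G) (x : X), p ((ρ g).hom x) = p x := by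
    intro g x
    rw [← Scheme.Hom.comp_apply, hP.inv g]
  have hclosed : IsClosed (Y : Set X) := by
    rw [← isOpen_compl_iff, isOpen_iff_forall_mem_open]
    intro x hx
    obtain ⟨g, y, hy, hgy⟩ := hcov x
    have hg : g ∉ H := by
      intro hgH
      apply hx
      have h1 := hHY ⟨g, hgH⟩ y hy
      rw [← hgy]
      exact h1
    refine ⟨(ρ g).hom.base '' (Y : Set X), ?_, ?_, ⟨y, hy, hgy⟩⟩
    · exact (hdisj g hg).subset_compl_right
    · exact (ρ g).hom.isOpenEmbedding.isOpenMap _ Y.isOpen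
  haveI : IsClosedImmersion Y.ι :=
    IsClosedImmersion.of_isPreimmersion Y.ι (by rw [Scheme.Opens.range_ι]; exact hclosed)
  haveI : IsAffineHom (Y.ι ≫ p) := inferInstance
  have hinvY : ∀ h : H, (ρY h).hom ≫ Y.ι ≫ p = Y.ι ≫ p := by
    intro h
    rw [← Category.assoc, hρY h, Category.assoc, hP.inv]
  apply isQuot_of_QAt ρY (Y.ι ≫ p) hinvY
  intro U
  have hEY := EE_le_Y p Y U
  have hEO := EE_le_O p Y U
  have hWO : ∀ g : G, (ρ g).hom ⁻¹ᵁ (EE p Y U) ≤ p ⁻¹ᵁ U := by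
    intro g x hx
    have h1 : (ρ g).hom x ∈ p ⁻¹ᵁ U := hEO hx
    change p x ∈ U
    rw [← hpinv g x]
    exact h1
  have hcovO : p ⁻¹ᵁ U ≤ ⨆ g : G, (ρ g).hom ⁻¹ᵁ (EE p Y U) := by
    intro x hx
    obtain ⟨g, y, hy, hgy⟩ := hcov x
    refine Opens.mem_iSup.mpr ⟨g⁻¹, ?_⟩
    change (ρ g⁻¹).hom x ∈ EE p Y U
    have h1 : (ρ g⁻¹).hom x = y := by
      rw [← hgy]; exact act_inv_apply ρ g y
    rw [h1]
    apply mem_EE p Y U y hy
    change p y ∈ U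
    have h2 : p y = p x := by rw [← hgy]; exact (hpinv g y).symm
    rw [h2]; exact hx
  constructor
  · intro a a' haa
    apply hP.injective U
    apply fn_ext_of_cover (fun g : G => (ρ g).hom ⁻¹ᵁ (EE p Y U)) (p ⁻¹ᵁ U) hWO hcovO
    intro g
    have hs : ∀ b : Γ(Z, U), res (hWO g) ((p.app U).hom b) =
        tr ρ g (EE p Y U) _ le_rfl (((Y.ι ≫ p).app U).hom b) := by
      intro b
      have h1 := sig_app_apply ρ p hP.inv U g b
      have h2 := res_tr ρ g (hWO g) (SGA1.preimage_le_of_inv ρ p hP.inv g U) ((p.app U).hom b)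
      rw [comp_app_eq, tr_res]
      exact (congrArg (res (hWO g)) h1.symm).trans h2
    rw [hs, hs, haa]
  · intro t ht
    have hEst : ∀ h : H, EE p Y U ≤ (ρ (h : G)).hom ⁻¹ᵁ (EE p Y U) := by
      intro h x hx
      apply mem_EE p Y U _ (hHY h x (hEY hx))
      change p ((ρ (h : G)).hom x) ∈ U
      rw [hpinv]
      exact hEO hx
    obtain ⟨t', ht'⟩ : ∃ t' : Γ(X, EE p Y U), t' = t := ⟨t, rfl⟩
    have htH : ∀ h : H, tr ρ (h : G) (EE p Y U) (EE p Y U) (hEst h) t' = t' := by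
      intro h
      have h0 := appLE_ι_eq Y (ρ (h : G)).hom (ρY h).hom (hρY h) ((Y.ι ≫ p) ⁻¹ᵁ U)
        (SGA1.preimage_le_of_inv ρY (Y.ι ≫ p) hinvY h U) (hEst h)
      have h1 := ht h
      unfold sig at h1
      rw [h0] at h1
      rw [ht']
      exact h1
    have hcompat : ∀ g g' : G,
        res (inf_le_left : (ρ g).hom ⁻¹ᵁ EE p Y U ⊓ (ρ g').hom ⁻¹ᵁ EE p Y U ≤
            (ρ g).hom ⁻¹ᵁ EE p Y U) (tr ρ g (EE p Y U) _ le_rfl t') =
        res (inf_le_right : (ρ g).hom ⁻¹ᵁ EE p Y U ⊓ (ρ g').hom ⁻¹ᵁ EE p Y U ≤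
            (ρ g').hom ⁻¹ᵁ EE p Y U) (tr ρ g' (EE p Y U) _ le_rfl t') := by
      intro g g'
      rw [res_tr, res_tr]
      by_cases hne : ∃ x : X, x ∈ (ρ g).hom ⁻¹ᵁ EE p Y U ⊓ (ρ g').hom ⁻¹ᵁ EE p Y U
      · obtain ⟨x, hx1, hx2⟩ := hne
        have hy : (ρ g).hom x ∈ Y := hEY hx1
        have hy' : (ρ (g' * g⁻¹)).hom ((ρ g).hom x) ∈ Y := by
          rw [act_mul_apply, act_inv_apply]
          exact hEY hx2
        have hh : g' * g⁻¹ ∈ H := hmemH _ _ hy hy'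
        have h3 := tr_tr ρ (g' * g⁻¹) g g' (by group) (hEst ⟨_, hh⟩)
          (inf_le_left : (ρ g).hom ⁻¹ᵁ EE p Y U ⊓ (ρ g').hom ⁻¹ᵁ EE p Y U ≤
            (ρ g).hom ⁻¹ᵁ EE p Y U)
          (inf_le_right : (ρ g).hom ⁻¹ᵁ EE p Y U ⊓ (ρ g').hom ⁻¹ᵁ EE p Y U ≤
            (ρ g').hom ⁻¹ᵁ EE p Y U) t'
        rw [htH ⟨_, hh⟩] at h3
        exact h3
      · apply fn_ext_of_cover (fun e : PEmpty.{1} => e.elim) _ (fun e => e.elim) ?_ _ _
          (fun e => e.elim)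
        intro x hx
        exact absurd ⟨x, hx⟩ hne
    obtain ⟨s, hs, -⟩ := existsUnique_glue_fn (fun g : G => (ρ g).hom ⁻¹ᵁ EE p Y U) (p ⁻¹ᵁ U)
      hWO hcovO (fun g => tr ρ g (EE p Y U) _ le_rfl t') hcompat
    have hsinv : ∀ g : G, (sig ρ p hP.inv U g).hom s = s := by
      intro g
      apply fn_ext_of_cover (fun g : G => (ρ g).hom ⁻¹ᵁ EE p Y U) (p ⁻¹ᵁ U) hWO hcovO
      intro k
      have hle : (ρ k).hom ⁻¹ᵁ EE p Y U ≤
          (ρ g).hom ⁻¹ᵁ ((ρ (k * g⁻¹)).hom ⁻¹ᵁ EE p Y U) := by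
        intro x hx
        change (ρ (k * g⁻¹)).hom ((ρ g).hom x) ∈ EE p Y U
        rw [act_mul_apply, act_inv_apply]
        exact hx
      have h1 := res_tr ρ g (hWO k) (SGA1.preimage_le_of_inv ρ p hP.inv g U) s
      have h2 := tr_res ρ g (hWO (k * g⁻¹)) hle s
      have h3 := tr_tr ρ (k * g⁻¹) g k (by group) (le_refl _) hle (le_refl _) t'
      rw [hs k]
      refine h1.trans ?_
      rw [← h2, hs (k * g⁻¹)]
      exact h3
    obtain ⟨a, ha⟩ := (hP.range_iff U s).mpr hsinv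
    refine ⟨a, ?_⟩
    have hE1 : EE p Y U ≤ (ρ 1).hom ⁻¹ᵁ EE p Y U := by
      intro x hx
      change (ρ 1).hom x ∈ EE p Y U
      rw [act_one_apply]; exact hx
    have h4 := hs 1
    have h5 := res_res (hWO 1) hE1 s
    have h6 := res_tr ρ 1 hE1 (le_refl _) t'
    have h7 := tr_one ρ (hE1.trans (le_refl _)) t'
    rw [← ht']
    calc (((Y.ι ≫ p).app U).hom a : Γ(X, EE p Y U))
        = res hEO ((p.app U).hom a) := comp_app_eq p Y U a
      _ = res hEO s := by rw [ha]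
      _ = res hE1 (res (hWO 1) s) := h5.symm
      _ = res hE1 (tr ρ 1 _ _ (le_refl _) t') := by rw [h4]
      _ = t' := h6.trans h7

end Main

section Free

theorem isIso_of_isQuot_trivial {X Y : Scheme.{u}} {G : Type u} [Group G] [Finite G]
    (ρ : G →* Aut X) (p : X ⟶ Y) (hp : SGA1.IsQuot ρ p) (htriv : ∀ g, (ρ g).hom = 𝟙 X) :
    IsIso p := by
  obtain ⟨h', hh', -⟩ := s2925 ρ p hp X (𝟙 X) (fun g => by rw [htriv g]; exact Category.comp_id _)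
  obtain ⟨k, hk, huniq⟩ := s2925 ρ p hp Y p hp.inv
  have h1 : h' ≫ p = k := huniq _ (by
    show p ≫ h' ≫ p = p
    rw [← Category.assoc, hh', Category.id_comp])
  have h2 : 𝟙 Y = k := huniq _ (Category.comp_id p)
  exact ⟨h', hh', h1.trans h2.symm⟩

/-- **S2919** -/
theorem main_S2919 {X Y : Scheme.{u}} {G : Type u} [Group G] [Finite G] (ρ : G →* Aut X)
    (p : X ⟶ Y) (hp : SGA1.IsQuot ρ p)
    (hfree : ∀ (K : Type u) [Field K] [IsAlgClosed K] (ξ : Spec (CommRingCat.of K) ⟶ X) (g : G),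
      ξ ≫ (ρ g).hom = ξ → g = 1)
    (s : Y ⟶ X) (hs : s ≫ p = 𝟙 Y) :
    IsIso (Sigma.desc (fun g : G => s ≫ (ρ g).hom) : (∐ fun _ : G => Y) ⟶ X) := by
  haveI := hp.affine
  haveI : IsClosedImmersion s := by
    haveI : IsClosedImmersion (s ≫ p) := by rw [hs]; infer_instance
    exact IsClosedImmersion.of_comp s p
  have hB : ∀ (g g' : G) (y y' : Y), (ρ g).hom (s y) = (ρ g').hom (s y') → g = g' := by
    intro g g' y y' hyy
    obtain ⟨t₁, ht₁⟩ : ∃ t₁ : Y ⟶ X, t₁ = s ≫ (ρ g).hom := ⟨_, rfl⟩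
    obtain ⟨t₂, ht₂⟩ : ∃ t₂ : Y ⟶ X, t₂ = s ≫ (ρ g').hom := ⟨_, rfl⟩
    have ht₁p : t₁ ≫ p = 𝟙 Y := by rw [ht₁, Category.assoc, hp.inv, hs]
    have ht₂p : t₂ ≫ p = 𝟙 Y := by rw [ht₂, Category.assoc, hp.inv, hs]
    have hyy' : t₁ y = t₂ y' := by rw [ht₁, ht₂]; exact hyy
    obtain ⟨w, -, -⟩ := Scheme.Pullback.exists_preimage_pullback (f := t₁) (g := t₂) y y' hyy'
    obtain ⟨ξ₀⟩ : Nonempty (Spec (CommRingCat.of
        (AlgebraicClosure ((pullback t₁ t₂).residueField w))) ⟶ pullback t₁ t₂) :=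
      ⟨Spec.map (CommRingCat.ofHom (algebraMap ((pullback t₁ t₂).residueField w)
        (AlgebraicClosure ((pullback t₁ t₂).residueField w)))) ≫
        (pullback t₁ t₂).fromSpecResidueField w⟩
    have hc := pullback.condition (f := t₁) (g := t₂)
    have h1 : pullback.fst t₁ t₂ = pullback.snd t₁ t₂ := by
      calc pullback.fst t₁ t₂ = (pullback.fst t₁ t₂ ≫ t₁) ≫ p := by
            rw [Category.assoc, ht₁p, Category.comp_id]
        _ = (pullback.snd t₁ t₂ ≫ t₂) ≫ p := by rw [hc]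
        _ = pullback.snd t₁ t₂ := by rw [Category.assoc, ht₂p, Category.comp_id]
    have h2 : (pullback.fst t₁ t₂ ≫ s) ≫ (ρ g).hom = (pullback.fst t₁ t₂ ≫ s) ≫ (ρ g').hom := by
      rw [Category.assoc, Category.assoc, ← ht₁, ← ht₂, hc, h1]
    have h3 : (ξ₀ ≫ pullback.fst t₁ t₂ ≫ s) ≫ (ρ (g'⁻¹ * g)).hom =
        ξ₀ ≫ pullback.fst t₁ t₂ ≫ s := by
      have h5 : (ρ (g'⁻¹ * g)).hom = (ρ g).hom ≫ (ρ g'⁻¹).hom := hom_mul ρ g'⁻¹ g
      have h6 : (ρ g').hom ≫ (ρ g'⁻¹).hom = 𝟙 X := by rw [← hom_mul, inv_mul_cancel, hom_one]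
      calc (ξ₀ ≫ pullback.fst t₁ t₂ ≫ s) ≫ (ρ (g'⁻¹ * g)).hom
          = ξ₀ ≫ ((pullback.fst t₁ t₂ ≫ s) ≫ (ρ g).hom) ≫ (ρ g'⁻¹).hom := by
            rw [h5]; simp only [Category.assoc]
        _ = ξ₀ ≫ ((pullback.fst t₁ t₂ ≫ s) ≫ (ρ g').hom) ≫ (ρ g'⁻¹).hom := by rw [h2]
        _ = ξ₀ ≫ pullback.fst t₁ t₂ ≫ s := by
            simp only [Category.assoc]; rw [h6, Category.comp_id]
    have h4 := hfree _ _ _ h3
    exact (inv_mul_eq_one.mp h4).symm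
  have hcovX : ∀ x : X, ∃ (g : G) (y : Y), (ρ g).hom (s y) = x := by
    intro x
    have h1 : p (s (p x)) = p x := by
      rw [← Scheme.Hom.comp_apply, hs]; rfl
    obtain ⟨g, hg⟩ := (orbit hp (s (p x)) x).mp h1
    exact ⟨g, p x, hg⟩
  have hopen : IsOpen (Set.range s) := by
    have hcl : IsClosed (⋃ g ∈ {g : G | g ≠ 1}, Set.range (s ≫ (ρ g).hom)) := by
      apply Set.Finite.isClosed_biUnion (Set.toFinite _)
      intro g _
      exact (s ≫ (ρ g).hom).isClosedEmbedding.isClosed_range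
    have heq : Set.range s = (⋃ g ∈ {g : G | g ≠ 1}, Set.range (s ≫ (ρ g).hom))ᶜ := by
      ext x
      simp only [Set.mem_compl_iff, Set.mem_iUnion, Set.mem_range, Set.mem_ofPred_eq, not_exists]
      constructor
      · rintro ⟨y, rfl⟩ g hg y' hy'
        apply hg
        exact hB g 1 y' y (by rw [act_one_apply]; exact hy')
      · intro hx
        obtain ⟨g, y, hgy⟩ := hcovX x
        by_cases hg : g = 1
        · subst hg
          rw [act_one_apply] at hgy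
          exact ⟨y, hgy⟩
        · exact absurd hgy (hx g hg y)
    rw [heq]
    exact hcl.isOpen_compl
  obtain ⟨Y', hY'⟩ : ∃ Y' : X.Opens, (Y' : Set X) = Set.range s := ⟨⟨_, hopen⟩, rfl⟩
  have hρ1 : ∀ h : (⊥ : Subgroup G),
      ((1 : (⊥ : Subgroup G) →* Aut (Y' : Scheme.{u})) h).hom ≫ Y'.ι = Y'.ι ≫ (ρ (h : G)).hom := by
    intro h
    have h1 : (h : G) = 1 := Subgroup.mem_bot.mp h.2
    rw [h1, hom_one]
    change 𝟙 _ ≫ Y'.ι = Y'.ι ≫ 𝟙 _
    rw [Category.id_comp, Category.comp_id]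
  have hQ := main_S13080 ρ p hp (⊥ : Subgroup G) Y'
    (by
      intro x
      obtain ⟨g, y, hgy⟩ := hcovX x
      refine ⟨g, s y, ?_, hgy⟩
      rw [hY']
      exact ⟨y, rfl⟩)
    (by
      intro g hg
      rw [Set.disjoint_left]
      rintro x ⟨x', hx', rfl⟩ hx
      rw [hY'] at hx' hx
      obtain ⟨y', rfl⟩ := hx'
      obtain ⟨y, hy⟩ := hx
      apply hg
      rw [Subgroup.mem_bot]
      exact hB g 1 y' y (by rw [act_one_apply]; exact hy.symm))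
    1 hρ1
  haveI : IsIso (Y'.ι ≫ p) := isIso_of_isQuot_trivial _ _ hQ (fun _ => rfl)
  have hrange : Set.range s ⊆ Set.range Y'.ι := by
    rw [Scheme.Opens.range_ι, hY']
  obtain ⟨s', hfac⟩ : ∃ s' : Y ⟶ (Y' : Scheme.{u}), s' ≫ Y'.ι = s :=
    ⟨IsOpenImmersion.lift Y'.ι s hrange, IsOpenImmersion.lift_fac _ _ _⟩
  haveI : IsIso s' := by
    have h1 : s' = inv (Y'.ι ≫ p) := by
      rw [← cancel_mono (Y'.ι ≫ p), IsIso.inv_hom_id, ← Category.assoc, hfac, hs]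
    rw [h1]
    infer_instance
  haveI : IsOpenImmersion s := by
    have h : IsOpenImmersion (s' ≫ Y'.ι) := inferInstance
    rwa [hfac] at h
  haveI : ∀ g : G, IsOpenImmersion (s ≫ (ρ g).hom) := fun g => inferInstance
  haveI : IsOpenImmersion (Sigma.desc (fun g : G => s ≫ (ρ g).hom)) := by
    apply isOpenImmersion_sigmaDesc
    intro g g' hgg
    rw [Function.onFun, Set.disjoint_left]
    rintro x ⟨y, rfl⟩ ⟨y', hy'⟩
    exact hgg (hB g g' y y' hy'.symm)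
  rw [isIso_iff_isOpenImmersion_and_surjective]
  refine ⟨inferInstance, ⟨fun x => ?_⟩⟩
  obtain ⟨g, y, hgy⟩ := hcovX x
  refine ⟨Sigma.ι (fun _ : G => Y) g y, ?_⟩
  rw [← Scheme.Hom.comp_apply, Sigma.ι_desc]
  exact hgy

end Free

end Groth.Agent.H4.QuotClopen
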