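import Mathlib

/-!
# Invariants commute with flat base change (helper4)
-/

set_option autoImplicit false
universe u
open CategoryTheory CategoryTheory.Limits TensorProduct

namespace Groth.Agent.H4.QuotFlatA
noncomputable section

section Alg
variable {A B A' : Type u} [CommRing A] [CommRing B] [CommRing A'] [Algebra A B] [Algebra A A']
  [Module.Flat A A'] {G : Type*} [Finite G] (act : G → B →ₐ[A] B)

/-- the `A`-linear map `b ↦ (g ↦ g b - b)` whose kernel is the ring of invariants. -/
def diffMap : B →ₗ[A] (G → B) :=
  LinearMap.pi fun g => (act g).toLinearMap - LinearMap.id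

lemma diffMap_apply (b : B) (g : G) : diffMap act b g = act g b - b := rfl

include act in
theorem invariants_baseChange
    (hinj : Function.Injective (algebraMap A B))
    (hinv : ∀ b : B, (∀ g, act g b = b) → b ∈ Set.range (algebraMap A B)) :
    Function.Injective (fun a' : A' => (1 : B) ⊗ₜ[A] a') ∧
      ∀ x : B ⊗[A] A', (∀ g, Algebra.TensorProduct.map (act g) (AlgHom.id A A') x = x) →
        ∃ a' : A', (1 : B) ⊗ₜ[A] a' = x := by
  classical
  cases nonempty_fintype G
  have hex : Function.Exact (Algebra.linearMap A B) (diffMap act) := by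
    intro b
    constructor
    · intro hb
      apply hinv b
      intro g
      have := congrFun hb g
      rw [diffMap_apply] at this
      exact sub_eq_zero.mp this
    · rintro ⟨a, rfl⟩
      ext g
      rw [diffMap_apply]
      change act g (algebraMap A B a) - algebraMap A B a = 0
      rw [AlgHom.commutes, sub_self]
  have hex' := Module.Flat.rTensor_exact A' hex
  have hinj' : Function.Injective ((Algebra.linearMap A B).rTensor A') :=
    Module.Flat.rTensor_preserves_injective_linearMap _ hinj
  have hone : ∀ a' : A', (1 : B) ⊗ₜ[A] a' =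
      (Algebra.linearMap A B).rTensor A' ((TensorProduct.lid A A').symm a') := by
    intro a'
    rw [TensorProduct.lid_symm_apply, LinearMap.rTensor_tmul]
    simp
  constructor
  · intro a₁ a₂ h
    change (1 : B) ⊗ₜ[A] a₁ = (1 : B) ⊗ₜ[A] a₂ at h
    rw [hone, hone] at h
    exact (TensorProduct.lid A A').symm.injective (hinj' h)
  · intro x hx
    have hx0 : (diffMap act).rTensor A' x = 0 := by
      apply (TensorProduct.piLeft A A' (fun _ : G => B)).injective
      rw [map_zero]
      ext g
      have key : ∀ y : B ⊗[A] A', TensorProduct.piLeft A A' (fun _ : G => B)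
          ((diffMap act).rTensor A' y) g =
          Algebra.TensorProduct.map (act g) (AlgHom.id A A') y - y := by
        intro y
        induction y using TensorProduct.induction_on with
        | zero => simp
        | tmul b a' =>
          simp [diffMap_apply, TensorProduct.sub_tmul]
        | add y z hy hz =>
          rw [map_add, map_add, Pi.add_apply, hy, hz, map_add]
          abel
      rw [key, hx g, sub_self]
      rfl
    obtain ⟨y, rfl⟩ := (hex' x).mp hx0
    refine ⟨TensorProduct.lid A A' y, ?_⟩
    rw [hone, LinearEquiv.symm_apply_apply]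

end Alg

section Cat

/-- categorical form: invariants in a pushout square along a flat map. -/
theorem quot_of_isPushout_flat {A B A' B' : CommRingCat.{u}} (α : A ⟶ B) (β : A ⟶ A')
    (α' : B ⟶ B') (β' : A' ⟶ B') (sq : IsPushout α β α' β') (hβ : β.hom.Flat)
    {G : Type*} [Finite G] (act : G → (B ⟶ B)) (act' : G → (B' ⟶ B'))
    (h1 : ∀ g, α' ≫ act' g = act g ≫ α') (h2 : ∀ g, β' ≫ act' g = β')
    (hfix : ∀ g, α ≫ act g = α)
    (hinj : Function.Injective α.hom)
    (hinv : ∀ b : B, (∀ g, (act g).hom b = b) → b ∈ Set.range α.hom) :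
    Function.Injective β'.hom ∧
      ∀ b' : B', (∀ g, (act' g).hom b' = b') → b' ∈ Set.range β'.hom := by
  letI : Algebra A B := α.hom.toAlgebra
  letI : Algebra A A' := β.hom.toAlgebra
  haveI : Module.Flat A A' := hβ
  let actA : G → B →ₐ[A] B := fun g =>
    { (act g).hom with commutes' := fun a => congr($(hfix g).hom a) }
  obtain ⟨hI, hR⟩ := invariants_baseChange (A' := A') actA hinj
    (fun b hb => hinv b hb)
  let E := (CommRingCat.isPushout_tensorProduct A B A').isoIsPushout _ _ sq
  have hE1 : ∀ b : B, E.hom.hom (b ⊗ₜ[A] (1 : A')) = α'.hom b := fun b =>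
    congr($((CommRingCat.isPushout_tensorProduct A B A').inl_isoIsPushout_hom _ _ sq).hom b)
  have hE2 : ∀ x : A', E.hom.hom ((1 : B) ⊗ₜ[A] x) = β'.hom x := fun x =>
    congr($((CommRingCat.isPushout_tensorProduct A B A').inr_isoIsPushout_hom _ _ sq).hom x)
  have hEbij : Function.Bijective E.hom.hom :=
    (ConcreteCategory.isIso_iff_bijective E.hom).mp inferInstance
  constructor
  · intro a₁ a₂ h
    apply hI
    apply hEbij.1
    change E.hom.hom ((1 : B) ⊗ₜ[A] a₁) = E.hom.hom ((1 : B) ⊗ₜ[A] a₂)
    rw [hE2, hE2, h]
  · intro b' hb'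
    obtain ⟨x, rfl⟩ := hEbij.2 b'
    have hx : ∀ g, Algebra.TensorProduct.map (actA g) (AlgHom.id A A') x = x := by
      intro g
      apply hEbij.1
      have hcomp : ∀ y : B ⊗[A] A', E.hom.hom
          (Algebra.TensorProduct.map (actA g) (AlgHom.id A A') y) =
          (act' g).hom (E.hom.hom y) := by
        intro y
        induction y using TensorProduct.induction_on with
        | zero => simp
        | tmul b z =>
          have e1 : ∀ (b : B) (z : A'), b ⊗ₜ[A] z = (b ⊗ₜ[A] (1 : A')) * ((1 : B) ⊗ₜ[A] z) := by
            intro b z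
            rw [Algebra.TensorProduct.tmul_mul_tmul, mul_one, one_mul]
          rw [Algebra.TensorProduct.map_tmul, e1 b z, e1 _ (_ : A'), map_mul, map_mul, map_mul,
            hE1, hE2, hE1, hE2]
          congr 1
          · exact (congr($(h1 g).hom b)).symm
          · exact (congr($(h2 g).hom z)).symm
        | add y z hy hz => simp only [map_add, hy, hz]
      rw [hcomp, hb' g]
    obtain ⟨a', rfl⟩ := hR x hx
    exact ⟨a', (hE2 a').symm⟩

end Cat

end
end Groth.Agent.H4.QuotFlatA
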