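import Mathlib
import Groth.Prelude.Def_SGA1
import Groth.Agent.H4.QuotFlatA
import Groth.Agent.H4.QuotKit

/-!
# Quotients by finite groups commute with flat base change (helper4)
-/

set_option autoImplicit false
universe u
open CategoryTheory CategoryTheory.Limits AlgebraicGeometry Opposite TopologicalSpace

namespace Groth.Agent.H4.QuotFlatB
noncomputable section

lemma appLE_congr'' {X Y : Scheme.{u}} {f g : X ⟶ Y} (h : f = g) (U : Y.Opens) (V : X.Opens)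
    (e : V ≤ f ⁻¹ᵁ U) (e' : V ≤ g ⁻¹ᵁ U) : f.appLE U V e = g.appLE U V e' := by
  subst h; rfl

/-- **S5137**: quotients by finite groups commute with flat base change. -/
theorem isQuot_of_flat_baseChange {X Y X' Y' : Scheme.{u}} {G : Type u} [Group G] [Finite G]
    (ρ : G →* Aut X) (p : X ⟶ Y) (hp : SGA1.IsQuot ρ p)
    (qY : Y' ⟶ Y) [Flat qY]
    (pX : X' ⟶ X) (p' : X' ⟶ Y') (hX : IsPullback pX p' p qY)
    (ρ' : G →* Aut X') (hρ₁ : ∀ g : G, (ρ' g).hom ≫ pX = pX ≫ (ρ g).hom)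
    (hρ₂ : ∀ g : G, (ρ' g).hom ≫ p' = p') :
    SGA1.IsQuot ρ' p' := by
  haveI := hp.affine
  haveI : IsAffineHom p' := MorphismProperty.of_isPullback (P := @IsAffineHom) hX hp.affine
  refine Groth.Agent.H4.QuotKit.isQuot_of_affine_cover ρ' p' hρ₂
    (fun i : {P : Y.affineOpens × Y'.affineOpens // P.2.1 ≤ qY ⁻¹ᵁ P.1.1} => i.1.2.1) ?_
    (fun i => i.1.2.2) (fun i => ?_)
  · rw [eq_top_iff]
    intro y' _
    obtain ⟨W, hW, hyW, -⟩ := exists_isAffineOpen_mem_and_subset (x := qY y')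
      (U := ⊤) trivial
    obtain ⟨W', hW', hyW', hW'le⟩ := exists_isAffineOpen_mem_and_subset (x := y')
      (U := qY ⁻¹ᵁ W) hyW
    exact Opens.mem_iSup.mpr ⟨⟨(⟨W, hW⟩, ⟨W', hW'⟩), hW'le⟩, hyW'⟩
  · obtain ⟨⟨⟨W, hW⟩, ⟨W', hW'⟩⟩, hle⟩ := i
    change W' ≤ qY ⁻¹ᵁ W at hle
    change Groth.Agent.H4.QuotKit.QAt ρ' p' hρ₂ W'
    have hle2 : p' ⁻¹ᵁ W' ≤ pX ⁻¹ᵁ (p ⁻¹ᵁ W) := by
      have h1 : p' ⁻¹ᵁ W' ≤ p' ⁻¹ᵁ (qY ⁻¹ᵁ W) := p'.preimage_mono hle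
      have h2 : p' ⁻¹ᵁ (qY ⁻¹ᵁ W) = pX ⁻¹ᵁ (p ⁻¹ᵁ W) := by
        rw [← Scheme.Hom.comp_preimage, ← Scheme.Hom.comp_preimage, hX.w]
      exact h1.trans h2.le
    have hUY : p' ⁻¹ᵁ W' = pX ⁻¹ᵁ (p ⁻¹ᵁ W) ⊓ p' ⁻¹ᵁ W' := (inf_eq_right.mpr hle2).symm
    have sq := (isIso_pushoutSection_iff hX (US := W) (UT := W') (UX := p ⁻¹ᵁ W) hle le_rfl
      hUY).mp (isIso_pushoutSection_of_isAffineOpen hX hle le_rfl hUY hW hW' (hW.preimage p))
    have key := Groth.Agent.H4.QuotFlatA.quot_of_isPushout_flat _ _ _ _ sq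
      (qY.flat_appLE hW hW' hle)
      (fun g : G => Groth.Agent.H2.Quot.sig ρ p hp.inv W g)
      (fun g : G => Groth.Agent.H2.Quot.sig ρ' p' hρ₂ W' g) ?_ ?_ ?_ ?_ ?_
    · rw [Scheme.Hom.appLE_eq_app] at key
      exact key
    · intro g
      unfold Groth.Agent.H2.Quot.sig
      rw [Scheme.Hom.appLE_comp_appLE, Scheme.Hom.appLE_comp_appLE]
      exact appLE_congr'' (hρ₁ g) _ _ _ _
    · intro g
      unfold Groth.Agent.H2.Quot.sig
      rw [Scheme.Hom.appLE_comp_appLE]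
      exact appLE_congr'' (hρ₂ g) _ _ _ _
    · intro g
      unfold Groth.Agent.H2.Quot.sig
      rw [Scheme.Hom.appLE_comp_appLE]
      exact appLE_congr'' (hp.inv g) _ _ _ _
    · rw [Scheme.Hom.appLE_eq_app]
      exact hp.injective W
    · intro b hb
      rw [Scheme.Hom.appLE_eq_app]
      exact (hp.range_iff W b).mpr hb

end
end Groth.Agent.H4.QuotFlatB
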