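import Mathlib
import Groth.Prelude.Def_SGA1
import Groth.Agent.H4.QuotFlatB

/-!
# Quotients in stages and products of quotients (helper4)
-/

set_option autoImplicit false
universe u
open CategoryTheory CategoryTheory.Limits AlgebraicGeometry Opposite TopologicalSpace
open Groth.Agent.H4.QuotFlatB

namespace Groth.Agent.H4.QuotFlatC
noncomputable section

/-- **quotients in stages**: a quotient by `G` followed by a quotient by `H` is a quotient by
`G × H`. -/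
theorem isQuot_comp {W M N : Scheme.{u}} {G H : Type u} [Group G] [Group H]
    (θ : G × H →* Aut W) (τ : H →* Aut M) (π₁ : W ⟶ M) (π₂ : M ⟶ N)
    (h₁ : SGA1.IsQuot (θ.comp (MonoidHom.inl G H)) π₁)
    (hτ : ∀ gh : G × H, (θ gh).hom ≫ π₁ = π₁ ≫ (τ gh.2).hom)
    (h₂ : SGA1.IsQuot τ π₂) : SGA1.IsQuot θ (π₁ ≫ π₂) := by
  haveI := h₁.affine
  haveI := h₂.affine
  have hinv : ∀ gh : G × H, (θ gh).hom ≫ π₁ ≫ π₂ = π₁ ≫ π₂ := by
    intro gh
    rw [← Category.assoc, hτ gh, Category.assoc, h₂.inv gh.2]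
  refine Groth.Agent.H4.QuotKit.isQuot_of_QAt θ (π₁ ≫ π₂) hinv (fun U => ⟨?_, ?_⟩)
  · rw [Scheme.Hom.comp_app]
    exact (h₁.injective (π₂ ⁻¹ᵁ U)).comp (h₂.injective U)
  · intro s hs
    have hs1 : ∀ g : G, (((θ.comp (MonoidHom.inl G H)) g).hom.appLE (π₁ ⁻¹ᵁ (π₂ ⁻¹ᵁ U))
        (π₁ ⁻¹ᵁ (π₂ ⁻¹ᵁ U)) (SGA1.preimage_le_of_inv _ π₁ h₁.inv g (π₂ ⁻¹ᵁ U))).hom s = s :=
      fun g => hs (g, 1)
    obtain ⟨t, ht⟩ := (h₁.range_iff (π₂ ⁻¹ᵁ U) s).mpr hs1
    have ht2 : ∀ h : H, ((τ h).hom.appLE (π₂ ⁻¹ᵁ U) (π₂ ⁻¹ᵁ U)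
        (SGA1.preimage_le_of_inv τ π₂ h₂.inv h U)).hom t = t := by
      intro h
      apply h₁.injective (π₂ ⁻¹ᵁ U)
      have e1 : (τ h).hom.appLE (π₂ ⁻¹ᵁ U) (π₂ ⁻¹ᵁ U)
          (SGA1.preimage_le_of_inv τ π₂ h₂.inv h U) ≫ π₁.app (π₂ ⁻¹ᵁ U) =
          π₁.app (π₂ ⁻¹ᵁ U) ≫ (θ (1, h)).hom.appLE (π₁ ⁻¹ᵁ (π₂ ⁻¹ᵁ U)) (π₁ ⁻¹ᵁ (π₂ ⁻¹ᵁ U))
            (SGA1.preimage_le_of_inv θ (π₁ ≫ π₂) hinv (1, h) U) := by
        rw [Scheme.Hom.app_eq_appLE, Scheme.Hom.appLE_comp_appLE, Scheme.Hom.appLE_comp_appLE]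
        exact appLE_congr'' (hτ (1, h)).symm _ _ _ _
      have e2 := congr($(e1).hom t)
      refine e2.trans ?_
      change ((θ (1, h)).hom.appLE _ _ _).hom ((π₁.app (π₂ ⁻¹ᵁ U)).hom t) = _
      rw [ht]
      exact hs (1, h)
    obtain ⟨u, hu⟩ := (h₂.range_iff U t).mpr ht2
    refine ⟨u, ?_⟩
    rw [Scheme.Hom.comp_app]
    change (π₁.app (π₂ ⁻¹ᵁ U)).hom ((π₂.app U).hom u) = s
    rw [hu, ht]

section Prod
variable {k : Type u} [Field k] {G H : Type u} [Group G] [Finite G] [Group H] [Finite H]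
  {X Y XG YH : Scheme.{u}} (fX : X ⟶ Spec (CommRingCat.of k)) (fY : Y ⟶ Spec (CommRingCat.of k))
  (gX : XG ⟶ Spec (CommRingCat.of k)) (gY : YH ⟶ Spec (CommRingCat.of k))
  (σ : H →* Aut Y) (hσ : ∀ h, (σ h).hom ≫ fY = fY)

/-- `id × σ h` on `XG ×_k Y`. -/
def tauHom (h : H) : pullback gX fY ⟶ pullback gX fY :=
  pullback.lift (pullback.fst gX fY) (pullback.snd gX fY ≫ (σ h).hom)
    (by rw [Category.assoc, hσ h]; exact pullback.condition)

lemma tauHom_fst (h : H) : tauHom fY gX σ hσ h ≫ pullback.fst gX fY = pullback.fst gX fY :=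
  pullback.lift_fst _ _ _

lemma tauHom_snd (h : H) :
    tauHom fY gX σ hσ h ≫ pullback.snd gX fY = pullback.snd gX fY ≫ (σ h).hom :=
  pullback.lift_snd _ _ _

lemma tauHom_mul (h h' : H) :
    tauHom fY gX σ hσ (h * h') = tauHom fY gX σ hσ h' ≫ tauHom fY gX σ hσ h := by
  apply pullback.hom_ext
  · rw [Category.assoc, tauHom_fst, tauHom_fst, tauHom_fst]
  · have hm : (σ (h * h')).hom = (σ h').hom ≫ (σ h).hom := by rw [map_mul]; rfl
    calc tauHom fY gX σ hσ (h * h') ≫ pullback.snd gX fY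
        = pullback.snd gX fY ≫ (σ h').hom ≫ (σ h).hom := by rw [tauHom_snd, hm]
      _ = (tauHom fY gX σ hσ h' ≫ pullback.snd gX fY) ≫ (σ h).hom := by
          rw [tauHom_snd, Category.assoc]
      _ = (tauHom fY gX σ hσ h' ≫ tauHom fY gX σ hσ h) ≫ pullback.snd gX fY := by
          rw [Category.assoc, Category.assoc, tauHom_snd]

lemma tauHom_one : tauHom fY gX σ hσ 1 = 𝟙 _ := by
  apply pullback.hom_ext
  · rw [tauHom_fst, Category.id_comp]
  · rw [tauHom_snd, Category.id_comp, map_one]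
    exact Category.comp_id _

/-- the action of `H` on `XG ×_k Y` through the second factor. -/
def tau : H →* Aut (pullback gX fY) where
  toFun h :=
    { hom := tauHom fY gX σ hσ h
      inv := tauHom fY gX σ hσ h⁻¹
      hom_inv_id := by rw [← tauHom_mul, inv_mul_cancel, tauHom_one]
      inv_hom_id := by rw [← tauHom_mul, mul_inv_cancel, tauHom_one] }
  map_one' := Iso.ext (tauHom_one fY gX σ hσ)
  map_mul' h h' := Iso.ext (tauHom_mul fY gX σ hσ h h')

lemma tau_hom (h : H) : (tau fY gX σ hσ h).hom = tauHom fY gX σ hσ h := rfl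

include hσ in
/-- **S13079**: the product of two quotients is a quotient for the product action. -/
theorem main_S13079 (ρ : G →* Aut X)
    (p : X ⟶ XG) (hp : p ≫ gX = fX) (q : Y ⟶ YH) (hq : q ≫ gY = fY)
    (hP : SGA1.IsQuot ρ p) (hQ : SGA1.IsQuot σ q)
    (θ : G × H →* Aut (pullback fX fY))
    (hθ1 : ∀ gh : G × H, (θ gh).hom ≫ pullback.fst fX fY = pullback.fst fX fY ≫ (ρ gh.1).hom)
    (hθ2 : ∀ gh : G × H, (θ gh).hom ≫ pullback.snd fX fY = pullback.snd fX fY ≫ (σ gh.2).hom)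
    (π : pullback fX fY ⟶ pullback gX gY) (hπ1 : π ≫ pullback.fst gX gY = pullback.fst fX fY ≫ p)
    (hπ2 : π ≫ pullback.snd gX gY = pullback.snd fX fY ≫ q) :
    SGA1.IsQuot θ π := by
  obtain ⟨π₁, hπ₁⟩ : ∃ π₁ : pullback fX fY ⟶ pullback gX fY,
      π₁ = pullback.lift (pullback.fst fX fY ≫ p) (pullback.snd fX fY)
        (by rw [Category.assoc, hp]; exact pullback.condition) := ⟨_, rfl⟩
  have hπ₁f : π₁ ≫ pullback.fst gX fY = pullback.fst fX fY ≫ p := by
    rw [hπ₁]; exact pullback.lift_fst _ _ _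
  have hπ₁s : π₁ ≫ pullback.snd gX fY = pullback.snd fX fY := by
    rw [hπ₁]; exact pullback.lift_snd _ _ _
  clear hπ₁
  obtain ⟨π₂, hπ₂⟩ : ∃ π₂ : pullback gX fY ⟶ pullback gX gY,
      π₂ = pullback.lift (pullback.fst gX fY) (pullback.snd gX fY ≫ q)
        (by rw [Category.assoc, hq]; exact pullback.condition) := ⟨_, rfl⟩
  have hπ₂f : π₂ ≫ pullback.fst gX gY = pullback.fst gX fY := by
    rw [hπ₂]; exact pullback.lift_fst _ _ _
  have hπ₂s : π₂ ≫ pullback.snd gX gY = pullback.snd gX fY ≫ q := by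
    rw [hπ₂]; exact pullback.lift_snd _ _ _
  clear hπ₂
  have hπ : π = π₁ ≫ π₂ := by
    apply pullback.hom_ext
    · rw [hπ1, Category.assoc, hπ₂f, hπ₁f]
    · rw [hπ2, Category.assoc, hπ₂s, ← Category.assoc, hπ₁s]
  -- first stage
  have sq1 : IsPullback (pullback.fst fX fY) π₁ p (pullback.fst gX fY) := by
    have t : IsPullback (π₁ ≫ pullback.snd gX fY) (pullback.fst fX fY) fY (p ≫ gX) := by
      rw [hπ₁s, hp]
      exact (IsPullback.of_hasPullback fX fY).flip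
    exact (IsPullback.of_right t hπ₁f (IsPullback.of_hasPullback gX fY).flip).flip
  haveI : Flat (pullback.fst gX fY) :=
    MorphismProperty.of_isPullback (P := @Flat) (IsPullback.of_hasPullback gX fY).flip
      inferInstance
  have h₁ : SGA1.IsQuot (θ.comp (MonoidHom.inl G H)) π₁ := by
    refine isQuot_of_flat_baseChange ρ p hP (pullback.fst gX fY) (pullback.fst fX fY) π₁ sq1
      (θ.comp (MonoidHom.inl G H)) (fun g => hθ1 (g, 1)) (fun g => ?_)
    apply pullback.hom_ext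
    · rw [Category.assoc, hπ₁f, ← Category.assoc]
      change ((θ (g, 1)).hom ≫ pullback.fst fX fY) ≫ p = _
      rw [hθ1 (g, 1), Category.assoc, hP.inv g]
    · rw [Category.assoc, hπ₁s]
      change (θ (g, 1)).hom ≫ pullback.snd fX fY = _
      rw [hθ2 (g, 1), map_one]
      exact Category.comp_id _
  -- second stage
  have sq2 : IsPullback (pullback.snd gX fY) π₂ q (pullback.snd gX gY) := by
    have t : IsPullback (π₂ ≫ pullback.fst gX gY) (pullback.snd gX fY) gX (q ≫ gY) := by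
      rw [hπ₂f, hq]
      exact IsPullback.of_hasPullback gX fY
    exact (IsPullback.of_right t hπ₂s (IsPullback.of_hasPullback gX gY)).flip
  haveI : Flat (pullback.snd gX gY) :=
    MorphismProperty.of_isPullback (P := @Flat) (IsPullback.of_hasPullback gX gY)
      inferInstance
  have h₂ : SGA1.IsQuot (tau fY gX σ hσ) π₂ := by
    refine isQuot_of_flat_baseChange σ q hQ (pullback.snd gX gY) (pullback.snd gX fY) π₂ sq2
      (tau fY gX σ hσ) (fun h => tauHom_snd fY gX σ hσ h) (fun h => ?_)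
    rw [tau_hom]
    apply pullback.hom_ext
    · rw [Category.assoc, hπ₂f, tauHom_fst]
    · rw [Category.assoc, hπ₂s, ← Category.assoc, tauHom_snd, Category.assoc, hQ.inv h]
  have hτ : ∀ gh : G × H, (θ gh).hom ≫ π₁ = π₁ ≫ (tau fY gX σ hσ gh.2).hom := by
    intro gh
    rw [tau_hom]
    apply pullback.hom_ext
    · rw [Category.assoc, hπ₁f, ← Category.assoc, hθ1 gh, Category.assoc, hP.inv gh.1,
        Category.assoc, tauHom_fst, hπ₁f]
    · rw [Category.assoc, hπ₁s, hθ2 gh, Category.assoc, tauHom_snd, ← Category.assoc, hπ₁s]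
  rw [hπ]
  exact isQuot_comp θ (tau fY gX σ hσ) π₁ π₂ h₁ hτ h₂

end Prod

end
end Groth.Agent.H4.QuotFlatC
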