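import Mathlib
import Groth.Prelude.Def_SGA1
import Groth.Agent.H4.QuotEx

/-!
# Points of quotients by finite groups with values in fields (helper4)

* `exists_smul_of_comp_algebraMap_eq`: two ring maps `B → K` to a field agreeing on `A = B^G`
  differ by an element of `G`.
* `exists_act_of_comp_eq`: two `K`-points of `X` with the same image in `X/G` are conjugate.
* `universallyInjective_of_quot`: a criterion for universal injectivity of maps out of quotients.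
-/

set_option autoImplicit false
set_option linter.style.haveILetI false
universe u
open CategoryTheory Limits AlgebraicGeometry TopologicalSpace Opposite

namespace Groth.Agent.H4.QuotPts

open scoped Pointwise
open Groth.Agent.H2.Quot Groth.Agent.H4.QuotKit Groth.Agent.H4.QuotFin Groth.Agent.H4.QuotEx

section Alg

variable {A B : Type u} [CommRing A] [CommRing B] [Algebra A B]
  (G : Type u) [Group G] [Finite G] [MulSemiringAction G B] [SMulCommClass G A B]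
  [Algebra.IsInvariant A B G] {K : Type u} [Field K]

theorem exists_smul_of_ker_eq (α₁ α₂ : B →+* K) (hker : RingHom.ker α₁ = RingHom.ker α₂)
    (h : α₁.comp (algebraMap A B) = α₂.comp (algebraMap A B)) :
    ∃ g : G, ∀ b, α₂ b = α₁ (g • b) := by
  obtain ⟨Q, hQ⟩ : ∃ Q : Ideal B, Q = RingHom.ker α₁ := ⟨_, rfl⟩
  haveI : Q.IsPrime := hQ ▸ RingHom.ker_isPrime α₁
  obtain ⟨P, hP⟩ : ∃ P : Ideal A, P = Q.under A := ⟨_, rfl⟩
  haveI : Q.LiesOver P := ⟨hP⟩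
  haveI : P.IsPrime := hP ▸ Ideal.IsPrime.under A Q
  obtain ⟨β₁, hβ₁⟩ : ∃ β₁ : B ⧸ Q →+* K, ∀ b, β₁ (Ideal.Quotient.mk Q b) = α₁ b :=
    ⟨Ideal.Quotient.lift Q α₁ (fun b hb => by rw [hQ] at hb; exact hb), fun b => rfl⟩
  obtain ⟨β₂, hβ₂⟩ : ∃ β₂ : B ⧸ Q →+* K, ∀ b, β₂ (Ideal.Quotient.mk Q b) = α₂ b :=
    ⟨Ideal.Quotient.lift Q α₂ (fun b hb => by rw [hQ, hker] at hb; exact hb), fun b => rfl⟩
  have hβ₁i : Function.Injective β₁ := by
    rw [injective_iff_map_eq_zero]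
    intro x hx
    obtain ⟨b, rfl⟩ := Ideal.Quotient.mk_surjective x
    rw [hβ₁] at hx
    rw [Ideal.Quotient.eq_zero_iff_mem, hQ]
    exact hx
  have hβ₂i : Function.Injective β₂ := by
    rw [injective_iff_map_eq_zero]
    intro x hx
    obtain ⟨b, rfl⟩ := Ideal.Quotient.mk_surjective x
    rw [hβ₂] at hx
    rw [Ideal.Quotient.eq_zero_iff_mem, hQ, hker]
    exact hx
  letI := FractionRing.liftAlgebra (A ⧸ P) (FractionRing (B ⧸ Q))
  obtain ⟨γ₁, hγ₁⟩ : ∃ γ₁ : FractionRing (B ⧸ Q) →+* K,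
      ∀ x, γ₁ (algebraMap (B ⧸ Q) (FractionRing (B ⧸ Q)) x) = β₁ x :=
    ⟨IsFractionRing.lift hβ₁i, fun x => IsFractionRing.lift_algebraMap hβ₁i x⟩
  obtain ⟨γ₂, hγ₂⟩ : ∃ γ₂ : FractionRing (B ⧸ Q) →+* K,
      ∀ x, γ₂ (algebraMap (B ⧸ Q) (FractionRing (B ⧸ Q)) x) = β₂ x :=
    ⟨IsFractionRing.lift hβ₂i, fun x => IsFractionRing.lift_algebraMap hβ₂i x⟩
  letI : Algebra (FractionRing (B ⧸ Q)) K := γ₁.toAlgebra
  letI : Algebra (FractionRing (A ⧸ P)) K :=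
    (γ₁.comp (algebraMap (FractionRing (A ⧸ P)) (FractionRing (B ⧸ Q)))).toAlgebra
  haveI : IsScalarTower (FractionRing (A ⧸ P)) (FractionRing (B ⧸ Q)) K :=
    IsScalarTower.of_algebraMap_eq (fun _ => rfl)
  have hγ : γ₂.comp (algebraMap (FractionRing (A ⧸ P)) (FractionRing (B ⧸ Q))) =
      γ₁.comp (algebraMap (FractionRing (A ⧸ P)) (FractionRing (B ⧸ Q))) := by
    apply IsLocalization.ringHom_ext (nonZeroDivisors (A ⧸ P))
    apply RingHom.ext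
    intro x
    obtain ⟨a, rfl⟩ := Ideal.Quotient.mk_surjective x
    have e1 : algebraMap (FractionRing (A ⧸ P)) (FractionRing (B ⧸ Q))
        (algebraMap (A ⧸ P) (FractionRing (A ⧸ P)) (Ideal.Quotient.mk P a)) =
        algebraMap (B ⧸ Q) (FractionRing (B ⧸ Q)) (Ideal.Quotient.mk Q (algebraMap A B a)) := by
      rw [← IsScalarTower.algebraMap_apply, IsScalarTower.algebraMap_apply (A ⧸ P) (B ⧸ Q)]
      rfl
    change γ₂ (algebraMap _ _ (algebraMap _ _ _)) = γ₁ (algebraMap _ _ (algebraMap _ _ _))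
    rw [e1, hγ₁, hγ₂, hβ₁, hβ₂]
    exact (congr($h a)).symm
  obtain ⟨σ, hσ⟩ : ∃ σ : FractionRing (B ⧸ Q) →ₐ[FractionRing (A ⧸ P)] K, ∀ x, σ x = γ₂ x :=
    ⟨{ γ₂ with commutes' := fun x => congr($hγ x) }, fun x => rfl⟩
  haveI : Normal (FractionRing (A ⧸ P)) (FractionRing (B ⧸ Q)) :=
    Ideal.IsFractionRing.normal G P Q (FractionRing (A ⧸ P)) (FractionRing (B ⧸ Q))
  obtain ⟨τ, hτ⟩ : ∃ τ : Gal(FractionRing (B ⧸ Q)/FractionRing (A ⧸ P)),
      ∀ x, γ₂ x = γ₁ (τ x) := by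
    refine ⟨Normal.algHomEquivAut (FractionRing (A ⧸ P)) K (FractionRing (B ⧸ Q)) σ, fun x => ?_⟩
    have h1 := (Normal.algHomEquivAut (FractionRing (A ⧸ P)) K (FractionRing (B ⧸ Q))).left_inv σ
    rw [← hσ]
    exact (congr($h1 x)).symm
  obtain ⟨g, hg⟩ := IsFractionRing.stabilizerHom_surjective G P Q
    (FractionRing (A ⧸ P)) (FractionRing (B ⧸ Q)) τ
  refine ⟨g.1, fun b => ?_⟩
  have h1 := IsFractionRing.stabilizerHom_apply_apply_mk G P Q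
    (FractionRing (A ⧸ P)) (FractionRing (B ⧸ Q)) g b
  rw [hg] at h1
  calc α₂ b = γ₂ (algebraMap (B ⧸ Q) (FractionRing (B ⧸ Q)) (Ideal.Quotient.mk Q b)) := by
        rw [hγ₂, hβ₂]
    _ = γ₁ (τ (algebraMap (B ⧸ Q) (FractionRing (B ⧸ Q)) (Ideal.Quotient.mk Q b))) := hτ _
    _ = γ₁ (algebraMap (B ⧸ Q) (FractionRing (B ⧸ Q)) (Ideal.Quotient.mk Q (g.1 • b))) := by
        rw [h1]
    _ = α₁ (g.1 • b) := by rw [hγ₁, hβ₁]

theorem exists_smul_of_comp_algebraMap_eq (α₁ α₂ : B →+* K)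
    (h : α₁.comp (algebraMap A B) = α₂.comp (algebraMap A B)) :
    ∃ g : G, ∀ b, α₂ b = α₁ (g • b) := by
  haveI hQ₁ : (RingHom.ker α₁).IsPrime := RingHom.ker_isPrime α₁
  haveI hQ₂ : (RingHom.ker α₂).IsPrime := RingHom.ker_isPrime α₂
  have hunder : (RingHom.ker α₁).under A = (RingHom.ker α₂).under A := by
    ext a
    change α₁ (algebraMap A B a) = 0 ↔ α₂ (algebraMap A B a) = 0
    rw [show α₁ (algebraMap A B a) = α₂ (algebraMap A B a) from congr($h a)]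
  obtain ⟨g₀, hg₀⟩ := Algebra.IsInvariant.exists_smul_of_under_eq A B G
    (RingHom.ker α₁) (RingHom.ker α₂) hunder
  have hker' : RingHom.ker (α₁.comp (MulSemiringAction.toRingHom G B g₀⁻¹)) = RingHom.ker α₂ := by
    rw [hg₀]
    ext b
    rw [Ideal.mem_pointwise_smul_iff_inv_smul_mem]
    rfl
  have h' : (α₁.comp (MulSemiringAction.toRingHom G B g₀⁻¹)).comp (algebraMap A B) =
      α₂.comp (algebraMap A B) := by
    rw [← h]
    apply RingHom.ext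
    intro a
    change α₁ (g₀⁻¹ • algebraMap A B a) = α₁ (algebraMap A B a)
    rw [smul_algebraMap]
  obtain ⟨g, hg⟩ := exists_smul_of_ker_eq G (α₁.comp (MulSemiringAction.toRingHom G B g₀⁻¹)) α₂
    hker' h'
  refine ⟨g₀⁻¹ * g, fun b => ?_⟩
  rw [hg b, mul_smul]
  rfl

end Alg

section Pts

/-- a morphism into an affine open is determined by its ring map -/
theorem hom_ext_of_appLE {T X : Scheme.{u}} (a a' : T ⟶ X) {V : X.Opens} (hV : IsAffineOpen V)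
    (e : ⊤ ≤ a ⁻¹ᵁ V) (e' : ⊤ ≤ a' ⁻¹ᵁ V) (h : a.appLE V ⊤ e = a'.appLE V ⊤ e') : a = a' := by
  have h1 := toSpecΓ_appLE_fromSpec a hV ⊤ e
  have h2 := toSpecΓ_appLE_fromSpec a' hV ⊤ e'
  rw [h] at h1
  have h3 : (⊤ : T.Opens).ι ≫ a = (⊤ : T.Opens).ι ≫ a' := h1.symm.trans h2
  rw [← Scheme.topIso_hom] at h3
  exact (cancel_epi _).mp h3

variable {X Y : Scheme.{u}} {G : Type u} [Group G] [Finite G] {ρ : G →* Aut X} {p : X ⟶ Y}

/-- two field-valued points of `X` with the same image in the quotient are conjugate -/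
theorem exists_act_of_comp_eq (hp : SGA1.IsQuot ρ p) {K : Type u} [Field K]
    (a₁ a₂ : Spec (CommRingCat.of K) ⟶ X) (h : a₁ ≫ p = a₂ ≫ p) :
    ∃ g : G, a₂ = a₁ ≫ (ρ g).hom := by
  haveI := hp.affine
  obtain ⟨t, ht⟩ : ∃ t : Spec (CommRingCat.of K), ∀ s : Spec (CommRingCat.of K), s = t :=
    ⟨IsLocalRing.closedPoint K, fun s => @Subsingleton.elim (PrimeSpectrum K) _ s _⟩
  obtain ⟨U, hU, hyU, -⟩ := exists_isAffineOpen_mem_and_subset (x := p (a₁ t)) (U := ⊤) trivial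
  have hV : IsAffineOpen (p ⁻¹ᵁ U) := hU.preimage p
  have e₁ : ⊤ ≤ a₁ ⁻¹ᵁ (p ⁻¹ᵁ U) := by
    intro s _
    rw [ht s]
    exact hyU
  have e₂ : ⊤ ≤ a₂ ⁻¹ᵁ (p ⁻¹ᵁ U) := by
    intro s _
    rw [ht s]
    show p (a₂ t) ∈ U
    have h2 : p (a₂ t) = p (a₁ t) :=
      (congrArg (fun k : Spec (CommRingCat.of K) ⟶ Y => k t) h).symm
    rw [h2]
    exact hyU
  letI := action ρ p hp.inv U
  letI := algebra p U
  haveI := smulCommClass ρ p hp.inv U
  haveI := isInvariant hp U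
  have h3 : p.app U ≫ a₁.appLE (p ⁻¹ᵁ U) ⊤ e₁ = p.app U ≫ a₂.appLE (p ⁻¹ᵁ U) ⊤ e₂ := by
    rw [← Scheme.Hom.comp_appLE, ← Scheme.Hom.comp_appLE]
    exact appLE_congr_hom h _ _ _ _
  have hα : (a₁.appLE (p ⁻¹ᵁ U) ⊤ e₁ ≫ (Scheme.ΓSpecIso (CommRingCat.of K)).hom).hom.comp
      (algebraMap Γ(Y, U) Γ(X, p ⁻¹ᵁ U)) =
      (a₂.appLE (p ⁻¹ᵁ U) ⊤ e₂ ≫ (Scheme.ΓSpecIso (CommRingCat.of K)).hom).hom.comp
      (algebraMap Γ(Y, U) Γ(X, p ⁻¹ᵁ U)) := by
    apply RingHom.ext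
    intro b
    have h4 := congr($(h3).hom b)
    exact congrArg (Scheme.ΓSpecIso (CommRingCat.of K)).hom.hom h4
  obtain ⟨g, hg⟩ := exists_smul_of_comp_algebraMap_eq G _ _ hα
  refine ⟨g⁻¹, ?_⟩
  have e₃ : ⊤ ≤ (a₁ ≫ (ρ g⁻¹).hom) ⁻¹ᵁ (p ⁻¹ᵁ U) := by
    intro s _
    show p ((ρ g⁻¹).hom (a₁ s)) ∈ U
    have h5 : p ((ρ g⁻¹).hom (a₁ s)) = p (a₁ s) :=
      congrArg (fun k : X ⟶ Y => k (a₁ s)) (hp.inv g⁻¹)
    rw [h5, ht s]
    exact hyU
  apply hom_ext_of_appLE a₂ (a₁ ≫ (ρ g⁻¹).hom) hV e₂ e₃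
  have h6 : (a₁ ≫ (ρ g⁻¹).hom).appLE (p ⁻¹ᵁ U) ⊤ e₃ =
      sig ρ p hp.inv U g⁻¹ ≫ a₁.appLE (p ⁻¹ᵁ U) ⊤ e₁ := by
    unfold sig
    rw [Scheme.Hom.appLE_comp_appLE]
  rw [h6]
  have h7 : a₂.appLE (p ⁻¹ᵁ U) ⊤ e₂ ≫ (Scheme.ΓSpecIso (CommRingCat.of K)).hom =
      (sig ρ p hp.inv U g⁻¹ ≫ a₁.appLE (p ⁻¹ᵁ U) ⊤ e₁) ≫
        (Scheme.ΓSpecIso (CommRingCat.of K)).hom := by
    apply CommRingCat.hom_ext
    apply RingHom.ext
    intro b
    exact hg b
  exact (cancel_mono _).mp h7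

/-- lifting a point along a surjective morphism after a field extension -/
theorem exists_lift_field {X' Y' : Scheme.{u}} (r : X' ⟶ Y') [Surjective r] {T : Scheme.{u}}
    [Nonempty T] (y : T ⟶ Y') :
    ∃ (K : Type u) (_ : Field K) (π : Spec (CommRingCat.of K) ⟶ T)
      (x : Spec (CommRingCat.of K) ⟶ X'), x ≫ r = π ≫ y := by
  obtain ⟨t⟩ := ‹Nonempty T›
  obtain ⟨w, -⟩ := (inferInstance : Surjective (pullback.snd r y)).surj t
  refine ⟨(pullback r y).residueField w, inferInstance,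
    (pullback r y).fromSpecResidueField w ≫ pullback.snd r y,
    (pullback r y).fromSpecResidueField w ≫ pullback.fst r y, ?_⟩
  rw [Category.assoc, Category.assoc, pullback.condition]

/-- a criterion for universal injectivity of a morphism out of a quotient-like target -/
theorem universallyInjective_of_quot {X' Y' Z : Scheme.{u}} (r : X' ⟶ Y') [Surjective r]
    (m : Y' ⟶ Z)
    (H : ∀ (K : Type u) [Field K] (x₁ x₂ : Spec (CommRingCat.of K) ⟶ X'),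
      x₁ ≫ r ≫ m = x₂ ≫ r ≫ m → x₁ ≫ r = x₂ ≫ r) : UniversallyInjective m := by
  rw [UniversallyInjective.iff_diagonal]
  refine ⟨fun z => ?_⟩
  obtain ⟨φ, hφ⟩ : ∃ φ : Spec ((pullback m m).residueField z) ⟶ pullback m m,
      φ = (pullback m m).fromSpecResidueField z := ⟨_, rfl⟩
  have hφz : ∀ s, φ s = z := fun s => by
    rw [hφ]
    exact Scheme.fromSpecResidueField_apply _ _
  obtain ⟨K₁, hK₁, π₁, x₁, h₁⟩ := exists_lift_field r (φ ≫ pullback.fst m m)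
  obtain ⟨K₂, hK₂, π₂, x₂, h₂⟩ := exists_lift_field r (π₁ ≫ φ ≫ pullback.snd m m)
  have h3 : (π₂ ≫ x₁) ≫ r = x₂ ≫ r := by
    apply H K₂
    rw [Category.assoc, ← Category.assoc x₁, h₁, ← Category.assoc x₂, h₂]
    simp only [Category.assoc]
    rw [pullback.condition]
  have h4 : π₂ ≫ π₁ ≫ φ ≫ pullback.fst m m = π₂ ≫ π₁ ≫ φ ≫ pullback.snd m m := by
    rw [← h₂, ← h3, Category.assoc, h₁]
  have h5 : π₂ ≫ π₁ ≫ φ = (π₂ ≫ π₁ ≫ φ ≫ pullback.fst m m) ≫ pullback.diagonal m := by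
    apply pullback.hom_ext
    · simp only [Category.assoc, pullback.diagonal_fst, Category.comp_id]
    · simp only [Category.assoc, pullback.diagonal_snd, Category.comp_id]
      exact h4.symm
  obtain ⟨t⟩ : Nonempty (Spec (CommRingCat.of K₂)) := ⟨IsLocalRing.closedPoint K₂⟩
  refine ⟨(π₂ ≫ π₁ ≫ φ ≫ pullback.fst m m) t, ?_⟩
  have h6 := congrArg (fun k : Spec (CommRingCat.of K₂) ⟶ pullback m m => k t) h5
  have h7 : (π₂ ≫ π₁ ≫ φ) t = z := hφz _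
  exact h6.symm.trans h7

end Pts

end Groth.Agent.H4.QuotPts
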