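import Mathlib
import Groth.Prelude.Def_SGA1
import Groth.Agent.H4.QuotPts

/-!
# Residue fields of quotients by finite groups; rigidity for étale quotients (helper4)
-/

set_option autoImplicit false
set_option linter.style.haveILetI false
universe u
open CategoryTheory Limits AlgebraicGeometry TopologicalSpace Opposite

namespace Groth.Agent.H4.QuotGal

open Groth.Agent.H2.Quot Groth.Agent.H4.QuotKit Groth.Agent.H4.QuotFin Groth.Agent.H4.QuotEx
  Groth.Agent.H4.QuotPts

section Frac

/-- every element of the residue field at a point of an affine open is a quotient of values of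
sections -/
theorem exists_eval_div {X : Scheme.{u}} {V : X.Opens} (hV : IsAffineOpen V) (x : X) (hx : x ∈ V)
    (ξ : X.residueField x) :
    ∃ b s : Γ(X, V), ξ = (X.evaluation V x hx).hom b / (X.evaluation V x hx).hom s := by
  obtain ⟨t, rfl⟩ := X.residue_surjective x ξ
  letI : Algebra Γ(X, V) (X.presheaf.stalk x) := X.presheaf.algebra_section_stalk (⟨x, hx⟩ : V)
  haveI : IsLocalization.AtPrime (X.presheaf.stalk x) (hV.primeIdealOf ⟨x, hx⟩).asIdeal :=
    hV.isLocalization_stalk ⟨x, hx⟩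
  obtain ⟨⟨b, s⟩, rfl⟩ := IsLocalization.mk'_surjective (hV.primeIdealOf ⟨x, hx⟩).asIdeal.primeCompl t
  refine ⟨b, s.1, ?_⟩
  have hu : IsUnit (algebraMap Γ(X, V) (X.presheaf.stalk x) s.1) :=
    IsLocalization.map_units (X.presheaf.stalk x) s
  have h1 := IsLocalization.mk'_spec (X.presheaf.stalk x) b s
  have h2 := congrArg (X.residue x).hom h1
  rw [map_mul] at h2
  have hne : (X.evaluation V x hx).hom s.1 ≠ 0 := (hu.map (X.residue x).hom).ne_zero
  exact eq_div_of_mul_eq hne h2

end Frac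

section Gal

variable {X Y : Scheme.{u}} {G : Type u} [Group G] [Finite G] {ρ : G →* Aut X} {p : X ⟶ Y}

theorem normal_residueField (hp : SGA1.IsQuot ρ p) (x : X) :
    letI := (p.residueFieldMap x).hom.toAlgebra
    Normal (Y.residueField (p.base x)) (X.residueField x) := by
  haveI := hp.affine
  obtain ⟨U, hU, hyU, -⟩ := exists_isAffineOpen_mem_and_subset (x := p.base x) (U := ⊤) trivial
  have hV : IsAffineOpen (p ⁻¹ᵁ U) := hU.preimage p
  have hxV : x ∈ p ⁻¹ᵁ U := hyU
  letI := action ρ p hp.inv U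
  letI := algebra p U
  haveI := smulCommClass ρ p hp.inv U
  haveI := isInvariant hp U
  letI := (p.residueFieldMap x).hom.toAlgebra
  obtain ⟨evY, hevY⟩ : ∃ e : Γ(Y, U) →+* Y.residueField (p.base x),
      e = (Y.evaluation U (p.base x) hyU).hom := ⟨_, rfl⟩
  obtain ⟨evX, hevX⟩ : ∃ e : Γ(X, p ⁻¹ᵁ U) →+* X.residueField x,
      e = (X.evaluation (p ⁻¹ᵁ U) x hxV).hom := ⟨_, rfl⟩
  have hnat : ∀ a, algebraMap (Y.residueField (p.base x)) (X.residueField x) (evY a) =
      evX (algebraMap Γ(Y, U) Γ(X, p ⁻¹ᵁ U) a) := by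
    intro a
    rw [hevY, hevX]
    exact Scheme.evaluation_naturality_apply p x hyU a
  obtain ⟨P, hP⟩ : ∃ P : Ideal Γ(Y, U), P = RingHom.ker evY := ⟨_, rfl⟩
  obtain ⟨Q, hQ⟩ : ∃ Q : Ideal Γ(X, p ⁻¹ᵁ U), Q = RingHom.ker evX := ⟨_, rfl⟩
  haveI : P.IsPrime := hP ▸ RingHom.ker_isPrime evY
  haveI : Q.IsPrime := hQ ▸ RingHom.ker_isPrime evX
  haveI : Q.LiesOver P := ⟨by
    ext a
    rw [hP, Ideal.under_def, Ideal.mem_comap, hQ, RingHom.mem_ker, RingHom.mem_ker, ← hnat a]
    exact (map_eq_zero_iff _ (algebraMap (Y.residueField (p.base x))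
      (X.residueField x)).injective).symm⟩
  obtain ⟨βY, hβY⟩ : ∃ β : Γ(Y, U) ⧸ P →+* Y.residueField (p.base x),
      ∀ a, β (Ideal.Quotient.mk P a) = evY a :=
    ⟨Ideal.Quotient.lift P evY (fun a ha => by rw [hP] at ha; exact ha), fun a => rfl⟩
  obtain ⟨βX, hβX⟩ : ∃ β : Γ(X, p ⁻¹ᵁ U) ⧸ Q →+* X.residueField x,
      ∀ b, β (Ideal.Quotient.mk Q b) = evX b :=
    ⟨Ideal.Quotient.lift Q evX (fun b hb => by rw [hQ] at hb; exact hb), fun b => rfl⟩
  have hβYi : Function.Injective βY := by
    rw [injective_iff_map_eq_zero]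
    intro z hz
    obtain ⟨a, rfl⟩ := Ideal.Quotient.mk_surjective z
    rw [hβY] at hz
    rw [Ideal.Quotient.eq_zero_iff_mem, hP]
    exact hz
  have hβXi : Function.Injective βX := by
    rw [injective_iff_map_eq_zero]
    intro z hz
    obtain ⟨b, rfl⟩ := Ideal.Quotient.mk_surjective z
    rw [hβX] at hz
    rw [Ideal.Quotient.eq_zero_iff_mem, hQ]
    exact hz
  letI algY : Algebra (Γ(Y, U) ⧸ P) (Y.residueField (p.base x)) := βY.toAlgebra
  letI algX : Algebra (Γ(X, p ⁻¹ᵁ U) ⧸ Q) (X.residueField x) := βX.toAlgebra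
  letI algYX : Algebra (Γ(Y, U) ⧸ P) (X.residueField x) :=
    ((algebraMap (Y.residueField (p.base x)) (X.residueField x)).comp βY).toAlgebra
  haveI : IsScalarTower (Γ(Y, U) ⧸ P) (Y.residueField (p.base x)) (X.residueField x) :=
    IsScalarTower.of_algebraMap_eq (fun _ => rfl)
  haveI : IsScalarTower (Γ(Y, U) ⧸ P) (Γ(X, p ⁻¹ᵁ U) ⧸ Q) (X.residueField x) := by
    apply IsScalarTower.of_algebraMap_eq
    intro z
    obtain ⟨a, rfl⟩ := Ideal.Quotient.mk_surjective z
    change algebraMap (Y.residueField (p.base x)) (X.residueField x)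
      (βY (Ideal.Quotient.mk P a)) =
      βX (algebraMap (Γ(Y, U) ⧸ P) (Γ(X, p ⁻¹ᵁ U) ⧸ Q) (Ideal.Quotient.mk P a))
    rw [hβY, hnat, Ideal.Quotient.algebraMap_mk_of_liesOver, hβX]
  haveI : FaithfulSMul (Γ(Y, U) ⧸ P) (Y.residueField (p.base x)) :=
    (faithfulSMul_iff_algebraMap_injective _ _).mpr hβYi
  haveI : FaithfulSMul (Γ(X, p ⁻¹ᵁ U) ⧸ Q) (X.residueField x) :=
    (faithfulSMul_iff_algebraMap_injective _ _).mpr hβXi
  haveI : IsFractionRing (Γ(Y, U) ⧸ P) (Y.residueField (p.base x)) := by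
    apply IsFractionRing.of_field
    intro z
    obtain ⟨a, s, hz⟩ := exists_eval_div hU (p.base x) hyU z
    refine ⟨Ideal.Quotient.mk P a, Ideal.Quotient.mk P s, ?_⟩
    rw [hz, ← hevY, ← hβY, ← hβY]
    rfl
  haveI : IsFractionRing (Γ(X, p ⁻¹ᵁ U) ⧸ Q) (X.residueField x) := by
    apply IsFractionRing.of_field
    intro z
    obtain ⟨b, s, hz⟩ := exists_eval_div hV x hxV z
    refine ⟨Ideal.Quotient.mk Q b, Ideal.Quotient.mk Q s, ?_⟩
    rw [hz, ← hevX, ← hβX, ← hβX]
    rfl
  exact Ideal.IsFractionRing.normal G P Q (Y.residueField (p.base x)) (X.residueField x)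

theorem exists_act_of_residueField_aut (hp : SGA1.IsQuot ρ p) (x : X)
    (τ : X.residueField x ≅ X.residueField x)
    (hτ : p.residueFieldMap x ≫ τ.hom = p.residueFieldMap x) :
    ∃ (g : G) (e : (ρ g).hom.base x = x),
      τ.hom = (X.residueFieldCongr e).inv ≫ (ρ g).hom.residueFieldMap x := by
  have h : X.fromSpecResidueField x ≫ p =
      (Spec.map τ.hom ≫ X.fromSpecResidueField x) ≫ p := by
    rw [Category.assoc, ← Scheme.Hom.SpecMap_residueFieldMap_fromSpecResidueField,
      ← Category.assoc (Spec.map τ.hom), ← Spec.map_comp, hτ]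
  obtain ⟨g, hg⟩ := exists_act_of_comp_eq hp (K := X.residueField x)
    (X.fromSpecResidueField x) (Spec.map τ.hom ≫ X.fromSpecResidueField x) h
  have e : (ρ g).hom.base x = x := by
    obtain ⟨s⟩ : Nonempty (Spec (X.residueField x)) := ⟨default⟩
    have h1 := congrArg (fun k : Spec (X.residueField x) ⟶ X => k.base s) hg
    have h2 : ∀ s', (X.fromSpecResidueField x).base s' = x := fun s' =>
      Scheme.fromSpecResidueField_apply _ _
    have h3 : (ρ g).hom.base ((X.fromSpecResidueField x).base s) =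
        (X.fromSpecResidueField x).base ((Spec.map τ.hom).base s) := h1.symm
    rw [h2, h2] at h3
    exact h3
  refine ⟨g, e, ?_⟩
  have h4 : Spec.map τ.hom ≫ X.fromSpecResidueField x =
      Spec.map ((X.residueFieldCongr e).inv ≫ (ρ g).hom.residueFieldMap x) ≫
        X.fromSpecResidueField x := by
    rw [hg, Spec.map_comp, Category.assoc, Scheme.residueFieldCongr_inv,
      Scheme.residueFieldCongr_fromSpecResidueField,
      Scheme.Hom.SpecMap_residueFieldMap_fromSpecResidueField]
  exact Spec.map_inj.mp ((cancel_mono (X.fromSpecResidueField x)).mp h4)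

/-- **S13597** -/
theorem main_S13597 {X Y : Scheme.{u}} {G : Type u}
    [Group G] [Finite G] (ρ : G →* Aut X) (p : X ⟶ Y) (hp : SGA1.IsQuot ρ p) (x : X) :
    (letI := (p.residueFieldMap x).hom.toAlgebra
     Normal (Y.residueField (p.base x)) (X.residueField x)) ∧
    ∀ τ : X.residueField x ≅ X.residueField x,
      p.residueFieldMap x ≫ τ.hom = p.residueFieldMap x →
      ∃ (g : G) (e : (ρ g).hom.base x = x),
        τ.hom = (X.residueFieldCongr e).inv ≫ (ρ g).hom.residueFieldMap x :=
  ⟨normal_residueField hp x, fun τ hτ => exists_act_of_residueField_aut hp x τ hτ⟩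

end Gal

section Rigid

/-- rigidity: an endomorphism over `Y` of a connected scheme, separated and unramified over `Y`,
fixing a point with values in a nonempty scheme, is the identity -/
theorem eq_id_of_comp_eq {X Y : Scheme.{u}} (p : X ⟶ Y) [IsSeparated p] [FormallyUnramified p]
    [LocallyOfFiniteType p] [ConnectedSpace X] (u : X ⟶ X) (hu : u ≫ p = p)
    {T : Scheme.{u}} [Nonempty T] (ξ : T ⟶ X) (hξ : ξ ≫ u = ξ) : u = 𝟙 X := by
  obtain ⟨L, hL⟩ : ∃ L : X ⟶ pullback p p,
      L = pullback.lift (𝟙 X) u (by rw [Category.id_comp, hu]) := ⟨_, rfl⟩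
  have hL1 : L ≫ pullback.fst p p = 𝟙 X := by
    rw [hL]
    exact pullback.lift_fst _ _ _
  have hL2 : L ≫ pullback.snd p p = u := by
    rw [hL]
    exact pullback.lift_snd _ _ _
  obtain ⟨e, he⟩ : ∃ e : pullback L (pullback.diagonal p) ⟶ X,
      e = pullback.fst L (pullback.diagonal p) := ⟨_, rfl⟩
  haveI : IsOpenImmersion e := by
    rw [he]
    infer_instance
  haveI : IsClosedImmersion e := by
    rw [he]
    infer_instance
  have hclopen : IsClopen (Set.range e) :=
    ⟨e.isClosedEmbedding.isClosed_range, e.isOpenEmbedding.isOpen_range⟩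
  have hne : (Set.range e).Nonempty := by
    obtain ⟨t⟩ := ‹Nonempty T›
    have hcond : ξ ≫ L = ξ ≫ pullback.diagonal p := by
      apply pullback.hom_ext
      · rw [Category.assoc, hL1, Category.assoc, pullback.diagonal_fst]
      · rw [Category.assoc, hL2, Category.assoc, pullback.diagonal_snd, hξ, Category.comp_id]
    refine ⟨ξ t, (pullback.lift ξ ξ hcond) t, ?_⟩
    rw [he]
    exact congrArg (fun k : T ⟶ X => k t) (pullback.lift_fst _ _ _)
  have huniv : Set.range e = Set.univ := hclopen.eq_univ hne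
  haveI : Surjective e := ⟨Set.range_eq_univ.mp huniv⟩
  haveI : IsIso e := (isIso_iff_isOpenImmersion_and_surjective e).mpr ⟨inferInstance, inferInstance⟩
  have h1 : e ≫ L = pullback.snd L (pullback.diagonal p) ≫ pullback.diagonal p := by
    rw [he]
    exact pullback.condition
  have h2 : e = pullback.snd L (pullback.diagonal p) := by
    have := congrArg (fun k => k ≫ pullback.fst p p) h1
    simpa only [Category.assoc, hL1, Category.comp_id, pullback.diagonal_fst] using this
  have h3 : e ≫ u = pullback.snd L (pullback.diagonal p) := by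
    have := congrArg (fun k => k ≫ pullback.snd p p) h1
    simpa only [Category.assoc, hL2, pullback.diagonal_snd, Category.comp_id] using this
  rw [← cancel_epi e, h3, Category.comp_id]
  exact h2.symm

/-- **S2910** -/
theorem main_S2910 {X Y : Scheme.{u}} {G : Type u} [Group G] [Finite G] (ρ : G →* Aut X)
    (p : X ⟶ Y) (hp : SGA1.IsQuot ρ p) [IsLocallyNoetherian Y] [IsFinite p] [ConnectedSpace X]
    (hfaith : Function.Injective ρ) [Etale p] :
    (∀ (K : Type u) [Field K] [IsAlgClosed K] (ξ : Spec (CommRingCat.of K) ⟶ X) (g : G),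
      ξ ≫ (ρ g).hom = ξ → g = 1) ∧
    ∀ u : Aut X, u.hom ≫ p = p → ∃! g : G, ρ g = u := by
  constructor
  · intro K _ _ ξ g hξ
    haveI : Nonempty (Spec (CommRingCat.of K)) := ⟨IsLocalRing.closedPoint K⟩
    have h1 : (ρ g).hom = 𝟙 X := eq_id_of_comp_eq p (ρ g).hom (hp.inv g) ξ hξ
    apply hfaith
    rw [map_one]
    exact Iso.ext h1
  · intro u hu
    obtain ⟨x⟩ : Nonempty X := inferInstance
    obtain ⟨g, hg⟩ := exists_act_of_comp_eq hp (K := X.residueField x)
      (X.fromSpecResidueField x) (X.fromSpecResidueField x ≫ u.hom)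
      (by rw [Category.assoc, hu])
    have h1 : u.hom ≫ (ρ g).inv = 𝟙 X := by
      refine eq_id_of_comp_eq p _ ?_ (X.fromSpecResidueField x) ?_
      · have h2 : (ρ g).inv ≫ p = p := by rw [Iso.inv_comp_eq, hp.inv g]
        rw [Category.assoc, h2, hu]
      · rw [← Category.assoc, hg, Category.assoc, Iso.hom_inv_id, Category.comp_id]
    have h3 : u.hom = (ρ g).hom := by
      have := congrArg (fun k => k ≫ (ρ g).hom) h1
      simpa only [Category.assoc, Iso.inv_hom_id, Category.comp_id, Category.id_comp] using this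
    have h4 : ρ g = u := Iso.ext h3.symm
    exact ⟨g, h4, fun g' hg' => hfaith (hg'.trans h4.symm)⟩

end Rigid

end Groth.Agent.H4.QuotGal
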