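import Mathlib
import Groth.Prelude.Def_SGA1
import Groth.Agent.H4.QuotEx

/-!
# Quotients of `Proj` by finite groups (helper4)
-/

set_option autoImplicit false
set_option linter.style.haveILetI false
universe u
open CategoryTheory Limits AlgebraicGeometry TopologicalSpace Opposite HomogeneousLocalization

namespace Groth.Agent.H4.QuotProj

open Groth.Agent.H2.Quot Groth.Agent.H4.QuotKit Groth.Agent.H4.QuotFin Groth.Agent.H4.QuotEx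

section L1

theorem val_away_map {A B σ τ : Type*} [CommRing A] [SetLike σ A] [AddSubgroupClass σ A]
    [CommRing B] [SetLike τ B] [AddSubgroupClass τ B] {𝒜 : ℕ → σ} {ℬ : ℕ → τ}
    [GradedRing 𝒜] [GradedRing ℬ] (g : 𝒜 →+*ᵍ ℬ) (f : A) (x : Away 𝒜 f) :
    (Away.map g f x).val = Localization.awayMap g.toRingHom f x.val := by
  obtain ⟨⟨i, a, s, hs⟩, rfl⟩ := HomogeneousLocalization.mk_surjective x
  simp [Away.map, HomogeneousLocalization.map_mk, Localization.awayMap, IsLocalization.Away.map,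
    Localization.mk_eq_mk', IsLocalization.map_mk']

end L1

section Alg

open DirectSum

variable {R A : Type u} [CommRing R] [CommRing A] [Algebra R A] (𝒜 : ℕ → Submodule R A)
  [GradedAlgebra 𝒜]

/-- graded integrality -/
theorem pow_mem_of_eval_eq_zero (I : Ideal A) (P : Polynomial A) (hP : P.Monic) {n : ℕ} (a : A)
    (ha : a ∈ 𝒜 n) (h0 : P.eval a = 0)
    (hI : ∀ i < P.natDegree, ∀ m, 0 < m → (decompose 𝒜 (P.coeff i) m : A) ∈ I) (hn : 0 < n) :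
    a ^ P.natDegree ∈ I := by
  obtain ⟨N, hN⟩ : ∃ N, N = P.natDegree := ⟨_, rfl⟩
  rw [← hN]
  have h1 : ∑ i ∈ Finset.range (N + 1), P.coeff i * a ^ i = 0 := by
    rw [hN, ← Polynomial.eval_eq_sum_range]
    exact h0
  have h2 : ∀ i ∈ Finset.range (N + 1), GradedRing.proj 𝒜 (N * n) (P.coeff i * a ^ i) =
      (decompose 𝒜 (P.coeff i) (N * n - i * n) : A) * a ^ i := by
    intro i hi
    have hai : a ^ i ∈ 𝒜 (i * n) := by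
      have := SetLike.pow_mem_graded i ha
      rwa [smul_eq_mul] at this
    rw [GradedRing.proj_apply]
    exact coe_decompose_mul_of_right_mem_of_le 𝒜 hai
      (Nat.mul_le_mul_right n (Nat.lt_succ_iff.mp (Finset.mem_range.mp hi)))
  have h3 := congrArg (GradedRing.proj 𝒜 (N * n)) h1
  rw [map_sum, map_zero, Finset.sum_congr rfl h2, Finset.sum_range_succ] at h3
  have h4 : (decompose 𝒜 (P.coeff N) (N * n - N * n) : A) = 1 := by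
    rw [hN, Polynomial.Monic.coeff_natDegree hP, Nat.sub_self]
    exact decompose_of_mem_same 𝒜 (SetLike.one_mem_graded 𝒜)
  rw [h4, one_mul] at h3
  have h5 : a ^ N = - ∑ i ∈ Finset.range N,
      (decompose 𝒜 (P.coeff i) (N * n - i * n) : A) * a ^ i := by
    rw [eq_neg_iff_add_eq_zero, add_comm]
    exact h3
  rw [h5]
  apply neg_mem
  apply sum_mem
  intro i hi
  have hiN : i < N := Finset.mem_range.mp hi
  apply Ideal.mul_mem_right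
  apply hI i (hN ▸ hiN)
  rw [← Nat.sub_mul]
  exact Nat.mul_pos (Nat.sub_pos_of_lt hiN) hn

variable {G : Type u} [Group G] [Finite G] [MulSemiringAction G A]
  (hGdeg : ∀ (σ : G) (i : ℕ) (a : A), a ∈ 𝒜 i → σ • a ∈ 𝒜 i)
  {C : Type u} [CommRing C] [Algebra R C] (𝒞 : ℕ → Submodule R C) [GradedAlgebra 𝒞]
  (ι : C →ₐ[R] A)
  (hιdeg : ∀ (i : ℕ) (a : A), a ∈ (𝒞 i).map ι.toLinearMap ↔ (a ∈ 𝒜 i ∧ ∀ σ : G, σ • a = a))

/-- the action as graded ring homomorphisms -/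
def act (σ : G) : 𝒜 →+*ᵍ 𝒜 where
  toRingHom := MulSemiringAction.toRingHom G A σ
  map_mem := fun {i x} hx => hGdeg σ i x hx

theorem act_apply (σ : G) (a : A) : act 𝒜 hGdeg σ a = σ • a := rfl

include hGdeg in
theorem smul_decompose (σ : G) (b : A) (m : ℕ) :
    σ • (decompose 𝒜 b m : A) = decompose 𝒜 (σ • b) m :=
  (act 𝒜 hGdeg σ).map_directSumDecompose

include hGdeg hιdeg in
theorem mem_of_forall_ι_mem (I : Ideal A) [hIp : I.IsPrime]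
    (hI : ∀ m, 0 < m → ∀ c ∈ 𝒞 m, ι c ∈ I)
    {n : ℕ} (hn : 0 < n) (a : A) (ha : a ∈ 𝒜 n) : a ∈ I := by
  cases nonempty_fintype G
  apply Ideal.IsPrime.mem_of_pow_mem hIp (MulSemiringAction.charpoly G a).natDegree
  apply pow_mem_of_eval_eq_zero 𝒜 I _ (MulSemiringAction.monic_charpoly G a) a ha
    (MulSemiringAction.eval_charpoly G a) _ hn
  intro i _ m hm
  have hinv : ∀ σ : G, σ • (decompose 𝒜 ((MulSemiringAction.charpoly G a).coeff i) m : A) =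
      decompose 𝒜 ((MulSemiringAction.charpoly G a).coeff i) m := by
    intro σ
    rw [smul_decompose 𝒜 hGdeg, MulSemiringAction.smul_coeff_charpoly]
  obtain ⟨c, hc, hce⟩ := Submodule.mem_map.mp ((hιdeg m _).mpr ⟨SetLike.coe_mem _, hinv⟩)
  rw [← hce]
  exact hI m hm c hc

/-- `ι` as a graded ring homomorphism -/
def ιg : 𝒞 →+*ᵍ 𝒜 where
  toRingHom := ι.toRingHom
  map_mem := fun {i x} hx => ((hιdeg i (ι x)).mp (Submodule.mem_map_of_mem hx)).1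

include hιdeg in
theorem ι_mem {n : ℕ} {c : C} (hc : c ∈ 𝒞 n) : ι c ∈ 𝒜 n :=
  ((hιdeg n (ι c)).mp (Submodule.mem_map_of_mem hc)).1

include hιdeg in
theorem smul_ι {n : ℕ} {c : C} (hc : c ∈ 𝒞 n) (σ : G) : σ • ι c = ι c :=
  ((hιdeg n (ι c)).mp (Submodule.mem_map_of_mem hc)).2 σ

/-- the map on degree-zero localizations induced by `ι` -/
def αmap (c : C) : Away 𝒞 c →+* Away 𝒜 (ι c) := Away.map (ιg 𝒜 𝒞 ι hιdeg) c

theorem αmap_mk {n : ℕ} {c : C} (hc : c ∈ 𝒞 n) (k : ℕ) (a : C) (ha : a ∈ 𝒞 (k • n)) :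
    αmap 𝒜 𝒞 ι hιdeg c (Away.mk 𝒞 hc k a ha) =
      Away.mk 𝒜 (ι_mem 𝒜 𝒞 ι hιdeg hc) k (ι a) (ι_mem 𝒜 𝒞 ι hιdeg ha) :=
  Away.map_mk (ιg 𝒜 𝒞 ι hιdeg) c hc k a ha

theorem val_αmap (c : C) (x : Away 𝒞 c) :
    (αmap 𝒜 𝒞 ι hιdeg c x).val = Localization.awayMap ι.toRingHom c x.val :=
  val_away_map (ιg 𝒜 𝒞 ι hιdeg) c x

/-- the action on the degree-zero localization at an invariant element -/
def actAway (σ : G) (f : A) (hf : σ • f = f) : Away 𝒜 f →+* Away 𝒜 f :=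
  HomogeneousLocalization.map (act 𝒜 hGdeg σ) (by
    rintro _ ⟨k, rfl⟩
    refine ⟨k, ?_⟩
    show f ^ k = σ • (f ^ k)
    rw [smul_pow', hf])

theorem actAway_mk (σ : G) {f : A} (hfix : σ • f = f) {n : ℕ} (hf : f ∈ 𝒜 n) (k : ℕ) (a : A)
    (ha : a ∈ 𝒜 (k • n)) :
    actAway 𝒜 hGdeg σ f hfix (Away.mk 𝒜 hf k a ha) =
      Away.mk 𝒜 hf k (σ • a) (hGdeg σ _ a ha) := by
  apply HomogeneousLocalization.val_injective
  show Localization.mk (σ • a) ⟨σ • f ^ k, _⟩ = Localization.mk (σ • a) ⟨f ^ k, _⟩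
  congr 1
  exact Subtype.ext (show σ • f ^ k = f ^ k by rw [smul_pow', hfix])

theorem actAway_αmap (σ : G) {n : ℕ} {c : C} (hc : c ∈ 𝒞 n) (x : Away 𝒞 c) :
    actAway 𝒜 hGdeg σ (ι c) (smul_ι 𝒜 𝒞 ι hιdeg hc σ) (αmap 𝒜 𝒞 ι hιdeg c x) =
      αmap 𝒜 𝒞 ι hιdeg c x := by
  obtain ⟨k, a, ha, rfl⟩ := Away.mk_surjective 𝒞 hc x
  rw [αmap_mk, actAway_mk]
  congr 1
  exact smul_ι 𝒜 𝒞 ι hιdeg ha σ

include hιdeg in
theorem αmap_injective (hι : Function.Injective ι) {n : ℕ} {c : C} (hc : c ∈ 𝒞 n) :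
    Function.Injective (αmap 𝒜 𝒞 ι hιdeg c) := by
  rw [injective_iff_map_eq_zero]
  intro x hx
  obtain ⟨k, a, ha, rfl⟩ := Away.mk_surjective 𝒞 hc x
  rw [αmap_mk] at hx
  have h1 := congrArg HomogeneousLocalization.val hx
  rw [Away.val_mk, HomogeneousLocalization.val_zero, Localization.mk_eq_mk',
    IsLocalization.mk'_eq_zero_iff] at h1
  obtain ⟨⟨_, m, rfl⟩, hm⟩ := h1
  have h2 : ι (c ^ m * a) = 0 := by
    rw [map_mul, map_pow]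
    exact hm
  have h3 : c ^ m * a = 0 := hι (h2.trans (map_zero ι).symm)
  apply HomogeneousLocalization.val_injective
  rw [Away.val_mk, HomogeneousLocalization.val_zero, Localization.mk_eq_mk',
    IsLocalization.mk'_eq_zero_iff]
  exact ⟨⟨c ^ m, m, rfl⟩, h3⟩

include hιdeg in
theorem mem_range_αmap {n : ℕ} {c : C} (hc : c ∈ 𝒞 n) (y : Away 𝒜 (ι c))
    (hy : ∀ σ : G, actAway 𝒜 hGdeg σ (ι c) (smul_ι 𝒜 𝒞 ι hιdeg hc σ) y = y) :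
    y ∈ Set.range (αmap 𝒜 𝒞 ι hιdeg c) := by
  cases nonempty_fintype G
  obtain ⟨k, a, ha, rfl⟩ := Away.mk_surjective 𝒜 (ι_mem 𝒜 𝒞 ι hιdeg hc) y
  have h1 : ∀ σ : G, ∃ M : ℕ, (ι c) ^ M * (σ • a) = (ι c) ^ M * a := by
    intro σ
    have h2 := congrArg HomogeneousLocalization.val (hy σ)
    rw [actAway_mk, Away.val_mk, Away.val_mk, Localization.mk_eq_mk_iff,
      Localization.r_iff_exists] at h2
    obtain ⟨⟨_, m, rfl⟩, hm⟩ := h2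
    refine ⟨m + k, ?_⟩
    rw [pow_add, mul_assoc, mul_assoc]
    exact hm
  choose M hM using h1
  obtain ⟨N, hN⟩ : ∃ N, N = ∑ σ, M σ := ⟨_, rfl⟩
  have h3 : ∀ σ : G, (ι c) ^ N * (σ • a) = (ι c) ^ N * a := by
    intro σ
    have hle : M σ ≤ N := hN ▸ Finset.single_le_sum (fun _ _ => Nat.zero_le _) (Finset.mem_univ σ)
    obtain ⟨d, hd⟩ := Nat.exists_eq_add_of_le hle
    rw [hd, pow_add, mul_comm ((ι c) ^ (M σ)), mul_assoc, mul_assoc, hM σ]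
  have ha' : (ι c) ^ N * a ∈ 𝒜 ((N + k) • n) := by
    rw [add_smul]
    exact SetLike.mul_mem_graded (SetLike.pow_mem_graded N (ι_mem 𝒜 𝒞 ι hιdeg hc)) ha
  have hinv : ∀ σ : G, σ • ((ι c) ^ N * a) = (ι c) ^ N * a := by
    intro σ
    rw [smul_mul', smul_pow', smul_ι 𝒜 𝒞 ι hιdeg hc σ, h3 σ]
  obtain ⟨c', hc', hce⟩ := Submodule.mem_map.mp ((hιdeg _ _).mpr ⟨ha', hinv⟩)
  refine ⟨Away.mk 𝒞 hc (N + k) c' hc', ?_⟩
  rw [αmap_mk]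
  apply HomogeneousLocalization.val_injective
  rw [Away.val_mk, Away.val_mk, Localization.mk_eq_mk_iff, Localization.r_iff_exists]
  refine ⟨1, ?_⟩
  have hce' : ι c' = (ι c) ^ N * a := hce
  simp only [OneMemClass.coe_one, one_mul]
  rw [hce', pow_add]
  ring

end Alg

section Sch

variable {R A : Type u} [CommRing R] [CommRing A] [Algebra R A] (𝒜 : ℕ → Submodule R A)
  [GradedAlgebra 𝒜]
  {G : Type u} [Group G] [Finite G] [MulSemiringAction G A]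
  (hGdeg : ∀ (σ : G) (i : ℕ) (a : A), a ∈ 𝒜 i → σ • a ∈ 𝒜 i)
  {C : Type u} [CommRing C] [Algebra R C] (𝒞 : ℕ → Submodule R C) [GradedAlgebra 𝒞]
  (ι : C →ₐ[R] A) (hι : Function.Injective ι)
  (hιdeg : ∀ (i : ℕ) (a : A), a ∈ (𝒞 i).map ι.toLinearMap ↔ (a ∈ 𝒜 i ∧ ∀ σ : G, σ • a = a))
  (ρ : G →* Aut (Proj 𝒜))
  (hρ : ∀ (σ : G) (n : ℕ) (f : A) (hn : 0 < n) (hf : f ∈ 𝒜 n)
      (θ : CommRingCat.of (HomogeneousLocalization.Away 𝒜 f) ⟶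
        CommRingCat.of (HomogeneousLocalization.Away 𝒜 (σ • f))),
      (algebraMap (HomogeneousLocalization.Away 𝒜 (σ • f)) (Localization.Away (σ • f))).comp θ.hom =
        (Localization.awayMap (MulSemiringAction.toRingHom G A σ) f).comp
          (algebraMap (HomogeneousLocalization.Away 𝒜 f) (Localization.Away f)) →
      Proj.awayι 𝒜 (σ • f) (hGdeg σ n f hf) hn ≫ (ρ σ).inv = Spec.map θ ≫ Proj.awayι 𝒜 f hf hn)
  (π : Proj 𝒜 ⟶ Proj 𝒞)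
  (hπ : ∀ (n : ℕ) (c : C) (hn : 0 < n) (hc : c ∈ 𝒞 n)
      (θ : CommRingCat.of (HomogeneousLocalization.Away 𝒞 c) ⟶
        CommRingCat.of (HomogeneousLocalization.Away 𝒜 (ι c))),
      (algebraMap (HomogeneousLocalization.Away 𝒜 (ι c)) (Localization.Away (ι c))).comp θ.hom =
        (Localization.awayMap ι.toRingHom c).comp
          (algebraMap (HomogeneousLocalization.Away 𝒞 c) (Localization.Away c)) →
      Proj.awayι 𝒜 (ι c) ((hιdeg n (ι c)).mp (Submodule.mem_map_of_mem hc)).1 hn ≫ π =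
        Spec.map θ ≫ Proj.awayι 𝒞 c hc hn)

include hρ in
theorem awayι_comp_inv_aux (σ : G) (n : ℕ) (f t : A) (ht : σ • f = t) (hn : 0 < n)
    (hf : f ∈ 𝒜 n) (ht' : t ∈ 𝒜 n) (θ : Away 𝒜 f →+* Away 𝒜 t)
    (hθ : ∀ (k : ℕ) (a : A) (ha : a ∈ 𝒜 (k • n)),
      θ (Away.mk 𝒜 hf k a ha) = Away.mk 𝒜 ht' k (σ • a) (hGdeg σ _ a ha)) :
    Proj.awayι 𝒜 t ht' hn ≫ (ρ σ).inv =
      Spec.map (CommRingCat.ofHom θ) ≫ Proj.awayι 𝒜 f hf hn := by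
  subst ht
  have hθ' : θ = Away.map (act 𝒜 hGdeg σ) f := by
    apply RingHom.ext
    intro x
    obtain ⟨k, a, ha, rfl⟩ := Away.mk_surjective 𝒜 hf x
    rw [hθ]
    exact (Away.map_mk (act 𝒜 hGdeg σ) f hf k a ha).symm
  apply hρ σ n f hn hf (CommRingCat.ofHom θ)
  apply RingHom.ext
  intro x
  rw [hθ']
  exact val_away_map (act 𝒜 hGdeg σ) f x

include hρ in
theorem awayι_comp_inv_fix (σ : G) {n : ℕ} (hn : 0 < n) {f : A} (hf : f ∈ 𝒜 n)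
    (hfix : σ • f = f) :
    Proj.awayι 𝒜 f hf hn ≫ (ρ σ).inv =
      Spec.map (CommRingCat.ofHom (actAway 𝒜 hGdeg σ f hfix)) ≫ Proj.awayι 𝒜 f hf hn :=
  awayι_comp_inv_aux 𝒜 hGdeg ρ hρ σ n f f hfix hn hf hf _
    (fun k a ha => actAway_mk 𝒜 hGdeg σ hfix hf k a ha)

include hρ in
theorem awayι_comp_hom_fix (σ : G) {n : ℕ} (hn : 0 < n) {f : A} (hf : f ∈ 𝒜 n)
    (hfix : σ⁻¹ • f = f) :
    Proj.awayι 𝒜 f hf hn ≫ (ρ σ).hom =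
      Spec.map (CommRingCat.ofHom (actAway 𝒜 hGdeg σ⁻¹ f hfix)) ≫ Proj.awayι 𝒜 f hf hn := by
  have h := awayι_comp_inv_fix 𝒜 hGdeg ρ hρ σ⁻¹ hn hf hfix
  have e : (ρ σ⁻¹).inv = (ρ σ).hom := by
    rw [map_inv]
    rfl
  rwa [e] at h

include hπ in
theorem awayι_comp_π {n : ℕ} (hn : 0 < n) {c : C} (hc : c ∈ 𝒞 n) :
    Proj.awayι 𝒜 (ι c) (ι_mem 𝒜 𝒞 ι hιdeg hc) hn ≫ π =
      Spec.map (CommRingCat.ofHom (αmap 𝒜 𝒞 ι hιdeg c)) ≫ Proj.awayι 𝒞 c hc hn := by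
  apply hπ n c hn hc (CommRingCat.ofHom (αmap 𝒜 𝒞 ι hιdeg c))
  apply RingHom.ext
  intro x
  exact val_αmap 𝒜 𝒞 ι hιdeg c x

/-- index type: homogeneous elements of positive degree -/
abbrev Idx : Type u := {s : ℕ × C // 0 < s.1 ∧ s.2 ∈ 𝒞 s.1}

theorem iSup_basicOpen_eq_top_Y : ⨆ s : Idx 𝒞, Proj.basicOpen 𝒞 s.1.2 = ⊤ := by
  apply Proj.iSup_basicOpen_eq_top
  rw [HomogeneousIdeal.irrelevant_eq_span]
  apply Ideal.span_mono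
  intro c hc
  simp only [Set.mem_iUnion] at hc
  obtain ⟨i, hi, hci⟩ := hc
  exact ⟨⟨(i, c), hi, hci⟩, rfl⟩

include hGdeg hιdeg in
theorem iSup_basicOpen_eq_top_X : ⨆ s : Idx 𝒞, Proj.basicOpen 𝒜 (ι s.1.2) = ⊤ := by
  refine top_le_iff.mp fun x _ => Opens.mem_iSup.mpr ?_
  by_contra H
  push_neg at H
  have hI : ∀ m, 0 < m → ∀ c ∈ 𝒞 m, ι c ∈ x.asHomogeneousIdeal.toIdeal := by
    intro m hm c hc
    have := H ⟨(m, c), hm, hc⟩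
    rw [Proj.mem_basicOpen, not_not] at this
    exact this
  haveI : x.asHomogeneousIdeal.toIdeal.IsPrime := x.isPrime
  apply x.not_irrelevant_le
  rw [HomogeneousIdeal.irrelevant_le]
  intro n hn a ha
  exact mem_of_forall_ι_mem 𝒜 hGdeg 𝒞 ι hιdeg x.asHomogeneousIdeal.toIdeal hI hn a ha

include hGdeg hπ in
theorem preimage_basicOpen {n : ℕ} (hn : 0 < n) {c : C} (hc : c ∈ 𝒞 n) :
    π ⁻¹ᵁ Proj.basicOpen 𝒞 c = Proj.basicOpen 𝒜 (ι c) := by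
  apply le_antisymm
  · intro x hx
    have hx' : π x ∈ Proj.basicOpen 𝒞 c := hx
    obtain ⟨s, hs⟩ := Opens.mem_iSup.mp
      ((iSup_basicOpen_eq_top_X 𝒜 hGdeg 𝒞 ι hιdeg).ge (Set.mem_univ x))
    obtain ⟨⟨n', c'⟩, hn', hc'⟩ := s
    have hn'' : 0 < n' := hn'
    have hc'' : c' ∈ 𝒞 n' := hc'
    have hs' : x ∈ Proj.basicOpen 𝒜 (ι c') := hs
    rw [← Proj.opensRange_awayι 𝒜 (ι c') (ι_mem 𝒜 𝒞 ι hιdeg hc'') hn''] at hs'
    obtain ⟨z, rfl⟩ := hs'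
    have h1 : π (Proj.awayι 𝒜 (ι c') (ι_mem 𝒜 𝒞 ι hιdeg hc'') hn'' z) =
        Proj.awayι 𝒞 c' hc'' hn'' (Spec.map (CommRingCat.ofHom (αmap 𝒜 𝒞 ι hιdeg c')) z) :=
      congrArg (fun k : Spec (CommRingCat.of (Away 𝒜 (ι c'))) ⟶ Proj 𝒞 => k z)
        (awayι_comp_π 𝒜 𝒞 ι hιdeg π hπ hn'' hc'')
    rw [h1] at hx'
    have h2 : Spec.map (CommRingCat.ofHom (αmap 𝒜 𝒞 ι hιdeg c')) z ∈
        Proj.awayι 𝒞 c' hc'' hn'' ⁻¹ᵁ Proj.basicOpen 𝒞 c := hx'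
    rw [Proj.awayι_preimage_basicOpen 𝒞 hc'' hn'' hc hn] at h2
    have h3 : z ∈ PrimeSpectrum.basicOpen
        (αmap 𝒜 𝒞 ι hιdeg c' (Away.isLocalizationElem hc'' hc)) := h2
    have h4 : αmap 𝒜 𝒞 ι hιdeg c' (Away.isLocalizationElem hc'' hc) =
        Away.isLocalizationElem (ι_mem 𝒜 𝒞 ι hιdeg hc'') (ι_mem 𝒜 𝒞 ι hιdeg hc) := by
      rw [αmap_mk]
      apply HomogeneousLocalization.val_injective
      rw [Away.val_mk, Away.val_mk, map_pow]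
    rw [h4, ← Proj.awayι_preimage_basicOpen 𝒜 (ι_mem 𝒜 𝒞 ι hιdeg hc'') hn''
      (ι_mem 𝒜 𝒞 ι hιdeg hc) hn] at h3
    exact h3
  · intro x hx
    rw [← Proj.opensRange_awayι 𝒜 (ι c) (ι_mem 𝒜 𝒞 ι hιdeg hc) hn] at hx
    obtain ⟨z, rfl⟩ := hx
    show π (Proj.awayι 𝒜 (ι c) (ι_mem 𝒜 𝒞 ι hιdeg hc) hn z) ∈ Proj.basicOpen 𝒞 c
    have h1 : π (Proj.awayι 𝒜 (ι c) (ι_mem 𝒜 𝒞 ι hιdeg hc) hn z) =
        Proj.awayι 𝒞 c hc hn (Spec.map (CommRingCat.ofHom (αmap 𝒜 𝒞 ι hιdeg c)) z) :=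
      congrArg (fun k : Spec (CommRingCat.of (Away 𝒜 (ι c))) ⟶ Proj 𝒞 => k z)
        (awayι_comp_π 𝒜 𝒞 ι hιdeg π hπ hn hc)
    rw [h1, ← Proj.opensRange_awayι 𝒞 c hc hn]
    exact ⟨_, rfl⟩

include hGdeg hρ hπ in
theorem hinv_π (g : G) : (ρ g).hom ≫ π = π := by
  refine ((Proj 𝒜).openCoverOfIsOpenCover _
    (iSup_basicOpen_eq_top_X 𝒜 hGdeg 𝒞 ι hιdeg)).hom_ext _ _ fun s => ?_
  obtain ⟨⟨n, c⟩, hn, hc⟩ := s
  have hn' : 0 < n := hn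
  have hc' : c ∈ 𝒞 n := hc
  have hβα : (actAway 𝒜 hGdeg g⁻¹ (ι c) (smul_ι 𝒜 𝒞 ι hιdeg hc' g⁻¹)).comp
      (αmap 𝒜 𝒞 ι hιdeg c) = αmap 𝒜 𝒞 ι hιdeg c :=
    RingHom.ext (fun x => actAway_αmap 𝒜 hGdeg 𝒞 ι hιdeg g⁻¹ hc' x)
  have key : Proj.awayι 𝒜 (ι c) (ι_mem 𝒜 𝒞 ι hιdeg hc') hn' ≫ (ρ g).hom ≫ π =
      Proj.awayι 𝒜 (ι c) (ι_mem 𝒜 𝒞 ι hιdeg hc') hn' ≫ π := by
    rw [← Category.assoc, awayι_comp_hom_fix 𝒜 hGdeg ρ hρ g hn' (ι_mem 𝒜 𝒞 ι hιdeg hc')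
      (smul_ι 𝒜 𝒞 ι hιdeg hc' g⁻¹), Category.assoc, awayι_comp_π 𝒜 𝒞 ι hιdeg π hπ hn' hc',
      ← Category.assoc, ← Spec.map_comp, ← CommRingCat.ofHom_comp, hβα]
  show (Proj.basicOpen 𝒜 (ι c)).ι ≫ (ρ g).hom ≫ π = (Proj.basicOpen 𝒜 (ι c)).ι ≫ π
  have hι' : (Proj.basicOpen 𝒜 (ι c)).ι =
      (Proj.basicOpenIsoSpec 𝒜 (ι c) (ι_mem 𝒜 𝒞 ι hιdeg hc') hn').hom ≫
        Proj.awayι 𝒜 (ι c) (ι_mem 𝒜 𝒞 ι hιdeg hc') hn' := by
    rw [← Proj.basicOpenIsoSpec_inv_ι, Iso.hom_inv_id_assoc]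
  rw [hι', Category.assoc, key, Category.assoc]

include hGdeg hι hρ hπ in
theorem qat_chart (hinv : ∀ g : G, (ρ g).hom ≫ π = π) {n : ℕ} (hn : 0 < n) {c : C}
    (hc : c ∈ 𝒞 n) : QAt ρ π hinv (Proj.basicOpen 𝒞 c) := by
  obtain ⟨U, hU⟩ : ∃ U : (Proj 𝒞).Opens, U = Proj.basicOpen 𝒞 c := ⟨_, rfl⟩
  rw [← hU]
  have hpre : π ⁻¹ᵁ U = Proj.basicOpen 𝒜 (ι c) := by
    rw [hU]
    exact preimage_basicOpen 𝒜 hGdeg 𝒞 ι hιdeg π hπ hn hc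
  obtain ⟨ρU, hρU⟩ : ∃ ρU : G →* Aut (π ⁻¹ᵁ U).toScheme,
      ∀ g, (ρU g).hom ≫ (π ⁻¹ᵁ U).ι = (π ⁻¹ᵁ U).ι ≫ (ρ g).hom :=
    ⟨resAct ρ (π ⁻¹ᵁ U) (fun g => SGA1.preimage_le_of_inv ρ π hinv g U), resAct_ι ρ _ _⟩
  have hinvU : ∀ g, (ρU g).hom ≫ (π ∣_ U) = π ∣_ U := by
    intro g
    rw [← cancel_mono U.ι, Category.assoc, morphismRestrict_ι, ← Category.assoc, hρU g,
      Category.assoc, hinv g]
  obtain ⟨jX, hjX⟩ : ∃ j : Spec (CommRingCat.of (Away 𝒜 (ι c))) ⟶ Proj 𝒜,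
      j = Proj.awayι 𝒜 (ι c) (ι_mem 𝒜 𝒞 ι hιdeg hc) hn := ⟨_, rfl⟩
  obtain ⟨jY, hjY⟩ : ∃ j : Spec (CommRingCat.of (Away 𝒞 c)) ⟶ Proj 𝒞,
      j = Proj.awayι 𝒞 c hc hn := ⟨_, rfl⟩
  haveI : IsOpenImmersion jX := hjX ▸ inferInstance
  haveI : IsOpenImmersion jY := hjY ▸ inferInstance
  have hrX : Set.range jX = Set.range (π ⁻¹ᵁ U).ι := by
    rw [Scheme.Opens.range_ι, hpre, hjX, ← Proj.opensRange_awayι 𝒜 (ι c)
      (ι_mem 𝒜 𝒞 ι hιdeg hc) hn]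
    rfl
  have hrY : Set.range jY = Set.range U.ι := by
    rw [Scheme.Opens.range_ι, hU, hjY, ← Proj.opensRange_awayι 𝒞 c hc hn]
    rfl
  obtain ⟨e₁, he₁⟩ : ∃ e : Spec (CommRingCat.of (Away 𝒜 (ι c))) ≅ (π ⁻¹ᵁ U).toScheme,
      e.hom ≫ (π ⁻¹ᵁ U).ι = jX :=
    ⟨IsOpenImmersion.isoOfRangeEq jX (π ⁻¹ᵁ U).ι hrX, IsOpenImmersion.isoOfRangeEq_hom_fac _ _ _⟩
  obtain ⟨e₂, he₂⟩ : ∃ e : Spec (CommRingCat.of (Away 𝒞 c)) ≅ U.toScheme, e.hom ≫ U.ι = jY :=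
    ⟨IsOpenImmersion.isoOfRangeEq jY U.ι hrY, IsOpenImmersion.isoOfRangeEq_hom_fac _ _ _⟩
  obtain ⟨p', hp'⟩ : ∃ p' : Spec (CommRingCat.of (Away 𝒜 (ι c))) ⟶
      Spec (CommRingCat.of (Away 𝒞 c)),
      p' = Spec.map (CommRingCat.ofHom (αmap 𝒜 𝒞 ι hιdeg c)) := ⟨_, rfl⟩
  have hjπ : jX ≫ π = p' ≫ jY := by
    rw [hjX, hjY, hp']
    exact awayι_comp_π 𝒜 𝒞 ι hιdeg π hπ hn hc
  have hsq : e₁.hom ≫ (π ∣_ U) = p' ≫ e₂.hom := by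
    rw [← cancel_mono U.ι, Category.assoc, morphismRestrict_ι, ← Category.assoc, he₁,
      Category.assoc, he₂, hjπ]
  obtain ⟨ρ', hρ'⟩ : ∃ ρ' : G →* Aut (Spec (CommRingCat.of (Away 𝒜 (ι c)))),
      ∀ g, (ρ' g).hom = e₁.hom ≫ (ρU g).hom ≫ e₁.inv :=
    ⟨(e₁.symm.conjAut).toMonoidHom.comp ρU, fun g => rfl⟩
  have heq : ∀ g, (ρ' g).hom ≫ e₁.hom = e₁.hom ≫ (ρU g).hom := by
    intro g
    rw [hρ', Category.assoc, Category.assoc, Iso.inv_hom_id, Category.comp_id]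
  have hinv' : ∀ g, (ρ' g).hom ≫ p' = p' := by
    intro g
    rw [← cancel_mono e₂.hom, Category.assoc, ← hsq, ← Category.assoc, heq, Category.assoc,
      hinvU]
  have hK1 : ∀ g, (ρ' g).hom = Spec.map (CommRingCat.ofHom
      (actAway 𝒜 hGdeg g⁻¹ (ι c) (smul_ι 𝒜 𝒞 ι hιdeg hc g⁻¹))) := by
    intro g
    rw [← cancel_mono jX]
    calc (ρ' g).hom ≫ jX = ((ρ' g).hom ≫ e₁.hom) ≫ (π ⁻¹ᵁ U).ι := by
          rw [Category.assoc, he₁]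
      _ = e₁.hom ≫ (ρU g).hom ≫ (π ⁻¹ᵁ U).ι := by rw [heq, Category.assoc]
      _ = (e₁.hom ≫ (π ⁻¹ᵁ U).ι) ≫ (ρ g).hom := by rw [hρU, Category.assoc]
      _ = jX ≫ (ρ g).hom := by rw [he₁]
      _ = _ := by
          rw [hjX]
          exact awayι_comp_hom_fix 𝒜 hGdeg ρ hρ g hn (ι_mem 𝒜 𝒞 ι hιdeg hc)
            (smul_ι 𝒜 𝒞 ι hιdeg hc g⁻¹)
  apply QAt_congr ρ π hinv U.ι_image_top
  apply QAt_of_restrict ρ π hinv U ρU hρU hinvU ⊤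
  apply QAt_top_transport ρU (π ∣_ U) hinvU ρ' p' hinv' e₁ e₂ hsq heq
  have hbijA : Function.Bijective (Scheme.ΓSpecIso (CommRingCat.of (Away 𝒜 (ι c)))).hom.hom :=
    ConcreteCategory.bijective_of_isIso _
  have hbijC : Function.Bijective (Scheme.ΓSpecIso (CommRingCat.of (Away 𝒞 c))).hom.hom :=
    ConcreteCategory.bijective_of_isIso _
  have hnat : p'.appTop ≫ (Scheme.ΓSpecIso (CommRingCat.of (Away 𝒜 (ι c)))).hom =
      (Scheme.ΓSpecIso (CommRingCat.of (Away 𝒞 c))).hom ≫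
        CommRingCat.ofHom (αmap 𝒜 𝒞 ι hιdeg c) := by
    rw [hp']
    exact Scheme.ΓSpecIso_naturality _
  have hnat' : ∀ t, (Scheme.ΓSpecIso (CommRingCat.of (Away 𝒜 (ι c)))).hom.hom
      (p'.appTop.hom t) = αmap 𝒜 𝒞 ι hιdeg c
        ((Scheme.ΓSpecIso (CommRingCat.of (Away 𝒞 c))).hom.hom t) := fun t =>
    congr($(hnat).hom t)
  apply QAt_top_of
  · intro t t' htt
    apply hbijC.1
    apply αmap_injective 𝒜 𝒞 ι hιdeg hι hc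
    rw [← hnat', ← hnat', htt]
  · intro s hs
    have hnatg : ∀ g : G, (ρ' g).hom.appTop ≫
        (Scheme.ΓSpecIso (CommRingCat.of (Away 𝒜 (ι c)))).hom =
        (Scheme.ΓSpecIso (CommRingCat.of (Away 𝒜 (ι c)))).hom ≫ CommRingCat.ofHom
          (actAway 𝒜 hGdeg g⁻¹ (ι c) (smul_ι 𝒜 𝒞 ι hιdeg hc g⁻¹)) := by
      intro g
      rw [hK1 g]
      exact Scheme.ΓSpecIso_naturality _
    have hy : ∀ g : G, actAway 𝒜 hGdeg g⁻¹ (ι c) (smul_ι 𝒜 𝒞 ι hιdeg hc g⁻¹)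
        ((Scheme.ΓSpecIso (CommRingCat.of (Away 𝒜 (ι c)))).hom.hom s) =
        (Scheme.ΓSpecIso (CommRingCat.of (Away 𝒜 (ι c)))).hom.hom s := by
      intro g
      have h1 : (Scheme.ΓSpecIso (CommRingCat.of (Away 𝒜 (ι c)))).hom.hom
          ((ρ' g).hom.appTop.hom s) = actAway 𝒜 hGdeg g⁻¹ (ι c) (smul_ι 𝒜 𝒞 ι hιdeg hc g⁻¹)
            ((Scheme.ΓSpecIso (CommRingCat.of (Away 𝒜 (ι c)))).hom.hom s) :=
        congr($(hnatg g).hom s)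
      rw [← h1, hs g]
    have hy' : ∀ σ : G, actAway 𝒜 hGdeg σ (ι c) (smul_ι 𝒜 𝒞 ι hιdeg hc σ)
        ((Scheme.ΓSpecIso (CommRingCat.of (Away 𝒜 (ι c)))).hom.hom s) =
        (Scheme.ΓSpecIso (CommRingCat.of (Away 𝒜 (ι c)))).hom.hom s := by
      intro σ
      have key : ∀ (τ : G) (h' : τ • ι c = ι c), τ = (σ⁻¹)⁻¹ →
          actAway 𝒜 hGdeg τ (ι c) h'
            ((Scheme.ΓSpecIso (CommRingCat.of (Away 𝒜 (ι c)))).hom.hom s) =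
          (Scheme.ΓSpecIso (CommRingCat.of (Away 𝒜 (ι c)))).hom.hom s := by
        rintro τ h' rfl
        exact hy σ⁻¹
      exact key σ _ (inv_inv σ).symm
    obtain ⟨x, hx⟩ := mem_range_αmap 𝒜 hGdeg 𝒞 ι hιdeg hc _ hy'
    obtain ⟨t, rfl⟩ := hbijC.2 x
    refine ⟨t, ?_⟩
    apply hbijA.1
    rw [hnat', hx]

/-- **S13181** -/
theorem main_S13181 {R A : Type u} [CommRing R] [CommRing A] [Algebra R A]
    (𝒜 : ℕ → Submodule R A) [GradedAlgebra 𝒜]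
    (hgen : Algebra.adjoin R (𝒜 1 : Set A) = ⊤)
    {G : Type u} [Group G] [Finite G] [MulSemiringAction G A]
    (hGR : ∀ (σ : G) (r : R), σ • algebraMap R A r = algebraMap R A r)
    (hGdeg : ∀ (σ : G) (i : ℕ) (a : A), a ∈ 𝒜 i → σ • a ∈ 𝒜 i)
    {C : Type u} [CommRing C] [Algebra R C] (𝒞 : ℕ → Submodule R C) [GradedAlgebra 𝒞]
    (ι : C →ₐ[R] A) (hι : Function.Injective ι)
    (hιdeg : ∀ (i : ℕ) (a : A), a ∈ (𝒞 i).map ι.toLinearMap ↔ (a ∈ 𝒜 i ∧ ∀ σ : G, σ • a = a))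
    (ρ : G →* Aut (Proj 𝒜))
    (hρ : ∀ (σ : G) (n : ℕ) (f : A) (hn : 0 < n) (hf : f ∈ 𝒜 n)
      (θ : CommRingCat.of (HomogeneousLocalization.Away 𝒜 f) ⟶
        CommRingCat.of (HomogeneousLocalization.Away 𝒜 (σ • f))),
      (algebraMap (HomogeneousLocalization.Away 𝒜 (σ • f)) (Localization.Away (σ • f))).comp θ.hom =
        (Localization.awayMap (MulSemiringAction.toRingHom G A σ) f).comp
          (algebraMap (HomogeneousLocalization.Away 𝒜 f) (Localization.Away f)) →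
      Proj.awayι 𝒜 (σ • f) (hGdeg σ n f hf) hn ≫ (ρ σ).inv = Spec.map θ ≫ Proj.awayι 𝒜 f hf hn)
    (π : Proj 𝒜 ⟶ Proj 𝒞)
    (hπ : ∀ (n : ℕ) (c : C) (hn : 0 < n) (hc : c ∈ 𝒞 n)
      (θ : CommRingCat.of (HomogeneousLocalization.Away 𝒞 c) ⟶
        CommRingCat.of (HomogeneousLocalization.Away 𝒜 (ι c))),
      (algebraMap (HomogeneousLocalization.Away 𝒜 (ι c)) (Localization.Away (ι c))).comp θ.hom =
        (Localization.awayMap ι.toRingHom c).comp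
          (algebraMap (HomogeneousLocalization.Away 𝒞 c) (Localization.Away c)) →
      Proj.awayι 𝒜 (ι c) ((hιdeg n (ι c)).mp (Submodule.mem_map_of_mem hc)).1 hn ≫ π =
        Spec.map θ ≫ Proj.awayι 𝒞 c hc hn) :
    SGA1.IsQuot ρ π := by
  have hinv : ∀ g : G, (ρ g).hom ≫ π = π := hinv_π 𝒜 hGdeg 𝒞 ι hιdeg ρ hρ π hπ
  haveI : IsAffineHom π := by
    apply isAffineHom_of_forall_exists_isAffineOpen
    intro y
    obtain ⟨s, hs⟩ := Opens.mem_iSup.mp ((iSup_basicOpen_eq_top_Y 𝒞).ge (Set.mem_univ y))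
    obtain ⟨⟨n, c⟩, hn, hc⟩ := s
    have hn' : 0 < n := hn
    have hc' : c ∈ 𝒞 n := hc
    refine ⟨Proj.basicOpen 𝒞 c, hs, Proj.isAffineOpen_basicOpen 𝒞 c hc' hn', ?_⟩
    rw [preimage_basicOpen 𝒜 hGdeg 𝒞 ι hιdeg π hπ hn' hc']
    exact Proj.isAffineOpen_basicOpen 𝒜 (ι c) (ι_mem 𝒜 𝒞 ι hιdeg hc') hn'
  apply isQuot_of_affine_cover ρ π hinv (fun s : Idx 𝒞 => Proj.basicOpen 𝒞 s.1.2)
    (iSup_basicOpen_eq_top_Y 𝒞)
  · intro s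
    exact Proj.isAffineOpen_basicOpen 𝒞 s.1.2 s.2.2 s.2.1
  · intro s
    exact qat_chart 𝒜 hGdeg 𝒞 ι hι hιdeg ρ hρ π hπ hinv s.2.1 s.2.2

end Sch

end Groth.Agent.H4.QuotProj
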