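import Mathlib
import Groth.Prelude.Def_SGA1
import Groth.Prelude.Def_Flat
import Groth.Agent.H4.QuotPts
import Groth.Agent.Lib.Helper1.UnivHomeo

/-!
# Universal homeomorphisms out of quotients by finite groups (helper4)
-/

set_option autoImplicit false
set_option linter.style.haveILetI false
universe u
open CategoryTheory Limits AlgebraicGeometry TopologicalSpace Opposite

namespace Groth.Agent.H4.QuotUH

open Groth.Agent.H2.Quot Groth.Agent.H4.QuotKit Groth.Agent.H4.QuotFin Groth.Agent.H4.QuotEx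
  Groth.Agent.H4.QuotPts

section

variable {X Y : Scheme.{u}} {G : Type u} [Group G] [Finite G]

/-- a morphism `m` out of a quotient `r : X → Y` such that `r ≫ m` is integral, is integral -/
theorem isIntegralHom_of_quot {Z : Scheme.{u}} (ρ : G →* Aut X) (r : X ⟶ Y)
    (hr : SGA1.IsQuot ρ r) (m : Y ⟶ Z) [IsIntegralHom (r ≫ m)] : IsIntegralHom m := by
  have hinv : ∀ g : G, (ρ g).hom ≫ (r ≫ m) = r ≫ m := fun g => by
    rw [← Category.assoc, hr.inv g]
  haveI haff : IsAffineHom m :=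
    (main_S2909 ρ r hr (r ≫ m) m rfl hinv).1.mp inferInstance
  refine { toIsAffineHom := haff, isIntegral_app := fun U hU => ?_ }
  have h1 : ((r.app (m ⁻¹ᵁ U)).hom.comp (m.app U).hom).IsIntegral := by
    have h0 := IsIntegralHom.isIntegral_app (r ≫ m) U hU
    rw [Scheme.Hom.comp_app] at h0
    exact h0
  exact RingHom.IsIntegral.tower_bot (m.app U).hom (r.app (m ⁻¹ᵁ U)).hom (hr.injective _) h1

/-- universal injectivity of a map out of a quotient, from conjugacy of points -/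
theorem universallyInjective_of_conj {Z : Scheme.{u}} (ρ : G →* Aut X) (r : X ⟶ Y)
    (hr : SGA1.IsQuot ρ r) (m : Y ⟶ Z)
    (H : ∀ (K : Type u) [Field K] (x₁ x₂ : Spec (CommRingCat.of K) ⟶ X),
      x₁ ≫ r ≫ m = x₂ ≫ r ≫ m → ∃ g : G, x₂ = x₁ ≫ (ρ g).hom) : UniversallyInjective m := by
  haveI : Surjective r := ⟨surjective hr⟩
  apply universallyInjective_of_quot r m
  intro K _ x₁ x₂ h
  obtain ⟨g, hg⟩ := H K x₁ x₂ h
  rw [hg, Category.assoc, hr.inv g]

theorem isUnivHomeo_of_quot {Z : Scheme.{u}} (ρ : G →* Aut X) (r : X ⟶ Y)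
    (hr : SGA1.IsQuot ρ r) (m : Y ⟶ Z) [IsIntegralHom (r ≫ m)] [Surjective (r ≫ m)]
    (H : ∀ (K : Type u) [Field K] (x₁ x₂ : Spec (CommRingCat.of K) ⟶ X),
      x₁ ≫ r ≫ m = x₂ ≫ r ≫ m → ∃ g : G, x₂ = x₁ ≫ (ρ g).hom) : FlatMor.IsUnivHomeo m := by
  rw [Groth.Agent.H1.isUnivHomeo_iff_integral]
  exact ⟨isIntegralHom_of_quot ρ r hr m, universallyInjective_of_conj ρ r hr m H,
    Surjective.of_comp r m⟩

end

/-- **S13082** -/
theorem main_S13082 {k : Type u} [Field k] {G : Type u}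
    [Group G] [Finite G] {X XG W WG : Scheme.{u}} (fX : X ⟶ Spec (CommRingCat.of k))
    [LocallyOfFiniteType fX] [QuasiCompact fX] (ρ : G →* Aut X) (hρ : ∀ g, (ρ g).hom ≫ fX = fX)
    (p : X ⟶ XG) (hP : SGA1.IsQuot ρ p) (j : W ⟶ X) [IsImmersion j] (ρW : G →* Aut W)
    (hρW : ∀ g, (ρW g).hom ≫ j = j ≫ (ρ g).hom) (pW : W ⟶ WG) (hPW : SGA1.IsQuot ρW pW)
    (φ : WG ⟶ XG) (hφ : pW ≫ φ = j ≫ p) :
    UniversallyInjective φ ∧ Set.range φ.base = p.base '' Set.range j.base := by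
  constructor
  · apply universallyInjective_of_conj ρW pW hPW φ
    intro K _ x₁ x₂ h
    have h' : (x₁ ≫ j) ≫ p = (x₂ ≫ j) ≫ p := by
      rw [Category.assoc, Category.assoc, ← hφ]
      exact h
    obtain ⟨g, hg⟩ := exists_act_of_comp_eq hP (x₁ ≫ j) (x₂ ≫ j) h'
    refine ⟨g, ?_⟩
    rw [← cancel_mono j, hg, Category.assoc, Category.assoc, hρW g]
  · have hsurj : Function.Surjective pW := surjective hPW
    ext y
    constructor
    · rintro ⟨w, rfl⟩
      obtain ⟨w', rfl⟩ := hsurj w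
      exact ⟨j w', ⟨w', rfl⟩, (congrArg (fun k : W ⟶ XG => k w') hφ).symm⟩
    · rintro ⟨_, ⟨w', rfl⟩, rfl⟩
      exact ⟨pW w', congrArg (fun k : W ⟶ XG => k w') hφ⟩

/-- **S13176** -/
theorem main_S13176 {X Y S S' Y' : Scheme.{u}} {G : Type u} [Group G] [Finite G]
    (ρ : G →* Aut X) (f : X ⟶ S) (hρ : ∀ σ : G, (ρ σ).hom ≫ f = f)
    (q : X ⟶ Y) (h : Y ⟶ S) (hq : q ≫ h = f) (hquot : SGA1.IsQuot ρ q)
    (g : S' ⟶ S)
    (ρ' : G →* Aut (pullback f g))
    (hρ' : ∀ σ : G, (ρ' σ).hom ≫ pullback.fst f g = pullback.fst f g ≫ (ρ σ).hom ∧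
      (ρ' σ).hom ≫ pullback.snd f g = pullback.snd f g)
    (r : pullback f g ⟶ Y') (hr : SGA1.IsQuot ρ' r)
    (m : Y' ⟶ pullback h g)
    (hm : r ≫ m = pullback.map f g h g q (𝟙 S') (𝟙 S)
      ((Category.comp_id f).trans hq.symm) ((Category.comp_id g).trans (Category.id_comp g).symm)) :
    FlatMor.IsUnivHomeo m := by
  haveI hqint : IsIntegralHom q := s13596 hquot
  haveI hqsurj : Surjective q := ⟨surjective hquot⟩
  haveI : IsIntegralHom (r ≫ m) := by
    rw [hm]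
    exact MorphismProperty.pullbackMap (P := @IsIntegralHom) hqint
      (inferInstance : IsIntegralHom (𝟙 S')) hq.symm (Category.id_comp g).symm
  haveI : Surjective (r ≫ m) := by
    rw [hm]
    exact MorphismProperty.pullbackMap (P := @Surjective) hqsurj
      (inferInstance : Surjective (𝟙 S')) hq.symm (Category.id_comp g).symm
  have e1 : r ≫ m ≫ pullback.fst h g = pullback.fst f g ≫ q := by
    rw [← Category.assoc, hm]
    exact pullback.lift_fst _ _ _
  have e2 : r ≫ m ≫ pullback.snd h g = pullback.snd f g := by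
    rw [← Category.assoc, hm]
    exact (pullback.lift_snd _ _ _).trans (Category.comp_id _)
  apply isUnivHomeo_of_quot ρ' r hr m
  intro K _ x₁ x₂ hx
  have hx1 : x₁ ≫ r ≫ m ≫ pullback.fst h g = x₂ ≫ r ≫ m ≫ pullback.fst h g := by
    simpa only [Category.assoc] using congrArg (fun k => k ≫ pullback.fst h g) hx
  have hx2 : x₁ ≫ r ≫ m ≫ pullback.snd h g = x₂ ≫ r ≫ m ≫ pullback.snd h g := by
    simpa only [Category.assoc] using congrArg (fun k => k ≫ pullback.snd h g) hx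
  rw [e1] at hx1
  rw [e2] at hx2
  obtain ⟨σ, hσ⟩ := exists_act_of_comp_eq hquot (x₁ ≫ pullback.fst f g) (x₂ ≫ pullback.fst f g)
    (by simpa only [Category.assoc] using hx1)
  refine ⟨σ, ?_⟩
  apply pullback.hom_ext
  · rw [hσ, Category.assoc, Category.assoc, (hρ' σ).1]
  · rw [Category.assoc, (hρ' σ).2]
    exact hx2.symm

/-- **S13177** -/
theorem main_S13177 {X Y Z W : Scheme.{u}} {G : Type u} [Group G] [Finite G]
    (ρ : G →* Aut X) (q : X ⟶ Y) (hquot : SGA1.IsQuot ρ q)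
    (i : Z ⟶ X) [IsClosedImmersion i] (ρZ : G →* Aut Z)
    (hρZ : ∀ σ : G, (ρZ σ).hom ≫ i = i ≫ (ρ σ).hom)
    (r : Z ⟶ W) (hr : SGA1.IsQuot ρZ r)
    (m : W ⟶ (i ≫ q).ker.subscheme) (hm : r ≫ m ≫ (i ≫ q).ker.subschemeι = i ≫ q) :
    FlatMor.IsUnivHomeo m ∧ IsSchemeTheoreticallyDominant m := by
  haveI hqint : IsIntegralHom q := s13596 hquot
  haveI : IsIntegralHom (i ≫ q) := inferInstance
  haveI : QuasiCompact (i ≫ q) := inferInstance
  have hm' : (r ≫ m) ≫ (i ≫ q).ker.subschemeι = i ≫ q := by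
    rw [Category.assoc]
    exact hm
  haveI : IsIntegralHom (r ≫ m) := by
    apply MorphismProperty.of_postcomp (W := @IsIntegralHom)
      (W' := MorphismProperty.monomorphisms Scheme.{u}) (r ≫ m) (i ≫ q).ker.subschemeι
    · exact MorphismProperty.monomorphisms.infer_property _
    · rw [hm']
      infer_instance
  haveI : Surjective (r ≫ m) := by
    refine ⟨fun z => ?_⟩
    have hz : (i ≫ q).ker.subschemeι z ∈ Set.range (i ≫ q) := by
      have h1 : (i ≫ q).ker.subschemeι z ∈ ((i ≫ q).ker.support : Set Y) := by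
        rw [← Scheme.IdealSheafData.range_subschemeι]
        exact ⟨z, rfl⟩
      rw [Scheme.Hom.support_ker] at h1
      rwa [((i ≫ q).isClosedMap.isClosed_range).closure_eq] at h1
    obtain ⟨x, hx⟩ := hz
    refine ⟨x, ?_⟩
    apply (i ≫ q).ker.subschemeι.isEmbedding.injective
    exact (congrArg (fun k : Z ⟶ Y => k x) hm').trans hx
  have ht : r ≫ m = (i ≫ q).toImage := by
    rw [← cancel_mono (i ≫ q).imageι, Scheme.Hom.toImage_imageι]
    exact hm'
  have hker : (r ≫ m).ker = ⊥ := by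
    rw [ht]
    apply Scheme.IdealSheafData.ext_of_iSup_eq_top
      (fun V : Y.affineOpens => (⟨(i ≫ q).imageι ⁻¹ᵁ V.1, V.2.preimage (i ≫ q).imageι⟩ :
        (i ≫ q).image.affineOpens))
    · show ⨆ V : Y.affineOpens, (i ≫ q).imageι ⁻¹ᵁ V.1 = ⊤
      rw [← Scheme.Hom.preimage_iSup, iSup_affineOpens_eq_top]
      rfl
    · intro V
      rw [Scheme.Hom.ker_apply]
      exact (RingHom.injective_iff_ker_eq_bot _).mp ((i ≫ q).toImage_app_injective V)
  refine ⟨?_, ?_⟩
  · apply isUnivHomeo_of_quot ρZ r hr m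
    intro K _ x₁ x₂ hx
    have hx1 : x₁ ≫ r ≫ m ≫ (i ≫ q).ker.subschemeι = x₂ ≫ r ≫ m ≫ (i ≫ q).ker.subschemeι := by
      simpa only [Category.assoc] using congrArg (fun k => k ≫ (i ≫ q).ker.subschemeι) hx
    rw [hm] at hx1
    obtain ⟨σ, hσ⟩ := exists_act_of_comp_eq hquot (x₁ ≫ i) (x₂ ≫ i)
      (by simpa only [Category.assoc] using hx1)
    refine ⟨σ, ?_⟩
    rw [← cancel_mono i, hσ, Category.assoc, Category.assoc, hρZ σ]
  · have h1 := Scheme.Hom.le_ker_comp r m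
    rw [hker] at h1
    exact ⟨le_bot_iff.mp h1⟩

end Groth.Agent.H4.QuotUH
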