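import Mathlib
import Groth.Prelude.Def_RelProj4
import Groth.Agent.S12146
import Groth.Agent.S12143

set_option autoImplicit false
set_option linter.unusedSectionVars false
set_option linter.unusedVariables false
set_option linter.style.haveILetI false
universe u
open CategoryTheory CategoryTheory.Limits AlgebraicGeometry TopologicalSpace Opposite

namespace Groth.Agent.H4.RDomQC

theorem main {X Y P PL : Scheme.{u}} [CompactSpace X]
    (f : X ⟶ Y) [QuasiCompact f] (hY : IsAffineOpen (⊤ : Y.Opens))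
    (L : X.Modules) (hL : PicF.IsInvertible L) (hLq : Coh.IsQCoh L)
    (𝒮L : RelProj.QCGrAlg X) (jL : L ⟶ 𝒮L.toModule) (hjL : RelProj.IsGrSymAlg L 𝒮L jL)
    (pL : PL ⟶ X) (chartL : ∀ (U : X.Opens) (hU : IsAffineOpen U), (((pL ⁻¹ᵁ U : PL.Opens) : Scheme.{u}) ≅ Proj (𝒮L.deg U hU)))
    (hPL : RelProj.IsRelProj 𝒮L pL chartL)
    (𝒜 : RelProj.QCGrAlg Y) (u : RelProj.QGrHom f 𝒜 𝒮L)
    (p : P ⟶ Y) (chart : ∀ (U : Y.Opens) (hU : IsAffineOpen U), (((p ⁻¹ᵁ U : P.Opens) : Scheme.{u}) ≅ Proj (𝒜.deg U hU)))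
    (hP : RelProj.IsRelProj 𝒜 p chart)
    (r : ((RelProj.domQ u pL chartL : PL.Opens) : Scheme.{u}) ⟶ P)
    (hr : RelProj.IsProjQMapOn u p chart pL chartL (RelProj.domQ u pL chartL) r)
    (hu : Function.Bijective (u.app ⊤).hom)
    (htop : RelProj.domQ u pL chartL = ⊤) :
    QuasiCompact r ∧ IsDominant r := by
  classical
  haveI hpL : IsIso pL := Groth.Agent.S12143.result L hL hLq 𝒮L jL hjL pL chartL hPL
  constructor
  · haveI : CompactSpace PL := (Scheme.homeoOfIso (asIso pL)).symm.compactSpace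
    haveI : CompactSpace ((RelProj.domQ u pL chartL : PL.Opens) : Scheme.{u}) := by
      show CompactSpace ↥(RelProj.domQ u pL chartL)
      apply (isCompact_iff_compactSpace (s := ((RelProj.domQ u pL chartL : PL.Opens) : Set PL))).mp
      rw [htop]
      exact isCompact_univ
    haveI : QuasiSeparatedSpace ↥(p ⁻¹ᵁ (⊤ : Y.Opens)) :=
      QuasiSeparatedSpace.of_isOpenEmbedding (chart ⊤ hY).hom.isOpenEmbedding
    haveI : QuasiSeparatedSpace P := by
      rw [← isQuasiSeparated_univ_iff]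
      have h1 : IsQuasiSeparated ((p ⁻¹ᵁ (⊤ : Y.Opens) : P.Opens) : Set P) :=
        (isQuasiSeparated_iff_quasiSeparatedSpace _ (p ⁻¹ᵁ (⊤ : Y.Opens)).isOpen).mpr inferInstance
      have h2 : ((p ⁻¹ᵁ (⊤ : Y.Opens) : P.Opens) : Set P) = Set.univ := by simp
      rw [h2] at h1
      exact h1
    infer_instance
  · rw [Groth.Agent.S12146.result f L hL hLq 𝒜 𝒮L jL hjL u p chart hP pL chartL hPL r hr hY]
    intro n hn s hs hloc
    choose V hV hxV hnil using hloc
    choose N hN using hnil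
    obtain ⟨t, ht⟩ := isCompact_univ.elim_finite_subcover (fun x : X => ((V x : X.Opens) : Set X))
      (fun x => (V x).isOpen) (fun x _ => Set.mem_iUnion.mpr ⟨x, hxV x⟩)
    refine ⟨t.sup N, ?_⟩
    apply hu.1
    rw [map_zero]
    have hle : ∀ x : X, V x ≤ f ⁻¹ᵁ (⊤ : Y.Opens) := fun x =>
      le_top.trans (Scheme.Hom.preimage_top f).ge
    refine TopCat.Sheaf.eq_of_locally_eq' ⟨𝒮L.presheaf, 𝒮L.isSheaf⟩ (fun x : t => V x.1)
      (f ⁻¹ᵁ (⊤ : Y.Opens)) (fun x => homOfLE (hle x.1)) ?_ _ _ ?_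
    · intro y _
      have : y ∈ ⋃ x ∈ t, ((V x : X.Opens) : Set X) := ht (Set.mem_univ y)
      obtain ⟨x, hx⟩ := Set.mem_iUnion.mp this
      obtain ⟨hxt, hy⟩ := Set.mem_iUnion.mp hx
      exact Opens.mem_iSup.mpr ⟨⟨x, hxt⟩, hy⟩
    · intro x
      show (𝒮L.presheaf.map (homOfLE (hle x.1)).op).hom ((u.app ⊤).hom (s ^ t.sup N)) =
        (𝒮L.presheaf.map (homOfLE (hle x.1)).op).hom 0
      rw [map_zero]
      have h1 : (𝒮L.presheaf.map (homOfLE (hle x.1)).op).hom ((u.app ⊤).hom (s ^ t.sup N)) =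
          ((u.appLE ⊤ (V x.1) (hle x.1)).hom s) ^ t.sup N := by
        rw [← map_pow]; rfl
      rw [h1]
      exact pow_eq_zero_of_le (Finset.le_sup x.2) (hN x.1)

end Groth.Agent.H4.RDomQC
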