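import Mathlib
import Groth.Prelude.Def_DualLC
import Groth.Agent.H4.RG3
import Groth.Agent.H4.LD10

set_option autoImplicit false
universe u v
open CategoryTheory Category Limits Pretriangulated Opposite ZeroObject

namespace Groth.Agent.H4.RG4

attribute [local instance] HasDerivedCategory.standard

open DerivedCategory Groth.Agent.H4.LD3 DRing

variable {A : Type u} [CommRing A] [IsLocalRing A]

lemma subsingleton_dual_iff (E : Type u) [AddCommGroup E] [Module A E]
    (f : IsLocalRing.ResidueField A →ₗ[A] E) (hf : InjHull.IsInjectiveHull f)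
    (N : Type v) [AddCommGroup N] [Module A N] :
    Subsingleton (N →ₗ[A] E) ↔ Subsingleton N := by
  haveI := hf.isInjective
  constructor
  · intro h
    refine ⟨fun x y => ?_⟩
    by_contra hxy
    obtain ⟨φ, hφ⟩ := Groth.Agent.H6.IH.exists_hom_apply_ne_zero f hf.injective
      (sub_ne_zero.2 hxy)
    exact hφ (by rw [Subsingleton.elim φ 0, LinearMap.zero_apply])
  · intro h
    refine ⟨fun φ ψ => ?_⟩
    apply LinearMap.ext
    intro x
    rw [Subsingleton.elim x 0, map_zero, map_zero]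

variable [IsNoetherianRing A] {ω : Dual.D A}
  (hn : Dual.IsNormalized A ω) (hω : Dual.IsDualizing A ω)

include hn hω

/-- `H^i(RΓ_𝔪 M) = 0 ↔ Hom(M, ω[-i]) = 0` -/
theorem subsingleton_HD_Rgamma_iff [DRing.HasRgammaI (IsLocalRing.maximalIdeal A)] (M : Dual.D A)
    (hfin : ∀ i : ℤ, Module.Finite A (Dual.HD A M i)) (s : ℤ) [M.IsGE s] (i : ℤ) :
    Subsingleton (Dual.HD A ((DRing.RgammaI (IsLocalRing.maximalIdeal A)).obj M) i) ↔
      Subsingleton (M ⟶ ω⟦-i⟧) := by
  obtain ⟨E, _, _, f, hf⟩ :=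
    Groth.Agent.H6.IH.exists_injectiveHull (R := A) (IsLocalRing.ResidueField A)
  obtain ⟨e1⟩ := Groth.Agent.H4.RG3.S1812 (IsLocalRing.maximalIdeal A) M i
  obtain ⟨e2⟩ := Groth.Agent.H4.LD10.nonempty_hdi_equiv_dual hn hω E f hf M s hfin i
  rw [← subsingleton_dual_iff E f hf (M ⟶ ω⟦-i⟧)]
  exact (e1 ≪≫ₗ e2).toEquiv.subsingleton_congr

theorem S19135 [DRing.HasRgammaI (IsLocalRing.maximalIdeal A)] (M : Dual.D A)
    (hfin : ∀ i : ℤ, Module.Finite A (Dual.HD A M i))
    (hbd : ∃ a b : ℤ, ∀ i : ℤ, (i < a ∨ b < i) → Subsingleton (Dual.HD A M i)) :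
    ((∀ i : ℤ, i < 0 → Subsingleton (M ⟶ ω⟦i⟧)) ↔
      (∀ i : ℤ, 0 < i → Subsingleton (Dual.HD A ((DRing.RgammaI (IsLocalRing.maximalIdeal A)).obj M) i))) ∧
    ((∀ i : ℤ, 0 < i → Subsingleton (M ⟶ ω⟦i⟧)) ↔
      (∀ i : ℤ, i < 0 → Subsingleton (Dual.HD A ((DRing.RgammaI (IsLocalRing.maximalIdeal A)).obj M) i))) := by
  obtain ⟨a, b, hab⟩ := hbd
  haveI : M.IsGE a := by
    rw [DerivedCategory.isGE_iff]
    intro i hi
    haveI := hab i (Or.inl hi)
    exact ModuleCat.isZero_of_subsingleton _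
  have key := fun i => subsingleton_HD_Rgamma_iff hn hω M hfin a i
  constructor
  · constructor
    · intro h i hi
      rw [key]
      exact h (-i) (by omega)
    · intro h i hi
      have := (key (-i)).1 (h (-i) (by omega))
      rwa [neg_neg] at this
  · constructor
    · intro h i hi
      rw [key]
      exact h (-i) (by omega)
    · intro h i hi
      have := (key (-i)).1 (h (-i) (by omega))
      rwa [neg_neg] at this

end Groth.Agent.H4.RG4
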