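import Mathlib
import Groth.Prelude.Def_DualLC
import Groth.Agent.H4.FrobRG1
import Groth.Agent.H4.DComp10

/-!
# `RΓ_I` commutes with derived base change and with restriction of scalars
-/

set_option autoImplicit false
universe u
open CategoryTheory Category Limits Pretriangulated

namespace Groth.Agent.H4.RGBC1

attribute [local instance] HasDerivedCategory.standard
attribute [local instance] Groth.Agent.H4.GM3.hasRgammaI
attribute [local instance] Groth.Agent.H4.KProj.hasLBaseChange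

open DRing DerivedCategory Groth.Agent.H4.DCompl2 Groth.Agent.H4.FrobRG1
  Groth.Agent.H4.GM3 Groth.Agent.H4.GM1

variable {A B : Type u} [CommRing A] [CommRing B] (φ : A →+* B)

lemma FInv_LB' {f : A} {C : Dual.D A} (h : FInv f C) :
    FInv (φ f) ((LBaseChange φ).obj C) := by
  unfold FInv
  rw [← LB_map_smul_id φ f C]
  haveI : IsIso (f • 𝟙 C) := h
  infer_instance

lemma FInv_Rs' {f : A} {C : Dual.D B} (h : FInv (φ f) C) :
    FInv f ((restrictD φ).obj C) := by
  unfold FInv at h ⊢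
  rw [← restrictD_map_smul_id φ f C]
  haveI := h
  infer_instance

section Tors

variable [IsNoetherianRing A] [IsNoetherianRing B]

/-- torsion objects have power-torsion cohomology. -/
lemma isPowerTorsion_of_isIso_eps (I : Ideal A) {T : Dual.D A} (hT : IsIso ((RgammaIε I).app T))
    (i : ℤ) : LocCoh.IsPowerTorsion I (Dual.HD A T i) := by
  haveI := hT
  have h := Groth.Agent.H4.RG11.isPowerTorsion_HD_Rgamma I T i
  let e : Dual.HD A ((RgammaI I).obj T) i ≃ₗ[A] Dual.HD A T i :=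
    ((homologyFunctor (ModuleCat.{u} A) i).mapIso (asIso ((RgammaIε I).app T))).toLinearEquiv
  intro m
  obtain ⟨n, hn⟩ := h (e.symm m)
  refine ⟨n, fun a ha => ?_⟩
  have := hn a ha
  rw [← map_smul] at this
  exact (LinearEquiv.map_eq_zero_iff e.symm).1 this

/-- restriction of scalars preserves torsion objects. -/
lemma isIso_eps_Rs (I : Ideal A) {T : Dual.D B}
    (hT : IsIso ((RgammaIε (I.map φ)).app T)) :
    IsIso ((RgammaIε I).app ((restrictD φ).obj T)) := by
  apply Groth.Agent.H4.RG10.S1813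
  intro i
  have h := isPowerTorsion_of_isIso_eps (I.map φ) hT i
  let e : Dual.HD A ((restrictD φ).obj T) i ≃ₗ[A]
      (ModuleCat.restrictScalars.{u} φ).obj ((homologyFunctor (ModuleCat.{u} B) i).obj T) :=
    (Groth.Agent.H4.DComp.restrictHomologyIso φ T i).toLinearEquiv
  intro m
  obtain ⟨n, hn⟩ := h (show Dual.HD B T i from e m)
  refine ⟨n, fun a ha => ?_⟩
  have h1 : φ a ∈ (I.map φ) ^ n := by
    rw [← Ideal.map_pow]
    exact Ideal.mem_map_of_mem φ ha
  have h2 := hn (φ a) h1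
  have h3 : e (a • m) = 0 := by
    rw [map_smul]
    exact h2
  exact (LinearEquiv.map_eq_zero_iff e).1 h3

lemma isIso_eps_LB' (f : A) {T₀ : Dual.D A}
    (hT₀ : IsIso ((RgammaIε (Ideal.span {f})).app T₀)) :
    IsIso ((RgammaIε (Ideal.span {φ f})).app ((LBaseChange φ).obj T₀)) := by
  obtain ⟨C', q, h, hT, hC'⟩ := exists_tri (Ideal.span {φ f}) ((LBaseChange φ).obj T₀)
  have hFC' : FInv (φ f) C' := (isZero_rgamma_singleton_iff (φ f) C').1 hC'
  have hFR : FInv f ((restrictD φ).obj C') := FInv_Rs' φ hFC'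
  have hZ : IsZero ((RgammaI (Ideal.span {f})).obj ((restrictD φ).obj C')) :=
    (isZero_rgamma_singleton_iff f _).2 hFR
  let adj := Groth.Agent.H4.KProj.adjLBaseChange φ
  have hq : q = 0 := by
    apply (adj.homEquiv _ _).injective
    rw [hom_eq_zero_of_tor (Ideal.span {f}) hT₀ hZ (adj.homEquiv _ _ q)]
    exact (hom_eq_zero_of_tor (Ideal.span {f}) hT₀ hZ _).symm
  obtain ⟨s, hs⟩ := Triangle.coyoneda_exact₂ _ hT (𝟙 _) (by
    change 𝟙 _ ≫ q = 0
    rw [hq, comp_zero])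
  exact isIso_eps_of_retract (Ideal.span {φ f}) (isIso_eps_rgamma (Ideal.span {φ f}) _) s _ hs.symm

theorem singleLB (f : A) (K : Dual.D A) :
    Nonempty ((LBaseChange φ).obj ((RgammaI (Ideal.span {f})).obj K) ≅
      (RgammaI (Ideal.span {φ f})).obj ((LBaseChange φ).obj K)) := by
  obtain ⟨C, g, h, hT, hC⟩ := exists_tri (Ideal.span {f}) K
  obtain ⟨T', hT', ⟨e₁⟩, ⟨e₂⟩, ⟨e₃⟩⟩ := Groth.Agent.H4.LDer.exists_distTriang_LG'
    (ModuleCat.extendScalars.{u, u, u} φ) _ hT
  have e₁' : T'.obj₁ ≅ (LBaseChange φ).obj ((RgammaI (Ideal.span {f})).obj K) := e₁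
  have e₂' : T'.obj₂ ≅ (LBaseChange φ).obj K := e₂
  have e₃' : T'.obj₃ ≅ (LBaseChange φ).obj C := e₃
  have hFC : FInv f C := (isZero_rgamma_singleton_iff f C).1 hC
  have h3 : IsZero ((RgammaI (Ideal.span {φ f})).obj T'.obj₃) :=
    (isZero_rgamma_singleton_iff (φ f) _).2 (FInv.of_iso e₃'.symm (FInv_LB' φ hFC))
  haveI : IsIso ((RgammaI (Ideal.span {φ f})).map T'.mor₁) :=
    (isIso_map_mor₁_iff (Ideal.span {φ f}) T' hT').2 h3
  have h1 : IsIso ((RgammaIε (Ideal.span {φ f})).app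
      ((LBaseChange φ).obj ((RgammaI (Ideal.span {f})).obj K))) :=
    isIso_eps_LB' φ f (isIso_eps_rgamma (Ideal.span {f}) K)
  haveI : IsIso ((RgammaIε (Ideal.span {φ f})).app T'.obj₁) :=
    isIso_eps_of_retract (Ideal.span {φ f}) h1 e₁'.hom e₁'.inv e₁'.hom_inv_id
  exact ⟨e₁'.symm ≪≫ (asIso ((RgammaIε (Ideal.span {φ f})).app T'.obj₁)).symm ≪≫
    asIso ((RgammaI (Ideal.span {φ f})).map T'.mor₁) ≪≫ (RgammaI (Ideal.span {φ f})).mapIso e₂'⟩

theorem singleRs (f : A) (K : Dual.D B) :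
    Nonempty ((restrictD φ).obj ((RgammaI (Ideal.span {φ f})).obj K) ≅
      (RgammaI (Ideal.span {f})).obj ((restrictD φ).obj K)) := by
  obtain ⟨C, g, h, hT, hC⟩ := exists_tri (Ideal.span {φ f}) K
  have hT' := (restrictD φ).map_distinguished _ hT
  have hFC : FInv (φ f) C := (isZero_rgamma_singleton_iff (φ f) C).1 hC
  have h3 : IsZero ((RgammaI (Ideal.span {f})).obj ((restrictD φ).obj C)) :=
    (isZero_rgamma_singleton_iff f _).2 (FInv_Rs' φ hFC)
  have h4 : IsIso ((RgammaI (Ideal.span {f})).map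
      ((restrictD φ).map ((RgammaIε (Ideal.span {φ f})).app K))) :=
    (isIso_map_mor₁_iff (Ideal.span {f}) _ hT').2 h3
  have hmap : (Ideal.span {f}).map φ = Ideal.span {φ f} := by
    rw [Ideal.map_span, Set.image_singleton]
  have h1 : IsIso ((RgammaIε (Ideal.span {f})).app
      ((restrictD φ).obj ((RgammaI (Ideal.span {φ f})).obj K))) := by
    apply isIso_eps_Rs φ (Ideal.span {f})
    rw [hmap]
    exact isIso_eps_rgamma (Ideal.span {φ f}) K
  haveI := h1
  haveI := h4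
  exact ⟨(asIso ((RgammaIε (Ideal.span {f})).app
      ((restrictD φ).obj ((RgammaI (Ideal.span {φ f})).obj K)))).symm ≪≫
    asIso ((RgammaI (Ideal.span {f})).map
      ((restrictD φ).map ((RgammaIε (Ideal.span {φ f})).app K)))⟩

theorem finsetLB (s : Finset A) : ∀ K : Dual.D A,
    Nonempty ((LBaseChange φ).obj ((RgammaI (Ideal.span (s : Set A))).obj K) ≅
      (RgammaI (Ideal.span (φ '' (s : Set A)))).obj ((LBaseChange φ).obj K)) := by
  classical
  induction s using Finset.induction_on with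
  | empty =>
    intro K
    have h0 : Ideal.span ((∅ : Finset A) : Set A) = Ideal.span {0} := by simp
    have h0' : Ideal.span (φ '' ((∅ : Finset A) : Set A)) = Ideal.span {φ 0} := by simp
    obtain ⟨e1⟩ := rgamma_congr h0 K
    obtain ⟨e2⟩ := rgamma_congr h0' ((LBaseChange φ).obj K)
    obtain ⟨e⟩ := singleLB φ 0 K
    exact ⟨(LBaseChange φ).mapIso e1 ≪≫ e ≪≫ e2.symm⟩
  | insert f s hf ih =>
    intro K
    have h0 : Ideal.span ((insert f s : Finset A) : Set A) =
        Ideal.span {f} ⊔ Ideal.span (s : Set A) := by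
      rw [Finset.coe_insert, Ideal.span_insert]
    have h0' : Ideal.span (φ '' ((insert f s : Finset A) : Set A)) =
        Ideal.span {φ f} ⊔ Ideal.span (φ '' (s : Set A)) := by
      rw [Finset.coe_insert, Set.image_insert_eq, Ideal.span_insert]
    obtain ⟨a1⟩ := rgamma_congr h0 K
    obtain ⟨a2⟩ := rgamma_congr h0' ((LBaseChange φ).obj K)
    obtain ⟨b1⟩ := Groth.Agent.H4.RG8.S1816 (Ideal.span {f}) (Ideal.span (s : Set A)) K
    obtain ⟨b2⟩ := Groth.Agent.H4.RG8.S1816 (Ideal.span {φ f}) (Ideal.span (φ '' (s : Set A)))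
      ((LBaseChange φ).obj K)
    obtain ⟨c⟩ := ih ((RgammaI (Ideal.span {f})).obj K)
    obtain ⟨d⟩ := singleLB φ f K
    exact ⟨(LBaseChange φ).mapIso (a1 ≪≫ b1.symm) ≪≫ c ≪≫
      (RgammaI (Ideal.span (φ '' (s : Set A)))).mapIso d ≪≫ b2 ≪≫ a2.symm⟩

theorem finsetRs (s : Finset A) : ∀ K : Dual.D B,
    Nonempty ((restrictD φ).obj ((RgammaI (Ideal.span (φ '' (s : Set A)))).obj K) ≅
      (RgammaI (Ideal.span (s : Set A))).obj ((restrictD φ).obj K)) := by
  classical
  induction s using Finset.induction_on with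
  | empty =>
    intro K
    have h0 : Ideal.span ((∅ : Finset A) : Set A) = Ideal.span {0} := by simp
    have h0' : Ideal.span (φ '' ((∅ : Finset A) : Set A)) = Ideal.span {φ 0} := by simp
    obtain ⟨e1⟩ := rgamma_congr h0' K
    obtain ⟨e2⟩ := rgamma_congr h0 ((restrictD φ).obj K)
    obtain ⟨e⟩ := singleRs φ 0 K
    exact ⟨(restrictD φ).mapIso e1 ≪≫ e ≪≫ e2.symm⟩
  | insert f s hf ih =>
    intro K
    have h0 : Ideal.span ((insert f s : Finset A) : Set A) =
        Ideal.span {f} ⊔ Ideal.span (s : Set A) := by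
      rw [Finset.coe_insert, Ideal.span_insert]
    have h0' : Ideal.span (φ '' ((insert f s : Finset A) : Set A)) =
        Ideal.span {φ f} ⊔ Ideal.span (φ '' (s : Set A)) := by
      rw [Finset.coe_insert, Set.image_insert_eq, Ideal.span_insert]
    obtain ⟨a1⟩ := rgamma_congr h0' K
    obtain ⟨a2⟩ := rgamma_congr h0 ((restrictD φ).obj K)
    obtain ⟨b1⟩ := Groth.Agent.H4.RG8.S1816 (Ideal.span {φ f}) (Ideal.span (φ '' (s : Set A))) K
    obtain ⟨b2⟩ := Groth.Agent.H4.RG8.S1816 (Ideal.span {f}) (Ideal.span (s : Set A))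
      ((restrictD φ).obj K)
    obtain ⟨c⟩ := ih ((RgammaI (Ideal.span {φ f})).obj K)
    obtain ⟨d⟩ := singleRs φ f K
    exact ⟨(restrictD φ).mapIso (a1 ≪≫ b1.symm) ≪≫ c ≪≫
      (RgammaI (Ideal.span (s : Set A))).mapIso d ≪≫ b2 ≪≫ a2.symm⟩

theorem mainLB (I : Ideal A) (K : Dual.D A) :
    Nonempty ((LBaseChange φ).obj ((RgammaI I).obj K) ≅
      (RgammaI (I.map φ)).obj ((LBaseChange φ).obj K)) := by
  obtain ⟨s, hs⟩ := (IsNoetherian.noetherian I : I.FG)
  have hs' : Ideal.span (φ '' (s : Set A)) = I.map φ := by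
    rw [← hs, Ideal.map_span]
  obtain ⟨a1⟩ := rgamma_congr hs K
  obtain ⟨a2⟩ := rgamma_congr hs' ((LBaseChange φ).obj K)
  obtain ⟨c⟩ := finsetLB φ s K
  exact ⟨(LBaseChange φ).mapIso a1.symm ≪≫ c ≪≫ a2⟩

theorem mainRs (I : Ideal A) (K : Dual.D B) :
    Nonempty ((restrictD φ).obj ((RgammaI (I.map φ)).obj K) ≅
      (RgammaI I).obj ((restrictD φ).obj K)) := by
  obtain ⟨s, hs⟩ := (IsNoetherian.noetherian I : I.FG)
  have hs' : Ideal.span (φ '' (s : Set A)) = I.map φ := by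
    rw [← hs, Ideal.map_span]
  obtain ⟨a1⟩ := rgamma_congr hs' K
  obtain ⟨a2⟩ := rgamma_congr hs ((restrictD φ).obj K)
  obtain ⟨c⟩ := finsetRs φ s K
  exact ⟨(restrictD φ).mapIso a1.symm ≪≫ c ≪≫ a2⟩

end Tors

end Groth.Agent.H4.RGBC1
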