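import Mathlib
import Groth.Prelude.Def_DualLC
import Groth.Agent.H4.RGBC1
import Groth.Agent.H4.RG3
import Groth.Agent.H4.FB2

/-!
# Local cohomology `HDI` under restriction of scalars and flat base change
-/

set_option autoImplicit false
universe u v w
open CategoryTheory Category Limits Pretriangulated

namespace Groth.Agent.H4.RGBC2

attribute [local instance] HasDerivedCategory.standard
attribute [local instance] Groth.Agent.H4.GM3.hasRgammaI
attribute [local instance] Groth.Agent.H4.KProj.hasLBaseChange

open DRing DerivedCategory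

section Glue

variable {A B : Type u} [CommRing A] [CommRing B] (φ : A →+* B)

/-- restriction of scalars of a linear equivalence (universe polymorphic). -/
def restrictEquiv {M : ModuleCat.{v} B} {M' : ModuleCat.{w} B} (e : M ≃ₗ[B] M') :
    (ModuleCat.restrictScalars φ).obj M ≃ₗ[A] (ModuleCat.restrictScalars φ).obj M' where
  toFun x := e (show M from x)
  invFun y := e.symm (show M' from y)
  map_add' x y := e.map_add _ _
  map_smul' a x := e.map_smul (φ a) _
  left_inv x := e.left_inv _
  right_inv y := e.right_inv _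

/-- the underlying `A`-linear equivalence of tensor products. -/
noncomputable def tensEquiv {M : ModuleCat.{v} A} {M' : ModuleCat.{w} A} (e : M ≃ₗ[A] M') :
    TensorProduct A ((ModuleCat.restrictScalars φ).obj (ModuleCat.of B B)) M ≃ₗ[A]
      TensorProduct A ((ModuleCat.restrictScalars φ).obj (ModuleCat.of B B)) M' :=
  TensorProduct.congr (LinearEquiv.refl A _) e

/-- the map on extensions of scalars. -/
noncomputable def extFun {M : ModuleCat.{v} A} {M' : ModuleCat.{w} A} (e : M ≃ₗ[A] M') :
    (ModuleCat.extendScalars.{u, u, v} φ).obj M → (ModuleCat.extendScalars.{u, u, w} φ).obj M' :=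
  fun z => tensEquiv φ e z

/-- the inverse map on extensions of scalars. -/
noncomputable def extInv {M : ModuleCat.{v} A} {M' : ModuleCat.{w} A} (e : M ≃ₗ[A] M') :
    (ModuleCat.extendScalars.{u, u, w} φ).obj M' → (ModuleCat.extendScalars.{u, u, v} φ).obj M :=
  fun z => (tensEquiv φ e).symm z

lemma extFun_add {M : ModuleCat.{v} A} {M' : ModuleCat.{w} A} (e : M ≃ₗ[A] M')
    (x y : (ModuleCat.extendScalars.{u, u, v} φ).obj M) :
    extFun φ e (x + y) = extFun φ e x + extFun φ e y :=
  (tensEquiv φ e).map_add x y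

lemma extFun_zero {M : ModuleCat.{v} A} {M' : ModuleCat.{w} A} (e : M ≃ₗ[A] M') :
    extFun φ e (0 : (ModuleCat.extendScalars.{u, u, v} φ).obj M) = 0 :=
  (tensEquiv φ e).map_zero

open ChangeOfRings in
/-- Induction principle for elements of an extension of scalars. -/
lemma ext_induction {M : ModuleCat.{v} A}
    {motive : ((ModuleCat.extendScalars.{u, u, v} φ).obj M) → Prop}
    (zero : motive 0) (tmul : ∀ (s : B) (m : M), motive (s ⊗ₜ[A,φ] m))
    (add : ∀ x y, motive x → motive y → motive (x + y))
    (z : (ModuleCat.extendScalars.{u, u, v} φ).obj M) : motive z :=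
  TensorProduct.induction_on z zero tmul add

lemma extFun_smul {M : ModuleCat.{v} A} {M' : ModuleCat.{w} A} (e : M ≃ₗ[A] M') (b : B)
    (z : (ModuleCat.extendScalars.{u, u, v} φ).obj M) :
    extFun φ e (b • z) = b • extFun φ e z := by
  induction z using ext_induction with
  | zero => rw [smul_zero, extFun_zero, smul_zero]
  | tmul s m => rfl
  | add x y hx hy => rw [smul_add, extFun_add, extFun_add, hx, hy, smul_add]

/-- extension of scalars of a linear equivalence (universe polymorphic). -/
noncomputable def extCongr {M : ModuleCat.{v} A} {M' : ModuleCat.{w} A} (e : M ≃ₗ[A] M') :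
    ((ModuleCat.extendScalars.{u, u, v} φ).obj M) ≃ₗ[B]
      ((ModuleCat.extendScalars.{u, u, w} φ).obj M') where
  toFun := extFun φ e
  invFun := extInv φ e
  map_add' := extFun_add φ e
  map_smul' := extFun_smul φ e
  left_inv z := (tensEquiv φ e).left_inv z
  right_inv z := (tensEquiv φ e).right_inv z

end Glue

section Main

variable (A B : Type u) [CommRing A] [CommRing B] [Algebra A B] [IsNoetherianRing A]
  [IsNoetherianRing B] (I : Ideal A)

theorem S1804 (K : Dual.D B) (i : ℤ) :
    Nonempty (Dual2.HDI A I ((DRing.restrictD (algebraMap A B)).obj K) i ≅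
      (ModuleCat.restrictScalars (algebraMap A B)).obj
        (Dual2.HDI B (I.map (algebraMap A B)) K i)) := by
  obtain ⟨e1⟩ := Groth.Agent.H4.RG3.S1812 I ((DRing.restrictD (algebraMap A B)).obj K) i
  obtain ⟨e2⟩ := Groth.Agent.H4.RG3.S1812 (I.map (algebraMap A B)) K i
  obtain ⟨c⟩ := Groth.Agent.H4.RGBC1.mainRs (algebraMap A B) I K
  let e3 : Dual.HD A ((DRing.restrictD (algebraMap A B)).obj
      ((RgammaI (I.map (algebraMap A B))).obj K)) i ≃ₗ[A]
      Dual.HD A ((RgammaI I).obj ((DRing.restrictD (algebraMap A B)).obj K)) i :=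
    ((homologyFunctor (ModuleCat.{u} A) i).mapIso c).toLinearEquiv
  let e4 : Dual.HD A ((DRing.restrictD (algebraMap A B)).obj
      ((RgammaI (I.map (algebraMap A B))).obj K)) i ≃ₗ[A]
      (ModuleCat.restrictScalars.{u} (algebraMap A B)).obj
        ((homologyFunctor (ModuleCat.{u} B) i).obj ((RgammaI (I.map (algebraMap A B))).obj K)) :=
    (Groth.Agent.H4.DComp.restrictHomologyIso (algebraMap A B) _ i).toLinearEquiv
  let e2' := restrictEquiv (algebraMap A B)
    (M := (homologyFunctor (ModuleCat.{u} B) i).obj ((RgammaI (I.map (algebraMap A B))).obj K))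
    (M' := Dual2.HDI B (I.map (algebraMap A B)) K i) e2
  exact ⟨(e1.symm.trans (e3.symm.trans (e4.trans e2'))).toModuleIso⟩

theorem S1805 [Module.Flat A B] (K : Dual.D A) (i : ℤ) :
    Nonempty (Dual2.HDI B (I.map (algebraMap A B)) ((DRing.LBaseChange (algebraMap A B)).obj K) i ≅
      (ModuleCat.extendScalars (algebraMap A B)).obj (Dual2.HDI A I K i)) := by
  obtain ⟨e1⟩ := Groth.Agent.H4.RG3.S1812 (I.map (algebraMap A B))
    ((DRing.LBaseChange (algebraMap A B)).obj K) i
  obtain ⟨e2⟩ := Groth.Agent.H4.RG3.S1812 I K i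
  obtain ⟨c⟩ := Groth.Agent.H4.RGBC1.mainLB (algebraMap A B) I K
  let e3 : Dual.HD B ((DRing.LBaseChange (algebraMap A B)).obj ((RgammaI I).obj K)) i ≃ₗ[B]
      Dual.HD B ((RgammaI (I.map (algebraMap A B))).obj
        ((DRing.LBaseChange (algebraMap A B)).obj K)) i :=
    ((homologyFunctor (ModuleCat.{u} B) i).mapIso c).toLinearEquiv
  let e4 : Dual.HD B ((DRing.LBaseChange (algebraMap A B)).obj ((RgammaI I).obj K)) i ≃ₗ[B]
      (ModuleCat.extendScalars.{u, u, u} (algebraMap A B)).obj
        ((homologyFunctor (ModuleCat.{u} A) i).obj ((RgammaI I).obj K)) :=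
    ((homologyFunctor (ModuleCat.{u} B) i).mapIso (Groth.Agent.H4.FB2.LBCIso ((RgammaI I).obj K)) ≪≫
      Groth.Agent.H4.FB2.homologyEIso ((RgammaI I).obj K) i).toLinearEquiv
  let e2' := extCongr (algebraMap A B)
    (M := (homologyFunctor (ModuleCat.{u} A) i).obj ((RgammaI I).obj K))
    (M' := Dual2.HDI A I K i) e2
  exact ⟨(e1.symm.trans (e3.symm.trans (e4.trans e2'))).toModuleIso⟩

end Main

end Groth.Agent.H4.RGBC2
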