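import Mathlib
import Groth.Prelude.Def_DerSch2
import Groth.Prelude.Def_MoreMor
import Groth.Agent.H4.RPC28
import Groth.Agent.H4.RelTor1
import Groth.Agent.S6985
import Groth.Agent.S6984
import Groth.Agent.S7071
import Groth.Agent.S7068

set_option autoImplicit false
universe u
attribute [local instance] HasDerivedCategory.standard
open CategoryTheory CategoryTheory.Limits AlgebraicGeometry DerivedCategory Opposite TopologicalSpace
open Groth.Agent.H4.PC Groth.Agent.H4.RelPC Groth.Agent.H4.PCHom Groth.Agent.H4.PMor2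
open Groth.Agent.H4.RPC23
open DRing

namespace Groth.Agent.H4.RPC29

section S6228

variable {X Y Z : Scheme.{u}} (f : X ⟶ Y) (g : Y ⟶ Z)

/-- **S6228** -/
theorem S6228 [LocallyOfFiniteType f] [LocallyOfFiniteType g] (n : ℕ)
    (hg : DerSch.HasPerfDimLE g n) (a b : ℤ)
    (F : CochainComplex X.Modules ℤ) (hF : DerSch.HasPerfAmplitudeRel f a b F) :
    DerSch.HasPerfAmplitudeRel (f ≫ g) (a - n) b F := by
  obtain ⟨hg1, hg2⟩ := hg
  obtain ⟨hF1, hF2⟩ := hF
  refine ⟨fun m => (S12088 f g hg1 m _).1 (hF1 m), ?_⟩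
  exact Groth.Agent.H4.RelTor1.main f g n hg2 F a b hF2

end S6228

section S1507

variable {A B : Type u} [CommRing A] [CommRing B] [Algebra A B]

/-- the quotient by an ideal is a pseudo-coherent module iff the ideal is -/
theorem isPCModule'_quotient_iff (I : Ideal B) :
    DRing.IsPseudoCoherentModule' B (B ⧸ I) ↔ DRing.IsPseudoCoherentModule' B ↥I := by
  have hS : (ShortComplex.mk (ModuleCat.ofHom I.subtype) (ModuleCat.ofHom I.mkQ)
      (by ext x; exact (Submodule.Quotient.mk_eq_zero I).2 x.2)).ShortExact := by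
    refine ShortComplex.ShortExact.mk' ?_ ?_ ?_
    · rw [ShortComplex.ShortExact.moduleCat_exact_iff_function_exact]
      exact LinearMap.exact_subtype_mkQ I
    · rw [ModuleCat.mono_iff_injective]
      exact Submodule.subtype_injective I
    · rw [ModuleCat.epi_iff_surjective]
      exact Submodule.mkQ_surjective I
  have hT := hS.singleTriangle_distinguished
  have hB : ∀ j : ℤ, IsPseudoCoherent B j ((singleFunctor (ModuleCat.{u} B) 0).obj (ModuleCat.of B B)) :=
    fun j => isPC_single_of_finProj j 0 _ ⟨inferInstanceAs (Module.Finite B B),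
      inferInstanceAs (Module.Projective B B)⟩
  constructor
  · intro h
    refine isPC'_of_forall_isPC _ (fun j => ?_)
    have h1 := isPC_obj₁ _ hT (j - 1) (by
      have := hB (j - 1 + 1)
      exact this) (isPC_of_isPC' _ h (j - 1))
    rw [show j - 1 + 1 = j by omega] at h1
    exact h1
  · intro h
    refine isPC'_of_forall_isPC _ (fun j => ?_)
    exact isPC_obj₃ _ hT j (isPC_of_isPC' _ h (j + 1)) (hB j)

/-- **S1507** -/
theorem S1507 [Module.Flat A B] [Algebra.FinitePresentation A B] (I : Ideal B) :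
    MoreMor.IsPseudoCoherentHom A (B ⧸ I) ↔ DRing.IsPseudoCoherentModule' B ↥I := by
  rw [← isPCModule'_quotient_iff]
  have hAB : MoreMor.IsPseudoCoherentHom A B := (Groth.Agent.S7068.result A B).1
  haveI : Algebra.FiniteType A B := inferInstance
  haveI : Algebra.FiniteType A (B ⧸ I) :=
    Algebra.FiniteType.of_surjective (Ideal.Quotient.mkₐ A I) (Ideal.Quotient.mkₐ_surjective A I)
  have key : ∀ j : ℤ, DerCA.IsRelPseudoCoherent A (B ⧸ I) j (Dual.inD (B ⧸ I) (B ⧸ I)) ↔
      DRing.IsPseudoCoherent B j (Dual.inD B (B ⧸ I)) := by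
    intro j
    rw [(Groth.Agent.S6984.result (R := A) (A := B) (B := B ⧸ I) (Dual.inD (B ⧸ I) (B ⧸ I)) j).1,
      Groth.Agent.S7071.result A B hAB j]
    have e : (restrictD (algebraMap B (B ⧸ I))).obj (Dual.inD (B ⧸ I) (B ⧸ I)) ≅
        Dual.inD B (B ⧸ I) :=
      restrictDSingle _ _ ≪≫ (singleFunctor (ModuleCat.{u} B) 0).mapIso
        (Groth.Agent.H4.RestrPC.ofIsoRestrict (A := B) (B := B ⧸ I)).symm
    exact ⟨isPC_of_iso e, isPC_of_iso e.symm⟩
  rw [isPCHom_iff_relPC]
  constructor
  · intro h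
    exact isPC'_of_forall_isPC _ (fun j => (key j).1 (h j))
  · intro h j
    exact (key j).2 (isPC_of_isPC' _ h j)

end S1507

end Groth.Agent.H4.RPC29
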