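import Mathlib

open Polynomial

namespace Groth.Agent.H4.RatExp

section LD
variable {K : Type*} [Field K]

open Classical in
noncomputable def S (ρ : K) : PowerSeries K :=
  PowerSeries.mk fun v => if v = 0 then (if ρ = 0 then (1:K) else 0) else -(ρ⁻¹) ^ v

lemma coeff_S_pos (ρ : K) {v : ℕ} (hv : v ≠ 0) : PowerSeries.coeff v (S ρ) = -(ρ⁻¹) ^ v := by
  simp [S, hv]

def LD (f s : PowerSeries K) : Prop :=
  (PowerSeries.X : PowerSeries K) * PowerSeries.derivative K f = f * s

lemma LD_mul {f g s u : PowerSeries K} (hf : LD f s) (hg : LD g u) : LD (f * g) (s + u) := by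
  unfold LD at *
  rw [Derivation.leibniz, smul_eq_mul, smul_eq_mul]
  calc PowerSeries.X * (f * PowerSeries.derivative K g + g * PowerSeries.derivative K f)
      = f * (PowerSeries.X * PowerSeries.derivative K g)
        + g * (PowerSeries.X * PowerSeries.derivative K f) := by ring
    _ = f * (g * u) + g * (f * s) := by rw [hf, hg]
    _ = f * g * (s + u) := by ring

lemma LD_C (a : K) : LD (PowerSeries.C a) 0 := by
  simp [LD]

lemma S_zero : S (0:K) = 1 := by
  ext v
  by_cases hv : v = 0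
  · subst hv; simp [S]
  · simp [S, hv, PowerSeries.coeff_one]

lemma LD_X_sub_C (ρ : K) :
    LD (((Polynomial.X - Polynomial.C ρ : K[X]) : PowerSeries K)) (S ρ) := by
  unfold LD
  rw [PowerSeries.derivative_coe]
  simp only [Polynomial.derivative_sub, Polynomial.derivative_X, Polynomial.derivative_C, sub_zero,
    Polynomial.coe_one, mul_one, Polynomial.coe_sub, Polynomial.coe_X, Polynomial.coe_C]
  by_cases hρ : ρ = 0
  · subst hρ
    rw [S_zero]; simp
  · ext n
    rw [sub_mul, map_sub]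
    rcases n with _ | n
    · simp [S, hρ]
    · rw [PowerSeries.coeff_succ_X_mul, PowerSeries.coeff_C_mul, coeff_S_pos ρ (Nat.succ_ne_zero n)]
      rcases n with _ | n
      · simp [S, hρ, PowerSeries.coeff_X]
      · rw [coeff_S_pos ρ (Nat.succ_ne_zero n)]
        simp only [PowerSeries.coeff_X]
        rw [if_neg (by omega)]
        have hthis : ρ * ρ⁻¹ ^ (n + 1 + 1) = ρ⁻¹ ^ (n + 1) := by
          rw [pow_succ (ρ⁻¹) (n+1), mul_comm, mul_assoc, inv_mul_cancel₀ hρ, mul_one]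
        rw [mul_neg, hthis]; simp only [Nat.succ_eq_add_one]; ring

lemma LD_prod (s : Multiset K) :
    LD ((((s.map (fun ρ => (Polynomial.X - Polynomial.C ρ : K[X]))).prod : K[X]) : PowerSeries K))
      ((s.map S).sum) := by
  induction s using Multiset.induction_on with
  | empty => simp [LD]
  | cons a s ih =>
    simp only [Multiset.map_cons, Multiset.prod_cons, Multiset.sum_cons, Polynomial.coe_mul]
    exact LD_mul (LD_X_sub_C a) ih

lemma LD_of_splits {P : K[X]} (h : P.Splits) :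
    LD (P : PowerSeries K) ((P.roots.map S).sum) := by
  have e : (P : PowerSeries K) = PowerSeries.C P.leadingCoeff *
      ((((P.roots.map (fun ρ => (Polynomial.X - Polynomial.C ρ : K[X]))).prod : K[X]) :
        PowerSeries K)) := by
    conv_lhs => rw [h.eq_prod_roots]
    rw [Polynomial.coe_mul, Polynomial.coe_C]
  rw [e]
  have := LD_mul (LD_C P.leadingCoeff) (LD_prod P.roots)
  rwa [zero_add] at this

lemma coeff_sum_S (s : Multiset K) {v : ℕ} (hv : v ≠ 0) :
    PowerSeries.coeff v ((s.map S).sum) = -((s.map (fun ρ => (ρ⁻¹) ^ v)).sum) := by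
  induction s using Multiset.induction_on with
  | empty => simp
  | cons a s ih =>
    simp only [Multiset.map_cons, Multiset.sum_cons, map_add, ih, coeff_S_pos a hv]
    ring

end LD

section Core
variable {K : Type*} [Field K]

lemma indep (Λ : K →₀ K)
    (h : ∀ v : ℕ, 1 ≤ v → Finsupp.linearCombination K (fun γ : K => γ ^ v) Λ = 0) :
    ∀ γ : K, γ ≠ 0 → Λ γ = 0 := by
  classical
  intro γ₀ hγ₀
  by_contra hne
  have hmem : γ₀ ∈ Λ.support.erase 0 :=
    Finset.mem_erase.mpr ⟨hγ₀, Finsupp.mem_support_iff.mpr hne⟩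
  have hinj : Function.Injective (fun γ : K => (powersHom K γ : Multiplicative ℕ →* K)) := by
    intro a b hab
    have := DFunLike.congr_fun hab (Multiplicative.ofAdd 1)
    simpa [powersHom_apply] using this
  have hli := (linearIndependent_monoidHom (Multiplicative ℕ) K).comp _ hinj
  rw [linearIndependent_iff'] at hli
  have hsum : ∑ γ ∈ Λ.support.erase 0, (Λ γ * γ) •
      ((fun f : Multiplicative ℕ →* K => (f : Multiplicative ℕ → K)) ∘
        fun γ : K => (powersHom K γ : Multiplicative ℕ →* K)) γ = 0 := by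
    funext n
    have h1 := h (Multiplicative.toAdd n + 1) (by omega)
    rw [Finsupp.linearCombination_apply, Finsupp.sum] at h1
    rw [← Finset.sum_erase (s := Λ.support) (a := (0:K))
      (f := fun γ => Λ γ • γ ^ (Multiplicative.toAdd n + 1)) (by simp)] at h1
    simp only [Finset.sum_apply, Pi.smul_apply, Function.comp_apply, smul_eq_mul, powersHom_apply,
      Pi.zero_apply]
    refine Eq.trans (Finset.sum_congr rfl fun γ _ => ?_) h1
    rw [smul_eq_mul, pow_succ]; ring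
  have := hli _ _ hsum γ₀ hmem
  rcases mul_eq_zero.mp this with h1 | h1
  · exact hne h1
  · exact hγ₀ h1

lemma core [CharZero K] (q : K) (hq0 : q ≠ 0) (hqinj : Function.Injective (fun n : ℕ => q ^ n))
    (T : Finset K) (m : K → ℤ) (hm : ∀ α, m α ≠ 0 → α ∈ T)
    (G D : K[X]) (hD : D ≠ 0)
    (h : ∀ v : ℕ, 1 ≤ v → G.eval (q ^ v) = D.eval (q ^ v) * ∑ α ∈ T, (m α : K) * α ^ v) :
    ∀ α, m α ≠ 0 → α ≠ 0 → ∃ s : ℤ, α = q ^ s := by
  classical
  intro α₀ hmα₀ hα₀
  by_contra hno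
  push Not at hno
  have hfin : {s : ℕ | m (q ^ s * α₀) ≠ 0}.Finite := by
    refine Set.Finite.of_injOn (f := fun s : ℕ => q ^ s * α₀) (t := (T : Set K)) ?_ ?_
      T.finite_toSet
    · intro s hs; exact hm _ hs
    · intro a _ b _ hab
      exact hqinj (mul_right_cancel₀ hα₀ hab)
  have hne : (hfin.toFinset).Nonempty := ⟨0, by simpa using hmα₀⟩
  obtain ⟨s₁, hs₁def⟩ : ∃ s₁, s₁ = hfin.toFinset.max' hne := ⟨_, rfl⟩
  have hs₁mem : m (q ^ s₁ * α₀) ≠ 0 := by
    have := Finset.max'_mem _ hne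
    rw [← hs₁def, Set.Finite.mem_toFinset] at this
    exact this
  have hs₁max : ∀ s : ℕ, 1 ≤ s → m (q ^ s * (q ^ s₁ * α₀)) = 0 := by
    intro s hs
    by_contra hcon
    have hmem : s + s₁ ∈ hfin.toFinset := by
      rw [Set.Finite.mem_toFinset]
      show m (q ^ (s + s₁) * α₀) ≠ 0
      rwa [pow_add, mul_assoc]
    have := Finset.le_max' _ _ hmem
    omega
  obtain ⟨α₁, hα₁⟩ : ∃ α₁, α₁ = q ^ s₁ * α₀ := ⟨_, rfl⟩
  rw [← hα₁] at hs₁mem hs₁max
  have hα₁0 : α₁ ≠ 0 := by rw [hα₁]; exact mul_ne_zero (pow_ne_zero _ hq0) hα₀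
  have hα₁no : ∀ s : ℤ, α₁ ≠ q ^ s := by
    intro s hs
    apply hno (s - s₁)
    rw [zpow_sub₀ hq0, zpow_natCast, ← hs, hα₁]
    field_simp
  obtain ⟨n, hn⟩ : ∃ n, n = D.natDegree := ⟨_, rfl⟩
  let Λ : K →₀ K :=
    (∑ i ∈ Finset.range (G.natDegree + 1), Finsupp.single (q ^ i) (G.coeff i))
    - ∑ i ∈ Finset.range (n + 1), ∑ α ∈ T, Finsupp.single (q ^ i * α) (D.coeff i * (m α : K))
  have hΛ : ∀ v : ℕ, 1 ≤ v → Finsupp.linearCombination K (fun γ : K => γ ^ v) Λ = 0 := by
    intro v hv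
    simp only [Λ, map_sub, map_sum, Finsupp.linearCombination_single, smul_eq_mul]
    have h1 := h v hv
    rw [Polynomial.eval_eq_sum_range, Polynomial.eval_eq_sum_range, ← hn, Finset.sum_mul_sum] at h1
    rw [sub_eq_zero]
    refine Eq.trans (Eq.trans (Finset.sum_congr rfl fun i _ => ?_) h1)
      (Finset.sum_congr rfl fun i _ => Finset.sum_congr rfl fun α _ => ?_)
    · rw [← pow_mul, ← pow_mul, mul_comm i v]
    · rw [mul_pow, ← pow_mul, ← pow_mul, mul_comm i v]; ring
  have hzero := indep Λ hΛ (q ^ n * α₁) (mul_ne_zero (pow_ne_zero _ hq0) hα₁0)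
  have hval : Λ (q ^ n * α₁) = - (D.coeff n * (m α₁ : K)) := by
    simp only [Λ, Finsupp.coe_sub, Pi.sub_apply, Finsupp.coe_finsetSum, Finset.sum_apply,
      Finsupp.single_apply]
    have h1 : ∑ i ∈ Finset.range (G.natDegree + 1),
        (if q ^ i = q ^ n * α₁ then G.coeff i else 0) = 0 := by
      refine Finset.sum_eq_zero fun i _ => ?_
      rw [if_neg]
      intro hi
      apply hα₁no ((i:ℤ) - n)
      rw [zpow_sub₀ hq0, zpow_natCast, zpow_natCast, hi]
      field_simp
    have h2 : ∑ i ∈ Finset.range (n + 1), ∑ α ∈ T,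
        (if q ^ i * α = q ^ n * α₁ then D.coeff i * (m α : K) else 0)
        = D.coeff n * (m α₁ : K) := by
      rw [Finset.sum_eq_single n]
      · rw [Finset.sum_eq_single α₁]
        · simp
        · intro b _ hb
          rw [if_neg]
          intro hcon
          exact hb (mul_left_cancel₀ (pow_ne_zero _ hq0) hcon)
        · intro hnot
          exact absurd (hm _ hs₁mem) hnot
      · intro i hi hin
        have hi' : i < n := by
          have := Finset.mem_range.mp hi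
          omega
        refine Finset.sum_eq_zero fun α _ => ?_
        split_ifs with hcon
        · have hpow : q ^ n = q ^ i * q ^ (n - i) := by
            rw [← pow_add]; congr 1; omega
          have hα : α = q ^ (n - i) * α₁ := by
            apply mul_left_cancel₀ (pow_ne_zero i hq0)
            rw [hcon, hpow, mul_assoc]
          rw [hα, hs₁max (n - i) (by omega)]
          simp
        · rfl
      · intro hnot
        exact absurd (Finset.mem_range.mpr (by omega)) hnot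
    rw [h1, h2]; ring
  rw [hval] at hzero
  have hlc : D.coeff n ≠ 0 := by
    rw [hn]; exact Polynomial.leadingCoeff_ne_zero.mpr hD
  have hmK : (m α₁ : K) ≠ 0 := by exact_mod_cast hs₁mem
  exact (mul_ne_zero hlc hmK) (neg_eq_zero.mp hzero)

end Core

section Series

lemma series_part (c : ℕ → ℚ) (P Q : ℚ[X]) (hQ : Q ≠ 0)
    (h : (PowerSeries.exp ℚ).subst
          (PowerSeries.mk fun v : ℕ => if v = 0 then (0 : ℚ) else c v / (v : ℚ))
        * (Q : PowerSeries ℚ) = (P : PowerSeries ℚ)) :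
    ∃ A B : Multiset ℂ, ∀ v : ℕ, 1 ≤ v →
      ((c v : ℚ) : ℂ) = (B.map (fun β => β ^ v)).sum - (A.map (fun β => β ^ v)).sum := by
  obtain ⟨g, hgdef⟩ : ∃ g : PowerSeries ℚ,
      g = PowerSeries.mk fun v : ℕ => if v = 0 then (0 : ℚ) else c v / (v : ℚ) := ⟨_, rfl⟩
  rw [← hgdef] at h
  have hg0 : PowerSeries.constantCoeff g = 0 := by
    rw [hgdef, ← PowerSeries.coeff_zero_eq_constantCoeff_apply, PowerSeries.coeff_mk]; simp
  have hg : PowerSeries.HasSubst g := PowerSeries.HasSubst.of_constantCoeff_zero' hg0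
  obtain ⟨Z, hZdef⟩ : ∃ Z : PowerSeries ℚ, Z = (PowerSeries.exp ℚ).subst g := ⟨_, rfl⟩
  rw [← hZdef] at h
  have hZunit : IsUnit Z := by
    have := (PowerSeries.isUnit_exp ℚ).map (PowerSeries.substAlgHom hg)
    rw [PowerSeries.coe_substAlgHom] at this
    rw [hZdef]; exact this
  have hQ' : (Q : PowerSeries ℚ) ≠ 0 := fun h0 => hQ (Polynomial.coe_eq_zero_iff.mp h0)
  have hP : P ≠ 0 := by
    rintro rfl
    rw [Polynomial.coe_zero] at h
    rcases mul_eq_zero.mp h with h1 | h1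
    · exact hZunit.ne_zero h1
    · exact hQ' h1
  have hdZ : PowerSeries.derivative ℚ Z = Z * PowerSeries.derivative ℚ g := by
    rw [hZdef, PowerSeries.derivative_subst hg, PowerSeries.derivative_exp]
  have h1 : Z * PowerSeries.derivative ℚ (Q : PowerSeries ℚ)
      + (Q : PowerSeries ℚ) * (Z * PowerSeries.derivative ℚ g)
      = PowerSeries.derivative ℚ (P : PowerSeries ℚ) := by
    rw [← h, Derivation.leibniz, smul_eq_mul, smul_eq_mul, hdZ]
  obtain ⟨hh, hhdef⟩ : ∃ hh : PowerSeries ℚ,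
      hh = PowerSeries.X * PowerSeries.derivative ℚ g := ⟨_, rfl⟩
  have key : hh * ((P : PowerSeries ℚ) * (Q : PowerSeries ℚ)) =
      (PowerSeries.X * PowerSeries.derivative ℚ (P : PowerSeries ℚ)) * (Q : PowerSeries ℚ)
      - (P : PowerSeries ℚ) * (PowerSeries.X * PowerSeries.derivative ℚ (Q : PowerSeries ℚ)) := by
    rw [← h1, ← h, hhdef]; ring
  let φ : ℚ →+* ℂ := algebraMap ℚ ℂ
  have hmapP : PowerSeries.map φ (P : PowerSeries ℚ) = ((P.map φ : ℂ[X]) : PowerSeries ℂ) :=
    Polynomial.polynomial_map_coe.symm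
  have hmapQ : PowerSeries.map φ (Q : PowerSeries ℚ) = ((Q.map φ : ℂ[X]) : PowerSeries ℂ) :=
    Polynomial.polynomial_map_coe.symm
  have hmapdP : PowerSeries.map φ ((Polynomial.derivative P : ℚ[X]) : PowerSeries ℚ)
      = ((Polynomial.derivative (P.map φ) : ℂ[X]) : PowerSeries ℂ) := by
    rw [Polynomial.derivative_map]; exact Polynomial.polynomial_map_coe.symm
  have hmapdQ : PowerSeries.map φ ((Polynomial.derivative Q : ℚ[X]) : PowerSeries ℚ)
      = ((Polynomial.derivative (Q.map φ) : ℂ[X]) : PowerSeries ℂ) := by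
    rw [Polynomial.derivative_map]; exact Polynomial.polynomial_map_coe.symm
  have keyC : PowerSeries.map φ hh *
      (((P.map φ : ℂ[X]) : PowerSeries ℂ) * ((Q.map φ : ℂ[X]) : PowerSeries ℂ)) =
      (PowerSeries.X * PowerSeries.derivative ℂ ((P.map φ : ℂ[X]) : PowerSeries ℂ))
        * ((Q.map φ : ℂ[X]) : PowerSeries ℂ)
      - ((P.map φ : ℂ[X]) : PowerSeries ℂ)
        * (PowerSeries.X * PowerSeries.derivative ℂ ((Q.map φ : ℂ[X]) : PowerSeries ℂ)) := by
    have := congrArg (PowerSeries.map φ) key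
    rw [PowerSeries.derivative_coe, PowerSeries.derivative_coe] at this
    simp only [map_sub, map_mul, PowerSeries.map_X, hmapP, hmapQ, hmapdP, hmapdQ] at this
    rw [PowerSeries.derivative_coe, PowerSeries.derivative_coe]
    exact this
  have hsP := LD_of_splits (IsAlgClosed.splits (P.map φ))
  have hsQ := LD_of_splits (IsAlgClosed.splits (Q.map φ))
  unfold LD at hsP hsQ
  have hPK : ((P.map φ : ℂ[X]) : PowerSeries ℂ) ≠ 0 := fun h0 =>
    (Polynomial.map_ne_zero_iff φ.injective).mpr hP (Polynomial.coe_eq_zero_iff.mp h0)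
  have hQK : ((Q.map φ : ℂ[X]) : PowerSeries ℂ) ≠ 0 := fun h0 =>
    (Polynomial.map_ne_zero_iff φ.injective).mpr hQ (Polynomial.coe_eq_zero_iff.mp h0)
  have hfinal : PowerSeries.map φ hh
      = ((P.map φ).roots.map S).sum - ((Q.map φ).roots.map S).sum := by
    apply mul_left_cancel₀ (mul_ne_zero hPK hQK)
    rw [mul_comm, keyC, hsP, hsQ]; ring
  refine ⟨(P.map φ).roots.map (fun ρ => ρ⁻¹), (Q.map φ).roots.map (fun ρ => ρ⁻¹), ?_⟩
  intro v hv
  have hv0 : v ≠ 0 := by omega
  have hc := congrArg (PowerSeries.coeff v) hfinal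
  rw [PowerSeries.coeff_map, map_sub, coeff_sum_S _ hv0, coeff_sum_S _ hv0] at hc
  have hcoef : PowerSeries.coeff v hh = c v := by
    obtain ⟨w, rfl⟩ : ∃ w, v = w + 1 := ⟨v - 1, by omega⟩
    rw [hhdef, PowerSeries.coeff_succ_X_mul, PowerSeries.coeff_derivative, hgdef,
      PowerSeries.coeff_mk, if_neg (Nat.succ_ne_zero w)]
    have : ((w + 1 : ℕ) : ℚ) ≠ 0 := by positivity
    push_cast at this ⊢
    field_simp
  rw [hcoef] at hc
  rw [Multiset.map_map, Multiset.map_map]
  simp only [Function.comp_def]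
  rw [← eq_ratCast φ (c v), hc]; ring

end Series

section Final

lemma eval_rel (F : RatFunc ℚ) (G D : ℚ[X])
    (e : F * algebraMap ℚ[X] (RatFunc ℚ) D = algebraMap ℚ[X] (RatFunc ℚ) G) (x : ℚ)
    (hx : D.eval x ≠ 0) :
    RatFunc.eval (RingHom.id ℚ) x F * D.eval x = G.eval x := by
  have hd : algebraMap ℚ[X] (RatFunc ℚ) F.denom ≠ 0 :=
    RatFunc.algebraMap_ne_zero F.denom_ne_zero
  have hF' : algebraMap ℚ[X] (RatFunc ℚ) F.num = F * algebraMap ℚ[X] (RatFunc ℚ) F.denom :=
    (div_eq_iff hd).mp (RatFunc.num_div_denom F)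
  have hpoly : F.num * D = G * F.denom := by
    apply RatFunc.algebraMap_injective ℚ
    rw [map_mul, map_mul, hF', mul_right_comm, e]
  have hev : F.num.eval x * D.eval x = G.eval x * F.denom.eval x := by
    have := congrArg (Polynomial.eval x) hpoly
    simpa [Polynomial.eval_mul] using this
  unfold RatFunc.eval
  simp only [Polynomial.eval₂_id]
  by_cases hden : F.denom.eval x = 0
  · exfalso
    have hnum : F.num.eval x = 0 := by
      rw [hden, mul_zero] at hev
      exact (mul_eq_zero.mp hev).resolve_right hx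
    obtain ⟨a, b, hab⟩ := F.isCoprime_num_denom
    have := congrArg (Polynomial.eval x) hab
    simp [Polynomial.eval_add, Polynomial.eval_mul, hnum, hden] at this
  · rw [div_mul_eq_mul_div, hev, mul_div_assoc, div_self hden, mul_one]

lemma exists_GD (q : ℤ) (hq : 1 < q) (F : RatFunc ℚ)
    (hF : F ∈ Subring.closure
      (({RatFunc.X, (RatFunc.X : RatFunc ℚ)⁻¹} : Set (RatFunc ℚ)) ∪
        Set.range fun n : ℕ => ((RatFunc.X : RatFunc ℚ) ^ (n + 1) - 1)⁻¹)) :
    ∃ G D : ℚ[X], (∀ v : ℕ, 1 ≤ v → D.eval ((q : ℚ) ^ v) ≠ 0) ∧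
      F * algebraMap ℚ[X] (RatFunc ℚ) D = algebraMap ℚ[X] (RatFunc ℚ) G := by
  have hq1 : (1 : ℚ) < (q : ℚ) := by exact_mod_cast hq
  induction hF using Subring.closure_induction with
  | mem x hx =>
    rcases hx with (rfl | rfl) | ⟨n, rfl⟩
    · exact ⟨Polynomial.X, 1, by simp, by simp [RatFunc.algebraMap_X]⟩
    · refine ⟨1, Polynomial.X, ?_, ?_⟩
      · intro v hv
        simp only [Polynomial.eval_X]
        positivity
      · rw [RatFunc.algebraMap_X, inv_mul_cancel₀ RatFunc.X_ne_zero, map_one]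
    · refine ⟨1, Polynomial.X ^ (n + 1) - 1, ?_, ?_⟩
      · intro v hv
        simp only [Polynomial.eval_sub, Polynomial.eval_pow, Polynomial.eval_X, Polynomial.eval_one]
        have h1 : (1 : ℚ) < ((q : ℚ) ^ v) ^ (n + 1) :=
          one_lt_pow₀ (one_lt_pow₀ hq1 (by omega)) (by omega)
        linarith
      · have hne : (Polynomial.X ^ (n + 1) - 1 : ℚ[X]) ≠ 0 :=
          Polynomial.X_pow_sub_C_ne_zero (Nat.succ_pos n) (1 : ℚ)
        have := RatFunc.algebraMap_ne_zero hne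
        rw [map_sub, map_pow, RatFunc.algebraMap_X, map_one] at this ⊢
        rw [inv_mul_cancel₀ this]
  | zero => exact ⟨0, 1, by simp, by simp⟩
  | one => exact ⟨1, 1, by simp, by simp⟩
  | add x y hx hy ihx ihy =>
    obtain ⟨G₁, D₁, h₁, e₁⟩ := ihx
    obtain ⟨G₂, D₂, h₂, e₂⟩ := ihy
    refine ⟨G₁ * D₂ + G₂ * D₁, D₁ * D₂, ?_, ?_⟩
    · intro v hv
      rw [Polynomial.eval_mul]
      exact mul_ne_zero (h₁ v hv) (h₂ v hv)
    · simp only [map_mul, map_add]
      rw [← e₁, ← e₂]; ring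
  | neg x hx ih =>
    obtain ⟨G, D, h, e⟩ := ih
    exact ⟨-G, D, h, by rw [map_neg, ← e]; ring⟩
  | mul x y hx hy ihx ihy =>
    obtain ⟨G₁, D₁, h₁, e₁⟩ := ihx
    obtain ⟨G₂, D₂, h₂, e₂⟩ := ihy
    refine ⟨G₁ * G₂, D₁ * D₂, ?_, ?_⟩
    · intro v hv
      rw [Polynomial.eval_mul]
      exact mul_ne_zero (h₁ v hv) (h₂ v hv)
    · simp only [map_mul]
      rw [← e₁, ← e₂]; ring

theorem main (q : ℤ) (hq : 1 < q) (F : RatFunc ℚ)
    (hF : F ∈ Subring.closure
      (({RatFunc.X, (RatFunc.X : RatFunc ℚ)⁻¹} : Set (RatFunc ℚ)) ∪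
        Set.range fun n : ℕ => ((RatFunc.X : RatFunc ℚ) ^ (n + 1) - 1)⁻¹))
    (hrat : ∃ P Q : Polynomial ℚ, Q ≠ 0 ∧
      (PowerSeries.exp ℚ).subst
          (PowerSeries.mk fun v : ℕ => if v = 0 then (0 : ℚ)
            else F.eval (RingHom.id ℚ) ((q : ℚ) ^ v) / (v : ℚ))
        * (Q : PowerSeries ℚ) = (P : PowerSeries ℚ)) :
    ∃ (P : Polynomial ℤ) (a : ℕ),
      F * RatFunc.X ^ a = algebraMap (Polynomial ℚ) (RatFunc ℚ) (P.map (Int.castRingHom ℚ)) := by
  classical
  obtain ⟨G, D, hDne, hFD⟩ := exists_GD q hq F hF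
  obtain ⟨P, Q, hQ, hPQ⟩ := hrat
  obtain ⟨A, B, hAB⟩ :=
    series_part (fun v => F.eval (RingHom.id ℚ) ((q : ℚ) ^ v)) P Q hQ hPQ
  have hD0 : D ≠ 0 := by
    rintro rfl; exact hDne 1 le_rfl (by simp)
  let φ : ℚ →+* ℂ := algebraMap ℚ ℂ
  obtain ⟨qC, hqCdef⟩ : ∃ qC : ℂ, qC = ((q : ℤ) : ℂ) := ⟨_, rfl⟩
  have hqC0 : qC ≠ 0 := by
    rw [hqCdef]; exact_mod_cast (by omega : q ≠ 0)
  have hqCinj : Function.Injective (fun n : ℕ => qC ^ n) := by
    intro a b hab
    have h1 : (q : ℤ) ^ a = q ^ b := by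
      have : ((q ^ a : ℤ) : ℂ) = ((q ^ b : ℤ) : ℂ) := by
        push_cast; rw [← hqCdef]; exact hab
      exact_mod_cast this
    exact pow_right_injective₀ (by omega) (by omega) h1
  obtain ⟨T, hTdef⟩ : ∃ T : Finset ℂ, T = (A + B).toFinset := ⟨_, rfl⟩
  obtain ⟨m, hmdef⟩ : ∃ m : ℂ → ℤ, ∀ α, m α = (B.count α : ℤ) - (A.count α : ℤ) :=
    ⟨fun α => (B.count α : ℤ) - (A.count α : ℤ), fun _ => rfl⟩
  have hAT : A.toFinset ⊆ T := by
    intro x hx; rw [hTdef]; simp only [Multiset.mem_toFinset, Multiset.mem_add] at hx ⊢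
    exact Or.inl hx
  have hBT : B.toFinset ⊆ T := by
    intro x hx; rw [hTdef]; simp only [Multiset.mem_toFinset, Multiset.mem_add] at hx ⊢
    exact Or.inr hx
  have hmT : ∀ α, m α ≠ 0 → α ∈ T := by
    intro α hα
    by_contra hnot
    apply hα
    have hA : A.count α = 0 :=
      Multiset.count_eq_zero.mpr (fun h => hnot (hAT (Multiset.mem_toFinset.mpr h)))
    have hB : B.count α = 0 :=
      Multiset.count_eq_zero.mpr (fun h => hnot (hBT (Multiset.mem_toFinset.mpr h)))
    rw [hmdef, hA, hB]; simp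
  have hsumT : ∀ v : ℕ, ∑ α ∈ T, (m α : ℂ) * α ^ v
      = (B.map (fun β => β ^ v)).sum - (A.map (fun β => β ^ v)).sum := by
    intro v
    have hcount : ∀ (M : Multiset ℂ), M.toFinset ⊆ T →
        (M.map (fun β => β ^ v)).sum = ∑ α ∈ T, (M.count α : ℂ) * α ^ v := by
      intro M hM
      rw [Finset.sum_multiset_map_count, Finset.sum_subset hM]
      · refine Finset.sum_congr rfl fun α _ => ?_
        rw [nsmul_eq_mul]
      · intro α _ hα
        rw [Multiset.count_eq_zero.mpr (by simpa using hα)]; simp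
    rw [hcount B hBT, hcount A hAT, ← Finset.sum_sub_distrib]
    refine Finset.sum_congr rfl fun α _ => ?_
    rw [hmdef]; push_cast; ring
  have hGD : ∀ v : ℕ, 1 ≤ v → (G.map φ).eval (qC ^ v)
      = (D.map φ).eval (qC ^ v) * ∑ α ∈ T, (m α : ℂ) * α ^ v := by
    intro v hv
    have hx : qC ^ v = φ ((q : ℚ) ^ v) := by
      rw [map_pow, map_intCast, hqCdef]
    rw [hx, Polynomial.eval_map, Polynomial.eval_map, Polynomial.eval₂_at_apply,
      Polynomial.eval₂_at_apply, hsumT v, ← hAB v hv]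
    have := eval_rel F G D hFD ((q : ℚ) ^ v) (hDne v hv)
    have h2 : φ (G.eval ((q : ℚ) ^ v))
        = φ (D.eval ((q : ℚ) ^ v)) * φ (RatFunc.eval (RingHom.id ℚ) ((q : ℚ) ^ v) F) := by
      rw [← this, map_mul, mul_comm]
    rw [h2]
    congr 1
  have hcore := core qC hqC0 hqCinj T m hmT (G.map φ) (D.map φ)
    ((Polynomial.map_ne_zero_iff φ.injective).mpr hD0) hGD
  obtain ⟨T', hT'def⟩ : ∃ T' : Finset ℂ, T' = T.filter (fun α => m α ≠ 0 ∧ α ≠ 0) := ⟨_, rfl⟩
  have hT'mem : ∀ α, α ∈ T' ↔ α ∈ T ∧ m α ≠ 0 ∧ α ≠ 0 := by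
    intro α; rw [hT'def, Finset.mem_filter]
  have hT'sub : T' ⊆ T := fun α hα => ((hT'mem α).mp hα).1
  have hex : ∀ α : ℂ, ∃ s : ℤ, α ∈ T' → α = qC ^ s := by
    intro α
    by_cases hα : α ∈ T'
    · obtain ⟨_, h1, h2⟩ := (hT'mem α).mp hα
      obtain ⟨s, hs⟩ := hcore α h1 h2
      exact ⟨s, fun _ => hs⟩
    · exact ⟨0, fun h => absurd h hα⟩
  choose s hs using hex
  obtain ⟨a, hadef⟩ : ∃ a : ℕ, a = ∑ α ∈ T', (s α).natAbs := ⟨_, rfl⟩
  have ha : ∀ α ∈ T', 0 ≤ (a : ℤ) + s α := by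
    intro α hα
    have h1 : (s α).natAbs ≤ a := by
      rw [hadef]
      exact Finset.single_le_sum (f := fun α => (s α).natAbs) (fun _ _ => Nat.zero_le _) hα
    have h2 : -(s α) ≤ ((s α).natAbs : ℤ) := by
      rw [← Int.natAbs_neg]; exact Int.le_natAbs
    have h3 : ((s α).natAbs : ℤ) ≤ a := by exact_mod_cast h1
    linarith
  obtain ⟨e, hedef⟩ : ∃ e : ℂ → ℕ, ∀ α, e α = ((a : ℤ) + s α).toNat :=
    ⟨fun α => ((a : ℤ) + s α).toNat, fun _ => rfl⟩
  have he : ∀ α ∈ T', α * qC ^ a = qC ^ (e α) := by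
    intro α hα
    have h1 : ((e α : ℕ) : ℤ) = (a : ℤ) + s α := by
      rw [hedef]; exact Int.toNat_of_nonneg (ha α hα)
    rw [← zpow_natCast qC (e α), h1, zpow_add₀ hqC0, zpow_natCast, ← hs α hα, mul_comm]
  obtain ⟨Pz, hPzdef⟩ : ∃ Pz : ℤ[X],
      Pz = ∑ α ∈ T', Polynomial.C (m α) * Polynomial.X ^ (e α) := ⟨_, rfl⟩
  refine ⟨Pz, a, ?_⟩
  have hpolyC : (G.map φ) * Polynomial.X ^ a = (Pz.map (Int.castRingHom ℂ)) * (D.map φ) := by
    apply Polynomial.eq_of_infinite_eval_eq
    refine Set.Infinite.mono ?_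
      (Set.infinite_range_of_injective (f := fun v : ℕ => qC ^ (v + 1)) ?_)
    · rintro x ⟨v, rfl⟩
      show Polynomial.eval (qC ^ (v + 1)) _ = Polynomial.eval (qC ^ (v + 1)) _
      rw [Polynomial.eval_mul, Polynomial.eval_mul, hGD (v + 1) (by omega), Polynomial.eval_pow,
        Polynomial.eval_X]
      have hPz : (Pz.map (Int.castRingHom ℂ)).eval (qC ^ (v + 1))
          = (qC ^ (v + 1)) ^ a * ∑ α ∈ T, (m α : ℂ) * α ^ (v + 1) := by
        rw [hPzdef]
        simp only [Polynomial.map_sum, Polynomial.map_mul, Polynomial.map_C, Polynomial.map_pow,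
          Polynomial.map_X, Polynomial.eval_finsetSum, Polynomial.eval_mul, Polynomial.eval_C,
          Polynomial.eval_pow, Polynomial.eval_X, eq_intCast, Polynomial.map_intCast,
          Polynomial.eval_intCast]
        rw [Finset.mul_sum]
        refine Eq.trans (Finset.sum_congr rfl fun α hα => ?_) (Finset.sum_subset hT'sub ?_)
        · have hx : (qC ^ (v + 1)) ^ (e α) = α ^ (v + 1) * (qC ^ (v + 1)) ^ a := by
            rw [← pow_mul, mul_comm (v + 1) (e α), pow_mul, ← he α hα, mul_pow, ← pow_mul,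
              ← pow_mul, mul_comm a (v + 1)]
          rw [hx]; ring
        · intro α hαT hαT'
          have : m α = 0 ∨ α = 0 := by
            by_contra hcon
            push Not at hcon
            exact hαT' ((hT'mem α).mpr ⟨hαT, hcon.1, hcon.2⟩)
          rcases this with h0 | h0
          · simp [h0]
          · simp [h0]
      rw [hPz]; ring
    · intro v w hvw
      have := hqCinj hvw
      omega
  have hpolyQ : G * Polynomial.X ^ a = (Pz.map (Int.castRingHom ℚ)) * D := by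
    apply Polynomial.map_injective φ φ.injective
    rw [Polynomial.map_mul, Polynomial.map_mul, Polynomial.map_pow, Polynomial.map_X,
      Polynomial.map_map]
    have : φ.comp (Int.castRingHom ℚ) = Int.castRingHom ℂ := RingHom.ext_int _ _
    rw [this]; exact hpolyC
  have hDR : algebraMap ℚ[X] (RatFunc ℚ) D ≠ 0 := RatFunc.algebraMap_ne_zero hD0
  apply mul_right_cancel₀ hDR
  rw [← map_mul, ← hpolyQ, map_mul, map_pow, RatFunc.algebraMap_X, ← hFD]; ring

end Final

end Groth.Agent.H4.RatExp
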