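import Mathlib
set_option autoImplicit false
universe u
open TensorProduct

namespace Groth.Agent.H4.TFDual

/-- A finite torsion-free module over a domain embeds into a finite free module. -/
theorem exists_injective_of_torsionFree (R : Type u) [CommRing R] [IsDomain R] (M : Type u)
    [AddCommGroup M] [Module R M] [Module.Finite R M] [Module.IsTorsionFree R M] :
    ∃ (n : ℕ) (f : M →ₗ[R] (Fin n → R)), Function.Injective f := by
  classical
  let K := FractionRing R
  let V := LocalizedModule (nonZeroDivisors R) M
  let φ : M →ₗ[R] V := LocalizedModule.mkLinearMap (nonZeroDivisors R) M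
  haveI : Module.Finite K V := Module.Finite.of_isLocalizedModule (nonZeroDivisors R) φ
  have hφ : Function.Injective φ := by
    rw [injective_iff_map_eq_zero]
    intro m hm
    obtain ⟨c, hc⟩ := (IsLocalizedModule.eq_zero_iff (nonZeroDivisors R) φ).mp hm
    have hc0 : (c : R) ≠ 0 := nonZeroDivisors.coe_ne_zero c
    exact (smul_eq_zero_iff_right hc0).mp hc
  let n := Module.finrank K V
  let b : Module.Basis (Fin n) K V := Module.finBasis K V
  let ψ : M →ₗ[R] (Fin n → K) := (b.equivFun.restrictScalars R).toLinearMap ∘ₗ φ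
  have hψ : Function.Injective ψ := (b.equivFun.injective).comp hφ
  obtain ⟨s, hs⟩ := (Module.Finite.fg_top : (⊤ : Submodule R M).FG)
  obtain ⟨d, hd⟩ := IsLocalization.exist_integer_multiples (nonZeroDivisors R) (s ×ˢ (Finset.univ : Finset (Fin n)))
    (fun p : M × Fin n => ψ p.1 p.2)
  have hd0 : (d : R) ≠ 0 := nonZeroDivisors.coe_ne_zero d
  let ι : (Fin n → R) →ₗ[R] (Fin n → K) := (Algebra.linearMap R K).compLeft (Fin n)
  have hι : Function.Injective ι := by
    intro x y h
    funext j
    exact IsFractionRing.injective R K (congrFun h j)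
  have hrange : ∀ m : M, (d : R) • ψ m ∈ LinearMap.range ι := by
    intro m
    have hm : m ∈ Submodule.span R (s : Set M) := by rw [hs]; trivial
    refine Submodule.span_induction (fun x hx => ?_) ?_ (fun x y _ _ hx hy => ?_)
      (fun a x _ hx => ?_) hm
    · have : ∀ j, ∃ r : R, algebraMap R K r = (d : R) • ψ x j := fun j =>
        hd (x, j) (Finset.mem_product.mpr ⟨hx, Finset.mem_univ j⟩)
      choose r hr using this
      refine ⟨r, ?_⟩
      funext j
      exact hr j
    · simp
    · rw [map_add, smul_add]; exact Submodule.add_mem _ hx hy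
    · rw [map_smul, smul_comm]; exact Submodule.smul_mem _ _ hx
  let e := LinearEquiv.ofInjective ι hι
  let g : M →ₗ[R] LinearMap.range ι := ((d : R) • ψ).codRestrict (LinearMap.range ι) hrange
  refine ⟨n, e.symm.toLinearMap ∘ₗ g, ?_⟩
  refine e.symm.injective.comp ?_
  intro x y h
  have h2 : (d : R) • ψ x = (d : R) • ψ y := congrArg Subtype.val h
  exact hψ ((smul_right_inj hd0).mp h2)

/-- For a finite torsion-free module over a domain, `M → M**` is injective. -/
theorem dual_eval_injective_of_torsionFree (R : Type u) [CommRing R] [IsDomain R] (M : Type u)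
    [AddCommGroup M] [Module R M] [Module.Finite R M] [Module.IsTorsionFree R M] :
    Function.Injective (Module.Dual.eval R M) := by
  obtain ⟨n, f, hf⟩ := exists_injective_of_torsionFree R M
  rw [injective_iff_map_eq_zero]
  intro m hm
  apply hf
  rw [map_zero]
  funext j
  have := LinearMap.congr_fun hm ((LinearMap.proj j : (Fin n → R) →ₗ[R] R) ∘ₗ f)
  simpa using this

/-- A finite module over a domain has, up to a nonzero scalar `c`, a finite "dual basis". -/
theorem exists_dual_frame (R : Type u) [CommRing R] [IsDomain R] (M : Type u)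
    [AddCommGroup M] [Module R M] [Module.Finite R M] :
    ∃ (ι : Type u) (_ : Fintype ι) (m : ι → M) (l : ι → Module.Dual R M) (c : R), c ≠ 0 ∧
      ∀ x : M, c • x = ∑ i, l i x • m i := by
  classical
  let K := FractionRing R
  let V := LocalizedModule (nonZeroDivisors R) M
  let φ : M →ₗ[R] V := LocalizedModule.mkLinearMap (nonZeroDivisors R) M
  haveI : Module.Finite K V := Module.Finite.of_isLocalizedModule (nonZeroDivisors R) φ
  have hspan : (⊤ : Submodule K V) ≤ Submodule.span K (Set.range φ) := by
    have := span_eq_top_of_isLocalizedModule K (nonZeroDivisors R) φ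
      (v := Set.univ) (by simp)
    rw [Set.image_univ] at this
    exact this.ge
  let b := Module.Basis.ofSpan hspan
  let ι := ((linearIndepOn_empty K id).extend (Set.empty_subset (Set.range φ)))
  haveI : Fintype ι := FiniteDimensional.fintypeBasisIndex b
  have hb : ∀ i : ι, ∃ m : M, φ m = b i := fun i =>
    Module.Basis.ofSpan_subset hspan ⟨i, rfl⟩
  choose m hm using hb
  have hli : LinearIndependent R m := by
    have h1 : LinearIndependent K (φ ∘ m) := by
      have : φ ∘ m = b := funext hm
      rw [this]; exact b.linearIndependent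
    have h2 : LinearIndependent R (φ ∘ m) :=
      h1.restrict_scalars (by
        intro r s h
        have : algebraMap R K r = algebraMap R K s := by
          simpa [Algebra.smul_def] using h
        exact IsFractionRing.injective R K this)
    exact h2.of_comp φ
  let F : Submodule R M := Submodule.span R (Set.range m)
  obtain ⟨s, hs⟩ := (Module.Finite.fg_top : (⊤ : Submodule R M).FG)
  -- each generator has a nonzero multiple in F
  have hgen : ∀ g : M, ∃ c : R, c ≠ 0 ∧ c • g ∈ F := by
    intro g
    obtain ⟨d, hd⟩ := IsLocalization.exist_integer_multiples (nonZeroDivisors R)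
      (Finset.univ : Finset ι) (fun i => b.coord i (φ g))
    have hd0 : (d : R) ≠ 0 := nonZeroDivisors.coe_ne_zero d
    have : ∀ i : ι, ∃ r : R, algebraMap R K r = (d : R) • b.coord i (φ g) := fun i =>
      hd i (Finset.mem_univ i)
    choose r hr using this
    have h1 : φ ((d : R) • g) = φ (∑ i, r i • m i) := by
      rw [map_smul, map_sum]
      conv_lhs => rw [← b.sum_repr (φ g)]
      rw [Finset.smul_sum]
      refine Finset.sum_congr rfl (fun i _ => ?_)
      rw [map_smul, hm i, ← algebraMap_smul K (r i) (b i), hr i, smul_assoc]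
      rfl
    obtain ⟨c', hc'⟩ := (IsLocalizedModule.eq_iff_exists (nonZeroDivisors R) φ).mp h1
    have hc0 : (c' : R) ≠ 0 := nonZeroDivisors.coe_ne_zero c'
    refine ⟨(c' : R) * (d : R), mul_ne_zero hc0 hd0, ?_⟩
    have hc'' : (c' : R) • (d : R) • g = (c' : R) • ∑ i, r i • m i := hc'
    rw [mul_smul, hc'']
    refine Submodule.smul_mem _ _ (Submodule.sum_mem _ (fun i _ => ?_))
    exact Submodule.smul_mem _ _ (Submodule.subset_span ⟨i, rfl⟩)
  choose cg hcg0 hcg using hgen
  let c : R := ∏ g ∈ s, cg g
  have hc0 : c ≠ 0 := Finset.prod_ne_zero_iff.mpr (fun g _ => hcg0 g)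
  have hcF : ∀ x : M, c • x ∈ F := by
    intro x
    have hx : x ∈ Submodule.span R (s : Set M) := by rw [hs]; trivial
    refine Submodule.span_induction (fun g hg => ?_) ?_ (fun x y _ _ hx hy => ?_)
      (fun a x _ hx => ?_) hx
    · have : c = (∏ g' ∈ s.erase g, cg g') * cg g := by
        rw [Finset.prod_erase_mul _ _ hg]
      rw [this, mul_smul]
      exact Submodule.smul_mem _ _ (hcg g)
    · simp
    · rw [smul_add]; exact Submodule.add_mem _ hx hy
    · rw [smul_comm]; exact Submodule.smul_mem _ _ hx
  let κ : M →ₗ[R] F := (c • (LinearMap.id : M →ₗ[R] M)).codRestrict F hcF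
  let l : ι → Module.Dual R M := fun i => (Finsupp.lapply i) ∘ₗ hli.repr ∘ₗ κ
  refine ⟨ι, inferInstance, m, l, c, hc0, fun x => ?_⟩
  have h1 := hli.linearCombination_repr (κ x)
  have h2 : ((κ x : F) : M) = c • x := rfl
  rw [← h2, ← h1, Finsupp.linearCombination_apply, Finsupp.sum_fintype _ _ (by simp)]
  rfl

theorem dual_eval_ker_coker (R : Type u) [CommRing R] [IsDomain R] (M : Type u)
    [AddCommGroup M] [Module R M] [Module.Finite R M] :
    ∃ c : R, c ≠ 0 ∧ (∀ x : M, Module.Dual.eval R M x = 0 → c • x = 0) ∧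
      ∀ y : Module.Dual R (Module.Dual R M), c • y ∈ LinearMap.range (Module.Dual.eval R M) := by
  obtain ⟨ι, _, m, l, c, hc0, hc⟩ := exists_dual_frame R M
  refine ⟨c, hc0, fun x hx => ?_, fun y => ?_⟩
  · rw [hc x]
    refine Finset.sum_eq_zero (fun i _ => ?_)
    have : l i x = 0 := LinearMap.congr_fun hx (l i)
    rw [this, zero_smul]
  · refine ⟨∑ i, y (l i) • m i, ?_⟩
    ext lam
    have h1 : c • lam = ∑ i, lam (m i) • l i := by
      ext x
      rw [LinearMap.smul_apply, LinearMap.sum_apply, ← map_smul, hc x, map_sum]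
      refine Finset.sum_congr rfl (fun i _ => ?_)
      rw [map_smul, LinearMap.smul_apply, smul_eq_mul, smul_eq_mul, mul_comm]
    rw [Module.Dual.eval_apply, map_sum, LinearMap.smul_apply, smul_eq_mul, ← smul_eq_mul,
      ← map_smul, h1, map_sum]
    refine Finset.sum_congr rfl (fun i _ => ?_)
    rw [map_smul, map_smul, smul_eq_mul, smul_eq_mul, mul_comm]

/-- Over a PID, `M → M**` is surjective for finite `M`. -/
theorem dual_eval_surjective_of_pid (R : Type u) [CommRing R] [IsDomain R]
    [IsPrincipalIdealRing R] (M : Type u) [AddCommGroup M] [Module R M] [Module.Finite R M] :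
    Function.Surjective (Module.Dual.eval R M) := by
  let Tm := Submodule.torsion R M
  let q : M →ₗ[R] M ⧸ Tm := Tm.mkQ
  haveI : Module.Free R (M ⧸ Tm) := inferInstance
  intro y
  let y' : Module.Dual R (Module.Dual R (M ⧸ Tm)) := y ∘ₗ (LinearMap.lcomp R R q)
  obtain ⟨z, hz⟩ := (Module.bijective_dual_eval R (M ⧸ Tm)).2 y'
  obtain ⟨x, rfl⟩ := Tm.mkQ_surjective z
  refine ⟨x, ?_⟩
  ext lam
  have hk : Tm ≤ LinearMap.ker lam := by
    intro t ht
    obtain ⟨a, ha⟩ := (Submodule.mem_torsion_iff t).mp ht
    have ha0 : (a : R) ≠ 0 := nonZeroDivisors.coe_ne_zero a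
    have : (a : R) • lam t = 0 := by
      rw [← map_smul]
      have : (a : R) • t = 0 := ha
      rw [this, map_zero]
    rw [LinearMap.mem_ker]
    exact (smul_eq_zero_iff_right ha0).mp this
  let mu : Module.Dual R (M ⧸ Tm) := Tm.liftQ lam hk
  have h1 : lam = mu ∘ₗ q := by
    ext m; rfl
  have h2 := LinearMap.congr_fun hz mu
  rw [Module.Dual.eval_apply] at h2 ⊢
  change mu (q x) = y (mu ∘ₗ q) at h2
  rw [h1]
  exact h2

end Groth.Agent.H4.TFDual
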