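import Mathlib
import Groth.Agent.H4.TFDual
set_option autoImplicit false
universe u
open TensorProduct

namespace Groth.Agent.H4.Reflexive

/-- clearing denominators of a `K`-valued functional on a finite module -/
theorem exists_clear_denominators (R : Type*) [CommRing R] [IsDomain R] (K : Type*) [Field K]
    [Algebra R K] [IsFractionRing R K] (M' : Type*) [AddCommGroup M'] [Module R M']
    [Module.Finite R M'] (μ : M' →ₗ[R] K) :
    ∃ (c : R) (l : M' →ₗ[R] R), c ≠ 0 ∧ ∀ x, algebraMap R K (l x) = c • μ x := by
  classical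
  obtain ⟨s, hs⟩ := (Module.Finite.fg_top : (⊤ : Submodule R M').FG)
  obtain ⟨d, hd⟩ := IsLocalization.exist_integer_multiples (nonZeroDivisors R) s (fun x => μ x)
  have hd0 : (d : R) ≠ 0 := nonZeroDivisors.coe_ne_zero d
  let ι : R →ₗ[R] K := Algebra.linearMap R K
  have hι : Function.Injective ι := IsFractionRing.injective R K
  have hrange : ∀ m : M', ((d : R) • μ) m ∈ LinearMap.range ι := by
    intro m
    have hm : m ∈ Submodule.span R (s : Set M') := by rw [hs]; trivial
    refine Submodule.span_induction (fun x hx => ?_) ?_ (fun x y _ _ hx hy => ?_)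
      (fun a x _ hx => ?_) hm
    · obtain ⟨r, hr⟩ := hd x hx
      exact ⟨r, hr⟩
    · simp
    · rw [map_add]; exact Submodule.add_mem _ hx hy
    · rw [map_smul]; exact Submodule.smul_mem _ _ hx
  let e := LinearEquiv.ofInjective ι hι
  let g : M' →ₗ[R] LinearMap.range ι := ((d : R) • μ).codRestrict (LinearMap.range ι) hrange
  refine ⟨d, e.symm.toLinearMap ∘ₗ g, hd0, fun x => ?_⟩
  have : ι (e.symm (g x)) = ((e (e.symm (g x)) : LinearMap.range ι) : K) := rfl
  change ι (e.symm (g x)) = _
  rw [this, e.apply_symm_apply]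
  rfl

/-- Functionals extend along injections into finite modules, up to a nonzero scalar. -/
theorem exists_extend_smul (R : Type u) [CommRing R] [IsDomain R] {M M' : Type u}
    [AddCommGroup M] [Module R M] [AddCommGroup M'] [Module R M'] [Module.Finite R M']
    (f : M →ₗ[R] M') (hf : Function.Injective f) (l : Module.Dual R M) :
    ∃ (c : R) (l' : Module.Dual R M'), c ≠ 0 ∧ l' ∘ₗ f = c • l := by
  let K := FractionRing R
  let F : K ⊗[R] M →ₗ[K] K ⊗[R] M' := f.baseChange K
  have hF : Function.Injective F := Module.Flat.lTensor_preserves_injective_linearMap f hf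
  let L0 : K ⊗[R] M →ₗ[K] K := Module.Dual.baseChange K l
  obtain ⟨G, hG⟩ := F.exists_leftInverse_of_injective (LinearMap.ker_eq_bot.mpr hF)
  let L : K ⊗[R] M' →ₗ[K] K := L0 ∘ₗ G
  let μ : M' →ₗ[R] K := (L.restrictScalars R) ∘ₗ (TensorProduct.mk R K M' 1)
  obtain ⟨c, l', hc0, hl'⟩ := exists_clear_denominators R K M' μ
  refine ⟨c, l', hc0, ?_⟩
  ext m
  apply IsFractionRing.injective R K
  rw [LinearMap.comp_apply, hl' (f m)]
  have h1 : μ (f m) = L0 ((1 : K) ⊗ₜ[R] m) := by
    change L0 (G (F ((1 : K) ⊗ₜ[R] m))) = _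
    have := LinearMap.congr_fun hG ((1 : K) ⊗ₜ[R] m)
    rw [LinearMap.comp_apply] at this
    rw [this]; rfl
  rw [h1]
  simp [L0, Algebra.smul_def]

/-- double dual of an injection into a finite module over a domain is injective -/
theorem dualMap_dualMap_injective (R : Type u) [CommRing R] [IsDomain R] {M M' : Type u}
    [AddCommGroup M] [Module R M] [AddCommGroup M'] [Module R M'] [Module.Finite R M']
    (f : M →ₗ[R] M') (hf : Function.Injective f) :
    Function.Injective f.dualMap.dualMap := by
  rw [injective_iff_map_eq_zero]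
  intro ψ hψ
  ext l
  obtain ⟨c, l', hc0, hl'⟩ := exists_extend_smul R f hf l
  have h1 : ψ (l' ∘ₗ f) = 0 := LinearMap.congr_fun hψ l'
  rw [hl', map_smul, smul_eq_mul] at h1
  rcases mul_eq_zero.mp h1 with h | h
  · exact absurd h hc0
  · simpa using h

theorem isReflexive_of_exact (R : Type u) [CommRing R] [IsDomain R]
    {M M' M'' : Type u} [AddCommGroup M] [Module R M]
    [AddCommGroup M'] [Module R M'] [Module.Finite R M'] [AddCommGroup M''] [Module R M''] [Module.Finite R M'']
    (f : M →ₗ[R] M') (g : M' →ₗ[R] M'') (hf : Function.Injective f) (hfg : Function.Exact f g)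
    [Module.IsReflexive R M'] [Module.IsTorsionFree R M''] : Module.IsReflexive R M := by
  have hnat : f.dualMap.dualMap ∘ₗ Module.Dual.eval R M = Module.Dual.eval R M' ∘ₗ f :=
    Module.Dual.eval_naturality f
  have hinj'' : Function.Injective (Module.Dual.eval R M'') :=
    Groth.Agent.H4.TFDual.dual_eval_injective_of_torsionFree R M''
  have hfdd := dualMap_dualMap_injective R f hf
  constructor
  constructor
  · have : Function.Injective (f.dualMap.dualMap ∘ₗ Module.Dual.eval R M) := by
      rw [hnat]
      exact (Module.bijective_dual_eval R M').1.comp hf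
    rw [LinearMap.coe_comp] at this
    exact Function.Injective.of_comp this
  · intro φ
    let φ' := f.dualMap.dualMap φ
    obtain ⟨m', hm'⟩ := (Module.bijective_dual_eval R M').2 φ'
    have hgm' : g m' = 0 := by
      apply hinj''
      rw [map_zero]
      have h1 : Module.Dual.eval R M'' (g m') = g.dualMap.dualMap (Module.Dual.eval R M' m') :=
        (LinearMap.congr_fun (Module.Dual.eval_naturality g) m').symm
      rw [h1, hm']
      have h2 : g.dualMap.dualMap (f.dualMap.dualMap φ) = (g ∘ₗ f).dualMap.dualMap φ := rfl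
      rw [h2, hfg.linearMap_comp_eq_zero]
      ext x
      have : (LinearMap.dualMap (0 : M →ₗ[R] M'')) x = 0 := by ext; simp
      simp [this]
    obtain ⟨m, rfl⟩ := (hfg m').mp hgm'
    refine ⟨m, ?_⟩
    apply hfdd
    have := LinearMap.congr_fun hnat m
    rw [LinearMap.comp_apply, LinearMap.comp_apply] at this
    rw [this, hm']

end Groth.Agent.H4.Reflexive
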