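import Mathlib
import Groth.Agent.H4.Reflexive
set_option autoImplicit false
universe u
open TensorProduct

namespace Groth.Agent.H4.Reflexive


/-- over a Noetherian ring the dual of a finite module is finite -/
theorem finite_dual (R : Type u) [CommRing R] [IsNoetherianRing R] (M : Type u)
    [AddCommGroup M] [Module R M] [Module.Finite R M] : Module.Finite R (Module.Dual R M) := by
  obtain ⟨s, p, hp⟩ := Module.Finite.exists_fin' R M
  exact Module.Finite.of_injective p.dualMap (LinearMap.dualMap_injective_of_surjective hp)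

/-- quotient torsion-free criterion -/
theorem isTorsionFree_quotient (R : Type u) [CommRing R] [IsDomain R] {P : Type u}
    [AddCommGroup P] [Module R P] (S : Submodule R P)
    (h : ∀ (c : R) (y : P), c ≠ 0 → c • y ∈ S → y ∈ S) : Module.IsTorsionFree R (P ⧸ S) := by
  rw [Module.isTorsionFree_iff_smul_eq_zero]
  intro r m hm
  obtain ⟨y, rfl⟩ := S.mkQ_surjective m
  by_cases hr : r = 0
  · exact Or.inl hr
  · right
    rw [← map_smul, Submodule.mkQ_apply, Submodule.Quotient.mk_eq_zero] at hm
    rw [Submodule.mkQ_apply, Submodule.Quotient.mk_eq_zero]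
    exact h r y hr hm

theorem exists_injective_torsionFree_coker (R : Type u) [CommRing R] [IsDomain R]
    [IsNoetherianRing R] (M : Type u) [AddCommGroup M] [Module R M] [Module.Finite R M]
    [Module.IsReflexive R M] :
    ∃ (n : ℕ) (f : M →ₗ[R] (Fin n → R)), Function.Injective f ∧
      Module.IsTorsionFree R ((Fin n → R) ⧸ LinearMap.range f) := by
  haveI := finite_dual R M
  obtain ⟨n, π, hπ⟩ := Module.Finite.exists_fin' R (Module.Dual R M)
  let ι : Module.Dual R (Fin n → R) ≃ₗ[R] (Fin n → R) := (Pi.basisFun R (Fin n)).dualBasis.equivFun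
  let f : M →ₗ[R] (Fin n → R) := ι.toLinearMap ∘ₗ π.dualMap ∘ₗ Module.Dual.eval R M
  have hf : Function.Injective f :=
    ι.injective.comp ((LinearMap.dualMap_injective_of_surjective hπ).comp
      (Module.bijective_dual_eval R M).1)
  refine ⟨n, f, hf, isTorsionFree_quotient R _ ?_⟩
  rintro c y hc ⟨m, hm⟩
  -- μ = ι⁻¹ y
  let μ : Module.Dual R (Fin n → R) := ι.symm y
  have h1 : c • μ = π.dualMap (Module.Dual.eval R M m) := by
    apply ι.injective
    rw [map_smul, ι.apply_symm_apply]
    exact hm.symm
  -- μ kills ker π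
  have hker : LinearMap.ker π ≤ LinearMap.ker μ := by
    intro x hx
    have : (c • μ) x = 0 := by
      rw [h1, LinearMap.dualMap_apply, LinearMap.mem_ker.mp hx, map_zero]
    rw [LinearMap.smul_apply, smul_eq_mul] at this
    rcases mul_eq_zero.mp this with h | h
    · exact absurd h hc
    · exact h
  -- factor μ through π
  let e := π.quotKerEquivOfSurjective hπ
  let φ' : Module.Dual R (Module.Dual R M) := ((LinearMap.ker π).liftQ μ hker) ∘ₗ e.symm.toLinearMap
  have h2 : π.dualMap φ' = μ := by
    refine LinearMap.ext fun v => ?_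
    simp only [LinearMap.dualMap_apply, φ', LinearMap.comp_apply, LinearEquiv.coe_coe]
    have : e.symm (π v) = (LinearMap.ker π).mkQ v := by
      rw [LinearEquiv.symm_apply_eq]; rfl
    rw [this]; rfl
  obtain ⟨m', hm'⟩ := (Module.bijective_dual_eval R M).2 φ'
  refine ⟨m', ?_⟩
  change ι (π.dualMap (Module.Dual.eval R M m')) = y
  rw [hm', h2, ι.apply_symm_apply]

end Groth.Agent.H4.Reflexive
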