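import Mathlib
import Groth.Agent.H4.Reflexive2
set_option autoImplicit false
universe u
open TensorProduct

namespace Groth.Agent.H4.Reflexive


theorem isReflexive_pi_fin (R : Type u) [CommRing R] (N : Type u) [AddCommGroup N] [Module R N]
    [Module.IsReflexive R N] (a : ℕ) : Module.IsReflexive R (Fin a → N) := by
  induction a with
  | zero =>
    haveI : Module.Free R (Fin 0 → N) := Module.Free.of_subsingleton R _
    infer_instance
  | succ a ih =>
    haveI := ih
    exact Module.equiv (Fin.consLinearEquiv R (fun _ : Fin (a + 1) => N))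

theorem isReflexive_linearMap (R : Type u) [CommRing R] [IsDomain R] [IsNoetherianRing R]
    (M N : Type u) [AddCommGroup M] [Module R M] [Module.Finite R M] [AddCommGroup N] [Module R N] [Module.Finite R N]
    [Module.IsReflexive R N] : Module.IsReflexive R (M →ₗ[R] N) := by
  obtain ⟨a, p, hp⟩ := Module.Finite.exists_fin' R M
  haveI : Module.Finite R (LinearMap.ker p) := Module.IsNoetherian.finite R _
  obtain ⟨b, q, hq⟩ := Module.Finite.exists_fin' R (LinearMap.ker p)
  let u : (Fin b → R) →ₗ[R] (Fin a → R) := (LinearMap.ker p).subtype ∘ₗ q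
  have hu : LinearMap.range u = LinearMap.ker p := by
    rw [LinearMap.range_comp, LinearMap.range_eq_top.mpr hq, Submodule.map_top,
      Submodule.range_subtype]
  let f : (M →ₗ[R] N) →ₗ[R] ((Fin a → R) →ₗ[R] N) := LinearMap.lcomp R N p
  let g : ((Fin a → R) →ₗ[R] N) →ₗ[R] ((Fin b → R) →ₗ[R] N) := LinearMap.lcomp R N u
  have hf : Function.Injective f := by
    intro h1 h2 h
    ext m
    obtain ⟨x, rfl⟩ := hp m
    exact LinearMap.congr_fun h x
  have hfg : Function.Exact f g := by
    intro h
    constructor
    · intro hh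
      have hker : LinearMap.ker p ≤ LinearMap.ker h := by
        rw [← hu]
        rintro _ ⟨x, rfl⟩
        exact LinearMap.congr_fun hh x
      let e := p.quotKerEquivOfSurjective hp
      refine ⟨((LinearMap.ker p).liftQ h hker) ∘ₗ e.symm.toLinearMap, ?_⟩
      refine LinearMap.ext fun v => ?_
      change ((LinearMap.ker p).liftQ h hker) (e.symm (p v)) = h v
      have : e.symm (p v) = (LinearMap.ker p).mkQ v := by
        rw [LinearEquiv.symm_apply_eq]; rfl
      rw [this]; rfl
    · rintro ⟨k, rfl⟩
      refine LinearMap.ext fun v => ?_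
      change k (p (u v)) = 0
      have : u v ∈ LinearMap.ker p := by rw [← hu]; exact ⟨v, rfl⟩
      rw [LinearMap.mem_ker.mp this, map_zero]
  haveI : Module.IsReflexive R ((Fin a → R) →ₗ[R] N) := by
    haveI := isReflexive_pi_fin R N a
    exact Module.equiv ((Pi.basisFun R (Fin a)).constr R)
  haveI : Module.IsTorsionFree R ((Fin b → R) →ₗ[R] N) := inferInstance
  exact isReflexive_of_exact R f g hf hfg

end Groth.Agent.H4.Reflexive
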