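import Mathlib
import Groth.Agent.H4.Reflexive3
set_option autoImplicit false
universe u
open scoped TensorProduct

namespace Groth.Agent.H4.Reflexive


section
variable {R : Type u} [CommRing R] (S : Submonoid R) (Rs : Type u) [CommRing Rs] [Algebra R Rs]
  [IsLocalization S Rs] {M Ms : Type u} [AddCommGroup M] [Module R M] [AddCommGroup Ms] [Module R Ms]
  [Module Rs Ms] [IsScalarTower R Rs Ms] (φ : M →ₗ[R] Ms) [IsLocalizedModule S φ]

/-- localization of the dual -/
noncomputable def dualLoc : Module.Dual R M →ₗ[R] Module.Dual Rs Ms :=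
  IsLocalizedModule.mapExtendScalars S φ (Algebra.linearMap R Rs) Rs

theorem dualLoc_apply (l : Module.Dual R M) (x : M) :
    dualLoc S Rs φ l (φ x) = algebraMap R Rs (l x) := by
  simp [dualLoc, IsLocalizedModule.map_apply]

instance instDualLoc [Module.FinitePresentation R M] : IsLocalizedModule S (dualLoc S Rs φ) :=
  Module.FinitePresentation.isLocalizedModule_mapExtendScalars S φ (Algebra.linearMap R Rs) Rs

/-- localization of the double dual -/
noncomputable def ddualLoc [Module.FinitePresentation R M] :
    Module.Dual R (Module.Dual R M) →ₗ[R] Module.Dual Rs (Module.Dual Rs Ms) :=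
  IsLocalizedModule.mapExtendScalars S (dualLoc S Rs φ) (Algebra.linearMap R Rs) Rs

instance instDDualLoc [Module.FinitePresentation R M] [Module.FinitePresentation R (Module.Dual R M)] :
    IsLocalizedModule S (ddualLoc S Rs φ) :=
  Module.FinitePresentation.isLocalizedModule_mapExtendScalars S (dualLoc S Rs φ)
    (Algebra.linearMap R Rs) Rs

theorem ddualLoc_apply [Module.FinitePresentation R M] (ψ : Module.Dual R (Module.Dual R M))
    (l : Module.Dual R M) :
    ddualLoc S Rs φ ψ (dualLoc S Rs φ l) = algebraMap R Rs (ψ l) := by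
  simp [ddualLoc, IsLocalizedModule.map_apply]

theorem map_eval_eq [Module.FinitePresentation R M] [Module.FinitePresentation R (Module.Dual R M)] :
    IsLocalizedModule.map S φ (ddualLoc S Rs φ) (Module.Dual.eval R M) =
      (Module.Dual.eval Rs Ms).restrictScalars R := by
  apply IsLocalizedModule.linearMap_ext S φ (ddualLoc S Rs φ)
  rw [IsLocalizedModule.map_comp]
  ext x : 1
  change ddualLoc S Rs φ (Module.Dual.eval R M x) = Module.Dual.eval Rs Ms (φ x)
  apply LinearMap.restrictScalars_injective R
  apply IsLocalizedModule.linearMap_ext S (dualLoc S Rs φ) (Algebra.linearMap R Rs)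
  ext l : 1
  change ddualLoc S Rs φ (Module.Dual.eval R M x) (dualLoc S Rs φ l) =
    Module.Dual.eval Rs Ms (φ x) (dualLoc S Rs φ l)
  rw [ddualLoc_apply, Module.Dual.eval_apply, Module.Dual.eval_apply, dualLoc_apply]

include S φ in
theorem isReflexive_localization [Module.FinitePresentation R M]
    [Module.FinitePresentation R (Module.Dual R M)] [Module.IsReflexive R M] :
    Module.IsReflexive Rs Ms := by
  constructor
  have h := map_eval_eq S Rs φ
  have hb := Module.bijective_dual_eval R M
  have h1 : Function.Bijective (IsLocalizedModule.map S φ (ddualLoc S Rs φ) (Module.Dual.eval R M)) :=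
    ⟨IsLocalizedModule.map_injective S φ (ddualLoc S Rs φ) _ hb.1,
      IsLocalizedModule.map_surjective S φ (ddualLoc S Rs φ) _ hb.2⟩
  rw [h] at h1
  exact h1

end

end Groth.Agent.H4.Reflexive
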