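import Mathlib
set_option autoImplicit false
universe u v w
open Submodule

namespace Groth.Agent.H4.RegSec

/-- an element of a Noetherian ring which is a nonzerodivisor in the localization at `p` is a
nonzerodivisor in the localization at every prime of a basic open neighbourhood of `p`. -/
theorem exists_notMem_forall_mem_nonZeroDivisors {A : Type u} [CommRing A] [IsNoetherianRing A]
    (a : A) (p : Ideal A) [p.IsPrime] (Ap : Type v) [CommRing Ap] [Algebra A Ap]
    [IsLocalization.AtPrime Ap p] (h : algebraMap A Ap a ∈ nonZeroDivisors Ap) :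
    ∃ t : A, t ∉ p ∧ ∀ (q : Ideal A) [q.IsPrime] (Aq : Type w) [CommRing Aq] [Algebra A Aq]
      [IsLocalization.AtPrime Aq q], t ∉ q → algebraMap A Aq a ∈ nonZeroDivisors Aq := by
  classical
  -- the annihilator of `a`
  let K : Ideal A := LinearMap.ker (LinearMap.mulLeft A a)
  have hK : ∀ k, k ∈ K ↔ a * k = 0 := fun k => Iff.rfl
  obtain ⟨T, hT⟩ := (isNoetherianRing_iff_ideal_fg A).mp inferInstance K
  -- each generator is killed by an element outside `p`
  have h1 : ∀ k ∈ K, ∃ t : A, t ∉ p ∧ t * k = 0 := by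
    intro k hk
    have h2 : algebraMap A Ap a * algebraMap A Ap k = 0 := by
      rw [← map_mul, (hK k).mp hk, map_zero]
    have h3 : algebraMap A Ap k = 0 := (mem_nonZeroDivisors_iff.mp h).1 _ h2
    obtain ⟨m, hm⟩ := (IsLocalization.map_eq_zero_iff p.primeCompl Ap k).mp h3
    exact ⟨m.1, m.2, hm⟩
  have h2 : ∃ t : A, t ∉ p ∧ ∀ k ∈ T, t * k = 0 := by
    have hTK : ∀ k ∈ T, k ∈ K := fun k hk => hT ▸ Ideal.subset_span hk
    clear hT
    induction T using Finset.induction_on with
    | empty => exact ⟨1, (Ideal.ne_top_iff_one p).mp (Ideal.IsPrime.ne_top inferInstance), by simp⟩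
    | insert y T _ ih =>
      obtain ⟨t, ht, h⟩ := ih (fun k hk => hTK k (Finset.mem_insert_of_mem hk))
      obtain ⟨c, hc, h'⟩ := h1 y (hTK y (Finset.mem_insert_self _ _))
      refine ⟨t * c, fun hmem => ?_, ?_⟩
      · rcases Ideal.IsPrime.mem_or_mem inferInstance hmem with h4 | h4
        exacts [ht h4, hc h4]
      · intro k hk
        rw [Finset.mem_insert] at hk
        rcases hk with rfl | hk
        · rw [mul_assoc, h', mul_zero]
        · rw [mul_comm t c, mul_assoc, h k hk, mul_zero]
  obtain ⟨t, htp, ht⟩ := h2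
  have ht' : ∀ k ∈ K, t * k = 0 := by
    intro k hk
    rw [← hT] at hk
    induction hk using Submodule.span_induction with
    | mem x hx => exact ht x hx
    | zero => simp
    | add x y _ _ hx hy => rw [mul_add, hx, hy, add_zero]
    | smul c x _ hx => rw [smul_eq_mul, mul_left_comm, hx, mul_zero]
  refine ⟨t, htp, ?_⟩
  intro q _ Aq _ _ _ htq
  rw [mem_nonZeroDivisors_iff_right]
  intro z hz
  obtain ⟨⟨b, u⟩, hbu⟩ := IsLocalization.surj q.primeCompl z
  have h3 : algebraMap A Aq (b * a) = 0 := by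
    rw [map_mul, ← hbu, mul_right_comm, hz, zero_mul]
  obtain ⟨v, hv⟩ := (IsLocalization.map_eq_zero_iff q.primeCompl Aq (b * a)).mp h3
  have h4 : v.1 * b ∈ K := by
    rw [hK]
    rw [← hv]; ring
  have h5 : t * (v.1 * b) = 0 := ht' _ h4
  have h6 : algebraMap A Aq b = 0 := by
    rw [IsLocalization.map_eq_zero_iff q.primeCompl Aq b]
    refine ⟨⟨t * v.1, ?_⟩, by rw [← h5]; simp [mul_assoc]⟩
    exact q.primeCompl.mul_mem htq v.2
  have hu : IsUnit (algebraMap A Aq u.1) := IsLocalization.map_units Aq u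
  rw [h6] at hbu
  exact (hu.mul_left_eq_zero).mp hbu

end Groth.Agent.H4.RegSec
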