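import Mathlib
import Groth.Agent.H4.ConeRetr2
import Groth.Agent.H4.ProjGen
import Groth.Agent.H4.FibGen

set_option autoImplicit false

open CategoryTheory CategoryTheory.Limits AlgebraicGeometry TopologicalSpace Opposite
open HomogeneousLocalization
open Groth.Agent.H4 Groth.Agent.H4.RelSpecLib Groth.Agent.H4.ConeImm Groth.Agent.H4.ConeInf
open Groth.Agent.H4.ConeRetrAlg Groth.Agent.H4.ConeRetr Groth.Agent.H4.ConeRetr2
open scoped HomogeneousIdeal

universe u

namespace Groth.Agent.H4.RelConeFib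

open Groth.Agent.H4.FibGen (fu fu_val loft_of_charts)

section General

theorem fibre_isPullback {E X : Scheme.{u}} (π : E ⟶ X) (x : X) {R₀ R₁ : CommRingCat.{u}}
    (j : Spec R₀ ⟶ X) [IsOpenImmersion j] (c : Spec R₁ ⟶ E) [IsOpenImmersion c]
    (α : R₀ ⟶ R₁) (hc : c ≫ π = Spec.map α ≫ j) (hx : x ∈ Set.range j)
    (hr : π ⁻¹ᵁ j.opensRange = c.opensRange) :
    ∃ φ : R₀ ⟶ X.residueField x, ∀ (L : CommRingCat.{u}) (β : R₁ ⟶ L)
      (γ : X.residueField x ⟶ L), IsPushout α φ β γ →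
        IsPullback (Spec.map β ≫ c) (Spec.map γ) π (X.fromSpecResidueField x) := by
  have hsub : Set.range (X.fromSpecResidueField x) ⊆ Set.range j := by
    rw [Scheme.range_fromSpecResidueField]
    exact Set.singleton_subset_iff.mpr hx
  obtain ⟨s, hs⟩ : ∃ s : Spec (X.residueField x) ⟶ Spec R₀, s ≫ j = X.fromSpecResidueField x :=
    ⟨IsOpenImmersion.lift j (X.fromSpecResidueField x) hsub, IsOpenImmersion.lift_fac _ _ _⟩
  obtain ⟨φ, rfl⟩ : ∃ φ : R₀ ⟶ X.residueField x, Spec.map φ = s :=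
    ⟨Spec.preimage s, Spec.map_preimage s⟩
  refine ⟨φ, fun L β γ hβ => ?_⟩
  have h1 : IsPullback (Spec.map β) (Spec.map γ) (Spec.map α) (Spec.map φ) :=
    isPullback_SpecMap_of_isPushout _ _ _ _ hβ
  have h2 : IsPullback c (Spec.map α) π j :=
    (IsOpenImmersion.isPullback (Spec.map α) c j π hc hr).flip
  have h3 := h1.paste_horiz h2
  rw [hs] at h3
  exact h3

theorem exists_deg_one_notMem' {A : Type u} [CommRing A] (𝒜 : ℕ → AddSubgroup A) [GradedRing 𝒜]
    (hgen : Subring.closure ((𝒜 0 : Set A) ∪ (𝒜 1 : Set A)) = ⊤) (I : Ideal A) {d : ℕ}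
    (hd : 0 < d) {g : A} (hg : g ∈ 𝒜 d) (hgI : g ∉ I) : ∃ f ∈ 𝒜 1, f ∉ I := by
  by_contra hcon
  push Not at hcon
  apply hgI
  have h1 : ProjGen.zs 𝒜 1 ≤ I.restrictScalars ℤ := fun x hx => hcon x hx
  have h2 : ∀ n, 1 ≤ n → ProjGen.zs 𝒜 1 ^ n ≤ I.restrictScalars ℤ := by
    intro n hn
    obtain ⟨m, rfl⟩ : ∃ m, n = m + 1 := ⟨n - 1, by omega⟩
    rw [pow_succ, Submodule.mul_le]
    intro a _ b hb
    exact I.mul_mem_left a (h1 hb)
  exact h2 d hd (ProjGen.zs_le_pow 𝒜 hgen d hd hg)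

end General

section Alg

variable {A B : Type u} [CommRing A] [CommRing B] (𝒜 : ℕ → AddSubgroup A)
  (ℬ : ℕ → AddSubgroup B) [GradedRing 𝒜] [GradedRing ℬ] (φ : 𝒜 →+*ᵍ ℬ) (z : B) (hz : z ∈ ℬ 1)
  (hhat : Function.Bijective (Polynomial.eval₂RingHom φ.toRingHom z))
  (f : A) (hf : f ∈ 𝒜 1)

noncomputable def fracA (i : ℕ) (a : A) (ha : a ∈ 𝒜 i) : Away 𝒜 f :=
  Away.mk 𝒜 hf i a (by rwa [smul_eq_mul, mul_one])

noncomputable def w : Away ℬ (φ f) :=
  Away.mk ℬ (GradedFunLike.map_mem φ hf) 1 z (by rwa [smul_eq_mul, mul_one])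

lemma val_w : (w 𝒜 ℬ φ z hz f hf).val =
    Localization.mk z (⟨(φ f) ^ 1, 1, rfl⟩ : Submonoid.powers (φ f)) := rfl

lemma isLocElem_eq_w :
    Away.isLocalizationElem (GradedFunLike.map_mem φ hf) hz = w 𝒜 ℬ φ z hz f hf := by
  apply HomogeneousLocalization.val_injective
  show Localization.mk (z ^ 1) _ = Localization.mk z _
  congr 1
  exact pow_one z

noncomputable def Θ : Polynomial (Away 𝒜 f) →+* Away ℬ (φ f) :=
  Polynomial.eval₂RingHom (Away.map φ f) (w 𝒜 ℬ φ z hz f hf)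

lemma Θ_C (c : Away 𝒜 f) : Θ 𝒜 ℬ φ z hz f hf (Polynomial.C c) = Away.map φ f c :=
  Polynomial.eval₂_C _ _

lemma Θ_X : Θ 𝒜 ℬ φ z hz f hf Polynomial.X = w 𝒜 ℬ φ z hz f hf := Polynomial.eval₂_X _ _

noncomputable def κB : B →+* Polynomial A :=
  (RingEquiv.ofBijective (Polynomial.eval₂RingHom φ.toRingHom z) hhat).symm.toRingHom

lemma κB_φ (a : A) : κB 𝒜 ℬ φ z hhat (φ a) = Polynomial.C a := by
  show (RingEquiv.ofBijective (Polynomial.eval₂RingHom φ.toRingHom z) hhat).symm (φ a) = _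
  rw [RingEquiv.symm_apply_eq]
  show φ a = Polynomial.eval₂ φ.toRingHom z (Polynomial.C a)
  rw [Polynomial.eval₂_C]
  rfl

lemma κB_z : κB 𝒜 ℬ φ z hhat z = Polynomial.X := by
  show (RingEquiv.ofBijective (Polynomial.eval₂RingHom φ.toRingHom z) hhat).symm z = _
  rw [RingEquiv.symm_apply_eq]
  show z = Polynomial.eval₂ φ.toRingHom z Polynomial.X
  rw [Polynomial.eval₂_X]

noncomputable def μ : B →+* Polynomial (Localization.Away f) :=
  (Polynomial.mapRingHom (algebraMap A (Localization.Away f))).comp (κB 𝒜 ℬ φ z hhat)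

lemma μ_φ (a : A) :
    μ 𝒜 ℬ φ z hhat f (φ a) = Polynomial.C (algebraMap A (Localization.Away f) a) := by
  show Polynomial.map _ (κB 𝒜 ℬ φ z hhat (φ a)) = _
  rw [κB_φ, Polynomial.map_C]

lemma μ_z : μ 𝒜 ℬ φ z hhat f z = Polynomial.X := by
  show Polynomial.map _ (κB 𝒜 ℬ φ z hhat z) = _
  rw [κB_z, Polynomial.map_X]

lemma isUnit_Cf : IsUnit (Polynomial.C (algebraMap A (Localization.Away f) f)) :=
  (IsLocalization.Away.algebraMap_isUnit (S := Localization.Away f) f).map Polynomial.C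

lemma isUnit_μ : IsUnit (μ 𝒜 ℬ φ z hhat f (φ f)) := by
  rw [μ_φ]
  exact isUnit_Cf f

noncomputable def ρ : Localization.Away (φ f) →+* Polynomial (Localization.Away f) :=
  IsLocalization.Away.lift (φ f) (isUnit_μ 𝒜 ℬ φ z hhat f)

lemma ρ_algebraMap (b : B) :
    ρ 𝒜 ℬ φ z hhat f (algebraMap B _ b) = μ 𝒜 ℬ φ z hhat f b :=
  IsLocalization.Away.lift_eq _ _ b

lemma ρ_mk (n : ℕ) (b : B) :
    ρ 𝒜 ℬ φ z hhat f (Localization.mk b (⟨(φ f) ^ n, n, rfl⟩ : Submonoid.powers (φ f))) *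
      Polynomial.C (algebraMap A (Localization.Away f) f) ^ n = μ 𝒜 ℬ φ z hhat f b := by
  have h1 : Localization.mk b (⟨(φ f) ^ n, n, rfl⟩ : Submonoid.powers (φ f)) *
      algebraMap B (Localization.Away (φ f)) ((φ f) ^ n) = algebraMap B _ b := by
    rw [Localization.mk_eq_mk']
    exact IsLocalization.mk'_spec _ b (⟨(φ f) ^ n, n, rfl⟩ : Submonoid.powers (φ f))
  have h2 := congrArg (ρ 𝒜 ℬ φ z hhat f) h1
  rw [map_mul, ρ_algebraMap, ρ_algebraMap, map_pow, μ_φ] at h2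
  exact h2

noncomputable def Λ : Away ℬ (φ f) →+* Polynomial (Localization.Away f) :=
  (ρ 𝒜 ℬ φ z hhat f).comp (algebraMap (Away ℬ (φ f)) (Localization.Away (φ f)))

lemma Λ_mk (n : ℕ) (b : B) (hb : b ∈ ℬ (n • 1)) :
    Λ 𝒜 ℬ φ z hhat f (Away.mk ℬ (GradedFunLike.map_mem φ hf) n b hb) *
      Polynomial.C (algebraMap A (Localization.Away f) f) ^ n = μ 𝒜 ℬ φ z hhat f b :=
  ρ_mk 𝒜 ℬ φ z hhat f n b

noncomputable def uf : Localization.Away f := (((fu f)⁻¹ : (Localization.Away f)ˣ) : _)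

lemma uf_mul : uf f * algebraMap A (Localization.Away f) f = 1 := by
  rw [← fu_val]
  exact Units.inv_mul _

noncomputable def σ : Polynomial (Away 𝒜 f) →+* Polynomial (Localization.Away f) :=
  (Polynomial.compRingHom (Polynomial.C (uf f) * Polynomial.X)).comp
    (Polynomial.mapRingHom (algebraMap (Away 𝒜 f) (Localization.Away f)))

lemma σ_apply (p : Polynomial (Away 𝒜 f)) :
    σ 𝒜 f p = (p.map (algebraMap (Away 𝒜 f) (Localization.Away f))).comp
      (Polynomial.C (uf f) * Polynomial.X) := rfl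

lemma σ_injective : Function.Injective (σ 𝒜 f) := by
  rw [injective_iff_map_eq_zero]
  intro p hp
  ext n
  have h := congrArg (fun q => q.coeff n) hp
  simp only [σ_apply, Polynomial.comp_C_mul_X_coeff, Polynomial.coeff_map,
    Polynomial.coeff_zero] at h
  have h2 : algebraMap (Away 𝒜 f) (Localization.Away f) (p.coeff n) = 0 := by
    have h3 := congrArg (· * (algebraMap A (Localization.Away f) f) ^ n) h
    simp only [zero_mul, mul_assoc, ← mul_pow, uf_mul, one_pow, mul_one] at h3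
    exact h3
  rw [Polynomial.coeff_zero]
  rw [val_zero]
  exact h2

lemma ΛΘ : (Λ 𝒜 ℬ φ z hhat f).comp (Θ 𝒜 ℬ φ z hz f hf) = σ 𝒜 f := by
  apply Polynomial.ringHom_ext
  · intro c
    obtain ⟨n, a, ha, rfl⟩ := Away.mk_surjective 𝒜 hf c
    rw [← ((isUnit_Cf f).pow n).mul_left_inj, RingHom.comp_apply, Θ_C, Away.map_mk,
      Λ_mk 𝒜 ℬ φ z hhat f hf, μ_φ 𝒜 ℬ φ z hhat f a, σ_apply, Polynomial.map_C,
      Polynomial.C_comp, ← Polynomial.C_pow, ← Polynomial.C_mul]
    congr 1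
    show _ = (Away.mk 𝒜 hf n a ha).val * _
    rw [Away.val_mk, ← map_pow, Localization.mk_eq_mk']
    exact (IsLocalization.mk'_spec _ a (⟨f ^ n, n, rfl⟩ : Submonoid.powers f)).symm
  · rw [← ((isUnit_Cf f).pow 1).mul_left_inj, RingHom.comp_apply, Θ_X]
    unfold w
    rw [Λ_mk 𝒜 ℬ φ z hhat f hf, μ_z, σ_apply, Polynomial.map_X, Polynomial.X_comp, pow_one,
      mul_right_comm, ← Polynomial.C_mul, uf_mul, Polynomial.C_1, one_mul]

lemma surj_aux (P : Polynomial A) (n : ℕ) :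
    Localization.mk ((DirectSum.decompose ℬ (Polynomial.eval₂ φ.toRingHom z P) n : ℬ n) : B)
      (⟨(φ f) ^ n, n, rfl⟩ : Submonoid.powers (φ f)) ∈
      ((algebraMap (Away ℬ (φ f)) (Localization.Away (φ f))).comp
        (Θ 𝒜 ℬ φ z hz f hf)).range := by
  induction P using Polynomial.induction_on' with
  | add p q hp hq =>
    rw [Polynomial.eval₂_add, DirectSum.decompose_add, DirectSum.add_apply, AddSubgroup.coe_add,
      ← Localization.add_mk_self]
    exact add_mem hp hq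
  | monomial k a =>
    have hzk : z ^ k ∈ ℬ k := by
      have := SetLike.pow_mem_graded k hz
      rwa [smul_eq_mul, mul_one] at this
    rw [Polynomial.eval₂_monomial]
    have e : φ.toRingHom a = φ a := rfl
    rw [e]
    by_cases hk : k ≤ n
    · rw [DirectSum.coe_decompose_mul_of_right_mem_of_le ℬ hzk hk,
        ← GradedRingHom.map_directSumDecompose]
      obtain ⟨a', ha', hda⟩ : ∃ a' : A, ∃ _ : a' ∈ 𝒜 (n - k),
          ((DirectSum.decompose 𝒜 a (n - k) : 𝒜 (n - k)) : A) = a' :=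
        ⟨_, SetLike.coe_mem _, rfl⟩
      rw [hda]
      refine ⟨Polynomial.C (fracA 𝒜 f hf (n - k) a' ha') * Polynomial.X ^ k, ?_⟩
      rw [RingHom.comp_apply, map_mul, map_pow, Θ_C, Θ_X]
      show (Away.map φ f (fracA 𝒜 f hf (n - k) a' ha') * (w 𝒜 ℬ φ z hz f hf) ^ k).val = _
      rw [val_mul, val_pow, val_w]
      unfold fracA
      rw [Away.map_mk, Away.val_mk, Localization.mk_pow, Localization.mk_mul]
      congr 1
      apply Subtype.ext
      show (φ f) ^ (n - k) * ((φ f) ^ 1) ^ k = (φ f) ^ n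
      rw [pow_one, ← pow_add, Nat.sub_add_cancel hk]
    · rw [DirectSum.coe_decompose_mul_of_right_mem_of_not_le ℬ hzk hk, Localization.mk_zero]
      exact zero_mem _

include hhat in
lemma Θ_surjective : Function.Surjective (Θ 𝒜 ℬ φ z hz f hf) := by
  intro s
  obtain ⟨n, b, hb, rfl⟩ := Away.mk_surjective ℬ (GradedFunLike.map_mem φ hf) s
  have hb' : b ∈ ℬ n := by rwa [smul_eq_mul, mul_one] at hb
  obtain ⟨P, rfl⟩ := hhat.2 b
  obtain ⟨q, hq⟩ := surj_aux 𝒜 ℬ φ z hz f hf P n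
  refine ⟨q, HomogeneousLocalization.val_injective _ ?_⟩
  rw [Away.val_mk]
  have e : (Polynomial.eval₂RingHom φ.toRingHom z) P = Polynomial.eval₂ φ.toRingHom z P := rfl
  rw [e] at hb' ⊢
  rw [DirectSum.decompose_of_mem_same ℬ hb'] at hq
  exact hq

include hhat in
lemma Θ_injective : Function.Injective (Θ 𝒜 ℬ φ z hz f hf) := by
  intro x y hxy
  apply σ_injective 𝒜 f
  rw [← ΛΘ 𝒜 ℬ φ z hz hhat f hf, RingHom.comp_apply, RingHom.comp_apply, hxy]

noncomputable def E : Polynomial (Away 𝒜 f) ≃+* Away ℬ (φ f) :=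
  RingEquiv.ofBijective (Θ 𝒜 ℬ φ z hz f hf)
    ⟨Θ_injective 𝒜 ℬ φ z hz hhat f hf, Θ_surjective 𝒜 ℬ φ z hz hhat f hf⟩

include hz hhat hf in
lemma finiteType_map : (Away.map φ f).FiniteType := by
  have h1 : Away.map φ f = (Θ 𝒜 ℬ φ z hz f hf).comp Polynomial.C :=
    RingHom.ext fun c => (Θ_C 𝒜 ℬ φ z hz f hf c).symm
  rw [h1]
  refine RingHom.FiniteType.comp (RingHom.FiniteType.of_surjective _
    (Θ_surjective 𝒜 ℬ φ z hz hhat f hf)) ?_
  have h2 : (Polynomial.C : Away 𝒜 f →+* _) =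
      algebraMap (Away 𝒜 f) (Polynomial (Away 𝒜 f)) :=
    RingHom.ext fun c => Polynomial.C_eq_algebraMap c
  rw [h2]
  exact RingHom.finiteType_algebraMap.mpr inferInstance

attribute [local instance] Polynomial.algebra in
include hhat in
lemma exists_pushout'' {K : CommRingCat.{u}} (φ' : CommRingCat.of (Away 𝒜 f) ⟶ K) :
    ∃ β : CommRingCat.of (Away ℬ (φ f)) ⟶ CommRingCat.of (Polynomial K),
      IsPushout (CommRingCat.ofHom (Away.map φ f)) φ' β
        (CommRingCat.ofHom (algebraMap K (Polynomial K))) ∧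
      β.hom (w 𝒜 ℬ φ z hz f hf) = Polynomial.X := by
  let _ : Algebra (Away 𝒜 f) K := φ'.hom.toAlgebra
  have hbase := CommRingCat.isPushout_of_isPushout (Away 𝒜 f) (Polynomial (Away 𝒜 f)) K
    (Polynomial K)
  let e₂ : CommRingCat.of (Polynomial (Away 𝒜 f)) ≅ CommRingCat.of (Away ℬ (φ f)) :=
    (E 𝒜 ℬ φ z hz hhat f hf).toCommRingCatIso
  refine ⟨e₂.inv ≫ CommRingCat.ofHom (algebraMap (Polynomial (Away 𝒜 f))
    (Polynomial K)), ?_, ?_⟩
  · refine hbase.of_iso (Iso.refl _) e₂ (Iso.refl _) (Iso.refl _) ?_ ?_ ?_ ?_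
    · apply CommRingCat.hom_ext
      apply RingHom.ext
      intro c
      show (E 𝒜 ℬ φ z hz hhat f hf) (algebraMap _ _ c) = Away.map φ f c
      rw [← Polynomial.C_eq_algebraMap]
      exact Θ_C 𝒜 ℬ φ z hz f hf c
    · ext c
      rfl
    · simp
    · simp
  · have hsymm : (E 𝒜 ℬ φ z hz hhat f hf).symm (w 𝒜 ℬ φ z hz f hf) = Polynomial.X := by
      rw [RingEquiv.symm_apply_eq]
      exact (Θ_X 𝒜 ℬ φ z hz f hf).symm
    show Polynomial.map (algebraMap (Away 𝒜 f) K)
      ((E 𝒜 ℬ φ z hz hhat f hf).symm (w 𝒜 ℬ φ z hz f hf)) = Polynomial.X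
    rw [hsymm, Polynomial.map_X]

end Alg

section Retr

variable {Y : Scheme.{u}} {𝒮 Sh : RelProj.QCGrAlg Y} {ι : 𝒮.toQCAlg ⟶ Sh.toQCAlg}
  {z : Sh.presheaf.obj (op ⊤)} (hz : RelCone.IsPolyOver 𝒮 Sh ι z)
  {PC : Scheme.{u}} (pC : PC ⟶ Y)
  (chartC : ∀ (U : Y.Opens) (hU : IsAffineOpen U),
    (((pC ⁻¹ᵁ U : PC.Opens) : Scheme.{u}) ≅ Proj (Sh.deg U hU)))
  {P : Scheme.{u}} (p : P ⟶ Y)
  (chart : ∀ (U : Y.Opens) (hU : IsAffineOpen U),
    (((p ⁻¹ᵁ U : P.Opens) : Scheme.{u}) ≅ Proj (𝒮.deg U hU)))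
  (r : ((RelCone.pointedProjCone 𝒮 hz pC chartC : PC.Opens) : Scheme.{u}) ⟶ P)
  (hr : ∀ (U : Y.Opens) (hU : IsAffineOpen U) (d : ℕ) (hd : 0 < d) (f : 𝒮.presheaf.obj (op U))
    (hf : f ∈ 𝒮.deg U hU d),
    aj hz pC chartC U hU hd f hf ≫ r = gj hz p chart U hU hd f hf)

include hr in
theorem r_preimage (hPC : RelProj.IsRelProj Sh pC chartC) (hP : RelProj.IsRelProj 𝒮 p chart)
    (U : Y.Opens) (hU : IsAffineOpen U) {d : ℕ} (hd : 0 < d)
    (g : 𝒮.presheaf.obj (op U)) (hg : g ∈ 𝒮.deg U hU d) :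
    r ⁻¹ᵁ (Proj.awayι (𝒮.deg U hU) g hg hd ≫ RelProj.emb p chart U hU).opensRange =
      (aj hz pC chartC U hU hd g hg).opensRange := by
  have hover := r_over hz pC chartC p chart r hr hPC hP
  ext e
  constructor
  · rintro ⟨v', hv'⟩
    have h1 : p.base (r.base e) ∈ U := by
      rw [← hv']; exact emb_mem p chart U hU _
    have h2 : ((RelCone.pointedProjCone 𝒮 hz pC chartC).ι ≫ pC).base e ∈ U := by
      rw [← hover]; exact h1
    obtain ⟨d', hd', f', hf', w', rfl⟩ := cover_over hz pC chartC hPC e U hU h2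
    have h3 := congrArg (fun t : Spec (CommRingCat.of (Away (Sh.deg U hU)
      ((RelProj.gradedHomAt ι hz.graded U hU) f'))) ⟶ P => t.base w') (hr U hU d' hd' f' hf')
    have h4 : (Proj.awayι (𝒮.deg U hU) g hg hd).base v' =
        (Proj.awayι (𝒮.deg U hU) f' hf' hd').base
          ((Spec.map (CommRingCat.ofHom
            (Away.map (RelProj.gradedHomAt ι hz.graded U hU) f'))).base w') := by
      apply (RelProj.emb p chart U hU).isOpenEmbedding.injective
      exact hv'.trans h3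
    have h5 : (Proj.awayι (𝒮.deg U hU) f' hf' hd').base
          ((Spec.map (CommRingCat.ofHom
            (Away.map (RelProj.gradedHomAt ι hz.graded U hU) f'))).base w') ∈
        Proj.basicOpen (𝒮.deg U hU) g := by
      rw [← h4]; exact awayι_mem_basicOpen _ hd g hg v'
    have h6 := (mem_basicOpen_iff_ring (RelProj.gradedHomAt ι hz.graded U hU) hd hd' hg hf'
      w').mpr h5
    obtain ⟨w'', hw''⟩ := exists_awayι_eq (Sh.deg U hU) hd _ (Graded.map_mem _ hg) _ h6
    refine ⟨w'', ?_⟩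
    apply (RelCone.pointedProjCone 𝒮 hz pC chartC).ι.isOpenEmbedding.injective
    have k1 := congrArg (fun t : Spec (CommRingCat.of (Away (Sh.deg U hU)
      ((RelProj.gradedHomAt ι hz.graded U hU) g))) ⟶ PC => t.base w'')
      (aj_ι hz pC chartC U hU hd g hg)
    have k2 := congrArg (fun t : Spec (CommRingCat.of (Away (Sh.deg U hU)
      ((RelProj.gradedHomAt ι hz.graded U hU) f'))) ⟶ PC => t.base w')
      (aj_ι hz pC chartC U hU hd' f' hf')
    have k3 : (bj hz pC chartC U hU hd g hg).base w'' =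
        (bj hz pC chartC U hU hd' f' hf').base w' :=
      congrArg (RelProj.emb pC chartC U hU).base hw''
    exact k1.trans (k3.trans k2.symm)
  · rintro ⟨w, rfl⟩
    exact ⟨(Spec.map (CommRingCat.ofHom
      (Away.map (RelProj.gradedHomAt ι hz.graded U hU) g))).base w,
      (congrArg (fun t : Spec (CommRingCat.of (Away (Sh.deg U hU)
        ((RelProj.gradedHomAt ι hz.graded U hU) g))) ⟶ P => t.base w) (hr U hU d hd g hg)).symm⟩

theorem cover_one (hgen : 𝒮.IsGenDegOne) (hPC : RelProj.IsRelProj Sh pC chartC)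
    (e : ((RelCone.pointedProjCone 𝒮 hz pC chartC : PC.Opens) : Scheme.{u})) :
    ∃ (U : Y.Opens) (hU : IsAffineOpen U) (f : 𝒮.presheaf.obj (op U))
      (hf : f ∈ 𝒮.deg U hU 1)
      (w : Spec (CommRingCat.of (Away (Sh.deg U hU) ((RelProj.gradedHomAt ι hz.graded U hU) f)))),
      (aj hz pC chartC U hU one_pos f hf).base w = e := by
  obtain ⟨U, hU, d, hd, g, hg, w, hw⟩ := cover_aj hz pC chartC hPC e
  obtain ⟨y, hy⟩ : ∃ y : Proj (Sh.deg U hU), y = (Proj.awayι (Sh.deg U hU)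
      ((RelProj.gradedHomAt ι hz.graded U hU) g)
      ((RelProj.gradedHomAt ι hz.graded U hU).2 hg) hd).base w := ⟨_, rfl⟩
  have hyg : y ∈ Proj.basicOpen (Sh.deg U hU) ((RelProj.gradedHomAt ι hz.graded U hU) g) := by
    rw [hy]; exact awayι_mem_basicOpen _ hd _ _ w
  obtain ⟨f, hf, hfI⟩ := exists_deg_one_notMem' (𝒮.deg U hU) (hgen U hU)
    (Ideal.comap (RelProj.gradedHomAt ι hz.graded U hU) y.asHomogeneousIdeal.toIdeal) hd hg hyg
  obtain ⟨w', hw'⟩ := exists_awayι_eq (Sh.deg U hU) one_pos _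
    ((RelProj.gradedHomAt ι hz.graded U hU).2 hf) y hfI
  refine ⟨U, hU, f, hf, w', ?_⟩
  apply (RelCone.pointedProjCone 𝒮 hz pC chartC).ι.isOpenEmbedding.injective
  have h1 := congrArg (fun t : Spec (CommRingCat.of (Away (Sh.deg U hU)
    ((RelProj.gradedHomAt ι hz.graded U hU) f))) ⟶ PC => t.base w')
    (aj_ι hz pC chartC U hU one_pos f hf)
  have h2 := congrArg (fun t : Spec (CommRingCat.of (Away (Sh.deg U hU)
    ((RelProj.gradedHomAt ι hz.graded U hU) g))) ⟶ PC => t.base w)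
    (aj_ι hz pC chartC U hU hd g hg)
  have h3 : (bj hz pC chartC U hU one_pos f hf).base w' = (bj hz pC chartC U hU hd g hg).base w := by
    show (RelProj.emb pC chartC U hU).base ((Proj.awayι _ _ _ _).base w') =
      (RelProj.emb pC chartC U hU).base ((Proj.awayι _ _ _ _).base w)
    rw [hw', hy]
  rw [← hw]
  exact h1.trans (h3.trans h2.symm)

/-- index type of the degree-one charts -/
structure Idx1 (𝒮 : RelProj.QCGrAlg Y) : Type u where
  U : Y.Opens
  hU : IsAffineOpen U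
  f : 𝒮.presheaf.obj (op U)
  hf : f ∈ 𝒮.deg U hU 1

include hr in
theorem loft_r (hgen : 𝒮.IsGenDegOne) (hPC : RelProj.IsRelProj Sh pC chartC) :
    LocallyOfFiniteType r := by
  refine loft_of_charts r (J := Idx1 𝒮)
    (fun k => CommRingCat.of (Away (𝒮.deg k.U k.hU) k.f))
    (fun k => CommRingCat.of (Away (Sh.deg k.U k.hU)
      ((RelProj.gradedHomAt ι hz.graded k.U k.hU) k.f)))
    (fun k => Proj.awayι (𝒮.deg k.U k.hU) k.f k.hf one_pos ≫ RelProj.emb p chart k.U k.hU)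
    (fun k => aj hz pC chartC k.U k.hU one_pos k.f k.hf)
    (fun k => CommRingCat.ofHom (Away.map (RelProj.gradedHomAt ι hz.graded k.U k.hU) k.f))
    (fun k => ?_) ?_ ?_
  · rw [hr]; rfl
  · intro e
    obtain ⟨U, hU, f, hf, w, hw⟩ := cover_one hz pC chartC hgen hPC e
    exact ⟨⟨U, hU, f, hf⟩, w, hw⟩
  · intro k
    exact finiteType_map (𝒮.deg k.U k.hU) (Sh.deg k.U k.hU)
      (RelProj.gradedHomAt ι hz.graded k.U k.hU) (RelCone.restrictTop Sh z k.U)
      (hz.deg_z k.U k.hU) (hz.bij k.U k.hU) k.f k.hf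

include hr in
theorem fibre_data (hgen : 𝒮.IsGenDegOne) (hPC : RelProj.IsRelProj Sh pC chartC)
    (hP : RelProj.IsRelProj 𝒮 p chart) (x : P) :
    ∃ (U : Y.Opens) (hU : IsAffineOpen U) (f : 𝒮.presheaf.obj (op U))
      (hf : f ∈ 𝒮.deg U hU 1)
      (β : CommRingCat.of (Away (Sh.deg U hU) ((RelProj.gradedHomAt ι hz.graded U hU) f)) ⟶
        CommRingCat.of (Polynomial (P.residueField x))),
      β.hom (w (𝒮.deg U hU) (Sh.deg U hU) (RelProj.gradedHomAt ι hz.graded U hU)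
        (RelCone.restrictTop Sh z U) (hz.deg_z U hU) f hf) = Polynomial.X ∧
      IsPullback (Spec.map β ≫ aj hz pC chartC U hU one_pos f hf)
        (Spec.map (CommRingCat.ofHom (algebraMap (P.residueField x)
          (Polynomial (P.residueField x))))) r (P.fromSpecResidueField x) := by
  obtain ⟨U, hU, hxU, -⟩ := Opens.isBasis_iff_nbhd.mp Y.isBasis_affineOpens
    (show p.base x ∈ (⊤ : Y.Opens) from trivial)
  obtain ⟨y, rfl⟩ := exists_emb p chart x U hU hxU
  obtain ⟨d, hd, g, hg, hyg⟩ := exists_homog_basicOpen (𝒮.deg U hU) y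
  obtain ⟨f, hf, hfy⟩ := exists_deg_one_notMem' (𝒮.deg U hU) (hgen U hU)
    y.asHomogeneousIdeal.toIdeal hd hg hyg
  obtain ⟨v, hv⟩ := exists_awayι_eq (𝒮.deg U hU) one_pos f hf y hfy
  obtain ⟨φ', hφ'⟩ := fibre_isPullback r ((RelProj.emb p chart U hU).base y)
    (Proj.awayι (𝒮.deg U hU) f hf one_pos ≫ RelProj.emb p chart U hU)
    (aj hz pC chartC U hU one_pos f hf)
    (CommRingCat.ofHom (Away.map (RelProj.gradedHomAt ι hz.graded U hU) f))
    (by rw [hr]; rfl) ⟨v, by rw [← hv]; rfl⟩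
    (r_preimage hz pC chartC p chart r hr hPC hP U hU one_pos f hf)
  obtain ⟨β, hβ, hβw⟩ := exists_pushout'' (𝒮.deg U hU) (Sh.deg U hU)
    (RelProj.gradedHomAt ι hz.graded U hU) (RelCone.restrictTop Sh z U) (hz.deg_z U hU)
    (hz.bij U hU) f hf φ'
  exact ⟨U, hU, f, hf, β, hβw, hφ' _ β _ hβ⟩

variable (i : 𝒮.toQCAlg.spec ⟶ PC) (hi : RelCone.IsConeImm 𝒮 hz pC chartC i)
  (i' : ((RelCone.pointedCone 𝒮 : 𝒮.toQCAlg.spec.Opens) : Scheme.{u}) ⟶
    ((RelCone.pointedProjCone 𝒮 hz pC chartC : PC.Opens) : Scheme.{u}))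
  (hi' : i' ≫ (RelCone.pointedProjCone 𝒮 hz pC chartC).ι = (RelCone.pointedCone 𝒮).ι ≫ i)

include hi hi' in
theorem mem_range_i'_iff (hPC : RelProj.IsRelProj Sh pC chartC)
    (e : ((RelCone.pointedProjCone 𝒮 hz pC chartC : PC.Opens) : Scheme.{u})) :
    e ∈ Set.range i'.base ↔
      (RelCone.pointedProjCone 𝒮 hz pC chartC).ι.base e ∈ Set.range i.base := by
  constructor
  · rintro ⟨c, rfl⟩
    exact ⟨(RelCone.pointedCone 𝒮).ι.base c,
      (congrArg (fun t : ((RelCone.pointedCone 𝒮 : 𝒮.toQCAlg.spec.Opens) : Scheme.{u}) ⟶ PC =>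
        t.base c) hi').symm⟩
  · rintro ⟨c₀, hc⟩
    have hc₀ : c₀ ∈ i ⁻¹ᵁ RelCone.pointedProjCone 𝒮 hz pC chartC := by
      show i.base c₀ ∈ RelCone.pointedProjCone 𝒮 hz pC chartC
      rw [hc]
      exact e.2
    rw [preimage_eq hz pC chartC i hi hPC] at hc₀
    refine ⟨⟨c₀, hc₀⟩, ?_⟩
    apply (RelCone.pointedProjCone 𝒮 hz pC chartC).ι.isOpenEmbedding.injective
    have h1 := congrArg (fun t : ((RelCone.pointedCone 𝒮 : 𝒮.toQCAlg.spec.Opens) : Scheme.{u}) ⟶
      PC => t.base ⟨c₀, hc₀⟩) hi'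
    exact h1.trans hc

include hi hi' in
theorem isOpenImmersion_i' (hPC : RelProj.IsRelProj Sh pC chartC) : IsOpenImmersion i' := by
  have hopen : IsOpenImmersion i :=
    isOpenImmersion_i hz _ (rule_awayZToBase hz) pC chartC i hi hPC
  have : IsOpenImmersion (i' ≫ (RelCone.pointedProjCone 𝒮 hz pC chartC).ι) := by
    rw [hi']; infer_instance
  exact IsOpenImmersion.of_comp i' (RelCone.pointedProjCone 𝒮 hz pC chartC).ι

include hr hi hi' in
theorem fibre_pi (hgen : 𝒮.IsGenDegOne) (hPC : RelProj.IsRelProj Sh pC chartC)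
    (hP : RelProj.IsRelProj 𝒮 p chart) (x : P) :
    ∃ e : pullback (i' ≫ r) (P.fromSpecResidueField x) ≅
        Spec (CommRingCat.of (LaurentPolynomial (P.residueField x))),
      e.hom ≫ Spec.map (CommRingCat.ofHom (algebraMap (P.residueField x)
        (LaurentPolynomial (P.residueField x)))) =
        pullback.snd (i' ≫ r) (P.fromSpecResidueField x) := by
  obtain ⟨U, hU, f, hf, β, hβw, hpb⟩ := fibre_data hz pC chartC p chart r hr hgen hPC hP x
  have : IsOpenImmersion i' := isOpenImmersion_i' hz pC chartC i hi i' hi' hPC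
  have : IsOpenImmersion (Spec.map (CommRingCat.ofHom (algebraMap
      (Polynomial (P.residueField x)) (LaurentPolynomial (P.residueField x))))) :=
    IsOpenImmersion.of_isLocalization (Polynomial.X : Polynomial (P.residueField x))
  obtain ⟨v, hvdef⟩ : ∃ v : Spec (CommRingCat.of (LaurentPolynomial (P.residueField x))) ⟶
      Spec (CommRingCat.of (Polynomial (P.residueField x))),
      v = Spec.map (CommRingCat.ofHom (algebraMap
      (Polynomial (P.residueField x)) (LaurentPolynomial (P.residueField x)))) := ⟨_, rfl⟩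
  have : IsOpenImmersion v := by rw [hvdef]; infer_instance
  obtain ⟨t, htdef⟩ : ∃ t : Spec (CommRingCat.of (Polynomial (P.residueField x))) ⟶
      ((RelCone.pointedProjCone 𝒮 hz pC chartC : PC.Opens) : Scheme.{u}),
      t = Spec.map β ≫ aj hz pC chartC U hU one_pos f hf := ⟨_, rfl⟩
  rw [← htdef] at hpb
  have hv_range : ∀ q : Spec (CommRingCat.of (Polynomial (P.residueField x))),
      q ∈ Set.range v.base ↔ (Polynomial.X : Polynomial (P.residueField x)) ∉
        (show PrimeSpectrum (Polynomial (P.residueField x)) from q).asIdeal := by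
    intro q
    have h := PrimeSpectrum.localization_away_comap_range
      (LaurentPolynomial (P.residueField x)) (Polynomial.X : Polynomial (P.residueField x))
    have h' : (show PrimeSpectrum (Polynomial (P.residueField x)) from q) ∈
        Set.range (PrimeSpectrum.comap (algebraMap (Polynomial (P.residueField x))
        (LaurentPolynomial (P.residueField x)))) ↔
        (show PrimeSpectrum (Polynomial (P.residueField x)) from q) ∈
          (PrimeSpectrum.basicOpen (Polynomial.X : Polynomial (P.residueField x)) :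
          Set (PrimeSpectrum _)) := by rw [h]
    rw [hvdef]
    exact h'
  have hrange : t ⁻¹ᵁ i'.opensRange = v.opensRange := by
    ext q
    show t.base q ∈ Set.range i'.base ↔ q ∈ Set.range v.base
    rw [hv_range q]
    rw [mem_range_i'_iff hz pC chartC i hi i' hi' hPC]
    have hB : (RelCone.pointedProjCone 𝒮 hz pC chartC).ι.base (t.base q) =
        (RelProj.emb pC chartC U hU).base
          ((Proj.awayι (Sh.deg U hU) ((RelProj.gradedHomAt ι hz.graded U hU) f)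
            ((RelProj.gradedHomAt ι hz.graded U hU).2 hf) one_pos).base
            ((Spec.map β).base q)) := by
      rw [htdef]
      exact congrArg (fun k : Spec (CommRingCat.of (Away (Sh.deg U hU)
        ((RelProj.gradedHomAt ι hz.graded U hU) f))) ⟶ PC => k.base ((Spec.map β).base q))
        (aj_ι hz pC chartC U hU one_pos f hf)
    rw [hB, emb_mem_range_iff hz _ (rule_awayZToBase hz) pC chartC i hi hPC U hU]
    have hC : (Proj.awayι (Sh.deg U hU) ((RelProj.gradedHomAt ι hz.graded U hU) f)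
          ((RelProj.gradedHomAt ι hz.graded U hU).2 hf) one_pos).base ((Spec.map β).base q) ∈
          Proj.basicOpen (Sh.deg U hU) (RelCone.restrictTop Sh z U) ↔
        (Spec.map β).base q ∈ (Proj.awayι (Sh.deg U hU)
          ((RelProj.gradedHomAt ι hz.graded U hU) f)
          ((RelProj.gradedHomAt ι hz.graded U hU).2 hf) one_pos) ⁻¹ᵁ
          Proj.basicOpen (Sh.deg U hU) (RelCone.restrictTop Sh z U) := Iff.rfl
    rw [hC, Proj.awayι_preimage_basicOpen (𝒜 := Sh.deg U hU)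
      (GradedFunLike.map_mem (RelProj.gradedHomAt ι hz.graded U hU) hf) one_pos
      (hz.deg_z U hU) one_pos,
      isLocElem_eq_w (𝒮.deg U hU) (Sh.deg U hU) (RelProj.gradedHomAt ι hz.graded U hU)
        (RelCone.restrictTop Sh z U) (hz.deg_z U hU) f hf]
    show ¬ (β.hom (w (𝒮.deg U hU) (Sh.deg U hU) (RelProj.gradedHomAt ι hz.graded U hU)
        (RelCone.restrictTop Sh z U) (hz.deg_z U hU) f hf) ∈
        (show PrimeSpectrum (Polynomial (P.residueField x)) from q).asIdeal) ↔ _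
    rw [hβw]
  have hsub : Set.range (v ≫ t).base ⊆ Set.range i'.base := by
    rintro _ ⟨a, rfl⟩
    have : v.base a ∈ t ⁻¹ᵁ i'.opensRange := by
      rw [hrange]; exact ⟨a, rfl⟩
    exact this
  obtain ⟨g, hg⟩ : ∃ g : Spec (CommRingCat.of (LaurentPolynomial (P.residueField x))) ⟶
      ((RelCone.pointedCone 𝒮 : 𝒮.toQCAlg.spec.Opens) : Scheme.{u}), g ≫ i' = v ≫ t :=
    ⟨IsOpenImmersion.lift i' (v ≫ t) hsub, IsOpenImmersion.lift_fac _ _ _⟩
  have h1 : IsPullback g v i' t := IsOpenImmersion.isPullback g v i' t hg.symm hrange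
  have h2 := h1.paste_vert hpb
  have hv : v ≫ Spec.map (CommRingCat.ofHom (algebraMap (P.residueField x)
      (Polynomial (P.residueField x)))) =
      Spec.map (CommRingCat.ofHom (algebraMap (P.residueField x)
        (LaurentPolynomial (P.residueField x)))) := by
    rw [hvdef, ← Spec.map_comp, ← CommRingCat.ofHom_comp]
    congr 2
    apply RingHom.ext
    intro c
    rw [RingHom.comp_apply, LaurentPolynomial.algebraMap_eq_toLaurent,
      ← Polynomial.C_eq_algebraMap, Polynomial.toLaurent_C, LaurentPolynomial.C_eq_algebraMap]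
  rw [hv] at h2
  exact ⟨h2.isoPullback.symm, h2.isoPullback_inv_snd⟩

end Retr

theorem main_S19985 {Y PC P : Scheme.{u}} (𝒮 𝒮h : RelProj.QCGrAlg Y) (h0 : RelCone.StrZeroBij 𝒮)
    (hgen : 𝒮.IsGenDegOne)
    (ι : 𝒮.toQCAlg ⟶ 𝒮h.toQCAlg) (z : 𝒮h.presheaf.obj (op ⊤)) (hz : RelCone.IsPolyOver 𝒮 𝒮h ι z)
    (pC : PC ⟶ Y)
    (chartC : ∀ (U : Y.Opens) (hU : IsAffineOpen U), (((pC ⁻¹ᵁ U : PC.Opens) : Scheme.{u}) ≅ Proj (𝒮h.deg U hU)))
    (hPC : RelProj.IsRelProj 𝒮h pC chartC)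
    (p : P ⟶ Y)
    (chart : ∀ (U : Y.Opens) (hU : IsAffineOpen U), (((p ⁻¹ᵁ U : P.Opens) : Scheme.{u}) ≅ Proj (𝒮.deg U hU)))
    (hP : RelProj.IsRelProj 𝒮 p chart)
    (i : 𝒮.toQCAlg.spec ⟶ PC) (hi : RelCone.IsConeImm 𝒮 hz pC chartC i)
    (r : ((RelCone.pointedProjCone 𝒮 hz pC chartC : PC.Opens) : Scheme.{u}) ⟶ P)
    (hr : (∀ (U : Y.Opens) (hU : IsAffineOpen U) (d : ℕ) (hd : 0 < d) (f : 𝒮.presheaf.obj (op U)) (hf : f ∈ 𝒮.deg U hU d)
        (g : Spec (CommRingCat.of (HomogeneousLocalization.Away (𝒮h.deg U hU) ((RelProj.gradedHomAt ι hz.graded U hU) f))) ⟶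
          ((RelCone.pointedProjCone 𝒮 hz pC chartC : PC.Opens) : Scheme.{u})),
        g ≫ (RelCone.pointedProjCone 𝒮 hz pC chartC).ι =
            Proj.awayι (𝒮h.deg U hU) ((RelProj.gradedHomAt ι hz.graded U hU) f) ((RelProj.gradedHomAt ι hz.graded U hU).2 hf) hd ≫
              RelProj.emb pC chartC U hU →
          g ≫ r =
            Spec.map (CommRingCat.ofHom (HomogeneousLocalization.Away.map (RelProj.gradedHomAt ι hz.graded U hU) f)) ≫
              Proj.awayι (𝒮.deg U hU) f hf hd ≫ RelProj.emb p chart U hU)) :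
    (LocallyOfFiniteType r ∧ QuasiCompact r ∧
        ∀ x : ↥P, ∃ e : pullback r (P.fromSpecResidueField x) ≅ Spec (CommRingCat.of (Polynomial (P.residueField x))),
          e.hom ≫ Spec.map (CommRingCat.ofHom (algebraMap (P.residueField x) (Polynomial (P.residueField x)))) =
            pullback.snd r (P.fromSpecResidueField x)) ∧
      ∀ i' : ((RelCone.pointedCone 𝒮 : 𝒮.toQCAlg.spec.Opens) : Scheme.{u}) ⟶
          ((RelCone.pointedProjCone 𝒮 hz pC chartC : PC.Opens) : Scheme.{u}),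
        i' ≫ (RelCone.pointedProjCone 𝒮 hz pC chartC).ι = (RelCone.pointedCone 𝒮).ι ≫ i →
          LocallyOfFiniteType (i' ≫ r) ∧ QuasiCompact (i' ≫ r) ∧
        ∀ x : ↥P, ∃ e : pullback (i' ≫ r) (P.fromSpecResidueField x) ≅ Spec (CommRingCat.of (LaurentPolynomial (P.residueField x))),
          e.hom ≫ Spec.map (CommRingCat.ofHom (algebraMap (P.residueField x) (LaurentPolynomial (P.residueField x)))) =
            pullback.snd (i' ≫ r) (P.fromSpecResidueField x) := by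
  have hr' := (cond_iff hz pC chartC p chart r).mp hr
  have haff : IsAffineHom r := r_affine hz pC chartC p chart r hr' hPC hP
  have hloft : LocallyOfFiniteType r := loft_r hz pC chartC p chart r hr' hgen hPC
  refine ⟨⟨hloft, inferInstance, fun x => ?_⟩, fun i' hi' => ?_⟩
  · obtain ⟨U, hU, f, hf, β, -, hpb⟩ := fibre_data hz pC chartC p chart r hr' hgen hPC hP x
    exact ⟨hpb.isoPullback.symm, hpb.isoPullback_inv_snd⟩
  · have : IsOpenImmersion i' := isOpenImmersion_i' hz pC chartC i hi i' hi' hPC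
    have haff' : IsAffineHom (i' ≫ r) :=
      ((Groth.Agent.H4.ConeRetr2.main_S8309 𝒮 𝒮h h0 ι z hz pC chartC hPC p chart hP i hi r hr).2
        i' hi').1
    exact ⟨inferInstance, inferInstance,
      fun x => fibre_pi hz pC chartC p chart r hr' i hi i' hi' hgen hPC hP x⟩

end Groth.Agent.H4.RelConeFib
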