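import Mathlib
set_option autoImplicit false

/-! # Finite presentation of modules under change of rings (Stacks 0561, module version) -/

namespace Groth.Agent.H4.RelFP

open TensorProduct

section Ascent

variable {R S M : Type*} [CommRing R] [CommRing S] [Algebra R S] [AddCommGroup M]
  [Module R M] [Module S M] [IsScalarTower R S M]

/-- If `S` is a finite type `R`-algebra and the `S`-module `M` is finitely presented over `R`,
then it is finitely presented over `S`. -/
theorem finitePresentation_ascent [Algebra.FiniteType R S] [Module.FinitePresentation R M] :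
    Module.FinitePresentation S M := by
  classical
  obtain ⟨y, hy⟩ := (Algebra.FiniteType.out : (⊤ : Subalgebra R S).FG)
  obtain ⟨x, hx⟩ := (Module.Finite.fg_top : (⊤ : Submodule R M).FG)
  -- the multiplication map
  let μ : S ⊗[R] M →ₗ[S] M := LinearMap.liftBaseChange S (LinearMap.id : M →ₗ[R] M)
  have hμ : ∀ (s : S) (m : M), μ (s ⊗ₜ m) = s • m := fun s m => by simp [μ]
  -- the relations
  let rel : S × M → S ⊗[R] M := fun p => p.1 ⊗ₜ[R] p.2 - (1 : S) ⊗ₜ[R] (p.1 • p.2)
  let K : Submodule S (S ⊗[R] M) := Submodule.span S (rel '' ((y : Set S) ×ˢ (x : Set M)))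
  have hKfg : K.FG := Submodule.fg_span ((y.finite_toSet.prod x.finite_toSet).image _)
  have hKμ : K ≤ LinearMap.ker μ := by
    rw [Submodule.span_le]
    rintro _ ⟨⟨s, m⟩, -, rfl⟩
    simp [rel, hμ]
  -- quotient
  let Q := (S ⊗[R] M) ⧸ K
  have hQ : Module.FinitePresentation S Q :=
    Module.finitePresentation_of_surjective K.mkQ K.mkQ_surjective (by rwa [Submodule.ker_mkQ])
  let μ' : Q →ₗ[S] M := K.liftQ μ hKμ
  -- the `R`-linear section
  let ι : M →ₗ[R] Q := (K.mkQ.restrictScalars R).comp ((TensorProduct.mk R S M) 1)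
  have hι : ∀ m, ι m = K.mkQ ((1 : S) ⊗ₜ[R] m) := fun m => rfl
  -- the subalgebra of good scalars
  let G : Subalgebra R S :=
    { carrier := {s | ∀ m : M, K.mkQ (s ⊗ₜ[R] m) = K.mkQ ((1 : S) ⊗ₜ[R] (s • m))}
      mul_mem' := by
        intro a b ha hb m
        have h1 : K.mkQ ((a * b) ⊗ₜ[R] m) = a • K.mkQ (b ⊗ₜ[R] m) := by
          rw [← map_smul, TensorProduct.smul_tmul', smul_eq_mul]
        rw [h1, hb m, ← map_smul, TensorProduct.smul_tmul', smul_eq_mul, mul_one, ha, mul_smul]
      add_mem' := by
        intro a b ha hb m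
        rw [TensorProduct.add_tmul, map_add, ha, hb, add_smul, TensorProduct.tmul_add, map_add]
      algebraMap_mem' := by
        intro r m
        rw [algebraMap_smul, Algebra.algebraMap_eq_smul_one, TensorProduct.smul_tmul] }
  have hGy : (y : Set S) ⊆ G := by
    intro s hs
    -- both sides linear in `m`; agree on generators
    let φ₁ : M →ₗ[R] Q := (K.mkQ.restrictScalars R).comp ((TensorProduct.mk R S M) s)
    let φ₂ : M →ₗ[R] Q := ι.comp ((LinearMap.lsmul S M s).restrictScalars R)
    have h12 : φ₁ = φ₂ := by
      apply LinearMap.ext_on hx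
      intro m hm
      change K.mkQ (s ⊗ₜ[R] m) = K.mkQ ((1 : S) ⊗ₜ[R] (s • m))
      rw [← sub_eq_zero, ← map_sub, Submodule.mkQ_apply, Submodule.Quotient.mk_eq_zero]
      exact Submodule.subset_span ⟨(s, m), ⟨hs, hm⟩, rfl⟩
    intro m
    exact LinearMap.congr_fun h12 m
  have hG : G = ⊤ := by
    rw [eq_top_iff, ← hy]
    exact Algebra.adjoin_le hGy
  have hGall : ∀ (s : S) (m : M), K.mkQ (s ⊗ₜ[R] m) = K.mkQ ((1 : S) ⊗ₜ[R] (s • m)) := by
    intro s
    have : s ∈ G := by rw [hG]; trivial
    exact this
  -- `ι ∘ μ' = id`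
  have hιμ : ∀ q : Q, ι (μ' q) = q := by
    intro q
    obtain ⟨t, rfl⟩ := K.mkQ_surjective q
    induction t using TensorProduct.induction_on with
    | zero => simp
    | tmul s m =>
      have h1 : μ' (K.mkQ (s ⊗ₜ[R] m)) = s • m := by
        change μ (s ⊗ₜ[R] m) = _
        exact hμ s m
      rw [h1, hι, ← hGall]
    | add a b ha hb =>
      rw [map_add, map_add, map_add, ha, hb]
  have hinj : Function.Injective μ' := Function.LeftInverse.injective hιμ
  have hsurj : Function.Surjective μ' := by
    intro m
    refine ⟨K.mkQ ((1 : S) ⊗ₜ[R] m), ?_⟩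
    change μ ((1 : S) ⊗ₜ[R] m) = m
    rw [hμ, one_smul]
  exact Module.FinitePresentation.of_equiv (LinearEquiv.ofBijective μ' ⟨hinj, hsurj⟩)

end Ascent

section Finite

variable {R S M : Type*} [CommRing R] [CommRing S] [Algebra R S] [AddCommGroup M]
  [Module R M] [Module S M] [IsScalarTower R S M]

/-- For `S` a finite `R`-algebra of finite presentation and `M` an `S`-module,
`M` is finitely presented over `R` iff it is over `S`. -/
theorem finitePresentation_iff_of_finite [Module.Finite R S] [Algebra.FinitePresentation R S] :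
    Module.FinitePresentation R M ↔ Module.FinitePresentation S M := by
  constructor
  · intro h
    exact finitePresentation_ascent (R := R)
  · intro h
    have : Module.FinitePresentation R S := Module.FinitePresentation.of_finite_of_finitePresentation R S
    exact Module.FinitePresentation.trans R M S

end Finite

section CompHom

/-- module structure through a ring hom: compHom and FP transfer along equal ring homs -/
theorem fp_compHom_congr {S B M : Type*} [CommRing S] [CommRing B] [AddCommGroup M] [Module B M]
    {φ₁ φ₂ : S →+* B} (h : φ₁ = φ₂) :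
    @Module.FinitePresentation S M _ _ (Module.compHom M φ₁) ↔
      @Module.FinitePresentation S M _ _ (Module.compHom M φ₂) := by
  subst h; rfl

/-- `finitePresentation_iff_of_finite` in `compHom` form: `φ : S → S'` finite and of finite
presentation, `ψ : S' → B`, `M` a `B`-module. -/
theorem fp_compHom_iff {S S' B M : Type*} [CommRing S] [CommRing S'] [CommRing B] [AddCommGroup M]
    [Module B M] (φ : S →+* S') (ψ : S' →+* B) (hfin : φ.Finite) (hfp : φ.FinitePresentation) :
    @Module.FinitePresentation S M _ _ (Module.compHom M (ψ.comp φ)) ↔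
      @Module.FinitePresentation S' M _ _ (Module.compHom M ψ) := by
  let _ : Algebra S S' := φ.toAlgebra
  let _ : Module S' M := Module.compHom M ψ
  let _ : Module S M := Module.compHom M (ψ.comp φ)
  have : IsScalarTower S S' M := ⟨fun s s' m => by
    change ψ (φ s * s') • m = (ψ (φ s)) • (ψ s' • m)
    rw [map_mul, mul_smul]⟩
  have : Module.Finite S S' := hfin
  have : Algebra.FinitePresentation S S' := hfp
  exact finitePresentation_iff_of_finite

end CompHom

end Groth.Agent.H4.RelFP
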