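import Mathlib
import Groth.Agent.H4.RelFP
import Groth.Agent.S6992
set_option autoImplicit false

/-! # Relative finite presentation: independence of the presentation, flexible form -/

universe u

namespace Groth.Agent.H4.RelFP

/-- Independence of presentation: `T` any `R`-algebra of finite presentation surjecting onto `B`,
`β` a polynomial presentation of `B`. -/
theorem fp_indep {R T B : Type u} [CommRing R] [CommRing T] [CommRing B] [Algebra R T] [Algebra R B]
    [Algebra.FinitePresentation R T] (M : Type u) [AddCommGroup M] [Module B M]
    (ψ : T →ₐ[R] B) (hψ : Function.Surjective ψ) {k : ℕ}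
    (β : MvPolynomial (Fin k) R →ₐ[R] B) (hβ : Function.Surjective β) :
    @Module.FinitePresentation T M _ _ (Module.compHom M ψ.toRingHom) ↔
      @Module.FinitePresentation (MvPolynomial (Fin k) R) M _ _ (Module.compHom M β.toRingHom) := by
  obtain ⟨m, τ, hτ, hker⟩ := (inferInstance : Algebra.FinitePresentation R T).out
  have h1 := fp_compHom_iff (M := M) τ.toRingHom ψ.toRingHom (RingHom.Finite.of_surjective _ hτ)
    (RingHom.FinitePresentation.of_surjective _ hτ hker)
  rw [← h1]
  haveI : Algebra.FiniteType R B := Algebra.FiniteType.of_surjective β hβ
  exact Groth.Agent.S6992.result (R := R) (A := B) (B := B) M (ψ.comp τ) (hψ.comp hτ) β hβ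

/-- localization data: `N = M_f` as a module over `P_F`, with the localization map. -/
theorem locData {R P A : Type u} [CommRing R] [CommRing P] [CommRing A] [Algebra R P] [Algebra R A]
    (α : P →ₐ[R] A) (M : Type u) [AddCommGroup M]
    [Module A M] (F : P) :
    letI : Module P M := Module.compHom M α.toRingHom
    letI : Module (Localization.Away F) (LocalizedModule (Submonoid.powers (α F)) M) :=
      Module.compHom _ (IsLocalization.Away.mapₐ (Localization.Away F) (Localization.Away (α F)) α F).toRingHom
    ∃ (_ : Module P (LocalizedModule (Submonoid.powers (α F)) M))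
      (_ : IsScalarTower P (Localization.Away F) (LocalizedModule (Submonoid.powers (α F)) M))
      (g : M →ₗ[P] (LocalizedModule (Submonoid.powers (α F)) M)),
      IsLocalizedModule (Submonoid.powers F) g := by
  let PF := Localization.Away F
  let AF := Localization.Away (α F)
  let N := LocalizedModule (Submonoid.powers (α F)) M
  letI : Algebra P A := α.toRingHom.toAlgebra
  letI : Module P M := Module.compHom M α.toRingHom
  letI : Module PF N := Module.compHom _ (IsLocalization.Away.mapₐ PF AF α F).toRingHom
  haveI : IsScalarTower P A M := ⟨fun p a m => by
    change (α p * a) • m = α p • (a • m)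
    rw [mul_smul]⟩
  haveI : IsScalarTower P A N := inferInstance
  have hPN : ∀ (p : P) (m : N), p • m = α p • m := fun p m => by
    rw [← algebraMap_smul A p m]; rfl
  have hst : IsScalarTower P PF N := ⟨fun p x m => by
    rw [hPN]
    change (IsLocalization.Away.mapₐ PF AF α F (p • x)) • m = α p • ((IsLocalization.Away.mapₐ PF AF α F x) • m)
    rw [Algebra.smul_def, map_mul, mul_smul, ← algebraMap_smul AF (α p)]
    congr 1
    rw [IsLocalization.Away.mapₐ_apply, IsLocalization.Away.map, IsLocalization.map_eq]
    simp⟩
  refine ⟨inferInstance, hst, (LocalizedModule.mkLinearMap (Submonoid.powers (α F)) M).restrictScalars P, ?_⟩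
  have : IsLocalizedModule (Submonoid.powers (algebraMap P A F)) (LocalizedModule.mkLinearMap (Submonoid.powers (α F)) M) :=
    inferInstanceAs (IsLocalizedModule (Submonoid.powers (α F)) (LocalizedModule.mkLinearMap (Submonoid.powers (α F)) M))
  exact IsLocalizedModule.restrictScalars_powers F _

/-- If `M` is finitely presented over `P` (through `α : P → A`), then `M_{α F}` is finitely
presented over `P_F`. -/
theorem fp_localizedModule_away {R P A : Type u} [CommRing R] [CommRing P] [CommRing A] [Algebra R P] [Algebra R A]
    (α : P →ₐ[R] A) (M : Type u) [AddCommGroup M]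
    [Module A M] (F : P)
    (hM : @Module.FinitePresentation P M _ _ (Module.compHom M α.toRingHom)) :
    @Module.FinitePresentation (Localization.Away F) (LocalizedModule (Submonoid.powers (α F)) M) _ _
      (Module.compHom _ (IsLocalization.Away.mapₐ (Localization.Away F) (Localization.Away (α F)) α F).toRingHom) := by
  letI : Module P M := Module.compHom M α.toRingHom
  obtain ⟨_, _, g, hg⟩ := locData α M F
  letI : Module (Localization.Away F) (LocalizedModule (Submonoid.powers (α F)) M) :=
    Module.compHom _ (IsLocalization.Away.mapₐ (Localization.Away F) (Localization.Away (α F)) α F).toRingHom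
  exact FinitePresentation.of_isBaseChange g
    ((isLocalizedModule_iff_isBaseChange (Submonoid.powers F) (Localization.Away F) g).mp hg)

end Groth.Agent.H4.RelFP
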