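import Mathlib
import Groth.Agent.H4.PAmp2
import Groth.Agent.H4.RPC27
import Groth.Agent.H4.RT6
import Groth.Agent.H4.TorAmp5
import Groth.Agent.Lib.Helper1.SchFlat

set_option autoImplicit false
universe u
attribute [local instance] HasDerivedCategory.standard
open CategoryTheory CategoryTheory.Limits AlgebraicGeometry DerivedCategory Opposite TopologicalSpace
open Groth.Agent.LD.QC
open Groth.Agent.H4.PSch1 Groth.Agent.H4.PSch2 Groth.Agent.H4.PSch3 Groth.Agent.H4.PSch4
open Groth.Agent.H4.PSch5 Groth.Agent.H4.PSch6 Groth.Agent.H4.TilD9 Groth.Agent.H4.TilD10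
open Groth.Agent.H4.TilD11 Groth.Agent.H4.PCS6 Groth.Agent.H4.PCS7 Groth.Agent.H4.FAmp1
  Groth.Agent.H4.FAmp2 Groth.Agent.H4.FAmp3 Groth.Agent.H4.FAmp4 Groth.Agent.H4.FAmp5
open Groth.Agent.H4.RPC17 Groth.Agent.H4.RPC18 Groth.Agent.H4.RPC19 Groth.Agent.H4.RPC23
  Groth.Agent.H4.RPC27 Groth.Agent.H4.RPC3 Groth.Agent.H4.NT7 Groth.Agent.H4.NT8
open Groth.Agent.H4.PGen1 Groth.Agent.H4.PGen2
open Groth.Agent.H4.SPt6 Groth.Agent.H4.RelTor2 Groth.Agent.H4.RelTor5 Groth.Agent.H4.RelTor7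
  Groth.Agent.H4.RelTor9 Groth.Agent.H4.RT6 Groth.Agent.H4.TorAmp Groth.Agent.H4.TA2

namespace Groth.Agent.H4.RelPerfOpen1

variable {X Y : Scheme.{u}}

/-- flatness over the base at a point, as relative tor amplitude `[0, 0]` -/
lemma isFlatOverAt_iff_torAmp (f : X ⟶ Y) (M : X.Modules) (x : X) :
    FlatMod.IsFlatOverAt f M x ↔
      DerSch.HasTorAmplitudeAt f 0 0
        ((HomologicalComplex.single _ (ComplexShape.up ℤ) 0).obj M) x := by
  let e1 := (HomologicalComplex.singleMapHomologicalComplex (DerSch.stalkOver f x)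
    (ComplexShape.up ℤ) 0).app M
  constructor
  · intro h
    refine ⟨_, ?_, ?_, ⟨Iso.refl _⟩⟩
    · intro i hi
      exact (DerSch.stalkOver f x).map_isZero
        (HomologicalComplex.isZero_single_obj_X (ComplexShape.up ℤ) 0 M i (by omega))
    · intro i
      by_cases hi : i = 0
      · subst hi
        haveI h' : Module.Flat (Y.presheaf.stalk (f.base x)) ((DerSch.stalkOver f x).obj M) := h
        exact Module.Flat.of_linearEquiv ((DerSch.stalkOver f x).mapIso
          (HomologicalComplex.singleObjXSelf (ComplexShape.up ℤ) 0 M)).toLinearEquiv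
      · haveI := ModuleCat.subsingleton_of_isZero ((DerSch.stalkOver f x).map_isZero
          (HomologicalComplex.isZero_single_obj_X (ComplexShape.up ℤ) 0 M i hi))
        show Module.Flat _ ((DerSch.stalkOver f x).obj
          (((HomologicalComplex.single _ (ComplexShape.up ℤ) 0).obj M).X i))
        infer_instance
  · intro h
    have h2 : Module.Flat (Y.presheaf.stalk (f.base x)) ((DerSch.stalkOver f x).obj M) := by
      refine flat_of_hasTorAmp_zero ((DerSch.stalkOver f x).obj M) ?_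
      exact Groth.Agent.H4.TorAmp.hasTorAmp_of_iso (DerivedCategory.Q.mapIso e1 ≪≫
        ((singleFunctorIsoCompQ _ 0).app _).symm) h
    exact h2

/-- flatness over the base at a point of an open subscheme -/
lemma isFlatOverAt_restrict_iff {U : Scheme.{u}} (f : X ⟶ Y) (j : U ⟶ X) [IsOpenImmersion j]
    (M : X.Modules) (u : U) :
    FlatMod.IsFlatOverAt (j ≫ f) ((Scheme.Modules.restrictFunctor j).obj M) u ↔
      FlatMod.IsFlatOverAt f M (j.base u) := by
  rw [isFlatOverAt_iff_torAmp, isFlatOverAt_iff_torAmp,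
    ← hasTorAmplitudeAt_resCx_iff f j _ 0 0 u]
  let e := (HomologicalComplex.singleMapHomologicalComplex (Scheme.Modules.restrictFunctor j)
    (ComplexShape.up ℤ) 0).app M
  exact ⟨hasTorAmplitudeAt_of_iso (j ≫ f) e.symm 0 0 u, hasTorAmplitudeAt_of_iso (j ≫ f) e 0 0 u⟩

lemma pcAt_inD_of_finLocFree (M : X.Modules) (hM : FlatMod.IsFinLocFree M) (k : ℤ) (w : X) :
    PCAt k (DCoh.inD X M) w :=
  PCAt.of_iso ((singleFunctorIsoCompQ _ 0).app M).symm w (allPC_single M hM 0 k w)

/-- a finitely presented module which is flat over the base on an open set is pseudo-coherent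
at the points of that open set (for a flat finitely presented morphism) -/
lemma pcAt_inD_of_fp_flatOver (g : X ⟶ Y) [Flat g] [LocallyOfFinitePresentation g]
    (N : X.Modules) (hN : N.IsFinitePresentation) (W : X.Opens)
    (hW : ∀ w : X, w ∈ W → FlatMod.IsFlatOverAt g N w) (k : ℤ) (w : X) (hw : w ∈ W) :
    PCAt k (DCoh.inD X N) w := by
  let f₁ : (W : Scheme.{u}) ⟶ Y := W.ι ≫ g
  let N₁ : (W : Scheme.{u}).Modules := (Scheme.Modules.restrictFunctor W.ι).obj N
  have h0 : DCoh.IsPseudoCoherentD (-1) (DCoh.inD X N) := isPC_negOne_of_isFinitePresentation N hN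
  have h1 : DCoh.IsPseudoCoherentD (-1) (DCoh.inD (W : Scheme.{u}) N₁) := by
    rw [isPseudoCoherentD_iff_pcAt] at h0 ⊢
    intro y
    exact PCAt.of_iso (RDinD W.ι N) y (PCAt.restrict W.ι _ y (h0 (W.ι.base y)))
  have hpcm : ∀ n : ℤ, DerSch.IsNPseudoCoherent f₁ n := isNPseudoCoherent_of_flat_lfp f₁
  have h2 : DerSch.IsPseudoCoherentRel f₁ (-1) (DCoh.inD (W : Scheme.{u}) N₁) :=
    (S6207 f₁ hpcm (-1) _).1 h1
  have hfl : FlatMod.IsFlatOver f₁ N₁ := fun y =>
    (isFlatOverAt_restrict_iff g W.ι N y).2 (hW _ y.2)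
  have h3 := rel_all_of_flat_fp f₁ N₁ hfl h2 k
  have h4 : DCoh.IsPseudoCoherentD k (DCoh.inD (W : Scheme.{u}) N₁) := (S6207 f₁ hpcm k _).2 h3
  rw [isPseudoCoherentD_iff_pcAt] at h4
  have h5 := PCAt.of_iso (RDinD W.ι N).symm ⟨w, hw⟩ (h4 ⟨w, hw⟩)
  exact PCAt.of_restrict W.ι _ ⟨w, hw⟩ h5

/-- **openness of relative perfect amplitude over a flat finitely presented morphism** -/
theorem core {A : Scheme.{u}} (g : A ⟶ Y) [Flat g] [LocallyOfFinitePresentation g]
    (G : CochainComplex A.Modules ℤ) (a b : ℤ) (z : A)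
    (hpc : PCAt (a - 1) (Q.obj G) z) [G.IsGE a] [G.IsLE b]
    (htor : DerSch.HasTorAmplitudeAt g a b G z) :
    ∃ W : A.Opens, z ∈ W ∧ (∀ w : A, w ∈ W → ∀ m : ℤ, PCAt m (Q.obj G) w) ∧
      ∀ w : A, w ∈ W → DerSch.HasTorAmplitudeAt g a b G w := by
  obtain ⟨W₀, j, hj, ⟨z₀, rfl⟩, P, γ, a', b', hP, hfree, hγ⟩ :=
    exists_locFreeWit_of_pcAt (a - 1) G z hpc
  have hPf : ∀ n, FlatMod.IsFinLocFree (P.X n) := fun n => by
    obtain ⟨k, ⟨e⟩⟩ := hfree n
    exact isFinLocFree_of_iso e.symm (isFinLocFree_freeMod W₀ k)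
  haveI : ((resCx j).obj G).IsGE a := by
    rw [CochainComplex.isGE_iff]
    intro i hi
    exact exactAt_restrict j G i (G.exactAt_of_isGE a i hi)
  haveI : ((resCx j).obj G).IsLE b := by
    rw [CochainComplex.isLE_iff]
    intro i hi
    exact exactAt_restrict j G i (G.exactAt_of_isLE b i hi)
  obtain ⟨e⟩ := nonempty_iso_truncGE γ a hγ
  set P₁ := P.truncGE a with hP₁
  have hP₁lo : ∀ i, i < a → IsZero (P₁.X i) := fun i hi =>
    CochainComplex.isZero_of_isStrictlyGE (P.truncGE a) a i hi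
  have hP₁hi : ∀ i, max a b' < i → IsZero (P₁.X i) := fun i hi =>
    (hP i (Or.inr (by omega))).of_iso (P.truncGEXIso a i (by omega))
  have hP₁ff : ∀ i, a < i → FlatMod.IsFinLocFree (P₁.X i) := fun i hi =>
    isFinLocFree_of_iso (P.truncGEXIso a i hi).symm (hPf i)
  have hP₁fl : ∀ i, a < i → FlatMod.IsFlatOver (j ≫ g) (P₁.X i) := fun i hi =>
    isFlatOver_of_isFlat (j ≫ g) _ (isFlat_of_isFinLocFree _ (hP₁ff i hi))
  have hNfp : (P₁.X a).IsFinitePresentation :=
    isFinitePresentation_of_iso (P.truncGEXIsoOpcycles a).symm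
      (isFinitePresentation_opcycles P hPf a)
  haveI : (P₁.X a).IsQuasicoherent := inferInstance
  -- exactness above `b`
  have hex : ∀ i, b < i → P₁.ExactAt i := by
    intro i hi
    rw [HomologicalComplex.exactAt_iff_isZero_homology]
    have h1 : IsZero ((homologyFunctor W₀.Modules i).obj (Q.obj ((resCx j).obj G))) := by
      refine IsZero.of_iso ?_ ((homologyFunctorFactors W₀.Modules i).app _)
      exact (HomologicalComplex.exactAt_iff_isZero_homology _ _).1
        (((resCx j).obj G).exactAt_of_isLE b i hi)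
    exact (h1.of_iso ((homologyFunctor W₀.Modules i).mapIso e.symm)).of_iso
      ((homologyFunctorFactors W₀.Modules i).app P₁).symm
  -- tor amplitude at `z₀`
  have ht0 : DerSch.HasTorAmplitudeAt (j ≫ g) a b P₁ z₀ :=
    hasTorAmplitudeAt_of_isoD (j ≫ g) z₀ e a b ((hasTorAmplitudeAt_resCx_iff g j G a b z₀).2 htor)
  have hflat0 : FlatMod.IsFlatOverAt (j ≫ g) (P₁.X a) z₀ := by
    have := Groth.Agent.H4.TorAmp5.flat_bottom_of_hasTorAmp
      ((DerSch.stalkCxOver (j ≫ g) z₀).obj P₁) a b (max a b')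
      (fun i hi => (DerSch.stalkOver (j ≫ g) z₀).map_isZero (hP₁lo i hi))
      (fun i hi => (DerSch.stalkOver (j ≫ g) z₀).map_isZero (hP₁hi i hi))
      (fun i hi => hP₁fl i hi z₀) ht0
    exact this
  have hopen := Groth.Agent.H1.SchFlat.isOpen_setOf_isFlatOverAt (j ≫ g) (P₁.X a) hNfp
  let W₁ : W₀.Opens := ⟨_, hopen⟩
  have hW₁ : ∀ w : W₀, w ∈ W₁ → FlatMod.IsFlatOverAt (j ≫ g) (P₁.X a) w := fun w hw => hw
  refine ⟨j ''ᵁ W₁, ⟨z₀, hflat0, rfl⟩, ?_, ?_⟩
  · rintro _ ⟨w, hw, rfl⟩ m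
    apply PCAt.of_restrict j (Q.obj G) w
    refine PCAt.of_iso ((RDfac j G) ≪≫ e).symm w ?_
    refine (pcLike_pcAt w).of_termwise m (max a b') P₁ hP₁hi (fun i => ?_)
    rcases lt_trichotomy i a with h | h | h
    · exact AllPC.of_isZero ((singleFunctor _ 0).map_isZero (hP₁lo i h)) _ w
    · subst h
      exact pcAt_inD_of_fp_flatOver (j ≫ g) (P₁.X i) hNfp W₁ hW₁ _ w hw
    · exact pcAt_inD_of_finLocFree _ (hP₁ff i h) _ w
  · rintro _ ⟨w, hw, rfl⟩
    refine (hasTorAmplitudeAt_resCx_iff g j G a b w).1 ?_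
    refine hasTorAmplitudeAt_of_isoD (j ≫ g) w e.symm a b ?_
    set D := (DerSch.stalkCxOver (j ≫ g) w).obj P₁ with hD
    have h1 : DRing.HasTorAmplitudeIn _ a (max a b') (DRing.toD D) := by
      refine ⟨D, ?_, ?_, ⟨Iso.refl _⟩⟩
      · intro i hi
        rcases hi with hi | hi
        · exact (DerSch.stalkOver (j ≫ g) w).map_isZero (hP₁lo i hi)
        · exact (DerSch.stalkOver (j ≫ g) w).map_isZero (hP₁hi i hi)
      · intro i
        rcases lt_trichotomy i a with h | h | h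
        · haveI := ModuleCat.subsingleton_of_isZero
            ((DerSch.stalkOver (j ≫ g) w).map_isZero (hP₁lo i h))
          show Module.Flat _ ((DerSch.stalkOver (j ≫ g) w).obj (P₁.X i))
          infer_instance
        · subst h
          exact hW₁ w hw
        · exact hP₁fl i h w
    haveI : D.IsLE b := by
      rw [CochainComplex.isLE_iff]
      intro i hi
      have h2 := (exactAt_iff_stalk P₁ i).1 (hex i hi) w
      have h3 := (exactAt_res_iff ((j ≫ g).stalkMap w).hom _ i).2 h2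
      rw [HomologicalComplex.exactAt_iff_isZero_homology] at h3 ⊢
      exact h3.of_iso ((HomologicalComplex.homologyFunctor _ _ i).mapIso
        (stalkCxOverIso (j ≫ g) w P₁))
    haveI : (DRing.toD D).IsLE b := (isLE_Q_obj_iff D b).2 inferInstance
    exact Groth.Agent.H4.TorAmp5.hasTorAmp_of_isLE _ a b _ h1

end Groth.Agent.H4.RelPerfOpen1
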