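import Mathlib
import Groth.Agent.H4.RelPerfOpen1

set_option autoImplicit false
universe u
attribute [local instance] HasDerivedCategory.standard
open CategoryTheory CategoryTheory.Limits AlgebraicGeometry DerivedCategory Opposite TopologicalSpace
open Groth.Agent.LD.QC
open Groth.Agent.H4.PSch1 Groth.Agent.H4.PSch2 Groth.Agent.H4.PSch3 Groth.Agent.H4.PSch4
open Groth.Agent.H4.PSch5 Groth.Agent.H4.PSch6 Groth.Agent.H4.TilD9 Groth.Agent.H4.TilD10
open Groth.Agent.H4.TilD11 Groth.Agent.H4.PCS3 Groth.Agent.H4.PCS6 Groth.Agent.H4.PCS7 Groth.Agent.H4.FAmp1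
  Groth.Agent.H4.FAmp2 Groth.Agent.H4.FAmp3 Groth.Agent.H4.FAmp4 Groth.Agent.H4.FAmp5
open Groth.Agent.H4.RPC2 Groth.Agent.H4.RPC11 Groth.Agent.H4.RPC14 Groth.Agent.H4.RPC17 Groth.Agent.H4.RPC18
  Groth.Agent.H4.RPC19 Groth.Agent.H4.RPC23 Groth.Agent.H4.RPC24
  Groth.Agent.H4.RPC27 Groth.Agent.H4.RPC3 Groth.Agent.H4.NT7 Groth.Agent.H4.NT8
open Groth.Agent.H4.PGen1 Groth.Agent.H4.PGen2
open Groth.Agent.H4.SPt6 Groth.Agent.H4.RelTor2 Groth.Agent.H4.RelTor5 Groth.Agent.H4.RelTor7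
  Groth.Agent.H4.RelTor9 Groth.Agent.H4.RelTor13 Groth.Agent.H4.RT6 Groth.Agent.H4.TorAmp
  Groth.Agent.H4.TA2 Groth.Agent.H4.RelPerfOpen1

namespace Groth.Agent.H4.RelPerfOpen2

variable {X Y : Scheme.{u}}

/-- relative tor amplitude at a point and direct image along a closed immersion -/
lemma hasTorAmplitudeAt_push_iff {X' : Scheme.{u}} (i : X ⟶ X') [IsClosedImmersion i]
    (f' : X' ⟶ Y) (F : CochainComplex X.Modules ℤ) (a b : ℤ) (x : X) :
    DerSch.HasTorAmplitudeAt f' a b ((DerSch.pushCx i).obj F) (i.base x) ↔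
      DerSch.HasTorAmplitudeAt (i ≫ f') a b F x := by
  have hi : Topology.IsInducing i.base := i.isClosedEmbedding.toIsEmbedding.toIsInducing
  let ρ : Y.presheaf.stalk (f'.base (i.base x)) →+* X'.presheaf.stalk (i.base x) :=
    (f'.stalkMap (i.base x)).hom
  let τ : X'.presheaf.stalk (i.base x) →+* X.presheaf.stalk x := (i.stalkMap x).hom
  let χ : Y.presheaf.stalk (f'.base (i.base x)) →+* X.presheaf.stalk x :=
    ((i ≫ f').stalkMap x).hom
  have hχ : χ = τ.comp ρ := by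
    simp only [χ, ρ, τ]; rw [Scheme.Hom.stalkMap_comp]; rfl
  let e : DRing.toD ((DerSch.stalkCxOver f' (i.base x)).obj ((DerSch.pushCx i).obj F)) ≅
      DRing.toD ((DerSch.stalkCxOver (i ≫ f') x).obj F) :=
    DerivedCategory.Q.mapIso (stalkCxOverIso f' (i.base x) _ ≪≫
      (DTen.resCx ρ).mapIso (stalkPushCxIso i hi x F) ≪≫ resCxCompIso ρ τ χ hχ _ ≪≫
      (stalkCxOverIso (i ≫ f') x F).symm)
  exact ⟨fun h => hasTorAmp_of_iso e h, fun h => hasTorAmp_of_iso e.symm h⟩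

/-- exactness of a restricted complex passes to smaller opens -/
lemma exactAt_resCx_of_comp {W U : Scheme.{u}} (i : W ⟶ U) (j : U ⟶ X) (k : W ⟶ X)
    [IsOpenImmersion i] [IsOpenImmersion j] [IsOpenImmersion k] (h : k = i ≫ j)
    (F : CochainComplex X.Modules ℤ) (n : ℤ) (hex : ((resCx j).obj F).ExactAt n) :
    ((resCx k).obj F).ExactAt n := by
  subst h
  have h1 := exactAt_restrict i _ n hex
  rw [HomologicalComplex.exactAt_iff_isZero_homology] at h1 ⊢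
  exact h1.of_iso ((HomologicalComplex.homologyFunctor _ _ n).mapIso ((resCxComp i j).app F))

/-- exactness of a direct image along a closed immersion -/
lemma exactAt_pushCx {X' : Scheme.{u}} (i : X ⟶ X') [IsClosedImmersion i]
    (F : CochainComplex X.Modules ℤ) (n : ℤ) (h : F.ExactAt n) :
    ((DerSch.pushCx i).obj F).ExactAt n := by
  rw [HomologicalComplex.exactAt_iff] at h ⊢
  exact h.map (Scheme.Modules.pushforward i)

/-- relative pseudo-coherence only depends on the image of the open immersion -/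
lemma rel_of_range_eq (f : X ⟶ Y) [LocallyOfFiniteType f] {Z : Scheme.{u}} (j : Z ⟶ X)
    [IsOpenImmersion j] (U' : X.Opens) (hU' : U' = j.opensRange) (m : ℤ) (K : DCoh.D X)
    (h : DerSch.IsPseudoCoherentRel (j ≫ f) m ((RD j).obj K)) :
    DerSch.IsPseudoCoherentRel (U'.ι ≫ f) m ((RD U'.ι).obj K) := by
  rw [rel_iff_pch] at h ⊢
  intro T V hTV
  rw [pch_image_iff U'.ι f (T : (U' : Scheme.{u}).Opens) T.2 (V : Y.Opens) m K]
  set T' : X.Opens := U'.ι ''ᵁ (T : (U' : Scheme.{u}).Opens) with hT'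
  have hT'aff : IsAffineOpen T' := T.2.image_of_isOpenImmersion U'.ι
  have hT'le : T' ≤ j.opensRange := by
    rw [← hU']
    rintro _ ⟨t, -, rfl⟩
    exact t.2
  have himg : j ''ᵁ (j ⁻¹ᵁ T') = T' := by
    rw [Scheme.Hom.image_preimage_eq_opensRange_inf]
    exact inf_eq_right.2 hT'le
  have hTZaff : IsAffineOpen (j ⁻¹ᵁ T') := by
    rw [← Scheme.Hom.isAffineOpen_iff_of_isOpenImmersion j, himg]; exact hT'aff
  have hle : (j ⁻¹ᵁ T') ≤ (j ≫ f) ⁻¹ᵁ (V : Y.Opens) := by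
    intro z hz
    obtain ⟨t, ht, htz⟩ := hz
    have h1 : (U'.ι ≫ f).base t ∈ (V : Y.Opens) := hTV ht
    have h2 : (j ≫ f).base z = (U'.ι ≫ f).base t := by
      change f.base (j.base z) = f.base (U'.ι.base t)
      exact congrArg f.base htz.symm
    change (j ≫ f).base z ∈ (V : Y.Opens)
    rw [h2]; exact h1
  have h1 := h ⟨j ⁻¹ᵁ T', hTZaff⟩ V hle
  rw [pch_image_iff j f (j ⁻¹ᵁ T') hTZaff (V : Y.Opens) m K, himg] at h1
  exact h1


/-- **S6212** -/
theorem S6212 (f : X ⟶ Y) [LocallyOfFiniteType f] (F : CochainComplex X.Modules ℤ) (a b : ℤ) (x : X) :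
    (∃ U : X.Opens, x ∈ U ∧ DerSch.HasPerfAmplitudeRel (U.ι ≫ f) a b ((DCoh.restrictCx U).obj F)) ↔
      ((∃ U : X.Opens, x ∈ U ∧
          DerSch.IsPseudoCoherentRel (U.ι ≫ f) (a - 1) (DCoh.toD (U : Scheme.{u}) ((DCoh.restrictCx U).obj F)) ∧
          ∀ i : ℤ, i < a ∨ b < i → IsZero (DCoh.HD (DCoh.toD (U : Scheme.{u}) ((DCoh.restrictCx U).obj F)) i)) ∧
        DerSch.HasTorAmplitudeAt f a b F x) := by
  constructor
  · rintro ⟨U, hxU, hpc, htor⟩
    refine ⟨⟨U, hxU, hpc (a - 1), fun i hi => ?_⟩, ?_⟩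
    · have hex := exactAt_of_relTorAmp (U.ι ≫ f) _ a b htor i hi
      rw [HomologicalComplex.exactAt_iff_isZero_homology] at hex
      exact hex.of_iso ((homologyFunctorFactors _ i).app _)
    · exact (hasTorAmplitudeAt_restrict_iff f U F a b ⟨x, hxU⟩).1 (htor ⟨x, hxU⟩)
  · rintro ⟨⟨U, hxU, hpc, hvan⟩, htor⟩
    set K : DCoh.D X := DCoh.toD X F with hK
    have hpc' : DerSch.IsPseudoCoherentRel (U.ι ≫ f) (a - 1) ((RD U.ι).obj K) :=
      rel_of_iso _ (RDfac U.ι F).symm hpc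
    obtain ⟨W, V, hW, hV, hxW, hWV⟩ :=
      exists_affine_nhds_le_preimage (U.ι ≫ f) (⟨x, hxU⟩ : (U : Scheme.{u}))
    have h1 := (rel_iff_pch (U.ι ≫ f) (a - 1) _).1 hpc' ⟨W, hW⟩ ⟨V, hV⟩ hWV
    rw [pch_image_iff U.ι f W hW V (a - 1) K] at h1
    set U₀ : X.Opens := U.ι ''ᵁ W with hU₀
    have hU₀aff : IsAffineOpen U₀ := hW.image_of_isOpenImmersion U.ι
    have hxU₀ : x ∈ U₀ := ⟨⟨x, hxU⟩, hxW, rfl⟩
    have hU₀U : U₀ ≤ U := by
      rintro _ ⟨t, -, rfl⟩
      exact t.2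
    obtain ⟨hU₀V, n, φ, hφ, hch⟩ := h1
    haveI hci : IsClosedImmersion (gImm U₀ φ) := isClosedImmersion_gImm U₀ φ hU₀aff hφ.1
    let A : Scheme.{u} := Spec (CommRingCat.of (MvPolynomial (Fin n) Γ(Y, V)))
    let i : (U₀ : Scheme.{u}) ⟶ A := gImm U₀ φ
    haveI : IsClosedImmersion i := hci
    let cP : Γ(Y, V) ⟶ CommRingCat.of (MvPolynomial (Fin n) Γ(Y, V)) :=
      CommRingCat.ofHom (algebraMap Γ(Y, V) (MvPolynomial (Fin n) Γ(Y, V)))
    let g : A ⟶ Y := Spec.map cP ≫ hV.fromSpec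
    haveI : Smooth (Spec.map cP) := by
      rw [HasRingHomProperty.Spec_iff (P := @Smooth)]
      exact RingHom.smooth_algebraMap.mpr ⟨inferInstance, inferInstance⟩
    haveI : Smooth g := inferInstance
    haveI : Flat g := inferInstance
    haveI : LocallyOfFinitePresentation g := inferInstance
    have hcφ : cP ≫ CommRingCat.ofHom φ = f.appLE V U₀ hU₀V := by
      ext r
      exact congr($(hφ.2) r)
    have hfac : i ≫ g = U₀.ι ≫ f := by
      change (U₀.toSpecΓ ≫ Spec.map (CommRingCat.ofHom φ)) ≫ Spec.map cP ≫ hV.fromSpec = _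
      rw [Category.assoc, ← Spec.map_comp_assoc, hcφ,
        IsAffineOpen.SpecMap_appLE_fromSpec f hV hU₀aff hU₀V, ← hU₀aff.isoSpec_hom,
        IsAffineOpen.isoSpec_hom_fromSpec_assoc]
    set F₀ := (DCoh.restrictCx U₀).obj F with hF₀
    set G₀ := (DerSch.pushCx i).obj F₀ with hG₀
    have hG₀pc : DCoh.IsPseudoCoherentD (a - 1) (DCoh.toD A G₀) := hch F ⟨Iso.refl _⟩
    have hexU : ∀ k, k < a ∨ b < k → ((resCx U.ι).obj F).ExactAt k := by
      intro k hk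
      rw [HomologicalComplex.exactAt_iff_isZero_homology]
      exact (hvan k hk).of_iso ((homologyFunctorFactors _ k).app _).symm
    have hexU₀ : ∀ k, k < a ∨ b < k → F₀.ExactAt k := fun k hk =>
      exactAt_resCx_of_comp (X.homOfLE hU₀U) U.ι U₀.ι (X.homOfLE_ι hU₀U).symm F k (hexU k hk)
    haveI : G₀.IsGE a := by
      rw [CochainComplex.isGE_iff]
      intro k hk
      exact exactAt_pushCx i F₀ k (hexU₀ k (Or.inl hk))
    haveI : G₀.IsLE b := by
      rw [CochainComplex.isLE_iff]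
      intro k hk
      exact exactAt_pushCx i F₀ k (hexU₀ k (Or.inr hk))
    let x₀ : (U₀ : Scheme.{u}) := ⟨x, hxU₀⟩
    have htor₀ : DerSch.HasTorAmplitudeAt g a b G₀ (i.base x₀) := by
      rw [hasTorAmplitudeAt_push_iff i g F₀ a b x₀, hfac]
      exact (hasTorAmplitudeAt_restrict_iff f U₀ F a b x₀).2 htor
    obtain ⟨Wc, hzW, hWpc, hWtor⟩ := core g G₀ a b (i.base x₀)
      ((isPseudoCoherentD_iff_pcAt _ _).1 hG₀pc _) htor₀
    let Z : (U₀ : Scheme.{u}).Opens := i ⁻¹ᵁ Wc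
    let j : (Z : Scheme.{u}) ⟶ X := Z.ι ≫ U₀.ι
    let U' : X.Opens := j.opensRange
    have hxU' : x ∈ U' := ⟨⟨x₀, hzW⟩, rfl⟩
    refine ⟨U', hxU', ⟨fun m => ?_, fun u' => ?_⟩⟩
    · refine rel_of_iso _ (RDfac U'.ι F) ?_
      refine rel_of_range_eq f j U' rfl m K ?_
      obtain ⟨e1⟩ := nonempty_RD_comp_obj' Z.ι U₀.ι j rfl K
      refine rel_of_iso _ e1.symm ?_
      have hj : j ≫ f = (i ∣_ Wc) ≫ (Wc.ι ≫ g) := by
        rw [← Category.assoc (i ∣_ Wc), morphismRestrict_ι, Category.assoc, Category.assoc, hfac]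
      rw [hj]
      haveI : Flat (Wc.ι ≫ g) := inferInstance
      haveI : LocallyOfFinitePresentation (Wc.ι ≫ g) := inferInstance
      rw [rel_ci_iff (i ∣_ Wc) (Wc.ι ≫ g) m]
      refine (S6207 (Wc.ι ≫ g) (isNPseudoCoherent_of_flat_lfp _) m _).1 ?_
      have e2 := (RiRes i Wc).app ((RD U₀.ι).obj K)
      refine isPseudoCoherentD_of_iso e2 ?_
      rw [isPseudoCoherentD_iff_pcAt]
      intro w
      apply PCAt.restrict Wc.ι _ w
      have e3 : (Ri i).obj ((RD U₀.ι).obj K) ≅ Q.obj G₀ :=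
        (Ri i).mapIso (RDfac U₀.ι F) ≪≫ RiFac i F₀
      exact PCAt.of_iso e3.symm _ (hWpc _ w.2 m)
    · refine (hasTorAmplitudeAt_restrict_iff f U' F a b u').2 ?_
      obtain ⟨⟨u₀, hu₀⟩, hu⟩ : ∃ z : (Z : Scheme.{u}), j.base z = U'.ι.base u' := u'.2
      rw [← hu]
      have h2 := hWtor (i.base u₀) hu₀
      rw [hasTorAmplitudeAt_push_iff i g F₀ a b u₀, hfac] at h2
      exact (hasTorAmplitudeAt_restrict_iff f U₀ F a b u₀).1 h2

end Groth.Agent.H4.RelPerfOpen2
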