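import Mathlib
import Groth.Agent.H4.RelTor9
import Groth.Agent.H4.PCS8
import Groth.Agent.H4.TorAmp3

set_option autoImplicit false
universe u
open CategoryTheory CategoryTheory.Limits AlgebraicGeometry MonoidalCategory Pretriangulated
attribute [local instance] HasDerivedCategory.standard

namespace Groth.Agent.H4.RelTor10

open Groth.Agent.H4.TorAmp DRing DerivedCategory
open Groth.Agent.H4.RelTor2 Groth.Agent.H4.RelTor9
open Groth.Agent.H4.TilD10 Groth.Agent.H4.TilD11 Groth.Agent.H4.PCS4 Groth.Agent.H4.PCS8 Groth.Agent.H4.LDer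

section Ring

variable {R : Type u} [CommRing R]

lemma isZero_of_retract' {C D : Type*} [Category C] [Category D] [HasZeroMorphisms D] (Φ : C ⥤ D)
    {X Y : C} (i : X ⟶ Y) (r : Y ⟶ X) (h : i ≫ r = 𝟙 X) (hY : IsZero (Φ.obj Y)) :
    IsZero (Φ.obj X) := by
  rw [IsZero.iff_id_eq_zero, ← Φ.map_id, ← h, Φ.map_comp]
  rw [hY.eq_of_tgt (Φ.map i) 0, zero_comp]

lemma hasTorAmp_of_retract {K L : Dual.D R} (i : K ⟶ L) (r : L ⟶ K) (h : i ≫ r = 𝟙 K) (a b : ℤ)
    (hL : HasTorAmplitudeIn R a b L) : HasTorAmplitudeIn R a b K := by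
  haveI : ∀ M : ModuleCat.{u} R, (Gh (tensorRight M)).HasLeftDerivedFunctor (WA R) :=
    fun M => Groth.Agent.H4.KProj.hasLeftDerivedFunctor _
  rw [hasTorAmp_iff] at hL ⊢
  intro M j hj
  exact isZero_of_retract' (LG (tensorRight M) ⋙ homologyFunctor _ j) i r h (hL M j hj)

open ZeroObject in
lemma hasTorAmp_of_isZero {K : Dual.D R} (hK : IsZero K) (a b : ℤ) : HasTorAmplitudeIn R a b K := by
  have hz0 : IsZero (toD (0 : Cx R)) := DerivedCategory.Q.map_isZero (isZero_zero _)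
  refine ⟨0, fun i _ => ?_, fun i => ?_, ⟨hz0.iso hK⟩⟩
  · exact (HomologicalComplex.eval _ _ i).map_isZero (isZero_zero _)
  · haveI : Subsingleton ((0 : Cx R).X i) := ModuleCat.subsingleton_of_isZero
      ((HomologicalComplex.eval _ _ i).map_isZero (isZero_zero _))
    infer_instance

lemma hasTorAmp_shift {K : Dual.D R} (a b n : ℤ) (h : HasTorAmplitudeIn R a b K) :
    HasTorAmplitudeIn R (a - n) (b - n) (K⟦n⟧) := by
  obtain ⟨E, hv, hfl, ⟨e⟩⟩ := h
  refine ⟨E⟦n⟧, fun i hi => ?_, fun i => ?_,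
    ⟨(DerivedCategory.Q.commShiftIso n).app E ≪≫ (shiftFunctor _ n).mapIso e⟩⟩
  · exact hv (i + n) (by omega)
  · exact hfl (i + n)

end Ring

section Sch

variable {X S : Scheme.{u}} (f : X ⟶ S)

lemma locStalkTor_of_isZero (K : DCoh.D X) (hK : IsZero K) : LocStalkTor f K :=
  fun _ => ⟨⊤, 0, 0, trivial, fun v _ => hasTorAmp_of_isZero ((relStalkD f v).map_isZero hK) 0 0⟩

lemma locStalkTor_of_iso {K L : DCoh.D X} (e : K ≅ L) (h : LocStalkTor f K) : LocStalkTor f L := by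
  intro x
  obtain ⟨V, a, b, hx, hV⟩ := h x
  exact ⟨V, a, b, hx, fun v hv => hasTorAmp_of_iso ((relStalkD f v).mapIso e) (hV v hv)⟩

lemma locStalkTor_shift (K : DCoh.D X) (n : ℤ) (h : LocStalkTor f K) : LocStalkTor f (K⟦n⟧) := by
  intro x
  obtain ⟨V, a, b, hx, hV⟩ := h x
  refine ⟨V, a - n, b - n, hx, fun v hv => ?_⟩
  exact hasTorAmp_of_iso (((relStalkD f v).commShiftIso n).app K).symm
    (hasTorAmp_shift a b n (hV v hv))

lemma locStalkTor_obj₂ (T : Triangle (DCoh.D X)) (hT : T ∈ distTriang _)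
    (h₁ : LocStalkTor f T.obj₁) (h₃ : LocStalkTor f T.obj₃) : LocStalkTor f T.obj₂ := by
  intro x
  obtain ⟨V₁, a₁, b₁, hx₁, hV₁⟩ := h₁ x
  obtain ⟨V₃, a₃, b₃, hx₃, hV₃⟩ := h₃ x
  refine ⟨V₁ ⊓ V₃, min a₁ a₃, max b₁ b₃, ⟨hx₁, hx₃⟩, fun v hv => ?_⟩
  haveI : ∀ M : ModuleCat.{u} (S.presheaf.stalk (f.base v)),
      (Gh (tensorRight M)).HasLeftDerivedFunctor (WA (S.presheaf.stalk (f.base v))) :=
    fun M => Groth.Agent.H4.KProj.hasLeftDerivedFunctor _
  exact hasTorAmp_obj₂ ((relStalkD f v).mapTriangle.obj T)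
    ((relStalkD f v).map_distinguished T hT) _ _
    (hasTorAmp_mono (min_le_left _ _) (le_max_left _ _) (hV₁ v hv.1))
    (hasTorAmp_mono (min_le_right _ _) (le_max_right _ _) (hV₃ v hv.2))

lemma locStalkTor_of_retract {K L : DCoh.D X} (i : K ⟶ L) (r : L ⟶ K) (hir : i ≫ r = 𝟙 K)
    (h : LocStalkTor f L) : LocStalkTor f K := by
  intro x
  obtain ⟨V, a, b, hx, hV⟩ := h x
  refine ⟨V, a, b, hx, fun v hv => ?_⟩
  exact hasTorAmp_of_retract ((relStalkD f v).map i) ((relStalkD f v).map r)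
    (by rw [← Functor.map_comp, hir, CategoryTheory.Functor.map_id]) a b (hV v hv)

/-- pseudo-coherence for all `m` -/
def PCall (K : DCoh.D X) : Prop := ∀ m : ℤ, DCoh.IsPseudoCoherentD m K

lemma pcall_of_isZero (K : DCoh.D X) (hK : IsZero K) : PCall K := by
  intro m
  rw [isPseudoCoherentD_iff_pcAt]
  intro x
  haveI : K.IsLE (m - 1) := TStructure.t.isLE_of_isZero hK _
  exact PCAt.of_isLE m K x

lemma pcall_shift (K : DCoh.D X) (n : ℤ) (h : PCall K) : PCall (K⟦n⟧) := by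
  intro m
  rw [isPseudoCoherentD_iff_pcAt]
  intro x
  have h1 := (isPseudoCoherentD_iff_pcAt (m + n) K).1 (h (m + n)) x
  have h2 := PCAt.shift K x n h1
  rwa [show m + n - n = m by omega] at h2

lemma pcall_obj₂ (T : Triangle (DCoh.D X)) (hT : T ∈ distTriang _)
    (h₁ : PCall T.obj₁) (h₃ : PCall T.obj₃) : PCall T.obj₂ :=
  fun m => (Groth.Agent.H4.PCS4.S0889 m T hT).2.1 (h₁ m) (h₃ m)

lemma pcall_of_retract {K L : DCoh.D X} (i : K ⟶ L) (r : L ⟶ K) (hir : i ≫ r = 𝟙 K)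
    (h : PCall L) : PCall K := by
  obtain ⟨Z, g, h', hT⟩ := distinguished_cocone_triangle i
  haveI : IsSplitMono i := ⟨⟨⟨r, hir⟩⟩⟩
  have hz : (Triangle.mk i g h').mor₃ = 0 :=
    Triangle.mor₃_eq_zero_of_mono₁ _ hT (inferInstanceAs (Mono i))
  obtain ⟨e, -, -⟩ := exists_iso_binaryBiproduct_of_distTriang _ hT hz
  intro m
  have h1 : DCoh.IsPseudoCoherentD m (K ⊞ Z) := by
    rw [isPseudoCoherentD_iff_pcAt]
    intro x
    exact PCAt.of_iso e x ((isPseudoCoherentD_iff_pcAt m L).1 (h m) x)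
  exact (Groth.Agent.H4.PCS8.S0888 m K Z h1).1

open ZeroObject in
theorem S7250 [Flat f] :
    ObjectProperty.IsTriangulated (fun E : DCoh.D X =>
      (∀ m : ℤ, DCoh.IsPseudoCoherentD m E) ∧ DCoh.LocHasFiniteRelTorDim f E) ∧
    ObjectProperty.IsStableUnderRetracts (fun E : DCoh.D X =>
      (∀ m : ℤ, DCoh.IsPseudoCoherentD m E) ∧ DCoh.LocHasFiniteRelTorDim f E) := by
  have key : (fun E : DCoh.D X =>
      (∀ m : ℤ, DCoh.IsPseudoCoherentD m E) ∧ DCoh.LocHasFiniteRelTorDim f E) =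
      (fun E : DCoh.D X => PCall E ∧ LocStalkTor f E) := by
    funext E
    rw [locHasFiniteRelTorDim_iff]
    rfl
  rw [key]
  refine ⟨{ toContainsZero := ⟨⟨0, isZero_zero _, pcall_of_isZero _ (isZero_zero _),
              locStalkTor_of_isZero f _ (isZero_zero _)⟩⟩
            toIsStableUnderShift := ⟨fun n => ⟨fun K hK =>
              ⟨pcall_shift K n hK.1, locStalkTor_shift f K n hK.2⟩⟩⟩
            toIsTriangulatedClosed₂ := ⟨fun T hT h₁ h₃ =>
              ObjectProperty.le_isoClosure _ _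
                ⟨pcall_obj₂ T hT h₁.1 h₃.1, locStalkTor_obj₂ f T hT h₁.2 h₃.2⟩⟩ }, ?_⟩
  exact ⟨fun {K L} hr hL => ⟨pcall_of_retract hr.i hr.r hr.retract hL.1,
    locStalkTor_of_retract f hr.i hr.r hr.retract hL.2⟩⟩

end Sch

end Groth.Agent.H4.RelTor10
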