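import Mathlib
import Groth.Prelude.Def_DualSh
import Groth.Agent.H4.RelTor10
import Groth.Agent.H4.TilD11
import Groth.Agent.H4.PC2

set_option autoImplicit false
universe u
open CategoryTheory CategoryTheory.Limits AlgebraicGeometry MonoidalCategory Pretriangulated
attribute [local instance] HasDerivedCategory.standard

namespace Groth.Agent.H4.RelTor11

open Groth.Agent.H4.TorAmp DRing DerivedCategory
open Groth.Agent.H4.RelTor2 Groth.Agent.H4.RelTor8 Groth.Agent.H4.RelTor9 Groth.Agent.H4.RelTor10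

variable {R A : Type u} [CommRing R] [CommRing A] (φ : R →+* A)
  [PreservesFiniteLimits (tilde.functor (CommRingCat.of A))]

/-- affine case: locally finite relative tor dimension of `M~` is finite tor dimension of `M`
over the base ring -/
theorem locStalkTor_tilde_iff (M : Dual.D A) :
    LocStalkTor (Spec.map (CommRingCat.ofHom φ)) ((DCoh.tildeD (CommRingCat.of A)).obj M) ↔
      DRing.HasFiniteTorDimCx R ((DRing.restrictD φ).obj M) := by
  let f := Spec.map (CommRingCat.ofHom φ)
  let K := (DCoh.tildeD (CommRingCat.of A)).obj M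
  let F : CochainComplex (Spec (CommRingCat.of A)).Modules ℤ := DerivedCategory.Q.objPreimage K
  let e : DCoh.toD _ F ≅ K := DerivedCategory.Q.objObjPreimageIso K
  have key : ∀ (a b : ℤ) (v : Spec (CommRingCat.of A)),
      DerSch.HasTorAmplitudeAt f a b F v ↔
        HasTorAmplitudeIn ((Spec (CommRingCat.of R)).presheaf.stalk (f.base v)) a b
          ((relStalkD f v).obj K) := fun a b v =>
    (hasTorAmplitudeAt_iff_relStalkD f v F a b).trans
      ⟨fun h => hasTorAmp_of_iso ((relStalkD f v).mapIso e) h,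
       fun h => hasTorAmp_of_iso ((relStalkD f v).mapIso e.symm) h⟩
  constructor
  · intro h
    choose V a b hxV hV using h
    have hcov : (Set.univ : Set (Spec (CommRingCat.of A))) ⊆
        ⋃ x, ((V x : (Spec (CommRingCat.of A)).Opens) : Set (Spec (CommRingCat.of A))) :=
      fun x _ => Set.mem_iUnion.2 ⟨x, hxV x⟩
    obtain ⟨t, ht⟩ := isCompact_univ.elim_finite_subcover
      (fun x : Spec (CommRingCat.of A) =>
        ((V x : (Spec (CommRingCat.of A)).Opens) : Set (Spec (CommRingCat.of A))))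
      (fun x => (V x).isOpen) hcov
    obtain ⟨a₁, ha₁⟩ := (t.image (fun x => - a x)).exists_le
    obtain ⟨b₀, hb₀⟩ := (t.image b).exists_le
    refine ⟨-a₁, b₀, (S7259 φ M F ⟨e⟩ (-a₁) b₀).1 (fun v => ?_)⟩
    rw [key]
    obtain ⟨x, hx⟩ := Set.mem_iUnion.1 (ht (Set.mem_univ v))
    obtain ⟨hxt, hvx⟩ := Set.mem_iUnion.1 hx
    have h1 := ha₁ _ (Finset.mem_image_of_mem (fun x => - a x) hxt)
    have h2 := hb₀ _ (Finset.mem_image_of_mem b hxt)
    exact hasTorAmp_mono (by omega) h2 (hV x v hvx)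
  · rintro ⟨a, b, h⟩ x
    have h1 := (S7259 φ M F ⟨e⟩ a b).2 h
    exact ⟨⊤, a, b, trivial, fun v _ => (key a b v).1 (h1 v)⟩

theorem S7264 (R A : Type u) [CommRing R] [CommRing A] [Algebra R A]
    [Module.Flat R A]
    [PreservesFiniteLimits (tilde.functor (CommRingCat.of A))] (M : Dual.D A) :
    ((∀ m : ℤ, DCoh.IsPseudoCoherentD m ((DCoh.tildeD (CommRingCat.of A)).obj M)) ∧
      DCoh.LocHasFiniteRelTorDim (Spec.map (CommRingCat.ofHom (algebraMap R A)))
        ((DCoh.tildeD (CommRingCat.of A)).obj M)) ↔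
    Dual2.IsRelPerfect R A M := by
  haveI : Flat (Spec.map (CommRingCat.ofHom (algebraMap R A))) := by
    rw [HasRingHomProperty.Spec_iff (P := @Flat)]
    exact (RingHom.flat_algebraMap_iff).2 inferInstance
  rw [locHasFiniteRelTorDim_iff, locStalkTor_tilde_iff]
  have h1 : (∀ m : ℤ, DCoh.IsPseudoCoherentD m ((DCoh.tildeD (CommRingCat.of A)).obj M)) ↔
      DRing.IsPseudoCoherent' A M := by
    simp only [Groth.Agent.H4.TilD11.S1004]
    exact ⟨Groth.Agent.H4.PC.isPC'_of_forall_isPC M, Groth.Agent.H4.PC.isPC_of_isPC' M⟩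
  rw [h1]
  rfl

end Groth.Agent.H4.RelTor11
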