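import Mathlib
import Groth.Agent.H4.RelTor8
import Groth.Agent.H4.SPt5
import Groth.Agent.H4.LDS21
import Groth.Agent.Lib.Lead.QC.Push
import Groth.Agent.H4.LDS19
import Groth.Agent.H4.LDS8
import Groth.Agent.H4.LDS7
import Groth.Agent.H4.RelTor2

set_option autoImplicit false
universe u
open CategoryTheory CategoryTheory.Limits AlgebraicGeometry MonoidalCategory
attribute [local instance] HasDerivedCategory.standard

namespace Groth.Agent.H4.RelTor12

open Groth.Agent.H4.LDS21 Groth.Agent.H4.SPt5 Groth.Agent.H4.RelTor4 Groth.Agent.H4.RelTor8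

section L1

variable {X : Scheme.{u}} (R : CommRingCat.{u}) (j : Spec (CommRingCat.of R) ⟶ X)
  [IsOpenImmersion j] (u : Spec (CommRingCat.of R))

/-- the stalk map of an open immersion as a ring equivalence -/
noncomputable def stalkEquiv :
    X.presheaf.stalk (j.base u) ≃+* (Spec (CommRingCat.of R)).presheaf.stalk u :=
  RingEquiv.ofBijective (j.stalkMap u).hom
    ((ConcreteCategory.isIso_iff_bijective _).1 inferInstance)

theorem exists_qcoh_stalk_iso_aux [QuasiCompact j] [QuasiSeparated j]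
    (M : ModuleCat.{u} (X.presheaf.stalk (j.base u))) :
    ∃ F : X.Modules, Coh.IsQCoh F ∧
      Nonempty ((DerSch.stalkFunctor X (j.base u)).obj F ≅ M) := by
  let e := stalkEquiv R j u
  let Eq := ModuleCat.restrictScalarsEquivalenceOfRingEquiv e
  let M₁ : ModuleCat.{u} ((Spec (CommRingCat.of R)).presheaf.stalk u) := Eq.inverse.obj M
  let N : ModuleCat.{u} R := (ModuleCat.restrictScalars.{u} (ψ R u)).obj M₁
  let G : (Spec (CommRingCat.of R)).Modules := (tilde.functor R).obj N
  let F := (Scheme.Modules.pushforward j).obj G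
  refine ⟨F, Groth.Agent.LD.QC.qc_pushforward j G, ⟨?_⟩⟩
  let adj := ModuleCat.extendRestrictScalarsAdj.{u,u,u} e.toRingHom
  haveI : (ModuleCat.restrictScalars.{u} e.toRingHom).IsEquivalence :=
    ModuleCat.restrictScalars_isEquivalence_of_ringEquiv e
  haveI : IsIso adj.unit := inferInstance
  have e1 : (DerSch.stalkFunctor X (j.base u)).obj F ≅
      (ModuleCat.restrictScalars.{u} e.toRingHom).obj
        ((ModuleCat.extendScalars.{u,u,u} e.toRingHom).obj
          ((DerSch.stalkFunctor X (j.base u)).obj F)) :=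
    @asIso _ _ _ _ (adj.unit.app ((DerSch.stalkFunctor X (j.base u)).obj F))
      (NatIso.isIso_app_of_isIso adj.unit _)
  have e2 : (ModuleCat.extendScalars.{u,u,u} e.toRingHom).obj
        ((DerSch.stalkFunctor X (j.base u)).obj F) ≅
      (DerSch.stalkFunctor _ u).obj ((Scheme.Modules.pullback j).obj F) :=
    ((stalkPullbackIso j u).app F).symm
  have e3 : (Scheme.Modules.pullback j).obj F ≅ G :=
    (Scheme.Modules.restrictFunctorIsoPullback j).symm.app F ≪≫
      (Scheme.Modules.restrictFunctorAdjCounitIso j).app G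
  have e4 : (DerSch.stalkFunctor _ u).obj G ≅ (ModuleCat.extendScalars.{u,u,u} (ψ R u)).obj N :=
    (tildeStalkIso R u).app N
  have e5 : (ModuleCat.extendScalars.{u,u,u} (ψ R u)).obj N ≅ M₁ :=
    @asIso _ _ _ _ ((ModuleCat.extendRestrictScalarsAdj.{u,u,u} (ψ R u)).counit.app M₁)
      (isIso_counit_of_isLocalization (ψ R u) _ (isLocalization_ψ R u) M₁)
  have e6 : (ModuleCat.restrictScalars.{u} e.toRingHom).obj M₁ ≅ M := Eq.counitIso.app M
  exact e1 ≪≫ (ModuleCat.restrictScalars.{u} e.toRingHom).mapIso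
    (e2 ≪≫ (DerSch.stalkFunctor _ u).mapIso e3 ≪≫ e4 ≪≫ e5) ≪≫ e6

end L1

section L1'

variable {X : Scheme.{u}}

/-- on a quasi-separated scheme every module over a local ring is the stalk of a quasi-coherent
module -/
theorem exists_qcoh_stalk_iso [QuasiSeparatedSpace X] (x : X)
    (M : ModuleCat.{u} (X.presheaf.stalk x)) :
    ∃ F : X.Modules, Coh.IsQCoh F ∧ Nonempty ((DerSch.stalkFunctor X x).obj F ≅ M) := by
  obtain ⟨U, hU, hxU, -⟩ := exists_isAffineOpen_mem_and_subset (X := X) (x := x) (U := ⊤) trivial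
  obtain ⟨u, rfl⟩ : ∃ u, hU.fromSpec.base u = x := by
    have h : x ∈ Set.range hU.fromSpec.base := by rw [hU.range_fromSpec]; exact hxU
    exact h
  exact exists_qcoh_stalk_iso_aux Γ(X, U) hU.fromSpec u M

end L1'

section Ring

open Groth.Agent.H4.TC4 Groth.Agent.H4.TA1 Groth.Agent.H4.LK4 DRing

variable {R : Type u} [CommRing R]

/-- tor amplitude of a K-flat complex from exactness of the termwise tensor products -/
theorem hasTorAmp_of_exactAt_tensorCx (K : Cx R) (hK : KFlat K) (a b : ℤ)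
    (h : ∀ (M : ModuleCat.{u} R) (n : ℤ), (n < a ∨ b < n) → (DRing.tensorCx K M).ExactAt n) :
    HasTorAmplitudeIn R a b (toD K) := by
  refine hasTorAmp_of_exactAt_tensor K a b (fun M => ?_)
  obtain ⟨N, π, -, hNf, hπ, -⟩ := exists_kflat_resolution_sg M
  refine ⟨N, π, hNf, hπ, fun n hn => ?_⟩
  have h2 := quasiIso_whiskerLeft_of_kflat hK π hπ
  exact (exactAt_iff_of_quasiIso _ h2 n).2 ((exactAt_tensor_sg_iff K M n).2 (h M n hn))

end Ring

section Main

open Groth.Agent.H4.SPt6 Groth.Agent.H4.SPt8 Groth.Agent.H4.LDS14 Groth.Agent.H4.LDS19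
  Groth.Agent.H4.RelTor2 Groth.Agent.H4.TA1

variable {X : Scheme.{u}}

/-- the stalk of the termwise tensor product with a module -/
noncomputable def stalkTensorRightIso (x : X) (F : X.Modules) :
    DCoh.tensorRightMod F ⋙ DerSch.stalkFunctor X x ≅
      DerSch.stalkFunctor X x ⋙ tensorRight ((DerSch.stalkFunctor X x).obj F) :=
  NatIso.ofComponents (fun M => stalkTensorObjIso x M F)
    (fun f => stalkTensorObjIso_natural_left x f)

theorem hasFlatAmplitudeIn_of_qcoh_vanishing [QuasiSeparatedSpace X] (E : DCoh.D X) (a b : ℤ)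
    (hq : ∀ (F : X.Modules), Coh.IsQCoh F → ∀ [DCoh.HasLTensorMod F] (i : ℤ), (i < a ∨ b < i) →
      IsZero (DCoh.HD ((DCoh.LTensorMod F).obj E) i)) :
    DCoh.HasFlatAmplitudeIn a b E := by
  obtain ⟨P, c, hc, hP, -⟩ := exists_skf_resolution (DerivedCategory.Q.objPreimage E)
  have hc' : IsIso (DerivedCategory.Q.map c) := by
    rw [DerivedCategory.isIso_Q_map_iff_quasiIso]; exact hc
  let eP : DCoh.toD X P ≅ E :=
    @asIso _ _ _ _ (DerivedCategory.Q.map c) hc' ≪≫ DerivedCategory.Q.objObjPreimageIso E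
  have hPk : DCoh.IsKFlat P := isKFlat_of_skf P hP
  have h1 : DerSch.HasTorAmplitude (𝟙 X) a b P := by
    intro x
    rw [hasTorAmplitudeAt_id_iff]
    apply hasTorAmp_of_exactAt_tensorCx _ (hP x) a b
    intro M n hn
    obtain ⟨F, hF, ⟨eF⟩⟩ := exists_qcoh_stalk_iso x M
    haveI := Groth.Agent.H4.LDS6.hasLTensorMod F
    have h2 := hq F hF n hn
    have h3 : IsZero (DCoh.HD ((DCoh.LTensorMod F).obj (DCoh.toD X P)) n) :=
      h2.of_iso ((DerivedCategory.homologyFunctor X.Modules n).mapIso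
        ((DCoh.LTensorMod F).mapIso eP))
    have h4 : (((DCoh.tensorRightMod F).mapHomologicalComplex (ComplexShape.up ℤ)).obj
        P).ExactAt n := by
      rw [HomologicalComplex.exactAt_iff_isZero_homology]
      exact h3.of_iso (Groth.Agent.H4.LDS8.HDLTensorModIso P hPk F n).symm
    rw [exactAt_iff_stalk] at h4
    have h5 := h4 x
    let e1 : (stalkCx x).obj (((DCoh.tensorRightMod F).mapHomologicalComplex
        (ComplexShape.up ℤ)).obj P) ≅
        ((tensorRight ((DerSch.stalkFunctor X x).obj F)).mapHomologicalComplex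
          (ComplexShape.up ℤ)).obj ((stalkCx x).obj P) :=
      (NatIso.mapHomologicalComplex (stalkTensorRightIso x F) (ComplexShape.up ℤ)).app P
    let e2 : ((tensorRight ((DerSch.stalkFunctor X x).obj F)).mapHomologicalComplex
          (ComplexShape.up ℤ)).obj ((stalkCx x).obj P) ≅ DRing.tensorCx ((stalkCx x).obj P) M :=
      (NatIso.mapHomologicalComplex ((curriedTensor _).flip.mapIso eF)
        (ComplexShape.up ℤ)).app ((stalkCx x).obj P)
    exact (exactAt_iff_of_iso (e1 ≪≫ e2) n).1 h5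
  obtain ⟨G, hv, hfl, ⟨e⟩⟩ := hasFlatAmplitudeIn_of_hasTorAmplitude P a b h1
  exact ⟨G, hv, hfl, ⟨e ≪≫ eP⟩⟩

theorem S1073 (X : Scheme.{u}) [QuasiSeparatedSpace ↥X] (E : DCoh.D X)
    (a b : ℤ) :
    DCoh.HasTorAmplitudeIn a b E ↔
      ∀ (F : X.Modules), Coh.IsQCoh F → ∀ [DCoh.HasLTensorMod F] (i : ℤ), (i < a ∨ b < i) →
        IsZero (DCoh.HD ((DCoh.LTensorMod F).obj E) i) := by
  constructor
  · intro h F _ _ i hi
    exact h F i hi
  · intro hq
    exact Groth.Agent.H4.LDS7.hasTorAmplitudeIn_of_hasFlatAmplitudeIn a b E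
      (hasFlatAmplitudeIn_of_qcoh_vanishing E a b hq)

end Main

end Groth.Agent.H4.RelTor12
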