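import Mathlib
import Groth.Agent.Lib.Lead.QC.ResolProp
import Groth.Agent.Lib.Helper8.RelTwist.RelSerre
import Groth.Agent.Lib.Helper8.RelTwist.Tensor
import Groth.Agent.Lib.Helper8.RelTwist.Inverse
import Groth.Agent.Lib.Helper8.RelTwist.Inv
import Groth.Agent.H4.TwGlue
import Groth.Agent.S8259
import Groth.Agent.S8261
import Groth.Statements.S8334

/-! # On a relative Proj, a qc f.t. module is a quotient of `(p^*G)(-n)` for `n ≫ 0`. -/

set_option autoImplicit false
universe u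
open CategoryTheory CategoryTheory.Limits AlgebraicGeometry Opposite TopologicalSpace
open scoped HomogeneousIdeal
noncomputable section
open EGA2

namespace Groth.Agent.H4.RelTwistQuot
open Groth.Agent.LD.QC

theorem main_S8334 {Y P : Scheme.{u}} (𝒮 : RelProj.QCGrAlg Y) (p : P ⟶ Y)
    (chart : ∀ (U : Y.Opens) (hU : IsAffineOpen U), (((p ⁻¹ᵁ U : P.Opens) : Scheme.{u}) ≅ Proj (𝒮.deg U hU)))
    (hP : RelProj.IsRelProj 𝒮 p chart)
    (hY : (CompactSpace Y ∧ Y.IsSeparated) ∨ NoetherianSpace Y) (hgen : 𝒮.IsGenDegOne)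
    (hft : 𝒮.IsFTDeg 1) (F : P.Modules) (hFq : Coh.IsQCoh F) (hFt : CohB1.IsFT F) :
    ∃ n₀ : ℤ, ∀ (n : ℤ), n₀ ≤ n → ∀ (L : P.Modules)
      (lam : ∀ (U : Y.Opens) (hU : IsAffineOpen U),
      L ⟶ (Scheme.Modules.pushforward (RelProj.emb p chart U hU)).obj (GrTwist.twist (𝒮.deg U hU) (-n))),
      RelProj.IsRelTwist 𝒮 p chart (-n) L lam →
        ∃ (G : Y.Modules) (π : CohB1.tensorMod ((Scheme.Modules.pullback p).obj G) L ⟶ F),
          Coh.IsQCoh G ∧ CohB1.IsFT G ∧ Epi π := by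
  classical
  haveI : F.IsQuasicoherent := hFq
  haveI hYc : CompactSpace Y := by
    rcases hY with h | h
    · exact h.1
    · haveI := h; infer_instance
  haveI hYqs : QuasiSeparatedSpace Y := by
    rcases hY with h | h
    · haveI := h.2; infer_instance
    · haveI := h; infer_instance
  haveI : IsSeparated p := Groth.Agent.S8259.result 𝒮 p chart hP
  haveI : QuasiCompact p := (Groth.Agent.S8261.result 𝒮 hgen hft p chart hP).2
  haveI : QuasiSeparated p := inferInstance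
  haveI : CompactSpace P := QuasiCompact.compactSpace_of_compactSpace p
  obtain ⟨n₀, hn₀⟩ := Groth.Agent.H8.RelTwist.exists_counit_epi (𝒮 := 𝒮) (p := p) (chart := chart)
    hgen hft F hFt
  refine ⟨n₀, fun n hn L lam hL => ?_⟩
  obtain ⟨L', lam', hL'⟩ := Groth.Agent.H4.TwGlue.main_S8284 𝒮 p chart hP n
  have hε := hn₀ n hn L' lam' hL'
  have hLinv : PicF.IsInvertible L := Groth.Agent.H8.RelTwist.relTwist_isInvertible hgen hL
  have hL'inv : PicF.IsInvertible L' := Groth.Agent.H8.RelTwist.relTwist_isInvertible hgen hL'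
  haveI : L.IsQuasicoherent := qc_of_isInvertible L hLinv
  haveI : L'.IsQuasicoherent := qc_of_isInvertible L' hL'inv
  obtain ⟨T, hT⟩ : ∃ T, T = CohB1.tensorMod F L' := ⟨_, rfl⟩
  rw [← hT] at hε
  haveI hTq : T.IsQuasicoherent := by
    rw [hT]; exact tensorMod_isQuasicoherent F L'
  have hTft : T.IsFiniteType := by
    rw [hT]; exact isFiniteType_tensorMod_of_isInvertible F hFt L' hL'inv
  have hVU : ∀ x : P, ∃ (V : Y.affineOpens) (U : P.Opens),
      IsAffineOpen U ∧ x ∈ U ∧ U ≤ p ⁻¹ᵁ V.1 := by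
    intro x
    obtain ⟨V, hV, hxV, -⟩ := exists_isAffineOpen_mem_and_subset (x := p x) (U := ⊤) trivial
    obtain ⟨U, hU, hxU, hUV⟩ :=
      exists_isAffineOpen_mem_and_subset (x := x) (U := p ⁻¹ᵁ V) hxV
    exact ⟨⟨V, hV⟩, U, hU, hxU, hUV⟩
  choose V U hU hxU hUV using hVU
  obtain ⟨Z, hZcov⟩ := isCompact_univ.elim_finite_subcover
    (fun x : P => ((U x : P.Opens) : Set P))
    (fun x => (U x).2) (fun x _ => Set.mem_iUnion.mpr ⟨x, hxU x⟩)
  have hgenS : ∀ x : P, ∃ S : Finset Γ(T, p ⁻¹ᵁ (V x).1), Submodule.span Γ(P, U x)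
      ((fun τ : Γ(T, p ⁻¹ᵁ (V x).1) => T.presheaf.map (homOfLE (hUV x)).op τ) ''
        (S : Set Γ(T, p ⁻¹ᵁ (V x).1))) = ⊤ := by
    intro x
    haveI := finite_sections_of_isFiniteType T hTft (hU x)
    have h1 := span_range_res_of_counit_epi p T hε (hU x) (V x).2 (hUV x)
    have h2 : (Submodule.span Γ(P, U x) (Set.range (fun a : Γ(T, p ⁻¹ᵁ (V x).1) =>
        T.presheaf.map (homOfLE (hUV x)).op a))).FG := by
      rw [h1]; exact Module.Finite.fg_top
    obtain ⟨s', hs', hs'eq⟩ := (Submodule.fg_span_iff_fg_span_finset_subset _).mp h2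
    rw [← Set.image_univ] at hs'
    obtain ⟨S, -, hS⟩ := Finset.subset_set_image_iff.mp hs'
    refine ⟨S, ?_⟩
    rw [← Finset.coe_image, hS, ← hs'eq]
    exact h1
  choose S hS using hgenS
  haveI hPq : ((Scheme.Modules.pushforward p).obj T).IsQuasicoherent := qc_pushforward p T
  obtain ⟨N, u, hu, hNq, hNft, hmem⟩ := exists_sub_finiteType_of_sections
    ((Scheme.Modules.pushforward p).obj T)
    (ι := Σ i : P, Γ(T, p ⁻¹ᵁ (V i).1)) (Z.sigma S) (fun q => V q.1)
    (fun q => (show Γ((Scheme.Modules.pushforward p).obj T, (V q.1).1) from q.2))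
  haveI := hNq
  haveI : ((Scheme.Modules.pullback p).obj N).IsQuasicoherent := qc_pullback p N
  obtain ⟨ψ, hψ⟩ : ∃ ψ : (Scheme.Modules.pullback p).obj N ⟶ T,
      ψ = (Scheme.Modules.pullback p).map u ≫
        (Scheme.Modules.pullbackPushforwardAdjunction p).counit.app T := ⟨_, rfl⟩
  have hψepi : Epi ψ := by
    apply Groth.Agent.H5.Lim.epi_of_surjective_affine_cover
    intro x
    obtain ⟨z, hzZ, hxz⟩ := Set.mem_iUnion₂.mp (hZcov (Set.mem_univ x))
    refine ⟨U z, hU z, hxz, ?_⟩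
    have hrange : LinearMap.range (appLinear ψ (U z)) = ⊤ := by
      rw [eq_top_iff, ← hS z, Submodule.span_le]
      rintro _ ⟨τ, hτ, rfl⟩
      obtain ⟨g, hg⟩ := hmem ⟨z, τ⟩ (Finset.mem_sigma.mpr ⟨hzZ, Finset.mem_coe.mp hτ⟩)
      refine ⟨pbSec p N (hUV z) g, ?_⟩
      have e1 : appLinear ψ (U z) (pbSec p N (hUV z) g) =
        ψ.app (U z) (pbSec p N (hUV z) g) := rfl
      rw [e1, hψ]
      change ((Scheme.Modules.pullbackPushforwardAdjunction p).counit.app T).app (U z)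
        (((Scheme.Modules.pullback p).map u).app (U z) (pbSec p N (hUV z) g)) = _
      rw [pbSec_naturality]
      have e2 : u.app (V z).1 g =
          (show Γ((Scheme.Modules.pushforward p).obj T, (V z).1) from τ) := hg
      rw [e2]
      exact counit_pbSec p T (hUV z) τ
    intro m
    obtain ⟨g, hg⟩ := (LinearMap.range_eq_top.mp hrange) m
    exact ⟨g, hg⟩
  have hZ0 := Groth.Agent.H8.RelTwist.isRelTwist_zero' (𝒮 := 𝒮) (p := p) (chart := chart) hP
    (n + -n) (add_neg_cancel n)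
  obtain ⟨ε⟩ := Groth.Agent.H8.RelTwist.nonempty_tensor_iso hP hgen hL' hL hZ0
  let α : CohB1.tensorMod (CohB1.tensorMod F L') L ≅ F :=
    tensorAssoc F L' L ≪≫ tensorIso' (Iso.refl F) ε ≪≫ SecTwist.unitorR F
  have h2 := epi_tensorMap_of_isInvertible ψ hψepi L hLinv
  subst hT
  exact ⟨N, KoszTw.tensorMap ψ (𝟙 L) ≫ α.hom, hNq, hNft,
    @epi_comp _ _ _ _ _ _ h2 _ inferInstance⟩

end Groth.Agent.H4.RelTwistQuot
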