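import Mathlib

set_option linter.unusedSectionVars false
set_option linter.unusedVariables false
set_option linter.style.haveILetI false
set_option autoImplicit false

open Polynomial

noncomputable section

namespace Groth.Agent.H4.ResCount

variable {F : Type*} [Field F]

/-- polynomials of degree at most `k` -/
abbrev W (F : Type*) [Field F] (k : ℕ) := {g : F[X] // g.natDegree ≤ k}

/-- the polynomial with coefficient vector `d` -/
def pol (k : ℕ) (d : Fin (k+1) → F) : F[X] := ∑ j : Fin (k+1), C (d j) * X ^ (j : ℕ)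

lemma natDegree_pol_le (k : ℕ) (d : Fin (k+1) → F) : (pol k d).natDegree ≤ k :=
  natDegree_sum_le_of_forall_le _ _ fun j _ =>
    (natDegree_C_mul_X_pow_le _ _).trans (Nat.lt_succ_iff.1 j.2)

lemma coeff_pol (k : ℕ) (d : Fin (k+1) → F) (i : Fin (k+1)) : (pol k d).coeff i = d i := by
  simp only [pol, finsetSum_coeff, coeff_C_mul, coeff_X_pow]
  rw [Finset.sum_eq_single i]
  · simp
  · intro j _ hji
    have : (i : ℕ) ≠ j := fun h => hji (Fin.ext h.symm)
    simp [this]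
  · simp

lemma pol_coeff (k : ℕ) (g : F[X]) (hg : g.natDegree ≤ k) :
    pol k (fun j : Fin (k+1) => g.coeff j) = g := by
  ext i
  by_cases hi : i < k + 1
  · exact coeff_pol k _ ⟨i, hi⟩
  · rw [coeff_eq_zero_of_natDegree_lt (lt_of_le_of_lt hg (by omega)),
      coeff_eq_zero_of_natDegree_lt (lt_of_le_of_lt (natDegree_pol_le k _) (by omega))]

/-- coefficient vectors ≃ bounded degree polynomials -/
def E (k : ℕ) : (Fin (k+1) → F) ≃ W F k where
  toFun d := ⟨pol k d, natDegree_pol_le k d⟩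
  invFun g := fun j => g.1.coeff j
  left_inv d := funext fun j => coeff_pol k d j
  right_inv g := Subtype.ext (pol_coeff k g.1 g.2)

instance [Finite F] (k : ℕ) : Finite (W F k) := Finite.of_equiv _ (E k)

lemma card_W [Finite F] (k : ℕ) : Nat.card (W F k) = Nat.card F ^ (k + 1) := by
  rw [← Nat.card_congr (E (F := F) k), Nat.card_fun]
  simp

lemma card_ne_zero : Nat.card {t : F // t ≠ 0} = Nat.card F - 1 := by
  rw [← Nat.card_congr (unitsEquivNeZero (G₀ := F)), Nat.card_units]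

section Strip
variable (u : F[X]) (a k : ℕ)

def sft (t : F) : F[X] := u * (C (t / u.coeff a) * X ^ (k + 1 - a))

lemma natDegree_sft_le (ha : a ≤ k + 1) (hu : u.natDegree ≤ a) (t : F) :
    (sft u a k t).natDegree ≤ k + 1 := by
  refine natDegree_mul_le.trans ?_
  have := natDegree_C_mul_X_pow_le (t / u.coeff a) (k + 1 - a)
  omega

lemma coeff_sft (ha : a ≤ k + 1) (hua : u.coeff a ≠ 0) (t : F) :
    (sft u a k t).coeff (k + 1) = t := by
  rw [sft, mul_left_comm, coeff_C_mul, coeff_mul_X_pow', if_pos (Nat.sub_le _ _),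
    Nat.sub_sub_self ha]
  field_simp

def stripEquiv (ha : a ≤ k + 1) (hu : u.natDegree ≤ a) (hua : u.coeff a ≠ 0) :
    W F (k+1) ≃ F × W F k where
  toFun g := (g.1.coeff (k+1), ⟨g.1 - sft u a k (g.1.coeff (k+1)), by
    rw [natDegree_le_iff_coeff_eq_zero]
    intro N hN
    rcases Nat.lt_or_ge (k+1) N with h | h
    · rw [coeff_sub, coeff_eq_zero_of_natDegree_lt (lt_of_le_of_lt g.2 h),
        coeff_eq_zero_of_natDegree_lt (lt_of_le_of_lt (natDegree_sft_le u a k ha hu _) h), sub_zero]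
    · obtain rfl : N = k + 1 := by omega
      rw [coeff_sub, coeff_sft u a k ha hua, sub_self]⟩)
  invFun x := ⟨x.2.1 + sft u a k x.1, (natDegree_add_le _ _).trans
    (max_le (x.2.2.trans (Nat.le_succ k)) (natDegree_sft_le u a k ha hu _))⟩
  left_inv g := Subtype.ext (by simp)
  right_inv x := by
    have h1 : (x.2.1 + sft u a k x.1).coeff (k+1) = x.1 := by
      rw [coeff_add, coeff_sft u a k ha hua,
        coeff_eq_zero_of_natDegree_lt (Nat.lt_succ_of_le x.2.2), zero_add]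
    refine Prod.ext h1 (Subtype.ext ?_)
    simp only [h1]
    ring

lemma res_strip (ha : a ≤ k+1) (hu : u.natDegree ≤ a) (g' : F[X]) (hg' : g'.natDegree ≤ k) (t : F) :
    resultant u (g' + sft u a k t) a (k+1) = u.coeff a * resultant u g' a k := by
  have hp : (C (t / u.coeff a) * X ^ (k + 1 - a)).natDegree + a ≤ k + 1 := by
    have := natDegree_C_mul_X_pow_le (t / u.coeff a) (k + 1 - a)
    omega
  rw [sft, resultant_add_mul_right u g' _ a (k+1) hp hu, resultant_add_right_deg u g' a k 1 hg',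
    pow_one]

lemma card_strip (ha : a ≤ k + 1) (hu : u.natDegree ≤ a) (hua : u.coeff a ≠ 0) (Q : F → Prop) :
    Nat.card {g : W F (k+1) // Q (g.1.coeff (k+1)) ∧ resultant u g.1 a (k+1) ≠ 0} =
      Nat.card {t : F // Q t} * Nat.card {g : W F k // resultant u g.1 a k ≠ 0} := by
  rw [← Nat.card_prod]
  have e1 : {x : F × W F k // Q x.1 ∧ resultant u x.2.1 a k ≠ 0} ≃
      {g : W F (k+1) // Q (g.1.coeff (k+1)) ∧ resultant u g.1 a (k+1) ≠ 0} :=
    (stripEquiv u a k ha hu hua).symm.subtypeEquiv (fun x => by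
      have hc : (x.2.1 + sft u a k x.1).coeff (k+1) = x.1 := by
        rw [coeff_add, coeff_sft u a k ha hua,
          coeff_eq_zero_of_natDegree_lt (Nat.lt_succ_of_le x.2.2), zero_add]
      show Q x.1 ∧ _ ↔ Q ((x.2.1 + sft u a k x.1).coeff (k+1)) ∧
        resultant u (x.2.1 + sft u a k x.1) a (k+1) ≠ 0
      rw [hc, res_strip u a k ha hu _ x.2.2, mul_ne_zero_iff]
      exact ⟨fun h => ⟨h.1, hua, h.2⟩, fun h => ⟨h.1, h.2.2⟩⟩)
  exact Nat.card_congr (e1.symm.trans (Equiv.subtypeProdEquivProd (p := Q)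
    (q := fun g : W F k => resultant u g.1 a k ≠ 0)))

end Strip

/-- number of `g` of degree ≤ k with `Res_{a,k}(u,g) ≠ 0` -/
def T (u : F[X]) (a k : ℕ) : ℕ := Nat.card {g : W F k // resultant u g.1 a k ≠ 0}

/-- same, with nonzero top coefficient -/
def Tt (u : F[X]) (a k : ℕ) : ℕ :=
  Nat.card {g : W F k // g.1.coeff k ≠ 0 ∧ resultant u g.1 a k ≠ 0}

lemma T_succ [Finite F] (u : F[X]) (a k : ℕ) (ha : a ≤ k + 1) (hu : u.natDegree ≤ a)
    (hua : u.coeff a ≠ 0) : T u a (k+1) = Nat.card F * T u a k := by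
  have := card_strip u a k ha hu hua (fun _ => True)
  rw [Nat.card_congr (Equiv.subtypeUnivEquiv (fun _ => trivial))] at this
  rw [T, T, ← this]
  exact Nat.card_congr (Equiv.subtypeEquivRight (by simp))

lemma Tt_succ [Finite F] (u : F[X]) (a k : ℕ) (ha : a ≤ k + 1) (hu : u.natDegree ≤ a)
    (hua : u.coeff a ≠ 0) : Tt u a (k+1) = (Nat.card F - 1) * T u a k := by
  have := card_strip u a k ha hu hua (fun t => t ≠ 0)
  rw [card_ne_zero] at this
  rw [Tt, T, ← this]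

/-- number of `g` of degree ≤ k+1 with nonzero top coefficient -/
lemma card_top_ne_zero [Finite F] (k : ℕ) :
    Nat.card {g : W F (k+1) // g.1.coeff (k+1) ≠ 0} = (Nat.card F - 1) * Nat.card F ^ (k+1) := by
  have := card_strip (1 : F[X]) 0 k (Nat.zero_le _) (by simp) (by simp) (fun t => t ≠ 0)
  rw [card_ne_zero] at this
  have h2 : Nat.card {g : W F k // resultant (1 : F[X]) g.1 0 k ≠ 0} = Nat.card F ^ (k+1) := by
    rw [← card_W k]
    exact Nat.card_congr (Equiv.subtypeUnivEquiv (fun g => by simp))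
  rw [h2] at this
  rw [← this]
  exact Nat.card_congr (Equiv.subtypeEquivRight (fun g => by simp))

end Groth.Agent.H4.ResCount

namespace Groth.Agent.H4.ResCount

variable {F : Type*} [Field F] [Finite F]

lemma T_one_zero (r : F[X]) : T r 1 0 = Nat.card F - 1 := by
  rw [T, ← card_ne_zero]
  let e : W F 0 ≃ F := (E (F := F) 0).symm.trans (Equiv.funUnique (Fin 1) F)
  refine Nat.card_congr (e.subtypeEquiv fun g => ?_)
  rw [resultant_zero_right_deg, pow_one]
  rfl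

lemma T_one (r : F[X]) (hr : r.natDegree ≤ 1) (hr1 : r.coeff 1 ≠ 0) (k : ℕ) :
    T r 1 k = Nat.card F ^ k * (Nat.card F - 1) := by
  induction k with
  | zero => rw [T_one_zero, pow_zero, one_mul]
  | succ k ih => rw [T_succ r 1 k (by omega) hr hr1, ih, pow_succ]; ring

lemma Tt_one (r : F[X]) (hr : r.natDegree ≤ 1) (hr1 : r.coeff 1 ≠ 0) (k : ℕ) :
    Tt r 1 (k+1) = (Nat.card F - 1) * (Nat.card F ^ k * (Nat.card F - 1)) := by
  rw [Tt_succ r 1 k (by omega) hr hr1, T_one r hr hr1]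

lemma T_two (f : F[X]) (hf : f.natDegree ≤ 2) (hf2 : f.coeff 2 ≠ 0) (k : ℕ) :
    T f 2 (k+1) = Nat.card F ^ k * T f 2 1 := by
  induction k with
  | zero => rw [pow_zero, one_mul]
  | succ k ih => rw [T_succ f 2 (k+1) (by omega) hf hf2, ih, pow_succ]; ring

/-- `f` of degree ≤ 1 with nonzero linear coefficient, formal degree 2 -/
lemma T_two_of_deg_one (f : F[X]) (hf : f.natDegree ≤ 1) (hf1 : f.coeff 1 ≠ 0) (k : ℕ) :
    T f 2 (k+1) = (Nat.card F - 1) * (Nat.card F ^ k * (Nat.card F - 1)) := by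
  rw [← Tt_one f hf hf1, T, Tt]
  refine Nat.card_congr (Equiv.subtypeEquivRight fun g => ?_)
  rw [resultant_succ_left_deg f g.1 1 (k+1) hf, mul_ne_zero_iff, mul_ne_zero_iff]
  have : ((-1 : F)) ^ (k+1) ≠ 0 := pow_ne_zero _ (neg_ne_zero.2 one_ne_zero)
  tauto

lemma T_two_C (s : F) (hs : s ≠ 0) (k : ℕ) :
    T (C s) 2 (k+1) = (Nat.card F - 1) * Nat.card F ^ (k+1) := by
  rw [← card_top_ne_zero, T]
  refine Nat.card_congr (Equiv.subtypeEquivRight fun g => ?_)
  rw [resultant_C_left, mul_ne_zero_iff, mul_ne_zero_iff]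
  have h1 : ((-1 : F)) ^ (2 * (k+1)) ≠ 0 := pow_ne_zero _ (neg_ne_zero.2 one_ne_zero)
  have h2 : s ^ (k+1) ≠ 0 := pow_ne_zero _ hs
  constructor
  · intro h; exact fun h0 => h.1.2 (by rw [h0]; simp)
  · intro h; exact ⟨⟨h1, pow_ne_zero _ h⟩, h2⟩

lemma T_two_zero (k : ℕ) : T (0 : F[X]) 2 (k+1) = 0 := by
  rw [T]
  haveI : IsEmpty {g : W F (k+1) // resultant (0 : F[X]) g.1 2 (k+1) ≠ 0} :=
    ⟨fun g => g.2 (by simp)⟩
  exact Nat.card_of_isEmpty

/-- counts of `f` of degree ≤ 2 with nonzero top coefficient and `Res_{2,1}(f,r) ≠ 0`. -/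
def Bc (r : F[X]) : ℕ := Nat.card {f : W F 2 // f.1.coeff 2 ≠ 0 ∧ resultant f.1 r 2 1 ≠ 0}

lemma Bc_of_coeff_one (r : F[X]) (hr : r.natDegree ≤ 1) (hr1 : r.coeff 1 ≠ 0) :
    Bc r = (Nat.card F - 1) * (Nat.card F * (Nat.card F - 1)) := by
  have := Tt_one r hr hr1 1
  rw [pow_one] at this
  rw [← this, Bc, Tt]
  refine Nat.card_congr (Equiv.subtypeEquivRight fun f => ?_)
  rw [resultant_comm f.1 r 2 1]
  simp

lemma Bc_C (s : F) (hs : s ≠ 0) : Bc (C s) = (Nat.card F - 1) * Nat.card F ^ 2 := by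
  rw [← card_top_ne_zero, Bc]
  refine Nat.card_congr (Equiv.subtypeEquivRight fun f => ?_)
  rw [resultant_C_right, pow_one, mul_ne_zero_iff]
  have : s ^ 2 ≠ 0 := pow_ne_zero _ hs
  tauto

lemma Bc_zero : Bc (0 : F[X]) = 0 := by
  rw [Bc]
  haveI : IsEmpty {f : W F 2 // f.1.coeff 2 ≠ 0 ∧ resultant f.1 (0 : F[X]) 2 1 ≠ 0} :=
    ⟨fun f => f.2.2 (by simp)⟩
  exact Nat.card_of_isEmpty

end Groth.Agent.H4.ResCount

namespace Groth.Agent.H4.ResCount

variable {F : Type*} [Field F] [Fintype F] [DecidableEq F]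

lemma card_subtype_prod {A B : Type*} [Fintype A] [Finite B] (P : A → B → Prop) :
    Nat.card {p : A × B // P p.1 p.2} = ∑ a, Nat.card {b : B // P a b} := by
  rw [Nat.card_congr (Equiv.subtypeProdEquivSigmaSubtype P), Nat.card_sigma]

lemma sum_card_swap {A B : Type*} [Fintype A] [Fintype B] (P : A → B → Prop) :
    ∑ a, Nat.card {b : B // P a b} = ∑ b, Nat.card {a : A // P a b} := by
  rw [← card_subtype_prod P, ← card_subtype_prod (fun b a => P a b)]
  exact Nat.card_congr ((Equiv.prodComm A B).subtypeEquiv (fun p => Iff.rfl))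

def chi (K₁ K₂ : ℕ) (a b : F) : ℕ := if b ≠ 0 then K₁ else if a ≠ 0 then K₂ else 0

lemma sum_ite_ne_zero (x y : ℕ) :
    ∑ b : F, (if b ≠ 0 then x else y) = (Nat.card F - 1) * x + y := by
  rw [← Finset.add_sum_erase Finset.univ _ (Finset.mem_univ (0:F))]
  rw [if_neg (by simp), Finset.sum_congr rfl (fun b hb => if_pos (Finset.ne_of_mem_erase hb)),
    Finset.sum_const, Finset.card_erase_of_mem (Finset.mem_univ _), Finset.card_univ, smul_eq_mul,
    Nat.card_eq_fintype_card]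
  ring

lemma sum_chi (K₁ K₂ : ℕ) :
    ∑ a : F, ∑ b : F, chi K₁ K₂ a b =
      Nat.card F * ((Nat.card F - 1) * K₁) + (Nat.card F - 1) * K₂ := by
  simp only [chi, sum_ite_ne_zero, Finset.sum_add_distrib, Finset.sum_const, Finset.card_univ,
    smul_eq_mul, add_zero]
  rw [Nat.card_eq_fintype_card]

def e2 : F × F ≃ (Fin 2 → F) where
  toFun x := ![x.1, x.2]
  invFun d := (d 0, d 1)
  left_inv x := by simp
  right_inv d := by ext i; fin_cases i <;> simp

def e3 : F × F × F ≃ (Fin 3 → F) where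
  toFun x := ![x.1, x.2.1, x.2.2]
  invFun c := (c 0, c 1, c 2)
  left_inv x := by simp
  right_inv c := by ext i; fin_cases i <;> simp

lemma sum_fin2 (h : (Fin 2 → F) → ℕ) : ∑ d, h d = ∑ a : F, ∑ b : F, h ![a, b] := by
  rw [← e2.sum_comp h, Fintype.sum_prod_type]; rfl

lemma sum_fin3 (h : (Fin 3 → F) → ℕ) :
    ∑ c, h c = ∑ a : F, ∑ b : F, ∑ e : F, h ![a, b, e] := by
  rw [← e3.sum_comp h, Fintype.sum_prod_type]
  refine Finset.sum_congr rfl fun a _ => ?_
  rw [Fintype.sum_prod_type]; rfl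

lemma pol_one' (d : Fin 2 → F) : pol 1 d = C (d 0) + C (d 1) * X := by
  simp [pol, Fin.sum_univ_two]

lemma pol_two' (c : Fin 3 → F) : pol 2 c = C (c 0) + C (c 1) * X + C (c 2) * X ^ 2 := by
  simp [pol, Fin.sum_univ_three]

lemma Bc_pol (d : Fin 2 → F) :
    Bc (pol 1 d) = chi ((Nat.card F - 1) * (Nat.card F * (Nat.card F - 1)))
      ((Nat.card F - 1) * Nat.card F ^ 2) (d 0) (d 1) := by
  unfold chi
  split_ifs with hb ha
  · refine Bc_of_coeff_one _ (natDegree_pol_le 1 _) ?_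
    have h1 : (pol 1 d).coeff 1 = d 1 := by simpa using coeff_pol 1 d 1
    rw [h1]; exact hb
  · have hb0 : d 1 = 0 := not_not.1 hb
    have : pol 1 d = C (d 0) := by rw [pol_one', hb0]; simp
    rw [this]; exact Bc_C _ ha
  · have hb0 : d 1 = 0 := not_not.1 hb
    have ha0 : d 0 = 0 := not_not.1 ha
    have : pol 1 d = 0 := by rw [pol_one', hb0, ha0]; simp
    rw [this]; exact Bc_zero

lemma T_pol (c : Fin 3 → F) (k : ℕ) : T (pol 2 c) 2 (k+1) =
    (if c 2 ≠ 0 then Nat.card F ^ k * T (pol 2 c) 2 1 else 0) +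
    (if c 2 ≠ 0 then 0 else chi ((Nat.card F - 1) * (Nat.card F ^ k * (Nat.card F - 1)))
      ((Nat.card F - 1) * Nat.card F ^ (k+1)) (c 0) (c 1)) := by
  have h2 : (pol 2 c).coeff 2 = c 2 := by simpa using coeff_pol 2 c 2
  split_ifs with he
  · rw [add_zero]
    exact T_two _ (natDegree_pol_le 2 _) (by rw [h2]; exact he) k
  · have he0 : c 2 = 0 := not_not.1 he
    rw [zero_add]
    have hp : pol 2 c = pol 1 ![c 0, c 1] := by
      rw [pol_two', pol_one', he0]; simp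
    rw [hp]
    unfold chi
    split_ifs with hb ha
    · refine T_two_of_deg_one _ (natDegree_pol_le 1 _) ?_ k
      have h1 : (pol 1 ![c 0, c 1]).coeff 1 = c 1 := by simpa using coeff_pol 1 ![c 0, c 1] 1
      rw [h1]; exact hb
    · have hb0 : c 1 = 0 := not_not.1 hb
      have : pol 1 ![c 0, c 1] = C (c 0) := by rw [pol_one', hb0]; simp
      rw [this]; exact T_two_C _ ha k
    · have hb0 : c 1 = 0 := not_not.1 hb
      have ha0 : c 0 = 0 := not_not.1 ha
      have : pol 1 ![c 0, c 1] = 0 := by rw [pol_one', hb0, ha0]; simp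
      rw [this]; exact T_two_zero k

lemma Bsum :
    ∑ c : Fin 3 → F, (if c 2 ≠ 0 then T (pol 2 c) 2 1 else 0) =
      Nat.card F * ((Nat.card F - 1) * ((Nat.card F - 1) * (Nat.card F * (Nat.card F - 1)))) +
        (Nat.card F - 1) * ((Nat.card F - 1) * Nat.card F ^ 2) := by
  letI : Fintype (W F 1) := Fintype.ofFinite _
  have h1 : ∀ c : Fin 3 → F, (if c 2 ≠ 0 then T (pol 2 c) 2 1 else 0) =
      Nat.card {r : W F 1 // c 2 ≠ 0 ∧ resultant (pol 2 c) r.1 2 1 ≠ 0} := by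
    intro c
    split_ifs with he
    · rw [T]
      exact Nat.card_congr (Equiv.subtypeEquivRight fun r => by simp [he])
    · haveI : IsEmpty {r : W F 1 // c 2 ≠ 0 ∧ resultant (pol 2 c) r.1 2 1 ≠ 0} :=
        ⟨fun r => he r.2.1⟩
      exact Nat.card_of_isEmpty.symm
  rw [Finset.sum_congr rfl (fun c _ => h1 c),
    sum_card_swap (fun (c : Fin 3 → F) (r : W F 1) => c 2 ≠ 0 ∧ resultant (pol 2 c) r.1 2 1 ≠ 0)]
  have h2 : ∀ r : W F 1, Nat.card {c : Fin 3 → F // c 2 ≠ 0 ∧ resultant (pol 2 c) r.1 2 1 ≠ 0} =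
      Bc r.1 := by
    intro r
    rw [Bc]
    refine Nat.card_congr ((E (F := F) 2).subtypeEquiv fun c => ?_)
    have h2 : (pol 2 c).coeff 2 = c 2 := by simpa using coeff_pol 2 c 2
    show _ ↔ (pol 2 c).coeff 2 ≠ 0 ∧ resultant (pol 2 c) r.1 2 1 ≠ 0
    rw [h2]
  rw [Finset.sum_congr rfl (fun r _ => h2 r), ← (E (F := F) 1).sum_comp (fun r => Bc r.1)]
  show ∑ d : Fin 2 → F, Bc (pol 1 d) = _
  rw [Finset.sum_congr rfl (fun d _ => Bc_pol d),
    sum_fin2 (fun d => chi _ _ (d 0) (d 1))]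
  simp only [Matrix.cons_val_zero, Matrix.cons_val_one]
  exact sum_chi _ _

theorem count_formula (k : ℕ) :
    Nat.card {p : (Fin 3 → F) × (Fin (k+2) → F) //
      resultant (pol 2 p.1) (pol (k+1) p.2) 2 (k+1) ≠ 0} =
    Nat.card F ^ k *
      (Nat.card F * ((Nat.card F - 1) * ((Nat.card F - 1) * (Nat.card F * (Nat.card F - 1)))) +
        (Nat.card F - 1) * ((Nat.card F - 1) * Nat.card F ^ 2)) +
    (Nat.card F * ((Nat.card F - 1) * ((Nat.card F - 1) * (Nat.card F ^ k * (Nat.card F - 1)))) +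
        (Nat.card F - 1) * ((Nat.card F - 1) * Nat.card F ^ (k+1))) := by
  rw [card_subtype_prod (fun (c : Fin 3 → F) (d : Fin (k+2) → F) =>
    resultant (pol 2 c) (pol (k+1) d) 2 (k+1) ≠ 0)]
  have h1 : ∀ c : Fin 3 → F,
      Nat.card {d : Fin (k+2) → F // resultant (pol 2 c) (pol (k+1) d) 2 (k+1) ≠ 0} =
        T (pol 2 c) 2 (k+1) := by
    intro c
    rw [T]
    exact Nat.card_congr ((E (F := F) (k+1)).subtypeEquiv fun d => Iff.rfl)
  rw [Finset.sum_congr rfl (fun c _ => h1 c), Finset.sum_congr rfl (fun c _ => T_pol c k),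
    Finset.sum_add_distrib]
  congr 1
  · rw [← Bsum, Finset.mul_sum]
    refine Finset.sum_congr rfl fun c _ => ?_
    split_ifs <;> simp
  · rw [sum_fin3 (fun c => if c 2 ≠ 0 then 0 else chi _ _ (c 0) (c 1))]
    simp only [Matrix.cons_val_zero, Matrix.cons_val_one, Matrix.cons_val_two, Matrix.tail_cons,
      Matrix.head_cons]
    simp only [sum_ite_ne_zero, mul_zero, zero_add]
    exact sum_chi _ _

end Groth.Agent.H4.ResCount

namespace Groth.Agent.H4.ResCount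

lemma arith (q k : ℕ) (hq : 2 ≤ q) :
    q ^ k * (q * ((q - 1) * ((q - 1) * (q * (q - 1)))) + (q - 1) * ((q - 1) * q ^ 2)) +
    (q * ((q - 1) * ((q - 1) * (q ^ k * (q - 1)))) + (q - 1) * ((q - 1) * q ^ (k+1))) =
    q ^ (k + 1 + 4) - q ^ (k + 1 + 3) - q ^ (k + 1 + 2) + q ^ (k + 1 + 1) := by
  obtain ⟨p, rfl⟩ : ∃ p, q = p + 1 := ⟨q - 1, by omega⟩
  have hp : p + 1 - 1 = p := by omega
  rw [hp]
  have h1 : (p+1) ^ k * ((p+1) * (p * (p * ((p+1) * p))) + p * (p * (p+1) ^ 2)) +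
    ((p+1) * (p * (p * ((p+1) ^ k * p))) + p * (p * (p+1) ^ (k+1))) + (p+1) ^ (k + 1 + 3)
      + (p+1) ^ (k + 1 + 2) = (p+1) ^ (k + 1 + 4) + (p+1) ^ (k + 1 + 1) := by ring
  have h2 : (p+1) ^ (k + 1 + 3) + (p+1) ^ (k + 1 + 2) ≤ (p+1) ^ (k + 1 + 4) := by
    have h3 : (p + 1) + 1 ≤ (p+1)^2 := by nlinarith
    calc (p+1) ^ (k + 1 + 3) + (p+1) ^ (k + 1 + 2) = (p+1)^(k+1+2) * ((p+1) + 1) := by ring
      _ ≤ (p+1)^(k+1+2) * (p+1)^2 := Nat.mul_le_mul_left _ h3
      _ = (p+1)^(k+1+4) := by ring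
  omega

theorem main25 (F : Type*) [Field F] [Fintype F] (n : ℕ) (h2 : 2 ≤ n) :
    Nat.card {p : (Fin 3 → F) × (Fin (n + 1) → F) //
      Polynomial.resultant (∑ i : Fin 3, Polynomial.C (p.1 i) * Polynomial.X ^ (i : ℕ))
        (∑ j : Fin (n + 1), Polynomial.C (p.2 j) * Polynomial.X ^ (j : ℕ)) 2 n ≠ 0} =
      Fintype.card F ^ (n + 4) - Fintype.card F ^ (n + 3) - Fintype.card F ^ (n + 2)
        + Fintype.card F ^ (n + 1) := by
  classical
  obtain ⟨k, rfl⟩ : ∃ k, n = k + 1 := ⟨n - 1, by omega⟩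
  refine (count_formula (F := F) k).trans ?_
  rw [Nat.card_eq_fintype_card]
  exact arith _ k Fintype.one_lt_card

section Fib

variable {F : Type*} [Field F]

lemma pol_smul (k : ℕ) (s : F) (d : Fin (k+1) → F) : pol k (s • d) = C s * pol k d := by
  simp only [pol, Pi.smul_apply, smul_eq_mul, C_mul, Finset.mul_sum, mul_assoc]

/-- the resultant of the pair of forms -/
def Rs (n : ℕ) (p : (Fin 3 → F) × (Fin (n+1) → F)) : F :=
  resultant (pol 2 p.1) (pol n p.2) 2 n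

lemma Rs_smul (n : ℕ) (s t : F) (c : Fin 3 → F) (d : Fin (n+1) → F) :
    Rs n (s • c, t • d) = s ^ n * t ^ 2 * Rs n (c, d) := by
  simp only [Rs]
  rw [pol_smul 2 s c, pol_smul n t d, resultant_C_mul_left, resultant_C_mul_right]
  ring

def fibEquiv (k : ℕ) (s : F) (hs : s ≠ 0) :
    {p : (Fin 3 → F) × (Fin (2*k+1+1) → F) // Rs (2*k+1) p = 1} ≃
      {p : (Fin 3 → F) × (Fin (2*k+1+1) → F) // Rs (2*k+1) p = s} where
  toFun p := ⟨(s • p.1.1, (s⁻¹)^k • p.1.2), by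
    rw [Rs_smul, show (p.1.1, p.1.2) = p.1 from rfl, p.2, mul_one, ← pow_mul, inv_pow,
      mul_comm k 2, pow_succ, mul_right_comm, mul_inv_cancel₀ (pow_ne_zero _ hs), one_mul]⟩
  invFun p := ⟨(s⁻¹ • p.1.1, s^k • p.1.2), by
    rw [Rs_smul, show (p.1.1, p.1.2) = p.1 from rfl, p.2, ← pow_mul, inv_pow,
      mul_comm k 2, pow_succ]
    field_simp⟩
  left_inv p := by
    refine Subtype.ext (Prod.ext ?_ ?_)
    · show s⁻¹ • s • p.1.1 = p.1.1
      rw [smul_smul, inv_mul_cancel₀ hs, one_smul]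
    · show s^k • (s⁻¹)^k • p.1.2 = p.1.2
      rw [smul_smul, ← mul_pow, mul_inv_cancel₀ hs, one_pow, one_smul]
  right_inv p := by
    refine Subtype.ext (Prod.ext ?_ ?_)
    · show s • s⁻¹ • p.1.1 = p.1.1
      rw [smul_smul, mul_inv_cancel₀ hs, one_smul]
    · show (s⁻¹)^k • s^k • p.1.2 = p.1.2
      rw [smul_smul, ← mul_pow, inv_mul_cancel₀ hs, one_pow, one_smul]

lemma card_ne_zero_eq_mul {α : Type*} (f : α → F)
    (e : ∀ s : F, s ≠ 0 → ({a // f a = 1} ≃ {a // f a = s})) :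
    Nat.card {a // f a ≠ 0} = Nat.card {s : F // s ≠ 0} * Nat.card {a // f a = 1} := by
  rw [← Nat.card_prod]
  refine Nat.card_congr ?_
  let g : {a // f a ≠ 0} → {s : F // s ≠ 0} := fun a => ⟨f a.1, a.2⟩
  refine (Equiv.sigmaFiberEquiv g).symm.trans ?_
  refine ((Equiv.sigmaCongrRight fun s => ?_).trans (Equiv.sigmaEquivProd _ _))
  refine Equiv.trans ?_ (e s.1 s.2).symm
  exact
    { toFun := fun x => ⟨x.1.1, congrArg Subtype.val x.2⟩
      invFun := fun a => ⟨⟨a.1, by rw [a.2]; exact s.2⟩, Subtype.ext a.2⟩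
      left_inv := fun x => rfl
      right_inv := fun a => rfl }

end Fib

lemma arith2 (q k M : ℕ) (hq : 2 ≤ q)
    (h : q ^ k * (q * ((q - 1) * ((q - 1) * (q * (q - 1)))) + (q - 1) * ((q - 1) * q ^ 2)) +
    (q * ((q - 1) * ((q - 1) * (q ^ k * (q - 1)))) + (q - 1) * ((q - 1) * q ^ (k+1))) =
      (q - 1) * M) :
    M = q ^ (k + 1 + 3) - q ^ (k + 1 + 1) := by
  obtain ⟨p, rfl⟩ : ∃ p, q = p + 1 := ⟨q - 1, by omega⟩
  have hp : p + 1 - 1 = p := by omega
  rw [hp] at h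
  have hp0 : 0 < p := by omega
  have e2 : (p+1) ^ k * ((p+1) * (p * (p * ((p+1) * p))) + p * (p * (p+1) ^ 2)) +
    ((p+1) * (p * (p * ((p+1) ^ k * p))) + p * (p * (p+1) ^ (k+1))) + p * (p+1) ^ (k + 1 + 1)
      = p * (p+1) ^ (k + 1 + 3) := by ring
  have e3 : (p+1) ^ (k + 1 + 3) - (p+1) ^ (k + 1 + 1) + (p+1) ^ (k + 1 + 1) = (p+1) ^ (k + 1 + 3) :=
    Nat.sub_add_cancel (Nat.pow_le_pow_right (by omega) (by omega))
  have e4 : p * ((p+1) ^ (k + 1 + 3) - (p+1) ^ (k + 1 + 1)) + p * (p+1) ^ (k + 1 + 1) =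
      p * (p+1) ^ (k + 1 + 3) := by rw [← mul_add, e3]
  have e5 : p * M = p * ((p+1) ^ (k + 1 + 3) - (p+1) ^ (k + 1 + 1)) := by omega
  exact Nat.eq_of_mul_eq_mul_left hp0 e5

theorem main24 (F : Type*) [Field F] [Fintype F] (n : ℕ) (hn : Odd n) (h3 : 3 ≤ n) :
    Nat.card {p : (Fin 3 → F) × (Fin (n + 1) → F) //
      Polynomial.resultant (∑ i : Fin 3, Polynomial.C (p.1 i) * Polynomial.X ^ (i : ℕ))
        (∑ j : Fin (n + 1), Polynomial.C (p.2 j) * Polynomial.X ^ (j : ℕ)) 2 n = 1} =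
      Fintype.card F ^ (n + 3) - Fintype.card F ^ (n + 1) := by
  classical
  obtain ⟨k, rfl⟩ := hn
  have h1 := count_formula (F := F) (2*k)
  have h2 := card_ne_zero_eq_mul (Rs (F := F) (2*k+1)) (fun s hs => fibEquiv k s hs)
  rw [card_ne_zero] at h2
  have h3 : Nat.card {p : (Fin 3 → F) × (Fin (2*k+1+1) → F) // Rs (2*k+1) p ≠ 0} =
      Nat.card {p : (Fin 3 → F) × (Fin (2*k+2) → F) //
        resultant (pol 2 p.1) (pol (2*k+1) p.2) 2 (2*k+1) ≠ 0} := rfl
  rw [h3, h1] at h2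
  rw [← Nat.card_eq_fintype_card]
  exact arith2 (Nat.card F) (2*k) _ (Nat.card_eq_fintype_card (α := F) ▸ Fintype.one_lt_card) h2

end Groth.Agent.H4.ResCount

end
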