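import Mathlib

/-!
# The Reynolds operator of a finite group of invertible order (helper4)

`B/A` an invariant extension for a finite group `G` (`Algebra.IsInvariant A B G`), `A → B` injective,
`|G|` a unit of `A`.  Then `A` is a direct summand of `B` as an `A`-module; consequently flatness,
finite type and finite presentation over a base ring `R` descend from `B` to `A`.
-/

set_option autoImplicit false
universe u
namespace Groth.Agent.H4.ReynoldsA

section

variable {A B : Type u} [CommRing A] [CommRing B] [Algebra A B]
  {G : Type*} [Group G] [Finite G] [MulSemiringAction G B] [SMulCommClass G A B]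

variable (A B G) in
/-- the sum over the group, an `A`-linear endomorphism of `B`. -/
noncomputable def trB : B →ₗ[A] B :=
  letI := Fintype.ofFinite G
  ∑ g : G, DistribMulAction.toLinearMap A B g

lemma trB_apply (b : B) :
    letI := Fintype.ofFinite G
    trB A B G b = ∑ g : G, g • b := by
  letI := Fintype.ofFinite G
  simp only [trB, LinearMap.sum_apply]
  rfl

lemma smul_trB (h : G) (b : B) : h • trB A B G b = trB A B G b := by
  letI := Fintype.ofFinite G
  rw [trB_apply, Finset.smul_sum]
  simp_rw [← mul_smul]
  exact Fintype.sum_equiv (Equiv.mulLeft h) _ _ (fun g => rfl)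

lemma trB_algebraMap (a : A) : trB A B G (algebraMap A B a) = (Nat.card G : A) • algebraMap A B a := by
  letI := Fintype.ofFinite G
  rw [trB_apply]
  simp_rw [smul_algebraMap]
  rw [Finset.sum_const, Finset.card_univ, Nat.card_eq_fintype_card, Nat.cast_smul_eq_nsmul]

variable [Algebra.IsInvariant A B G]

lemma trB_mem_range (b : B) : trB A B G b ∈ LinearMap.range (Algebra.linearMap A B) := by
  obtain ⟨a, ha⟩ := Algebra.IsInvariant.isInvariant (A := A) (G := G) (trB A B G b)
    (fun g => smul_trB g b)
  exact ⟨a, ha⟩

/-- The Reynolds operator: an `A`-linear retraction of `A → B`. -/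
theorem exists_reynolds (hinj : Function.Injective (algebraMap A B))
    (hn : IsUnit ((Nat.card G : ℕ) : A)) :
    ∃ r : B →ₗ[A] A, ∀ a, r (algebraMap A B a) = a := by
  let e := LinearEquiv.ofInjective (Algebra.linearMap A B) hinj
  let r0 : B →ₗ[A] A := e.symm.toLinearMap ∘ₗ
    (trB A B G).codRestrict (LinearMap.range (Algebra.linearMap A B)) trB_mem_range
  have h0 : ∀ a, r0 (algebraMap A B a) = (Nat.card G : A) * a := by
    intro a
    change e.symm _ = _
    rw [LinearEquiv.symm_apply_eq]
    apply Subtype.ext
    change trB A B G (algebraMap A B a) = algebraMap A B ((Nat.card G : A) * a)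
    rw [trB_algebraMap, map_mul, Algebra.smul_def]
  obtain ⟨u, hu⟩ := hn
  refine ⟨(↑u⁻¹ : A) • r0, fun a => ?_⟩
  rw [LinearMap.smul_apply, h0, smul_eq_mul, ← mul_assoc, ← hu, Units.inv_mul, one_mul]

end

section base

variable {R A B : Type u} [CommRing R] [CommRing A] [CommRing B] [Algebra A B]
  [Algebra R A] [Algebra R B] [IsScalarTower R A B]
  {G : Type*} [Group G] [Finite G] [MulSemiringAction G B] [SMulCommClass G A B]
  [Algebra.IsInvariant A B G]

include G in
theorem flat_of_flat (hinj : Function.Injective (algebraMap A B))
    (hn : IsUnit ((Nat.card G : ℕ) : A)) [Module.Flat R B] : Module.Flat R A := by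
  obtain ⟨r, hr⟩ := exists_reynolds (G := G) hinj hn
  refine Module.Flat.of_retract (M := B) ((IsScalarTower.toAlgHom R A B).toLinearMap)
    (r.restrictScalars R) ?_
  ext a
  simp [hr]

include G in
theorem finiteType_of_finiteType (hinj : Function.Injective (algebraMap A B))
    (hn : IsUnit ((Nat.card G : ℕ) : A)) [Algebra.FiniteType R B] : Algebra.FiniteType R A := by
  have hint : Algebra.IsIntegral A B := Algebra.IsInvariant.isIntegral A B G
  have : Algebra.FiniteType A B := Algebra.FiniteType.of_restrictScalars_finiteType R A B
  have hfin : Module.Finite A B := Algebra.IsIntegral.finite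
  obtain ⟨A₀, hA₀, hfg⟩ := exists_subalgebra_of_fg (A := R) (B := A) B
    (Algebra.FiniteType.out) (Module.Finite.fg_top)
  obtain ⟨r, hr⟩ := exists_reynolds (G := G) hinj hn
  have h1 : Module.Finite A₀ B := ⟨hfg⟩
  have h2 : Module.Finite A₀ A :=
    Module.Finite.of_surjective (r.restrictScalars A₀) (fun a => ⟨algebraMap A B a, hr a⟩)
  have h3 : Algebra.FiniteType R A₀ := (Subalgebra.fg_iff_finiteType _).mp hA₀
  exact Algebra.FiniteType.trans h3 inferInstance

include G in
theorem finitePresentation_of_finitePresentation (hinj : Function.Injective (algebraMap A B))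
    (hn : IsUnit ((Nat.card G : ℕ) : A)) [Algebra.FinitePresentation R B] :
    Algebra.FinitePresentation R A := by
  have hft : Algebra.FiniteType R A := finiteType_of_finiteType (G := G) hinj hn
  obtain ⟨n, f, hf⟩ := Algebra.FiniteType.iff_quotient_mvPolynomial''.mp hft
  letI : Algebra (MvPolynomial (Fin n) R) A := f.toRingHom.toAlgebra
  letI : Algebra (MvPolynomial (Fin n) R) B := ((algebraMap A B).comp f.toRingHom).toAlgebra
  haveI : IsScalarTower (MvPolynomial (Fin n) R) A B := IsScalarTower.of_algebraMap_eq (fun _ => rfl)
  haveI : IsScalarTower R (MvPolynomial (Fin n) R) A :=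
    IsScalarTower.of_algebraMap_eq (fun x => (f.commutes x).symm)
  haveI : IsScalarTower R (MvPolynomial (Fin n) R) B :=
    IsScalarTower.of_algebraMap_eq (fun x => by
      change algebraMap R B x = algebraMap A B (f (algebraMap R _ x))
      rw [f.commutes, ← IsScalarTower.algebraMap_apply])
  haveI : Algebra.FinitePresentation (MvPolynomial (Fin n) R) B :=
    Algebra.FinitePresentation.of_restrict_scalars_finitePresentation R _ B
  haveI : Module.Finite (MvPolynomial (Fin n) R) A :=
    Module.Finite.of_surjective (Algebra.linearMap (MvPolynomial (Fin n) R) A) hf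
  have hint : Algebra.IsIntegral A B := Algebra.IsInvariant.isIntegral A B G
  haveI : Algebra.FiniteType A B := Algebra.FiniteType.of_restrictScalars_finiteType R A B
  haveI : Module.Finite A B := Algebra.IsIntegral.finite
  haveI : Module.Finite (MvPolynomial (Fin n) R) B := Module.Finite.trans A B
  haveI : Module.FinitePresentation (MvPolynomial (Fin n) R) B :=
    Module.FinitePresentation.of_finite_of_finitePresentation _ _
  obtain ⟨r, hr⟩ := exists_reynolds (G := G) hinj hn
  have hker : (LinearMap.ker (r.restrictScalars (MvPolynomial (Fin n) R))).FG := by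
    have : LinearMap.ker (r.restrictScalars (MvPolynomial (Fin n) R)) =
        LinearMap.range (LinearMap.id - ((Algebra.linearMap A B).restrictScalars
          (MvPolynomial (Fin n) R)) ∘ₗ (r.restrictScalars (MvPolynomial (Fin n) R))) := by
      ext b
      simp only [LinearMap.mem_ker, LinearMap.restrictScalars_apply, LinearMap.mem_range,
        LinearMap.sub_apply, LinearMap.id_apply, LinearMap.comp_apply, Algebra.linearMap_apply]
      constructor
      · intro h
        exact ⟨b, by rw [h, map_zero, sub_zero]⟩
      · rintro ⟨c, rfl⟩
        rw [map_sub, hr, sub_self]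
    rw [this]
    rw [LinearMap.range_eq_map]
    exact Module.Finite.fg_top.map _
  haveI : Module.FinitePresentation (MvPolynomial (Fin n) R) A :=
    Module.finitePresentation_of_surjective (r.restrictScalars (MvPolynomial (Fin n) R))
      (fun a => ⟨algebraMap A B a, hr a⟩) hker
  have hk : (LinearMap.ker (Algebra.linearMap (MvPolynomial (Fin n) R) A)).FG :=
    Module.FinitePresentation.fg_ker _ hf
  exact Algebra.FinitePresentation.of_surjective (f := f) hf hk

end base

end Groth.Agent.H4.ReynoldsA
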