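import Mathlib
import Groth.Agent.Lib.Helper2.QuotA
import Groth.Agent.H4.ReynoldsA

/-!
# Quotients by finite groups of invertible order: descent of flatness / finite presentation (helper4)
-/

set_option autoImplicit false
universe u
open CategoryTheory Limits AlgebraicGeometry TopologicalSpace Opposite

namespace Groth.Agent.H4.ReynoldsB

open Groth.Agent.H2.Quot Groth.Agent.H4.ReynoldsA

variable {X Y S : Scheme.{u}} {G : Type u} [Group G] [Finite G] (ρ : G →* Aut X)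
  (π : X ⟶ Y) (q : Y ⟶ S)

include q in
theorem isUnit_card_of_top (hG : IsUnit ((Nat.card G : ℕ) : Γ(S, ⊤))) (V : Y.Opens) :
    IsUnit ((Nat.card G : ℕ) : Γ(Y, V)) := by
  have := hG.map (q.appTop ≫ Y.presheaf.map (homOfLE (le_top : V ≤ q ⁻¹ᵁ ⊤)).op).hom
  rwa [map_natCast] at this

theorem appLE_comp_eq (U : S.Opens) (V : Y.Opens) (e : V ≤ q ⁻¹ᵁ U)
    (e' : π ⁻¹ᵁ V ≤ (π ≫ q) ⁻¹ᵁ U) :
    (π ≫ q).appLE U (π ⁻¹ᵁ V) e' = q.appLE U V e ≫ π.app V := by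
  rw [Scheme.Hom.app_eq_appLE, Scheme.Hom.appLE_comp_appLE]

theorem descent_appLE (hquot : SGA1.IsQuot ρ π) (hG : IsUnit ((Nat.card G : ℕ) : Γ(S, ⊤)))
    (U : S.Opens) (V : Y.Opens) (e : V ≤ q ⁻¹ᵁ U) (e' : π ⁻¹ᵁ V ≤ (π ≫ q) ⁻¹ᵁ U) :
    (((π ≫ q).appLE U (π ⁻¹ᵁ V) e').hom.Flat → (q.appLE U V e).hom.Flat) ∧
    (((π ≫ q).appLE U (π ⁻¹ᵁ V) e').hom.FiniteType → (q.appLE U V e).hom.FiniteType) ∧
    (((π ≫ q).appLE U (π ⁻¹ᵁ V) e').hom.FinitePresentation →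
      (q.appLE U V e).hom.FinitePresentation ∧ (π.app V).hom.FinitePresentation) := by
  letI := action ρ π hquot.inv V
  letI := algebra π V
  haveI := smulCommClass ρ π hquot.inv V
  haveI := isInvariant hquot V
  letI : Algebra Γ(S, U) Γ(Y, V) := (q.appLE U V e).hom.toAlgebra
  letI : Algebra Γ(S, U) Γ(X, π ⁻¹ᵁ V) := ((π ≫ q).appLE U (π ⁻¹ᵁ V) e').hom.toAlgebra
  haveI : IsScalarTower Γ(S, U) Γ(Y, V) Γ(X, π ⁻¹ᵁ V) := IsScalarTower.of_algebraMap_eq (fun x => by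
    change ((π ≫ q).appLE U (π ⁻¹ᵁ V) e').hom x = (π.app V).hom ((q.appLE U V e).hom x)
    rw [appLE_comp_eq π q U V e e']
    rfl)
  have hinj : Function.Injective (algebraMap Γ(Y, V) Γ(X, π ⁻¹ᵁ V)) := hquot.injective V
  have hn := isUnit_card_of_top q hG V
  refine ⟨fun h => ?_, fun h => ?_, fun h => ⟨?_, ?_⟩⟩
  · haveI : Module.Flat Γ(S, U) Γ(X, π ⁻¹ᵁ V) := h
    exact flat_of_flat (G := G) hinj hn
  · haveI : Algebra.FiniteType Γ(S, U) Γ(X, π ⁻¹ᵁ V) := h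
    exact finiteType_of_finiteType (G := G) hinj hn
  · haveI : Algebra.FinitePresentation Γ(S, U) Γ(X, π ⁻¹ᵁ V) := h
    exact finitePresentation_of_finitePresentation (G := G) hinj hn
  · haveI : Algebra.FinitePresentation Γ(S, U) Γ(X, π ⁻¹ᵁ V) := h
    haveI : Algebra.FiniteType Γ(S, U) Γ(Y, V) := finiteType_of_finiteType (G := G) hinj hn
    exact Algebra.FinitePresentation.of_restrict_scalars_finitePresentation Γ(S, U) Γ(Y, V) _

end Groth.Agent.H4.ReynoldsB
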