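import Mathlib
import Groth.Agent.H4.ReynoldsB
import Groth.Agent.S2908
import Groth.Agent.S2909

/-!
# Quotients of proper schemes by finite groups (helper4)
-/

set_option autoImplicit false
universe u
open CategoryTheory Limits AlgebraicGeometry TopologicalSpace Opposite

namespace Groth.Agent.H4.ReynoldsC

open Groth.Agent.H4.ReynoldsB

theorem fp_stable :
    RingHom.StableUnderCompositionWithLocalizationAwaySource @RingHom.FinitePresentation := by
  intro R S T _ _ _ _ r _ f hf
  refine hf.comp ?_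
  have : Algebra.FinitePresentation R S := IsLocalization.Away.finitePresentation r
  exact (RingHom.finitePresentation_algebraMap).mpr this

theorem main {X Y S : Scheme.{u}} (f : X ⟶ S) [IsProper f]
    {G : Type u} [Group G] [Finite G] (ρ : G →* Aut X) (hρ : ∀ g : G, (ρ g).hom ≫ f = f)
    (π : X ⟶ Y) (q : Y ⟶ S) (hπ : π ≫ q = f) (hquot : SGA1.IsQuot ρ π) :
    (Surjective π ∧ IsFinite π ∧ IsOpenMap π ∧ IsClosedMap π) ∧
      (IsUnit ((Nat.card G : ℕ) : Γ(S, ⊤)) →
        (Flat f → Flat q) ∧ IsSeparated q ∧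
        (LocallyOfFinitePresentation f →
          IsProper q ∧ LocallyOfFinitePresentation q ∧ LocallyOfFinitePresentation π)) := by
  subst hπ
  obtain ⟨hsurj, horb, hquotmap⟩ := Groth.Agent.S2908.result ρ π hquot
  obtain ⟨-, hsep, hfin, -⟩ := Groth.Agent.S2909.result ρ π hquot (π ≫ q) q rfl hρ
  haveI : Surjective π := ⟨hsurj⟩
  haveI : IsFinite π := hfin inferInstance
  haveI : IsAffineHom π := hquot.affine
  have hopen : IsOpenMap π := by
    intro O hO
    rw [← hquotmap.isOpen_preimage]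
    have : π ⁻¹' (π '' O) = ⋃ g : G, (ρ g).hom ⁻¹' O := by
      ext x
      simp only [Set.mem_preimage, Set.mem_image, Set.mem_iUnion]
      constructor
      · rintro ⟨x', hx', hxx'⟩
        obtain ⟨g, hg⟩ := (horb x x').mp hxx'.symm
        exact ⟨g, by rw [← hg] at hx'; exact hx'⟩
      · rintro ⟨g, hg⟩
        exact ⟨(ρ g).hom x, hg, ((horb x _).mpr ⟨g, rfl⟩).symm⟩
    rw [this]
    exact isOpen_iUnion fun g => hO.preimage (ρ g).hom.continuous
  refine ⟨⟨inferInstance, inferInstance, hopen, π.isClosedMap⟩, fun hG => ?_⟩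
  have hsepq : IsSeparated q := hsep.mp inferInstance
  have hle : ∀ (U : S.Opens) (V : Y.Opens), V ≤ q ⁻¹ᵁ U → π ⁻¹ᵁ V ≤ (π ≫ q) ⁻¹ᵁ U := by
    intro U V e
    rw [Scheme.Hom.comp_preimage]
    exact π.preimage_mono e
  refine ⟨fun hfl => ?_, hsepq, fun hfp => ?_⟩
  · rw [HasRingHomProperty.iff_appLE (P := @Flat)]
    intro U V e
    exact (descent_appLE ρ π q hquot hG U.1 V.1 e (hle _ _ e)).1
      (HasRingHomProperty.appLE @Flat _ hfl U ⟨π ⁻¹ᵁ V.1, V.2.preimage π⟩ (hle _ _ e))
  · haveI hUC : UniversallyClosed q := UniversallyClosed.of_comp_surjective π q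
    haveI hlfpq : LocallyOfFinitePresentation q := by
      rw [HasRingHomProperty.iff_appLE (P := @LocallyOfFinitePresentation)]
      intro U V e
      exact ((descent_appLE ρ π q hquot hG U.1 V.1 e (hle _ _ e)).2.2
        (HasRingHomProperty.appLE @LocallyOfFinitePresentation _ hfp U
          ⟨π ⁻¹ᵁ V.1, V.2.preimage π⟩ (hle _ _ e))).1
    have hlfpπ : LocallyOfFinitePresentation π := by
      rw [HasRingHomProperty.iff_exists_appLE (P := @LocallyOfFinitePresentation) fp_stable]
      intro x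
      obtain ⟨U, hU, hxU, -⟩ := Opens.isBasis_iff_nbhd.mp S.isBasis_affineOpens
        (Opens.mem_top (q (π x)))
      obtain ⟨V, hV, hxV, e⟩ := Opens.isBasis_iff_nbhd.mp Y.isBasis_affineOpens
        (show π x ∈ q ⁻¹ᵁ U from hxU)
      refine ⟨⟨V, hV⟩, ⟨π ⁻¹ᵁ V, hV.preimage π⟩, hxV, le_rfl, ?_⟩
      have := ((descent_appLE ρ π q hquot hG U V e (hle _ _ e)).2.2
        (HasRingHomProperty.appLE @LocallyOfFinitePresentation _ hfp ⟨U, hU⟩
          ⟨π ⁻¹ᵁ V, hV.preimage π⟩ (hle _ _ e))).2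
      rwa [Scheme.Hom.app_eq_appLE] at this
    haveI : LocallyOfFiniteType q := inferInstance
    exact ⟨{}, hlfpq, hlfpπ⟩

end Groth.Agent.H4.ReynoldsC
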