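import Mathlib.AlgebraicGeometry.Group.Smooth
import Mathlib.AlgebraicGeometry.Group.Abelian
import Mathlib.AlgebraicGeometry.Morphisms.Separated
import Mathlib.AlgebraicGeometry.Morphisms.Proper
import Mathlib.AlgebraicGeometry.Morphisms.FiniteType
import Mathlib.CategoryTheory.Monoidal.Cartesian.Over
import Mathlib.CategoryTheory.Monoidal.Cartesian.Grp

set_option autoImplicit false
universe u
open CategoryTheory MonoidalCategory CartesianMonoidalCategory MonObj GrpObj AlgebraicGeometry Limits

namespace Groth.Agent.H4.Rigidity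

variable {K : Type u} [Field K]

set_option backward.defeqAttrib.useBackward true in
set_option backward.isDefEq.respectTransparency false in
theorem rigidity_algClosed [IsAlgClosed K] (V W U : Over (Spec (CommRingCat.of K)))
    [IsProper V.hom] [IsIntegral (V ⊗ W).left]
    [LocallyOfFiniteType W.hom]
    [IsSeparated U.hom] [LocallyOfFiniteType U.hom]
    (f : V ⊗ W ⟶ U) (v₀ : 𝟙_ (Over (Spec (CommRingCat.of K))) ⟶ V) (w₀ : 𝟙_ (Over (Spec (CommRingCat.of K))) ⟶ W)
    (u₀ : 𝟙_ (Over (Spec (CommRingCat.of K))) ⟶ U)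
    (hV : lift (𝟙 V) (toUnit V ≫ w₀) ≫ f = toUnit V ≫ u₀)
    (hW : lift (toUnit W ≫ v₀) (𝟙 W) ≫ f = toUnit W ≫ u₀) :
    f = toUnit (V ⊗ W) ≫ u₀ := by
  let S := Spec (.of K)
  let point : S := IsLocalRing.closedPoint K
  have hpoint : IsClosed {point} := isClosed_discrete _
  have : LocallyOfFiniteType (V ⊗ W).hom := by dsimp; infer_instance
  have : JacobsonSpace (V ⊗ W).left := LocallyOfFiniteType.jacobsonSpace (Y := Spec _) (V ⊗ W).hom
  have : IsProper (snd V W).left := by dsimp; infer_instance
  have : IsSeparated (snd U W).left := by dsimp; infer_instance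
  have : LocallyOfFiniteType (snd U W).left := by dsimp; infer_instance
  let γ : V ⊗ W ⟶ U ⊗ W := lift f (snd _ _)
  have : IsProper (γ.left ≫ (snd U W).left) := by simpa [γ]
  have : IsProper γ.left := .of_comp _ (snd U W).left
  have hclosedPt : ∀ (X : Over S) [LocallyOfFiniteType X.hom] (p : 𝟙_ (Over S) ⟶ X),
      IsClosed {p.left point} := fun X _ p =>
    (pointEquivClosedPoint X.hom ⟨p.left, Over.w p⟩).2
  have : LocallyOfFiniteType (U ⊗ W).hom := by dsimp; infer_instance
  have H : γ.left '' ((snd V W).left ⁻¹' {w₀.left point}) ⊆ {(lift u₀ w₀).left point} := by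
    rw [Set.image_subset_iff, ← Set.sdiff_eq_empty, ← Set.not_nonempty_iff_eq_empty]
    intro H
    obtain ⟨c₀, ⟨hc₁, hc₂⟩, hc₃⟩ := nonempty_inter_closedPoints H <| by
      rw [Set.sdiff_eq_compl_inter]
      refine (IsOpen.isLocallyClosed ?_).inter (IsClosed.isLocallyClosed ?_)
      · exact ((hclosedPt _ (lift u₀ w₀)).preimage γ.left.continuous).isOpen_compl
      · exact (hclosedPt _ w₀).preimage (snd V W).left.continuous
    obtain ⟨⟨c, hc⟩, e⟩ := (pointEquivClosedPoint (V ⊗ W).hom).surjective ⟨c₀, hc₃⟩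
    obtain rfl : c point = c₀ := congr(($e).1)
    let cO : 𝟙_ (Over S) ⟶ V ⊗ W := Over.homMk c hc
    have h1 : cO ≫ snd V W = w₀ := by
      ext1
      refine ext_of_apply_closedPoint_eq W.hom (Over.w (cO ≫ snd V W)) (Over.w w₀) ?_
      simpa [cO] using hc₁
    have h2 : cO = (cO ≫ fst V W) ≫ lift (𝟙 V) (toUnit V ≫ w₀) := by
      ext1 <;> simp [h1]
    have h3 : cO ≫ γ = lift u₀ w₀ := by
      have hf : cO ≫ f = u₀ := by
        rw [h2, Category.assoc, hV, ← Category.assoc, toUnit_unique (_ ≫ toUnit V) (𝟙 _),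
          Category.id_comp]
      ext1
      · simp [γ, hf]
      · simp [γ, h1]
    apply hc₂
    have : γ.left (c point) = (cO ≫ γ).left point := by
      rw [Over.comp_left, Scheme.Hom.comp_apply]; rfl
    rw [Set.mem_preimage, this, h3]
    rfl
  obtain ⟨W', hwW', H⟩ := exists_finite_imageι_comp_morphismRestrict_of_finite_image_preimage
    γ.left (snd U W).left (w₀.left point) (by
      dsimp [-Scheme.Hom.comp_base, γ]
      simp only [pullback.lift_snd]
      exact (Set.finite_singleton _).subset H)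
  have H (x : W') : ((pullback.snd U.hom W.hom) ⁻¹' {x.1} ∩ Set.range ⇑γ.left).Finite := by
    refine ((((γ.left.imageι ≫ (snd U W).left) ∣_ W').finite_preimage_singleton x).image
      (Scheme.Opens.ι _ ≫ γ.left.imageι)).subset ?_
    have : W'.ι ⁻¹' {x.1} = {x} := by ext; simp
    rw [← this, ← Set.preimage_comp, ← TopCat.coe_comp, ← Scheme.Hom.comp_base,
      morphismRestrict_ι, ← Category.assoc, Scheme.Hom.comp_base (_ ≫ _) (snd U W).left,
      TopCat.coe_comp, Set.preimage_comp, Set.image_preimage_eq_inter_range]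
    simp only [Scheme.Hom.comp_base, TopCat.coe_comp, Set.range_comp, Scheme.Opens.range_ι]
    dsimp
    rw [Set.image_preimage_eq_inter_range, Scheme.IdealSheafData.range_subschemeι,
      Scheme.Hom.support_ker, ← Set.inter_assoc, ← Set.preimage_inter,
      Set.singleton_inter_of_mem x.2, IsClosed.closure_eq
      (by exact γ.left.isClosedMap.isClosed_range)]
  ext1
  have : LocallyOfFiniteType (f.left ≫ U.hom) := by rw [Over.w]; infer_instance
  refine ext_of_apply_eq U.hom ((snd V W).left ⁻¹ᵁ W')
    ((snd V W).left ⁻¹ᵁ W').isOpen.isLocallyClosed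
    (((snd V W).left ⁻¹ᵁ W').isOpen.dense ?_) ?_ ?_
  · refine ⟨(lift v₀ w₀).left point, ?_⟩
    change (snd V W).left ((lift v₀ w₀).left point) ∈ W'
    rw [← Scheme.Hom.comp_apply, ← Over.comp_left, lift_snd]
    exact hwW'
  · intro y hyW hy
    have hx : IsClosed {(snd V W).left y} := by simpa using (snd V W).left.isClosedMap _ hy
    let x : 𝟙_ _ ⟶ W := Over.homMk (pointOfClosedPoint W.hom _ hx) (by simp)
    let xe : (U ⊗ W).left := (lift (toUnit (V ⊗ W) ≫ u₀) (snd V W)).left y
    let β : V ⊗ W ⟶ V ⊗ W := snd V W ≫ lift (toUnit W ≫ v₀) (𝟙 W)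
    have hβγ : β ≫ γ = lift (toUnit (V ⊗ W) ≫ u₀) (snd V W) := by
      ext1
      · simp only [β, γ, Category.assoc, lift_fst, hW]
        rw [← Category.assoc, toUnit_unique (snd V W ≫ toUnit W) (toUnit _)]
      · simp [β, γ]
    have : γ.left y = xe := by
      refine subsingleton_image_closure_of_finite_of_isPreirreducible
        (hx.preimage (snd V W).left.continuous).isLocallyClosed ?_ γ.left.continuous
        γ.left.isClosedMap ((H ⟨_, hyW⟩).subset (Set.image_subset_iff.mpr fun _ ↦ by
          simp [← Scheme.Hom.comp_apply, -Scheme.Hom.comp_base, γ])) ?_ ?_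
      · let α : V ⊗ W ⟶ V ⊗ W := 𝟙 _ ⊗ₘ (toUnit _ ≫ x)
        convert!
          ((IrreducibleSpace.isIrreducible_univ _).image α.left
              α.left.continuous.continuousOn).isPreirreducible
        rw [Over.tensorHom_left]
        simp [Set.range_comp, Scheme.Pullback.range_map, x]
        rw [Set.Nonempty.image_const (Set.range_nonempty_iff_nonempty.2 ⟨(snd V W).left y⟩)]
      · exact ⟨y, subset_closure (by simp), rfl⟩
      · refine ⟨β.left y, subset_closure ?_, ?_⟩
        · simp [β, ← Scheme.Hom.comp_apply, -Scheme.Hom.comp_base]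
        · simp only [xe, ← hβγ, ← Scheme.Hom.comp_apply, ← Over.comp_left]
    convert! congr((fst U W).left $this) using 1
    · simp [γ, ← Scheme.Hom.comp_apply]
    · simp [xe, ← Scheme.Hom.comp_apply, -Scheme.Hom.comp_base]
  · simp

set_option backward.defeqAttrib.useBackward true in
theorem rigidity (V W U : Over (Spec (CommRingCat.of K)))
    [IsProper V.hom] [GeometricallyIntegral V.hom]
    [LocallyOfFiniteType W.hom] [GeometricallyIntegral W.hom]
    [IsSeparated U.hom] [LocallyOfFiniteType U.hom]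
    (f : V ⊗ W ⟶ U) (v₀ : 𝟙_ (Over (Spec (CommRingCat.of K))) ⟶ V) (w₀ : 𝟙_ (Over (Spec (CommRingCat.of K))) ⟶ W)
    (u₀ : 𝟙_ (Over (Spec (CommRingCat.of K))) ⟶ U)
    (hV : lift (𝟙 V) (toUnit V ≫ w₀) ≫ f = toUnit V ≫ u₀)
    (hW : lift (toUnit W ≫ v₀) (𝟙 W) ≫ f = toUnit W ≫ u₀) :
    f = toUnit (V ⊗ W) ≫ u₀ := by
  let g := Spec.map (CommRingCat.ofHom <| algebraMap K (AlgebraicClosure K))
  let F := Over.pullback g
  let V' := F.obj V
  let W' := F.obj W
  let U' := F.obj U
  have : IsProper V'.hom := by dsimp [V', F]; infer_instance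
  have : GeometricallyIntegral V'.hom := by dsimp [V', F]; infer_instance
  have : LocallyOfFiniteType W'.hom := by dsimp [W', F]; infer_instance
  have : GeometricallyIntegral W'.hom := by dsimp [W', F]; infer_instance
  have : IsSeparated U'.hom := by dsimp [U', F]; infer_instance
  have : LocallyOfFiniteType U'.hom := by dsimp [U', F]; infer_instance
  have : IsIntegral W'.left := GeometricallyIntegral.isIntegral_of_subsingleton W'.hom
  have : IsLocallyNoetherian W'.left := LocallyOfFiniteType.isLocallyNoetherian W'.hom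
  have : IsIntegral (V' ⊗ W').left := by dsimp; infer_instance
  have key := rigidity_algClosed V' W' U' (Functor.LaxMonoidal.μ F V W ≫ F.map f)
    (Functor.LaxMonoidal.ε F ≫ F.map v₀) (Functor.LaxMonoidal.ε F ≫ F.map w₀)
    (Functor.LaxMonoidal.ε F ≫ F.map u₀) ?_ ?_
  · apply F.map_injective
    rw [← cancel_epi (Functor.Monoidal.μIso F V W).hom]
    refine (show (Functor.Monoidal.μIso F V W).hom ≫ F.map f = _ from key).trans ?_
    rw [F.map_comp, ← Functor.Monoidal.toUnit_ε (F := F) (V ⊗ W)]
    simp only [← Category.assoc]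
    congr 2
    exact toUnit_unique _ _
  · have := congrArg F.map hV
    rw [F.map_comp, F.map_comp, ← Functor.Monoidal.lift_μ, F.map_id, F.map_comp,
      ← Functor.Monoidal.toUnit_ε] at this
    simpa only [Category.assoc] using this
  · have := congrArg F.map hW
    rw [F.map_comp, F.map_comp, ← Functor.Monoidal.lift_μ, F.map_id, F.map_comp,
      ← Functor.Monoidal.toUnit_ε] at this
    simpa only [Category.assoc] using this

end Groth.Agent.H4.Rigidity
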