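import Mathlib
import Groth.Agent.H4.GapHom
import Groth.Agent.H4.InjAmp4
import Groth.Agent.H4.ExtBr

set_option autoImplicit false
universe u
open CategoryTheory CategoryTheory.Limits

namespace Groth.Agent.H4.S12094Lib

attribute [local instance] HasDerivedCategory.standard
open DerivedCategory DRing Pretriangulated Groth.Agent.H4.DRing1

variable {R : Type u} [CommRing R]

/-- the canonical triangle of an object with cohomology in degrees `-1, 0`. -/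
theorem exists_twoTerm_triangle (K : Dual.D R)
    (hK : ∀ i : ℤ, i ≠ -1 → i ≠ 0 → Subsingleton (Dual.HD R K i)) :
    ∃ (u : (Dual.inD R (Dual.HD R K (-1)))⟦(1 : ℤ)⟧ ⟶ K) (v : K ⟶ Dual.inD R (Dual.HD R K 0))
      (w : Dual.inD R (Dual.HD R K 0) ⟶ ((Dual.inD R (Dual.HD R K (-1)))⟦(1 : ℤ)⟧)⟦(1 : ℤ)⟧),
      Triangle.mk u v w ∈ distinguishedTriangles := by
  have hz : ∀ i : ℤ, i ≠ -1 → i ≠ 0 → IsZero ((homologyFunctor (ModuleCat.{u} R) i).obj K) :=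
    fun i h1 h0 => by
      haveI := hK i h1 h0
      exact ModuleCat.isZero_of_subsingleton _
  let T := (TStructure.t.triangleLTGE 0).obj K
  have hT : T ∈ distinguishedTriangles := TStructure.t.triangleLTGE_distinguished 0 K
  haveI : T.obj₁.IsLE (0 - 1) := inferInstanceAs (TStructure.t.IsLE T.obj₁ (0 - 1))
  haveI : T.obj₃.IsGE 0 := inferInstanceAs (TStructure.t.IsGE T.obj₃ 0)
  haveI : T.obj₁.IsLE (-1) := inferInstanceAs (T.obj₁.IsLE (0 - 1))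
  haveI : T.obj₁.IsGE (-1) := by
    rw [isGE_iff]
    intro i hi
    have h := isIso_homology_mor₁ T hT 0 i (by omega)
    exact (hz i (by omega) (by omega)).of_iso
      (@asIso _ _ _ _ ((homologyFunctor (ModuleCat.{u} R) i).map T.mor₁) h)
  haveI : T.obj₃.IsLE 0 := by
    rw [isLE_iff]
    intro i hi
    have h := isIso_homology_mor₂ T hT 0 i (by omega)
    exact (hz i (by omega) (by omega)).of_iso
      (@asIso _ _ _ _ ((homologyFunctor (ModuleCat.{u} R) i).map T.mor₂) h).symm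
  obtain ⟨Y₁, ⟨e₁⟩⟩ := exists_iso_singleFunctor_obj_of_isGE_of_isLE T.obj₁ (-1)
  obtain ⟨Y₃, ⟨e₃⟩⟩ := exists_iso_singleFunctor_obj_of_isGE_of_isLE T.obj₃ 0
  have hi₁ := isIso_homology_mor₁ T hT 0 (-1) (by omega)
  have hi₃ := isIso_homology_mor₂ T hT 0 0 le_rfl
  have f₁ : (homologyFunctor (ModuleCat.{u} R) (-1)).obj K ≅ Y₁ :=
    (@asIso _ _ _ _ ((homologyFunctor (ModuleCat.{u} R) (-1)).map T.mor₁) hi₁).symm ≪≫
      (homologyFunctor _ (-1)).mapIso e₁ ≪≫ homologySingleIso (-1) Y₁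
  have f₃ : (homologyFunctor (ModuleCat.{u} R) 0).obj K ≅ Y₃ :=
    @asIso _ _ _ _ ((homologyFunctor (ModuleCat.{u} R) 0).map T.mor₂) hi₃ ≪≫
      (homologyFunctor _ 0).mapIso e₃ ≪≫ homologySingleIso 0 Y₃
  let g₁ : T.obj₁ ≅ (Dual.inD R (Dual.HD R K (-1)))⟦(1 : ℤ)⟧ :=
    e₁ ≪≫ (singleFunctor (ModuleCat.{u} R) (-1)).mapIso f₁.symm ≪≫
      (((singleFunctors (ModuleCat.{u} R)).shiftIso 1 (-1) 0 (by omega)).app _).symm
  let g₃ : T.obj₃ ≅ Dual.inD R (Dual.HD R K 0) :=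
    e₃ ≪≫ (singleFunctor (ModuleCat.{u} R) 0).mapIso f₃.symm
  refine ⟨g₁.inv ≫ T.mor₁, T.mor₂ ≫ g₃.hom, g₃.inv ≫ T.mor₃ ≫ g₁.hom⟦(1 : ℤ)⟧', ?_⟩
  refine isomorphic_distinguished _ hT _ (Triangle.isoMk _ _ g₁.symm (Iso.refl _) g₃.symm ?_ ?_ ?_)
  · exact Category.comp_id _
  · change (T.mor₂ ≫ g₃.hom) ≫ g₃.inv = 𝟙 _ ≫ T.mor₂
    rw [Category.assoc, Iso.hom_inv_id, Category.comp_id, Category.id_comp]
  · change (g₃.inv ≫ T.mor₃ ≫ g₁.hom⟦(1 : ℤ)⟧') ≫ g₁.inv⟦(1 : ℤ)⟧' = g₃.inv ≫ T.mor₃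
    rw [Category.assoc, Category.assoc, ← Functor.map_comp, Iso.hom_inv_id,
      CategoryTheory.Functor.map_id, Category.comp_id]


/-- the single functor in degree `0` -/
noncomputable abbrev sF' : ModuleCat.{u} R ⥤ Dual.D R := DerivedCategory.singleFunctor (ModuleCat.{u} R) 0

lemma smul_id_shift_single (H : ModuleCat.{u} R) (a : R) (ha : ∀ x : H, a • x = 0) (n : ℤ) :
    a • 𝟙 ((sF'.obj H)⟦n⟧) = 0 := by
  have h0 : a • 𝟙 H = 0 := by
    refine ModuleCat.hom_ext (LinearMap.ext fun x => ?_)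
    exact ha x
  have h1 : a • 𝟙 (sF'.obj H) = 0 := by
    rw [← CategoryTheory.Functor.map_id, ← Functor.map_smul, h0, Functor.map_zero]
  rw [← CategoryTheory.Functor.map_id, ← Functor.map_smul, h1, Functor.map_zero]

lemma hom_shift_two_eq_zero (H N : ModuleCat.{u} R)
    (g : ((sF'.obj H)⟦(1 : ℤ)⟧)⟦(1 : ℤ)⟧ ⟶ (sF'.obj N)⟦(1 : ℤ)⟧) : g = 0 := by
  haveI : ((sF'.obj H)⟦(1 : ℤ)⟧).IsLE (-1) := TStructure.t.isLE_shift _ 0 1 (-1) (by omega)
  haveI : (((sF'.obj H)⟦(1 : ℤ)⟧)⟦(1 : ℤ)⟧).IsLE (-2) := TStructure.t.isLE_shift _ (-1) 1 (-2) (by omega)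
  haveI : ((sF'.obj N)⟦(1 : ℤ)⟧).IsGE (-1) := TStructure.t.isGE_shift _ 0 1 (-1) (by omega)
  exact TStructure.t.zero_of_isLE_of_isGE g (-2) (-1) (by omega) inferInstance inferInstance

lemma hom_injective_eq_zero (X E : ModuleCat.{u} R) [Injective E] (i : ℤ) (hi : i ≠ 0)
    (h : sF'.obj X ⟶ (sF'.obj E)⟦i⟧) : h = 0 := by
  have hE : VanishesOutside (Groth.Agent.H4.ExtBr.sg E) 0 0 := by
    intro j hj
    exact HomologicalComplex.isZero_single_obj_X _ _ _ _ (by omega)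
  have hinj : TermwiseInjective (Groth.Agent.H4.ExtBr.sg E) :=
    fun j => Groth.Agent.H4.InjAmp.injective_sgl_X E 0 j
  haveI := Groth.Agent.H4.InjAmp.ext_subsingleton_of_rep (Groth.Agent.H4.ExtBr.sg E) 0 0 hE hinj
    (sF'.obj E) (Iso.refl _) X i (by omega)
  exact Subsingleton.elim _ _

lemma hom_neg_one_injective_eq_zero (X E : ModuleCat.{u} R) [Injective E]
    (h : (sF'.obj X)⟦(-1 : ℤ)⟧ ⟶ (sF'.obj E)⟦(1 : ℤ)⟧) : h = 0 := by
  let Z := sF'.obj X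
  let α : Z ⟶ (Z⟦(-1 : ℤ)⟧)⟦(1 : ℤ)⟧ := (shiftFunctorCompIsoId (Dual.D R) (-1) 1 (by omega)).inv.app Z
  let β : ((sF'.obj E)⟦(1 : ℤ)⟧)⟦(1 : ℤ)⟧ ⟶ (sF'.obj E)⟦(2 : ℤ)⟧ :=
    (shiftFunctorAdd' (Dual.D R) 1 1 2 (by omega)).inv.app (sF'.obj E)
  have h1 : α ≫ h⟦(1 : ℤ)⟧' ≫ β = 0 := hom_injective_eq_zero X E 2 (by omega) _
  haveI : IsIso α := inferInstanceAs (IsIso ((shiftFunctorCompIsoId (Dual.D R) (-1) 1 (by omega)).inv.app Z))
  haveI : IsIso β := inferInstanceAs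
    (IsIso ((shiftFunctorAdd' (Dual.D R) 1 1 2 (by omega)).inv.app (sF'.obj E)))
  have h2 : h⟦(1 : ℤ)⟧' = 0 := by
    have := (cancel_epi α).1 (h1.trans comp_zero.symm)
    exact (cancel_mono β).1 (this.trans zero_comp.symm)
  exact (shiftFunctor (Dual.D R) (1 : ℤ)).map_injective (h2.trans (Functor.map_zero _ _ _).symm)


theorem S12094 {R : Type u} [CommRing R] (I : Ideal R) (K : Dual.D R)
    (hK : ∀ i : ℤ, i ≠ -1 → i ≠ 0 → Subsingleton (Dual.HD R K i)) :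
    (∃ c : ℕ, ∀ (N : Type u) [AddCommGroup N] [Module R N] (a : R), a ∈ I ^ c →
        ∀ ξ : K ⟶ (Dual.inD R N)⟦(1 : ℤ)⟧, a • ξ = 0) ↔
      ∃ c : ℕ, (∀ a : R, a ∈ I ^ c → ∀ x : Dual.HD R K (-1), a • x = 0) ∧
        ∀ (N : Type u) [AddCommGroup N] [Module R N] (a : R), a ∈ I ^ c →
          ∀ ξ : Dual.inD R (Dual.HD R K 0) ⟶ (Dual.inD R N)⟦(1 : ℤ)⟧, a • ξ = 0 := by
  obtain ⟨u, v, w, hT⟩ := exists_twoTerm_triangle K hK
  let H1 : ModuleCat.{u} R := (homologyFunctor (ModuleCat.{u} R) (-1)).obj K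
  let H0 : ModuleCat.{u} R := (homologyFunctor (ModuleCat.{u} R) 0).obj K
  constructor
  · rintro ⟨c, hc⟩
    refine ⟨c, fun a ha x => ?_, fun N _ _ a ha η => ?_⟩
    · -- `H^{-1}` is killed
      let E : ModuleCat.{u} R := Injective.under H1
      let j : H1 ⟶ E := Injective.ι H1
      let f : (sF'.obj H1)⟦(1 : ℤ)⟧ ⟶ (sF'.obj E)⟦(1 : ℤ)⟧ := (sF'.map j)⟦(1 : ℤ)⟧'
      have hT' := inv_rot_of_distTriang _ hT
      have h0 : (Triangle.mk u v w).invRotate.mor₁ ≫ f = 0 :=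
        hom_neg_one_injective_eq_zero H0 E _
      obtain ⟨ξ, hξ'⟩ : ∃ ξ : K ⟶ (sF'.obj E)⟦(1 : ℤ)⟧, f = u ≫ ξ :=
        Triangle.yoneda_exact₂ _ hT' f h0
      have h1 : a • ξ = 0 := @hc E.carrier E.isAddCommGroup E.isModule a ha ξ
      have h2 : a • f = 0 := by
        rw [hξ', ← Linear.comp_smul, h1, comp_zero]
      have h3 : (sF'.map (a • j))⟦(1 : ℤ)⟧' = 0 := by
        rw [Functor.map_smul, Functor.map_smul]
        exact h2
      have h4 : sF'.map (a • j) = 0 :=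
        (shiftFunctor (Dual.D R) (1 : ℤ)).map_injective (h3.trans (Functor.map_zero _ _ _).symm)
      have h5 : a • j = 0 := sF'.map_injective (h4.trans (Functor.map_zero _ _ _).symm)
      have h6 : j.hom (a • x) = 0 := by
        have h7 : (a • j).hom x = 0 := by rw [h5]; rfl
        rw [map_smul]
        exact h7
      have hj : Function.Injective j.hom := (ModuleCat.mono_iff_injective j).1 inferInstance
      exact hj (h6.trans (map_zero _).symm)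
    · -- `Ext^1(H^0, N)` is killed
      have h1 : v ≫ (a • η) = 0 := by
        rw [Linear.comp_smul]
        exact hc N a ha (v ≫ η)
      obtain ⟨g, hg⟩ : ∃ g : ((sF'.obj H1)⟦(1 : ℤ)⟧)⟦(1 : ℤ)⟧ ⟶ (sF'.obj (ModuleCat.of R N))⟦(1 : ℤ)⟧,
          a • η = w ≫ g := Triangle.yoneda_exact₃ _ hT (a • η) h1
      rw [hg, hom_shift_two_eq_zero H1 (ModuleCat.of R N) g, comp_zero]
  · rintro ⟨c, ha, hb⟩
    refine ⟨c + c, fun N _ _ a haI ξ => ?_⟩
    rw [pow_add] at haI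
    refine Submodule.mul_induction_on haI (fun b hb' a' ha' => ?_) (fun x y hx hy => ?_)
    · have h1 : u ≫ (a' • ξ) = 0 := by
        have : u ≫ (a' • ξ) = (a' • 𝟙 ((sF'.obj H1)⟦(1 : ℤ)⟧)) ≫ u ≫ ξ := by
          rw [Linear.comp_smul, Linear.smul_comp, Category.id_comp]
        rw [this, smul_id_shift_single H1 a' (ha a' ha') 1, zero_comp]
      obtain ⟨η, hη'⟩ : ∃ η : sF'.obj H0 ⟶ (Dual.inD R N)⟦(1 : ℤ)⟧, a' • ξ = v ≫ η :=
        Triangle.yoneda_exact₂ _ hT (a' • ξ) h1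
      rw [mul_smul, hη', ← Linear.comp_smul, hb N b hb' η, comp_zero]
    · rw [add_smul, hx, hy, add_zero]

end Groth.Agent.H4.S12094Lib
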