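import Mathlib
import Groth.Agent.H4.Nilp1
import Groth.Agent.H4.LDer5

set_option autoImplicit false
universe u
open CategoryTheory CategoryTheory.Limits MonoidalCategory

namespace Groth.Agent.H4.S15231Lib

attribute [local instance] HasDerivedCategory.standard
open DerivedCategory DRing Groth.Agent.H4.LDer Groth.Agent.H4.PC Groth.Agent.H4.BC Groth.Agent.H4.TV

variable {R : Type u} [CommRing R]

/-- `T ⊗ M` is zero for a subsingleton module. -/
lemma TV_of_subsingleton (T : Cx R) (M : ModuleCat.{u} R) [Subsingleton M] (i : ℤ) : TV T M i := by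
  unfold TV
  rw [HomologicalComplex.exactAt_iff]
  refine ShortComplex.exact_of_isZero_X₂ _ ?_
  change IsZero ((tensorRight M).obj (T.X i))
  haveI : Subsingleton ((tensorRight M).obj (T.X i)) := by
    change Subsingleton (TensorProduct R (T.X i) M)
    infer_instance
  exact ModuleCat.isZero_of_subsingleton _

theorem TV_of_isFiniteLength (T : Cx R) (hT : ∀ i, Module.Flat R (T.X i)) (i : ℤ)
    (hs : ∀ (S : Type u) [AddCommGroup S] [Module R S], IsSimpleModule R S → TV T (ModuleCat.of R S) i)
    (N : Type u) [AddCommGroup N] [Module R N] (hN : IsFiniteLength R N) :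
    TV T (ModuleCat.of R N) i := by
  induction hN with
  | of_subsingleton => exact TV_of_subsingleton T _ i
  | @of_simple_quotient M _ _ N' hsimple _ ih =>
    let S : ShortComplex (ModuleCat.{u} R) :=
      ShortComplex.mk (ModuleCat.ofHom N'.subtype) (ModuleCat.ofHom N'.mkQ) (by
        ext x
        change N'.mkQ (N'.subtype x) = 0
        simp)
    have hS : S.ShortExact := by
      refine ModuleCat.shortComplex_shortExact _ ?_ ?_ ?_
      · rw [LinearMap.exact_iff]
        change LinearMap.ker N'.mkQ = LinearMap.range N'.subtype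
        rw [Submodule.ker_mkQ, Submodule.range_subtype]
      · exact Subtype.val_injective
      · exact Submodule.mkQ_surjective _
    exact TV_of_shortExact T hT S hS i ih (hs _ hsimple)


section Local

variable [IsLocalRing R]

/-- the residue field as an `R`-module is the restriction of scalars of the unit. -/
noncomputable def residueEquiv :
    IsLocalRing.ResidueField R ≃ₗ[R]
      ((ModuleCat.restrictScalars.{u} (IsLocalRing.residue R)).obj
        (𝟙_ (ModuleCat.{u} (IsLocalRing.ResidueField R))) : ModuleCat.{u} R) :=
  { toFun := fun x => x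
    map_add' := fun _ _ => rfl
    map_smul' := fun r x => by
      change r • x = (IsLocalRing.residue R r) • x
      rw [Algebra.smul_def]; rfl
    invFun := fun x => x
    left_inv := fun _ => rfl
    right_inv := fun _ => rfl }

/-- the residue field as an `R`-module is the restriction of scalars of the unit. -/
noncomputable def residueIso :
    ModuleCat.of R (IsLocalRing.ResidueField R) ≅
      (ModuleCat.restrictScalars.{u} (IsLocalRing.residue R)).obj
        (𝟙_ (ModuleCat.{u} (IsLocalRing.ResidueField R))) :=
  (residueEquiv (R := R)).toModuleIso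

local instance instHasLBC' {A B : Type u} [CommRing A] [CommRing B] (φ : A →+* B) :
    DRing.HasLBaseChange φ := Groth.Agent.H4.KProj.hasLBaseChange φ

theorem S15231 (R : Type u) [CommRing R]
    [IsLocalRing R] [DRing.HasLBaseChange (IsLocalRing.residue R)] [∀ M : ModuleCat.{u} R, DRing.HasLTensor R M]
    (P : Dual.D R) (a b : ℤ)
    (h : ∀ i : ℤ, (i < a ∨ b < i) →
      Subsingleton (Dual.HD (IsLocalRing.ResidueField R) ((DRing.LBaseChange (IsLocalRing.residue R)).obj P) i))
    (N : Type u) [AddCommGroup N] [Module R N] (hN : IsFiniteLength R N) (i : ℤ) (hi : i < a ∨ b < i) :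
    Subsingleton (Dual.HD R ((DRing.LTensor R (ModuleCat.of R N)).obj P) i) := by
  obtain ⟨T, hT, hf, ⟨e⟩⟩ := Groth.Agent.H4.KProj.exists_kproj_free_iso P
  have hfl : ∀ i, Module.Flat R (T.X i) := fun i => by haveI := hf i; infer_instance
  let G := ModuleCat.extendScalars.{u, u, u} (IsLocalRing.residue R)
  -- exactness of the fibre
  have hfib : ((GC G).obj T).ExactAt i := by
    have e' : (DRing.LBaseChange (IsLocalRing.residue R)).obj P ≅ toD ((GC G).obj T) := isoOfIso G T e
    haveI := h i hi
    have hz : IsZero ((homologyFunctor (ModuleCat.{u} (IsLocalRing.ResidueField R)) i).obj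
        ((DRing.LBaseChange (IsLocalRing.residue R)).obj P)) := ModuleCat.isZero_of_subsingleton _
    rw [HomologicalComplex.exactAt_iff_isZero_homology]
    exact (hz.of_iso ((homologyFunctor _ i).mapIso e'.symm)).of_iso (homologyToDIso _ i).symm
  have hκ : TV T ((ModuleCat.restrictScalars.{u} (IsLocalRing.residue R)).obj
      (𝟙_ (ModuleCat.{u} (IsLocalRing.ResidueField R)))) i := by
    rw [← TV_restrict_iff]
    exact exactAt_of_iso (GCUnitIso _ ((GC G).obj T)).symm i hfib
  have hsimple : ∀ (S : Type u) [AddCommGroup S] [Module R S], IsSimpleModule R S →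
      TV T (ModuleCat.of R S) i := by
    intro S _ _ hS
    obtain ⟨m, hm, ⟨eS⟩⟩ := isSimpleModule_iff_quot_maximal.1 hS
    obtain rfl : m = IsLocalRing.maximalIdeal R := IsLocalRing.eq_maximalIdeal hm
    exact TV_of_iso T (eS.toModuleIso ≪≫ residueIso).symm i hκ
  have key := TV_of_isFiniteLength T hfl i hsimple N hN
  have := (HV_iff_TV T e (ModuleCat.of R N) i).2 key
  exact ModuleCat.subsingleton_of_isZero this

end Local

end Groth.Agent.H4.S15231Lib
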