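import Mathlib
import Groth.Agent.H4.FibPerf
import Groth.Agent.S6948

set_option autoImplicit false
universe u
open CategoryTheory CategoryTheory.Limits

namespace Groth.Agent.H4.S15232Lib

attribute [local instance] HasDerivedCategory.standard
open DerivedCategory DRing Groth.Agent.H4.FibPerf

local instance instHasLBC' {A B : Type u} [CommRing A] [CommRing B] (φ : A →+* B) :
    DRing.HasLBaseChange φ := Groth.Agent.H4.KProj.hasLBaseChange φ

theorem S15232 (R : Type u) [CommRing R]
    (I : Ideal R) (hI : I ≤ Ideal.jacobson (⊥ : Ideal R)) [DRing.HasLBaseChange (Ideal.Quotient.mk I)]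
    (P : Dual.D R) (hP : DRing.IsPseudoCoherent' R P) (a b : ℤ)
    (h : DRing.HasTorAmplitudeIn (R ⧸ I) a b ((DRing.LBaseChange (Ideal.Quotient.mk I)).obj P)) :
    DRing.HasTorAmplitudeIn R a b P := by
  refine (isPerfect_of_fibres R P hP a b (fun m hm i hi => ?_)).2
  have hIm : I ≤ m := hI.trans (sInf_le ⟨bot_le, hm⟩)
  let ψ : R ⧸ I →+* R ⧸ m := Ideal.Quotient.factor hIm
  have h1 := Groth.Agent.S6948.result ψ _ a b h
  have h2 := Groth.Agent.H4.Perf.isZero_homology_of_hasTorAmp h1 i hi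
  obtain ⟨e1⟩ := nonempty_LBCComp (Ideal.Quotient.mk I) ψ P
  obtain ⟨e2⟩ := nonempty_LBC_congr (f := ψ.comp (Ideal.Quotient.mk I)) (g := Ideal.Quotient.mk m)
    (Ideal.Quotient.factor_comp_mk hIm) P
  exact h2.of_iso ((homologyFunctor _ i).mapIso (e1 ≪≫ e2).symm)

end Groth.Agent.H4.S15232Lib
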