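import Mathlib
import Groth.Agent.H4.Perf2

set_option autoImplicit false

namespace Groth.Agent.H4.S5611Lib

universe u
open CategoryTheory CategoryTheory.Limits CategoryTheory.Pretriangulated
attribute [local instance] HasDerivedCategory.standard
open DRing
open Groth.Agent.H4.LDer DerivedCategory Groth.Agent.H4.TorAmp Groth.Agent.H4.FlatAcyc
open Groth.Agent.H4.PC Groth.Agent.H4.DRing1 Groth.Agent.H4.ResP Groth.Agent.H4.Perf
open MonoidalCategory

variable {R : Type u} [CommRing R]

/-- variant of `exists_rep_of_exactAt` only requiring finite projectivity in degrees `≥ a`. -/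
theorem exists_rep_of_exactAt' (P : Cx R) (a b : ℤ) (hb : ∀ i : ℤ, b < i → IsZero (P.X i))
    (hfp : ∀ i : ℤ, a ≤ i → Module.Finite R (P.X i) ∧ Module.Projective R (P.X i))
    (h1 : ∀ i : ℤ, i < a → P.ExactAt i)
    (h2 : Module.Projective R (P.X a ⧸ LinearMap.range (P.d (a - 1) a).hom)) :
    ∃ E : Cx R, VanishesOutside E a b ∧ TermwiseFiniteProjective E ∧ Nonempty (toD E ≅ toD P) := by
  haveI : P.IsGE a := by rw [CochainComplex.isGE_iff]; exact h1
  have hop : Module.Finite R (P.opcycles a) ∧ Module.Projective R (P.opcycles a) := by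
    haveI := (hfp a le_rfl).1
    have e := (opcyclesIso P (a - 1) a (by omega)).toLinearEquiv
    exact ⟨Module.Finite.equiv e.symm, Module.Projective.of_equiv e.symm⟩
  have hz : VanishesOutside (P.truncGE a) a b := by
    intro i hi
    rcases hi with hi | hi
    · exact (P.truncGE a).isZero_of_isStrictlyGE a i hi
    · by_cases hia : a < i
      · exact (hb i hi).of_iso (P.truncGEXIso a i hia)
      · by_cases hia' : i < a
        · exact (P.truncGE a).isZero_of_isStrictlyGE a i hia'
        · obtain rfl : i = a := by omega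
          refine IsZero.of_iso ?_ (P.truncGEXIsoOpcycles i)
          rw [IsZero.iff_id_eq_zero, ← cancel_epi (P.pOpcycles i)]
          exact (hb i hi).eq_of_src _ _
  have hfp' : TermwiseFiniteProjective (P.truncGE a) := by
    intro i
    by_cases hia : a < i
    · haveI := (hfp i hia.le).1
      haveI := (hfp i hia.le).2
      have e := (P.truncGEXIso a i hia).toLinearEquiv
      exact ⟨Module.Finite.equiv e.symm, Module.Projective.of_equiv e.symm⟩
    · by_cases hia' : i < a
      · haveI := ModuleCat.subsingleton_of_isZero ((P.truncGE a).isZero_of_isStrictlyGE a i hia')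
        exact ⟨inferInstance, inferInstance⟩
      · obtain rfl : i = a := by omega
        haveI := hop.1
        haveI := hop.2
        have e := (P.truncGEXIsoOpcycles i).toLinearEquiv
        exact ⟨Module.Finite.equiv e.symm, Module.Projective.of_equiv e.symm⟩
  exact ⟨P.truncGE a, hz, hfp', ⟨(asIso (Q.map (P.πTruncGE a))).symm⟩⟩

/-- top truncation: a complex of finite projectives in `[a, c]` acyclic above `n ≥ a` is
represented by a complex of finite projectives in `[a, n]`. -/
theorem exists_rep_truncLE (E : Cx R) (a c n : ℤ) (han : a ≤ n) (hz : VanishesOutside E a c)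
    (hfp : TermwiseFiniteProjective E) (hn : ∀ i : ℤ, n < i → IsZero (E.homology i)) :
    ∃ E' : Cx R, VanishesOutside E' a n ∧ TermwiseFiniteProjective E' ∧
      Nonempty (toD E' ≅ toD E) := by
  haveI : E.IsLE n := by
    rw [CochainComplex.isLE_iff]
    intro i hi
    rw [HomologicalComplex.exactAt_iff_isZero_homology]
    exact hn i hi
  have hcyc : finProj (E.cycles n) :=
    Groth.Agent.H3.PerfAux.cycles_prop finProj finProj_kernel E c
      (fun j hj => hz j (Or.inr hj)) n (fun j _ => hfp j) n hn n le_rfl le_rfl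
  have hz' : VanishesOutside (E.truncLE n) a n := by
    intro i hi
    rcases hi with hi | hi
    · have hin : i < n := by omega
      exact (hz i (Or.inl hi)).of_iso (E.truncLEXIso n i hin)
    · exact (E.truncLE n).isZero_of_isStrictlyLE n i hi
  have hfp' : TermwiseFiniteProjective (E.truncLE n) := by
    intro i
    by_cases hin : i < n
    · haveI := (hfp i).1
      haveI := (hfp i).2
      have e := (E.truncLEXIso n i hin).toLinearEquiv
      exact ⟨Module.Finite.equiv e.symm, Module.Projective.of_equiv e.symm⟩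
    · by_cases hin' : n < i
      · haveI := ModuleCat.subsingleton_of_isZero ((E.truncLE n).isZero_of_isStrictlyLE n i hin')
        exact ⟨inferInstance, inferInstance⟩
      · obtain rfl : i = n := by omega
        haveI := hcyc.1
        haveI := hcyc.2
        have e := (E.truncLEXIsoCycles i).toLinearEquiv
        exact ⟨Module.Finite.equiv e.symm, Module.Projective.of_equiv e.symm⟩
  exact ⟨E.truncLE n, hz', hfp', ⟨asIso (Q.map (E.ιTruncLE n))⟩⟩

/-- an `m`-pseudo-coherent object is represented by a bounded above complex of free modules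
whose terms in degrees `≥ m` are finite. -/
theorem exists_rep_of_isPC {K : Dual.D R} {m : ℤ} (h : IsPseudoCoherent R m K) :
    ∃ (P : Cx R) (c : ℤ), IsBAF c P ∧ (∀ i : ℤ, m ≤ i → Module.Finite R (P.X i)) ∧
      Nonempty (toD P ≅ K) := by
  rw [isPC_iff] at h
  obtain ⟨E, ⟨a, b, hz, hff⟩, α, hα⟩ := h
  obtain ⟨C, β, γ, hT⟩ := distinguished_cocone_triangle α
  have hC : C.IsLE (m - 1) := (isWit_iff_isLE _ hT m).1 hα
  have hT' := inv_rot_of_distTriang _ hT
  haveI : (C⟦(-1 : ℤ)⟧).IsLE m := TStructure.t.isLE_shift C (m - 1) (-1) m (by omega)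
  obtain ⟨L, hL, ⟨e₁⟩⟩ := exists_iso_of_isLE (C⟦(-1 : ℤ)⟧) m
  haveI := hL.isKProjective
  obtain ⟨g, ⟨e⟩⟩ := exists_cone_iso _ hT' L E e₁ (Iso.refl _)
  have hE : IsBAF (max b (m - 1)) E :=
    ⟨fun i hi => hz i (Or.inr (by omega)), fun i => (hff i).2⟩
  have hL' : IsBAF (max b (m - 1) + 1) L := hL.mono (by omega)
  refine ⟨CochainComplex.mappingCone g, max b (m - 1), hL'.cone hE g, ?_, ⟨e⟩⟩
  intro i hi
  have e' : (CochainComplex.mappingCone g).X i ≅ L.X (i + 1) ⊞ E.X i :=
    HomologicalComplex.homotopyCofiber.XIsoBiprod g i (i + 1) rfl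
  have e'' := (e' ≪≫ ModuleCat.biprodIsoProd _ _).toLinearEquiv
  haveI := ModuleCat.subsingleton_of_isZero (hL.1 (i + 1) (by omega))
  haveI := (hff i).1
  exact Module.Finite.equiv e''.symm

theorem S5611 (K : Dual.D R) (m n : ℤ) (hmn : m ≤ n) :
    (DRing.IsPseudoCoherent R (m - 1) K ∧ DRing.HasTorAmplitudeIn R m n K) ↔
      ∃ E : DRing.Cx R, DRing.VanishesOutside E m n ∧ DRing.TermwiseFiniteProjective E ∧
        Nonempty (DRing.toD E ≅ K) := by
  constructor
  · rintro ⟨hpc, htor⟩
    obtain ⟨P, c, hP, hfin, ⟨e⟩⟩ := exists_rep_of_isPC hpc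
    have ht' : HasTorAmplitudeIn R m n (toD P) := hasTorAmp_of_iso e.symm htor
    have hfl : TermwiseFlat P := fun i => by haveI := hP.2 i; infer_instance
    haveI := flat_coker_of_hasTorAmp P c hP.1 hfl m n ht'
    have hfp : Module.FinitePresentation R (P.X m ⧸ LinearMap.range (P.d (m - 1) m).hom) := by
      haveI := hfin m (by omega)
      haveI := hP.2 m
      haveI := hfin (m - 1) le_rfl
      haveI : Module.FinitePresentation R (P.X m) := Module.finitePresentation_of_projective R _
      refine Module.finitePresentation_of_surjective _ (Submodule.mkQ_surjective _) ?_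
      rw [Submodule.ker_mkQ, LinearMap.range_eq_map]
      exact Module.Finite.fg_top.map _
    haveI : Module.Projective R (P.X m ⧸ LinearMap.range (P.d (m - 1) m).hom) :=
      Module.Flat.projective_of_finitePresentation
    have hex : ∀ i : ℤ, i < m → P.ExactAt i := by
      intro i hi
      rw [HomologicalComplex.exactAt_iff_isZero_homology]
      exact (isZero_homology_of_hasTorAmp ht' i (Or.inl hi)).of_iso
        ((homologyFunctorFactors (ModuleCat.{u} R) i).app _).symm
    obtain ⟨E, hE1, hE2, ⟨e'⟩⟩ := exists_rep_of_exactAt' P m c hP.1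
      (fun i hi => ⟨hfin i (by omega), by haveI := hP.2 i; infer_instance⟩) hex inferInstance
    have hn : ∀ i : ℤ, n < i → IsZero (E.homology i) := by
      intro i hi
      have ht'' : HasTorAmplitudeIn R m n (toD E) := hasTorAmp_of_iso e'.symm ht'
      exact (isZero_homology_of_hasTorAmp ht'' i (Or.inr hi)).of_iso
        ((homologyFunctorFactors (ModuleCat.{u} R) i).app _).symm
    obtain ⟨E', hE'1, hE'2, ⟨e''⟩⟩ := exists_rep_truncLE E m c n hmn hE1 hE2 hn
    exact ⟨E', hE'1, hE'2, ⟨e'' ≪≫ e' ≪≫ e⟩⟩
  · rintro ⟨E, hz, hP, ⟨e⟩⟩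
    refine ⟨isPC_of_iso e ?_, E, hz, fun i => by haveI := (hP i).2; infer_instance, ⟨e⟩⟩
    exact isPC_of_termwise (m - 1) E n (fun i hi => hz i (Or.inr hi))
      (fun i => isPC_single_of_finProj _ 0 _ (hP i))

end Groth.Agent.H4.S5611Lib
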