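import Mathlib
import Groth.Agent.H4.Perf2
import Groth.Agent.H4.TorBridge

set_option autoImplicit false

namespace Groth.Agent.H4.S5612Lib

universe u
open CategoryTheory CategoryTheory.Limits CategoryTheory.Pretriangulated
attribute [local instance] HasDerivedCategory.standard
open DRing
open Groth.Agent.H4.LDer DerivedCategory Groth.Agent.H4.TorAmp Groth.Agent.H4.FlatAcyc
open Groth.Agent.H4.PC Groth.Agent.H4.DRing1 Groth.Agent.H4.ResP Groth.Agent.H4.Perf
open Groth.Agent.H4.TV Groth.Agent.H4.TorBridge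
open MonoidalCategory

variable {R : Type u} [CommRing R]

/-- a module of tor dimension `≤ n` has tor amplitude in `[-n, 0]`. -/
theorem hasTorAmp_of_hasTorDimLE (n : ℕ) (M : Type u) [AddCommGroup M] [Module R M]
    (h : DRing.HasTorDimLE R n M) :
    HasTorAmplitudeIn R (-(n : ℤ)) 0 ((singleFunctor (ModuleCat.{u} R) 0).obj (ModuleCat.of R M)) := by
  haveI : ∀ M : ModuleCat.{u} R, (Gh (tensorRight M)).HasLeftDerivedFunctor (WA R) :=
    fun M => Groth.Agent.H4.KProj.hasLeftDerivedFunctor _
  rw [hasTorAmp_iff]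
  intro N i hi
  rcases hi with hi | hi
  · obtain ⟨p, rfl⟩ : ∃ p : ℕ, i = -(p : ℤ) := ⟨(-i).toNat, by omega⟩
    have hp : n < p := by omega
    rw [HV_single_iff_isZero_tor (ModuleCat.of R M) N p (by omega)]
    have := h N p hp
    exact ModuleCat.isZero_of_subsingleton _
  · let P := projectiveResolution (ModuleCat.of R M)
    have e : toD P.cochainComplex ≅ (singleFunctor (ModuleCat.{u} R) 0).obj (ModuleCat.of R M) :=
      asIso (Q.map P.π') ≪≫ ((singleFunctorIsoCompQ (ModuleCat.{u} R) 0).app _).symm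
    rw [HV_iff_TV P.cochainComplex e]
    unfold TV
    have hz : IsZero (P.cochainComplex.X i) := P.cochainComplex.isZero_of_isStrictlyLE 0 i hi
    have hz' : IsZero (((GC (tensorRight N)).obj P.cochainComplex).X i) :=
      (tensorRight N).map_isZero hz
    exact HomologicalComplex.ExactAt.of_isZero hz'

/-- bounded cohomology with all cohomology modules of finite tor dimension gives finite tor
dimension. -/
theorem hasFiniteTorDimCx_of_bounded
    (hA : ∀ (M : Type u) [AddCommGroup M] [Module R M], DRing.HasFiniteTorDim R M) (K : Dual.D R)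
    (a b : ℤ) (hab : ∀ i : ℤ, i < a ∨ b < i → Subsingleton (Dual.HD R K i)) :
    DRing.HasFiniteTorDimCx R K := by
  haveI : ∀ M : ModuleCat.{u} R, (Gh (tensorRight M)).HasLeftDerivedFunctor (WA R) :=
    fun M => Groth.Agent.H4.KProj.hasLeftDerivedFunctor _
  -- uniform bound over the finitely many cohomology modules
  have h1 : ∀ i : ℤ, ∃ n : ℕ, HasTorAmplitudeIn R (-(n : ℤ)) 0
      ((singleFunctor (ModuleCat.{u} R) 0).obj ((homologyFunctor (ModuleCat.{u} R) i).obj K)) := by
    intro i
    obtain ⟨n, hn⟩ := hA ((homologyFunctor (ModuleCat.{u} R) i).obj K)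
    exact ⟨n, hasTorAmp_of_hasTorDimLE n _ hn⟩
  choose nf hnf using h1
  let N : ℕ := (Finset.Icc a b).sup nf
  refine ⟨a - N, b, hasTorAmp_of_homology (a - N) b K a b ?_ ?_⟩
  · intro i hi
    haveI := hab i hi
    exact ModuleCat.isZero_of_subsingleton _
  · intro i
    by_cases hi : i < a ∨ b < i
    · haveI : Subsingleton ((homologyFunctor (ModuleCat.{u} R) i).obj K) := hab i hi
      exact hasTorAmp_single_of_subsingleton _ _ 0 _
    · have hi' : i ∈ Finset.Icc a b := by rw [Finset.mem_Icc]; omega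
      have hle : nf i ≤ N := Finset.le_sup (f := nf) hi'
      refine hasTorAmp_mono ?_ ?_ (hnf i)
      · have : ((nf i : ℕ) : ℤ) ≤ (N : ℤ) := by exact_mod_cast hle
        omega
      · omega

theorem S5612
    (hA : ∀ (M : Type u) [AddCommGroup M] [Module R M], DRing.HasFiniteTorDim R M) (K : Dual.D R) :
    (DRing.HasFiniteTorDimCx R K ↔ ∃ a b : ℤ, ∀ i : ℤ, i < a ∨ b < i → Subsingleton (Dual.HD R K i)) ∧
      (DRing.IsPerfect R K ↔
        (∃ a b : ℤ, ∀ i : ℤ, i < a ∨ b < i → Subsingleton (Dual.HD R K i)) ∧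
          DRing.IsPseudoCoherent' R K) := by
  have key : DRing.HasFiniteTorDimCx R K ↔
      ∃ a b : ℤ, ∀ i : ℤ, i < a ∨ b < i → Subsingleton (Dual.HD R K i) := by
    constructor
    · rintro ⟨a, b, h⟩
      exact ⟨a, b, fun i hi => ModuleCat.subsingleton_of_isZero (isZero_homology_of_hasTorAmp h i hi)⟩
    · rintro ⟨a, b, h⟩
      exact hasFiniteTorDimCx_of_bounded hA K a b h
  refine ⟨key, ?_⟩
  rw [isPerfect_iff, key]
  exact and_comm

end Groth.Agent.H4.S5612Lib
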