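import Mathlib
import Groth.Agent.H4.ExtBr
import Groth.Agent.H4.FFColim
import Groth.Agent.H4.PC1
import Groth.Agent.H4.DRing1

set_option autoImplicit false
universe u
open CategoryTheory CategoryTheory.Limits

namespace Groth.Agent.H4.S6999Lib

attribute [local instance] HasDerivedCategory.standard
open DerivedCategory DRing Groth.Agent.H4.ExtBr Groth.Agent.H4.FFColim Groth.Agent.H4.PC
  Pretriangulated

variable {R : Type u} [CommRing R]

lemma isGE_tgt (N : ModuleCat.{u} R) (n : ℤ) : (tgt N n).IsGE (-n) :=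
  TStructure.t.isGE_shift _ 0 n (-n) (by omega)

section

variable {m : ℤ} {X K : Dual.D R} (α : X ⟶ K) (hα : IsWit m α)

include hα in
/-- precomposition with an `m`-witness is injective on `Hom(-, N[n])` for `n ≤ -m`. -/
lemma precomp_injective (N : ModuleCat.{u} R) (n : ℤ) (hn : n ≤ -m) (x : K ⟶ tgt N n)
    (hx : α ≫ x = 0) : x = 0 := by
  obtain ⟨C, β, γ, hT⟩ := distinguished_cocone_triangle α
  haveI : C.IsLE (m - 1) := (isWit_iff_isLE _ hT m).1 hα
  haveI := isGE_tgt N n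
  obtain ⟨g, hg⟩ := Triangle.yoneda_exact₂ _ hT x hx
  have : g = 0 := TStructure.t.zero_of_isLE_of_isGE g (m - 1) (-n) (by omega)
    (inferInstanceAs (C.IsLE (m - 1))) inferInstance
  rw [hg, this]
  exact comp_zero

include hα in
/-- precomposition with an `m`-witness is surjective on `Hom(-, N[n])` for `n < -m`. -/
lemma precomp_surjective (N : ModuleCat.{u} R) (n : ℤ) (hn : n < -m) (x' : X ⟶ tgt N n) :
    ∃ x : K ⟶ tgt N n, α ≫ x = x' := by
  obtain ⟨C, β, γ, hT⟩ := distinguished_cocone_triangle α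
  haveI : C.IsLE (m - 1) := (isWit_iff_isLE _ hT m).1 hα
  haveI := isGE_tgt N n
  have hT' := inv_rot_of_distTriang _ hT
  haveI : (C⟦(-1 : ℤ)⟧).IsLE m := TStructure.t.isLE_shift C (m - 1) (-1) m (by omega)
  have h0 : (Triangle.mk α β γ).invRotate.mor₁ ≫ x' = 0 :=
    TStructure.t.zero_of_isLE_of_isGE _ m (-n) (by omega)
      (inferInstanceAs ((C⟦(-1 : ℤ)⟧).IsLE m)) inferInstance
  obtain ⟨g, hg⟩ := Triangle.yoneda_exact₂ _ hT' x' h0
  exact ⟨g, hg.symm⟩

end


theorem S6999 (R : Type u) [CommRing R] (m : ℤ) (K : Dual.D R)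
    (hK : DRing.IsPseudoCoherent R m K) {J : Type u} [SmallCategory J] [IsFiltered J]
    (F : J ⥤ ModuleCat.{u} R) (c : Cocone F) (hc : IsColimit c) :
    (∀ n : ℤ, n < -m → ∀ x : K ⟶ (shiftFunctor (Dual.D R) n).obj (Dual.inD R c.pt),
      ∃ (j : J) (y : K ⟶ (shiftFunctor (Dual.D R) n).obj (Dual.inD R (F.obj j))),
        y ≫ (shiftFunctor (Dual.D R) n).map
          ((DerivedCategory.singleFunctor (ModuleCat.{u} R) 0).map (c.ι.app j)) = x) ∧
    (∀ n : ℤ, n ≤ -m → ∀ (j : J) (y : K ⟶ (shiftFunctor (Dual.D R) n).obj (Dual.inD R (F.obj j))),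
      y ≫ (shiftFunctor (Dual.D R) n).map
          ((DerivedCategory.singleFunctor (ModuleCat.{u} R) 0).map (c.ι.app j)) = 0 →
      ∃ (j' : J) (f : j ⟶ j'), y ≫ (shiftFunctor (Dual.D R) n).map
          ((DerivedCategory.singleFunctor (ModuleCat.{u} R) 0).map (F.map f)) = 0) := by
  rw [isPC_iff] at hK
  obtain ⟨E, ⟨a, b, hEab, hEf⟩, α, hα⟩ := hK
  haveI : E.IsKProjective :=
    Groth.Agent.H4.DRing1.isKProjective_of_vanishesAbove_projective E b (fun i hi => hEab i (Or.inr hi))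
      (fun k => by haveI := (hEf k).2; infer_instance)
  haveI hfin : ∀ k, Module.Finite R (E.X k) := fun k => (hEf k).1
  haveI hfree : ∀ k, Module.Free R (E.X k) := fun k => (hEf k).2
  refine ⟨?_, ?_⟩
  · intro n hn x
    have hp : -n + n = 0 := by omega
    have hp' : (-n - 1) + 1 = -n := by omega
    obtain ⟨φ, hφ, h1⟩ := cls_surjective (P := E) (N := c.pt) (i := n) (p := -n) (p' := -n - 1)
      hp hp' (α ≫ x)
    obtain ⟨j, φj, hφj⟩ := exists_factor F c hc (E.X (-n)) φ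
    have h2 : (E.d (-n - 1) (-n) ≫ φj) ≫ c.ι.app j = 0 := by
      rw [Category.assoc, hφj, hφ]
    obtain ⟨j', f, hf⟩ := exists_eq_zero F c hc (E.X (-n - 1)) j _ h2
    let φ' : E.X (-n) ⟶ F.obj j' := φj ≫ F.map f
    have hφ' : E.d (-n - 1) (-n) ≫ φ' = 0 := by
      rw [← Category.assoc]; exact hf
    have hφ'c : φ' ≫ c.ι.app j' = φ := by
      rw [Category.assoc, c.w, hφj]
    obtain ⟨y, hy⟩ := precomp_surjective α hα (F.obj j') n hn (cls E (F.obj j') n (-n) (-n - 1) hp hp' φ' hφ')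
    refine ⟨j', y, ?_⟩
    let ιj : F.obj j' ⟶ c.pt := c.ι.app j'
    have h3 : α ≫ (y ≫ (shiftFunctor (Dual.D R) n).map
        ((DerivedCategory.singleFunctor (ModuleCat.{u} R) 0).map ιj) - x) = 0 := by
      rw [Preadditive.comp_sub, ← Category.assoc, hy, ← cls_comp hp hp' φ' hφ' ιj, ← h1, sub_eq_zero]
      congr 1
    exact sub_eq_zero.1 (precomp_injective α hα c.pt n hn.le _ h3)
  · intro n hn j y hy
    have hp : -n + n = 0 := by omega
    have hp' : (-n - 1) + 1 = -n := by omega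
    have hp'' : -n + 1 = -n + 1 := rfl
    obtain ⟨φ, hφ, h1⟩ := cls_surjective (P := E) (N := F.obj j) (i := n) (p := -n) (p' := -n - 1)
      hp hp' (α ≫ y)
    have h2 : cls E c.pt n (-n) (-n - 1) hp hp' (φ ≫ c.ι.app j)
        (by rw [← Category.assoc, hφ, zero_comp]) = 0 := by
      rw [cls_comp hp hp' φ hφ, h1, Category.assoc]
      exact (congrArg (fun t => α ≫ t) hy).trans comp_zero
    rw [cls_eq_zero_iff hp hp' hp''] at h2
    obtain ⟨ψ, hψ⟩ := h2
    obtain ⟨k, ψk, hψk⟩ := exists_factor F c hc (E.X (-n + 1)) ψ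
    let k' := IsFiltered.max j k
    let aj : j ⟶ k' := IsFiltered.leftToMax j k
    let ak : k ⟶ k' := IsFiltered.rightToMax j k
    have h3 : (E.d (-n) (-n + 1) ≫ ψk ≫ F.map ak - φ ≫ F.map aj) ≫ c.ι.app k' = 0 := by
      rw [Preadditive.sub_comp, Category.assoc, Category.assoc, Category.assoc, c.w, c.w, hψk, hψ,
        sub_self]
    obtain ⟨j', g, hg⟩ := exists_eq_zero F c hc (E.X (-n)) k' _ h3
    refine ⟨j', aj ≫ g, ?_⟩
    have h4 : φ ≫ F.map (aj ≫ g) = E.d (-n) (-n + 1) ≫ (ψk ≫ F.map ak ≫ F.map g) := by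
      rw [Preadditive.sub_comp, sub_eq_zero] at hg
      rw [F.map_comp, ← Category.assoc φ, ← hg]
      simp only [Category.assoc]
    have h5 : cls E (F.obj j') n (-n) (-n - 1) hp hp' (φ ≫ F.map (aj ≫ g))
        (by rw [← Category.assoc, hφ, zero_comp]) = 0 := by
      rw [cls_eq_zero_iff hp hp' hp'']
      exact ⟨_, h4.symm⟩
    rw [cls_comp hp hp' φ hφ, h1, Category.assoc] at h5
    exact precomp_injective α hα (F.obj j') n hn _ h5

end Groth.Agent.H4.S6999Lib
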