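import Mathlib
import Groth.Agent.H4.ExtBr
import Groth.Agent.H4.DRing1

set_option autoImplicit false
universe u
open CategoryTheory CategoryTheory.Limits

namespace Groth.Agent.H4.S7148Lib

attribute [local instance] HasDerivedCategory.standard
open DerivedCategory DRing Groth.Agent.H4.ExtBr Pretriangulated

variable {A : Type u} [CommRing A]

/-- `Hom_{D(A)}(F[0], N[q]) = 0` for `F` projective and `q ≠ 0`. -/
lemma hom_single_projective_eq_zero (F N : ModuleCat.{u} A) [Module.Projective A F] (q : ℤ)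
    (hq : q ≠ 0) (e : (DerivedCategory.singleFunctor (ModuleCat.{u} A) 0).obj F ⟶ tgt N q) :
    e = 0 := by
  haveI : (sg F).IsKProjective := by
    refine Groth.Agent.H4.DRing1.isKProjective_of_vanishesAbove_projective (sg F) 0 ?_ ?_
    · intro i hi
      exact HomologicalComplex.isZero_single_obj_X _ _ _ _ (by omega)
    · intro i
      by_cases h : i = 0
      · subst h
        exact Module.Projective.of_equiv
          (HomologicalComplex.singleObjXSelf (ComplexShape.up ℤ) 0 F).toLinearEquiv.symm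
      · haveI : Subsingleton ((sg F).X i) := ModuleCat.subsingleton_of_isZero
          (HomologicalComplex.isZero_single_obj_X (ComplexShape.up ℤ) 0 F i h)
        exact Module.Projective.of_free
  obtain ⟨φ, hφ, rfl⟩ := cls_surjective (P := sg F) (N := N) (i := q) (p := -q) (p' := -q - 1)
    (by omega) (by omega) e
  have h0 : φ = 0 :=
    (HomologicalComplex.isZero_single_obj_X (ComplexShape.up ℤ) 0 F (-q) (by omega)).eq_of_src _ _
  subst h0
  have := cls_sub (P := sg F) (N := N) (i := q) (p := -q) (p' := -q - 1) (by omega) (by omega) 0 0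
    (by simp) (by simp)
  simp only [sub_self] at this
  exact this


section Main

variable (I : Ideal A) (N : Type u) [AddCommGroup N] [Module A N]

/-- the single functor in degree `0` -/
noncomputable abbrev sF : ModuleCat.{u} A ⥤ Dual.D A := DerivedCategory.singleFunctor (ModuleCat.{u} A) 0

/-- inclusion of `J M` into `M` as a morphism of `ModuleCat`. -/
noncomputable abbrev incl (J : Ideal A) (M : Type u) [AddCommGroup M] [Module A M] :
    ModuleCat.of A ↥(J • ⊤ : Submodule A M) ⟶ ModuleCat.of A M :=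
  ModuleCat.ofHom (J • ⊤ : Submodule A M).subtype

/-- the property proved by induction. -/
def PP (p : ℕ) : Prop :=
  ∀ (q : ℤ) (_ : q = p) (M : Type u) [AddCommGroup M] [Module A M] [Module.Finite A M],
    ∃ c : ℕ, ∀ n k : ℕ, k + c ≤ n → ∀ e : Dual.inD A M ⟶ (Dual.inD A N)⟦q⟧,
      ∃ e' : Dual.inD A ↥(I ^ n • ⊤ : Submodule A M) ⟶ (Dual.inD A ↥(I ^ k • ⊤ : Submodule A N))⟦q⟧,
        e' ≫ (sF.map (incl (I ^ k) N))⟦q⟧' = sF.map (incl (I ^ n) M) ≫ e

lemma smul_top_map_le'' {J : Ideal A} {M M' : Type*} [AddCommGroup M] [Module A M] [AddCommGroup M']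
    [Module A M'] (f : M →ₗ[A] M') {x : M} (hx : x ∈ J • (⊤ : Submodule A M)) :
    f x ∈ J • (⊤ : Submodule A M') := by
  have h2 : f x ∈ (J • (⊤ : Submodule A M)).map f := ⟨x, hx, rfl⟩
  rw [Submodule.map_smul''] at h2
  exact Submodule.smul_mono (le_refl J) le_top h2

theorem PP_zero : PP I N 0 := by
  intro q hq M _ _ _
  obtain rfl : q = 0 := by simpa using hq
  refine ⟨0, fun n k hk e => ?_⟩
  let z := shiftFunctorZero (Dual.D A) ℤ
  obtain ⟨f, hf⟩ := (sF (A := A)).map_surjective (e ≫ z.hom.app (Dual.inD A N))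
  have hmem : ∀ x ∈ (I ^ n • ⊤ : Submodule A M), f.hom x ∈ (I ^ k • ⊤ : Submodule A N) := by
    intro x hx
    exact Submodule.smul_mono_left (Ideal.pow_le_pow_right (by omega)) (smul_top_map_le'' f.hom hx)
  let f' : ModuleCat.of A ↥(I ^ n • ⊤ : Submodule A M) ⟶ ModuleCat.of A ↥(I ^ k • ⊤ : Submodule A N) :=
    ModuleCat.ofHom (f.hom.restrict hmem)
  have hcomm : f' ≫ incl (I ^ k) N = incl (I ^ n) M ≫ f := by
    refine ModuleCat.hom_ext (LinearMap.ext fun x => ?_)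
    rfl
  refine ⟨sF.map f' ≫ z.inv.app (Dual.inD A ↥(I ^ k • ⊤ : Submodule A N)), ?_⟩
  have hnat : z.inv.app (Dual.inD A ↥(I ^ k • ⊤ : Submodule A N)) ≫
      (sF.map (incl (I ^ k) N))⟦(0 : ℤ)⟧' =
      sF.map (incl (I ^ k) N) ≫ z.inv.app (Dual.inD A N) :=
    (z.inv.naturality (sF.map (incl (I ^ k) N))).symm
  have hf' : e = sF.map f ≫ z.inv.app (Dual.inD A N) := by
    rw [hf, Category.assoc, Iso.hom_inv_id_app]
    exact (Category.comp_id e).symm
  calc (sF.map f' ≫ z.inv.app (Dual.inD A ↥(I ^ k • ⊤ : Submodule A N))) ≫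
        (sF.map (incl (I ^ k) N))⟦(0 : ℤ)⟧'
      = sF.map f' ≫ (z.inv.app (Dual.inD A ↥(I ^ k • ⊤ : Submodule A N)) ≫
        (sF.map (incl (I ^ k) N))⟦(0 : ℤ)⟧') := Category.assoc _ _ _
    _ = sF.map f' ≫ sF.map (incl (I ^ k) N) ≫ z.inv.app (Dual.inD A N) := by rw [hnat]
    _ = sF.map (f' ≫ incl (I ^ k) N) ≫ z.inv.app (Dual.inD A N) := by
        rw [Functor.map_comp, Category.assoc]
    _ = sF.map (incl (I ^ n) M) ≫ sF.map f ≫ z.inv.app (Dual.inD A N) := by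
        rw [hcomm, Functor.map_comp, Category.assoc]
    _ = sF.map (incl (I ^ n) M) ≫ e := by rw [← hf']


theorem PP_succ_aux [IsNoetherianRing A] (p : ℕ) (ih : PP I N p) (q : ℤ) (hq : q = (p + 1 : ℕ))
    (M : Type u) [AddCommGroup M] [Module A M] [Module.Finite A M]
    (F : Type u) [AddCommGroup F] [Module A F] [Module.Finite A F] [Module.Projective A F]
    (π : F →ₗ[A] M) (hπ : Function.Surjective π) :
    ∃ c : ℕ, ∀ n k : ℕ, k + c ≤ n → ∀ e : Dual.inD A M ⟶ (Dual.inD A N)⟦q⟧,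
      ∃ e' : Dual.inD A ↥(I ^ n • ⊤ : Submodule A M) ⟶ (Dual.inD A ↥(I ^ k • ⊤ : Submodule A N))⟦q⟧,
        e' ≫ (sF.map (incl (I ^ k) N))⟦q⟧' = sF.map (incl (I ^ n) M) ≫ e := by
  let K : Submodule A F := LinearMap.ker π
  haveI : IsNoetherian A F := isNoetherian_of_isNoetherianRing_of_finite A F
  obtain ⟨c2, hc2⟩ := ih (q - 1) (by rw [hq]; push_cast; ring) K
  obtain ⟨c1, hAR⟩ := Ideal.exists_pow_inf_eq_pow_smul I K
  refine ⟨c1 + c2, fun n k hk e => ?_⟩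
  -- the short exact sequence for `M`
  let SM : ShortComplex (ModuleCat.{u} A) :=
    ShortComplex.mk (ModuleCat.ofHom K.subtype) (ModuleCat.ofHom π) (by
      refine ModuleCat.hom_ext (LinearMap.ext fun x => ?_)
      exact x.2)
  have hSM : SM.ShortExact := by
    refine ModuleCat.shortComplex_shortExact _ ?_ ?_ ?_
    · rw [LinearMap.exact_iff]
      change LinearMap.ker π = LinearMap.range K.subtype
      rw [Submodule.range_subtype]
    · exact Subtype.val_injective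
    · exact hπ
  -- the short exact sequence for `I^n M`
  have hres : ∀ x ∈ (I ^ n • ⊤ : Submodule A F), π x ∈ (I ^ n • ⊤ : Submodule A M) :=
    fun x hx => smul_top_map_le'' π hx
  let πn : ↥(I ^ n • ⊤ : Submodule A F) →ₗ[A] ↥(I ^ n • ⊤ : Submodule A M) := π.restrict hres
  have hπn : Function.Surjective πn := by
    rintro ⟨y, hy⟩
    have h1 : (I ^ n • ⊤ : Submodule A M) = (I ^ n • (⊤ : Submodule A F)).map π := by
      rw [Submodule.map_smul'', Submodule.map_top, LinearMap.range_eq_top.2 hπ]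
    rw [h1] at hy
    obtain ⟨x, hx, rfl⟩ := hy
    exact ⟨⟨x, hx⟩, rfl⟩
  let Sn : ShortComplex (ModuleCat.{u} A) :=
    ShortComplex.mk (ModuleCat.ofHom (LinearMap.ker πn).subtype) (ModuleCat.ofHom πn) (by
      refine ModuleCat.hom_ext (LinearMap.ext fun x => ?_)
      exact x.2)
  have hSn : Sn.ShortExact := by
    refine ModuleCat.shortComplex_shortExact _ ?_ ?_ ?_
    · rw [LinearMap.exact_iff]
      change LinearMap.ker πn = LinearMap.range (LinearMap.ker πn).subtype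
      rw [Submodule.range_subtype]
    · exact Subtype.val_injective
    · exact hπn
  -- the morphism of short exact sequences
  have hτ : ∀ x : LinearMap.ker πn, ((x : ↥(I ^ n • ⊤ : Submodule A F)) : F) ∈ K := by
    intro x
    have := congrArg Subtype.val (LinearMap.mem_ker.1 x.2)
    exact this
  let τ₁ : LinearMap.ker πn →ₗ[A] K :=
    LinearMap.codRestrict K ((I ^ n • ⊤ : Submodule A F).subtype ∘ₗ (LinearMap.ker πn).subtype) hτ
  let Φ : Sn ⟶ SM := ShortComplex.homMk (ModuleCat.ofHom τ₁) (incl (I ^ n) F) (incl (I ^ n) M)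
    (by refine ModuleCat.hom_ext (LinearMap.ext fun x => ?_); rfl)
    (by refine ModuleCat.hom_ext (LinearMap.ext fun x => ?_); rfl)
  -- factorization of `τ₁` through `I^{k + c2} K`
  have hι : ∀ x : LinearMap.ker πn, τ₁ x ∈ (I ^ (k + c2) • ⊤ : Submodule A K) := by
    intro x
    have h1 : ((x : ↥(I ^ n • ⊤ : Submodule A F)) : F) ∈ I ^ n • (⊤ : Submodule A F) ⊓ K :=
      ⟨x.1.2, hτ x⟩
    rw [hAR n (by omega)] at h1
    have h2 : I ^ (n - c1) • (I ^ c1 • (⊤ : Submodule A F) ⊓ K) ≤ I ^ (k + c2) • K :=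
      (Submodule.smul_mono (Ideal.pow_le_pow_right (by omega)) inf_le_right)
    have h3 : I ^ (k + c2) • K = (I ^ (k + c2) • (⊤ : Submodule A K)).map K.subtype := by
      rw [Submodule.map_smul'', Submodule.map_subtype_top]
    have h4 := h2 h1
    rw [h3] at h4
    obtain ⟨w, hw, hwx⟩ := h4
    have : w = τ₁ x := Subtype.ext hwx
    rwa [← this]
  let ι : ModuleCat.of A (LinearMap.ker πn) ⟶ ModuleCat.of A ↥(I ^ (k + c2) • ⊤ : Submodule A K) :=
    ModuleCat.ofHom (LinearMap.codRestrict _ τ₁ hι)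
  have hιτ : ι ≫ incl (I ^ (k + c2)) K = ModuleCat.ofHom τ₁ := by
    refine ModuleCat.hom_ext (LinearMap.ext fun x => ?_); rfl
  -- `e` factors through the connecting map
  have hq1 : q ≠ 0 := by rw [hq]; push_cast; omega
  haveI : Module.Projective A (ModuleCat.of A F) := inferInstanceAs (Module.Projective A F)
  have h0 : hSM.singleTriangle.mor₂ ≫ e = 0 :=
    hom_single_projective_eq_zero (ModuleCat.of A F) (ModuleCat.of A N) q hq1 _
  obtain ⟨g, hg⟩ := Triangle.yoneda_exact₃ _ hSM.singleTriangle_distinguished e h0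
  -- unshift `g`
  let a := shiftFunctorAdd' (Dual.D A) (q - 1) 1 q (by omega)
  obtain ⟨e1, he1⟩ := (shiftFunctor (Dual.D A) (1 : ℤ)).map_surjective
    (g ≫ a.hom.app (Dual.inD A N))
  obtain ⟨e1', he1'⟩ := hc2 (k + c2) k le_rfl e1
  refine ⟨hSn.singleδ ≫ (sF.map ι)⟦(1 : ℤ)⟧' ≫ e1'⟦(1 : ℤ)⟧' ≫
    a.inv.app (Dual.inD A ↥(I ^ k • ⊤ : Submodule A N)), ?_⟩
  have hnat : a.inv.app (Dual.inD A ↥(I ^ k • ⊤ : Submodule A N)) ≫ (sF.map (incl (I ^ k) N))⟦q⟧' =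
      ((sF.map (incl (I ^ k) N))⟦q - 1⟧')⟦(1 : ℤ)⟧' ≫ a.inv.app (Dual.inD A N) :=
    (a.inv.naturality (sF.map (incl (I ^ k) N))).symm
  have hcomm₃ := (ShortComplex.ShortExact.singleTriangle.map hSn hSM Φ).comm₃
  have hg' : g = e1⟦(1 : ℤ)⟧' ≫ a.inv.app (Dual.inD A N) := by
    rw [he1, Category.assoc, Iso.hom_inv_id_app]
    exact (Category.comp_id g).symm
  have hcomm₃' : hSn.singleδ ≫ (sF.map (ModuleCat.ofHom τ₁))⟦(1 : ℤ)⟧' =
      sF.map (incl (I ^ n) M) ≫ hSM.singleδ := hcomm₃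
  have hg'' : e = hSM.singleδ ≫ g := hg
  have s1 : (e1'⟦(1 : ℤ)⟧' ≫ a.inv.app (Dual.inD A ↥(I ^ k • ⊤ : Submodule A N))) ≫
      (sF.map (incl (I ^ k) N))⟦q⟧' =
      (sF.map (incl (I ^ (k + c2)) K))⟦(1 : ℤ)⟧' ≫ g := by
    have hsh : e1'⟦(1 : ℤ)⟧' ≫ ((sF.map (incl (I ^ k) N))⟦q - 1⟧')⟦(1 : ℤ)⟧' =
        (sF.map (incl (I ^ (k + c2)) K))⟦(1 : ℤ)⟧' ≫ e1⟦(1 : ℤ)⟧' := by
      rw [← (shiftFunctor (Dual.D A) (1 : ℤ)).map_comp, he1']
      exact (shiftFunctor (Dual.D A) (1 : ℤ)).map_comp _ _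
    calc (e1'⟦(1 : ℤ)⟧' ≫ a.inv.app (Dual.inD A ↥(I ^ k • ⊤ : Submodule A N))) ≫
          (sF.map (incl (I ^ k) N))⟦q⟧'
        = e1'⟦(1 : ℤ)⟧' ≫ (a.inv.app (Dual.inD A ↥(I ^ k • ⊤ : Submodule A N)) ≫
          (sF.map (incl (I ^ k) N))⟦q⟧') := Category.assoc _ _ _
      _ = e1'⟦(1 : ℤ)⟧' ≫ ((sF.map (incl (I ^ k) N))⟦q - 1⟧')⟦(1 : ℤ)⟧' ≫
          a.inv.app (Dual.inD A N) := by rw [hnat]
      _ = (e1'⟦(1 : ℤ)⟧' ≫ ((sF.map (incl (I ^ k) N))⟦q - 1⟧')⟦(1 : ℤ)⟧') ≫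
          a.inv.app (Dual.inD A N) := (Category.assoc _ _ _).symm
      _ = ((sF.map (incl (I ^ (k + c2)) K))⟦(1 : ℤ)⟧' ≫ e1⟦(1 : ℤ)⟧') ≫
          a.inv.app (Dual.inD A N) := by rw [hsh]
      _ = (sF.map (incl (I ^ (k + c2)) K))⟦(1 : ℤ)⟧' ≫ (e1⟦(1 : ℤ)⟧' ≫
          a.inv.app (Dual.inD A N)) := Category.assoc _ _ _
      _ = (sF.map (incl (I ^ (k + c2)) K))⟦(1 : ℤ)⟧' ≫ g := by
          exact congrArg (fun t => (sF.map (incl (I ^ (k + c2)) K))⟦(1 : ℤ)⟧' ≫ t) hg'.symm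
  have s2 : (sF.map ι)⟦(1 : ℤ)⟧' ≫ (sF.map (incl (I ^ (k + c2)) K))⟦(1 : ℤ)⟧' =
      (sF.map (ModuleCat.ofHom τ₁))⟦(1 : ℤ)⟧' := by
    rw [← CategoryTheory.Functor.map_comp, ← CategoryTheory.Functor.map_comp, hιτ]
  calc (hSn.singleδ ≫ (sF.map ι)⟦(1 : ℤ)⟧' ≫ e1'⟦(1 : ℤ)⟧' ≫
          a.inv.app (Dual.inD A ↥(I ^ k • ⊤ : Submodule A N))) ≫ (sF.map (incl (I ^ k) N))⟦q⟧'
      = hSn.singleδ ≫ (sF.map ι)⟦(1 : ℤ)⟧' ≫ ((e1'⟦(1 : ℤ)⟧' ≫
          a.inv.app (Dual.inD A ↥(I ^ k • ⊤ : Submodule A N))) ≫ (sF.map (incl (I ^ k) N))⟦q⟧') := by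
        simp only [Category.assoc]
    _ = hSn.singleδ ≫ (sF.map ι)⟦(1 : ℤ)⟧' ≫ (sF.map (incl (I ^ (k + c2)) K))⟦(1 : ℤ)⟧' ≫ g := by
        rw [s1]
    _ = hSn.singleδ ≫ ((sF.map ι)⟦(1 : ℤ)⟧' ≫ (sF.map (incl (I ^ (k + c2)) K))⟦(1 : ℤ)⟧') ≫ g :=
        congrArg (fun t => hSn.singleδ ≫ t) (Category.assoc _ _ _).symm
    _ = hSn.singleδ ≫ (sF.map (ModuleCat.ofHom τ₁))⟦(1 : ℤ)⟧' ≫ g :=
        congrArg (fun t => hSn.singleδ ≫ t ≫ g) s2
    _ = (hSn.singleδ ≫ (sF.map (ModuleCat.ofHom τ₁))⟦(1 : ℤ)⟧') ≫ g := (Category.assoc _ _ _).symm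
    _ = (sF.map (incl (I ^ n) M) ≫ hSM.singleδ) ≫ g := congrArg (fun t => t ≫ g) hcomm₃'
    _ = sF.map (incl (I ^ n) M) ≫ (hSM.singleδ ≫ g) := Category.assoc _ _ _
    _ = sF.map (incl (I ^ n) M) ≫ e := congrArg (fun t => sF.map (incl (I ^ n) M) ≫ t) hg''.symm

theorem PP_succ [IsNoetherianRing A] (p : ℕ) (ih : PP I N p) : PP I N (p + 1) := by
  intro q hq M _ _ _
  obtain ⟨t, π, hπ⟩ := Module.Finite.exists_fin' A M
  exact PP_succ_aux I N p ih q hq M (Fin t → A) π hπ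

theorem PP_all [IsNoetherianRing A] (p : ℕ) : PP I N p := by
  induction p with
  | zero => exact PP_zero I N
  | succ p ih => exact PP_succ I N p ih

end Main

theorem S7148 (A : Type u) [CommRing A] [IsNoetherianRing A] (I : Ideal A)
    (M N : Type u) [AddCommGroup M] [Module A M] [Module.Finite A M] [AddCommGroup N] [Module A N]
    (p : ℕ) (hp : 0 < p) :
    ∃ c : ℕ, ∀ n : ℕ, c ≤ n →
      ∀ e : Dual.inD A M ⟶ (Dual.inD A N)⟦(p : ℤ)⟧,
        ∃ e' : Dual.inD A ↥(I ^ n • ⊤ : Submodule A M) ⟶ (Dual.inD A ↥(I ^ (n - c) • ⊤ : Submodule A N))⟦(p : ℤ)⟧,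
          e' ≫ ((DerivedCategory.singleFunctor (ModuleCat.{u} A) 0).map
                  (ModuleCat.ofHom (I ^ (n - c) • ⊤ : Submodule A N).subtype))⟦(p : ℤ)⟧' =
            (DerivedCategory.singleFunctor (ModuleCat.{u} A) 0).map
                (ModuleCat.ofHom (I ^ n • ⊤ : Submodule A M).subtype) ≫ e := by
  obtain ⟨c, hc⟩ := PP_all I N p (p : ℤ) rfl M
  refine ⟨c, fun n hn e => ?_⟩
  exact hc n (n - c) (by omega) e

end Groth.Agent.H4.S7148Lib
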