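import Mathlib
import Groth.Agent.H4.ExtBr
import Groth.Agent.H4.ExtAR
import Groth.Agent.H4.DRing1

set_option autoImplicit false
universe u
open CategoryTheory CategoryTheory.Limits

namespace Groth.Agent.H4.S7149Lib

attribute [local instance] HasDerivedCategory.standard
open DerivedCategory DRing Groth.Agent.H4.ExtBr Groth.Agent.H4.ExtAR

variable {A : Type u} [CommRing A]

section

variable (E : Cx A) {K : Dual.D A} (eK : toD E ≅ K) (M : Type u) [AddCommGroup M] [Module A M]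
  {j p p' : ℤ} (hp : p + j = 0) (hp' : p' + 1 = p)

/-- the module of cocycles `E^p → M`. -/
abbrev Zc : Submodule A (E.X p →ₗ[A] M) := LinearMap.ker (LinearMap.lcomp A M (E.d p' p).hom)

/-- the class map as a linear map. -/
noncomputable def clsL : Zc E M (p := p) (p' := p') →ₗ[A] (K ⟶ tgt (ModuleCat.of A M) j) where
  toFun z := eK.inv ≫ cls E (ModuleCat.of A M) j p p' hp hp' (ModuleCat.ofHom z.1)
    (ModuleCat.hom_ext z.2)
  map_add' z z' := by
    rw [← Preadditive.comp_add, ← cls_add]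
    rfl
  map_smul' x z := by
    rw [RingHom.id_apply, ← Linear.comp_smul, smul_cls]
    rfl

end


theorem S7149 (A : Type u) [CommRing A] [IsNoetherianRing A] (I : Ideal A)
    (K : Dual.D A) (hK : DRing.IsPseudoCoherent' A K) (M : Type u) [AddCommGroup M] [Module A M] [Module.Finite A M]
    (p : ℤ) :
    ∃ c : ℕ, ∀ n : ℕ, c ≤ n →
      ∀ e : K ⟶ (Dual.inD A ↥(I ^ n • ⊤ : Submodule A M))⟦p⟧,
        e ≫ ((DerivedCategory.singleFunctor (ModuleCat.{u} A) 0).map
              (ModuleCat.ofHom (I ^ n • ⊤ : Submodule A M).subtype))⟦p⟧' ∈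
          (I ^ (n - c) • ⊤ : Submodule A (K ⟶ (Dual.inD A M)⟦p⟧)) := by
  obtain ⟨E, b, hEb, hEf, ⟨eK⟩⟩ := hK
  haveI : E.IsKProjective :=
    Groth.Agent.H4.DRing1.isKProjective_of_vanishesAbove_projective E b hEb
      (fun k => by haveI := (hEf k).2; infer_instance)
  haveI hfin : ∀ k, Module.Finite A (E.X k) := fun k => (hEf k).1
  haveI hfree : ∀ k, Module.Free A (E.X k) := fun k => (hEf k).2
  have hq : -p + p = 0 := by omega
  have hq' : (-p - 1) + 1 = -p := by omega
  let Z := Zc E M (p := -p) (p' := -p - 1)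
  obtain ⟨c, hAR⟩ := Ideal.exists_pow_inf_eq_pow_smul I Z
  refine ⟨c, fun n hn e => ?_⟩
  obtain ⟨z, hz, h1⟩ := cls_surjective (P := E)
    (N := ModuleCat.of A ↥(I ^ n • ⊤ : Submodule A M)) (i := p) (p := -p) (p' := -p - 1) hq hq'
    (eK.hom ≫ e)
  -- the composite `E^{-p} → I^n M → M`
  let φ : E.X (-p) →ₗ[A] M := (I ^ n • ⊤ : Submodule A M).subtype ∘ₗ z.hom
  have hφZ : φ ∈ Z := by
    change φ ∘ₗ (E.d (-p - 1) (-p)).hom = 0
    rw [LinearMap.comp_assoc]
    have := congrArg ModuleCat.Hom.hom hz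
    change z.hom ∘ₗ (E.d (-p - 1) (-p)).hom = 0 at this
    rw [this, LinearMap.comp_zero]
  have hφI : φ ∈ I ^ n • (⊤ : Submodule A (E.X (-p) →ₗ[A] M)) :=
    mem_smul_top_of_apply_mem (fun y => (z.hom y).2)
  have h2 : φ ∈ I ^ (n - c) • Z := by
    have : φ ∈ I ^ n • (⊤ : Submodule A (E.X (-p) →ₗ[A] M)) ⊓ Z := ⟨hφI, hφZ⟩
    rw [hAR n hn] at this
    exact Submodule.smul_mono (le_refl _) inf_le_right this
  have h3 : I ^ (n - c) • Z = (I ^ (n - c) • (⊤ : Submodule A Z)).map Z.subtype := by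
    rw [Submodule.map_smul'', Submodule.map_subtype_top]
  rw [h3] at h2
  obtain ⟨w, hw, hwφ⟩ := h2
  have h4 := smul_top_map_le' (clsL E eK M hq hq') hw
  have h5 : clsL E eK M hq hq' w =
      e ≫ ((DerivedCategory.singleFunctor (ModuleCat.{u} A) 0).map
              (ModuleCat.ofHom (I ^ n • ⊤ : Submodule A M).subtype))⟦p⟧' := by
    change eK.inv ≫ cls E (ModuleCat.of A M) p (-p) (-p - 1) hq hq' (ModuleCat.ofHom w.1) _ = _
    have h6 : ModuleCat.ofHom w.1 = z ≫ ModuleCat.ofHom (I ^ n • ⊤ : Submodule A M).subtype := by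
      refine ModuleCat.hom_ext ?_
      exact hwφ
    have h7 : cls E (ModuleCat.of A M) p (-p) (-p - 1) hq hq' (ModuleCat.ofHom w.1)
        (ModuleCat.hom_ext w.2) =
        cls E (ModuleCat.of A M) p (-p) (-p - 1) hq hq'
          (z ≫ ModuleCat.ofHom (I ^ n • ⊤ : Submodule A M).subtype)
          (by rw [← Category.assoc, hz, zero_comp]) := by
      congr 1
    rw [h7, cls_comp hq hq' z hz, h1, Category.assoc, Iso.inv_hom_id_assoc]
  rw [← h5]
  exact h4

end Groth.Agent.H4.S7149Lib
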