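import Mathlib
import Groth.Agent.H4.S7148Lib
import Groth.Agent.H4.GapHom

set_option autoImplicit false
universe u
open CategoryTheory CategoryTheory.Limits

namespace Groth.Agent.H4.TorAR1

attribute [local instance] HasDerivedCategory.standard
open DerivedCategory DRing Groth.Agent.H4.ExtBr Pretriangulated Groth.Agent.H4.S7148Lib

variable {A : Type u} [CommRing A]

/-- negative Ext groups between modules vanish. -/
lemma hom_neg_eq_zero (M H : ModuleCat.{u} A) (q : ℤ) (hq : q < 0)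
    (e : (DerivedCategory.singleFunctor (ModuleCat.{u} A) 0).obj M ⟶ tgt H q) : e = 0 := by
  haveI : (tgt H q).IsGE (-q) := TStructure.t.isGE_shift _ 0 q (-q) (by omega)
  exact TStructure.t.zero_of_isLE_of_isGE e 0 (-q) (by omega) inferInstance inferInstance

variable (I : Ideal A)

/-- the dévissage property -/
def Pdev (L : Dual.D A) : Prop :=
  ∀ (M : Type u) [AddCommGroup M] [Module A M] [Module.Finite A M],
    ∃ n0 : ℕ, ∀ n : ℕ, n0 ≤ n → ∀ φ : Dual.inD A M ⟶ L, sF.map (incl (I ^ n) M) ≫ φ = 0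

lemma Pdev_of_isZero (L : Dual.D A) (hL : IsZero L) : Pdev I L := by
  intro M _ _ _
  exact ⟨0, fun n _ φ => hL.eq_of_tgt _ _⟩

lemma Pdev_of_iso {L L' : Dual.D A} (e : L ≅ L') (h : Pdev I L) : Pdev I L' := by
  intro M _ _ _
  obtain ⟨n0, hn0⟩ := h M
  refine ⟨n0, fun n hn φ => ?_⟩
  have := hn0 n hn (φ ≫ e.inv)
  have h2 := congrArg (fun t => t ≫ e.hom) this
  simpa using h2


/-- `I^n M ⊆ I^{n-n1}(I^{n1} M)`. -/
lemma exists_factor_incl (M : Type u) [AddCommGroup M] [Module A M] (n1 n : ℕ) (h : n1 ≤ n) :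
    ∃ g : ModuleCat.of A ↥(I ^ n • ⊤ : Submodule A M) ⟶
        ModuleCat.of A ↥(I ^ (n - n1) • ⊤ : Submodule A ↥(I ^ n1 • ⊤ : Submodule A M)),
      g ≫ incl (I ^ (n - n1)) ↥(I ^ n1 • ⊤ : Submodule A M) ≫ incl (I ^ n1) M = incl (I ^ n) M := by
  let M' : Submodule A M := I ^ n1 • ⊤
  have key : ∀ x : ↥(I ^ n • ⊤ : Submodule A M),
      ∃ w : ↥(I ^ (n - n1) • ⊤ : Submodule A M'), ((w : M') : M) = x := by
    intro x
    have h1 : (I ^ (n - n1) • (⊤ : Submodule A M')).map M'.subtype = I ^ n • ⊤ := by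
      rw [Submodule.map_smul'', Submodule.map_subtype_top, ← Submodule.mul_smul, ← pow_add]
      congr 2
      omega
    have hx : (x : M) ∈ (I ^ (n - n1) • (⊤ : Submodule A M')).map M'.subtype := by
      rw [h1]; exact x.2
    obtain ⟨w, hw, hwx⟩ := hx
    exact ⟨⟨w, hw⟩, hwx⟩
  choose gf hgf using key
  have hinj : Function.Injective (fun w : ↥(I ^ (n - n1) • ⊤ : Submodule A M') => ((w : M') : M)) :=
    fun a b hab => Subtype.ext (Subtype.ext hab)
  let g : ↥(I ^ n • ⊤ : Submodule A M) →ₗ[A] ↥(I ^ (n - n1) • ⊤ : Submodule A M') :=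
    { toFun := gf
      map_add' := fun x y => hinj (by simp [hgf])
      map_smul' := fun a x => hinj (by simp [hgf]) }
  refine ⟨ModuleCat.ofHom g, ?_⟩
  refine ModuleCat.hom_ext (LinearMap.ext fun x => ?_)
  exact hgf x

variable [IsNoetherianRing A]

lemma Pdev_ext (T : Triangle (Dual.D A)) (hT : T ∈ distinguishedTriangles)
    (h1 : Pdev I T.obj₁) (h3 : Pdev I T.obj₃) : Pdev I T.obj₂ := by
  intro M _ _ _
  obtain ⟨n1, hn1⟩ := h3 M
  haveI : IsNoetherian A M := isNoetherian_of_isNoetherianRing_of_finite A M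
  obtain ⟨n2, hn2⟩ := h1 ↥(I ^ n1 • ⊤ : Submodule A M)
  refine ⟨n1 + n2, fun n hn φ => ?_⟩
  have e3 := hn1 n1 le_rfl (φ ≫ T.mor₂)
  rw [← Category.assoc] at e3
  obtain ⟨ψ, hψ⟩ := Triangle.coyoneda_exact₂ T hT _ e3
  have e1 := hn2 (n - n1) (by omega) ψ
  obtain ⟨g, hg⟩ := exists_factor_incl I M n1 n (by omega)
  rw [← hg, Functor.map_comp, Functor.map_comp, Category.assoc, Category.assoc, hψ,
    ← Category.assoc (sF.map (incl (I ^ (n - n1)) _)), e1, zero_comp, comp_zero]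


lemma Pdev_shift_single (H : ModuleCat.{u} A) (m : ℕ) (hH : ∀ a ∈ I ^ m, ∀ y : H, a • y = 0) (q : ℤ) :
    Pdev I (tgt H q) := by
  intro M _ _ _
  by_cases hq : q < 0
  · exact ⟨0, fun n _ φ => by
      rw [hom_neg_eq_zero (ModuleCat.of A M) H q hq φ, comp_zero]⟩
  · obtain ⟨p, rfl⟩ : ∃ p : ℕ, q = p := ⟨q.toNat, by omega⟩
    obtain ⟨c, hc⟩ := PP_all I H p (p : ℤ) rfl M
    refine ⟨m + c, fun n hn φ => ?_⟩
    obtain ⟨e', he'⟩ := hc n m hn φ
    have hz : incl (I ^ m) H = 0 := by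
      refine ModuleCat.hom_ext (LinearMap.ext fun x => ?_)
      obtain ⟨x, hx⟩ := x
      change x = 0
      refine Submodule.smul_induction_on hx (fun a ha y _ => hH a ha y) (fun x y hx hy => ?_)
      rw [hx, hy, add_zero]
    rw [← he', hz, Functor.map_zero, Functor.map_zero, comp_zero]

lemma Pdev_single (H : ModuleCat.{u} A) (m : ℕ) (hH : ∀ a ∈ I ^ m, ∀ y : H, a • y = 0) (i : ℤ) :
    Pdev I ((DerivedCategory.singleFunctor (ModuleCat.{u} A) i).obj H) :=
  Pdev_of_iso I (((DerivedCategory.singleFunctors (ModuleCat.{u} A)).shiftIso (-i) i 0 (by omega)).app H)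
    (Pdev_shift_single I H m hH (-i))

/-- dévissage: bounded objects with `I`-power torsion cohomology. -/
theorem Pdev_of_bounded_torsion (L : Dual.D A) (a b : ℤ)
    (h1 : ∀ i : ℤ, i < a → IsZero ((homologyFunctor (ModuleCat.{u} A) i).obj L))
    (h2 : ∀ i : ℤ, b < i → IsZero ((homologyFunctor (ModuleCat.{u} A) i).obj L))
    (h3 : ∀ i : ℤ, ∃ m : ℕ, ∀ x ∈ I ^ m, ∀ y : (homologyFunctor (ModuleCat.{u} A) i).obj L, x • y = 0) :
    Pdev I L := by
  refine Groth.Agent.H4.GapHom.devissage (Pdev I) (Pdev_of_isZero I) (Pdev_ext I)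
    (fun K K' e h => Pdev_of_iso I e h) L a b h1 h2 (fun i => ?_)
  obtain ⟨m, hm⟩ := h3 i
  exact Pdev_single I _ m hm i

end Groth.Agent.H4.TorAR1
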