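import Mathlib
import Groth.Agent.H4.DNak2
import Groth.Agent.H4.TorAR2

set_option autoImplicit false
universe u
open CategoryTheory CategoryTheory.Limits MonoidalCategory

namespace Groth.Agent.H4.TorAR3

open DRing Pretriangulated Groth.Agent.H4.DNak2 Groth.Agent.H4.TorAR2

variable {A : Type u} [CommRing A] (N : ModuleCat.{u} A)

/-- the homotopy category of `A`-modules -/
abbrev KA (A : Type u) [CommRing A] := HomotopyCategory (ModuleCat.{u} A) (ComplexShape.up ℤ)

/-- the quotient functor -/
noncomputable abbrev qK (A : Type u) [CommRing A] : Cx A ⥤ KA A := HomotopyCategory.quotient _ _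

/-- `H^p(- ⊗ N)` on the homotopy category. -/
noncomputable def Tp (p : ℤ) : KA A ⥤ ModuleCat.{u} A :=
  (tensorRight N).mapHomotopyCategory (ComplexShape.up ℤ) ⋙
    HomotopyCategory.homologyFunctor (ModuleCat.{u} A) (ComplexShape.up ℤ) p

instance (p : ℤ) : (Tp N p).IsHomological := by
  unfold Tp
  infer_instance

lemma Tp_map_qK {E E' : Cx A} (ψ : E ⟶ E') (p : ℤ) :
    (Tp N p).map ((qK A).map ψ) = 0 ↔
      HomologicalComplex.homologyMap (((tensorRight N).mapHomologicalComplex _).map ψ) p = 0 := by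
  unfold Tp
  rw [Functor.comp_map, Functor.mapHomotopyCategory_map]
  let hF := HomotopyCategory.homologyFunctorFactors (ModuleCat.{u} A) (ComplexShape.up ℤ) p
  let X := ((tensorRight N).mapHomologicalComplex (ComplexShape.up ℤ)).obj E
  let X' := ((tensorRight N).mapHomologicalComplex (ComplexShape.up ℤ)).obj E'
  let g : X ⟶ X' := ((tensorRight N).mapHomologicalComplex (ComplexShape.up ℤ)).map ψ
  let F := HomotopyCategory.homologyFunctor (ModuleCat.{u} A) (ComplexShape.up ℤ) p
  let q := HomotopyCategory.quotient (ModuleCat.{u} A) (ComplexShape.up ℤ)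
  let a : F.obj (q.obj X) ⟶ X.homology p := hF.hom.app X
  let b : X.homology p ⟶ F.obj (q.obj X) := hF.inv.app X
  let a' : F.obj (q.obj X') ⟶ X'.homology p := hF.hom.app X'
  let b' : X'.homology p ⟶ F.obj (q.obj X') := hF.inv.app X'
  have hba : b ≫ a = 𝟙 _ := hF.inv_hom_id_app X
  have hab' : a' ≫ b' = 𝟙 _ := hF.hom_inv_id_app X'
  have h : F.map (q.map g) ≫ a' = a ≫ HomologicalComplex.homologyMap g p := hF.hom.naturality g
  change F.map (q.map g) = 0 ↔ HomologicalComplex.homologyMap g p = 0
  constructor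
  · intro h0
    calc HomologicalComplex.homologyMap g p = (b ≫ a) ≫ HomologicalComplex.homologyMap g p := by
          rw [hba, Category.id_comp]
      _ = b ≫ (a ≫ HomologicalComplex.homologyMap g p) := Category.assoc _ _ _
      _ = b ≫ (F.map (q.map g) ≫ a') := by rw [h]
      _ = 0 := by rw [h0, zero_comp, comp_zero]
  · intro h0
    calc F.map (q.map g) = F.map (q.map g) ≫ (a' ≫ b') := by rw [hab', Category.comp_id]
      _ = (F.map (q.map g) ≫ a') ≫ b' := (Category.assoc _ _ _).symm
      _ = (a ≫ HomologicalComplex.homologyMap g p) ≫ b' := by rw [h]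
      _ = 0 := by rw [h0, comp_zero, zero_comp]


lemma map_smul_id_eq_zero (f : A) (hf : f • 𝟙 N = 0) (E : Cx A) :
    ((tensorRight N).mapHomologicalComplex (ComplexShape.up ℤ)).map (f • 𝟙 E) = 0 := by
  ext i : 1
  change (f • 𝟙 (E.X i)) ▷ N = 0
  rw [MonoidalLinear.smul_whiskerRight, id_whiskerRight, ← whiskerLeft_id,
    ← MonoidalLinear.whiskerLeft_smul, hf, MonoidalPreadditive.whiskerLeft_zero]

lemma Tp_smul_eq_zero (f : A) (hf : f • 𝟙 N = 0) (E : Cx A) (p : ℤ) :
    (Tp N p).map ((qK A).map (f • 𝟙 E)) = 0 := by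
  rw [Tp_map_qK, map_smul_id_eq_zero N f hf, HomologicalComplex.homologyMap_zero]

/-- the inclusion into the cone of `f` is injective on `H^p(- ⊗ N)` when `f` kills `N`. -/
lemma mono_Tp_inr (f : A) (hf : f • 𝟙 N = 0) (E : Cx A) (p : ℤ) :
    Mono ((Tp N p).map ((qK A).map (CochainComplex.mappingCone.inr (f • 𝟙 E)))) := by
  have hT := HomotopyCategory.mappingCone_triangleh_distinguished (f • 𝟙 E)
  have hex := (Tp N p).map_distinguished_exact _ hT
  exact hex.mono_g (Tp_smul_eq_zero N f hf E p)


lemma mono_Tp_kosι' : ∀ (fs : List A) (hfs : ∀ f ∈ fs, f • 𝟙 N = 0) (E : Cx A) (p : ℤ),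
    Mono ((Tp N p).map ((qK A).map (kosι fs E)))
  | [], _, E, p => by
      change Mono ((Tp N p).map ((qK A).map (𝟙 E)))
      rw [CategoryTheory.Functor.map_id, CategoryTheory.Functor.map_id]
      infer_instance
  | f :: fs, hfs, E, p => by
      change Mono ((Tp N p).map ((qK A).map (kosι fs E ≫
        CochainComplex.mappingCone.inr (f • 𝟙 (Kos fs E)))))
      rw [Functor.map_comp, Functor.map_comp]
      haveI := mono_Tp_kosι' fs (fun g hg => hfs g (List.mem_cons_of_mem _ hg)) E p
      haveI := mono_Tp_inr N f (hfs f List.mem_cons_self) (Kos fs E) p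
      exact mono_comp _ _

/-- a chain map killed by the canonical map to the iterated cone induces zero on `H^p(- ⊗ N)`. -/
theorem homologyMap_eq_zero_of_comp_kosι (fs : List A) (hfs : ∀ f ∈ fs, f • 𝟙 N = 0) {E' E : Cx A}
    (ψ : E' ⟶ E) (h : (qK A).map (ψ ≫ kosι fs E) = 0) (p : ℤ) :
    HomologicalComplex.homologyMap (((tensorRight N).mapHomologicalComplex _).map ψ) p = 0 := by
  rw [← Tp_map_qK]
  haveI := mono_Tp_kosι' N fs hfs E p
  rw [← cancel_mono ((Tp N p).map ((qK A).map (kosι fs E))), zero_comp, ← Functor.map_comp,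
    ← Functor.map_comp, h, Functor.map_zero]

end Groth.Agent.H4.TorAR3
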