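import Mathlib

set_option autoImplicit false
open CategoryTheory CategoryTheory.Limits

namespace Groth.Agent.H4.TorAR4

namespace ExtMap

open HomologicalComplex

variable {ι ι' : Type*} {c : ComplexShape ι} {c' : ComplexShape ι'}
  {C D : Type*} [Category C] [Category D] [HasZeroObject C] [HasZeroObject D]
  [Preadditive C] [Preadditive D] (G : C ⥤ D) [G.Additive]

/-- termwise comparison between `G (K.extend e)` and `(G K).extend e`. -/
noncomputable def XMapIso (K : HomologicalComplex C c) (i : Option ι) :
    G.obj (extend.X K i) ≅ extend.X ((G.mapHomologicalComplex c).obj K) i :=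
  match i with
  | some _ => Iso.refl _
  | none => IsZero.iso (G.map_isZero (extend.isZero_X K rfl)) (extend.isZero_X _ rfl)

lemma XMapIso_hom_d (K : HomologicalComplex C c) (i j : Option ι) :
    G.map (extend.d K i j) ≫ (XMapIso G K j).hom =
      (XMapIso G K i).hom ≫ extend.d ((G.mapHomologicalComplex c).obj K) i j :=
  match i, j with
  | none, _ => by
      simp only [extend.d_none_eq_zero, Functor.map_zero, zero_comp, comp_zero]
  | some i, some j => by
      change G.map (K.d i j) ≫ 𝟙 _ = 𝟙 _ ≫ G.map (K.d i j)
      exact (Category.comp_id _).trans (Category.id_comp _).symm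
  | some _, none => by
      simp only [extend.d_none_eq_zero', Functor.map_zero, zero_comp, comp_zero]

/-- `G` commutes with extension of complexes along an embedding. -/
noncomputable def extendMapIso (K : HomologicalComplex C c) (e : c.Embedding c') :
    (G.mapHomologicalComplex c').obj (K.extend e) ≅ ((G.mapHomologicalComplex c).obj K).extend e :=
  Hom.isoOfComponents (fun i' => XMapIso G K (e.r i')) (fun i' j' _ => (XMapIso_hom_d G K _ _).symm)

lemma XMapIso_hom_mapX {K L : HomologicalComplex C c} (φ : K ⟶ L) (i : Option ι) :
    G.map (extend.mapX φ i) ≫ (XMapIso G L i).hom =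
      (XMapIso G K i).hom ≫ extend.mapX ((G.mapHomologicalComplex c).map φ) i :=
  match i with
  | none => by
      simp only [extend.mapX_none _ rfl, Functor.map_zero, zero_comp, comp_zero]
  | some i => by
      change G.map (φ.f i) ≫ 𝟙 _ = 𝟙 _ ≫ G.map (φ.f i)
      exact (Category.comp_id _).trans (Category.id_comp _).symm

lemma extendMapIso_hom_naturality {K L : HomologicalComplex C c} (φ : K ⟶ L) (e : c.Embedding c') :
    (G.mapHomologicalComplex c').map (extendMap φ e) ≫ (extendMapIso G L e).hom =
      (extendMapIso G K e).hom ≫ extendMap ((G.mapHomologicalComplex c).map φ) e := by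
  ext i' : 1
  exact XMapIso_hom_mapX G φ (e.r i')


theorem homologyMap_eq_zero_of_extend [CategoryWithHomology D] {K L : HomologicalComplex C c}
    (φ : K ⟶ L) (e : c.Embedding c') [e.IsRelIff] {j : ι} {j' : ι'} (hj' : e.f j = j')
    (h : homologyMap ((G.mapHomologicalComplex c').map (extendMap φ e)) j' = 0) :
    homologyMap ((G.mapHomologicalComplex c).map φ) j = 0 := by
  let ψ := (G.mapHomologicalComplex c).map φ
  have h1 := extendMapIso_hom_naturality G φ e
  have h1' : extendMap ψ e = (extendMapIso G K e).inv ≫
      (G.mapHomologicalComplex c').map (extendMap φ e) ≫ (extendMapIso G L e).hom := by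
    rw [h1, Iso.inv_hom_id_assoc]
  have h3 : homologyMap (extendMap ψ e) j' = 0 := by
    rw [h1', homologyMap_comp, homologyMap_comp, h, zero_comp, comp_zero]
  have h2 := extendHomologyIso_hom_naturality ψ e hj'
  rw [h3, zero_comp] at h2
  have h4 := congrArg (fun t => (((G.mapHomologicalComplex c).obj K).extendHomologyIso e hj').inv ≫ t) h2
  simp only [comp_zero, Iso.inv_hom_id_assoc] at h4
  exact h4.symm

end ExtMap

end Groth.Agent.H4.TorAR4
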