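import Mathlib
import Groth.Agent.H4.TorAR1
import Groth.Agent.H4.TorAR2
import Groth.Agent.H4.TorAR3
import Groth.Agent.H4.TorAR4
import Groth.Agent.Lib.Helper2.TorSymmNat

set_option autoImplicit false
universe u
open CategoryTheory CategoryTheory.Limits MonoidalCategory

namespace Groth.Agent.H4.S7161Lib

attribute [local instance] HasDerivedCategory.standard
open DerivedCategory DRing Pretriangulated Groth.Agent.H4.DNak2 Groth.Agent.H4.TorAR1
  Groth.Agent.H4.TorAR2 Groth.Agent.H4.TorAR3 Groth.Agent.H4.TorAR4 Groth.Agent.H4.ExtBr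
  Groth.Agent.H4.S7148Lib

variable {A : Type u} [CommRing A]

/-- the Tor-side reduction: the map on `Tor_p(-, N)` vanishes as soon as the induced map on
`H_p(R ⊗ N)` does. -/
lemma tor_map_eq_zero_of_homologyMap {M' M : ModuleCat.{u} A} (f : M' ⟶ M) (N : ModuleCat.{u} A)
    (R' : ProjectiveResolution M') (R : ProjectiveResolution M) (φ : R'.complex ⟶ R.complex)
    (comm : φ.f 0 ≫ R.π.f 0 = R'.π.f 0 ≫ f) (p : ℕ)
    (h : HomologicalComplex.homologyMap
      (((tensorRight N).mapHomologicalComplex (ComplexShape.down ℕ)).map φ) p = 0) :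
    ((Tor (ModuleCat.{u} A) p).map f).app N = 0 := by
  have h1 := Groth.Agent.H2.TorBal.torIsoR_hom_naturality f R' R φ comm p N
  have h2 : HomologicalComplex.homologyMap ((Groth.Agent.H2.TorBal.tensorCxRMap φ).app N) p = 0 := h
  have h1' : ((Tor (ModuleCat.{u} A) p).map f).app N ≫
      (Groth.Agent.H2.TorBal.torIsoR M R p).hom.app N = 0 := by
    rw [h1, h2]; exact comp_zero
  have h3 := congrArg (fun t => t ≫ (Groth.Agent.H2.TorBal.torIsoR M R p).inv.app N) h1'
  simp only [Category.assoc, Iso.hom_inv_id_app, Category.comp_id, zero_comp] at h3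
  exact h3


theorem S7161 (A : Type u) [CommRing A] [IsNoetherianRing A] (I : Ideal A)
    (M N : Type u) [AddCommGroup M] [Module A M] [Module.Finite A M] [AddCommGroup N] [Module A N]
    (hN : ∀ a ∈ I, ∀ y : N, a • y = 0) :
    ∃ n : ℕ, 0 < n ∧ ∀ p : ℕ,
      ((CategoryTheory.Tor (ModuleCat.{u} A) p).map (ModuleCat.ofHom (I ^ n • ⊤ : Submodule A M).subtype)).app
        (ModuleCat.of A N) = 0 := by
  classical
  -- generators of `I`
  obtain ⟨s, hs⟩ := (IsNoetherian.noetherian I : I.FG)
  let fs : List A := s.toList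
  have hfsI : ∀ f ∈ fs, f ∈ I := by
    intro f hf
    rw [← hs]
    exact Ideal.subset_span (by simpa [fs] using hf)
  have hIfs : I ≤ Ideal.span {x | x ∈ fs} := by
    rw [← hs]
    refine Ideal.span_mono (fun x hx => ?_)
    simpa [fs] using hx
  have hfs : ∀ f ∈ fs, f • 𝟙 (ModuleCat.of A N) = 0 := by
    intro f hf
    refine ModuleCat.hom_ext (LinearMap.ext fun y => ?_)
    exact hN f (hfsI f hf) y
  -- the resolution of `M`
  let R := projectiveResolution (ModuleCat.of A M)
  let P : Cx A := R.cochainComplex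
  let eP : Q.obj P ≅ Q.obj (sg (ModuleCat.of A M)) := asIso (Q.map R.π')
  haveI : (Q.obj (sg (ModuleCat.of A M))).IsLE 0 :=
    inferInstanceAs (((DerivedCategory.singleFunctor (ModuleCat.{u} A) 0).obj (ModuleCat.of A M)).IsLE 0)
  haveI : (Q.obj (sg (ModuleCat.of A M))).IsGE 0 :=
    inferInstanceAs (((DerivedCategory.singleFunctor (ModuleCat.{u} A) 0).obj (ModuleCat.of A M)).IsGE 0)
  haveI : (Q.obj P).IsLE 0 := TStructure.t.isLE_of_iso eP.symm 0
  haveI : (Q.obj P).IsGE 0 := TStructure.t.isGE_of_iso eP.symm 0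
  let L : Cx A := Kos fs P
  haveI hLE : (Q.obj L).IsLE 0 := isLE_Kos fs P 0
  haveI hGE : (Q.obj L).IsGE (0 - fs.length) := isGE_Kos fs P 0
  have hdev : Pdev I (Q.obj L) := by
    refine Pdev_of_bounded_torsion I (Q.obj L) (0 - fs.length) 0 ?_ ?_ ?_
    · intro i hi
      exact isZero_of_isGE (Q.obj L) (0 - fs.length) i hi
    · intro i hi
      exact isZero_of_isLE (Q.obj L) 0 i hi
    · intro i
      exact Kos_homology_torsion fs P I hIfs i
  obtain ⟨n0, hn0⟩ := hdev M
  refine ⟨n0 + 1, Nat.succ_pos _, fun p => ?_⟩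
  -- the resolution of `I^n M`
  let n := n0 + 1
  let f : ModuleCat.of A ↥(I ^ n • ⊤ : Submodule A M) ⟶ ModuleCat.of A M := incl (I ^ n) M
  let Rn := projectiveResolution (ModuleCat.of A ↥(I ^ n • ⊤ : Submodule A M))
  let φ : ProjectiveResolution.Hom Rn R f :=
    { hom := ProjectiveResolution.lift f Rn R
      hom_f_zero_comp_π_f_zero := by
        rw [ProjectiveResolution.lift_commutes_zero]
        simp }
  -- vanishing in the derived category
  have hcomp : Q.map (φ.hom' ≫ kosι fs P) = 0 := by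
    have h1 := ProjectiveResolution.Hom.hom'_comp_π' φ
    let β : Dual.inD A M ⟶ Q.obj L := eP.inv ≫ Q.map (kosι fs P)
    have h2 : sF.map (incl (I ^ n) M) ≫ β = 0 := hn0 n (Nat.le_succ _) β
    have h2' : Q.map ((CochainComplex.singleFunctor (ModuleCat.{u} A) 0).map f) ≫ eP.inv ≫
        Q.map (kosι fs P) = 0 := h2
    have h3 : Q.map φ.hom' = Q.map Rn.π' ≫
        Q.map ((CochainComplex.singleFunctor (ModuleCat.{u} A) 0).map f) ≫ eP.inv := by
      rw [← Q.map_comp_assoc, ← h1, Q.map_comp_assoc]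
      change _ = Q.map φ.hom' ≫ eP.hom ≫ eP.inv
      rw [Iso.hom_inv_id, Category.comp_id]
    rw [Q.map_comp, h3, Category.assoc, Category.assoc, h2', comp_zero]
  haveI : Rn.cochainComplex.IsKProjective :=
    CochainComplex.isKProjective_of_projective Rn.cochainComplex 0
  have hK : (qK A).map (φ.hom' ≫ kosι fs P) = 0 := (Q_map_eq_zero_iff _).1 hcomp
  have hH := homologyMap_eq_zero_of_comp_kosι (ModuleCat.of A N) fs hfs φ.hom' hK (-(p : ℤ))
  -- back to chain complexes
  have hH' : HomologicalComplex.homologyMap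
      (((tensorRight (ModuleCat.of A N)).mapHomologicalComplex (ComplexShape.down ℕ)).map φ.hom) p = 0 :=
    ExtMap.homologyMap_eq_zero_of_extend (tensorRight (ModuleCat.of A N)) φ.hom
      ComplexShape.embeddingDownNat (j := p) (j' := -(p : ℤ)) rfl hH
  exact tor_map_eq_zero_of_homologyMap f (ModuleCat.of A N) Rn R φ.hom
    (by simpa using φ.hom_f_zero_comp_π_f_zero) p hH'

end Groth.Agent.H4.S7161Lib
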