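import Mathlib
import Groth.Agent.H4.ExtBr
import Groth.Agent.H4.ExtAR
import Groth.Agent.H4.DRing1

set_option autoImplicit false
universe u
open CategoryTheory CategoryTheory.Limits

namespace Groth.Agent.H4.S7164Lib

attribute [local instance] HasDerivedCategory.standard
open DerivedCategory DRing Groth.Agent.H4.ExtBr Groth.Agent.H4.ExtAR

variable {A : Type u} [CommRing A]

section

variable (E : Cx A) [E.IsKProjective] {K : Dual.D A} (eK : toD E ≅ K)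

lemma exists_rep {N : ModuleCat.{u} A} {j p p' : ℤ} (hp : p + j = 0) (hp' : p' + 1 = p)
    (e : K ⟶ tgt N j) :
    ∃ (φ : E.X p ⟶ N) (hφ : E.d p' p ≫ φ = 0), e = eK.inv ≫ cls E N j p p' hp hp' φ hφ := by
  obtain ⟨φ, hφ, h⟩ := cls_surjective hp hp' (eK.hom ≫ e)
  exact ⟨φ, hφ, by rw [h, Iso.inv_hom_id_assoc]⟩

include eK in
/-- the torsion hypothesis of `key_claim` from the torsion of `Ext`. -/
lemma tors_of_htors (I : Ideal A) {j p p' p'' : ℤ} (hp : p + j = 0) (hp' : p' + 1 = p)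
    (hp'' : p + 1 = p'') (M : Type u) [AddCommGroup M] [Module A M]
    (htors : ∀ (c : ℕ) (e : K ⟶ tgt (ModuleCat.of A ↥(I ^ c • (⊤ : Submodule A M))) j),
      ∃ n : ℕ, ∀ x ∈ I ^ n, x • e = 0)
    (c : ℕ) (z : E.X p →ₗ[A] ↥(I ^ c • (⊤ : Submodule A M)))
    (hz : z ∘ₗ (E.d p' p).hom = 0) :
    ∃ n : ℕ, ∀ x ∈ I ^ n, ∃ ψ : E.X p'' →ₗ[A] ↥(I ^ c • (⊤ : Submodule A M)),
      ψ ∘ₗ (E.d p p'').hom = x • z := by
  let N := ModuleCat.of A ↥(I ^ c • (⊤ : Submodule A M))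
  let φ : E.X p ⟶ N := ModuleCat.ofHom z
  have hφ : E.d p' p ≫ φ = 0 := by
    refine ModuleCat.hom_ext ?_
    exact hz
  obtain ⟨n, hn⟩ := htors c (eK.inv ≫ cls E N j p p' hp hp' φ hφ)
  refine ⟨n, fun x hx => ?_⟩
  have h1 := hn x hx
  rw [← Linear.comp_smul] at h1
  have h2 : x • cls E N j p p' hp hp' φ hφ = 0 := by
    have := congrArg (fun t => eK.hom ≫ t) h1
    simpa using this
  rw [smul_cls, cls_eq_zero_iff hp hp' hp''] at h2
  obtain ⟨ψ, hψ⟩ := h2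
  refine ⟨ψ.hom, ?_⟩
  have := congrArg ModuleCat.Hom.hom hψ
  exact this

end


theorem S7164 (A : Type u) [CommRing A] [IsNoetherianRing A]
    (I : Ideal A) (K : Dual.D A) (hK : DRing.IsPseudoCoherent' A K) (a : ℤ)
    (htors : ∀ (M : Type u) [AddCommGroup M] [Module A M], Module.Finite A M → ∀ i : ℤ, a ≤ i →
      ∀ e : K ⟶ (Dual.inD A M)⟦i⟧, ∃ n : ℕ, ∀ x ∈ I ^ n, x • e = 0)
    (M : Type u) [AddCommGroup M] [Module A M] [Module.Finite A M] (i : ℤ) (hi : a ≤ i) :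
    let Mq : ℕ → Submodule A M := fun n => I ^ n • ⊤
    let c : ∀ n : ℕ, (K ⟶ (Dual.inD A M)⟦i⟧) → (K ⟶ (Dual.inD A (M ⧸ Mq n))⟦i⟧) :=
      fun n e => e ≫ ((DerivedCategory.singleFunctor (ModuleCat.{u} A) 0).map (ModuleCat.ofHom (Mq n).mkQ))⟦i⟧'
    let t : ∀ n m : ℕ, n ≤ m → (K ⟶ (Dual.inD A (M ⧸ Mq m))⟦i⟧) → (K ⟶ (Dual.inD A (M ⧸ Mq n))⟦i⟧) :=
      fun n m hnm e => e ≫ ((DerivedCategory.singleFunctor (ModuleCat.{u} A) 0).map (ModuleCat.ofHom
        (Submodule.mapQ (Mq m) (Mq n) (LinearMap.id : M →ₗ[A] M) (Submodule.smul_mono_left (Ideal.pow_le_pow_right hnm)))))⟦i⟧'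
    (∃ m : ℕ, Function.Injective (c m)) ∧
      ∀ n : ℕ, ∃ (m' : ℕ) (hnm : n ≤ m'), Set.range (t n m' hnm) ⊆ Set.range (c n) := by
  intro Mq c t
  obtain ⟨E, b, hEb, hEf, ⟨eK⟩⟩ := hK
  haveI : E.IsKProjective :=
    Groth.Agent.H4.DRing1.isKProjective_of_vanishesAbove_projective E b hEb
      (fun k => by haveI := (hEf k).2; infer_instance)
  haveI : IsNoetherian A M := isNoetherian_of_isNoetherianRing_of_finite A M
  haveI hfin : ∀ k, Module.Finite A (E.X k) := fun k => (hEf k).1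
  haveI hfree : ∀ k, Module.Free A (E.X k) := fun k => (hEf k).2
  -- the key claim in degree `j`
  have KC : ∀ j : ℤ, a ≤ j → ∀ (p p' p'' : ℤ), p + j = 0 → p' + 1 = p → p + 1 = p'' →
      ∃ c t : ℕ, ∀ n : ℕ, c ≤ n → ∀ φ : E.X p →ₗ[A] M, φ ∘ₗ (E.d p' p).hom = 0 →
        (∀ y, φ y ∈ I ^ (n + t) • (⊤ : Submodule A M)) →
        ∃ ψ : E.X p'' →ₗ[A] M, (∀ y, ψ y ∈ I ^ n • (⊤ : Submodule A M)) ∧
          ψ ∘ₗ (E.d p p'').hom = φ := by
    intro j hj p p' p'' hp hp' hp''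
    refine key_claim I (E.d p' p).hom (E.d p p'').hom ?_
    exact tors_of_htors E eK I hp hp' hp'' M
      (fun c e => htors _ inferInstance j hj e)
  have hdd : ∀ p' p p'' : ℤ, (E.d p p'').hom ∘ₗ (E.d p' p).hom = 0 := by
    intro p' p p''
    rw [← ModuleCat.hom_comp, E.d_comp_d]
    rfl
  let M' := ModuleCat.of A M
  refine ⟨?_, ?_⟩
  · -- injectivity
    obtain ⟨c0, t0, hKC⟩ := KC i hi (-i) (-i - 1) (-i + 1) (by omega) (by omega) (by omega)
    refine ⟨c0 + t0, ?_⟩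
    have hzero : ∀ e : K ⟶ (Dual.inD A M)⟦i⟧, c (c0 + t0) e = 0 → e = 0 := by
      intro e he
      obtain ⟨φ, hφ, rfl⟩ := exists_rep E eK (N := M') (j := i) (p := -i) (p' := -i - 1)
        (by omega) (by omega) e
      have h1 : cls E _ i (-i) (-i - 1) (by omega) (by omega)
          (φ ≫ ModuleCat.ofHom (Mq (c0 + t0)).mkQ) (by rw [← Category.assoc, hφ, zero_comp]) = 0 := by
        rw [cls_comp]
        have := congrArg (fun t => eK.hom ≫ t) he
        simpa [c] using this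
      rw [cls_eq_zero_iff (p'' := -i + 1) _ _ (by omega)] at h1
      obtain ⟨ψb, hψb⟩ := h1
      obtain ⟨ψ, hψ⟩ := Module.projective_lifting_property (Mq (c0 + t0)).mkQ ψb.hom
        (Submodule.mkQ_surjective _)
      let φ' : E.X (-i) →ₗ[A] M := φ.hom - ψ ∘ₗ (E.d (-i) (-i + 1)).hom
      have hφ'0 : φ' ∘ₗ (E.d (-i - 1) (-i)).hom = 0 := by
        rw [LinearMap.sub_comp, LinearMap.comp_assoc, hdd, LinearMap.comp_zero, sub_zero]
        have := congrArg ModuleCat.Hom.hom hφ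
        exact this
      have hφ'v : ∀ y, φ' y ∈ I ^ (c0 + t0) • (⊤ : Submodule A M) := by
        intro y
        change φ' y ∈ Mq (c0 + t0)
        rw [← Submodule.Quotient.mk_eq_zero, ← Submodule.mkQ_apply]
        change (Mq (c0 + t0)).mkQ (φ.hom y - ψ ((E.d (-i) (-i + 1)).hom y)) = 0
        rw [map_sub, sub_eq_zero]
        have e1 := LinearMap.congr_fun (congrArg ModuleCat.Hom.hom hψb) y
        have e2 := LinearMap.congr_fun hψ ((E.d (-i) (-i + 1)).hom y)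
        change ψb.hom ((E.d (-i) (-i + 1)).hom y) = (Mq (c0 + t0)).mkQ (φ.hom y) at e1
        change (Mq (c0 + t0)).mkQ (ψ ((E.d (-i) (-i + 1)).hom y)) = ψb.hom ((E.d (-i) (-i + 1)).hom y) at e2
        rw [e2, e1]
      obtain ⟨ψ2, -, hψ2⟩ := hKC c0 le_rfl φ' hφ'0 hφ'v
      have h3 : cls E M' i (-i) (-i - 1) (by omega) (by omega) φ hφ = 0 := by
        rw [cls_eq_zero_iff (p'' := -i + 1) _ _ (by omega)]
        refine ⟨ModuleCat.ofHom (ψ + ψ2), ModuleCat.hom_ext ?_⟩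
        change (ψ + ψ2) ∘ₗ (E.d (-i) (-i + 1)).hom = φ.hom
        rw [LinearMap.add_comp, hψ2]
        change _ + (φ.hom - ψ ∘ₗ (E.d (-i) (-i + 1)).hom) = _
        abel
      rw [h3, comp_zero]
    intro e1 e2 h
    have h' : c (c0 + t0) (e1 - e2) = 0 := by
      change (e1 - e2) ≫ _ = 0
      rw [Preadditive.sub_comp]
      exact sub_eq_zero.2 h
    exact sub_eq_zero.1 (hzero _ h')
  · intro n
    obtain ⟨c1, t1, hKC⟩ := KC (i + 1) (by omega) (-i - 1) (-i - 1 - 1) (-i) (by omega) (by omega)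
      (by omega)
    let n' := max n c1
    have hn' : n ≤ n' := le_max_left _ _
    refine ⟨n' + t1, by omega, ?_⟩
    rintro _ ⟨e, rfl⟩
    obtain ⟨φb, hφb, rfl⟩ := exists_rep E eK (N := ModuleCat.of A (M ⧸ Mq (n' + t1))) (j := i)
      (p := -i) (p' := -i - 1) (by omega) (by omega) e
    obtain ⟨φ, hφ⟩ := Module.projective_lifting_property (Mq (n' + t1)).mkQ φb.hom
      (Submodule.mkQ_surjective _)
    let θ : E.X (-i - 1) →ₗ[A] M := φ ∘ₗ (E.d (-i - 1) (-i)).hom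
    have hθ0 : θ ∘ₗ (E.d (-i - 1 - 1) (-i - 1)).hom = 0 := by
      rw [LinearMap.comp_assoc, hdd, LinearMap.comp_zero]
    have hθv : ∀ y, θ y ∈ I ^ (n' + t1) • (⊤ : Submodule A M) := by
      intro y
      change θ y ∈ Mq (n' + t1)
      rw [← Submodule.Quotient.mk_eq_zero, ← Submodule.mkQ_apply]
      have e2 := LinearMap.congr_fun hφ ((E.d (-i - 1) (-i)).hom y)
      change (Mq (n' + t1)).mkQ (φ ((E.d (-i - 1) (-i)).hom y)) = φb.hom ((E.d (-i - 1) (-i)).hom y) at e2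
      have e1 := LinearMap.congr_fun (congrArg ModuleCat.Hom.hom hφb) y
      change φb.hom ((E.d (-i - 1) (-i)).hom y) = 0 at e1
      change (Mq (n' + t1)).mkQ (φ ((E.d (-i - 1) (-i)).hom y)) = 0
      rw [e2, e1]
    obtain ⟨φ1, hφ1v, hφ1⟩ := hKC n' (le_max_right _ _) θ hθ0 hθv
    let φ2 : E.X (-i) →ₗ[A] M := φ - φ1
    have hφ2 : E.d (-i - 1) (-i) ≫ ModuleCat.ofHom φ2 = 0 := by
      refine ModuleCat.hom_ext ?_
      change (φ - φ1) ∘ₗ (E.d (-i - 1) (-i)).hom = 0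
      rw [LinearMap.sub_comp, hφ1]
      exact sub_self _
    refine ⟨eK.inv ≫ cls E M' i (-i) (-i - 1) (by omega) (by omega) (ModuleCat.ofHom φ2) hφ2, ?_⟩
    change (eK.inv ≫ cls E M' i (-i) (-i - 1) _ _ (ModuleCat.ofHom φ2) hφ2) ≫ _ =
      (eK.inv ≫ cls E _ i (-i) (-i - 1) _ _ φb hφb) ≫ _
    rw [Category.assoc, Category.assoc, ← cls_comp, ← cls_comp]
    congr 2
    refine ModuleCat.hom_ext (LinearMap.ext fun y => ?_)
    have hle : Mq (n' + t1) ≤ (Mq n).comap (LinearMap.id : M →ₗ[A] M) :=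
      Submodule.smul_mono_left (Ideal.pow_le_pow_right (by omega))
    change (Mq n).mkQ (φ y - φ1 y) =
      (Submodule.mapQ (Mq (n' + t1)) (Mq n) LinearMap.id hle) (φb.hom y)
    have e2 := LinearMap.congr_fun hφ y
    change (Mq (n' + t1)).mkQ (φ y) = φb.hom y at e2
    rw [← e2, map_sub]
    have h0 : (Mq n).mkQ (φ1 y) = 0 := by
      rw [Submodule.mkQ_apply, Submodule.Quotient.mk_eq_zero]
      exact Submodule.smul_mono_left (Ideal.pow_le_pow_right hn') (hφ1v y)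
    rw [h0, sub_zero]
    rfl

end Groth.Agent.H4.S7164Lib
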