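import Mathlib
import Groth.Prelude.Def_ModSite
import Groth.Agent.H4.SFlat4
import Groth.Agent.Lib.Lead.EZ.ProjStmts

set_option autoImplicit false
universe u
open CategoryTheory CategoryTheory.Limits Opposite MonoidalCategory TensorProduct
open Groth.Agent.LD.MS Groth.Agent.H4.SFlat1 Groth.Agent.H4.SFlat2 Groth.Agent.H4.SFlat4

namespace Groth.Agent.H4.SFlat7


lemma compose_triv {A : Type*} [CommRing A] {N : Type*} [AddCommGroup N] [Module A N]
    {l l₁ k r : ℕ} (b₀ : Fin l → A) (b : Fin r → Fin l → A) (z : Fin l → N)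
    (a : Fin l → Fin l₁ → A) (t : Fin l₁ → N) (c' : Fin l₁ → Fin k → A) (y' : Fin k → N)
    (hz : ∀ j, z j = ∑ k, a j k • t k) (ha : ∀ k, ∑ j, a j k * b₀ j = 0)
    (ht : ∀ k, t k = ∑ κ, c' k κ • y' κ)
    (hc : ∀ i κ, ∑ k, (∑ j, b i j * a j k) * c' k κ = 0) :
    (∀ j, z j = ∑ κ, (∑ k, a j k * c' k κ) • y' κ) ∧
      (∀ κ, ∑ j, b₀ j * (∑ k, a j k * c' k κ) = 0) ∧
      ∀ i κ, ∑ j, b i j * (∑ k, a j k * c' k κ) = 0 := by
  refine ⟨fun j => ?_, fun κ => ?_, fun i κ => ?_⟩
  · rw [hz j]
    simp only [ht, Finset.smul_sum, smul_smul, Finset.sum_smul]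
    rw [Finset.sum_comm]
  · simp only [Finset.mul_sum]
    rw [Finset.sum_comm]
    have : ∀ k, ∑ j, b₀ j * (a j k * c' k κ) = (∑ j, a j k * b₀ j) * c' k κ := by
      intro k
      rw [Finset.sum_mul]
      exact Finset.sum_congr rfl (fun j _ => by ring)
    simp only [this, ha, zero_mul, Finset.sum_const_zero]
  · rw [← hc i κ]
    simp only [Finset.mul_sum, Finset.sum_mul]
    rw [Finset.sum_comm]
    exact Finset.sum_congr rfl (fun k _ => Finset.sum_congr rfl (fun j _ => by ring))



variable {C : Type u} [SmallCategory C] {J : GrothendieckTopology C} {O : Sheaf J CommRingCat.{u}}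

/-- restriction of sections of the structure sheaf -/
noncomputable def ro {U V : C} (g : V ⟶ U) (a : O.obj.obj (op U)) : O.obj.obj (op V) :=
  (O.obj.map g.op).hom a

lemma ro_mul {U V : C} (g : V ⟶ U) (a a' : O.obj.obj (op U)) :
    ro g (a * a') = ro g a * ro g a' := map_mul (O.obj.map g.op).hom a a'

lemma ro_zero {U V : C} (g : V ⟶ U) : ro g (0 : O.obj.obj (op U)) = 0 :=
  map_zero (O.obj.map g.op).hom

lemma ro_sum {U V : C} (g : V ⟶ U) {ι : Type*} (s : Finset ι) (a : ι → O.obj.obj (op U)) :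
    ro g (∑ i ∈ s, a i) = ∑ i ∈ s, ro g (a i) := map_sum (O.obj.map g.op).hom a s

lemma ro_comp {U V W : C} (g : V ⟶ U) (h : W ⟶ V) (a : O.obj.obj (op U)) :
    ro (h ≫ g) a = ro h (ro g a) := by
  unfold ro
  rw [op_comp, O.obj.map_comp]
  rfl

variable (N : PMod O)

lemma res_smul'' {U V : C} (g : V ⟶ U) (a : O.obj.obj (op U)) (n : N.obj (op U)) :
    res N g.op (a • n) = ro g a • res N g.op n :=
  res_smul N g.op a n

/-- the local equational criterion of flatness for a presheaf of modules on a site -/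
def EqCritP : Prop :=
  ∀ (U : C) (n : ℕ) (f : Fin n → O.obj.obj (op U)) (s : Fin n → N.obj (op U)),
    ∑ j, f j • s j = 0 →
    ∃ S ∈ J U, ∀ ⦃V : C⦄ (g : V ⟶ U), S g →
      ∃ (l : ℕ) (t : Fin l → N.obj (op V)) (a : Fin n → Fin l → O.obj.obj (op V)),
        (∀ j, res N g.op (s j) = ∑ k, a j k • t k) ∧ (∀ k, ∑ j, a j k * ro g (f j) = 0)

variable {N}

/-- simultaneous trivialisation of finitely many relations -/
theorem EqCritP.multi (hN : EqCritP N) : ∀ (r : ℕ) (U : C) (l : ℕ)
    (b : Fin r → Fin l → O.obj.obj (op U)) (z : Fin l → N.obj (op U)),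
    (∀ i, ∑ j, b i j • z j = 0) →
    ∃ S ∈ J U, ∀ ⦃V : C⦄ (g : V ⟶ U), S g →
      ∃ (k : ℕ) (c : Fin l → Fin k → O.obj.obj (op V)) (y : Fin k → N.obj (op V)),
        (∀ j, res N g.op (z j) = ∑ κ, c j κ • y κ) ∧ ∀ i κ, ∑ j, ro g (b i j) * c j κ = 0 := by
  intro r
  induction r with
  | zero =>
    intro U l b z _
    refine ⟨⊤, J.top_mem U, fun V g _ => ?_⟩
    classical
    refine ⟨l, fun j κ => if j = κ then 1 else 0, fun κ => res N g.op (z κ), fun j => ?_,
      fun i => Fin.elim0 i⟩
    simp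
  | succ r ih =>
    intro U l b z hrel
    obtain ⟨S₀, hS₀, h₀⟩ := hN U l (b 0) z (hrel 0)
    have key : ∀ ⦃V : C⦄ (g : V ⟶ U), S₀ g → ∃ T ∈ J V, ∀ ⦃W : C⦄ (h : W ⟶ V), T h →
        ∃ (k : ℕ) (c : Fin l → Fin k → O.obj.obj (op W)) (y : Fin k → N.obj (op W)),
          (∀ j, res N (h ≫ g).op (z j) = ∑ κ, c j κ • y κ) ∧
            ∀ i κ, ∑ j, ro (h ≫ g) (b i j) * c j κ = 0 := by
      intro V g hg
      obtain ⟨l₁, t, a, hz, ha⟩ := h₀ g hg
      let b' : Fin r → Fin l₁ → O.obj.obj (op V) := fun i k => ∑ j, ro g (b i.succ j) * a j k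
      have hb' : ∀ i, ∑ k, b' i k • t k = 0 := by
        intro i
        have h1 := congrArg (res N g.op) (hrel i.succ)
        rw [res_sum, res_zero] at h1
        rw [← h1]
        simp only [b', Finset.sum_smul]
        rw [Finset.sum_comm]
        refine Finset.sum_congr rfl (fun j _ => ?_)
        rw [res_smul'', hz j, Finset.smul_sum]
        exact Finset.sum_congr rfl (fun k _ => by rw [smul_smul])
      obtain ⟨T, hT, hT'⟩ := ih V l₁ b' t hb'
      refine ⟨T, hT, fun W h hh => ?_⟩
      obtain ⟨k, c', y', ht, hc⟩ := hT' h hh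
      have hres := compose_triv (A := O.obj.obj (op W)) (fun j => ro h (ro g (b 0 j)))
        (fun i j => ro h (ro g (b i.succ j))) (fun j => res N h.op (res N g.op (z j)))
        (fun j k => ro h (a j k)) (fun k => res N h.op (t k)) c' y'
        (fun j => by
          rw [hz j, res_sum]
          exact Finset.sum_congr rfl (fun k _ => res_smul'' N h _ _))
        (fun k => by
          have := congrArg (ro h) (ha k)
          rw [ro_sum, ro_zero] at this
          rw [← this]
          exact Finset.sum_congr rfl (fun j _ => (ro_mul h _ _).symm))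
        ht
        (fun i κ => by
          rw [← hc i κ]
          refine Finset.sum_congr rfl (fun k _ => ?_)
          congr 1
          simp only [b', ro_sum, ro_mul])
      refine ⟨k, fun j κ => ∑ k, ro h (a j k) * c' k κ, y', fun j => ?_, fun i κ => ?_⟩
      · rw [op_comp, res_comp]
        exact hres.1 j
      · simp only [ro_comp]
        refine Fin.cases ?_ (fun i => ?_) i
        · exact hres.2.1 κ
        · exact hres.2.2 i κ
    refine ⟨Sieve.bind S₀.arrows (fun V g hg => Classical.choose (key g hg)),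
      J.bind_covering hS₀ (fun V g hg => (Classical.choose_spec (key g hg)).1), ?_⟩
    rintro V _ ⟨Y, h, g, hg, hh, rfl⟩
    exact (Classical.choose_spec (key g hg)).2 h hh

variable {M M' : PMod O} (f : M ⟶ M')

/-- tensoring a sectionwise injective map with a presheaf of modules satisfying the local
equational criterion is locally injective -/
theorem locInj_whiskerRight_of_eqCritP
    (hf : ∀ (U : Cᵒᵖ), Function.Injective (f.app U).hom) (hN : EqCritP N) :
    LocInj J (f ▷ N) := by
  intro U t ht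
  induction U with | op U => ?_
  have ht' : LinearMap.rTensor (N.obj (op U)) (f.app (op U)).hom (toTP M N t) = 0 := by
    rw [← ap_whiskerRight_eq_rTensor, ht]; rfl
  obtain ⟨k, r, l, m, n, q, z, a, b, hxt, hn, hb, hrel⟩ := exists_data_of_rTensor_eq_zero _ _ ht'
  obtain ⟨S, hS, hS'⟩ := hN.multi r U l b z hb
  refine ⟨S, hS, fun {V} g hg => ?_⟩
  obtain ⟨k', c, y, hz, hbc⟩ := hS' g hg
  have ht2 : t = ∑ i, tm M N (m i) (n i) := hxt
  rw [ht2, res_sum]
  simp only [res_tm]
  refine tensor_vanish (A := O.obj.obj (op V)) (f.app (op V)).hom (hf (op V))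
    (fun i => res M g.op (m i)) (fun i => res N g.op (n i))
    (fun i => res M' g.op (q i)) (fun j => res N g.op (z j))
    (fun i j => ro g (a i j)) (fun i j => ro g (b i j)) c y ?_ ?_ hz hbc
  · intro i
    have h1 : n i = ∑ j, a i j • z j := hn i
    rw [h1, res_sum]
    exact Finset.sum_congr rfl (fun j _ => res_smul'' N g _ _)
  · intro j
    have h0 : ∑ i, a i j • ap f (m i) + ∑ i, b i j • q i = 0 := hrel j
    have := congrArg (res M' g.op) h0
    rw [res_add, res_sum, res_sum, res_zero] at this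
    rw [← this]
    congr 1
    · refine Finset.sum_congr rfl (fun i _ => ?_)
      rw [res_smul'' M' g, ← ap_res]
      rfl
    · exact Finset.sum_congr rfl (fun i _ => (res_smul'' M' g _ _).symm)

/-- a sheaf of modules whose underlying presheaf satisfies the local equational criterion is
flat -/
theorem isFlat_of_eqCritP (F : ModSite.Mod O) (hF : EqCritP ((incl O).obj F)) :
    ModSite.IsFlat F :=
  isFlat_of_locInj F (fun {G G'} f _ =>
    locInj_whiskerRight_of_eqCritP ((incl O).map f) (fun U => injective_app_of_mono f U) hF)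



variable (O)

/-- the equational criterion for a flat sheaf of modules on a ringed site -/
theorem eqCrit_of_isFlat_site (F : ModSite.Mod O) (hF : ModSite.IsFlat F) (U : C) (n : ℕ)
    (f : Fin n → O.obj.obj (op U)) (s : Fin n → ModSite.sect F U) (hrel : ∑ j, f j • s j = 0) :
    ∃ S ∈ J U, ∀ ⦃V : C⦄ (g : V ⟶ U), S g →
      ∃ (l : ℕ) (t : Fin l → ModSite.sect F V) (a : Fin n → Fin l → O.obj.obj (op V)),
        (∀ j, (F.val.map g.op).hom (s j) = ∑ k, a j k • t k) ∧
        (∀ k, ∑ j, a j k * (O.obj.map g.op).hom (f j) = 0) := by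
  let T : Over U := Over.mk (𝟙 U)
  haveI : ∀ V : Over U, Subsingleton (V ⟶ T) :=
    fun V => ⟨fun a b => Over.mkIdTerminal.hom_ext a b⟩
  have hF' := Groth.Agent.LD.EZ.isFlat_restr O U F hF
  obtain ⟨S', hS', h'⟩ := eqCrit_of_isFlat (O := O.over U) T f ((ModSite.restr O U).obj F) hF' s hrel
  refine ⟨Sieve.overEquiv T S', (J.mem_over_iff S').1 hS', fun V g hg => ?_⟩
  have hg' := (Sieve.overEquiv_iff S' g).1 hg
  exact h' _ hg'


/-- **S9095** -/
theorem S9095 (F : ModSite.Mod O) :
    ModSite.IsFlat F ↔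
      ∀ (U : C) (n : ℕ) (f : Fin n → O.obj.obj (op U)) (s : Fin n → ModSite.sect F U),
        ∑ j, f j • s j = 0 →
        ∃ S ∈ J U, ∀ ⦃V : C⦄ (g : V ⟶ U), S g →
          ∃ (l : ℕ) (t : Fin l → ModSite.sect F V) (a : Fin n → Fin l → O.obj.obj (op V)),
            (∀ j, (F.val.map g.op).hom (s j) = ∑ k, a j k • t k) ∧
            (∀ k, ∑ j, a j k * (O.obj.map g.op).hom (f j) = 0) := by
  constructor
  · intro hF U n f s hrel
    exact eqCrit_of_isFlat_site O F hF U n f s hrel
  · intro h
    exact isFlat_of_eqCritP F (fun U n f s hrel => h U n f s hrel)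

end Groth.Agent.H4.SFlat7
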