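import Mathlib
import Groth.Prelude.Def_KFlatSite
import Groth.Prelude.Def_DCoh4
import Groth.Agent.H4.GKS5
import Groth.Agent.H4.SFlat6

set_option autoImplicit false
universe u
open CategoryTheory CategoryTheory.Limits Opposite AlgebraicGeometry
attribute [local instance] HasDerivedCategory.standard
open Groth.Agent.H4.SFlat6

namespace Groth.Agent.H4.SFlat8

theorem S0955 {X : Scheme.{u}} (G : CochainComplex X.Modules ℤ) :
    ∃ (K : CochainComplex X.Modules ℤ) (q : K ⟶ G), DCoh.IsKFlat K ∧ (∀ n : ℤ, FlatMod.IsFlat (K.X n)) ∧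
      QuasiIso q ∧ ∀ n : ℤ, Epi (q.f n) := by
  obtain ⟨K, q, h1, h2, h3, h4⟩ := Groth.Agent.H4.GKS5.S9060 (O := X.sheaf) G
  exact ⟨K, q, h1, fun n => (isFlat_iff_stalkwise _).1 (h2 n), h3, h4⟩

theorem S0958 {X : Scheme.{u}} {K L : CochainComplex X.Modules ℤ} (a : K ⟶ L) (hK : DCoh.IsKFlat K) :
    ∃ (N : CochainComplex X.Modules ℤ) (b : K ⟶ N) (c : N ⟶ L), DCoh.IsKFlat N ∧ QuasiIso c ∧
      Nonempty (Homotopy a (b ≫ c)) ∧ ((∀ n : ℤ, FlatMod.IsFlat (K.X n)) → ∀ n : ℤ, FlatMod.IsFlat (N.X n)) := by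
  obtain ⟨N, b, c, h1, h2, h3, h4⟩ := Groth.Agent.H4.GKS5.S9061 (O := X.sheaf) a hK
  exact ⟨N, b, c, h1, h2, h3, fun h n => (isFlat_iff_stalkwise _).1
    (h4 (fun m => (isFlat_iff_stalkwise _).2 (h m)) n)⟩

end Groth.Agent.H4.SFlat8
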