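import Mathlib
import Groth.Prelude.Def_ModSite2
import Groth.Agent.H4.SFlat7

set_option autoImplicit false
universe u
open CategoryTheory CategoryTheory.Limits Opposite
open Groth.Agent.LD.MS Groth.Agent.H4.SFlat1 Groth.Agent.H4.SFlat2 Groth.Agent.H4.SFlat4
  Groth.Agent.H4.SFlat7

namespace Groth.Agent.H4.SPt1


section Pt

universe w' w v v' u' u''

variable {C : Type u''} [Category.{v} C] {J : GrothendieckTopology C} (Φ : GrothendieckTopology.Point.{w} J)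
  {A : Type u'} [Category.{v'} A] [HasColimitsOfSize.{w, w} A]
  {FC : A → A → Type*} {CC : A → Type w'}
  [∀ (X Y : A), FunLike (FC X Y) (CC X) (CC Y)]
  [ConcreteCategory.{w'} A FC]
  [PreservesFilteredColimitsOfSize.{w, w} (forget A)] [LocallySmall.{w} C]
  (P : Cᵒᵖ ⥤ A)

/-- finitely many germs at a point of a site have representatives on a common neighbourhood,
refining a given one -/
lemma exists_rep_fin (X₀ : C) (x₀ : Φ.fiber.obj X₀) : ∀ (n : ℕ)
    (g : Fin n → ToType (Φ.presheafFiber.obj P)),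
    ∃ (X : C) (x : Φ.fiber.obj X) (φ : X ⟶ X₀) (_ : Φ.fiber.map φ x = x₀)
      (z : Fin n → ToType (P.obj (op X))), ∀ i, Φ.toPresheafFiber X x P (z i) = g i := by
  intro n
  induction n with
  | zero =>
    intro g
    exact ⟨X₀, x₀, 𝟙 X₀, by simp, fun i => Fin.elim0 i, fun i => Fin.elim0 i⟩
  | succ n ih =>
    intro g
    obtain ⟨X₁, x₁, φ₁, hφ₁, z₁, hz₁⟩ := ih (fun i => g i.succ)
    obtain ⟨Y, y, z₀, hz₀⟩ := Φ.toPresheafFiber_jointly_surjective (P := P) (g 0)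
    let W := IsCofiltered.min (Functor.elementsMk Φ.fiber X₁ x₁) (Functor.elementsMk Φ.fiber Y y)
    let α := IsCofiltered.minToLeft (Functor.elementsMk Φ.fiber X₁ x₁)
      (Functor.elementsMk Φ.fiber Y y)
    let β := IsCofiltered.minToRight (Functor.elementsMk Φ.fiber X₁ x₁)
      (Functor.elementsMk Φ.fiber Y y)
    have hα : Φ.fiber.map α.1 W.2 = x₁ := α.2
    have hβ : Φ.fiber.map β.1 W.2 = y := β.2
    refine ⟨W.1, W.2, α.1 ≫ φ₁, ?_, Fin.cons (P.map β.1.op z₀) (fun i => P.map α.1.op (z₁ i)), ?_⟩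
    · rw [Functor.map_comp]
      change Φ.fiber.map φ₁ (Φ.fiber.map α.1 W.2) = x₀
      rw [hα, hφ₁]
    · intro i
      refine Fin.cases ?_ (fun i => ?_) i
      · rw [Fin.cons_zero, Φ.toPresheafFiber_w_apply, hβ, hz₀]
      · rw [Fin.cons_succ, Φ.toPresheafFiber_w_apply, hα, hz₁]

/-- finitely many equalities of germs at a point of a site hold on a common neighbourhood -/
lemma exists_eq_fin (X₀ : C) (x₀ : Φ.fiber.obj X₀) : ∀ (n : ℕ)
    (s t : Fin n → ToType (P.obj (op X₀)))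
    (_ : ∀ i, Φ.toPresheafFiber X₀ x₀ P (s i) = Φ.toPresheafFiber X₀ x₀ P (t i)),
    ∃ (X : C) (x : Φ.fiber.obj X) (φ : X ⟶ X₀) (_ : Φ.fiber.map φ x = x₀),
      ∀ i, P.map φ.op (s i) = P.map φ.op (t i) := by
  intro n
  induction n with
  | zero =>
    intro s t _
    exact ⟨X₀, x₀, 𝟙 X₀, by simp, fun i => Fin.elim0 i⟩
  | succ n ih =>
    intro s t h
    obtain ⟨X₁, x₁, φ₁, hφ₁, h₁⟩ := ih (fun i => s i.succ) (fun i => t i.succ) (fun i => h i.succ)
    obtain ⟨Y, f, y, hy, hf⟩ := (Φ.toPresheafFiber_eq_iff' (P := P) X₀ x₀ (s 0) (t 0)).1 (h 0)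
    let E₁ := Functor.elementsMk Φ.fiber X₁ x₁
    let E₂ := Functor.elementsMk Φ.fiber Y y
    let E₀ := Functor.elementsMk Φ.fiber X₀ x₀
    let a₁ : E₁ ⟶ E₀ := ⟨φ₁, hφ₁⟩
    let a₂ : E₂ ⟶ E₀ := ⟨f, hy⟩
    let W := IsCofiltered.min E₁ E₂
    let α : W ⟶ E₁ := IsCofiltered.minToLeft E₁ E₂
    let β : W ⟶ E₂ := IsCofiltered.minToRight E₁ E₂
    let Z := IsCofiltered.eq (α ≫ a₁) (β ≫ a₂)
    let γ : Z ⟶ W := IsCofiltered.eqHom (α ≫ a₁) (β ≫ a₂)
    have hγ : γ ≫ α ≫ a₁ = γ ≫ β ≫ a₂ := IsCofiltered.eq_condition _ _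
    have hγ' : γ.1 ≫ α.1 ≫ φ₁ = γ.1 ≫ β.1 ≫ f := congrArg Subtype.val hγ
    refine ⟨Z.1, Z.2, γ.1 ≫ α.1 ≫ φ₁, ((γ ≫ α ≫ a₁).2 : _), fun i => ?_⟩
    refine Fin.cases ?_ (fun i => ?_) i
    · rw [hγ']
      have e : (γ.1 ≫ β.1 ≫ f).op = f.op ≫ (γ.1 ≫ β.1).op := by
        rw [← op_comp, Category.assoc]
      rw [e, P.map_comp, ConcreteCategory.comp_apply, ConcreteCategory.comp_apply, hf]
    · have e : (γ.1 ≫ α.1 ≫ φ₁).op = φ₁.op ≫ (γ.1 ≫ α.1).op := by
        rw [← op_comp, Category.assoc]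
      rw [e, P.map_comp, ConcreteCategory.comp_apply, ConcreteCategory.comp_apply, h₁ i]


end Pt

variable {C : Type u} [SmallCategory C] {J : GrothendieckTopology C} {O : Sheaf J CommRingCat.{u}}
  (p : GrothendieckTopology.Point.{u} J)

open ModSite

lemma germ_add (F : Mod O) (X : C) (x : p.fiber.obj X) (s s' : sect F X) :
    germ p F X x (s + s') = germ p F X x s + germ p F X x s' :=
  map_add (p.toPresheafFiber X x (toAb F).obj).hom s s'

lemma germ_zero (F : Mod O) (X : C) (x : p.fiber.obj X) : germ p F X x (0 : sect F X) = 0 :=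
  map_zero (p.toPresheafFiber X x (toAb F).obj).hom

lemma germ_sum (F : Mod O) (X : C) (x : p.fiber.obj X) {ι : Type*} (s : Finset ι)
    (n : ι → sect F X) : germ p F X x (∑ i ∈ s, n i) = ∑ i ∈ s, germ p F X x (n i) :=
  map_sum (p.toPresheafFiber X x (toAb F).obj).hom n s

lemma germ_res (F : Mod O) {X Y : C} (g : Y ⟶ X) (y : p.fiber.obj Y) (s : sect F X) :
    germ p F Y y ((F.val.map g.op).hom s) = germ p F X (p.fiber.map g y) s :=
  p.toPresheafFiber_w_apply g y (toAb F).obj s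

lemma germRing_res {X Y : C} (g : Y ⟶ X) (y : p.fiber.obj Y) (r : O.obj.obj (op X)) :
    germRing p Y y ((O.obj.map g.op).hom r) = germRing p X (p.fiber.map g y) r :=
  p.toPresheafFiber_w_apply g y O.obj r

lemma germRing_mul (X : C) (x : p.fiber.obj X) (r r' : O.obj.obj (op X)) :
    germRing p X x (r * r') = germRing p X x r * germRing p X x r' :=
  map_mul (p.toPresheafFiber X x O.obj).hom r r'

lemma germRing_zero (X : C) (x : p.fiber.obj X) : germRing p X x (0 : O.obj.obj (op X)) = 0 :=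
  map_zero (p.toPresheafFiber X x O.obj).hom

lemma germRing_sum (X : C) (x : p.fiber.obj X) {ι : Type*} (s : Finset ι)
    (r : ι → O.obj.obj (op X)) : germRing p X x (∑ i ∈ s, r i) = ∑ i ∈ s, germRing p X x (r i) :=
  map_sum (p.toPresheafFiber X x O.obj).hom r s

/-- restriction of sections of a sheaf of modules -/
noncomputable def rs (F : Mod O) {X Y : C} (g : Y ⟶ X) (s : sect F X) : sect F Y :=
  (F.val.map g.op).hom s

lemma rs_zero (F : Mod O) {X Y : C} (g : Y ⟶ X) : rs F g (0 : sect F X) = 0 :=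
  map_zero (F.val.map g.op).hom

lemma rs_sum (F : Mod O) {X Y : C} (g : Y ⟶ X) {ι : Type*} (s : Finset ι) (n : ι → sect F X) :
    rs F g (∑ i ∈ s, n i) = ∑ i ∈ s, rs F g (n i) :=
  map_sum (F.val.map g.op).hom n s

lemma rs_smul (F : Mod O) {X Y : C} (g : Y ⟶ X) (r : O.obj.obj (op X)) (s : sect F X) :
    rs F g (r • s) = (ro g r : O.obj.obj (op Y)) • rs F g s :=
  F.val.map_smul g.op r s

lemma germ_rs (F : Mod O) {X Y : C} (g : Y ⟶ X) (y : p.fiber.obj Y) (s : sect F X) :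
    germ p F Y y (rs F g s) = germ p F X (p.fiber.map g y) s :=
  p.toPresheafFiber_w_apply g y (toAb F).obj s

lemma germRing_ro {X Y : C} (g : Y ⟶ X) (y : p.fiber.obj Y) (r : O.obj.obj (op X)) :
    germRing p Y y (ro g r) = germRing p X (p.fiber.map g y) r :=
  p.toPresheafFiber_w_apply g y O.obj r

/-- **S9092**: stalks of a flat module at a point of the site are flat -/
theorem S9092 (O : Sheaf J CommRingCat.{u}) (F : Mod O) (hF : IsFlat F)
    (p : GrothendieckTopology.Point.{u} J) :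
    Module.Flat (stalkRing p O) (stalkMod p F) := by
  apply Module.Flat.of_forall_isTrivialRelation
  intro l f₀ n₀ hrel
  obtain ⟨E₀⟩ := IsCofiltered.nonempty (C := p.fiber.Elements)
  obtain ⟨X₁, x₁, -, -, f₁, hf₁⟩ := exists_rep_fin p O.obj E₀.1 E₀.2 l f₀
  obtain ⟨X₂, x₂, φ₂, hφ₂, n₂₀, hn₂⟩ := exists_rep_fin p (toAb F).obj X₁ x₁ l n₀
  let n₂ : Fin l → sect F X₂ := n₂₀
  have hn₂' : ∀ i, germ p F X₂ x₂ (n₂ i) = n₀ i := hn₂
  let f₂ : Fin l → O.obj.obj (op X₂) := fun i => ro φ₂ (f₁ i)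
  have hf₂ : ∀ i, germRing p X₂ x₂ (f₂ i) = f₀ i := fun i => by
    change germRing p X₂ x₂ (ro φ₂ (f₁ i)) = f₀ i
    rw [germRing_ro, hφ₂]
    exact hf₁ i
  have hg : germ p F X₂ x₂ (∑ i, f₂ i • n₂ i) = germ p F X₂ x₂ 0 := by
    rw [germ_sum, germ_zero, ← hrel]
    refine Finset.sum_congr rfl (fun i _ => ?_)
    rw [germ_smul, hf₂, hn₂']
  obtain ⟨X₃, x₃, φ₃, hφ₃, h3⟩ := exists_eq_fin p (toAb F).obj X₂ x₂ 1
    (fun _ => (∑ i, f₂ i • n₂ i : sect F X₂)) (fun _ => (0 : sect F X₂)) (fun _ => hg)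
  have h3' : ∑ i, ro φ₃ (f₂ i) • rs F φ₃ (n₂ i) = 0 := by
    have := h3 0
    change rs F φ₃ (∑ i, f₂ i • n₂ i) = rs F φ₃ 0 at this
    rw [rs_sum, rs_zero] at this
    rw [← this]
    exact Finset.sum_congr rfl (fun i _ => (rs_smul F φ₃ (f₂ i) (n₂ i)).symm)
  obtain ⟨S, hS, hS'⟩ := eqCrit_of_isFlat_site O F hF X₃ l
    (fun i => ro φ₃ (f₂ i)) (fun i => rs F φ₃ (n₂ i)) h3'
  obtain ⟨V, g, hg', v, hv⟩ := p.jointly_surjective S hS x₃
  obtain ⟨k, t, a, h1, h2⟩ := hS' g hg'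
  refine ⟨k, fun i j => germRing p V v (a i j), fun j => germ p F V v (t j), fun i => ?_,
    fun j => ?_⟩
  · have h1' : rs F g (rs F φ₃ (n₂ i)) = ∑ k, a i k • t k := h1 i
    have e1 := congrArg (germ p F V v) h1'
    rw [germ_rs, germ_rs, hv, hφ₃, hn₂', germ_sum] at e1
    rw [e1]
    refine Finset.sum_congr rfl (fun j _ => ?_)
    rw [germ_smul]
  · have h2' : ∑ i, a i j * ro g (ro φ₃ (f₂ i)) = 0 := h2 j
    have e2 := congrArg (germRing p V v) h2'
    rw [germRing_sum, germRing_zero] at e2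
    rw [← e2]
    refine Finset.sum_congr rfl (fun i _ => ?_)
    rw [germRing_mul, germRing_ro, germRing_ro, hv, hφ₃, hf₂, mul_comm]

end Groth.Agent.H4.SPt1
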