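import Mathlib
import Groth.Prelude.Def_ModSite2
import Groth.Agent.H4.SPt1

set_option autoImplicit false
universe u
open CategoryTheory CategoryTheory.Limits Opposite
open Groth.Agent.LD.MS Groth.Agent.H4.SFlat1 Groth.Agent.H4.SFlat2 Groth.Agent.H4.SFlat4
  Groth.Agent.H4.SFlat7 Groth.Agent.H4.SPt1

namespace Groth.Agent.H4.SPt2

section Pt

universe w' w v v' u' u''

variable {C : Type u''} [Category.{v} C] {J : GrothendieckTopology C} (Φ : GrothendieckTopology.Point.{w} J)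
  {A : Type u'} [Category.{v'} A] [HasColimitsOfSize.{w, w} A]
  {FC : A → A → Type*} {CC : A → Type w'}
  [∀ (X Y : A), FunLike (FC X Y) (CC X) (CC Y)]
  [ConcreteCategory.{w'} A FC]
  [PreservesFilteredColimitsOfSize.{w, w} (forget A)] [LocallySmall.{w} C]
  (P : Cᵒᵖ ⥤ A)

lemma exists_rep_fintype (X₀ : C) (x₀ : Φ.fiber.obj X₀) {ι : Type*} [Fintype ι]
    (g : ι → ToType (Φ.presheafFiber.obj P)) :
    ∃ (X : C) (x : Φ.fiber.obj X) (φ : X ⟶ X₀) (_ : Φ.fiber.map φ x = x₀)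
      (z : ι → ToType (P.obj (op X))), ∀ i, Φ.toPresheafFiber X x P (z i) = g i := by
  obtain ⟨X, x, φ, hφ, z, hz⟩ := exists_rep_fin Φ P X₀ x₀ (Fintype.card ι)
    (g ∘ (Fintype.equivFin ι).symm)
  exact ⟨X, x, φ, hφ, z ∘ Fintype.equivFin ι, fun i => by simpa using hz (Fintype.equivFin ι i)⟩

lemma exists_eq_fintype (X₀ : C) (x₀ : Φ.fiber.obj X₀) {ι : Type*} [Fintype ι]
    (s t : ι → ToType (P.obj (op X₀)))
    (h : ∀ i, Φ.toPresheafFiber X₀ x₀ P (s i) = Φ.toPresheafFiber X₀ x₀ P (t i)) :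
    ∃ (X : C) (x : Φ.fiber.obj X) (φ : X ⟶ X₀) (_ : Φ.fiber.map φ x = x₀),
      ∀ i, P.map φ.op (s i) = P.map φ.op (t i) := by
  obtain ⟨X, x, φ, hφ, hz⟩ := exists_eq_fin Φ P X₀ x₀ (Fintype.card ι)
    (s ∘ (Fintype.equivFin ι).symm) (t ∘ (Fintype.equivFin ι).symm) (fun i => h _)
  exact ⟨X, x, φ, hφ, fun i => by simpa using hz (Fintype.equivFin ι i)⟩

end Pt

variable {C : Type u} [SmallCategory C] {J : GrothendieckTopology C} {O : Sheaf J CommRingCat.{u}}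
  (p : GrothendieckTopology.Point.{u} J)

open ModSite

lemma ro_ro {U V W : C} (g : V ⟶ U) (h : W ⟶ V) (a : O.obj.obj (op U)) :
    ro h (ro g a) = ro (h ≫ g) a := (ro_comp g h a).symm

lemma rs_rs (F : Mod O) {U V W : C} (g : V ⟶ U) (h : W ⟶ V) (s : sect F U) :
    rs F h (rs F g s) = rs F (h ≫ g) s := by
  unfold rs
  rw [op_comp, F.val.map_comp]
  rfl

/-- local equational criterion near a point with flat stalk -/
theorem eqCrit_at_point (F : Mod O) (hfl : Module.Flat (stalkRing p O) (stalkMod p F))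
    (U : C) (u : p.fiber.obj U) {n : ℕ} (f : Fin n → O.obj.obj (op U)) (s : Fin n → sect F U)
    (hrel : ∑ j, f j • s j = 0) :
    ∃ (V : C) (g : V ⟶ U) (v : p.fiber.obj V) (_ : p.fiber.map g v = u) (l : ℕ)
      (t : Fin l → sect F V) (a : Fin n → Fin l → O.obj.obj (op V)),
      (∀ j, rs F g (s j) = ∑ k, a j k • t k) ∧ ∀ k, ∑ j, a j k * ro g (f j) = 0 := by
  have h' : ∑ j, germRing p U u (f j) • (germ p F U u (s j) : stalkMod p F) = 0 := by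
    have := congrArg (germ p F U u) hrel
    rw [germ_sum, germ_zero] at this
    rw [← this]
    exact Finset.sum_congr rfl (fun j _ => (germ_smul p F U u _ _).symm)
  obtain ⟨l, a₀, y₀, hy₀, ha₀⟩ := Module.Flat.isTrivialRelation_of_sum_smul_eq_zero h'
  have hy₀' : ∀ j, germ p F U u (s j) = ∑ k, a₀ j k • y₀ k := hy₀
  have ha₀' : ∀ k, ∑ j, germRing p U u (f j) * a₀ j k = 0 := ha₀
  obtain ⟨X₁, x₁, φ₁, hφ₁, a₁, ha₁⟩ := exists_rep_fintype p O.obj U u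
    (fun q : Fin n × Fin l => a₀ q.1 q.2)
  obtain ⟨X₂, x₂, φ₂, hφ₂, y₂₀, hy₂⟩ := exists_rep_fintype p (toAb F).obj X₁ x₁ y₀
  obtain ⟨y₂, hy₂def⟩ : ∃ y₂ : Fin l → sect F X₂, y₂ = y₂₀ := ⟨_, rfl⟩
  have hy₂' : ∀ k, germ p F X₂ x₂ (y₂ k) = y₀ k := by
    subst hy₂def
    exact hy₂
  obtain ⟨a₂, ha₂def⟩ : ∃ a₂ : Fin n → Fin l → O.obj.obj (op X₂),
    a₂ = fun j k => ro φ₂ (a₁ (j, k)) := ⟨_, rfl⟩
  have ha₂ : ∀ j k, germRing p X₂ x₂ (a₂ j k) = a₀ j k := fun j k => by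
    subst ha₂def
    change germRing p X₂ x₂ (ro φ₂ (a₁ (j, k))) = a₀ j k
    rw [germRing_ro, hφ₂]
    exact ha₁ (j, k)
  clear ha₂def hy₂def
  have hx₂ : p.fiber.map (φ₂ ≫ φ₁) x₂ = u := by
    rw [Functor.map_comp]
    change p.fiber.map φ₁ (p.fiber.map φ₂ x₂) = u
    rw [hφ₂, hφ₁]
  -- equalities of germs at `X₂`
  have hA : ∀ j, germ p F X₂ x₂ (rs F (φ₂ ≫ φ₁) (s j)) =
      germ p F X₂ x₂ (∑ k, a₂ j k • y₂ k) := by
    intro j
    rw [germ_rs, hx₂, hy₀' j, germ_sum]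
    refine Finset.sum_congr rfl (fun k _ => ?_)
    rw [germ_smul, ha₂, hy₂']
  obtain ⟨X₃, x₃, φ₃, hφ₃, hA₃⟩ := exists_eq_fintype p (toAb F).obj X₂ x₂
    (fun j => (rs F (φ₂ ≫ φ₁) (s j) : sect F X₂)) (fun j => (∑ k, a₂ j k • y₂ k : sect F X₂)) hA
  have hB : ∀ k, germRing p X₂ x₂ (∑ j, a₂ j k * ro (φ₂ ≫ φ₁) (f j)) =
      germRing p X₂ x₂ 0 := by
    intro k
    rw [germRing_sum, germRing_zero, ← ha₀' k]
    refine Finset.sum_congr rfl (fun j _ => ?_)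
    rw [germRing_mul, ha₂, germRing_ro, hx₂, mul_comm]
  obtain ⟨X₄, x₄, φ₄, hφ₄, hB₄⟩ := exists_eq_fintype p O.obj X₃ x₃
    (fun k => ro φ₃ (∑ j, a₂ j k * ro (φ₂ ≫ φ₁) (f j))) (fun _ => ro φ₃ 0) (fun k => by
      have := hB k
      change germRing p X₃ x₃ (ro φ₃ _) = germRing p X₃ x₃ (ro φ₃ 0)
      rw [germRing_ro, germRing_ro, hφ₃]
      exact this)
  refine ⟨X₄, φ₄ ≫ φ₃ ≫ φ₂ ≫ φ₁, x₄, ?_, l, fun k => rs F (φ₄ ≫ φ₃) (y₂ k),
    fun j k => ro (φ₄ ≫ φ₃) (a₂ j k), fun j => ?_, fun k => ?_⟩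
  · rw [Functor.map_comp, Functor.map_comp]
    change p.fiber.map (φ₂ ≫ φ₁) (p.fiber.map φ₃ (p.fiber.map φ₄ x₄)) = u
    rw [hφ₄, hφ₃, hx₂]
  · have h1 : rs F φ₃ (rs F (φ₂ ≫ φ₁) (s j)) = rs F φ₃ (∑ k, a₂ j k • y₂ k) := hA₃ j
    calc rs F (φ₄ ≫ φ₃ ≫ φ₂ ≫ φ₁) (s j)
        = rs F φ₄ (rs F φ₃ (rs F (φ₂ ≫ φ₁) (s j))) := by rw [rs_rs, rs_rs, Category.assoc]
      _ = rs F φ₄ (rs F φ₃ (∑ k, a₂ j k • y₂ k)) := by rw [h1]
      _ = rs F (φ₄ ≫ φ₃) (∑ k, a₂ j k • y₂ k) := rs_rs F _ _ _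
      _ = ∑ k, rs F (φ₄ ≫ φ₃) (a₂ j k • y₂ k) := rs_sum F _ _ _
      _ = _ := Finset.sum_congr rfl (fun k _ => rs_smul F _ _ _)
  · have h1 : ro φ₄ (ro φ₃ (∑ j, a₂ j k * ro (φ₂ ≫ φ₁) (f j))) = ro φ₄ (ro φ₃ 0) := hB₄ k
    rw [ro_ro, ro_ro, ro_zero, ro_sum] at h1
    rw [← h1]
    refine Finset.sum_congr rfl (fun j _ => ?_)
    change ro (φ₄ ≫ φ₃) (a₂ j k) * ro (φ₄ ≫ φ₃ ≫ φ₂ ≫ φ₁) (f j) =
      ro (φ₄ ≫ φ₃) (a₂ j k * ro (φ₂ ≫ φ₁) (f j))
    rw [ro_mul, ro_ro (φ₂ ≫ φ₁) (φ₄ ≫ φ₃), Category.assoc]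

/-- flatness can be checked on the stalks at a conservative family of points -/
theorem isFlat_of_flat_stalks [HasSheafify J (Type u)] [J.WEqualsLocallyBijective (Type u)]
    (P : ObjectProperty (GrothendieckTopology.Point.{u} J))
    (hP : P.IsConservativeFamilyOfPoints) (F : Mod O)
    (hfl : ∀ p : GrothendieckTopology.Point.{u} J, P p →
      Module.Flat (stalkRing p O) (stalkMod p F)) : IsFlat F := by
  refine (S9095 O F).2 (fun U n f s hrel => ?_)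
  let S : Sieve U :=
    { arrows := fun V g => ∃ (l : ℕ) (t : Fin l → sect F V)
          (a : Fin n → Fin l → O.obj.obj (op V)),
          (∀ j, rs F g (s j) = ∑ k, a j k • t k) ∧ (∀ k, ∑ j, a j k * ro g (f j) = 0)
      downward_closed := by
        rintro V W g ⟨l, t, a, h1, h2⟩ h
        refine ⟨l, fun k => rs F h (t k), fun j k => ro h (a j k), fun j => ?_, fun k => ?_⟩
        · rw [← rs_rs, h1 j, rs_sum]
          exact Finset.sum_congr rfl (fun k _ => rs_smul F h _ _)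
        · have := congrArg (ro h) (h2 k)
          rw [ro_sum, ro_zero] at this
          rw [← this]
          refine Finset.sum_congr rfl (fun j _ => ?_)
          rw [ro_mul, ro_ro] }
  refine ⟨S, ?_, fun V g hg => hg⟩
  let ι : Type u := Σ V : C, {g : V ⟶ U // S g}
  refine J.superset_covering (S := Sieve.ofArrows (fun i : ι => i.1) (fun i : ι => i.2.1)) ?_ ?_
  · rw [Sieve.generate_le_iff, Presieve.ofArrows_le_iff]
    exact fun i => i.2.2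
  · rw [hP.jointly_reflect_ofArrows_mem]
    intro Φ x
    obtain ⟨V, g, v, hv, l, t, a, h1, h2⟩ :=
      eqCrit_at_point Φ.obj F (hfl Φ.obj Φ.property) U x f s hrel
    exact ⟨⟨V, g, ⟨l, t, a, h1, h2⟩⟩, v, hv⟩

/-- **S9093** -/
theorem S9093 [HasSheafify J (Type u)] [J.WEqualsLocallyBijective (Type u)]
    (O : Sheaf J CommRingCat.{u}) (P : ObjectProperty (GrothendieckTopology.Point.{u} J))
    (hP : P.IsConservativeFamilyOfPoints) (F : Mod O) :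
    IsFlat F ↔ ∀ p : GrothendieckTopology.Point.{u} J, P p →
      Module.Flat (stalkRing p O) (stalkMod p F) :=
  ⟨fun hF p _ => Groth.Agent.H4.SPt1.S9092 O F hF p, isFlat_of_flat_stalks P hP F⟩

end Groth.Agent.H4.SPt2
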