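import Mathlib
import Groth.Prelude.Def_ModSite2
import Groth.Agent.H4.SPt2

set_option autoImplicit false
universe u
open CategoryTheory CategoryTheory.Limits Opposite
open Groth.Agent.LD.MS Groth.Agent.H4.SFlat1 Groth.Agent.H4.SFlat2 Groth.Agent.H4.SFlat4
  Groth.Agent.H4.SFlat7 Groth.Agent.H4.SPt1 Groth.Agent.H4.SPt2

namespace Groth.Agent.H4.SPt3

variable {C : Type u} [SmallCategory C] {J : GrothendieckTopology C} {O : Sheaf J CommRingCat.{u}}
  (p : GrothendieckTopology.Point.{u} J)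

open ModSite

lemma ro_one {U V : C} (g : V ⟶ U) : ro g (1 : O.obj.obj (op U)) = 1 :=
  map_one (O.obj.map g.op).hom

lemma ro_sub {U V : C} (g : V ⟶ U) (a a' : O.obj.obj (op U)) :
    ro g (a - a') = ro g a - ro g a' := map_sub (O.obj.map g.op).hom a a'

lemma germRing_one (X : C) (x : p.fiber.obj X) : germRing p X x (1 : O.obj.obj (op X)) = 1 :=
  map_one (p.toPresheafFiber X x O.obj).hom

lemma germRing_sub (X : C) (x : p.fiber.obj X) (r r' : O.obj.obj (op X)) :
    germRing p X x (r - r') = germRing p X x r - germRing p X x r' :=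
  map_sub (p.toPresheafFiber X x O.obj).hom r r'

lemma isUnit_germRing (X : C) (x : p.fiber.obj X) (r : O.obj.obj (op X)) (h : IsUnit r) :
    IsUnit (germRing p X x r) :=
  h.map (p.toPresheafFiber X x O.obj).hom

lemma isUnit_ro {U V : C} (g : V ⟶ U) (a : O.obj.obj (op U)) (h : IsUnit a) : IsUnit (ro g a) :=
  h.map (O.obj.map g.op).hom

/-- **S9090** -/
theorem S9090 (O : Sheaf J CommRingCat.{u})
    (h : ∀ (U : C) (f : O.obj.obj (op U)), ∃ S ∈ J U, ∀ ⦃V : C⦄ (g : V ⟶ U), S g →
        IsUnit ((O.obj.map g.op).hom f) ∨ IsUnit ((O.obj.map g.op).hom (1 - f)))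
    (p : GrothendieckTopology.Point.{u} J) :
    Subsingleton (stalkRing p O) ∨ IsLocalRing (stalkRing p O) := by
  rcases subsingleton_or_nontrivial (stalkRing p O) with hs | hn
  · exact Or.inl hs
  · right
    apply IsLocalRing.of_isUnit_or_isUnit_one_sub_self
    intro a
    obtain ⟨X, x, f, hf⟩ := p.toPresheafFiber_jointly_surjective (P := O.obj) a
    obtain ⟨S, hS, hS'⟩ := h X f
    obtain ⟨V, g, hg, v, hv⟩ := p.jointly_surjective S hS x
    have e : germRing p V v (ro g f) = a := by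
      rw [germRing_ro, hv]
      exact hf
    rcases hS' g hg with hu | hu
    · left
      rw [← e]
      exact isUnit_germRing p V v _ hu
    · right
      have e' : germRing p V v (ro g (1 - f)) = 1 - a := by
        rw [ro_sub, germRing_sub, ro_one, germRing_one, e]
      rw [← e']
      exact isUnit_germRing p V v _ hu

/-- a section whose germ at a point is a unit is a unit on a neighbourhood -/
lemma exists_isUnit_of_isUnit_germ (U : C) (x : p.fiber.obj U) (f : O.obj.obj (op U))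
    (h : IsUnit (germRing p U x f)) :
    ∃ (V : C) (g : V ⟶ U) (v : p.fiber.obj V), p.fiber.map g v = x ∧ IsUnit (ro g f) := by
  obtain ⟨b, hb⟩ := h.exists_right_inv
  obtain ⟨X₁, x₁, φ₁, hφ₁, b₁, hb₁⟩ := exists_rep_fin p O.obj U x 1 (fun _ => b)
  have e : germRing p X₁ x₁ (ro φ₁ f * b₁ 0) = germRing p X₁ x₁ 1 := by
    rw [germRing_mul, germRing_ro, hφ₁, germRing_one]
    exact (congrArg (fun t => germRing p U x f * t) (hb₁ 0)).trans hb
  obtain ⟨X₂, x₂, φ₂, hφ₂, h2⟩ := exists_eq_fin p O.obj X₁ x₁ 1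
    (fun _ => ro φ₁ f * b₁ 0) (fun _ => (1 : O.obj.obj (op X₁))) (fun _ => e)
  refine ⟨X₂, φ₂ ≫ φ₁, x₂, ?_, ?_⟩
  · rw [Functor.map_comp]
    change p.fiber.map φ₁ (p.fiber.map φ₂ x₂) = x
    rw [hφ₂, hφ₁]
  · have h3 : ro φ₂ (ro φ₁ f * b₁ 0) = ro φ₂ 1 := h2 0
    rw [ro_mul, ro_ro, ro_one] at h3
    exact IsUnit.of_mul_eq_one _ h3

/-- **S9091** -/
theorem S9091 (O : Sheaf J CommRingCat.{u}) [GrothendieckTopology.HasEnoughPoints.{u} J]
    [HasSheafify J (Type u)] [J.WEqualsLocallyBijective (Type u)]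
    (h : ∀ p : GrothendieckTopology.Point.{u} J,
      Subsingleton (stalkRing p O) ∨ IsLocalRing (stalkRing p O))
    (U : C) (f : O.obj.obj (op U)) :
    ∃ S ∈ J U, ∀ ⦃V : C⦄ (g : V ⟶ U), S g →
        IsUnit ((O.obj.map g.op).hom f) ∨ IsUnit ((O.obj.map g.op).hom (1 - f)) := by
  obtain ⟨P, -, hP⟩ := GrothendieckTopology.HasEnoughPoints.exists_objectProperty.{u} J
  let S : Sieve U :=
    { arrows := fun V g => IsUnit (ro g f) ∨ IsUnit (ro g (1 - f))
      downward_closed := by
        rintro V W g (hu | hu) k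
        · left
          rw [← ro_ro]
          exact isUnit_ro k _ hu
        · right
          rw [← ro_ro]
          exact isUnit_ro k _ hu }
  refine ⟨S, ?_, fun V g hg => hg⟩
  let ι : Type u := Σ V : C, {g : V ⟶ U // S g}
  refine J.superset_covering (S := Sieve.ofArrows (fun i : ι => i.1) (fun i : ι => i.2.1)) ?_ ?_
  · rw [Sieve.generate_le_iff, Presieve.ofArrows_le_iff]
    exact fun i => i.2.2
  · rw [hP.jointly_reflect_ofArrows_mem]
    intro Φ x
    have hu : IsUnit (germRing Φ.obj U x f) ∨ IsUnit (germRing Φ.obj U x (1 - f)) := by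
      rcases h Φ.obj with hs | hl
      · exact Or.inl (isUnit_of_subsingleton _)
      · have := IsLocalRing.isUnit_or_isUnit_one_sub_self (germRing Φ.obj U x f)
        rw [germRing_sub, germRing_one]
        exact this
    rcases hu with hu | hu
    · obtain ⟨V, g, v, hv, hV⟩ := exists_isUnit_of_isUnit_germ Φ.obj U x f hu
      exact ⟨⟨V, g, Or.inl hV⟩, v, hv⟩
    · obtain ⟨V, g, v, hv, hV⟩ := exists_isUnit_of_isUnit_germ Φ.obj U x (1 - f) hu
      exact ⟨⟨V, g, Or.inr hV⟩, v, hv⟩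

end Groth.Agent.H4.SPt3
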