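import Mathlib

set_option linter.unusedSectionVars false
set_option linter.unusedVariables false
set_option linter.style.haveILetI false
set_option autoImplicit false

universe v

namespace Groth.Agent.H4.SSRedInt

open Polynomial Matrix

section general
variable {R : Type*} [CommRing R] {g : ℕ}

/-- `det (q·1 − C M) = (charpoly M).comp q`. -/
theorem det_scalar_sub (M : Matrix (Fin g) (Fin g) R) (q : R[X]) :
    (Matrix.scalar (Fin g) q - M.map C).det = M.charpoly.comp q := by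
  have h := RingHom.map_det (Polynomial.compRingHom q) (charmatrix M)
  have h2 : (Polynomial.compRingHom q).mapMatrix (charmatrix M)
      = Matrix.scalar (Fin g) q - M.map C := by
    ext i j
    by_cases hij : i = j
    · subst hij; simp [charmatrix_apply]
    · simp [charmatrix_apply, hij]
  rw [h2] at h
  rw [← h]; rfl

theorem charpoly_sub_one (A : Matrix (Fin g) (Fin g) R) :
    (A - 1).charpoly = A.charpoly.comp (X + 1) := by
  rw [← det_scalar_sub A (X + 1)]
  unfold Matrix.charpoly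
  congr 1
  ext i j
  by_cases hij : i = j
  · subst hij; simp [charmatrix_apply]; ring
  · simp [charmatrix_apply, hij]

theorem expand_charpoly_sq (D : Matrix (Fin g) (Fin g) R) :
    expand R 2 (D ^ 2).charpoly
      = D.charpoly * (C ((-1 : R) ^ g) * D.charpoly.comp (-X)) := by
  have e1 : expand R 2 (D ^ 2).charpoly
      = (Matrix.scalar (Fin g) (X ^ 2 : R[X]) - (D ^ 2).map C).det := by
    rw [det_scalar_sub, expand_eq_comp_X_pow]
  have hc : Commute (Matrix.scalar (Fin g) (X : R[X])) (D.map C) :=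
    Matrix.scalar_commute _ (fun _ => Commute.all _ _) _
  have hD : (D ^ 2).map C = (D.map C) ^ 2 :=
    map_pow (C.mapMatrix : Matrix (Fin g) (Fin g) R →+* Matrix (Fin g) (Fin g) R[X]) D 2
  have e2 : (Matrix.scalar (Fin g) (X ^ 2 : R[X]) - (D ^ 2).map C)
      = (Matrix.scalar (Fin g) (X : R[X]) - D.map C)
          * (Matrix.scalar (Fin g) (X : R[X]) + D.map C) := by
    rw [hD, map_pow, sq, sq, hc.mul_self_sub_mul_self_eq']
  have e3 : (Matrix.scalar (Fin g) (X : R[X]) + D.map C)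
      = - (Matrix.scalar (Fin g) (-X : R[X]) - D.map C) := by
    rw [map_neg]; abel
  rw [e1, e2, Matrix.det_mul, e3, Matrix.det_neg, det_scalar_sub, det_scalar_sub]
  simp

theorem charpoly_smul_comp (c : R) (B : Matrix (Fin g) (Fin g) R) :
    (c • B).charpoly.comp (C c * X) = C (c ^ g) * B.charpoly := by
  rw [← det_scalar_sub]
  have : (Matrix.scalar (Fin g) (C c * X) - (c • B).map C) = (C c) • (charmatrix B) := by
    ext i j
    by_cases hij : i = j
    · subst hij; simp [charmatrix_apply, mul_sub]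
    · simp [charmatrix_apply, hij]
  rw [this, Matrix.det_smul]
  simp [Matrix.charpoly]

theorem coeff_charpoly_smul [IsDomain R] (c : R) (hc : c ≠ 0) (B : Matrix (Fin g) (Fin g) R)
    (i : ℕ) (hi : i ≤ g) :
    (c • B).charpoly.coeff i = c ^ (g - i) * B.charpoly.coeff i := by
  have h := congrArg (fun p => p.coeff i) (charpoly_smul_comp c B)
  simp only [comp_C_mul_X_coeff, coeff_C_mul] at h
  apply mul_right_cancel₀ (pow_ne_zero i hc)
  rw [h, show c ^ g = c ^ (g - i) * c ^ i from by rw [← pow_add, Nat.sub_add_cancel hi]]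
  ring

end general

theorem int_dvd_of_padic (n : ℕ) (hn : 0 < n) (k : ℕ) (a : ℤ)
    (h : ∀ (ℓ : ℕ) [Fact ℓ.Prime], ℓ ∣ n → ((n : ℤ_[ℓ]) ^ k ∣ (a : ℤ_[ℓ]))) :
    ((n : ℤ) ^ k ∣ a) := by
  have h1 : n ^ k ∣ a.natAbs := by
    rw [Nat.dvd_iff_prime_pow_dvd_dvd]
    intro p j hp hpj
    rcases Nat.eq_zero_or_pos j with rfl | hj
    · simp
    haveI : Fact p.Prime := ⟨hp⟩
    have hpn : p ∣ n := by
      have : p ∣ n ^ k := dvd_trans (dvd_pow_self p hj.ne') hpj
      exact hp.dvd_of_dvd_pow this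
    have h2 := h p hpn
    have h3 : ((p : ℤ_[p]) ^ j ∣ (a : ℤ_[p])) := by
      refine dvd_trans ?_ h2
      obtain ⟨c, hc⟩ := hpj
      refine ⟨(c : ℤ_[p]), ?_⟩
      have := congrArg (Nat.cast : ℕ → ℤ_[p]) hc
      push_cast at this
      exact this
    rw [PadicInt.pow_p_dvd_int_iff] at h3
    exact Int.natCast_dvd.mp (by exact_mod_cast h3)
  have := Int.natCast_dvd.mpr h1
  exact_mod_cast this

theorem isIntegral_div_of_dvd_coeff {K : Type*} [Field K] [CharZero K] (n : ℕ) (hn : 0 < n)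
    (g : ℕ) (P : ℤ[X]) (hP : P.Monic) (hdeg : P.natDegree = g)
    (hdvd : ∀ i ≤ g, (n : ℤ) ^ (g - i) ∣ P.coeff i)
    (x : K) (hx : aeval x P = 0) : IsIntegral ℤ (x / n) := by
  choose! q hq using hdvd
  let Q : ℤ[X] := ∑ i ∈ Finset.range (g + 1), C (q i) * X ^ i
  have hQc : ∀ j, Q.coeff j = if j < g + 1 then q j else 0 := by
    intro j
    simp only [Q, Polynomial.finset_sum_coeff, coeff_C_mul, coeff_X_pow]
    simp [Finset.sum_ite_eq]
  have hqg : q g = 1 := by
    have := hq g le_rfl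
    rw [Nat.sub_self, pow_zero, one_mul] at this
    rw [← this, ← hdeg]; exact hP.coeff_natDegree
  have hQm : Q.Monic := by
    apply monic_of_natDegree_le_of_coeff_eq_one g
    · apply natDegree_sum_le_of_forall_le
      intro i hi
      exact (natDegree_C_mul_X_pow_le _ _).trans (Nat.lt_succ_iff.mp (Finset.mem_range.mp hi))
    · rw [hQc]; simp [hqg]
  refine ⟨Q, hQm, ?_⟩
  have hn0 : (n : K) ≠ 0 := Nat.cast_ne_zero.mpr hn.ne'
  have key : (n : K) ^ g * eval₂ (algebraMap ℤ K) (x / n) Q = aeval x P := by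
    rw [aeval_eq_sum_range' (show P.natDegree < g + 1 by omega)]
    simp only [Q, eval₂_finset_sum, eval₂_mul, eval₂_C, eval₂_pow, eval₂_X, Finset.mul_sum]
    apply Finset.sum_congr rfl
    intro i hi
    have hi' : i ≤ g := Nat.lt_succ_iff.mp (Finset.mem_range.mp hi)
    rw [hq i hi', Algebra.smul_def, eq_intCast, eq_intCast]
    push_cast
    rw [div_pow]
    have : (n : K) ^ g = (n : K) ^ (g - i) * (n : K) ^ i := by
      rw [← pow_add, Nat.sub_add_cancel hi']
    rw [this]; field_simp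
  have : (n : K) ^ g * eval₂ (algebraMap ℤ K) (x / n) Q = 0 := by rw [key, hx]
  exact (mul_eq_zero.mp this).resolve_left (pow_ne_zero g hn0)

theorem main (n : ℕ) (hn : 0 < n) (g : ℕ) (f : Polynomial ℤ)
    (hf : f.Monic)
    (hA : ∀ (ℓ : ℕ) [Fact ℓ.Prime], ℓ ∣ n → ∃ A : Matrix (Fin g) (Fin g) ℤ_[ℓ],
      A.charpoly = f.map (Int.castRingHom ℤ_[ℓ]) ∧
        ∃ B : Matrix (Fin g) (Fin g) ℤ_[ℓ], (A - 1) ^ 2 = (n : ℤ_[ℓ]) • B)
    (K : Type v) [Field K] [CharZero K] (α s : K) (hα : Polynomial.aeval α f = 0)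
    (hs : s ^ 2 = (n : K)) :
    IsIntegral ℤ ((α - 1) / s) := by
  have hαi : IsIntegral ℤ α := ⟨f, hf, hα⟩
  have hn0 : (n : K) ≠ 0 := Nat.cast_ne_zero.mpr hn.ne'
  suffices hβ : IsIntegral ℤ ((α - 1) ^ 2 / n) by
    apply IsIntegral.of_pow (n := 2) (by norm_num)
    rw [div_pow, hs]; exact hβ
  by_cases h1 : n = 1
  · subst h1
    simp only [Nat.cast_one, div_one]
    exact ((hαi.sub isIntegral_one).pow 2)
  obtain ⟨ℓ₀, hℓ₀, hℓ₀n⟩ := Nat.exists_prime_and_dvd h1
  set H : ℤ[X] := f.comp (X + 1) * (C ((-1 : ℤ) ^ g) * (f.comp (X + 1)).comp (-X)) with hH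
  set P : ℤ[X] := contract 2 H with hP
  have hmap : ∀ (ℓ : ℕ) [Fact ℓ.Prime], ℓ ∣ n → ∃ B : Matrix (Fin g) (Fin g) ℤ_[ℓ],
      P.map (Int.castRingHom ℤ_[ℓ]) = ((n : ℤ_[ℓ]) • B).charpoly ∧
      expand ℤ_[ℓ] 2 (((n : ℤ_[ℓ]) • B).charpoly) = H.map (Int.castRingHom ℤ_[ℓ]) := by
    intro ℓ _ hℓ
    obtain ⟨A, hAf, B, hAB⟩ := hA ℓ hℓ
    refine ⟨B, ?_⟩
    have e : expand ℤ_[ℓ] 2 (((n : ℤ_[ℓ]) • B).charpoly)
        = H.map (Int.castRingHom ℤ_[ℓ]) := by
      rw [← hAB, expand_charpoly_sq, charpoly_sub_one, hAf, hH]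
      simp [Polynomial.map_comp]
    refine ⟨?_, e⟩
    ext i
    rw [coeff_map, hP, coeff_contract (by norm_num), ← coeff_map, ← e,
      coeff_expand_mul (by norm_num)]
  haveI : Fact ℓ₀.Prime := ⟨hℓ₀⟩
  obtain ⟨B₀, hB₀, hB₀'⟩ := hmap ℓ₀ hℓ₀n
  have hinj : Function.Injective (Int.castRingHom ℤ_[ℓ₀]) := by
    intro a b hab
    simpa using hab
  have hPm : P.Monic := by
    apply monic_of_injective hinj
    rw [hB₀]; exact Matrix.charpoly_monic _
  have hPd : P.natDegree = g := by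
    rw [← natDegree_map_eq_of_injective hinj, hB₀, Matrix.charpoly_natDegree_eq_dim]
    simp
  have hPH : expand ℤ 2 P = H := by
    apply map_injective _ hinj
    rw [map_expand, hB₀, hB₀']
  have hroot : aeval ((α - 1) ^ 2) P = 0 := by
    rw [← expand_aeval, hPH, hH]
    simp [aeval_comp, hα]
  apply isIntegral_div_of_dvd_coeff n hn g P hPm hPd _ _ hroot
  intro i hi
  apply int_dvd_of_padic n hn
  intro ℓ _ hℓ
  obtain ⟨B, hB, -⟩ := hmap ℓ hℓ
  have hc := congrArg (fun p => p.coeff i) hB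
  simp only [coeff_map] at hc
  rw [coeff_charpoly_smul _ (by exact_mod_cast hn.ne') _ _ hi, eq_intCast] at hc
  exact ⟨_, hc⟩

end Groth.Agent.H4.SSRedInt
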