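import Mathlib
import Groth.Prelude
import Groth.Agent.Lib.Helper2.SchDense

set_option autoImplicit false
universe u
open AlgebraicGeometry CategoryTheory TopologicalSpace Opposite

namespace Groth.Agent.H4.SchDenseAff

section top

lemma irreducibleComponents_finite_of_homeomorph {X Y : Type*} [TopologicalSpace X]
    [TopologicalSpace Y] (e : X ≃ₜ Y) (h : (irreducibleComponents X).Finite) :
    (irreducibleComponents Y).Finite := by
  refine Set.Finite.subset (h.image (fun s => e '' s)) ?_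
  intro t ht
  refine ⟨e.symm '' t, ?_, ?_⟩
  · refine ⟨ht.1.image _ e.symm.continuous.continuousOn, ?_⟩
    intro s' hs' hle
    have h1 : IsIrreducible (e '' s') := hs'.image _ e.continuous.continuousOn
    have h2 : t ⊆ e '' s' := by
      intro y hy
      exact ⟨e.symm y, hle ⟨y, hy, rfl⟩, by simp⟩
    have h3 : e '' s' ⊆ t := ht.2 h1 h2
    intro x hx
    exact ⟨e x, h3 ⟨x, hx, rfl⟩, by simp⟩
  · ext y
    simp

end top

section alg
variable (A : Type u) [CommRing A]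

theorem exists_primes (h : IsNoetherianRing A ∨ (IsReduced A ∧ (minimalPrimes A).Finite)) :
    ∃ P : Finset (Ideal A), (∀ 𝔭 ∈ P, 𝔭.IsPrime) ∧
      (∀ t : A, (∀ 𝔭 ∈ P, t ∉ 𝔭) → t ∈ nonZeroDivisors A) ∧
      (∀ 𝔭 ∈ P, ∃ a : A, a ≠ 0 ∧ ∀ s ∈ 𝔭, s * a = 0) := by
  classical
  rcases h with h | ⟨hred, hfin⟩
  · have hf := associatedPrimes.finite A A
    refine ⟨hf.toFinset, ?_, ?_, ?_⟩
    · intro 𝔭 h𝔭
      rw [Set.Finite.mem_toFinset] at h𝔭
      exact h𝔭.isPrime
    · intro t ht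
      rw [mem_nonZeroDivisors_iff_left]
      intro x hx
      by_contra hx0
      have h1 : t ∈ {r : A | ∃ x : A, x ≠ 0 ∧ r • x = 0} := ⟨x, hx0, hx⟩
      rw [← biUnion_associatedPrimes_eq_zero_divisors] at h1
      simp only [Set.mem_iUnion] at h1
      obtain ⟨𝔭, h𝔭, ht𝔭⟩ := h1
      exact ht 𝔭 (by rw [Set.Finite.mem_toFinset]; exact h𝔭) ht𝔭
    · intro 𝔭 h𝔭
      rw [Set.Finite.mem_toFinset] at h𝔭
      obtain ⟨hprime, a, ha⟩ := isAssociatedPrime_iff.1 h𝔭
      refine ⟨a, ?_, ?_⟩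
      · rintro rfl
        apply hprime.ne_top
        rw [ha, eq_top_iff]
        intro r _
        rw [Submodule.mem_colon_singleton]
        simp
      · intro s hs
        rw [ha, Submodule.mem_colon_singleton] at hs
        simpa using hs
  · have hinf : sInf (minimalPrimes A) = (⊥ : Ideal A) := by
      have h1 : sInf (minimalPrimes A) = (⊥ : Ideal A).radical := Ideal.sInf_minimalPrimes
      rw [h1]
      exact nilradical_eq_zero A
    refine ⟨hfin.toFinset, ?_, ?_, ?_⟩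
    · intro 𝔭 h𝔭
      rw [Set.Finite.mem_toFinset] at h𝔭
      exact Ideal.minimalPrimes_isPrime h𝔭
    · intro t ht
      rw [mem_nonZeroDivisors_iff_right]
      intro x hx
      have h1 : x ∈ sInf (minimalPrimes A) := by
        rw [Ideal.mem_sInf]
        intro 𝔭 h𝔭
        have hp : 𝔭.IsPrime := Ideal.minimalPrimes_isPrime h𝔭
        have h2 : x * t ∈ 𝔭 := by rw [hx]; exact zero_mem _
        rcases hp.mem_or_mem h2 with h3 | h3
        · exact h3
        · exact absurd h3 (ht 𝔭 (by rw [Set.Finite.mem_toFinset]; exact h𝔭))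
      rw [hinf] at h1
      exact h1
    · intro 𝔭 h𝔭
      have h𝔭' : 𝔭 ∈ minimalPrimes A := by rwa [Set.Finite.mem_toFinset] at h𝔭
      have hp : 𝔭.IsPrime := Ideal.minimalPrimes_isPrime h𝔭'
      have hnot : ¬ (hfin.toFinset.erase 𝔭).inf id ≤ 𝔭 := by
        intro hle
        obtain ⟨𝔮, h𝔮, h𝔮𝔭⟩ := (Ideal.IsPrime.inf_le' hp).1 hle
        rw [Finset.mem_erase, Set.Finite.mem_toFinset] at h𝔮
        have hq : 𝔮.IsPrime := Ideal.minimalPrimes_isPrime h𝔮.2
        have h4 : 𝔭 ≤ 𝔮 := h𝔭'.2 ⟨hq, bot_le⟩ h𝔮𝔭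
        exact h𝔮.1 (le_antisymm h𝔮𝔭 h4)
      obtain ⟨a, ha, ha𝔭⟩ := SetLike.not_le_iff_exists.1 hnot
      refine ⟨a, ?_, ?_⟩
      · rintro rfl
        exact ha𝔭 (zero_mem _)
      · intro s hs
        have h1 : s * a ∈ sInf (minimalPrimes A) := by
          rw [Ideal.mem_sInf]
          intro 𝔮 h𝔮
          by_cases hq : 𝔮 = 𝔭
          · rw [hq]; exact Ideal.mul_mem_right _ _ hs
          · have h5 : (hfin.toFinset.erase 𝔭).inf id ≤ 𝔮 :=
              Finset.inf_le (f := id) (by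
                rw [Finset.mem_erase, Set.Finite.mem_toFinset]; exact ⟨hq, h𝔮⟩)
            exact Ideal.mul_mem_left _ _ (h5 ha)
        rw [hinf] at h1
        exact h1

end alg

section sch
variable (X : Scheme.{u}) [IsAffine X]

/-- the ideal of functions whose nonvanishing locus lies in `U` -/
def idealOf (U : X.Opens) : Ideal Γ(X, ⊤) where
  carrier := {s | X.basicOpen s ≤ U}
  add_mem' := by
    intro s s' hs hs'
    exact le_trans (X.basicOpen_add_le s s') (sup_le hs hs')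
  zero_mem' := by
    show X.basicOpen (0 : Γ(X, ⊤)) ≤ U
    rw [Scheme.basicOpen_zero]
    exact bot_le
  smul_mem' := by
    intro c s hs
    show X.basicOpen (c • s) ≤ U
    rw [smul_eq_mul, Scheme.basicOpen_mul]
    exact le_trans inf_le_right hs

lemma mem_idealOf (U : X.Opens) (s : Γ(X, ⊤)) : s ∈ idealOf X U ↔ X.basicOpen s ≤ U := Iff.rfl

lemma res_basicOpen_eq_zero (s a : Γ(X, ⊤)) (h : s * a = 0) :
    X.presheaf.map (homOfLE (X.basicOpen_le s)).op a = 0 := by
  have hu : IsUnit (X.presheaf.map (homOfLE (X.basicOpen_le s)).op s) :=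
    X.toRingedSpace.isUnit_res_basicOpen s
  have h1 : X.presheaf.map (homOfLE (X.basicOpen_le s)).op s *
      X.presheaf.map (homOfLE (X.basicOpen_le s)).op a = 0 := by
    rw [← map_mul, h, map_zero]
  exact (hu.mul_right_eq_zero).1 h1

theorem main (hX : IsNoetherian X ∨ (IsReduced X ∧ (irreducibleComponents ↥X).Finite))
    (U : X.Opens) :
    CInt.IsSchematicallyDense U ↔
      ∃ t : Γ(X, ⊤), t ∈ nonZeroDivisors Γ(X, ⊤) ∧ X.basicOpen t ≤ U := by
  classical
  constructor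
  · intro hU
    have hA : IsNoetherianRing Γ(X, ⊤) ∨ (IsReduced Γ(X, ⊤) ∧ (minimalPrimes Γ(X, ⊤)).Finite) := by
      rcases hX with h | ⟨h1, h2⟩
      · left
        exact IsLocallyNoetherian.component_noetherian ⟨⊤, isAffineOpen_top X⟩
      · right
        refine ⟨inferInstance, ?_⟩
        have h3 : (irreducibleComponents (PrimeSpectrum Γ(X, ⊤))).Finite :=
          irreducibleComponents_finite_of_homeomorph (Scheme.homeoOfIso X.isoSpec) h2
        have h4 : Finite (irreducibleComponents (PrimeSpectrum Γ(X, ⊤)))ᵒᵈ := h3.to_subtype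
        have h5 : Finite (minimalPrimes Γ(X, ⊤)) :=
          Finite.of_equiv _ (minimalPrimes.equivIrreducibleComponents Γ(X, ⊤)).symm.toEquiv
        exact Set.toFinite _
    obtain ⟨P, hP1, hP2, hP3⟩ := exists_primes Γ(X, ⊤) hA
    have hnot : ∀ 𝔭 ∈ P, ¬ idealOf X U ≤ 𝔭 := by
      intro 𝔭 h𝔭 hle
      obtain ⟨a, ha0, ha⟩ := hP3 𝔭 h𝔭
      apply ha0
      apply Groth.Agent.H2.SchDense.apply_eq_zero hU (V := ⊤) a
      apply Groth.Agent.H2.SchDense.eq_zero_of_locally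
      intro x hx
      obtain ⟨_, ⟨s, rfl⟩, hxs, hsU⟩ := Opens.isBasis_iff_nbhd.1 (isBasis_basicOpen X) hx.2
      refine ⟨X.basicOpen s, le_inf le_top hsU, hxs, ?_⟩
      have h1 := res_basicOpen_eq_zero X s a (ha s (hle hsU))
      rw [← ConcreteCategory.comp_apply, ← X.presheaf.map_comp]
      exact h1
    have h2 : ¬ ((idealOf X U : Set Γ(X, ⊤)) ⊆ ⋃ 𝔭 ∈ (↑P : Set (Ideal Γ(X, ⊤))), (𝔭 : Set Γ(X, ⊤))) := by
      rw [Ideal.subset_union_prime (⊤ : Ideal Γ(X, ⊤)) ⊤ (fun 𝔭 h𝔭 _ _ => hP1 𝔭 h𝔭)]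
      rintro ⟨𝔭, h𝔭, hle⟩
      exact hnot 𝔭 h𝔭 hle
    rw [Set.not_subset] at h2
    obtain ⟨t, htJ, htP⟩ := h2
    refine ⟨t, hP2 t ?_, htJ⟩
    intro 𝔭 h𝔭 ht𝔭
    apply htP
    simp only [Set.mem_iUnion]
    exact ⟨𝔭, h𝔭, ht𝔭⟩
  · rintro ⟨t, ht, htU⟩
    refine Groth.Agent.H2.SchDense.mono
      (Groth.Agent.H2.SchDense.basicOpen_of_germ_nonZeroDivisors t ?_) htU
    intro x
    letI : Algebra Γ(X, ⊤) (X.presheaf.stalk x) :=
      TopCat.Presheaf.algebra_section_stalk X.presheaf (⟨x, trivial⟩ : (⊤ : X.Opens))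
    haveI hloc := (isAffineOpen_top X).isLocalization_stalk ⟨x, trivial⟩
    have h1 := IsLocalization.map_nonZeroDivisors_le
      ((isAffineOpen_top X).primeIdealOf ⟨x, trivial⟩).asIdeal.primeCompl (X.presheaf.stalk x)
    exact h1 ⟨t, ht, rfl⟩

end sch

end Groth.Agent.H4.SchDenseAff
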