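import Mathlib
import Groth.Prelude.Def_AlgSt
import Groth.Prelude.Def_FibCat2
import Groth.Prelude.Def_W4c2modmodulilectNerve
import Groth.Agent.H4.StackComp

set_option autoImplicit false

universe w v₁ v₂ v₃ u₁ u₂ u₃

open CategoryTheory CategoryTheory.Functor

namespace Groth.Agent.H4.SecConn

open Groth.Agent.H3.FibCatAux Groth.Agent.H4.StackComp
open W4c2modmodulilect

section Conn

variable {A : Type u₁} [Category.{v₁} A]

lemma const_of_contractible (hA : HasContractibleNerve.{w, w} A) {S : Type w} (f : A → S)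
    (hf : ∀ ⦃a b : A⦄ (_ : a ⟶ b), f a = f b) (a b : A) : f a = f b := by
  letI : Groupoid.{w} (Discrete S) := Groupoid.ofIsGroupoid
  have hE : (Functor.const A : Discrete S ⥤ A ⥤ Discrete S).IsEquivalence := hA.2 (Discrete S)
  let K : A ⥤ Discrete S :=
    { obj := fun a => Discrete.mk (f a)
      map := fun {a b} m => eqToHom (congrArg Discrete.mk (hf m))
      map_id := fun _ => Subsingleton.elim _ _
      map_comp := fun _ _ => Subsingleton.elim _ _ }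
  let e : (Functor.const A).obj ((Functor.const A).objPreimage K) ≅ K :=
    (Functor.const A).objObjPreimageIso K
  have h1 : ∀ a, ((Functor.const A).objPreimage K).as = f a :=
    fun a => Discrete.eq_of_hom (e.hom.app a)
  rw [← h1 a, ← h1 b]

lemma exists_const_iso (hA : HasContractibleNerve.{w, w} A) {G : Type w} [Category.{w} G]
    [IsGroupoid G] (T : A ⥤ G) :
    ∃ (g : G) (θ : ∀ a, g ⟶ T.obj a), ∀ ⦃a b : A⦄ (m : a ⟶ b), θ a ≫ T.map m = θ b := by
  letI : Groupoid.{w} G := Groupoid.ofIsGroupoid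
  have hE : (Functor.const A : G ⥤ A ⥤ G).IsEquivalence := hA.2 G
  let e := (Functor.const A).objObjPreimageIso T
  refine ⟨(Functor.const A).objPreimage T, fun a => e.hom.app a, fun a b m => ?_⟩
  have := e.hom.naturality m
  simp only [Functor.const_obj_obj, Functor.const_obj_map, Category.id_comp] at this
  exact this.symm

end Conn

section Main

variable {C : Type u₁} [Category.{v₁} C] {D : Type u₂} [Category.{v₂} D] {F : Type u₃}
  [Category.{v₃} F] (φ : C ⥤ D) (p : F ⥤ D) (hp : FibCat.IsFibGrpd p)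
  (hφ : ∀ Y : D, HasContractibleNerve.{max u₁ u₂ u₃ v₁ v₂ v₃, max u₁ u₂ u₃ v₁ v₂ v₃}
    (StructuredArrow Y φ))

include p hφ in
lemma pair_const {Y : D} {S : Type v₃} (f : ∀ X : C, (Y ⟶ φ.obj X) → S)
    (hf : ∀ ⦃X X' : C⦄ (u : Y ⟶ φ.obj X) (g : X ⟶ X'), f X u = f X' (u ≫ φ.map g))
    {X X' : C} (u : Y ⟶ φ.obj X) (u' : Y ⟶ φ.obj X') : f X u = f X' u' := by
  have key := const_of_contractible (hφ Y)
    (S := ULift.{max u₁ u₂ u₃ v₁ v₂ v₃} S)
    (fun a : StructuredArrow Y φ => ULift.up (f a.right a.hom))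
    (fun a b m => by
      have hw : b.hom = a.hom ≫ φ.map m.right := (StructuredArrow.w m).symm
      show ULift.up (f a.right a.hom) = ULift.up (f b.right b.hom)
      rw [hw, ← hf]) (StructuredArrow.mk u) (StructuredArrow.mk u')
  exact congrArg ULift.down key

variable {φ p}

lemma sec_lift (s : D ⥤ F) (hs : s ⋙ p = 𝟭 D) {Y Y' : D} (u : Y ⟶ Y') :
    p.IsHomLift u (s.map u) := by
  apply isHomLift_map_of_comp' p s u u
  rw [hs]
  exact IsHomLift.map (𝟭 D) u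

include hp in
lemma sec_sc (s : D ⥤ F) (hs : s ⋙ p = 𝟭 D) {Y Y' : D} (u : Y ⟶ Y') :
    p.IsStronglyCartesian u (s.map u) :=
  haveI := sec_lift s hs u
  isStronglyCartesian_of_isHomLift p hp u _

include hp hφ in
lemma faithful_core (s s' : D ⥤ F) (hs' : s' ⋙ p = 𝟭 D) (α β : s ⟶ s')
    (hα : ∀ Y, p.IsHomLift (𝟙 Y) (α.app Y)) (hβ : ∀ Y, p.IsHomLift (𝟙 Y) (β.app Y))
    (h : ∀ X : C, α.app (φ.obj X) = β.app (φ.obj X)) (Y : D) : α.app Y = β.app Y := by
  obtain ⟨a⟩ := (hφ Y).1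
  apply sc_ext' p a.hom (s'.map a.hom) (sec_sc hp s' hs' a.hom) (𝟙 Y) _ _ (hα Y) (hβ Y)
  rw [← α.naturality, ← β.naturality, h]

section Full

variable (s s' : D ⥤ F) (hs : s ⋙ p = 𝟭 D) (hs' : s' ⋙ p = 𝟭 D) (γ : φ ⋙ s ⟶ φ ⋙ s')
  (hγ : ∀ X : C, p.IsHomLift (𝟙 (φ.obj X)) (γ.app X))

include hs hγ in
lemma cand_aux {Y : D} (X : C) (u : Y ⟶ φ.obj X) : p.IsHomLift u (s.map u ≫ γ.app X) :=
  lift_comp_id' p u _ _ (sec_lift s hs u) (hγ X)

noncomputable def cand {Y : D} (X : C) (u : Y ⟶ φ.obj X) : s.obj Y ⟶ s'.obj Y :=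
  scMap p u (s'.map u) (sec_sc hp s' hs' u) (𝟙 Y) u (Category.id_comp u).symm
    (s.map u ≫ γ.app X) (cand_aux s s' hs γ hγ X u)

lemma cand_lift {Y : D} (X : C) (u : Y ⟶ φ.obj X) :
    p.IsHomLift (𝟙 Y) (cand hp s s' hs hs' γ hγ X u) :=
  scMap_isHomLift p u (s'.map u) (sec_sc hp s' hs' u) (𝟙 Y) u (Category.id_comp u).symm _ _

lemma cand_fac {Y : D} (X : C) (u : Y ⟶ φ.obj X) :
    cand hp s s' hs hs' γ hγ X u ≫ s'.map u = s.map u ≫ γ.app X :=
  scMap_fac p u (s'.map u) (sec_sc hp s' hs' u) (𝟙 Y) u (Category.id_comp u).symm _ _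

lemma cand_uniq {Y : D} (X : C) (u : Y ⟶ φ.obj X) (m : s.obj Y ⟶ s'.obj Y)
    (hm : p.IsHomLift (𝟙 Y) m) (hfac : m ≫ s'.map u = s.map u ≫ γ.app X) :
    m = cand hp s s' hs hs' γ hγ X u := by
  apply sc_ext' p u (s'.map u) (sec_sc hp s' hs' u) (𝟙 Y) _ _ hm
    (cand_lift hp s s' hs hs' γ hγ X u)
  rw [hfac, cand_fac]

lemma cand_step {Y : D} {X X' : C} (u : Y ⟶ φ.obj X) (g : X ⟶ X') :
    cand hp s s' hs hs' γ hγ X u = cand hp s s' hs hs' γ hγ X' (u ≫ φ.map g) := by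
  apply cand_uniq
  · exact cand_lift hp s s' hs hs' γ hγ X u
  · have hn : s.map (φ.map g) ≫ γ.app X' = γ.app X ≫ s'.map (φ.map g) := γ.naturality g
    rw [s'.map_comp, ← Category.assoc, cand_fac, Category.assoc, ← hn, s.map_comp,
      Category.assoc]

include hφ in
lemma cand_indep {Y : D} {X X' : C} (u : Y ⟶ φ.obj X) (u' : Y ⟶ φ.obj X') :
    cand hp s s' hs hs' γ hγ X u = cand hp s s' hs hs' γ hγ X' u' :=
  pair_const φ p hφ (fun X u => cand hp s s' hs hs' γ hγ X u)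
    (fun _ _ u g => cand_step hp s s' hs hs' γ hγ u g) u u'

noncomputable def fullApp (Y : D) : s.obj Y ⟶ s'.obj Y :=
  cand hp s s' hs hs' γ hγ (Classical.choice (hφ Y).1).right (Classical.choice (hφ Y).1).hom

lemma fullApp_eq {Y : D} (X : C) (u : Y ⟶ φ.obj X) :
    fullApp hp hφ s s' hs hs' γ hγ Y = cand hp s s' hs hs' γ hγ X u :=
  cand_indep hp hφ s s' hs hs' γ hγ _ _

lemma fullApp_lift (Y : D) : p.IsHomLift (𝟙 Y) (fullApp hp hφ s s' hs hs' γ hγ Y) :=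
  cand_lift hp s s' hs hs' γ hγ _ _

lemma fullApp_nat {Y' Y : D} (h : Y' ⟶ Y) :
    s.map h ≫ fullApp hp hφ s s' hs hs' γ hγ Y =
      fullApp hp hφ s s' hs hs' γ hγ Y' ≫ s'.map h := by
  obtain ⟨a⟩ := (hφ Y).1
  apply sc_ext' p a.hom (s'.map a.hom) (sec_sc hp s' hs' a.hom) h _ _
    (lift_comp_id' p h _ _ (sec_lift s hs h) (fullApp_lift hp hφ s s' hs hs' γ hγ Y))
    (lift_id_comp' p h _ _ (fullApp_lift hp hφ s s' hs hs' γ hγ Y') (sec_lift s' hs' h))
  rw [fullApp_eq hp hφ s s' hs hs' γ hγ a.right a.hom,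
    fullApp_eq hp hφ s s' hs hs' γ hγ a.right (h ≫ a.hom)]
  rw [Category.assoc, cand_fac, Category.assoc, ← s'.map_comp, cand_fac, s.map_comp,
    Category.assoc]

lemma fullApp_φ (X : C) : fullApp hp hφ s s' hs hs' γ hγ (φ.obj X) = γ.app X := by
  rw [fullApp_eq hp hφ s s' hs hs' γ hγ X (𝟙 (φ.obj X))]
  symm
  exact cand_uniq hp s s' hs hs' γ hγ X (𝟙 (φ.obj X)) (γ.app X) (hγ X)
    (by rw [s'.map_id, s.map_id]; exact (Category.comp_id _).trans (Category.id_comp _).symm)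

end Full

section Ess

variable (t : C ⥤ F) (ht : t ⋙ p = φ)

include ht in
lemma t_lift {X X' : C} (g : X ⟶ X') : p.IsHomLift (φ.map g) (t.map g) := by
  apply isHomLift_map_of_comp' p t (φ.map g) g
  rw [ht]
  exact IsHomLift.map φ g

include ht in
lemma t_obj (X : C) : p.obj (t.obj X) = φ.obj X := Functor.congr_obj ht X

include hp in
lemma exists_lift_eq (x : F) {S V : D} (h : p.obj x = S) (f : V ⟶ S) :
    ∃ (y : F) (ψ : y ⟶ x), p.IsHomLift f ψ := by
  subst h; exact hp.exists_lift f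

noncomputable def PO {Y : D} (X : C) (u : Y ⟶ φ.obj X) : F :=
  (exists_lift_eq hp (t.obj X) (t_obj t ht X) u).choose

noncomputable def pr {Y : D} (X : C) (u : Y ⟶ φ.obj X) : PO hp t ht X u ⟶ t.obj X :=
  (exists_lift_eq hp (t.obj X) (t_obj t ht X) u).choose_spec.choose

lemma pr_lift {Y : D} (X : C) (u : Y ⟶ φ.obj X) : p.IsHomLift u (pr hp t ht X u) :=
  (exists_lift_eq hp (t.obj X) (t_obj t ht X) u).choose_spec.choose_spec

lemma PO_obj {Y : D} (X : C) (u : Y ⟶ φ.obj X) : p.obj (PO hp t ht X u) = Y :=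
  haveI := pr_lift hp t ht X u
  IsHomLift.domain_eq p u (pr hp t ht X u)

lemma pr_sc {Y : D} (X : C) (u : Y ⟶ φ.obj X) : p.IsStronglyCartesian u (pr hp t ht X u) :=
  haveI := pr_lift hp t ht X u
  isStronglyCartesian_of_isHomLift p hp u _

variable (Y : D)

lemma tmap_aux ⦃a b : StructuredArrow Y φ⦄ (m : a ⟶ b) :
    p.IsHomLift b.hom (pr hp t ht a.right a.hom ≫ t.map m.right) := by
  have h1 : p.IsHomLift (a.hom ≫ φ.map m.right) (pr hp t ht a.right a.hom ≫ t.map m.right) :=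
    lift_comp' p _ _ _ _ (pr_lift hp t ht a.right a.hom) (t_lift t ht m.right)
  exact lift_of_eq p _ h1 (StructuredArrow.w m)

noncomputable def tMap ⦃a b : StructuredArrow Y φ⦄ (m : a ⟶ b) :
    PO hp t ht a.right a.hom ⟶ PO hp t ht b.right b.hom :=
  scMap p b.hom (pr hp t ht b.right b.hom) (pr_sc hp t ht b.right b.hom) (𝟙 Y) b.hom
    (Category.id_comp b.hom).symm (pr hp t ht a.right a.hom ≫ t.map m.right)
    (tmap_aux hp t ht Y m)

lemma tMap_lift ⦃a b : StructuredArrow Y φ⦄ (m : a ⟶ b) :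
    p.IsHomLift (𝟙 Y) (tMap hp t ht Y m) :=
  scMap_isHomLift p b.hom (pr hp t ht b.right b.hom) (pr_sc hp t ht b.right b.hom) (𝟙 Y) b.hom
    (Category.id_comp b.hom).symm _ _

lemma tMap_fac ⦃a b : StructuredArrow Y φ⦄ (m : a ⟶ b) :
    tMap hp t ht Y m ≫ pr hp t ht b.right b.hom = pr hp t ht a.right a.hom ≫ t.map m.right :=
  scMap_fac p b.hom (pr hp t ht b.right b.hom) (pr_sc hp t ht b.right b.hom) (𝟙 Y) b.hom
    (Category.id_comp b.hom).symm _ _

lemma tMap_uniq ⦃a b : StructuredArrow Y φ⦄ (m : a ⟶ b)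
    (k : PO hp t ht a.right a.hom ⟶ PO hp t ht b.right b.hom) (hk : p.IsHomLift (𝟙 Y) k)
    (hfac : k ≫ pr hp t ht b.right b.hom = pr hp t ht a.right a.hom ≫ t.map m.right) :
    k = tMap hp t ht Y m := by
  apply sc_ext' p b.hom (pr hp t ht b.right b.hom) (pr_sc hp t ht b.right b.hom) (𝟙 Y) _ _ hk
    (tMap_lift hp t ht Y m)
  rw [hfac, tMap_fac]

lemma tMap_id (a : StructuredArrow Y φ) : tMap hp t ht Y (𝟙 a) = 𝟙 _ := by
  symm
  apply tMap_uniq
  · exact IsHomLift.id (PO_obj hp t ht a.right a.hom)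
  · show 𝟙 _ ≫ pr hp t ht a.right a.hom = pr hp t ht a.right a.hom ≫ t.map (𝟙 a.right)
    rw [t.map_id, Category.id_comp, Category.comp_id]

lemma tMap_comp ⦃a b c : StructuredArrow Y φ⦄ (m : a ⟶ b) (m' : b ⟶ c) :
    tMap hp t ht Y (m ≫ m') = tMap hp t ht Y m ≫ tMap hp t ht Y m' := by
  symm
  apply tMap_uniq
  · exact lift_id_comp' p (𝟙 Y) _ _ (tMap_lift hp t ht Y m) (tMap_lift hp t ht Y m')
  · show (tMap hp t ht Y m ≫ tMap hp t ht Y m') ≫ pr hp t ht c.right c.hom =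
      pr hp t ht a.right a.hom ≫ t.map (m.right ≫ m'.right)
    rw [Category.assoc, tMap_fac, ← Category.assoc, tMap_fac, Category.assoc, t.map_comp]

noncomputable def T0 : StructuredArrow Y φ ⥤ F where
  obj a := PO hp t ht a.right a.hom
  map m := tMap hp t ht Y m
  map_id := tMap_id hp t ht Y
  map_comp := fun m m' => tMap_comp hp t ht Y m m'

lemma T0_w : T0 hp t ht Y ⋙ p = (Functor.const (StructuredArrow Y φ)).obj Y :=
  CategoryTheory.Functor.ext (fun a => PO_obj hp t ht a.right a.hom) (fun a b m => by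
    have := tMap_lift hp t ht Y m
    exact IsHomLift.fac' p (𝟙 Y) (tMap hp t ht Y m))

include hp in
lemma isGroupoid_asSmall_fiber :
    IsGroupoid (AsSmall.{w} (p.Fiber Y)) := by
  haveI := isGroupoid_fiber_of_isFibGrpd p hp Y
  constructor
  intro X X' f
  refine ⟨⟨⟨inv f.down⟩, ULift.ext _ _ ?_, ULift.ext _ _ ?_⟩⟩
  · exact IsIso.hom_inv_id f.down
  · exact IsIso.inv_hom_id f.down

variable (φ p) in
structure ConeData where
  obj : F
  hobj : p.obj obj = Y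
  c : ∀ X : C, (Y ⟶ φ.obj X) → (obj ⟶ t.obj X)
  hc : ∀ (X : C) (u : Y ⟶ φ.obj X), p.IsHomLift u (c X u)
  wc : ∀ ⦃X X' : C⦄ (u : Y ⟶ φ.obj X) (g : X ⟶ X'), c X u ≫ t.map g = c X' (u ≫ φ.map g)

include hp hφ ht in
lemma nonempty_coneData : Nonempty (ConeData φ p t Y) := by
  haveI : IsGroupoid (AsSmall.{max u₁ u₂ u₃ v₁ v₂ v₃} (p.Fiber Y)) :=
    isGroupoid_asSmall_fiber hp Y
  let T1 : StructuredArrow Y φ ⥤ p.Fiber Y := Fiber.inducedFunctor (T0_w hp t ht Y)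
  obtain ⟨g, θ, hθ⟩ := exists_const_iso (hφ Y)
    (T1 ⋙ (AsSmall.up : p.Fiber Y ⥤ AsSmall.{max u₁ u₂ u₃ v₁ v₂ v₃} (p.Fiber Y)))
  have key : ∀ ⦃a b : StructuredArrow Y φ⦄ (m : a ⟶ b),
      (θ a).down.1 ≫ tMap hp t ht Y m = (θ b).down.1 := fun a b m => by
    have h := congrArg (fun k => (ULift.down k).1) (hθ m)
    exact h
  refine ⟨⟨(AsSmall.down.obj g).1, (AsSmall.down.obj g).2,
    fun X u => (θ (StructuredArrow.mk u)).down.1 ≫ pr hp t ht X u, ?_, ?_⟩⟩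
  · intro X u
    have h1 : p.IsHomLift (𝟙 Y) (θ (StructuredArrow.mk u)).down.1 :=
      (θ (StructuredArrow.mk u)).down.2
    exact lift_id_comp' p u _ _ h1 (pr_lift hp t ht X u)
  · intro X X' u g'
    let m : StructuredArrow.mk u ⟶ StructuredArrow.mk (u ≫ φ.map g') :=
      StructuredArrow.homMk g' rfl
    have h2 : tMap hp t ht Y m ≫ pr hp t ht X' (u ≫ φ.map g') =
        pr hp t ht X u ≫ t.map g' := tMap_fac hp t ht Y m
    have h3 := key m
    calc ((θ (StructuredArrow.mk u)).down.1 ≫ pr hp t ht X u) ≫ t.map g'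
        = (θ (StructuredArrow.mk u)).down.1 ≫ (pr hp t ht X u ≫ t.map g') := Category.assoc _ _ _
      _ = (θ (StructuredArrow.mk u)).down.1 ≫
            (tMap hp t ht Y m ≫ pr hp t ht X' (u ≫ φ.map g')) :=
          congrArg (fun z => (θ (StructuredArrow.mk u)).down.1 ≫ z) h2.symm
      _ = ((θ (StructuredArrow.mk u)).down.1 ≫ tMap hp t ht Y m) ≫
            pr hp t ht X' (u ≫ φ.map g') := (Category.assoc _ _ _).symm
      _ = (θ (StructuredArrow.mk (u ≫ φ.map g'))).down.1 ≫ pr hp t ht X' (u ≫ φ.map g') :=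
          congrArg (fun z => z ≫ pr hp t ht X' (u ≫ φ.map g')) h3

end Ess

section Build

variable (t : C ⥤ F) (K : ∀ Y : D, ConeData φ p t Y)

include hp in
lemma K_sc (Y : D) (X : C) (u : Y ⟶ φ.obj X) : p.IsStronglyCartesian u ((K Y).c X u) :=
  haveI := (K Y).hc X u
  isStronglyCartesian_of_isHomLift p hp u _

noncomputable def sig {Y' Y : D} (h : Y' ⟶ Y) (X : C) (u : Y ⟶ φ.obj X) :
    (K Y').obj ⟶ (K Y).obj :=
  scMap p u ((K Y).c X u) (K_sc hp t K Y X u) h (h ≫ u) rfl ((K Y').c X (h ≫ u))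
    ((K Y').hc X (h ≫ u))

lemma sig_lift {Y' Y : D} (h : Y' ⟶ Y) (X : C) (u : Y ⟶ φ.obj X) :
    p.IsHomLift h (sig hp t K h X u) :=
  scMap_isHomLift p u ((K Y).c X u) (K_sc hp t K Y X u) h (h ≫ u) rfl _ _

lemma sig_fac {Y' Y : D} (h : Y' ⟶ Y) (X : C) (u : Y ⟶ φ.obj X) :
    sig hp t K h X u ≫ (K Y).c X u = (K Y').c X (h ≫ u) :=
  scMap_fac p u ((K Y).c X u) (K_sc hp t K Y X u) h (h ≫ u) rfl _ _

lemma sig_uniq {Y' Y : D} (h : Y' ⟶ Y) (X : C) (u : Y ⟶ φ.obj X) (k : (K Y').obj ⟶ (K Y).obj)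
    (hk : p.IsHomLift h k) (hfac : k ≫ (K Y).c X u = (K Y').c X (h ≫ u)) :
    k = sig hp t K h X u := by
  apply sc_ext' p u ((K Y).c X u) (K_sc hp t K Y X u) h _ _ hk (sig_lift hp t K h X u)
  rw [hfac, sig_fac]

lemma sig_step {Y' Y : D} (h : Y' ⟶ Y) {X X' : C} (u : Y ⟶ φ.obj X) (g : X ⟶ X') :
    sig hp t K h X u = sig hp t K h X' (u ≫ φ.map g) := by
  apply sig_uniq
  · exact sig_lift hp t K h X u
  · calc sig hp t K h X u ≫ (K Y).c X' (u ≫ φ.map g)
        = sig hp t K h X u ≫ (K Y).c X u ≫ t.map g := by rw [(K Y).wc u g]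
      _ = (K Y').c X (h ≫ u) ≫ t.map g := by rw [← Category.assoc, sig_fac]
      _ = (K Y').c X' ((h ≫ u) ≫ φ.map g) := (K Y').wc (h ≫ u) g
      _ = (K Y').c X' (h ≫ u ≫ φ.map g) := by rw [Category.assoc]

include hφ in
lemma sig_indep {Y' Y : D} (h : Y' ⟶ Y) {X X' : C} (u : Y ⟶ φ.obj X) (u' : Y ⟶ φ.obj X') :
    sig hp t K h X u = sig hp t K h X' u' :=
  pair_const φ p hφ (fun X u => sig hp t K h X u) (fun _ _ u g => sig_step hp t K h u g) u u'

noncomputable def sMap' {Y' Y : D} (h : Y' ⟶ Y) : (K Y').obj ⟶ (K Y).obj :=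
  sig hp t K h (Classical.choice (hφ Y).1).right (Classical.choice (hφ Y).1).hom

lemma sMap'_fac {Y' Y : D} (h : Y' ⟶ Y) (X : C) (u : Y ⟶ φ.obj X) :
    sMap' hp hφ t K h ≫ (K Y).c X u = (K Y').c X (h ≫ u) := by
  unfold sMap'
  rw [sig_indep hp hφ t K h _ u]
  exact sig_fac hp t K h X u

lemma sMap'_lift {Y' Y : D} (h : Y' ⟶ Y) : p.IsHomLift h (sMap' hp hφ t K h) :=
  sig_lift hp t K h _ _

lemma sMap'_uniq {Y' Y : D} (h : Y' ⟶ Y) (k : (K Y').obj ⟶ (K Y).obj) (hk : p.IsHomLift h k)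
    (X : C) (u : Y ⟶ φ.obj X) (hfac : k ≫ (K Y).c X u = (K Y').c X (h ≫ u)) :
    k = sMap' hp hφ t K h := by
  unfold sMap'
  rw [sig_indep hp hφ t K h _ u]
  exact sig_uniq hp t K h X u k hk hfac

lemma sMap'_id (Y : D) : sMap' hp hφ t K (𝟙 Y) = 𝟙 _ := by
  obtain ⟨a⟩ := (hφ Y).1
  symm
  apply sMap'_uniq hp hφ t K (𝟙 Y) _ (IsHomLift.id (K Y).hobj) a.right a.hom
  simp only [Category.id_comp]

lemma sMap'_comp {Y'' Y' Y : D} (h' : Y'' ⟶ Y') (h : Y' ⟶ Y) :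
    sMap' hp hφ t K (h' ≫ h) = sMap' hp hφ t K h' ≫ sMap' hp hφ t K h := by
  obtain ⟨a⟩ := (hφ Y).1
  symm
  apply sMap'_uniq hp hφ t K (h' ≫ h) _
    (lift_comp' p h' h _ _ (sMap'_lift hp hφ t K h') (sMap'_lift hp hφ t K h)) a.right a.hom
  simp only [Category.assoc]
  rw [sMap'_fac, sMap'_fac]

noncomputable def secFun : D ⥤ F where
  obj Y := (K Y).obj
  map h := sMap' hp hφ t K h
  map_id := sMap'_id hp hφ t K
  map_comp := fun h' h => sMap'_comp hp hφ t K h' h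

lemma secFun_w : secFun hp hφ t K ⋙ p = 𝟭 D :=
  CategoryTheory.Functor.ext (fun Y => (K Y).hobj) (fun Y' Y h => by
    have := sMap'_lift hp hφ t K h
    exact IsHomLift.fac' p h (sMap' hp hφ t K h))

include hp in
lemma isIso_c (X : C) : IsIso ((K (φ.obj X)).c X (𝟙 (φ.obj X))) :=
  isIso_of_lift_id' p hp _ ((K (φ.obj X)).hc X (𝟙 _))

noncomputable def secIso : φ ⋙ secFun hp hφ t K ≅ t :=
  NatIso.ofComponents (fun X =>
    @asIso _ _ _ _ ((K (φ.obj X)).c X (𝟙 (φ.obj X))) (isIso_c hp t K X))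
    (fun {X X'} g => by
      show sMap' hp hφ t K (φ.map g) ≫ (K (φ.obj X')).c X' (𝟙 _) =
        (K (φ.obj X)).c X (𝟙 _) ≫ t.map g
      rw [sMap'_fac, (K (φ.obj X)).wc, Category.comp_id, Category.id_comp])

lemma secIso_lift (X : C) :
    p.IsHomLift (𝟙 (φ.obj X)) ((secIso hp hφ t K).hom.app X) := by
  have h := (K (φ.obj X)).hc X (𝟙 _)
  exact h

end Build

end Main

section Final

variable {C : Type u₁} [Category.{v₁} C] {D : Type u₂} [Category.{v₂} D] {F : Type u₃}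
  [Category.{v₃} F]

theorem main (φ : C ⥤ D) (p : F ⥤ D) [hp : FibCat.IsFibGrpd p]
    (hφ : ∀ Y : D, HasContractibleNerve.{max u₁ u₂ u₃ v₁ v₂ v₃, max u₁ u₂ u₃ v₁ v₂ v₃}
      (StructuredArrow Y φ)) :
    (Stk.restr (FibCat.toSelf (BasedCategory.ofFunctor φ))
      (BasedCategory.ofFunctor p)).IsEquivalence := by
  refine { faithful := ⟨?_⟩, full := ⟨?_⟩, essSurj := ⟨?_⟩ }
  · intro S S' α β h
    apply BasedNatTrans.homCategory.ext
    apply NatTrans.ext
    funext Y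
    exact faithful_core hp hφ S.toFunctor S'.toFunctor S'.w α.toNatTrans β.toNatTrans
      (fun Y => α.isHomLift' Y) (fun Y => β.isHomLift' Y)
      (fun X => congrArg (fun k => k.toNatTrans.app X) h) Y
  · intro S S' γ
    refine ⟨BasedNatTrans.mk (NatTrans.mk
        (fun Y => fullApp hp hφ S.toFunctor S'.toFunctor S.w S'.w γ.toNatTrans
            (fun X => γ.isHomLift' X) Y)
        (fun Y' Y h => fullApp_nat hp hφ S.toFunctor S'.toFunctor S.w S'.w
            γ.toNatTrans (fun X => γ.isHomLift' X) h))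
        (fun Y => fullApp_lift hp hφ S.toFunctor S'.toFunctor S.w S'.w
            γ.toNatTrans (fun X => γ.isHomLift' X) Y), ?_⟩
    apply BasedNatTrans.homCategory.ext
    apply NatTrans.ext
    funext X
    exact fullApp_φ hp hφ S.toFunctor S'.toFunctor S.w S'.w γ.toNatTrans
      (fun X => γ.isHomLift' X) X
  · intro T
    let K : ∀ Y : D, ConeData φ p T.toFunctor Y := fun Y =>
      Classical.choice (nonempty_coneData hp hφ T.toFunctor T.w Y)
    let S : FibCat.selfOver D ⥤ᵇ BasedCategory.ofFunctor p :=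
      { toFunctor := secFun hp hφ T.toFunctor K
        w := secFun_w hp hφ T.toFunctor K }
    exact ⟨S, ⟨BasedNatIso.mkNatIso (secIso hp hφ T.toFunctor K)
      (fun X => secIso_lift hp hφ T.toFunctor K X)⟩⟩

end Final

section Fib

variable {C : Type u₁} [Category.{v₁} C] {D : Type u₂} [Category.{v₂} D] (f : C ⥤ D)
  [f.IsFibered] (Y : D)

def Lf : f.Fiber Y ⥤ StructuredArrow Y f where
  obj a := StructuredArrow.mk (eqToHom a.2.symm)
  map {a a'} m := StructuredArrow.homMk m.1 (by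
    haveI : f.IsHomLift (𝟙 Y) m.1 := m.2
    show eqToHom a.2.symm ≫ f.map m.1 = eqToHom a'.2.symm
    rw [IsHomLift.fac' f (𝟙 Y) m.1]; simp)
  map_id a := by ext; rfl
  map_comp m m' := by ext; rfl

noncomputable def ab (b : StructuredArrow Y f) : f.Fiber Y :=
  ⟨IsPreFibered.pullbackObj (p := f) (rfl : f.obj b.right = f.obj b.right) b.hom,
    IsPreFibered.pullbackObj_proj rfl b.hom⟩

noncomputable def cb (b : StructuredArrow Y f) : (ab f Y b).1 ⟶ b.right :=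
  IsPreFibered.pullbackMap (p := f) rfl b.hom

instance cb_cart (b : StructuredArrow Y f) : f.IsCartesian b.hom (cb f Y b) :=
  IsPreFibered.pullbackMap.IsCartesian rfl b.hom

lemma cb_lift (b : StructuredArrow Y f) : f.IsHomLift b.hom (cb f Y b) := inferInstance

lemma cb_sc (b : StructuredArrow Y f) : f.IsStronglyCartesian b.hom (cb f Y b) := inferInstance

noncomputable def εb (b : StructuredArrow Y f) : (Lf f Y).obj (ab f Y b) ⟶ b :=
  StructuredArrow.homMk (cb f Y b) (by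
    show eqToHom (ab f Y b).2.symm ≫ f.map (cb f Y b) = b.hom
    rw [IsHomLift.fac' f b.hom (cb f Y b)]; simp)

lemma mt_aux ⦃b b' : StructuredArrow Y f⦄ (m : b ⟶ b') :
    f.IsHomLift b'.hom (cb f Y b ≫ m.right) := by
  have h1 : f.IsHomLift (b.hom ≫ f.map m.right) (cb f Y b ≫ m.right) :=
    lift_comp' f b.hom (f.map m.right) (cb f Y b) m.right (cb_lift f Y b) (IsHomLift.map f m.right)
  exact lift_of_eq f _ h1 (StructuredArrow.w m)

noncomputable def mt0 ⦃b b' : StructuredArrow Y f⦄ (m : b ⟶ b') :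
    (ab f Y b).1 ⟶ (ab f Y b').1 :=
  scMap f b'.hom (cb f Y b') (cb_sc f Y b') (𝟙 Y) b'.hom (Category.id_comp b'.hom).symm
    (cb f Y b ≫ m.right) (mt_aux f Y m)

lemma mt0_lift ⦃b b' : StructuredArrow Y f⦄ (m : b ⟶ b') : f.IsHomLift (𝟙 Y) (mt0 f Y m) :=
  scMap_isHomLift f b'.hom (cb f Y b') (cb_sc f Y b') (𝟙 Y) b'.hom
    (Category.id_comp b'.hom).symm _ _

lemma mt0_fac ⦃b b' : StructuredArrow Y f⦄ (m : b ⟶ b') :
    mt0 f Y m ≫ cb f Y b' = cb f Y b ≫ m.right :=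
  scMap_fac f b'.hom (cb f Y b') (cb_sc f Y b') (𝟙 Y) b'.hom
    (Category.id_comp b'.hom).symm _ _

noncomputable def mt ⦃b b' : StructuredArrow Y f⦄ (m : b ⟶ b') : ab f Y b ⟶ ab f Y b' :=
  ⟨mt0 f Y m, mt0_lift f Y m⟩

lemma mt_fac ⦃b b' : StructuredArrow Y f⦄ (m : b ⟶ b') :
    (Lf f Y).map (mt f Y m) ≫ εb f Y b' = εb f Y b ≫ m := by
  apply StructuredArrow.hom_ext
  show mt0 f Y m ≫ cb f Y b' = cb f Y b ≫ m.right
  exact mt0_fac f Y m

theorem contractible_comma (hA : HasContractibleNerve.{w, w} (f.Fiber Y)) :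
    HasContractibleNerve.{w, w} (StructuredArrow Y f) := by
  obtain ⟨a₀⟩ := hA.1
  have hconn : ∀ {S : Type w} (q : StructuredArrow Y f → S),
      (∀ ⦃b b' : StructuredArrow Y f⦄ (_ : b ⟶ b'), q b = q b') → ∀ b b', q b = q b' := by
    intro S q hq b b'
    have h1 : ∀ b, q b = q ((Lf f Y).obj (ab f Y b)) := fun b => (hq (εb f Y b)).symm
    rw [h1 b, h1 b']
    exact const_of_contractible hA (fun a => q ((Lf f Y).obj a))
      (fun a a' m => hq ((Lf f Y).map m)) _ _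
  refine ⟨⟨(Lf f Y).obj a₀⟩, fun G _ => ?_⟩
  refine { faithful := ⟨?_⟩, full := ⟨?_⟩, essSurj := ⟨?_⟩ }
  · intro g g' τ τ' h
    exact congrArg (fun κ => κ.app ((Lf f Y).obj a₀)) h
  · intro g g' κ
    refine ⟨κ.app ((Lf f Y).obj a₀), ?_⟩
    ext b
    show κ.app ((Lf f Y).obj a₀) = κ.app b
    exact hconn (S := (g ⟶ g')) (fun b => κ.app b) (fun b b' m => by
      have := κ.naturality m
      simp only [Functor.const_obj_obj, Functor.const_obj_map, Category.id_comp,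
        Category.comp_id] at this
      exact this.symm) _ _
  · intro K
    obtain ⟨g, θ, hθ⟩ := exists_const_iso hA (Lf f Y ⋙ K)
    have nat : ∀ ⦃b b' : StructuredArrow Y f⦄ (m : b ⟶ b'),
        (θ (ab f Y b) ≫ K.map (εb f Y b)) ≫ K.map m = θ (ab f Y b') ≫ K.map (εb f Y b') := by
      intro b b' m
      rw [Category.assoc, ← K.map_comp, ← mt_fac f Y m, K.map_comp, ← Category.assoc]
      congr 1
      exact hθ (mt f Y m)
    refine ⟨g, ⟨NatIso.ofComponents (fun b => asIso (θ (ab f Y b) ≫ K.map (εb f Y b)))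
      (fun {b b'} m => ?_)⟩⟩
    show 𝟙 g ≫ (θ (ab f Y b') ≫ K.map (εb f Y b')) = (θ (ab f Y b) ≫ K.map (εb f Y b)) ≫ K.map m
    rw [Category.id_comp]
    exact (nat m).symm

end Fib

section Final2

variable {C : Type u₁} [Category.{v₁} C] {D : Type u₂} [Category.{v₂} D] {F : Type u₃}
  [Category.{v₃} F]

theorem main2 (f : C ⥤ D) [f.IsFibered] (p : F ⥤ D) [FibCat.IsFibGrpd p]
    (hf : ∀ Y : D, HasContractibleNerve.{max u₁ u₂ u₃ v₁ v₂ v₃, max u₁ u₂ u₃ v₁ v₂ v₃}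
      (f.Fiber Y)) :
    (Stk.restr (FibCat.toSelf (BasedCategory.ofFunctor f))
      (BasedCategory.ofFunctor p)).IsEquivalence :=
  main f p (fun Y => contractible_comma f Y (hf Y))

end Final2

end Groth.Agent.H4.SecConn
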