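import Mathlib
import Groth.Prelude.Def_SpSeq
import Groth.Agent.Lib.Lead.SS.Abut

set_option autoImplicit false
universe v u
open CategoryTheory Limits

namespace Groth.Agent.H4.SecSSCore

section Tele

variable {𝒜 : Type u} [Category.{v} 𝒜] [Abelian 𝒜]
variable {A : 𝒜} {G : ℕ → 𝒜} (R0 : Retract A (G 0)) (R : ∀ p, Retract (G p) (G (p + 1)))

/-- the alternating idempotents of a tower of retracts -/
noncomputable def idem : ∀ p, G p ⟶ G p
  | 0 => 𝟙 _ - R0.r ≫ R0.i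
  | (p + 1) => 𝟙 _ - (R p).r ≫ idem p ≫ (R p).i

lemma one_sub_idem {X : 𝒜} (t : X ⟶ X) (ht : t ≫ t = t) :
    (𝟙 X - t) ≫ (𝟙 X - t) = 𝟙 X - t := by
  simp [Preadditive.sub_comp, Preadditive.comp_sub, ht]

lemma idem_idem : ∀ p, idem R0 R p ≫ idem R0 R p = idem R0 R p
  | 0 => by
      simp only [idem]
      exact one_sub_idem _ (by simp)
  | (p + 1) => by
      have h := idem_idem p
      simp only [idem]
      refine one_sub_idem _ ?_
      simp only [Category.assoc, Retract.retract_assoc]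
      rw [reassoc_of% h]

/-- the differentials of the telescope complex -/
noncomputable def dT (p : ℕ) : G p ⟶ G (p + 1) := idem R0 R p ≫ (R p).i

lemma i_idem_succ (p : ℕ) :
    (R p).i ≫ idem R0 R (p + 1) = (R p).i - idem R0 R p ≫ (R p).i := by
  simp only [idem, Preadditive.comp_sub, Category.comp_id, Retract.retract_assoc]

lemma dT_comp (p : ℕ) : dT R0 R p ≫ dT R0 R (p + 1) = 0 := by
  unfold dT
  rw [Category.assoc, ← Category.assoc (R p).i, i_idem_succ]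
  simp [Preadditive.sub_comp, Preadditive.comp_sub, reassoc_of% (idem_idem R0 R p)]

lemma exact_dT (p : ℕ) :
    (ShortComplex.mk (dT R0 R p) (dT R0 R (p + 1)) (dT_comp R0 R p)).Exact := by
  rw [ShortComplex.exact_iff_kernel_ι_comp_cokernel_π_zero]
  dsimp only
  obtain ⟨k, hk⟩ : ∃ k, k = kernel.ι (dT R0 R (p + 1)) := ⟨_, rfl⟩
  rw [← hk]
  have h1 : k ≫ idem R0 R (p + 1) = 0 := by
    have h0 : k ≫ idem R0 R (p + 1) ≫ (R (p + 1)).i = 0 := by
      rw [hk]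
      exact kernel.condition (dT R0 R (p + 1))
    have h2 := congrArg (· ≫ (R (p + 1)).r) h0
    simpa using h2
  have h3 : k = (k ≫ (R p).r) ≫ dT R0 R p := by
    simp only [idem, Preadditive.comp_sub, Category.comp_id, sub_eq_zero] at h1
    show k = (k ≫ (R p).r) ≫ idem R0 R p ≫ (R p).i
    rw [Category.assoc]
    exact h1
  rw [h3, Category.assoc, cokernel.condition, comp_zero]

lemma i0_dT : R0.i ≫ dT R0 R 0 = 0 := by
  simp [dT, idem, Preadditive.comp_sub, Preadditive.sub_comp]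

noncomputable def isLimitK : IsLimit (KernelFork.ofι R0.i (i0_dT R0 R)) :=
  KernelFork.IsLimit.ofι _ _ (fun g' _ => g' ≫ R0.r)
    (fun g' hg' => by
      have h1 : g' ≫ idem R0 R 0 = 0 := by
        have h2 := congrArg (· ≫ (R 0).r) hg'
        simpa [dT] using h2
      simp only [idem, Preadditive.comp_sub, Category.comp_id, sub_eq_zero] at h1
      rw [Category.assoc]
      exact h1.symm)
    (fun g' hg' m hm => by
      rw [← hm, Category.assoc, R0.retract, Category.comp_id])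

end Tele

section SS

variable {𝒜 : Type u} [Category.{v} 𝒜] [Abelian 𝒜]
variable (O : 𝒜) (G : ℕ → ℕ → 𝒜)

/-- objects of page one -/
def X1 (i : ℤ × ℤ) : 𝒜 := if 0 ≤ i.1 ∧ 0 ≤ i.2 then G i.1.toNat i.2.toNat else O

lemma X1_pos (i : ℤ × ℤ) (h : 0 ≤ i.1 ∧ 0 ≤ i.2) : X1 O G i = G i.1.toNat i.2.toNat := if_pos h

lemma X1_neg (i : ℤ × ℤ) (h : ¬ (0 ≤ i.1 ∧ 0 ≤ i.2)) : X1 O G i = O := if_neg h

lemma X1_nat (p q : ℕ) : X1 O G ((p : ℤ), (q : ℤ)) = G p q :=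
  X1_pos O G _ ⟨Int.natCast_nonneg p, Int.natCast_nonneg q⟩

lemma X1_succ (i j : ℤ × ℤ) (h : (0 ≤ i.1 ∧ 0 ≤ i.2) ∧ j = (i.1 + 1, i.2)) :
    X1 O G j = G (i.1.toNat + 1) i.2.toNat := by
  obtain ⟨⟨h1, h2⟩, rfl⟩ := h
  rw [X1_pos O G (i.1 + 1, i.2) ⟨(show 0 ≤ i.1 + 1 by omega), h2⟩]
  show G (i.1 + 1).toNat i.2.toNat = _
  congr 1
  omega

lemma isZero_X1 (hO : IsZero O) (i : ℤ × ℤ) (h : ¬ (0 ≤ i.1 ∧ 0 ≤ i.2)) : IsZero (X1 O G i) := by
  rw [X1_neg O G i h]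
  exact hO

variable (d : ∀ p q, G p q ⟶ G (p + 1) q)

/-- the differential of page one -/
noncomputable def d1 (i j : ℤ × ℤ) : X1 O G i ⟶ X1 O G j :=
  if h : (0 ≤ i.1 ∧ 0 ≤ i.2) ∧ j = (i.1 + 1, i.2) then
    eqToHom (X1_pos O G i h.1) ≫ d i.1.toNat i.2.toNat ≫ eqToHom (X1_succ O G i j h).symm
  else 0

lemma d1_nat (p q : ℕ) :
    d1 O G d ((p : ℤ), (q : ℤ)) (((p + 1 : ℕ) : ℤ), (q : ℤ)) =
      eqToHom (X1_nat O G p q) ≫ d p q ≫ eqToHom (X1_nat O G (p + 1) q).symm := by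
  have hc : (0 ≤ ((p : ℤ), (q : ℤ)).1 ∧ 0 ≤ ((p : ℤ), (q : ℤ)).2) ∧
      (((p + 1 : ℕ) : ℤ), (q : ℤ)) = (((p : ℤ), (q : ℤ)).1 + 1, ((p : ℤ), (q : ℤ)).2) :=
    ⟨⟨Int.natCast_nonneg p, Int.natCast_nonneg q⟩, by simp⟩
  unfold d1
  rw [dif_pos hc]
  rfl

lemma d1_comp (hd : ∀ p q, d p q ≫ d (p + 1) q = 0) (i j k : ℤ × ℤ)
    (hj : j = (i.1 + 1, i.2)) (hk : k = (j.1 + 1, j.2)) :
    d1 O G d i j ≫ d1 O G d j k = 0 := by
  by_cases hi : 0 ≤ i.1 ∧ 0 ≤ i.2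
  · obtain ⟨p, hp⟩ := Int.eq_ofNat_of_zero_le hi.1
    obtain ⟨q, hq⟩ := Int.eq_ofNat_of_zero_le hi.2
    obtain ⟨i1, i2⟩ := i
    dsimp only at hp hq hj
    subst hp hq
    have hj' : j = (((p + 1 : ℕ) : ℤ), (q : ℤ)) := by rw [hj]; simp
    subst hj'
    have hk' : k = (((p + 1 + 1 : ℕ) : ℤ), (q : ℤ)) := by rw [hk]; simp
    subst hk'
    rw [d1_nat, d1_nat]
    have hd' : ∀ {Z : 𝒜} (h : G (p + 1 + 1) q ⟶ Z), d p q ≫ d (p + 1) q ≫ h = 0 := by
      intro Z h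
      rw [← Category.assoc, hd, zero_comp]
    simp [hd']
  · unfold d1
    rw [dif_neg (fun h => hi h.1), zero_comp]

/-- the differential of the `r`-th model complex: `d1` on page one and zero elsewhere -/
noncomputable def dK (r : ℤ) (i j : ℤ × ℤ) : X1 O G i ⟶ X1 O G j :=
  if r = 1 then d1 O G d i j else 0

lemma dK_one (i j : ℤ × ℤ) : dK O G d 1 i j = d1 O G d i j := if_pos rfl

variable (hd : ∀ p q, d p q ≫ d (p + 1) q = 0)

/-- the model of page one (with the shape of page `r`) -/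
noncomputable def K1 (r : ℤ) : HomologicalComplex 𝒜 (ComplexShape.up' ((r, 1 - r) : ℤ × ℤ)) where
  X := X1 O G
  d := dK O G d r
  shape i j hij := by
    unfold dK
    split_ifs with hr
    · subst hr
      unfold d1
      rw [dif_neg]
      rintro ⟨-, rfl⟩
      exact hij (show i + ((1 : ℤ), (1 : ℤ) - 1) = _ by ext <;> simp)
    · rfl
  d_comp_d' i j k hij hjk := by
    unfold dK
    split_ifs with hr
    · subst hr
      have hij' : i + ((1 : ℤ), (1 : ℤ) - 1) = j := hij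
      have hjk' : j + ((1 : ℤ), (1 : ℤ) - 1) = k := hjk
      exact d1_comp O G d hd i j k (by rw [← hij']; ext <;> simp) (by rw [← hjk']; ext <;> simp)
    · exact zero_comp

lemma H1 (hO : IsZero O) (i : ℤ × ℤ) (h : ¬ (0 ≤ i.1 ∧ 0 ≤ i.2)) :
    IsZero ((K1 O G d hd 1).homology i) := by
  rw [← HomologicalComplex.exactAt_iff_isZero_homology]
  exact ShortComplex.exact_of_isZero_X₂ _ (isZero_X1 O G hO i h)

lemma H2 (hex : ∀ p q, (ShortComplex.mk (d p q) (d (p + 1) q) (hd p q)).Exact) (p q : ℕ) :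
    IsZero ((K1 O G d hd 1).homology (((p + 1 : ℕ) : ℤ), (q : ℤ))) := by
  rw [← HomologicalComplex.exactAt_iff_isZero_homology]
  have hprev : (ComplexShape.up' (((1 : ℤ), (1 : ℤ) - 1) : ℤ × ℤ)).prev
      (((p + 1 : ℕ) : ℤ), (q : ℤ)) = ((p : ℤ), (q : ℤ)) :=
    ComplexShape.prev_eq' _ (show ((p : ℤ), (q : ℤ)) + ((1 : ℤ), (1 : ℤ) - 1) = _ by
      ext <;> simp)
  have hnext : (ComplexShape.up' (((1 : ℤ), (1 : ℤ) - 1) : ℤ × ℤ)).next
      (((p + 1 : ℕ) : ℤ), (q : ℤ)) = (((p + 1 + 1 : ℕ) : ℤ), (q : ℤ)) :=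
    ComplexShape.next_eq' _ (show (((p + 1 : ℕ) : ℤ), (q : ℤ)) + ((1 : ℤ), (1 : ℤ) - 1) = _ by
      ext <;> simp)
  rw [HomologicalComplex.exactAt_iff' _ _ _ _ hprev hnext]
  refine (ShortComplex.exact_iff_of_iso (ShortComplex.isoMk (eqToIso (X1_nat O G p q))
    (eqToIso (X1_nat O G (p + 1) q)) (eqToIso (X1_nat O G (p + 1 + 1) q)) ?_ ?_)).2 (hex p q)
  · show (eqToIso (X1_nat O G p q)).hom ≫ d p q =
      dK O G d 1 ((p : ℤ), (q : ℤ)) (((p + 1 : ℕ) : ℤ), (q : ℤ)) ≫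
        (eqToIso (X1_nat O G (p + 1) q)).hom
    rw [dK_one, d1_nat]
    simp
  · show (eqToIso (X1_nat O G (p + 1) q)).hom ≫ d (p + 1) q =
      dK O G d 1 (((p + 1 : ℕ) : ℤ), (q : ℤ)) (((p + 1 + 1 : ℕ) : ℤ), (q : ℤ)) ≫
        (eqToIso (X1_nat O G (p + 1 + 1) q)).hom
    rw [dK_one, d1_nat]
    simp

lemma H3 (hO : IsZero O) {A : ℕ → 𝒜} (jA : ∀ q, A q ⟶ G 0 q) (hjA : ∀ q, jA q ≫ d 0 q = 0)
    (hlim : ∀ q, IsLimit (KernelFork.ofι (jA q) (hjA q))) (q : ℕ) :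
    Nonempty ((K1 O G d hd 1).homology (((0 : ℕ) : ℤ), (q : ℤ)) ≅ A q) := by
  have hprev : (ComplexShape.up' (((1 : ℤ), (1 : ℤ) - 1) : ℤ × ℤ)).prev
      (((0 : ℕ) : ℤ), (q : ℤ)) = ((-1 : ℤ), (q : ℤ)) :=
    ComplexShape.prev_eq' _ (show ((-1 : ℤ), (q : ℤ)) + ((1 : ℤ), (1 : ℤ) - 1) = _ by
      ext <;> simp)
  have hnext : (ComplexShape.up' (((1 : ℤ), (1 : ℤ) - 1) : ℤ × ℤ)).next
      (((0 : ℕ) : ℤ), (q : ℤ)) = (((0 + 1 : ℕ) : ℤ), (q : ℤ)) :=
    ComplexShape.next_eq' _ (show (((0 : ℕ) : ℤ), (q : ℤ)) + ((1 : ℤ), (1 : ℤ) - 1) = _ by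
      ext <;> simp)
  have hz : IsZero (X1 O G ((-1 : ℤ), (q : ℤ))) := isZero_X1 O G hO _ (by simp)
  let S' : ShortComplex 𝒜 :=
    ShortComplex.mk (0 : X1 O G ((-1 : ℤ), (q : ℤ)) ⟶ G 0 q) (d 0 q) zero_comp
  let e : (K1 O G d hd 1).sc' ((-1 : ℤ), (q : ℤ)) (((0 : ℕ) : ℤ), (q : ℤ))
      (((0 + 1 : ℕ) : ℤ), (q : ℤ)) ≅ S' :=
    ShortComplex.isoMk (Iso.refl _) (eqToIso (X1_nat O G 0 q)) (eqToIso (X1_nat O G (0 + 1) q))
      (hz.eq_of_src _ _) (by
        show (eqToIso (X1_nat O G 0 q)).hom ≫ d 0 q =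
          dK O G d 1 (((0 : ℕ) : ℤ), (q : ℤ)) (((0 + 1 : ℕ) : ℤ), (q : ℤ)) ≫
            (eqToIso (X1_nat O G (0 + 1) q)).hom
        rw [dK_one, d1_nat]
        simp)
  let h' : S'.LeftHomologyData :=
    ShortComplex.LeftHomologyData.ofIsLimitKernelFork S' rfl _ (hlim q)
  exact ⟨ShortComplex.homologyMapIso ((K1 O G d hd 1).isoSc' _ _ _ hprev hnext) ≪≫
    ShortComplex.homologyMapIso e ≪≫ h'.homologyIso⟩

/-- the model of the pages `r ≥ 2` -/
noncomputable def Kinf (r : ℤ) : HomologicalComplex 𝒜 (ComplexShape.up' ((r, 1 - r) : ℤ × ℤ)) where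
  X i := (K1 O G d hd 1).homology i
  d _ _ := 0
  shape _ _ _ := rfl
  d_comp_d' _ _ _ _ _ := zero_comp

/-- the pages -/
noncomputable def pg (r : ℤ) : HomologicalComplex 𝒜 (ComplexShape.up' ((r, 1 - r) : ℤ × ℤ)) :=
  if r = 1 then K1 O G d hd r else Kinf O G d hd r

lemma pg_one : pg O G d hd 1 = K1 O G d hd 1 := if_pos rfl

lemma pg_ne (r : ℤ) (h : r ≠ 1) : pg O G d hd r = Kinf O G d hd r := if_neg h

noncomputable def pgIso (r r' : ℤ) (pq : ℤ × ℤ) (hrr' : r + 1 = r') (hr : 1 ≤ r) :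
    (pg O G d hd r).homology pq ≅ (pg O G d hd r').X pq := by
  subst hrr'
  by_cases h : r = 1
  · subst h
    have e1 : (pg O G d hd 1).homology pq ≅ (K1 O G d hd 1).homology pq :=
      eqToIso (by rw [pg_one])
    have e2 : (Kinf O G d hd (1 + 1)).X pq ≅ (pg O G d hd (1 + 1)).X pq :=
      eqToIso (by rw [pg_ne O G d hd (1 + 1) (by norm_num)])
    exact e1 ≪≫ e2
  · have e1 : (pg O G d hd r).homology pq ≅ (Kinf O G d hd r).homology pq :=
      eqToIso (by rw [pg_ne O G d hd r h])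
    have e2 : (Kinf O G d hd r).homology pq ≅ (Kinf O G d hd r).X pq :=
      (ShortComplex.LeftHomologyData.ofZeros ((Kinf O G d hd r).sc pq) rfl rfl).homologyIso
    have e3 : (Kinf O G d hd (r + 1)).X pq ≅ (pg O G d hd (r + 1)).X pq :=
      eqToIso (by rw [pg_ne O G d hd (r + 1) (by omega)])
    exact e1 ≪≫ e2 ≪≫ e3

/-- the spectral sequence -/
noncomputable def EE : CohomologicalSpectralSequence 𝒜 1 where
  page r _ := pg O G d hd r
  iso r r' pq hrr' hr := pgIso O G d hd r r' pq hrr' hr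

/-- the abutment objects -/
abbrev Hab (A : ℕ → 𝒜) : ℤ → 𝒜 := fun n => if 0 ≤ n then A n.toNat else O

/-- the two step filtration -/
noncomputable def filF {X : 𝒜} (p : ℤ) : Subobject X := if p ≤ 0 then ⊤ else ⊥

lemma filF_anti {X : 𝒜} : Antitone (filF (X := X)) := by
  intro p p' h
  unfold filF
  by_cases h1 : p' ≤ 0
  · rw [if_pos h1, if_pos (by omega)]
  · rw [if_neg h1]
    exact bot_le

lemma subquot_congr {X : 𝒜} {Z Z' B B' : Subobject X} (hZ : Z = Z') (hB : B = B') (h : B ≤ Z)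
    (h' : B' ≤ Z') : Nonempty (SpSeq.subquot Z B h ≅ SpSeq.subquot Z' B' h') := by
  subst hZ hB
  exact ⟨Iso.refl _⟩

lemma isZero_subquot_self {X : 𝒜} (Z : Subobject X) (h : Z ≤ Z) :
    IsZero (SpSeq.subquot Z Z h) := by
  unfold SpSeq.subquot
  haveI : IsIso (Z.ofLE Z h) := by
    rw [show Z.ofLE Z h = 𝟙 _ from Subobject.ofLE_refl _]
    infer_instance
  exact isZero_cokernel_of_epi _

lemma gr_zero (X : 𝒜) (p : ℤ) (hp : p = 0) :
    Nonempty (SpSeq.grPiece (filF (X := X)) filF_anti p ≅ X) := by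
  subst hp
  obtain ⟨e⟩ := subquot_congr (Z := filF (X := X) 0) (B := filF (X := X) (0 + 1))
    (if_pos le_rfl : filF (X := X) 0 = ⊤)
    (if_neg (by norm_num) : filF (X := X) (0 + 1) = ⊥) (filF_anti (Int.le_add_one le_rfl)) bot_le
  exact ⟨e ≪≫ Groth.Agent.LD.SS.subquotTopBotIso X bot_le⟩

lemma gr_ne (X : 𝒜) (p : ℤ) (hp : p ≠ 0) :
    IsZero (SpSeq.grPiece (filF (X := X)) filF_anti p) := by
  have h1 : filF (X := X) (p + 1) = filF p := by
    unfold filF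
    by_cases h : p ≤ 0
    · rw [if_pos h, if_pos (by omega)]
    · rw [if_neg h, if_neg (by omega)]
  obtain ⟨e⟩ := subquot_congr (Z := filF (X := X) p) (B := filF (X := X) (p + 1)) rfl h1
    (filF_anti (Int.le_add_one le_rfl)) le_rfl
  exact IsZero.of_iso (isZero_subquot_self _ _) e

theorem exists_ss_aux (hO : IsZero O) (A : ℕ → 𝒜)
    (hex : ∀ p q, (ShortComplex.mk (d p q) (d (p + 1) q) (hd p q)).Exact)
    (jA : ∀ q, A q ⟶ G 0 q) (hjA : ∀ q, jA q ≫ d 0 q = 0)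
    (hlim : ∀ q, IsLimit (KernelFork.ofι (jA q) (hjA q))) :
    ∃ (E : CohomologicalSpectralSequence 𝒜 1) (a : SpSeq.Abutment E (Hab O A)),
      (∀ n, a.IsFinite n) ∧ SpSeq.IsBounded E ∧
      ∀ p q : ℤ, Nonempty ((E.page 1 le_rfl).X (p, q) ≅
        (if 0 ≤ p ∧ 0 ≤ q then G p.toNat q.toNat else O)) := by
  have hβ : ∀ pq : ℤ × ℤ, Nonempty ((Kinf O G d hd 2).X pq ≅
      SpSeq.grPiece (filF (X := Hab O A (pq.1 + pq.2))) filF_anti pq.1) := by
    rintro ⟨p, q⟩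
    show Nonempty ((K1 O G d hd 1).homology (p, q) ≅
      SpSeq.grPiece (filF (X := Hab O A (p + q))) filF_anti p)
    by_cases hpq : 0 ≤ p ∧ 0 ≤ q
    · obtain ⟨n, rfl⟩ := Int.eq_ofNat_of_zero_le hpq.1
      obtain ⟨m, rfl⟩ := Int.eq_ofNat_of_zero_le hpq.2
      cases n with
      | zero =>
        obtain ⟨e1⟩ := gr_zero (Hab O A (((0 : ℕ) : ℤ) + (m : ℤ))) ((0 : ℕ) : ℤ) (by simp)
        obtain ⟨e2⟩ := H3 O G d hd hO jA hjA hlim m
        have e3 : A m ≅ Hab O A (((0 : ℕ) : ℤ) + (m : ℤ)) := eqToIso (by simp [Hab])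
        exact ⟨e2 ≪≫ e3 ≪≫ e1.symm⟩
      | succ n' =>
        exact ⟨(H2 O G d hd hex n' m).iso (gr_ne _ _ (by simp; omega))⟩
    · have hz1 := H1 O G d hd hO (p, q) hpq
      by_cases hp : p = 0
      · obtain ⟨e1⟩ := gr_zero (Hab O A (p + q)) p hp
        have hz2 : IsZero (Hab O A (p + q)) := by
          have hn : ¬ (0 ≤ p + q) := by
            intro h
            exact hpq ⟨by omega, by omega⟩
          show IsZero (if 0 ≤ p + q then A (p + q).toNat else O)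
          rw [if_neg hn]
          exact hO
        exact ⟨hz1.iso (IsZero.of_iso hz2 e1)⟩
      · exact ⟨hz1.iso (gr_ne _ _ hp)⟩
  have hstat : ∀ pq : ℤ × ℤ, SpSeq.StationaryAt (EE O G d hd) pq 2 := by
    intro pq
    refine ⟨by norm_num, fun r' h₀ hr' => ?_⟩
    have hp : (EE O G d hd).page r' h₀ = Kinf O G d hd r' := pg_ne O G d hd r' (by omega)
    constructor
    · rw [hp]; rfl
    · rw [hp]; rfl
  let a : SpSeq.Abutment (EE O G d hd) (Hab O A) :=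
    { fil := fun n p => filF p
      anti := fun n => filF_anti
      rk := fun _ => 2
      stat := hstat
      β := fun pq => (eqToIso (by rw [pg_ne O G d hd 2 (by norm_num)]) :
          (pg O G d hd 2).X pq ≅ (Kinf O G d hd 2).X pq) ≪≫ Classical.choice (hβ pq) }
  refine ⟨EE O G d hd, a, fun n => ⟨⟨0, (if_pos le_rfl : filF (X := Hab O A n) 0 = ⊤)⟩,
    ⟨1, (if_neg (by norm_num) : filF (X := Hab O A n) 1 = ⊥)⟩⟩, ?_, ?_⟩
  · intro n
    refine (Set.finite_Icc (0 : ℤ) n).subset ?_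
    intro p hp
    by_contra hc
    refine hp ?_
    show IsZero ((pg O G d hd 1).X (p, n - p))
    rw [pg_one]
    refine isZero_X1 O G hO _ ?_
    rintro ⟨h1, h2⟩
    have h2' : 0 ≤ n - p := h2
    exact hc ⟨h1, by omega⟩
  · intro p q
    exact ⟨(eqToIso (by rw [pg_one]) : (pg O G d hd 1).X (p, q) ≅ (K1 O G d hd 1).X (p, q))⟩

theorem exists_ss (hO : IsZero O) (A : ℕ → 𝒜)
    (R0 : ∀ q, Retract (A q) (G 0 q)) (R : ∀ p q, Retract (G p q) (G (p + 1) q)) :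
    ∃ (E : CohomologicalSpectralSequence 𝒜 1) (a : SpSeq.Abutment E (Hab O A)),
      (∀ n, a.IsFinite n) ∧ SpSeq.IsBounded E ∧
      ∀ p q : ℤ, Nonempty ((E.page 1 le_rfl).X (p, q) ≅
        (if 0 ≤ p ∧ 0 ≤ q then G p.toNat q.toNat else O)) :=
  exists_ss_aux O G (fun p q => dT (R0 q) (fun p => R p q) p)
    (fun p q => dT_comp (R0 q) (fun p => R p q) p) hO A
    (fun p q => exact_dT (R0 q) (fun p => R p q) p)
    (fun q => (R0 q).i) (fun q => i0_dT (R0 q) (fun p => R p q))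
    (fun q => isLimitK (R0 q) (fun p => R p q))

end SS

end Groth.Agent.H4.SecSSCore
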