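import Mathlib

set_option autoImplicit false
universe w w' v v' u u'
open CategoryTheory Limits Abelian Opposite

namespace Groth.Agent.H4.SecExt

section ExtRetract

variable {C : Type u} [Category.{v} C] [Abelian C] {D : Type u'} [Category.{v'} D] [Abelian D]
variable [HasExt.{w} C] [HasExt.{w'} D]

/-- conjugation of an `Ext` class by two morphisms -/
noncomputable def conj {X X' Y Y' : C} (a : X' ⟶ X) (b : Y ⟶ Y') {n : ℕ} (e : Ext.{w} X Y n) :
    Ext.{w} X' Y' n :=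
  (Ext.mk₀ a).comp (e.comp (Ext.mk₀ b) (add_zero n)) (zero_add n)

/-- conjugation as an additive map -/
noncomputable def conjHom {X X' Y Y' : C} (a : X' ⟶ X) (b : Y ⟶ Y') (n : ℕ) :
    Ext.{w} X Y n →+ Ext.{w} X' Y' n :=
  ((Ext.mk₀ a).precomp Y' (zero_add n)).comp ((Ext.mk₀ b).postcomp X (add_zero n))

lemma conjHom_apply {X X' Y Y' : C} (a : X' ⟶ X) (b : Y ⟶ Y') (n : ℕ) (e : Ext.{w} X Y n) :
    conjHom a b n e = conj a b e := rfl

lemma conj_conj {X X' X'' Y Y' Y'' : C} (a : X' ⟶ X) (b : Y ⟶ Y') (a' : X'' ⟶ X') (b' : Y' ⟶ Y'')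
    {n : ℕ} (e : Ext.{w} X Y n) : conj a' b' (conj a b e) = conj (a' ≫ a) (b ≫ b') e := by
  unfold conj
  rw [Ext.comp_assoc_of_third_deg_zero, Ext.mk₀_comp_mk₀_assoc, Ext.comp_assoc_of_third_deg_zero,
    Ext.mk₀_comp_mk₀]

lemma conj_id {X Y : C} {n : ℕ} (e : Ext.{w} X Y n) : conj (𝟙 X) (𝟙 Y) e = e := by
  unfold conj
  rw [Ext.comp_mk₀_id, Ext.mk₀_id_comp]

lemma conj_comp {X X' Z Z' Y Y' : C} (a : X' ⟶ X) (b : Z ⟶ Z') (a' : Z' ⟶ Z) (b' : Y ⟶ Y')
    (hb : b ≫ a' = 𝟙 Z) {n m k : ℕ} (x : Ext.{w} X Z n) (δ : Ext.{w} Z Y m) (h : n + m = k) :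
    (conj a b x).comp (conj a' b' δ) h = conj a b' (x.comp δ h) := by
  unfold conj
  rw [Ext.comp_assoc (Ext.mk₀ a) (x.comp (Ext.mk₀ b) (add_zero n))
    ((Ext.mk₀ a').comp (δ.comp (Ext.mk₀ b') (add_zero m)) (zero_add m)) (zero_add n) h
    (by omega),
    Ext.comp_assoc_of_second_deg_zero, Ext.mk₀_comp_mk₀_assoc, hb, Ext.mk₀_id_comp,
    ← Ext.comp_assoc_of_third_deg_zero]

lemma extClass_conj {S₁ S₂ : ShortComplex C} (h₁ : S₁.ShortExact) (h₂ : S₂.ShortExact)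
    (φ : S₁ ⟶ S₂) (b : S₂.X₁ ⟶ S₁.X₁) (hb : φ.τ₁ ≫ b = 𝟙 _) :
    h₁.extClass = conj φ.τ₃ b h₂.extClass := by
  unfold conj
  rw [← Ext.comp_assoc_of_third_deg_zero, ← ShortComplex.ShortExact.extClass_naturality h₁ h₂ φ,
    Ext.comp_assoc_of_third_deg_zero, Ext.mk₀_comp_mk₀, hb, Ext.comp_mk₀_id]

variable [EnoughInjectives C]
variable (Φ : C ⥤ D) (Ψ : D ⥤ C) [Φ.Additive] [Ψ.Additive]
  [PreservesFiniteLimits Φ] [PreservesFiniteColimits Φ]
  [PreservesFiniteLimits Ψ] [PreservesFiniteColimits Ψ]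
variable (α : Φ ⋙ Ψ ≅ 𝟭 C)

theorem map_map_eq : ∀ (n : ℕ) {X Y : C} (e : Ext.{w} X Y n),
    (e.mapExactFunctor Φ).mapExactFunctor Ψ =
      conj (X := X) (X' := Ψ.obj (Φ.obj X)) (Y := Y) (Y' := Ψ.obj (Φ.obj Y))
        (α.hom.app X) (α.inv.app Y) e
  | 0, X, Y, e => by
      obtain ⟨f, rfl⟩ := (Ext.mk₀_bijective X Y).2 e
      rw [Ext.mapExactFunctor_mk₀, Ext.mapExactFunctor_mk₀]
      unfold conj
      rw [Ext.mk₀_comp_mk₀, Ext.mk₀_comp_mk₀]
      congr 1
      exact (NatIso.naturality_2 α f).symm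
  | n + 1, X, Y, e => by
      let S : ShortComplex C :=
        ShortComplex.mk (Injective.ι Y) (cokernel.π (Injective.ι Y)) (cokernel.condition _)
      haveI : Mono S.f := (inferInstance : Mono (Injective.ι Y))
      haveI : Epi S.g := (inferInstance : Epi (cokernel.π (Injective.ι Y)))
      have hS : S.ShortExact := { exact := ShortComplex.exact_cokernel _ }
      haveI : Injective S.X₂ := (inferInstance : Injective (Injective.under Y))
      have h0 : e.comp (Ext.mk₀ S.f) (add_zero (n + 1)) = 0 := Ext.eq_zero_of_injective _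
      obtain ⟨x, rfl⟩ := Ext.covariant_sequence_exact₁ X hS e h0 rfl
      have K0 : (hS.extClass.mapExactFunctor Φ).mapExactFunctor Ψ =
          ((hS.map_of_exact Φ).map_of_exact Ψ).extClass :=
        (congrArg (Ext.mapExactFunctor Ψ) (Ext.mapExactFunctor_extClass Φ hS)).trans
          (Ext.mapExactFunctor_extClass Ψ (hS.map_of_exact Φ))
      rw [Ext.mapExactFunctor_comp, Ext.mapExactFunctor_comp, map_map_eq n x, K0]
      let φ : (S.map Φ).map Ψ ⟶ S :=
        { τ₁ := α.hom.app S.X₁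
          τ₂ := α.hom.app S.X₂
          τ₃ := α.hom.app S.X₃
          comm₁₂ := (α.hom.naturality S.f).symm
          comm₂₃ := (α.hom.naturality S.g).symm }
      have K : ((hS.map_of_exact Φ).map_of_exact Ψ).extClass =
          conj φ.τ₃ (α.inv.app S.X₁) hS.extClass :=
        extClass_conj ((hS.map_of_exact Φ).map_of_exact Ψ) hS φ (α.inv.app S.X₁)
          (α.hom_inv_id_app _)
      refine (congrArg (fun z => (conj (X := X) (X' := Ψ.obj (Φ.obj X)) (Y := S.X₃)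
        (Y' := Ψ.obj (Φ.obj S.X₃)) (α.hom.app X) (α.inv.app S.X₃) x).comp z rfl) K).trans ?_
      exact conj_comp _ _ _ _ (α.inv_hom_id_app _) x hS.extClass rfl

/-- an exact functor with an exact one sided inverse induces split injections on `Ext`. -/
theorem ext_retract {X Y : C} (n : ℕ) (e : Ext.{w} X Y n) :
    conjHom (α.inv.app X) (α.hom.app Y) n
      ((Ψ.mapExtAddHom (Φ.obj X) (Φ.obj Y) n) ((Φ.mapExtAddHom X Y n) e)) = e := by
  rw [conjHom_apply, Functor.mapExtAddHom_apply, Functor.mapExtAddHom_apply, map_map_eq Φ Ψ α,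
    conj_conj]
  have h1 : α.inv.app X ≫ α.hom.app X = 𝟙 _ := α.inv_hom_id_app _
  have h2 : α.inv.app Y ≫ α.hom.app Y = 𝟙 _ := α.inv_hom_id_app _
  rw [h1, h2]
  exact conj_id e

end ExtRetract

end Groth.Agent.H4.SecExt
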