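import Mathlib
import Groth.Agent.H4.SecExt

set_option autoImplicit false
universe w v v' u u'
open CategoryTheory Limits Abelian Opposite

namespace Groth.Agent.H4.SecSite
open Groth.Agent.H4.SecExt

section Site

variable {C : Type u} [Category.{v} C] {D : Type u'} [Category.{v'} D]
variable (J : GrothendieckTopology C) (K : GrothendieckTopology D)
variable (b : C ⥤ D) (b' : D ⥤ C) [b.IsContinuous J K] [b'.IsContinuous K J]


variable [HasSheafify J AddCommGrpCat.{w}] [HasSheafify K AddCommGrpCat.{w}]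
variable [HasExt.{w} (Sheaf J AddCommGrpCat.{w})] [HasExt.{w} (Sheaf K AddCommGrpCat.{w})] [EnoughInjectives (Sheaf J AddCommGrpCat.{w})]
variable (Φ : Sheaf J AddCommGrpCat.{w} ⥤ Sheaf K AddCommGrpCat.{w}) (Ψ : Sheaf K AddCommGrpCat.{w} ⥤ Sheaf J AddCommGrpCat.{w})
variable (adjΦ : Φ ⊣ b.sheafPushforwardContinuous AddCommGrpCat.{w} J K)
  (adjΨ : Ψ ⊣ b'.sheafPushforwardContinuous AddCommGrpCat.{w} K J)

/-- the composite of the two pullbacks is the identity -/
noncomputable def pullPullIso (η : b ⋙ b' ≅ 𝟭 C) : Φ ⋙ Ψ ≅ 𝟭 (Sheaf J AddCommGrpCat.{w}) :=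
  (adjΦ.comp adjΨ).leftAdjointUniq
    (Adjunction.id.ofNatIsoRight
      ((Functor.sheafPushforwardContinuousComp' (F := b) (G := b') (FG := 𝟭 C) η AddCommGrpCat.{w} J K J ≪≫
        Functor.sheafPushforwardContinuousId AddCommGrpCat.{w} J).symm))

/-- sections of a pushforward -/
noncomputable def sectionsIso (T : C) :
    b.sheafPushforwardContinuous AddCommGrpCat.{w} J K ⋙ (sheafSections J AddCommGrpCat.{w}).obj (op T) ≅
      (sheafSections K AddCommGrpCat.{w}).obj (op (b.obj T)) :=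
  NatIso.ofComponents (fun M => Iso.refl _) (by
    intro M N f
    simp
    rfl)

/-- the pullback of a constant sheaf is constant -/
noncomputable def constIso {T : C} (hT : IsTerminal T) (hT' : IsTerminal (b.obj T)) :
    constantSheaf J AddCommGrpCat.{w} ⋙ Φ ≅ constantSheaf K AddCommGrpCat.{w} :=
  ((constantSheafAdj J AddCommGrpCat.{w} hT).comp adjΦ).leftAdjointUniq
    ((constantSheafAdj K AddCommGrpCat.{w} hT').ofNatIsoRight (sectionsIso J K b T).symm)

include adjΦ adjΨ in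
theorem nonempty_retract_H [Φ.Additive] [Ψ.Additive] [PreservesFiniteLimits Φ]
    [PreservesFiniteLimits Ψ] (η : b ⋙ b' ≅ 𝟭 C) {T : C} (hT : IsTerminal T)
    (hT' : IsTerminal (b.obj T)) (M : Sheaf J AddCommGrpCat.{w}) (q : ℕ) :
    Nonempty (Retract (AddCommGrpCat.of (Sheaf.H M q))
      (AddCommGrpCat.of (Sheaf.H (Φ.obj M) q))) := by
  haveI : Φ.IsLeftAdjoint := adjΦ.isLeftAdjoint
  haveI : Ψ.IsLeftAdjoint := adjΨ.isLeftAdjoint
  haveI : PreservesFiniteColimits Φ := inferInstance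
  haveI : PreservesFiniteColimits Ψ := inferInstance
  let α := pullPullIso J K b b' Φ Ψ adjΦ adjΨ η
  let ZJ := (constantSheaf J AddCommGrpCat.{w}).obj (AddCommGrpCat.of (ULift ℤ))
  let ZK := (constantSheaf K AddCommGrpCat.{w}).obj (AddCommGrpCat.of (ULift ℤ))
  let c : Φ.obj ZJ ≅ ZK := (constIso J K b Φ adjΦ hT hT').app _
  let i : Ext ZJ M q →+ Ext ZK (Φ.obj M) q :=
    ((Ext.mk₀ c.inv).precomp _ (zero_add q)).comp (Φ.mapExtAddHom ZJ M q)
  let r : Ext ZK (Φ.obj M) q →+ Ext ZJ M q :=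
    (conjHom (α.inv.app ZJ) (α.hom.app M) q).comp
      ((Ψ.mapExtAddHom (Φ.obj ZJ) (Φ.obj M) q).comp ((Ext.mk₀ c.hom).precomp _ (zero_add q)))
  have key : ∀ e, r (i e) = e := by
    intro e
    have h1 : (Ext.mk₀ c.hom).comp ((Ext.mk₀ c.inv).comp (e.mapExactFunctor Φ) (zero_add q))
        (zero_add q) = e.mapExactFunctor Φ := by
      rw [Ext.mk₀_comp_mk₀_assoc, c.hom_inv_id, Ext.mk₀_id_comp]
    show conjHom (α.inv.app ZJ) (α.hom.app M) q ((Ψ.mapExtAddHom (Φ.obj ZJ) (Φ.obj M) q)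
      ((Ext.mk₀ c.hom).comp ((Ext.mk₀ c.inv).comp (e.mapExactFunctor Φ) (zero_add q))
        (zero_add q))) = e
    rw [h1]
    exact ext_retract Φ Ψ α q e
  refine ⟨⟨AddCommGrpCat.ofHom i, AddCommGrpCat.ofHom r, ?_⟩⟩
  ext e
  exact key e

end Site

end Groth.Agent.H4.SecSite
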