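import Mathlib
import Groth.Prelude.Def_EtBase
import Groth.Prelude.Def_SpSeq
import Groth.Agent.H4.SecSSCore
import Groth.Agent.H4.SecSite
import Groth.Agent.Lib.Helper7.GT2

set_option autoImplicit false
universe u
open CategoryTheory Limits Opposite AlgebraicGeometry

namespace Groth.Agent.H4.SecEt
open Groth.Agent.H4

section Et

/-- the terminal object of the small etale site -/
noncomputable def topIsTerminal (X : Scheme.{u}) : IsTerminal (EtCoh.top X) :=
  IsTerminal.isTerminalOfObj (Scheme.Etale.forget X) _ Over.mkIdTerminal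

/-- base change along the identity, on objects -/
noncomputable def bcIdApp (Z : Scheme.{u}) (A : Z.Etale) : (EtCoh.bc (𝟙 Z)).obj A ≅ A := by
  let e : pullback A.hom (𝟙 Z) ≅ A.left :=
    @asIso _ _ _ _ (pullback.fst A.hom (𝟙 Z)) (pullback_fst_iso_of_right_iso A.hom (𝟙 Z))
  refine MorphismProperty.Over.isoMk e ?_
  show pullback.fst A.hom (𝟙 Z) ≫ A.hom = pullback.snd A.hom (𝟙 Z)
  rw [pullback.condition, Category.comp_id]

lemma bcIdApp_hom_left (Z : Scheme.{u}) (A : Z.Etale) :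
    (bcIdApp Z A).hom.left = pullback.fst A.hom (𝟙 Z) := rfl

/-- base change along the identity -/
noncomputable def bcId (Z : Scheme.{u}) : EtCoh.bc (𝟙 Z) ≅ 𝟭 Z.Etale :=
  NatIso.ofComponents (fun A => bcIdApp Z A)
    (by
      intro A B f
      apply MorphismProperty.Over.Hom.ext
      refine (MorphismProperty.Comma.comp_left _ _).trans ?_
      refine Eq.trans ?_ (MorphismProperty.Comma.comp_left _ _).symm
      show ((EtCoh.bc (𝟙 Z)).map f).left ≫ pullback.fst B.hom (𝟙 Z) =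
        pullback.fst A.hom (𝟙 Z) ≫ f.left
      exact pullback.lift_fst _ _ _)

/-- for a morphism of schemes with a section, the etale cohomology of the base is a retract of
the cohomology of the pullback -/
theorem et_retract {Y Z : Scheme.{u}} (g : Y ⟶ Z) (t : Z ⟶ Y) (hs : t ≫ g = 𝟙 Z)
    (M : EtCoh.Ab Z) (q : ℕ) :
    Nonempty (Retract (AddCommGrpCat.of (EtCoh.H Z M q))
      (AddCommGrpCat.of (EtCoh.H Y ((EtCoh.pull g).obj M) q))) := by
  let η : EtCoh.bc g ⋙ EtCoh.bc t ≅ 𝟭 Z.Etale :=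
    ((MorphismProperty.Over.pullbackComp (P := EtCoh.etaleMP) (Q := ⊤) t g).symm :
      EtCoh.bc g ⋙ EtCoh.bc t ≅ EtCoh.bc (t ≫ g)) ≪≫
    ((MorphismProperty.Over.pullbackCongr (P := EtCoh.etaleMP) (Q := ⊤) hs) :
      EtCoh.bc (t ≫ g) ≅ EtCoh.bc (𝟙 Z)) ≪≫ bcId Z
  haveI : PreservesFiniteLimits (EtCoh.pull g) := Groth.Agent.H7.GT.S101_main g
  haveI : PreservesFiniteLimits (EtCoh.pull t) := Groth.Agent.H7.GT.S101_main t
  haveI : (EtCoh.pull g).Additive := (EtCoh.pullPushAdj g).left_adjoint_additive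
  haveI : (EtCoh.pull t).Additive := (EtCoh.pullPushAdj t).left_adjoint_additive
  exact SecSite.nonempty_retract_H Z.smallEtaleTopology Y.smallEtaleTopology
    (EtCoh.bc g) (EtCoh.bc t) (EtCoh.pull g) (EtCoh.pull t) (EtCoh.pullPushAdj g)
    (EtCoh.pullPushAdj t) η (T := EtCoh.top Z) (topIsTerminal Z)
    (IsTerminal.isTerminalObj (EtCoh.bc g) _ (topIsTerminal Z)) M q

/-- inverse images compose -/
noncomputable def pullComp {A B C : Scheme.{u}} (g : A ⟶ B) (h : B ⟶ C) :
    EtCoh.pull h ⋙ EtCoh.pull g ≅ EtCoh.pull (g ≫ h) :=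
  ((EtCoh.pullPushAdj h).comp (EtCoh.pullPushAdj g)).leftAdjointUniq
    ((EtCoh.pullPushAdj (g ≫ h)).ofNatIsoRight (EtCoh.pushComp h g).symm)

/-- cohomology only depends on the isomorphism class of the sheaf -/
noncomputable def HIso {Y : Scheme.{u}} {N N' : EtCoh.Ab Y} (θ : N ≅ N') (q : ℕ) :
    AddCommGrpCat.of (EtCoh.H Y N q) ≅ AddCommGrpCat.of (EtCoh.H Y N' q) :=
  ((Abelian.extFunctor q).obj (op ((constantSheaf Y.smallEtaleTopology
    AddCommGrpCat.{u + 1}).obj (AddCommGrpCat.of (ULift ℤ))))).mapIso θ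

/-- transport of a retract along an isomorphism of the target -/
def retractOfIso {𝒞 : Type*} [Category 𝒞] {A B B' : 𝒞} (R : Retract A B) (e : B ≅ B') :
    Retract A B' where
  i := R.i ≫ e.hom
  r := e.inv ≫ R.r

variable {X S : Scheme.{u}} (f : X ⟶ S)

/-- the iterated fibre products -/
noncomputable abbrev W (n : ℕ) : Scheme.{u} :=
  widePullback S (fun _ : Fin (n + 1) => X) (fun _ => f)

noncomputable abbrev bs (n : ℕ) : W f n ⟶ S := WidePullback.base (fun _ : Fin (n + 1) => f)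

noncomputable def pr (n : ℕ) : W f (n + 1) ⟶ W f n :=
  WidePullback.lift (WidePullback.base _)
    (fun i : Fin (n + 1) => WidePullback.π (fun _ : Fin (n + 1 + 1) => f) i.castSucc)
    (fun i => WidePullback.π_arrow _ _)

noncomputable def sec (s : S ⟶ X) (hs : s ≫ f = 𝟙 S) (n : ℕ) : W f n ⟶ W f (n + 1) :=
  WidePullback.lift (WidePullback.base _)
    (fun i : Fin (n + 1 + 1) => if h : (i : ℕ) < n + 1 then
      WidePullback.π (fun _ : Fin (n + 1) => f) ⟨i, h⟩ else WidePullback.base _ ≫ s)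
    (fun i => by
      split_ifs with h
      · exact WidePullback.π_arrow _ _
      · rw [Category.assoc, hs, Category.comp_id])

lemma sec_pr (s : S ⟶ X) (hs : s ≫ f = 𝟙 S) (n : ℕ) : sec f s hs n ≫ pr f n = 𝟙 _ := by
  apply WidePullback.hom_ext
  · intro i
    simp only [sec, pr, Category.assoc, WidePullback.lift_π, Category.id_comp]
    rw [dif_pos (by simp; exact Nat.lt_succ_iff.mp i.isLt)]
    rfl
  · rw [Category.assoc, Category.id_comp]
    unfold pr sec
    rw [WidePullback.lift_base, WidePullback.lift_base]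

lemma pr_bs (n : ℕ) : pr f n ≫ bs f n = bs f (n + 1) :=
  WidePullback.lift_base _ _ _ _

noncomputable def s0 (s : S ⟶ X) (hs : s ≫ f = 𝟙 S) : S ⟶ W f 0 :=
  WidePullback.lift (𝟙 S) (fun _ => s) (fun _ => hs)

lemma s0_bs (s : S ⟶ X) (hs : s ≫ f = 𝟙 S) : s0 f s hs ≫ bs f 0 = 𝟙 S :=
  WidePullback.lift_base _ _ _ _

theorem main_S8580 (s : S ⟶ X) (hs : s ≫ f = 𝟙 S) (F : EtCoh.Ab S) :
    ∃ (E : CohomologicalSpectralSequence AddCommGrpCat.{u + 1} 1)
      (a : SpSeq.Abutment E (fun n : ℤ =>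
        if 0 ≤ n then AddCommGrpCat.of (EtCoh.H S F n.toNat) else AddCommGrpCat.of PUnit.{u + 2})),
      (∀ n, a.IsFinite n) ∧ SpSeq.IsBounded E ∧
      ∀ p q : ℤ, Nonempty ((E.page 1 le_rfl).X (p, q) ≅
        (if 0 ≤ p ∧ 0 ≤ q then
          AddCommGrpCat.of (EtCoh.H (widePullback S (fun _ : Fin (p.toNat + 1) => X) (fun _ => f))
            ((EtCoh.pull (WidePullback.base (fun _ : Fin (p.toNat + 1) => f) :
              widePullback S (fun _ : Fin (p.toNat + 1) => X) (fun _ => f) ⟶ S)).obj F) q.toNat)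
         else AddCommGrpCat.of PUnit.{u + 2})) := by
  have R0 : ∀ q, Retract (AddCommGrpCat.of (EtCoh.H S F q))
      (AddCommGrpCat.of (EtCoh.H (W f 0) ((EtCoh.pull (bs f 0)).obj F) q)) := fun q =>
    Classical.choice (et_retract (bs f 0) (s0 f s hs) (s0_bs f s hs) F q)
  have R : ∀ p q, Retract (AddCommGrpCat.of (EtCoh.H (W f p) ((EtCoh.pull (bs f p)).obj F) q))
      (AddCommGrpCat.of (EtCoh.H (W f (p + 1)) ((EtCoh.pull (bs f (p + 1))).obj F) q)) :=
    fun p q =>
    retractOfIso (Classical.choice (et_retract (pr f p) (sec f s hs p) (sec_pr f s hs p)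
      ((EtCoh.pull (bs f p)).obj F) q))
      (HIso ((pullComp (pr f p) (bs f p)).app F ≪≫ eqToIso (by rw [pr_bs])) q)
  obtain ⟨E, a, h1, h2, h3⟩ := SecSSCore.exists_ss (AddCommGrpCat.of PUnit.{u + 2})
    (fun p q => AddCommGrpCat.of (EtCoh.H (W f p) ((EtCoh.pull (bs f p)).obj F) q))
    (AddCommGrpCat.isZero_of_subsingleton _) (fun q => AddCommGrpCat.of (EtCoh.H S F q)) R0 R
  exact ⟨E, a, h1, h2, h3⟩

end Et

end Groth.Agent.H4.SecEt
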