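import Mathlib
import Groth.Prelude.Def_CohTop
import Groth.Prelude.Def_SpSeq
import Groth.Agent.H4.SecSSCore
import Groth.Agent.H4.SecSite
import Groth.Agent.Lib.Helper1.TopSheafPullback

set_option autoImplicit false
universe u
open CategoryTheory Limits Opposite TopologicalSpace

namespace Groth.Agent.H4.SecTop
open Groth.Agent.H4

section Top

/-- the adjunction between inverse and direct image, typed with the prelude's abbreviations -/
noncomputable def adjT {Y Z : TopCat.{u}} (g : Y ⟶ Z) : CohTop.pull g ⊣ CohTop.push g :=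
  TopCat.Sheaf.pullbackPushforwardAdjunction AddCommGrpCat.{u} g

/-- for a continuous map with a section, the cohomology of the base is a retract of the
cohomology of the pullback -/
theorem top_retract {Y Z : TopCat.{u}} (g : Y ⟶ Z) (t : Z ⟶ Y) (hs : t ≫ g = 𝟙 Z)
    (M : CohTop.Ab Z) (q : ℕ) :
    Nonempty (Retract (AddCommGrpCat.of (CohTop.H M q))
      (AddCommGrpCat.of (CohTop.H ((CohTop.pull g).obj M) q))) := by
  have hx : ∀ x : Z, g (t x) = x := fun x => by
    have := ConcreteCategory.congr_hom hs x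
    simpa using this
  let η : Opens.map g ⋙ Opens.map t ≅ 𝟭 (Opens Z) :=
    NatIso.ofComponents (fun U => eqToIso (by
      ext x
      simp [hx x])) (by intros; apply Subsingleton.elim)
  haveI : PreservesFiniteLimits (CohTop.pull g) :=
    Groth.Agent.H1.topSheafPullback_preservesFiniteLimits g
  haveI : PreservesFiniteLimits (CohTop.pull t) :=
    Groth.Agent.H1.topSheafPullback_preservesFiniteLimits t
  haveI : (CohTop.pull g).Additive := (adjT g).left_adjoint_additive
  haveI : (CohTop.pull t).Additive := (adjT t).left_adjoint_additive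
  exact SecSite.nonempty_retract_H (Opens.grothendieckTopology Z) (Opens.grothendieckTopology Y)
    (Opens.map g) (Opens.map t) (CohTop.pull g) (CohTop.pull t) (adjT g) (adjT t) η
    (T := ⊤) Limits.isTerminalTop Limits.isTerminalTop M q

/-- inverse images compose -/
noncomputable def pullComp {A B C : TopCat.{u}} (g : A ⟶ B) (h : B ⟶ C) :
    CohTop.pull h ⋙ CohTop.pull g ≅ CohTop.pull (g ≫ h) :=
  ((adjT h).comp (adjT g)).leftAdjointUniq
    ((adjT (g ≫ h)).ofNatIsoRight
      (Iso.refl _ : CohTop.push (g ≫ h) ≅ CohTop.push g ⋙ CohTop.push h))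

/-- cohomology only depends on the isomorphism class of the sheaf -/
noncomputable def HIso {Y : TopCat.{u}} {N N' : CohTop.Ab Y} (θ : N ≅ N') (q : ℕ) :
    AddCommGrpCat.of (CohTop.H N q) ≅ AddCommGrpCat.of (CohTop.H N' q) :=
  ((Abelian.extFunctor q).obj (op ((constantSheaf (Opens.grothendieckTopology Y)
    AddCommGrpCat.{u}).obj (AddCommGrpCat.of (ULift ℤ))))).mapIso θ

/-- transport of a retract along an isomorphism of the target -/
def retractOfIso {𝒞 : Type*} [Category 𝒞] {A B B' : 𝒞} (R : Retract A B) (e : B ≅ B') :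
    Retract A B' where
  i := R.i ≫ e.hom
  r := e.inv ≫ R.r

variable {X S : TopCat.{u}} (f : X ⟶ S)

/-- the iterated fibre products -/
noncomputable abbrev W (n : ℕ) : TopCat.{u} :=
  widePullback S (fun _ : Fin (n + 1) => X) (fun _ => f)

noncomputable abbrev bs (n : ℕ) : W f n ⟶ S := WidePullback.base (fun _ : Fin (n + 1) => f)

noncomputable def pr (n : ℕ) : W f (n + 1) ⟶ W f n :=
  WidePullback.lift (WidePullback.base _)
    (fun i : Fin (n + 1) => WidePullback.π (fun _ : Fin (n + 1 + 1) => f) i.castSucc)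
    (fun i => WidePullback.π_arrow _ _)

noncomputable def sec (s : S ⟶ X) (hs : s ≫ f = 𝟙 S) (n : ℕ) : W f n ⟶ W f (n + 1) :=
  WidePullback.lift (WidePullback.base _)
    (fun i : Fin (n + 1 + 1) => if h : (i : ℕ) < n + 1 then
      WidePullback.π (fun _ : Fin (n + 1) => f) ⟨i, h⟩ else WidePullback.base _ ≫ s)
    (fun i => by
      split_ifs with h
      · exact WidePullback.π_arrow _ _
      · rw [Category.assoc, hs, Category.comp_id])

lemma sec_pr (s : S ⟶ X) (hs : s ≫ f = 𝟙 S) (n : ℕ) : sec f s hs n ≫ pr f n = 𝟙 _ := by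
  apply WidePullback.hom_ext
  · intro i
    simp only [sec, pr, Category.assoc, WidePullback.lift_π, Category.id_comp]
    rw [dif_pos (by simp; exact Nat.lt_succ_iff.mp i.isLt)]
    rfl
  · rw [Category.assoc, Category.id_comp]
    unfold pr sec
    rw [WidePullback.lift_base, WidePullback.lift_base]

lemma pr_bs (n : ℕ) : pr f n ≫ bs f n = bs f (n + 1) :=
  WidePullback.lift_base _ _ _ _

noncomputable def s0 (s : S ⟶ X) (hs : s ≫ f = 𝟙 S) : S ⟶ W f 0 :=
  WidePullback.lift (𝟙 S) (fun _ => s) (fun _ => hs)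

lemma s0_bs (s : S ⟶ X) (hs : s ≫ f = 𝟙 S) : s0 f s hs ≫ bs f 0 = 𝟙 S :=
  WidePullback.lift_base _ _ _ _

theorem main_S8579 (s : S ⟶ X) (hs : s ≫ f = 𝟙 S) (F : CohTop.Ab S) :
    ∃ (E : CohomologicalSpectralSequence AddCommGrpCat.{u} 1)
      (a : SpSeq.Abutment E (fun n : ℤ =>
        if 0 ≤ n then AddCommGrpCat.of (CohTop.H F n.toNat) else AddCommGrpCat.of PUnit.{u + 1})),
      (∀ n, a.IsFinite n) ∧ SpSeq.IsBounded E ∧
      ∀ p q : ℤ, Nonempty ((E.page 1 le_rfl).X (p, q) ≅
        (if 0 ≤ p ∧ 0 ≤ q then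
          AddCommGrpCat.of (CohTop.H ((CohTop.pull
            (WidePullback.base (fun _ : Fin (p.toNat + 1) => f) :
              widePullback S (fun _ : Fin (p.toNat + 1) => X) (fun _ => f) ⟶ S)).obj F) q.toNat)
         else AddCommGrpCat.of PUnit.{u + 1})) := by
  have R0 : ∀ q, Retract (AddCommGrpCat.of (CohTop.H F q))
      (AddCommGrpCat.of (CohTop.H ((CohTop.pull (bs f 0)).obj F) q)) := fun q =>
    Classical.choice (top_retract (bs f 0) (s0 f s hs) (s0_bs f s hs) F q)
  have R : ∀ p q, Retract (AddCommGrpCat.of (CohTop.H ((CohTop.pull (bs f p)).obj F) q))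
      (AddCommGrpCat.of (CohTop.H ((CohTop.pull (bs f (p + 1))).obj F) q)) := fun p q =>
    retractOfIso (Classical.choice (top_retract (pr f p) (sec f s hs p) (sec_pr f s hs p)
      ((CohTop.pull (bs f p)).obj F) q))
      (HIso ((pullComp (pr f p) (bs f p)).app F ≪≫ eqToIso (by rw [pr_bs])) q)
  obtain ⟨E, a, h1, h2, h3⟩ := SecSSCore.exists_ss (AddCommGrpCat.of PUnit.{u + 1})
    (fun p q => AddCommGrpCat.of (CohTop.H ((CohTop.pull (bs f p)).obj F) q))
    (AddCommGrpCat.isZero_of_subsingleton _) (fun q => AddCommGrpCat.of (CohTop.H F q)) R0 R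
  exact ⟨E, a, h1, h2, h3⟩

end Top

end Groth.Agent.H4.SecTop
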