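import Mathlib
import Groth.Agent.Lib.Helper5.Segre.D
import Groth.Agent.Lib.Helper5.AG.ProjProper

/-! # The multiplication morphism `μ : P¹ × P^m ⟶ P^{m+1}` (coefficients of `(x₀ + x₁ t)·G(t)`), part A:
construction. -/

set_option autoImplicit false
universe u
open CategoryTheory CategoryTheory.Limits AlgebraicGeometry HomogeneousLocalization Opposite
  TopologicalSpace

namespace Groth.Agent.H4.SegMuA

open Groth.Agent.LD Twist Groth.Agent.H2.PUP Groth.Agent.H5.Segre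

section Vanish
variable {X : Scheme.{u}}

/-- sections over `U` vanishing at `x`. -/
noncomputable def vanIdeal (U : X.Opens) (x : X) (hx : x ∈ U) : Ideal Γ(X, U) :=
  Ideal.comap (X.presheaf.germ U x hx).hom (IsLocalRing.maximalIdeal (X.presheaf.stalk x))

lemma mem_vanIdeal_iff (U : X.Opens) (x : X) (hx : x ∈ U) (t : Γ(X, U)) :
    t ∈ vanIdeal U x hx ↔ x ∉ X.basicOpen t := by
  rw [vanIdeal, Ideal.mem_comap, IsLocalRing.mem_maximalIdeal, mem_nonunits_iff,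
    Scheme.mem_basicOpen _ _ _ hx]

lemma mem_basicOpen_of_sub_mem (U : X.Opens) (x : X) (hx : x ∈ U) (t : Γ(X, U))
    (h : t - 1 ∈ vanIdeal U x hx) : x ∈ X.basicOpen t := by
  by_contra hcon
  have h1 : t ∈ vanIdeal U x hx := (mem_vanIdeal_iff U x hx t).mpr hcon
  have h2 : (1 : Γ(X, U)) ∈ vanIdeal U x hx := by
    have := Ideal.sub_mem _ h1 h
    simpa using this
  rw [mem_vanIdeal_iff] at h2
  apply h2
  rw [Scheme.basicOpen_of_isUnit _ isUnit_one]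
  exact hx

end Vanish

section Setup
variable (m : ℕ) (R : Type u) [CommRing R]

/-- the bilinear forms `T_k = Σ_{i+j=k} x_i ⊗ y_j`. -/
noncomputable def tfam (k : Fin (m + 1 + 1)) : ProjUP.Γm (LL 1 m R) :=
  ∑ p : Fin (1 + 1) × Fin (m + 1),
    if (p.1 : ℕ) + (p.2 : ℕ) = (k : ℕ) then sg 1 m R p.1 p.2 else 0

/-- the coefficient function of `T_k` relative to `x_{i₀} ⊗ y_{j₀}`. -/
noncomputable def cc (i₀ : Fin (1 + 1)) (j₀ : Fin (m + 1)) (k : Fin (m + 1 + 1))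
    {U : (XX 1 m R).Opens} (hU : U ≤ WW 1 m R i₀ j₀) : Γ(XX 1 m R, U) :=
  ∑ p : Fin (1 + 1) × Fin (m + 1),
    if (p.1 : ℕ) + (p.2 : ℕ) = (k : ℕ) then
      al 1 m R i₀ p.1 (hU.trans (WW_le1 1 m R i₀ j₀)) * be 1 m R j₀ p.2 (hU.trans (WW_le2 1 m R i₀ j₀))
    else 0

lemma tfam_res (i₀ : Fin (1 + 1)) (j₀ : Fin (m + 1)) (k : Fin (m + 1 + 1))
    {U : (XX 1 m R).Opens} (hU : U ≤ WW 1 m R i₀ j₀) :
    (LL 1 m R).presheaf.map (homOfLE (le_top : U ≤ ⊤)).op (tfam m R k) =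
      cc m R i₀ j₀ k hU • (LL 1 m R).presheaf.map (homOfLE (le_top : U ≤ ⊤)).op (sg 1 m R i₀ j₀) := by
  rw [tfam, cc, map_sum, Finset.sum_smul]
  refine Finset.sum_congr rfl fun p _ => ?_
  split_ifs with h
  · exact sg_res_eq_smul 1 m R i₀ p.1 j₀ p.2 hU
  · rw [map_zero, zero_smul]

end Setup

section Gen
variable (m : ℕ) (R : Type u) [CommRing R]

lemma cc_res (i₀ : Fin (1 + 1)) (j₀ : Fin (m + 1)) (k : Fin (m + 1 + 1))
    {U V : (XX 1 m R).Opens} (hU : U ≤ WW 1 m R i₀ j₀) (hVU : V ≤ U) :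
    (XX 1 m R).presheaf.map (homOfLE hVU).op (cc m R i₀ j₀ k hU) =
      cc m R i₀ j₀ k (hVU.trans hU) := by
  rw [cc, cc, map_sum]
  refine Finset.sum_congr rfl fun p _ => ?_
  split_ifs with h
  · rw [map_mul, al, al, be, be, chartHom_res, chartHom_res]
  · rw [map_zero]

lemma al_mem_vanIdeal (i₀ i : Fin (1 + 1)) {U : (XX 1 m R).Opens}
    (hU : U ≤ pr1 1 m R ⁻¹ᵁ Dp 1 R i₀) (x : XX 1 m R) (hx : x ∈ U)
    (hxi : pr1 1 m R x ∉ Dp 1 R i) : al 1 m R i₀ i hU ∈ vanIdeal U x hx := by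
  rw [mem_vanIdeal_iff, al, basicOpen_chartHom (CohB1.polyGrading 1 R) (ιPn 1 R) (ιPn_mem 1 R)
    (isSymmetricAlgebra_ιPn 1 R) (pr1 1 m R) (xi_mem 1 R i₀) (xi_mem 1 R i)]
  intro h
  exact hxi h.2

lemma be_mem_vanIdeal (j₀ j : Fin (m + 1)) {U : (XX 1 m R).Opens}
    (hU : U ≤ pr2 1 m R ⁻¹ᵁ Dp m R j₀) (x : XX 1 m R) (hx : x ∈ U)
    (hxj : pr2 1 m R x ∉ Dp m R j) : be 1 m R j₀ j hU ∈ vanIdeal U x hx := by
  rw [mem_vanIdeal_iff, be, basicOpen_chartHom (CohB1.polyGrading m R) (ιPn m R) (ιPn_mem m R)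
    (isSymmetricAlgebra_ιPn m R) (pr2 1 m R) (xi_mem m R j₀) (xi_mem m R j)]
  intro h
  exact hxj h.2

/-- at every point some `T_k` is a local basis of `O(1,1)`. -/
lemma exists_basis_tfam (x : XX 1 m R) :
    ∃ (k : Fin (m + 1 + 1)) (U : (XX 1 m R).Opens), x ∈ U ∧
      QC.IsBasisOver (LL 1 m R) U
        ((LL 1 m R).presheaf.map (homOfLE (le_top : U ≤ ⊤)).op (tfam m R k)) := by
  classical
  obtain ⟨i₀, hi₀, hmin1⟩ := wellFounded_lt.has_min
    {i : Fin (1 + 1) | pr1 1 m R x ∈ Dp 1 R i} (exists_mem_Dp 1 R (pr1 1 m R x))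
  obtain ⟨j₀, hj₀, hmin2⟩ := wellFounded_lt.has_min
    {j : Fin (m + 1) | pr2 1 m R x ∈ Dp m R j} (exists_mem_Dp m R (pr2 1 m R x))
  have hk : (i₀ : ℕ) + (j₀ : ℕ) < m + 1 + 1 := by
    have h1 := i₀.2
    have h2 := j₀.2
    omega
  set k : Fin (m + 1 + 1) := ⟨(i₀ : ℕ) + (j₀ : ℕ), hk⟩ with hkdef
  have hxW : x ∈ WW 1 m R i₀ j₀ := ⟨hi₀, hj₀⟩
  set c := cc m R i₀ j₀ k (le_refl (WW 1 m R i₀ j₀)) with hc
  have hxc : x ∈ (XX 1 m R).basicOpen c := by
    apply mem_basicOpen_of_sub_mem _ x hxW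
    have hsum := Finset.add_sum_erase (Finset.univ : Finset (Fin (1 + 1) × Fin (m + 1)))
      (fun p => if (p.1 : ℕ) + (p.2 : ℕ) = (k : ℕ) then
        al 1 m R i₀ p.1 ((le_refl (WW 1 m R i₀ j₀)).trans (WW_le1 1 m R i₀ j₀)) *
          be 1 m R j₀ p.2 ((le_refl (WW 1 m R i₀ j₀)).trans (WW_le2 1 m R i₀ j₀))
      else 0) (Finset.mem_univ (i₀, j₀))
    have h1 : c - 1 = ∑ p ∈ (Finset.univ : Finset (Fin (1 + 1) × Fin (m + 1))).erase (i₀, j₀),
        (if (p.1 : ℕ) + (p.2 : ℕ) = (k : ℕ) then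
          al 1 m R i₀ p.1 ((le_refl (WW 1 m R i₀ j₀)).trans (WW_le1 1 m R i₀ j₀)) *
            be 1 m R j₀ p.2 ((le_refl (WW 1 m R i₀ j₀)).trans (WW_le2 1 m R i₀ j₀))
        else 0) := by
      rw [hc, cc, ← hsum]
      simp only [hkdef, if_true, al_self, be_self, mul_one]
      ring
    rw [h1]
    refine Ideal.sum_mem _ fun p hp => ?_
    have hp' : p ≠ (i₀, j₀) := (Finset.mem_erase.mp hp).1
    split_ifs with h
    · have h' : (p.1 : ℕ) + (p.2 : ℕ) = (i₀ : ℕ) + (j₀ : ℕ) := h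
      have hlt : p.1 < i₀ ∨ p.2 < j₀ := by
        by_contra hcon
        push_neg at hcon
        obtain ⟨h2, h3⟩ := hcon
        have h2' : (i₀ : ℕ) ≤ (p.1 : ℕ) := h2
        have h3' : (j₀ : ℕ) ≤ (p.2 : ℕ) := h3
        apply hp'
        apply Prod.ext
        · apply Fin.ext
          change (p.1 : ℕ) = (i₀ : ℕ)
          omega
        · apply Fin.ext
          change (p.2 : ℕ) = (j₀ : ℕ)
          omega
      rcases hlt with hlt | hlt
      · apply Ideal.mul_mem_right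
        apply al_mem_vanIdeal
        intro hmem
        exact hmin1 p.1 hmem hlt
      · apply Ideal.mul_mem_left
        apply be_mem_vanIdeal
        intro hmem
        exact hmin2 p.2 hmem hlt
    · exact Ideal.zero_mem _
  have hUW : (XX 1 m R).basicOpen c ≤ WW 1 m R i₀ j₀ := (XX 1 m R).basicOpen_le c
  refine ⟨k, (XX 1 m R).basicOpen c, hxc, ?_⟩
  rw [tfam_res m R i₀ j₀ k hUW]
  rw [QC.IsBasisOver.smul_iff (isBasisOver_sg 1 m R i₀ j₀ hUW)]
  rw [← cc_res m R i₀ j₀ k (le_refl _) hUW]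
  exact (XX 1 m R).toRingedSpace.isUnit_res_basicOpen c

lemma generatedBy_tfam : ProjUP.GeneratedBy (LL 1 m R) (tfam m R) := by
  apply generatedBy_of_local_basis
  intro x
  obtain ⟨k, U, hx, hb⟩ := exists_basis_tfam m R x
  exact ⟨k, U, hx, hb⟩

end Gen

section GeneralPre
variable {A : Type u} [CommRing A] {S : Type u} [CommRing S] [Algebra A S]
  (𝒮 : ℕ → Submodule A S) [GradedAlgebra 𝒮]
  {M : Type u} [AddCommGroup M] [Module A M] (ι : M →ₗ[A] S)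
  (hι : ∀ m, ι m ∈ 𝒮 1) (hsym : IsSymmetricAlgebra ι)
variable {X : Scheme.{u}} (q : X ⟶ Spec (CommRingCat.of A)) (L : X.Modules)
  (v : M →+ ProjUP.Γm L)
  (hv : ∀ (a : A) (m : M), v (a • m) = ProjUP.toGlobal q a • v m)
  (hL : PicF.IsInvertible L) (hgen : ProjUP.GeneratedBy L v)

/-- the preimage of `D₊(ι m')` under the glued morphism is the locus where `v m'` generates. -/
theorem rGlue_preimage (m' : M) :
    rGlue 𝒮 ι hι hsym q L v hv hL hgen ⁻¹ᵁ Proj.basicOpen 𝒮 (ι m') = Xm L v m' := by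
  apply le_antisymm
  · intro x hx
    have hx' : x ∈ (⨆ m, Xm L v m) := by rw [iSup_Xm L v hL hgen]; trivial
    obtain ⟨m, hm⟩ := Opens.mem_iSup.mp hx'
    have hb := basicOpen_chartHom 𝒮 ι hι hsym (rGlue 𝒮 ι hι hsym q L v hv hL hgen) (hι m) (hι m')
      (Xm_le_preimage 𝒮 ι hι hsym q L v hv hL hgen m)
    have hc := chartHom_rGlue 𝒮 ι hι hsym q L v hv hL hgen m m'
    have hx2 : x ∈ X.basicOpen (coord L v m m') := by
      rw [← hc]
      refine (SetLike.ext_iff.mp hb x).mpr ?_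
      exact ⟨hm, hx⟩
    rw [← Xm_inf] at hx2
    exact hx2.1
  · exact Xm_le_preimage 𝒮 ι hι hsym q L v hv hL hgen m'

end GeneralPre

section Mu
variable (m : ℕ) (R : Type u) [CommRing R]

/-- the additive map `R^{m+2} → Γ(O(1,1))`, `e_k ↦ T_k`. -/
noncomputable abbrev vm : (Fin (m + 1 + 1) → R) →+ ProjUP.Γm (LL 1 m R) :=
  vOfFamily (m + 1) (qq 1 m R) (LL 1 m R) (tfam m R)

/-- **the multiplication morphism** `P¹_R ×_R P^m_R ⟶ P^{m+1}_R`. -/
noncomputable def mu : XX 1 m R ⟶ Proj (CohB1.polyGrading (m + 1) R) :=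
  rGlue (CohB1.polyGrading (m + 1) R) (ιPn _ R) (ιPn_mem _ R) (isSymmetricAlgebra_ιPn _ R)
    (qq 1 m R) (LL 1 m R) (vm m R) (vOfFamily_smul _ _ _ _) (isInvertible_LL 1 m R)
    (generatedBy_vOfFamily _ _ _ _ (generatedBy_tfam m R))

lemma mu_projStr : mu m R ≫ projStr (CohB1.polyGrading (m + 1) R) = qq 1 m R :=
  rGlue_projStr _ _ _ _ _ _ _ _ _ _

lemma vm_single (k : Fin (m + 1 + 1)) : vm m R (ei (m + 1) R k) = tfam m R k := by
  rw [vOfFamily_single]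

lemma mu_preimage (k : Fin (m + 1 + 1)) :
    mu m R ⁻¹ᵁ Dp (m + 1) R k = Xm (LL 1 m R) (vm m R) (ei (m + 1) R k) :=
  rGlue_preimage _ _ _ _ _ _ _ _ _ _ _

/-- the vector `Σ_{i+j=k} e_{ij}` of `R^{N+1}`. -/
noncomputable def wk (k : Fin (m + 1 + 1)) : Fin (1 * m + 1 + m + 1) → R :=
  ∑ p : Fin (1 + 1) × Fin (m + 1),
    if (p.1 : ℕ) + (p.2 : ℕ) = (k : ℕ) then ei (1 * m + 1 + m) R (idx 1 m p) else 0

lemma vv_wk (k : Fin (m + 1 + 1)) : vv 1 m R (wk m R k) = tfam m R k := by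
  rw [wk, tfam, map_sum]
  refine Finset.sum_congr rfl fun p _ => ?_
  split_ifs with h
  · obtain ⟨i, j⟩ := p
    exact vv_single 1 m R i j
  · rw [map_zero]

lemma segre_preimage_wk (k : Fin (m + 1 + 1)) :
    segre 1 m R ⁻¹ᵁ Proj.basicOpen (CohB1.polyGrading (1 * m + 1 + m) R)
      (ιPn (1 * m + 1 + m) R (wk m R k)) = mu m R ⁻¹ᵁ Dp (m + 1) R k := by
  rw [mu_preimage]
  have h1 : segre 1 m R ⁻¹ᵁ Proj.basicOpen (CohB1.polyGrading (1 * m + 1 + m) R)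
      (ιPn (1 * m + 1 + m) R (wk m R k)) = Xm (LL 1 m R) (vv 1 m R) (wk m R k) :=
    rGlue_preimage _ _ _ _ _ _ _ _ _ _ _
  rw [h1, Xm, Xm, vv_wk, vm_single]

lemma isAffineOpen_mu_preimage (k : Fin (m + 1 + 1)) :
    IsAffineOpen (mu m R ⁻¹ᵁ Dp (m + 1) R k) := by
  rw [← segre_preimage_wk]
  haveI := isClosedImmersion_segre 1 m R
  exact (Proj.isAffineOpen_basicOpen (CohB1.polyGrading (1 * m + 1 + m) R) _
    (ιPn_mem _ R _) Nat.one_pos).preimage (segre 1 m R)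

instance isAffineHom_mu : IsAffineHom (mu m R) := by
  apply isAffineHom_of_forall_exists_isAffineOpen
  intro y
  obtain ⟨k, hk⟩ := exists_mem_Dp (m + 1) R y
  exact ⟨Dp (m + 1) R k, hk, isAffineOpen_Dp (m + 1) R k, isAffineOpen_mu_preimage m R k⟩

lemma isProper_projStr (n : ℕ) : IsProper (projStr (CohB1.polyGrading n R)) :=
  Groth.Agent.H5.AG.isProper_toSpec n R

instance isProper_mu : IsProper (mu m R) := by
  haveI := isProper_projStr R 1
  haveI := isProper_projStr R m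
  haveI := isProper_projStr R (m + 1)
  haveI : IsProper (qq 1 m R) := by
    haveI : IsProper (pr1 1 m R) :=
      MorphismProperty.of_isPullback (P := @IsProper) (isPullback_XX 1 m R).flip
        (isProper_projStr R m)
    exact MorphismProperty.comp_mem _ _ _ inferInstance inferInstance
  haveI : IsProper (mu m R ≫ projStr (CohB1.polyGrading (m + 1) R)) := by
    rw [mu_projStr]; infer_instance
  exact IsProper.of_comp (mu m R) (projStr (CohB1.polyGrading (m + 1) R))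

instance isFinite_mu : IsFinite (mu m R) :=
  IsFinite.iff_isProper_and_isAffineHom.mpr ⟨isProper_mu m R, isAffineHom_mu m R⟩

end Mu

end Groth.Agent.H4.SegMuA
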