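import Mathlib
import Groth.Agent.H4.SegMuA

/-! # The multiplication morphism `μ : P¹ × P^m ⟶ P^{m+1}`, part B: ring-valued points and chart
values. -/

set_option autoImplicit false
universe u
open CategoryTheory CategoryTheory.Limits AlgebraicGeometry HomogeneousLocalization Opposite
  TopologicalSpace

namespace Groth.Agent.H4.SegMuB

open Groth.Agent.LD Twist Groth.Agent.H2.PUP Groth.Agent.H5.Segre Groth.Agent.H4.SegMuA

section Pt
variable (n : ℕ) (R : Type u) [CommRing R] (C : Type u) [CommRing C] [Algebra R C]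

/-- the ring map `R[T] → Γ(Spec C)` with `T_i ↦ a i`. -/
noncomputable def gOf (a : Fin (n + 1) → C) :
    MvPolynomial (Fin (n + 1)) R →+* Γ(Spec (CommRingCat.of C), ⊤) :=
  (Scheme.ΓSpecIso (CommRingCat.of C)).inv.hom.comp (MvPolynomial.aeval a).toRingHom

lemma gOf_ι (a : Fin (n + 1) → C) (i : Fin (n + 1)) :
    gOf n R C a (ιPn n R (ei n R i)) = (Scheme.ΓSpecIso (CommRingCat.of C)).inv.hom (a i) := by
  rw [ιPn_single, gOf, RingHom.comp_apply]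
  congr 1
  exact MvPolynomial.aeval_X a i

lemma gOf_algebraMap (a : Fin (n + 1) → C) (r : R) :
    gOf n R C a (algebraMap R _ r) =
      (Scheme.ΓSpecIso (CommRingCat.of C)).inv.hom (algebraMap R C r) := by
  rw [gOf, RingHom.comp_apply]
  congr 1
  exact (MvPolynomial.aeval a).commutes r

lemma gOf_irr (a : Fin (n + 1) → C) (i₀ : Fin (n + 1)) (h : a i₀ = 1) :
    (HomogeneousIdeal.irrelevant (CohB1.polyGrading n R)).toIdeal.map (gOf n R C a) = ⊤ := by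
  rw [Ideal.eq_top_iff_one]
  have h1 : gOf n R C a (ιPn n R (ei n R i₀)) = 1 := by
    rw [gOf_ι, h, map_one]
  rw [← h1]
  apply Ideal.mem_map_of_mem
  rw [irrelevant_eq_span (CohB1.polyGrading n R) (ιPn n R) (ιPn_mem n R)
    (isSymmetricAlgebra_ιPn n R)]
  exact Ideal.subset_span ⟨_, rfl⟩

/-- the `C`-valued point `(a_0 : … : a_n)` of `P^n_R`. -/
noncomputable def ptOf (a : Fin (n + 1) → C) (i₀ : Fin (n + 1)) (h : a i₀ = 1) :
    Spec (CommRingCat.of C) ⟶ Proj (CohB1.polyGrading n R) :=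
  Proj.fromOfGlobalSections (CohB1.polyGrading n R) (gOf n R C a) (gOf_irr n R C a i₀ h)

lemma top_le_ptOf (a : Fin (n + 1) → C) (i₀ : Fin (n + 1)) (h : a i₀ = 1) :
    ⊤ ≤ ptOf n R C a i₀ h ⁻¹ᵁ Dp n R i₀ := by
  have h1 := FG_le_preimage (CohB1.polyGrading n R) (ιPn n R) (ιPn_mem n R) (gOf n R C a)
    (gOf_irr n R C a i₀ h) (ei n R i₀)
  have h2 : gOf n R C a (ιPn n R (ei n R i₀)) = 1 := by
    rw [gOf_ι, h, map_one]
  rw [h2, Scheme.basicOpen_of_isUnit _ isUnit_one] at h1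
  exact h1

lemma chartHom_ptOf (a : Fin (n + 1) → C) (i₀ : Fin (n + 1)) (h : a i₀ = 1) (i : Fin (n + 1)) :
    chartHom (CohB1.polyGrading n R) (ptOf n R C a i₀ h) (xi n R i₀) (top_le_ptOf n R C a i₀ h)
      (frac1 (CohB1.polyGrading n R) (ιPn n R) (ιPn_mem n R) (xi_mem n R i₀) (ei n R i)) =
      (Scheme.ΓSpecIso (CommRingCat.of C)).inv.hom (a i) := by
  have h2 : gOf n R C a (ιPn n R (ei n R i₀)) = 1 := by
    rw [gOf_ι, h, map_one]
  have h1 := FG_chartHom_top (CohB1.polyGrading n R) (ιPn n R) (ιPn_mem n R) (gOf n R C a)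
    (gOf_irr n R C a i₀ h) (ei n R i₀) (ei n R i) h2 (top_le_ptOf n R C a i₀ h)
  rw [gOf_ι] at h1
  exact h1

lemma ptOf_projStr (a : Fin (n + 1) → C) (i₀ : Fin (n + 1)) (h : a i₀ = 1) :
    ptOf n R C a i₀ h ≫ projStr (CohB1.polyGrading n R) =
      Spec.map (CommRingCat.ofHom (algebraMap R C)) := by
  rw [ptOf, FG_projStr]
  have h1 : (gOf n R C a).comp (algebraMap R (MvPolynomial (Fin (n + 1)) R)) =
      (Scheme.ΓSpecIso (CommRingCat.of C)).inv.hom.comp (algebraMap R C) := by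
    ext r
    exact gOf_algebraMap n R C a r
  rw [h1]
  have h3 : CommRingCat.ofHom ((Scheme.ΓSpecIso (CommRingCat.of C)).inv.hom.comp (algebraMap R C)) =
      CommRingCat.ofHom (algebraMap R C) ≫ (Scheme.ΓSpecIso (CommRingCat.of C)).inv := rfl
  rw [h3, Spec.map_comp, ← Category.assoc, AlgebraicGeometry.toSpecΓ_SpecMap_ΓSpecIso_inv,
    Category.id_comp]

end Pt

section ChartGen
variable {A : Type u} [CommRing A] {S : Type u} [CommRing S] [Algebra A S]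
  (𝒮 : ℕ → Submodule A S) [GradedAlgebra 𝒮]

lemma appLE_chartHom {X Y : Scheme.{u}} (j : Y ⟶ X) (r : X ⟶ Proj 𝒮) (f : S) {U : X.Opens}
    {W : Y.Opens} (e : U ≤ r ⁻¹ᵁ Proj.basicOpen 𝒮 f) (e' : W ≤ j ⁻¹ᵁ U)
    (e'' : W ≤ (j ≫ r) ⁻¹ᵁ Proj.basicOpen 𝒮 f) (z : Away 𝒮 f) :
    j.appLE U W e' (chartHom 𝒮 r f e z) = chartHom 𝒮 (j ≫ r) f e'' z := by
  rw [chartHom_apply, chartHom_apply]
  exact congr($(Scheme.Hom.appLE_comp_appLE j r _ _ _ e e') _)

end ChartGen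

section PP
variable (m : ℕ) (R : Type u) [CommRing R] (C : Type u) [CommRing C] [Algebra R C]
  (a : Fin (1 + 1) → C) (b : Fin (m + 1) → C) (ha : a 0 = 1) (hb : b 0 = 1)

/-- the `C`-valued point `((a_0 : a_1), (b_0 : … : b_m))` of `P¹ × P^m`. -/
noncomputable def pp : Spec (CommRingCat.of C) ⟶ XX 1 m R :=
  pullback.lift (ptOf 1 R C a 0 ha) (ptOf m R C b 0 hb) (by rw [ptOf_projStr, ptOf_projStr])

lemma pp_pr1 : pp m R C a b ha hb ≫ pr1 1 m R = ptOf 1 R C a 0 ha := pullback.lift_fst _ _ _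

lemma pp_pr2 : pp m R C a b ha hb ≫ pr2 1 m R = ptOf m R C b 0 hb := pullback.lift_snd _ _ _

lemma top_le_pp : ⊤ ≤ pp m R C a b ha hb ⁻¹ᵁ WW 1 m R 0 0 := by
  intro x _
  constructor
  · have h1 := top_le_ptOf 1 R C a 0 ha (show x ∈ (⊤ : (Spec (CommRingCat.of C)).Opens) from trivial)
    rw [← pp_pr1 m R C a b ha hb] at h1
    exact h1
  · have h1 := top_le_ptOf m R C b 0 hb (show x ∈ (⊤ : (Spec (CommRingCat.of C)).Opens) from trivial)
    rw [← pp_pr2 m R C a b ha hb] at h1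
    exact h1

/-- the convolution `Σ_{i+j=l} a_i b_j`. -/
noncomputable def conv (l : Fin (m + 1 + 1)) : C :=
  ∑ p : Fin (1 + 1) × Fin (m + 1), if (p.1 : ℕ) + (p.2 : ℕ) = (l : ℕ) then a p.1 * b p.2 else 0

lemma tfam_zero : tfam m R 0 = sg 1 m R 0 0 := by
  rw [tfam, Finset.sum_eq_single ((0 : Fin (1 + 1)), (0 : Fin (m + 1)))]
  · simp
  · intro p _ hp
    rw [if_neg]
    intro h
    apply hp
    have h0 : ((0 : Fin (m + 1 + 1)) : ℕ) = 0 := rfl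
    apply Prod.ext
    · apply Fin.ext
      change (p.1 : ℕ) = 0
      omega
    · apply Fin.ext
      change (p.2 : ℕ) = 0
      omega
  · intro h
    exact absurd (Finset.mem_univ _) h

lemma Xm_e0 : Xm (LL 1 m R) (vm m R) (ei (m + 1) R 0) = WW 1 m R 0 0 := by
  rw [Xm, vm_single, tfam_zero, ← vv_single 1 m R 0 0]
  exact Xm_eq 1 m R 0 0

lemma Xm_le_mu (k : Fin (m + 1 + 1)) :
    Xm (LL 1 m R) (vm m R) (ei (m + 1) R k) ≤ mu m R ⁻¹ᵁ Dp (m + 1) R k :=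
  (mu_preimage m R k).ge

lemma chartHom_mu (k l : Fin (m + 1 + 1)) :
    chartHom (CohB1.polyGrading (m + 1) R) (mu m R) (xi (m + 1) R k) (Xm_le_mu m R k)
      (frac1 (CohB1.polyGrading (m + 1) R) (ιPn _ R) (ιPn_mem _ R) (xi_mem (m + 1) R k)
        (ei (m + 1) R l)) = coord (LL 1 m R) (vm m R) (ei (m + 1) R k) (ei (m + 1) R l) :=
  chartHom_rGlue (CohB1.polyGrading (m + 1) R) (ιPn _ R) (ιPn_mem _ R) (isSymmetricAlgebra_ιPn _ R)
    (qq 1 m R) (LL 1 m R) (vm m R) (vOfFamily_smul _ _ _ _) (isInvertible_LL 1 m R)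
    (generatedBy_vOfFamily _ _ _ _ (generatedBy_tfam m R)) (ei (m + 1) R k) (ei (m + 1) R l)

lemma coord_eq_cc (l : Fin (m + 1 + 1))
    (hVW : Xm (LL 1 m R) (vm m R) (ei (m + 1) R 0) ≤ WW 1 m R 0 0) :
    coord (LL 1 m R) (vm m R) (ei (m + 1) R 0) (ei (m + 1) R l) = cc m R 0 0 l hVW := by
  apply (isBasisOver_eB (LL 1 m R) (vm m R) (ei (m + 1) R 0)).coord_injective
  rw [← coord_spec, vm_single, eB, vm_single, tfam_zero]
  exact tfam_res m R 0 0 l hVW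

lemma appLE_al (i : Fin (1 + 1)) {V : (XX 1 m R).Opens} (h1 : V ≤ pr1 1 m R ⁻¹ᵁ Dp 1 R 0)
    (eV : ⊤ ≤ pp m R C a b ha hb ⁻¹ᵁ V) :
    (pp m R C a b ha hb).appLE V ⊤ eV (al 1 m R 0 i h1) =
      (Scheme.ΓSpecIso (CommRingCat.of C)).inv.hom (a i) := by
  have e'' : ⊤ ≤ (pp m R C a b ha hb ≫ pr1 1 m R) ⁻¹ᵁ Proj.basicOpen (CohB1.polyGrading 1 R)
      (xi 1 R 0) := by
    rw [pp_pr1]; exact top_le_ptOf 1 R C a 0 ha
  rw [al, appLE_chartHom (CohB1.polyGrading 1 R) (pp m R C a b ha hb) (pr1 1 m R) (xi 1 R 0) h1 eV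
    e'']
  rw [chartHom_congr (CohB1.polyGrading 1 R) (pp_pr1 m R C a b ha hb) (xi 1 R 0) e''
    (top_le_ptOf 1 R C a 0 ha)]
  exact chartHom_ptOf 1 R C a 0 ha i

lemma appLE_be (j : Fin (m + 1)) {V : (XX 1 m R).Opens} (h2 : V ≤ pr2 1 m R ⁻¹ᵁ Dp m R 0)
    (eV : ⊤ ≤ pp m R C a b ha hb ⁻¹ᵁ V) :
    (pp m R C a b ha hb).appLE V ⊤ eV (be 1 m R 0 j h2) =
      (Scheme.ΓSpecIso (CommRingCat.of C)).inv.hom (b j) := by
  have e'' : ⊤ ≤ (pp m R C a b ha hb ≫ pr2 1 m R) ⁻¹ᵁ Proj.basicOpen (CohB1.polyGrading m R)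
      (xi m R 0) := by
    rw [pp_pr2]; exact top_le_ptOf m R C b 0 hb
  rw [be, appLE_chartHom (CohB1.polyGrading m R) (pp m R C a b ha hb) (pr2 1 m R) (xi m R 0) h2 eV
    e'']
  rw [chartHom_congr (CohB1.polyGrading m R) (pp_pr2 m R C a b ha hb) (xi m R 0) e''
    (top_le_ptOf m R C b 0 hb)]
  exact chartHom_ptOf m R C b 0 hb j

lemma top_le_pp_mu :
    ⊤ ≤ (pp m R C a b ha hb ≫ mu m R) ⁻¹ᵁ Dp (m + 1) R 0 := by
  intro x hx
  have h1 := top_le_pp m R C a b ha hb hx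
  rw [← Xm_e0] at h1
  exact Xm_le_mu m R 0 h1

/-- the chart values of the composite `Spec C ⟶ P¹ × P^m ⟶ P^{m+1}`. -/
lemma chartHom_pp_mu (l : Fin (m + 1 + 1)) :
    chartHom (CohB1.polyGrading (m + 1) R) (pp m R C a b ha hb ≫ mu m R) (xi (m + 1) R 0)
      (top_le_pp_mu m R C a b ha hb)
      (frac1 (CohB1.polyGrading (m + 1) R) (ιPn _ R) (ιPn_mem _ R) (xi_mem (m + 1) R 0)
        (ei (m + 1) R l)) =
      (Scheme.ΓSpecIso (CommRingCat.of C)).inv.hom (conv m C a b l) := by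
  have hVW : Xm (LL 1 m R) (vm m R) (ei (m + 1) R 0) ≤ WW 1 m R 0 0 := (Xm_e0 m R).le
  have eV : ⊤ ≤ pp m R C a b ha hb ⁻¹ᵁ Xm (LL 1 m R) (vm m R) (ei (m + 1) R 0) := by
    rw [Xm_e0]; exact top_le_pp m R C a b ha hb
  rw [← appLE_chartHom (CohB1.polyGrading (m + 1) R) (pp m R C a b ha hb) (mu m R)
    (xi (m + 1) R 0) (Xm_le_mu m R 0) eV, chartHom_mu, coord_eq_cc m R l hVW, cc, conv, map_sum,
    map_sum]
  refine Finset.sum_congr rfl fun p _ => ?_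
  split_ifs with h
  · rw [map_mul, map_mul, appLE_al, appLE_be]
  · rw [map_zero, map_zero]

end PP

end Groth.Agent.H4.SegMuB
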