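import Mathlib
import Groth.Agent.H4.SegMuB

/-! # The multiplication morphism `μ : P¹ × P^m ⟶ P^{m+1}`, part C: surjectivity over `ℤ`. -/

set_option autoImplicit false
universe u
open CategoryTheory CategoryTheory.Limits AlgebraicGeometry HomogeneousLocalization Opposite
  TopologicalSpace

namespace Groth.Agent.H4.SegMuC

open Groth.Agent.LD Twist Groth.Agent.H2.PUP Groth.Agent.H5.Segre Groth.Agent.H4.SegMuA
  Groth.Agent.H4.SegMuB

section Esymm
variable (m : ℕ) (R : Type u) [CommRing R]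
open MvPolynomial

lemma multiset_esymm_cons {A : Type*} [CommSemiring A] (a : A) (s : Multiset A) (n : ℕ) :
    (a ::ₘ s).esymm (n + 1) = s.esymm (n + 1) + a * s.esymm n := by
  simp only [Multiset.esymm, Multiset.powersetCard_cons, Multiset.map_add, Multiset.sum_add,
    Multiset.map_map]
  congr 1
  rw [← Multiset.sum_map_mul_left]
  congr 1
  apply Multiset.map_congr rfl
  intro t _
  simp

/-- `e_j` of the last `m` variables. -/
noncomputable def bbv (j : ℕ) : MvPolynomial (Fin (m + 1)) R :=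
  aeval (fun i : Fin m => (X i.succ : MvPolynomial (Fin (m + 1)) R)) (esymm (Fin m) R j)

lemma bbv_eq (j : ℕ) : bbv m R j =
    ((Finset.univ : Finset (Fin m)).val.map
      (fun i => (X i.succ : MvPolynomial (Fin (m + 1)) R))).esymm j :=
  aeval_esymm_eq_multiset_esymm _ _ _ _

lemma bbv_zero : bbv m R 0 = 1 := by
  rw [bbv, esymm_zero, map_one]

lemma bbv_top : bbv m R (m + 1) = 0 := by
  have h : esymm (Fin m) R (m + 1) = 0 := by
    rw [esymm, Finset.powersetCard_eq_empty.mpr (by simp)]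
    simp
  rw [bbv, h, map_zero]

lemma esymm_succ' (l : ℕ) :
    esymm (Fin (m + 1)) R (l + 1) = bbv m R (l + 1) + X 0 * bbv m R l := by
  have h0 : esymm (Fin (m + 1)) R (l + 1) =
      ((Finset.univ : Finset (Fin (m + 1))).val.map
        (X : Fin (m + 1) → MvPolynomial (Fin (m + 1)) R)).esymm (l + 1) :=
    congrFun (esymm_eq_multiset_esymm (Fin (m + 1)) R) (l + 1)
  have h1 : (Finset.univ : Finset (Fin (m + 1))).val.map
      (X : Fin (m + 1) → MvPolynomial (Fin (m + 1)) R) =
      (X 0 : MvPolynomial (Fin (m + 1)) R) ::ₘ (Finset.univ : Finset (Fin m)).val.map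
        (fun i => (X i.succ : MvPolynomial (Fin (m + 1)) R)) := by
    rw [Fin.univ_succ]
    simp [Multiset.map_map, Function.comp_def]
  rw [h0, h1, multiset_esymm_cons, bbv_eq, bbv_eq]

end Esymm

section Conv
variable (m : ℕ) (R : Type u) [CommRing R]
open MvPolynomial

/-- `(1 : X_0)`. -/
noncomputable def aE : Fin (1 + 1) → MvPolynomial (Fin (m + 1)) R :=
  Fin.cases 1 (fun _ => X 0)

/-- `(1 : e_1 : … : e_m)` in the last `m` variables. -/
noncomputable def bE : Fin (m + 1) → MvPolynomial (Fin (m + 1)) R := fun j => bbv m R j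

lemma aE_zero : aE m R 0 = 1 := rfl

lemma aE_one : aE m R 1 = X 0 := rfl

lemma bE_zero : bE m R 0 = 1 := bbv_zero m R

lemma sum_ite_add {C : Type*} [AddCommMonoid C] (f : ℕ → C) (c l N : ℕ) :
    (∑ j ∈ Finset.range N, if c + j = l then f j else 0) =
      if c ≤ l ∧ l - c < N then f (l - c) else 0 := by
  split_ifs with h
  · rw [Finset.sum_eq_single (l - c)]
    · rw [if_pos (by omega)]
    · intro j _ hj
      rw [if_neg (by omega)]
    · intro hn
      exact absurd (Finset.mem_range.mpr h.2) hn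
  · apply Finset.sum_eq_zero
    intro j hj
    rw [if_neg]
    have := Finset.mem_range.mp hj
    omega

lemma conv_eq (l : Fin (m + 1 + 1)) :
    conv m (MvPolynomial (Fin (m + 1)) R) (aE m R) (bE m R) l = esymm (Fin (m + 1)) R l := by
  have key : ∀ i : Fin (1 + 1),
      (∑ j : Fin (m + 1), if (i : ℕ) + (j : ℕ) = (l : ℕ) then aE m R i * bE m R j else 0) =
        if (i : ℕ) ≤ (l : ℕ) ∧ (l : ℕ) - (i : ℕ) < m + 1 then
          aE m R i * bbv m R ((l : ℕ) - (i : ℕ)) else 0 := by
    intro i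
    rw [← sum_ite_add (fun j => aE m R i * bbv m R j)]
    exact Fin.sum_univ_eq_sum_range
      (fun j => if (i : ℕ) + j = (l : ℕ) then aE m R i * bbv m R j else 0) (m + 1)
  rw [conv, Fintype.sum_prod_type]
  simp only [key]
  rw [Fin.sum_univ_succ, Fin.sum_univ_succ, Fin.sum_univ_zero, add_zero]
  have hl := l.2
  obtain ⟨lv, hlv⟩ := l
  change (if ((0 : Fin (1 + 1)) : ℕ) ≤ lv ∧ lv - ((0 : Fin (1 + 1)) : ℕ) < m + 1 then
      aE m R 0 * bbv m R (lv - ((0 : Fin (1 + 1)) : ℕ)) else 0) +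
    (if ((1 : Fin (1 + 1)) : ℕ) ≤ lv ∧ lv - ((1 : Fin (1 + 1)) : ℕ) < m + 1 then
      aE m R 1 * bbv m R (lv - ((1 : Fin (1 + 1)) : ℕ)) else 0) = esymm (Fin (m + 1)) R lv
  have h0 : ((0 : Fin (1 + 1)) : ℕ) = 0 := rfl
  have h1 : ((1 : Fin (1 + 1)) : ℕ) = 1 := rfl
  rw [h0, h1, aE_zero, aE_one]
  rcases Nat.eq_zero_or_pos lv with h | h
  · subst h
    rw [if_pos (by omega), if_neg (by omega), one_mul, add_zero, bbv_zero, esymm_zero]
  · obtain ⟨l', rfl⟩ : ∃ l', lv = l' + 1 := ⟨lv - 1, by omega⟩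
    rw [if_pos (by omega : 1 ≤ l' + 1 ∧ l' + 1 - 1 < m + 1), esymm_succ', one_mul,
      Nat.add_sub_cancel, Nat.sub_zero]
    by_cases h2 : l' + 1 < m + 1
    · rw [if_pos ⟨Nat.zero_le _, h2⟩]
    · rw [if_neg (by omega)]
      have h3 : l' + 1 = m + 1 := by omega
      rw [h3, bbv_top]

end Conv

section Inj
variable (m : ℕ) (R : Type u) [CommRing R]
open MvPolynomial

/-- scalars in the chart ring `Away (T_0)`. -/
noncomputable def scal0 : R →+* Away (CohB1.polyGrading (m + 1) R) (xi (m + 1) R 0) :=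
  (algebraMap (CohB1.polyGrading (m + 1) R 0)
    (Away (CohB1.polyGrading (m + 1) R) (xi (m + 1) R 0))).comp
    (algebraMap R (CohB1.polyGrading (m + 1) R 0))

/-- dehomogenization `R[T] → R[T]_(T_0)`. -/
noncomputable def evF : MvPolynomial (Fin (m + 1 + 1)) R →+*
    Away (CohB1.polyGrading (m + 1) R) (xi (m + 1) R 0) :=
  eval₂Hom (scal0 m R) (fun l => frac1 (CohB1.polyGrading (m + 1) R) (ιPn _ R) (ιPn_mem _ R)
    (xi_mem (m + 1) R 0) (ei (m + 1) R l))

lemma evF_X (l : Fin (m + 1 + 1)) :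
    evF m R (X l) = frac1 (CohB1.polyGrading (m + 1) R) (ιPn _ R) (ιPn_mem _ R)
      (xi_mem (m + 1) R 0) (ei (m + 1) R l) := by
  rw [evF, coe_eval₂Hom, eval₂_X]

lemma evF_C (r : R) : evF m R (C r) = scal0 m R r := by
  rw [evF, coe_eval₂Hom, eval₂_C]

lemma evF_X_zero : evF m R (X 0) = 1 := by
  rw [evF_X]
  exact frac1_self (CohB1.polyGrading (m + 1) R) (ιPn _ R) (ιPn_mem _ R) (ei (m + 1) R 0)

lemma evF_surjective : Function.Surjective (evF m R) := by
  have h : (evF m R).range = ⊤ := by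
    apply away_subring_eq_top (CohB1.polyGrading (m + 1) R) (ιPn _ R) (ιPn_mem _ R)
      (isSymmetricAlgebra_ιPn _ R) (fun k => ei (m + 1) R k) (span_single (m + 1) R)
      (xi_mem (m + 1) R 0)
    · intro r
      exact ⟨C r, evF_C m R r⟩
    · intro k
      exact ⟨X k, evF_X m R k⟩
  exact RingHom.range_eq_top.1 h

/-- dehomogenization `T_0 ↦ 1`. -/
noncomputable def dh : MvPolynomial (Fin (m + 1 + 1)) R →ₐ[R] MvPolynomial (Fin (m + 1)) R :=
  aeval (Fin.cases (1 : MvPolynomial (Fin (m + 1)) R) (fun l => X l))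

lemma dh_X_zero : dh m R (X 0) = 1 := by
  rw [dh, aeval_X]; rfl

lemma dh_X_succ (l : Fin (m + 1)) : dh m R (X l.succ) = X l := by
  rw [dh, aeval_X]; rfl

lemma evF_dh (a₀ : MvPolynomial (Fin (m + 1 + 1)) R) :
    evF m R (rename Fin.succ (dh m R a₀)) = evF m R a₀ := by
  have h : (evF m R).comp ((rename Fin.succ :
      MvPolynomial (Fin (m + 1)) R →ₐ[R] MvPolynomial (Fin (m + 1 + 1)) R).comp (dh m R)).toRingHom =
      evF m R := by
    apply MvPolynomial.ringHom_ext
    · intro r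
      change evF m R (rename Fin.succ (dh m R (C r))) = evF m R (C r)
      have h1 : dh m R (C r) = C r := by
        rw [dh]; exact aeval_C _ r
      rw [h1, rename_C]
    · intro i
      change evF m R (rename Fin.succ (dh m R (X i))) = evF m R (X i)
      refine Fin.cases ?_ (fun l => ?_) i
      · rw [dh_X_zero, map_one, map_one, evF_X_zero]
      · rw [dh_X_succ, rename_X]
  exact congrArg (fun φ : MvPolynomial (Fin (m + 1 + 1)) R →+* _ => φ a₀) h

lemma aeval_dh {C' : Type u} [CommRing C'] [Algebra R C'] (c : Fin (m + 1 + 1) → C') (hc : c 0 = 1)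
    (a₀ : MvPolynomial (Fin (m + 1 + 1)) R) :
    aeval (fun l : Fin (m + 1) => c l.succ) (dh m R a₀) = aeval c a₀ := by
  have h : (aeval (fun l : Fin (m + 1) => c l.succ)).comp (dh m R) = aeval c := by
    apply MvPolynomial.algHom_ext
    intro i
    rw [AlgHom.comp_apply, aeval_X]
    refine Fin.cases ?_ (fun l => ?_) i
    · rw [dh_X_zero, map_one, hc]
    · rw [dh_X_succ, aeval_X]
  exact congrArg (fun φ : MvPolynomial (Fin (m + 1 + 1)) R →ₐ[R] C' => φ a₀) h

/-- the key algebraic input: no nonzero polynomial relation among `e_1, …, e_{m+1}`. -/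
lemma aeval_esymm_injective (b' : MvPolynomial (Fin (m + 1)) R)
    (h : aeval (fun l : Fin (m + 1) => esymm (Fin (m + 1)) R ((l : ℕ) + 1)) b' = 0) : b' = 0 := by
  apply esymmAlgHom_fin_injective R (le_refl (m + 1))
  rw [map_zero]
  apply Subtype.ext
  rw [esymmAlgHom_apply]
  exact h

end Inj

section Dom

lemma isDominant_SpecMap {A B : CommRingCat.{u}} (φ : A ⟶ B) (h : Function.Injective φ.hom) :
    IsDominant (Spec.map φ) := by
  rw [isDominant_iff]
  have h1 : DenseRange (PrimeSpectrum.comap φ.hom) := by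
    rw [PrimeSpectrum.denseRange_comap_iff_ker_le_nilRadical,
      (RingHom.injective_iff_ker_eq_bot _).mp h]
    exact bot_le
  exact h1

variable {A : Type u} [CommRing A] {S : Type u} [CommRing S] [Algebra A S]
  (𝒮 : ℕ → Submodule A S) [GradedAlgebra 𝒮]

/-- a morphism from a nonempty affine scheme into a chart of an irreducible `Proj`, injective on
the chart ring, is dominant. -/
lemma isDominant_of_chartHom_injective [IrreducibleSpace (Proj 𝒮)] {P : Scheme.{u}} [IsAffine P]
    [Nonempty P] (r : P ⟶ Proj 𝒮) {f : S} {d : ℕ} (hf : f ∈ 𝒮 d) (hd : 0 < d)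
    (e : (⊤ : P.Opens) ≤ r ⁻¹ᵁ Proj.basicOpen 𝒮 f)
    (hinj : Function.Injective (chartHom 𝒮 r f e)) : IsDominant r := by
  haveI : IsAffine ((⊤ : P.Opens).toScheme) := isAffineOpen_top P
  set h := chartMor 𝒮 r hf hd e with hh
  have happ : h.appTop = (Scheme.ΓSpecIso (CommRingCat.of (Away 𝒮 f))).hom ≫
      CommRingCat.ofHom (chartHom 𝒮 r f e) ≫ (⊤ : P.Opens).topIso.inv := by
    rw [← Iso.inv_comp_eq]
    exact chartMor_appTop 𝒮 r hf hd e
  have hinj2 : Function.Injective h.appTop.hom := by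
    rw [happ]
    simp only [CommRingCat.hom_comp, RingHom.coe_comp]
    exact ((ConcreteCategory.bijective_of_isIso _).1.comp hinj).comp
      (ConcreteCategory.bijective_of_isIso _).1
  haveI : IsDominant (Spec.map h.appTop) := isDominant_SpecMap _ hinj2
  haveI : IsDominant (h ≫ (Spec (CommRingCat.of (Away 𝒮 f))).toSpecΓ) := by
    rw [Scheme.toSpecΓ_naturality]
    infer_instance
  haveI : IsDominant h :=
    (MorphismProperty.cancel_right_of_respectsIso @IsDominant h
      (Spec (CommRingCat.of (Away 𝒮 f))).toSpecΓ).mp inferInstance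
  haveI : IsDominant (Proj.awayι 𝒮 f hf hd) := by
    rw [isDominant_iff]
    have hr : Set.range (Proj.awayι 𝒮 f hf hd) = (Proj.basicOpen 𝒮 f : Set (Proj 𝒮)) :=
      congrArg (fun U : (Proj 𝒮).Opens => (U : Set (Proj 𝒮))) (Proj.opensRange_awayι 𝒮 f hf hd)
    rw [DenseRange, hr]
    obtain ⟨x₀⟩ := ‹Nonempty P›
    exact (Proj.basicOpen 𝒮 f).isOpen.dense ⟨r x₀, e (show x₀ ∈ (⊤ : P.Opens) from trivial)⟩
  haveI : IsDominant ((⊤ : P.Opens).ι ≫ r) := by
    rw [← chartMor_awayι 𝒮 r hf hd e]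
    infer_instance
  exact IsDominant.of_comp (⊤ : P.Opens).ι r

end Dom

section Surj
variable (m : ℕ) (R : Type u) [CommRing R]
open MvPolynomial

/-- the generic point `((1 : X_0), (1 : e_1 : … : e_m))`. -/
noncomputable abbrev ppE : Spec (CommRingCat.of (MvPolynomial (Fin (m + 1)) R)) ⟶ XX 1 m R :=
  pp m R (MvPolynomial (Fin (m + 1)) R) (aE m R) (bE m R) (aE_zero m R) (bE_zero m R)

/-- the chart ring map of the composite to `P^{m+1}`. -/
noncomputable abbrev zetaE : Away (CohB1.polyGrading (m + 1) R) (xi (m + 1) R 0) →+*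
    Γ(Spec (CommRingCat.of (MvPolynomial (Fin (m + 1)) R)), ⊤) :=
  chartHom (CohB1.polyGrading (m + 1) R) (ppE m R ≫ mu m R) (xi (m + 1) R 0)
    (top_le_pp_mu m R (MvPolynomial (Fin (m + 1)) R) (aE m R) (bE m R) (aE_zero m R) (bE_zero m R))

variable (hR : ∀ (D : Type u) [CommRing D] (f g : R →+* D), f = g)
include hR

lemma zetaE_evF : (zetaE m R).comp (evF m R) =
    (Scheme.ΓSpecIso (CommRingCat.of (MvPolynomial (Fin (m + 1)) R))).inv.hom.comp
      (aeval (conv m (MvPolynomial (Fin (m + 1)) R) (aE m R) (bE m R))).toRingHom := by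
  apply MvPolynomial.ringHom_ext
  · intro r
    exact congrArg (fun φ : R →+* _ => φ r)
      (hR _ (((zetaE m R).comp (evF m R)).comp MvPolynomial.C)
        (((Scheme.ΓSpecIso (CommRingCat.of (MvPolynomial (Fin (m + 1)) R))).inv.hom.comp
          (aeval (conv m (MvPolynomial (Fin (m + 1)) R) (aE m R)
            (bE m R))).toRingHom).comp MvPolynomial.C))
  · intro l
    change zetaE m R (evF m R (X l)) =
      (Scheme.ΓSpecIso (CommRingCat.of (MvPolynomial (Fin (m + 1)) R))).inv.hom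
        (aeval (conv m (MvPolynomial (Fin (m + 1)) R) (aE m R) (bE m R)) (X l))
    rw [evF_X, aeval_X]
    exact chartHom_pp_mu m R (MvPolynomial (Fin (m + 1)) R) (aE m R) (bE m R) (aE_zero m R)
      (bE_zero m R) l

lemma zetaE_injective : Function.Injective (zetaE m R) := by
  rw [injective_iff_map_eq_zero]
  intro z hz
  obtain ⟨a₀, rfl⟩ := evF_surjective m R z
  have h1 : (Scheme.ΓSpecIso (CommRingCat.of (MvPolynomial (Fin (m + 1)) R))).inv.hom
      (aeval (conv m (MvPolynomial (Fin (m + 1)) R) (aE m R) (bE m R)) a₀) = 0 := by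
    have h := congrArg (fun φ : MvPolynomial (Fin (m + 1 + 1)) R →+* _ => φ a₀) (zetaE_evF m R hR)
    exact h.symm.trans hz
  have h2 : aeval (conv m (MvPolynomial (Fin (m + 1)) R) (aE m R) (bE m R)) a₀ = 0 := by
    have hinj : Function.Injective
        (Scheme.ΓSpecIso (CommRingCat.of (MvPolynomial (Fin (m + 1)) R))).inv.hom :=
      (ConcreteCategory.bijective_of_isIso _).1
    apply hinj
    rw [h1, map_zero]
  have hc0 : conv m (MvPolynomial (Fin (m + 1)) R) (aE m R) (bE m R) 0 = 1 := by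
    rw [conv_eq]
    exact esymm_zero _ _
  rw [← aeval_dh m R _ hc0] at h2
  have h3 : dh m R a₀ = 0 := by
    apply aeval_esymm_injective
    have h4 : (fun l : Fin (m + 1) =>
        conv m (MvPolynomial (Fin (m + 1)) R) (aE m R) (bE m R) l.succ) =
        fun l : Fin (m + 1) => esymm (Fin (m + 1)) R ((l : ℕ) + 1) := by
      funext l
      rw [conv_eq]
      rfl
    rw [← h4]
    exact h2
  rw [← evF_dh, h3, map_zero, map_zero]

end Surj

section Final

lemma ringHom_ulift_int_ext (D : Type u) [CommRing D] (f g : ULift.{u} ℤ →+* D) : f = g := by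
  have h : f.comp (ULift.ringEquiv.symm : ℤ ≃+* ULift.{u} ℤ).toRingHom =
      g.comp (ULift.ringEquiv.symm : ℤ ≃+* ULift.{u} ℤ).toRingHom := RingHom.ext_int _ _
  ext x
  have h1 : f ((ULift.ringEquiv.symm : ℤ ≃+* ULift.{u} ℤ) (ULift.ringEquiv x)) =
      g ((ULift.ringEquiv.symm : ℤ ≃+* ULift.{u} ℤ) (ULift.ringEquiv x)) :=
    congrArg (fun φ : ℤ →+* D => φ (ULift.ringEquiv x)) h
  rwa [RingEquiv.symm_apply_apply] at h1

instance isDomain_ulift_int : IsDomain (ULift.{u} ℤ) :=
  (ULift.ringEquiv : ULift.{u} ℤ ≃+* ℤ).toMulEquiv.isDomain ℤ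

/-- projective space over a domain is irreducible. -/
theorem irreducibleSpace_proj (n : ℕ) (R : Type u) [CommRing R] [IsDomain R] :
    IrreducibleSpace (Proj (CohB1.polyGrading n R)) := by
  have hne : (HomogeneousIdeal.irrelevant (CohB1.polyGrading n R)).toIdeal ≠ ⊥ := by
    rw [irrelevant_eq_span (CohB1.polyGrading n R) (ιPn n R) (ιPn_mem n R)
      (isSymmetricAlgebra_ιPn n R)]
    intro h
    have h1 : ιPn n R (ei n R 0) ∈ Ideal.span (Set.range (ιPn n R)) :=
      Ideal.subset_span ⟨_, rfl⟩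
    rw [h, ιPn_single] at h1
    exact MvPolynomial.X_ne_zero (0 : Fin (n + 1)) ((Submodule.mem_bot _).mp h1)
  let η : ProjectiveSpectrum (CohB1.polyGrading n R) :=
    ⟨⊥, by rw [HomogeneousIdeal.toIdeal_bot]; exact Ideal.isPrime_bot, fun hle => hne (by
      rw [← le_bot_iff, ← HomogeneousIdeal.toIdeal_bot (𝒜 := CohB1.polyGrading n R)]
      exact hle)⟩
  have hcl : closure ({η} : Set (ProjectiveSpectrum (CohB1.polyGrading n R))) = Set.univ := by
    rw [Set.eq_univ_iff_forall]
    intro y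
    rw [← ProjectiveSpectrum.le_iff_mem_closure]
    change (⊥ : HomogeneousIdeal (CohB1.polyGrading n R)) ≤ _
    exact bot_le
  have : IsIrreducible (Set.univ : Set (ProjectiveSpectrum (CohB1.polyGrading n R))) := by
    rw [← hcl]
    exact isIrreducible_singleton.closure
  change IrreducibleSpace (ProjectiveSpectrum (CohB1.polyGrading n R))
  exact (irreducibleSpace_def _).mpr this

/-- **`μ` over `ℤ` is surjective.** -/
theorem surjective_mu (m : ℕ) : Surjective (mu m (ULift.{u} ℤ)) := by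
  haveI := irreducibleSpace_proj (m + 1) (ULift.{u} ℤ)
  haveI : Nonempty (Spec (CommRingCat.of (MvPolynomial (Fin (m + 1)) (ULift.{u} ℤ)))) :=
    inferInstanceAs (Nonempty (PrimeSpectrum (MvPolynomial (Fin (m + 1)) (ULift.{u} ℤ))))
  haveI : IsDominant (ppE m (ULift.{u} ℤ) ≫ mu m (ULift.{u} ℤ)) :=
    isDominant_of_chartHom_injective (CohB1.polyGrading (m + 1) (ULift.{u} ℤ))
      (ppE m (ULift.{u} ℤ) ≫ mu m (ULift.{u} ℤ)) (xi_mem (m + 1) (ULift.{u} ℤ) 0) Nat.one_pos
      (top_le_pp_mu m (ULift.{u} ℤ) (MvPolynomial (Fin (m + 1)) (ULift.{u} ℤ)) (aE m (ULift.{u} ℤ))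
        (bE m (ULift.{u} ℤ)) (aE_zero m (ULift.{u} ℤ)) (bE_zero m (ULift.{u} ℤ)))
      (zetaE_injective m (ULift.{u} ℤ) ringHom_ulift_int_ext)
  haveI : IsDominant (mu m (ULift.{u} ℤ)) :=
    IsDominant.of_comp (ppE m (ULift.{u} ℤ)) (mu m (ULift.{u} ℤ))
  exact surjective_of_isDominant_of_isClosed_range _
    (mu m (ULift.{u} ℤ)).isClosedMap.isClosed_range

end Final

end Groth.Agent.H4.SegMuC
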