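import Mathlib
import Groth.Agent.H4.SegMuC
import Groth.Agent.Lib.Helper5.Segre.E
import Groth.Agent.H4.ProjSmooth

/-! # Finite surjective `(P¹_S)ⁿ ⟶ Pⁿ_S`, part D: base change and induction. -/

set_option autoImplicit false
universe u
open CategoryTheory CategoryTheory.Limits AlgebraicGeometry HomogeneousLocalization Opposite
  TopologicalSpace

namespace Groth.Agent.H4.SegMuD

open Groth.Agent.LD Twist Groth.Agent.H2.PUP Groth.Agent.H5.Segre Groth.Agent.H4.SegMuA
  Groth.Agent.H4.SegMuB Groth.Agent.H4.SegMuC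

section WP
variable {B X : Scheme.{u}} (f : X ⟶ B)

/-- the `n`-fold fibre power. -/
noncomputable abbrev Wn (n : ℕ) : Scheme.{u} := widePullback B (fun _ : Fin n => X) (fun _ => f)

/-- forgetting the first factor. -/
noncomputable def tauW (n : ℕ) : Wn f (n + 1) ⟶ Wn f n :=
  WidePullback.lift (WidePullback.base (fun _ : Fin (n + 1) => f))
    (fun i => WidePullback.π (fun _ : Fin (n + 1) => f) i.succ)
    (fun i => WidePullback.π_arrow (fun _ : Fin (n + 1) => f) i.succ)

lemma tauW_base (n : ℕ) :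
    tauW f n ≫ WidePullback.base (fun _ : Fin n => f) =
      WidePullback.base (fun _ : Fin (n + 1) => f) :=
  WidePullback.lift_base _ _ _ _

lemma tauW_π (n : ℕ) (i : Fin n) :
    tauW f n ≫ WidePullback.π (fun _ : Fin n => f) i =
      WidePullback.π (fun _ : Fin (n + 1) => f) i.succ :=
  WidePullback.lift_π _ _ _ _ _

/-- `X^{n+1} = X ×_B X^n`. -/
lemma isPullback_Wn (n : ℕ) :
    IsPullback (WidePullback.π (fun _ : Fin (n + 1) => f) 0) (tauW f n) f
      (WidePullback.base (fun _ : Fin n => f)) := by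
  have w : WidePullback.π (fun _ : Fin (n + 1) => f) 0 ≫ f =
      tauW f n ≫ WidePullback.base (fun _ : Fin n => f) := by
    rw [tauW_base]
    exact WidePullback.π_arrow (fun _ : Fin (n + 1) => f) 0
  refine ⟨⟨w⟩, ⟨PullbackCone.IsLimit.mk w
    (fun s => WidePullback.lift (s.fst ≫ f)
      (Fin.cases s.fst (fun i => s.snd ≫ WidePullback.π (fun _ : Fin n => f) i)) ?_)
    ?_ ?_ ?_⟩⟩
  · intro j
    refine Fin.cases ?_ (fun i => ?_) j
    · rfl
    · change (s.snd ≫ WidePullback.π (fun _ : Fin n => f) i) ≫ f = s.fst ≫ f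
      rw [Category.assoc, WidePullback.π_arrow, s.condition]
  · intro s
    exact WidePullback.lift_π _ _ _ _ _
  · intro s
    apply WidePullback.hom_ext
    · intro i
      rw [Category.assoc, tauW_π, WidePullback.lift_π]
      rfl
    · rw [Category.assoc, tauW_base, WidePullback.lift_base, s.condition]
  · intro s m h1 h2
    apply WidePullback.hom_ext
    · intro j
      rw [WidePullback.lift_π]
      refine Fin.cases ?_ (fun i => ?_) j
      · exact h1
      · change m ≫ WidePullback.π (fun _ : Fin (n + 1) => f) i.succ =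
          s.snd ≫ WidePullback.π (fun _ : Fin n => f) i
        rw [← h2, Category.assoc, tauW_π]
    · rw [WidePullback.lift_base, ← h1, Category.assoc, WidePullback.π_arrow]

instance isIso_base_zero : IsIso (WidePullback.base (fun _ : Fin 0 => f)) := by
  refine ⟨WidePullback.lift (𝟙 B) (fun i => i.elim0) (fun i => i.elim0), ?_, ?_⟩
  · apply WidePullback.hom_ext
    · intro i
      exact i.elim0
    · rw [Category.assoc, WidePullback.lift_base, Category.comp_id, Category.id_comp]
  · exact WidePullback.lift_base _ _ _ _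

end WP

section PZero
variable (R : Type u) [CommRing R]
open MvPolynomial Groth.Agent.H4.ProjSmooth

lemma sc_bijective : Function.Bijective (sc 0 R 0) := by
  constructor
  · intro r s h
    have h1 := congrArg HomogeneousLocalization.val h
    rw [val_sc, val_sc] at h1
    have hinj : Function.Injective (algebraMap R (Li 0 R 0)) := by
      let g : Pol 0 R →+* R := MvPolynomial.eval (fun _ => (1 : R))
      have hu : IsUnit (g (X 0)) := by simp [g]
      let ρ : Li 0 R 0 →+* R := IsLocalization.Away.lift (X 0 : Pol 0 R) hu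
      apply Function.LeftInverse.injective (g := ρ)
      intro r
      rw [IsScalarTower.algebraMap_apply R (Pol 0 R) (Li 0 R 0)]
      change IsLocalization.Away.lift (X 0 : Pol 0 R) hu (algebraMap (Pol 0 R) (Li 0 R 0)
        (algebraMap R (Pol 0 R) r)) = r
      rw [IsLocalization.Away.lift_eq]
      simp [g, MvPolynomial.algebraMap_eq]
    exact hinj h1
  · have h : (sc 0 R 0).range = ⊤ := by
      apply away_subring_eq_top (CohB1.polyGrading 0 R) (ιPn 0 R) (ιPn_mem 0 R)
        (isSymmetricAlgebra_ιPn 0 R) (fun k => ei 0 R k) (span_single 0 R) (hX 0 R 0)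
      · intro r
        exact ⟨r, rfl⟩
      · intro k
        haveI : Subsingleton (Fin (0 + 1)) := inferInstanceAs (Subsingleton (Fin 1))
        have hk : k = 0 := Subsingleton.elim _ _
        subst hk
        refine ⟨1, ?_⟩
        rw [map_one]
        symm
        apply HomogeneousLocalization.val_injective
        rw [frac1, Away.val_mk, HomogeneousLocalization.val_one]
        simp only [pow_one]
        have h0 := ιPn_single 0 R 0
        have h1 : Localization.mk (ιPn 0 R (ei 0 R 0))
            (⟨(X 0 : Pol 0 R), ⟨1, pow_one _⟩⟩ : Submonoid.powers (X 0 : Pol 0 R)) = 1 := by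
          rw [h0]
          exact Localization.mk_self (⟨(X 0 : Pol 0 R), ⟨1, pow_one _⟩⟩ :
            Submonoid.powers (X 0 : Pol 0 R))
        exact h1
    exact RingHom.range_eq_top.1 h

theorem isIso_projStr_zero : IsIso (projStr (CohB1.polyGrading 0 R)) := by
  haveI : Subsingleton (Fin (0 + 1)) := inferInstanceAs (Subsingleton (Fin 1))
  have hD : Proj.basicOpen (CohB1.polyGrading 0 R) (X 0 : Pol 0 R) = ⊤ := by
    rw [eq_top_iff]
    intro y _
    obtain ⟨i, hi⟩ := exists_mem_Dp 0 R y
    have hi0 : i = 0 := Subsingleton.elim _ _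
    subst hi0
    have e : (X 0 : Pol 0 R) = xi 0 R 0 := (ιPn_single 0 R 0).symm
    rw [e]
    exact hi
  have hr : (Proj.awayι (CohB1.polyGrading 0 R) (X 0 : Pol 0 R) (hX 0 R 0) Nat.one_pos).opensRange =
      ⊤ := (Proj.opensRange_awayι (CohB1.polyGrading 0 R) (X 0 : Pol 0 R) (hX 0 R 0)
        Nat.one_pos).trans hD
  haveI : IsIso (Proj.awayι (CohB1.polyGrading 0 R) (X 0 : Pol 0 R) (hX 0 R 0) Nat.one_pos) :=
    isIso_of_isOpenImmersion_of_opensRange_eq_top _ hr
  have h1 : Proj.awayι (CohB1.polyGrading 0 R) (X 0 : Pol 0 R) (hX 0 R 0) Nat.one_pos ≫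
      projStr (CohB1.polyGrading 0 R) = Spec.map (CommRingCat.ofHom (sc 0 R 0)) := by
    rw [projStr, Proj.awayι_toSpecZero_assoc, ← Spec.map_comp]
    rfl
  haveI : IsIso (Spec.map (CommRingCat.ofHom (sc 0 R 0))) := by
    haveI : IsIso (CommRingCat.ofHom (sc 0 R 0)) :=
      (ConcreteCategory.isIso_iff_bijective _).mpr (sc_bijective R)
    infer_instance
  have h2 : projStr (CohB1.polyGrading 0 R) =
      inv (Proj.awayι (CohB1.polyGrading 0 R) (X 0 : Pol 0 R) (hX 0 R 0) Nat.one_pos) ≫
        Spec.map (CommRingCat.ofHom (sc 0 R 0)) := by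
    rw [← h1, IsIso.inv_hom_id_assoc]
  rw [h2]
  infer_instance

theorem isIso_toSpec_zero : IsIso (CohB1.ProjSpace.toSpec 0 R) := isIso_projStr_zero R

instance isIso_toBase_zero (S : Scheme.{u}) : IsIso (CohB1.ProjSpaceOver.toBase 0 S) := by
  have h := isIso_toSpec_zero (ULift.{u} ℤ)
  have sq : IsPullback (pullback.fst (CohB1.ProjSpace.toSpec 0 (ULift.{u} ℤ))
      (specULiftZIsTerminal.from S)) (CohB1.ProjSpaceOver.toBase 0 S)
      (CohB1.ProjSpace.toSpec 0 (ULift.{u} ℤ)) (specULiftZIsTerminal.from S) :=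
    IsPullback.of_hasPullback _ _
  exact (MorphismProperty.isomorphisms.iff _).mp
    (MorphismProperty.of_isPullback (P := MorphismProperty.isomorphisms Scheme.{u}) sq
      ((MorphismProperty.isomorphisms.iff _).mpr h))

end PZero

section Main
variable (S : Scheme.{u})

/-- the multiplication morphism over an arbitrary base. -/
theorem exists_muS (m : ℕ) :
    ∃ φ : pullback (CohB1.ProjSpaceOver.toBase 1 S) (CohB1.ProjSpaceOver.toBase m S) ⟶
        CohB1.ProjSpaceOver (m + 1) S,
      (IsFinite φ ∧ Surjective φ) ∧ φ ≫ CohB1.ProjSpaceOver.toBase (m + 1) S =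
        pullback.fst (CohB1.ProjSpaceOver.toBase 1 S) (CohB1.ProjSpaceOver.toBase m S) ≫
          CohB1.ProjSpaceOver.toBase 1 S := by
  have hA : IsPullback (pullback.fst (CohB1.ProjSpace.toSpec 1 (ULift.{u} ℤ))
      (specULiftZIsTerminal.from S)) (CohB1.ProjSpaceOver.toBase 1 S)
      (projStr (CohB1.polyGrading 1 (ULift.{u} ℤ))) (specULiftZIsTerminal.from S) :=
    IsPullback.of_hasPullback (CohB1.ProjSpace.toSpec 1 (ULift.{u} ℤ))
      (specULiftZIsTerminal.from S)
  have hB : IsPullback (pullback.fst (CohB1.ProjSpace.toSpec m (ULift.{u} ℤ))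
      (specULiftZIsTerminal.from S)) (CohB1.ProjSpaceOver.toBase m S)
      (projStr (CohB1.polyGrading m (ULift.{u} ℤ))) (specULiftZIsTerminal.from S) :=
    IsPullback.of_hasPullback (CohB1.ProjSpace.toSpec m (ULift.{u} ℤ))
      (specULiftZIsTerminal.from S)
  have hN : IsPullback (pullback.fst (CohB1.ProjSpace.toSpec (m + 1) (ULift.{u} ℤ))
      (specULiftZIsTerminal.from S)) (CohB1.ProjSpaceOver.toBase (m + 1) S)
      (projStr (CohB1.polyGrading (m + 1) (ULift.{u} ℤ)))
      (specULiftZIsTerminal.from S) :=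
    IsPullback.of_hasPullback (CohB1.ProjSpace.toSpec (m + 1) (ULift.{u} ℤ))
      (specULiftZIsTerminal.from S)
  have hY : IsPullback
      (pullback.fst (CohB1.ProjSpaceOver.toBase 1 S) (CohB1.ProjSpaceOver.toBase m S))
      (pullback.snd (CohB1.ProjSpaceOver.toBase 1 S) (CohB1.ProjSpaceOver.toBase m S))
      (CohB1.ProjSpaceOver.toBase 1 S) (CohB1.ProjSpaceOver.toBase m S) :=
    IsPullback.of_hasPullback _ _
  haveI h1 : MorphismProperty.IsStableUnderBaseChange @IsFinite.{u} := inferInstance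
  haveI h2 : MorphismProperty.IsStableUnderBaseChange @Surjective.{u} := inferInstance
  haveI h3 : (@IsFinite.{u} ⊓ @Surjective.{u} : MorphismProperty Scheme.{u}).IsStableUnderBaseChange :=
    MorphismProperty.IsStableUnderBaseChange.inf
  exact exists_baseChange_of_product hA hB hY (isPullback_XX 1 m (ULift.{u} ℤ)) hN
    (mu_projStr m (ULift.{u} ℤ)) (@IsFinite.{u} ⊓ @Surjective.{u} : MorphismProperty Scheme.{u})
    ⟨isFinite_mu m (ULift.{u} ℤ), surjective_mu m⟩

/-- **a finite surjective `S`-morphism `(P¹_S)ⁿ ⟶ Pⁿ_S`.** -/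
theorem main (n : ℕ) :
    ∃ φ : Wn (CohB1.ProjSpaceOver.toBase 1 S) n ⟶ CohB1.ProjSpaceOver n S,
      IsFinite φ ∧ Surjective φ ∧ φ ≫ CohB1.ProjSpaceOver.toBase n S =
        WidePullback.base (fun _ : Fin n => CohB1.ProjSpaceOver.toBase 1 S) := by
  induction n with
  | zero =>
    refine ⟨WidePullback.base (fun _ : Fin 0 => CohB1.ProjSpaceOver.toBase 1 S) ≫
      inv (CohB1.ProjSpaceOver.toBase 0 S), inferInstance, inferInstance, ?_⟩
    rw [Category.assoc, IsIso.inv_hom_id, Category.comp_id]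
  | succ n ih =>
    obtain ⟨φ, hφ1, hφ2, hφ3⟩ := ih
    obtain ⟨μS, ⟨hμ1, hμ2⟩, hμ3⟩ := exists_muS S n
    have hW := isPullback_Wn (CohB1.ProjSpaceOver.toBase 1 S) n
    have hQ : IsPullback
        (pullback.fst (CohB1.ProjSpaceOver.toBase 1 S) (CohB1.ProjSpaceOver.toBase n S))
        (pullback.snd (CohB1.ProjSpaceOver.toBase 1 S) (CohB1.ProjSpaceOver.toBase n S))
        (CohB1.ProjSpaceOver.toBase 1 S) (CohB1.ProjSpaceOver.toBase n S) :=
      IsPullback.of_hasPullback _ _
    have hw : WidePullback.π (fun _ : Fin (n + 1) => CohB1.ProjSpaceOver.toBase 1 S) 0 ≫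
        CohB1.ProjSpaceOver.toBase 1 S =
        (tauW (CohB1.ProjSpaceOver.toBase 1 S) n ≫ φ) ≫ CohB1.ProjSpaceOver.toBase n S := by
      rw [Category.assoc, hφ3]
      exact hW.w
    set ψ : Wn (CohB1.ProjSpaceOver.toBase 1 S) (n + 1) ⟶
        pullback (CohB1.ProjSpaceOver.toBase 1 S) (CohB1.ProjSpaceOver.toBase n S) :=
      hQ.lift (WidePullback.π (fun _ : Fin (n + 1) => CohB1.ProjSpaceOver.toBase 1 S) 0)
        (tauW (CohB1.ProjSpaceOver.toBase 1 S) n ≫ φ) hw with hψ
    have hψ1 : ψ ≫ pullback.fst (CohB1.ProjSpaceOver.toBase 1 S)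
        (CohB1.ProjSpaceOver.toBase n S) =
        WidePullback.π (fun _ : Fin (n + 1) => CohB1.ProjSpaceOver.toBase 1 S) 0 :=
      hQ.lift_fst _ _ _
    have hψ2 : ψ ≫ pullback.snd (CohB1.ProjSpaceOver.toBase 1 S)
        (CohB1.ProjSpaceOver.toBase n S) = tauW (CohB1.ProjSpaceOver.toBase 1 S) n ≫ φ :=
      hQ.lift_snd _ _ _
    have hleft : IsPullback ψ (tauW (CohB1.ProjSpaceOver.toBase 1 S) n)
        (pullback.snd (CohB1.ProjSpaceOver.toBase 1 S) (CohB1.ProjSpaceOver.toBase n S)) φ := by
      refine IsPullback.of_right ?_ hψ2 hQ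
      rw [hψ1, hφ3]
      exact hW
    haveI hψfin : IsFinite ψ := MorphismProperty.of_isPullback (P := @IsFinite) hleft.flip hφ1
    haveI hψsur : Surjective ψ :=
      MorphismProperty.of_isPullback (P := @Surjective) hleft.flip hφ2
    haveI := hμ1
    haveI := hμ2
    refine ⟨ψ ≫ μS, inferInstance, inferInstance, ?_⟩
    rw [Category.assoc, hμ3, ← Category.assoc, hψ1]
    exact WidePullback.π_arrow (fun _ : Fin (n + 1) => CohB1.ProjSpaceOver.toBase 1 S) 0

end Main

end Groth.Agent.H4.SegMuD
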