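import Mathlib
import Groth.Agent.H4.TensVA
import Groth.Agent.H4.FTImm1

set_option autoImplicit false
set_option linter.style.haveILetI false
set_option linter.unusedSectionVars false
set_option linter.unusedVariables false

namespace Groth.Agent.H4.SegrePair

open CategoryTheory CategoryTheory.Limits AlgebraicGeometry TopologicalSpace Opposite
open HomogeneousLocalization
open Groth.Agent.H6.Sym Groth.Agent.H6 Groth.Agent.LD.QC Groth.Agent.H4.PBundle Groth.Agent.H4.PBundle2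
open Groth.Agent.H4.PBundle3 Groth.Agent.H4.PBLoc Groth.Agent.H4.PBLoc2 Groth.Agent.H4.PBLoc3
open Groth.Agent.H4.ConeImm
open Groth.Agent.H4.PBUniq Groth.Agent.H4.PBEx1 Groth.Agent.H4.PBEx2 Groth.Agent.H4.PBEx4
open Groth.Agent.H4.SegreCh Groth.Agent.H4.SegreVA Groth.Agent.H4.ProjPhi Groth.Agent.H4.TensVA
open Groth.Agent.H8.RelTwist
open scoped HomogeneousIdeal

universe u

noncomputable section

lemma comp_app_apply' {X : Scheme.{u}} {M N K : X.Modules} (f : M ⟶ N) (g : N ⟶ K) (U : X.Opens)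
    (x : Γ(M, U)) : (f ≫ g).app U x = g.app U (f.app U x) := rfl

section TB

variable {X : Scheme.{u}}

/-- if `a ⊗ b` is a basis of `L ⊗ L'` (both invertible) then `b` is a basis of `L'`. -/
theorem isBasisOver_right_of_tmul {L L' : X.Modules} (hL : PicF.IsInvertible L)
    (hL' : PicF.IsInvertible L') {W : X.Opens} (a : Γ(L, W)) (b : Γ(L', W))
    (h : IsBasisOver (CohB1.tensorMod L L') W (SecTwist.tmul L L' W a b)) : IsBasisOver L' W b := by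
  apply isBasisOver_of_local b
  intro x hxW W' hxW'
  obtain ⟨U₁, a₀, hx₁, ha₀⟩ := (isInvertible_iff_exists_isBasisOver L).mp hL x
  obtain ⟨U₂, b₀, hx₂, hb₀⟩ := (isInvertible_iff_exists_isBasisOver L').mp hL' x
  have hVW : W ⊓ W' ⊓ U₁ ⊓ U₂ ≤ W := inf_le_left.trans (inf_le_left.trans inf_le_left)
  have hVW' : W ⊓ W' ⊓ U₁ ⊓ U₂ ≤ W' := inf_le_left.trans (inf_le_left.trans inf_le_right)
  have hV1 : W ⊓ W' ⊓ U₁ ⊓ U₂ ≤ U₁ := inf_le_left.trans inf_le_right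
  have hV2 : W ⊓ W' ⊓ U₁ ⊓ U₂ ≤ U₂ := inf_le_right
  refine ⟨W ⊓ W' ⊓ U₁ ⊓ U₂, hVW, ⟨⟨⟨hxW, hxW'⟩, hx₁⟩, hx₂⟩, hVW', ?_⟩
  have ba := ha₀.mono hV1
  have bb := hb₀.mono hV2
  obtain ⟨c, hc⟩ := ba.exists_coord (L.presheaf.map (homOfLE hVW).op a)
  obtain ⟨d, hd⟩ := bb.exists_coord (L'.presheaf.map (homOfLE hVW).op b)
  have hT := h.mono hVW
  rw [tmul_res, hc, hd, tmul_smul_left, tmul_smul_right, smul_smul] at hT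
  have hu : IsUnit (c * d) := ((ba.tmul bb).smul_iff (c * d)).mp hT
  have hdu : IsUnit d := isUnit_of_mul_isUnit_right hu
  have hbas : IsBasisOver L' (W ⊓ W' ⊓ U₁ ⊓ U₂) (L'.presheaf.map (homOfLE hVW).op b) := by
    rw [hd]; exact (bb.smul_iff d).mpr hdu
  have h2 := hbas _ le_rfl
  simp only [res_self] at h2
  exact h2

end TB

section Transfer

/-- transfer of the immersion property along a surjective ring map of charts. -/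
theorem isImmersion_resLE_of_surjective_ringHom {X P P'' : Scheme.{u}} (i : X ⟶ P) (r : X ⟶ P'')
    [IsImmersion i]
    {D : P.Opens} (hD : IsAffineOpen D) {D'' : P''.Opens} (hD'' : IsAffineOpen D'')
    (W : X.Opens) (e : W ≤ i ⁻¹ᵁ D) (e'' : W ≤ r ⁻¹ᵁ D'')
    (ψ : Γ(P'', D'') ⟶ Γ(P, D)) (hs : Function.Surjective ψ.hom)
    (hψ : ψ ≫ i.appLE D W e = r.appLE D'' W e'') :
    IsImmersion (r.resLE D'' W e'') := by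
  haveI : IsAffine D.toScheme := hD
  haveI : IsAffine D''.toScheme := hD''
  let ψ' : Γ(D''.toScheme, ⊤) ⟶ Γ(D.toScheme, ⊤) := D''.topIso.hom ≫ ψ ≫ D.topIso.inv
  let g : D.toScheme ⟶ D''.toScheme :=
    D.toScheme.toSpecΓ ≫ Spec.map ψ' ≫ D''.toScheme.isoSpec.inv
  have key : i.resLE D W e ≫ g = r.resLE D'' W e'' := by
    rw [← cancel_mono D''.toScheme.isoSpec.hom]
    simp only [g, Category.assoc, Iso.inv_hom_id, Category.comp_id]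
    rw [Scheme.isoSpec_hom, Scheme.toSpecΓ_naturality, Scheme.toSpecΓ_naturality_assoc,
      ← Spec.map_comp]
    congr 2
    simp only [ψ', Scheme.Hom.appTop, Scheme.Hom.resLE_app_top, Category.assoc,
      Iso.inv_hom_id_assoc]
    rw [← Category.assoc ψ, hψ]
  have hψ's : Function.Surjective ψ'.hom := by
    intro b
    obtain ⟨b', hb'⟩ := (ConcreteCategory.bijective_of_isIso D.topIso.inv).2 b
    obtain ⟨c, hc⟩ := hs b'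
    obtain ⟨d, hd⟩ := (ConcreteCategory.bijective_of_isIso D''.topIso.hom).2 c
    refine ⟨d, ?_⟩
    change D.topIso.inv.hom (ψ.hom (D''.topIso.hom.hom d)) = b
    exact (congrArg _ ((congrArg _ hd).trans hc)).trans hb'
  haveI : IsClosedImmersion (Spec.map ψ') := IsClosedImmersion.spec_of_surjective ψ' hψ's
  haveI : IsClosedImmersion g := inferInstance
  rw [← key]
  infer_instance

end Transfer

section Chi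

variable {X Y P P'' : Scheme.{u}} {𝒮 𝒮'' : RelProj.QCGrAlg Y} {p : P ⟶ Y} {p'' : P'' ⟶ Y}
  {chart : ∀ (U : Y.Opens) (hU : IsAffineOpen U),
    (((p ⁻¹ᵁ U : P.Opens) : Scheme.{u}) ≅ Proj (𝒮.deg U hU))}
  {chart'' : ∀ (U : Y.Opens) (hU : IsAffineOpen U),
    (((p'' ⁻¹ᵁ U : P''.Opens) : Scheme.{u}) ≅ Proj (𝒮''.deg U hU))}
  {O1 : P.Modules} {O1'' : P''.Modules}
  {lam : ∀ (U : Y.Opens) (hU : IsAffineOpen U),
    O1 ⟶ (Scheme.Modules.pushforward (RelProj.emb p chart U hU)).obj (GrTwist.twist (𝒮.deg U hU) 1)}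
  {lam'' : ∀ (U : Y.Opens) (hU : IsAffineOpen U),
    O1'' ⟶ (Scheme.Modules.pushforward (RelProj.emb p'' chart'' U hU)).obj
      (GrTwist.twist (𝒮''.deg U hU) 1)}
  {E : Y.Modules} [E.IsQuasicoherent]
  {j : E ⟶ 𝒮.toModule}
  {L L'' : X.Modules}

/-- **chart ring maps agree** when the coordinate sections are related linearly. -/
theorem chi_eq_of_lin (hj : RelProj.IsGrSymAlg E 𝒮 j) (hP : RelProj.IsRelProj 𝒮 p chart)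
    (hO1 : RelProj.IsRelTwist 𝒮 p chart 1 O1 lam)
    (hP'' : RelProj.IsRelProj 𝒮'' p'' chart'')
    (hO1'' : RelProj.IsRelTwist 𝒮'' p'' chart'' 1 O1'' lam'')
    (U : Y.Opens) (hU : IsAffineOpen U) (Ξ : 𝒮.deg U hU →+*ᵍ 𝒮''.deg U hU)
    (hΞstr : ∀ c, Ξ ((𝒮.str.app (op U)).hom c) = (𝒮''.str.app (op U)).hom c)
    (φ : Γ(E, U) → Γ(O1, p ⁻¹ᵁ U))
    (hφ : ∀ e, Groth.Agent.H4.PBLoc.Reads lam U hU (QA.sec j U e) (φ e))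
    (ρ : Γ(E, U) → Γ(O1'', p'' ⁻¹ᵁ U))
    (hρ : ∀ e, Groth.Agent.H4.PBLoc.Reads lam'' U hU (Ξ (QA.sec j U e)) (ρ e))
    (r : X ⟶ P) (r'' : X ⟶ P'') (hq : r ≫ p = r'' ≫ p'')
    (τ : (Scheme.Modules.pullback r).obj O1 ≅ L)
    (τ'' : (Scheme.Modules.pullback r'').obj O1'' ≅ L'')
    (e₀ : Γ(E, U)) (W : X.Opens)
    (eW : W ≤ r ⁻¹ᵁ Dp p chart U hU (QA.sec j U e₀))
    (eW'' : W ≤ r'' ⁻¹ᵁ Dp p'' chart'' U hU (Ξ (QA.sec j U e₀)))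
    (hlin : ∀ (e : Γ(E, U)) (c : Γ(X, W)),
      L.presheaf.map (homOfLE (eW.trans (r.preimage_mono (Dp_le p chart U hU _)))).op
          (lsec r τ U (φ e)) =
        c • L.presheaf.map (homOfLE (eW.trans (r.preimage_mono (Dp_le p chart U hU _)))).op
          (lsec r τ U (φ e₀)) →
      L''.presheaf.map (homOfLE (eW''.trans (r''.preimage_mono (Dp_le p'' chart'' U hU _)))).op
          (lsec r'' τ'' U (ρ e)) =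
        c • L''.presheaf.map (homOfLE (eW''.trans (r''.preimage_mono (Dp_le p'' chart'' U hU _)))).op
          (lsec r'' τ'' U (ρ e₀)))
    (z : Away (𝒮.deg U hU) (QA.sec j U e₀)) :
    chi r'' U hU (Ξ (QA.sec j U e₀)) W eW'' (Away.map Ξ (QA.sec j U e₀) z) =
      chi r U hU (QA.sec j U e₀) W eW z := by
  have hh : QA.sec j U e₀ ∈ 𝒮.deg U hU 1 := hj.2 U hU e₀
  have hh'' : Ξ (QA.sec j U e₀) ∈ 𝒮''.deg U hU 1 := GradedFunLike.map_mem Ξ hh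
  refine chi_comp_awayMap hj hP hP'' U hU Ξ hΞstr r r'' hq e₀ W eW eW'' ?_ z
  intro e z hz
  have he : QA.sec j U e ∈ 𝒮.deg U hU 1 := hj.2 U hU e
  have hzz : z = Away.mk (𝒮.deg U hU) hh 1 (QA.sec j U e) (by simpa using he) := by
    apply HomogeneousLocalization.val_injective
    rw [hz, Away.val_mk]
  have k1 := lsec_res_eq_smul r τ hO1 U hU (QA.sec j U e₀) (QA.sec j U e) hh he
    (φ e₀) (φ e) (hφ e₀) (hφ e) W eW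
  have k2 := lsec_res_eq_smul r'' τ'' hO1'' U hU (Ξ (QA.sec j U e₀)) (Ξ (QA.sec j U e)) hh''
    (GradedFunLike.map_mem Ξ he) (ρ e₀) (ρ e) (hρ e₀) (hρ e) W eW''
  have k3 := hlin e _ k1
  have bW'' := isBasisOver_lsec r'' τ'' hO1'' U hU (Ξ (QA.sec j U e₀)) hh'' (ρ e₀) (hρ e₀) W eW''
  have k4 := bW''.coord_injective (k2.symm.trans k3)
  rw [hzz, Away.map_mk]
  exact k4

end Chi

section Epi

variable {X Y P PG : Scheme.{u}} {𝒮 𝒮G : RelProj.QCGrAlg Y} {p : P ⟶ Y} {pG : PG ⟶ Y}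
  {chart : ∀ (U : Y.Opens) (hU : IsAffineOpen U),
    (((p ⁻¹ᵁ U : P.Opens) : Scheme.{u}) ≅ Proj (𝒮.deg U hU))}
  {chartG : ∀ (U : Y.Opens) (hU : IsAffineOpen U),
    (((pG ⁻¹ᵁ U : PG.Opens) : Scheme.{u}) ≅ Proj (𝒮G.deg U hU))}
  {O1 : P.Modules} {O1G : PG.Modules}
  {lam : ∀ (U : Y.Opens) (hU : IsAffineOpen U),
    O1 ⟶ (Scheme.Modules.pushforward (RelProj.emb p chart U hU)).obj (GrTwist.twist (𝒮.deg U hU) 1)}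
  {lamG : ∀ (U : Y.Opens) (hU : IsAffineOpen U),
    O1G ⟶ (Scheme.Modules.pushforward (RelProj.emb pG chartG U hU)).obj
      (GrTwist.twist (𝒮G.deg U hU) 1)}
  {E G : Y.Modules} [E.IsQuasicoherent] [G.IsQuasicoherent]
  {j : E ⟶ 𝒮.toModule} {jG : G ⟶ 𝒮G.toModule}
  {L : X.Modules}

theorem awayMap_surjective (hj : RelProj.IsGrSymAlg E 𝒮 j) (hjG : RelProj.IsGrSymAlg G 𝒮G jG)
    (U : Y.Opens) (hU : IsAffineOpen U) (Ξ : 𝒮G.deg U hU →+*ᵍ 𝒮.deg U hU)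
    (hΞstr : ∀ c, Ξ ((𝒮G.str.app (op U)).hom c) = (𝒮.str.app (op U)).hom c)
    (hsurj : ∀ e : Γ(E, U), ∃ g : Γ(G, U), Ξ (QA.sec jG U g) = QA.sec j U e)
    (g₀ : Γ(G, U)) : Function.Surjective (Away.map Ξ (QA.sec jG U g₀)) := by
  have hdeg : ∀ (n : ℕ) (a : 𝒮.presheaf.obj (op U)), a ∈ 𝒮.deg U hU n →
      ∃ b, b ∈ 𝒮G.deg U hU n ∧ Ξ b = a := by
    intro n a ha
    refine sym_induction hj U hU (fun n a => ∃ b, b ∈ 𝒮G.deg U hU n ∧ Ξ b = a) ?_ ?_ ?_ n a ha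
    · intro c
      exact ⟨_, 𝒮G.str_mem U hU c, hΞstr c⟩
    · rintro n a b ⟨a', ha', rfl⟩ ⟨b', hb', rfl⟩
      exact ⟨a' + b', add_mem ha' hb', map_add Ξ a' b'⟩
    · rintro n e a ⟨a', ha', rfl⟩
      obtain ⟨g, hg⟩ := hsurj e
      refine ⟨QA.sec jG U g * a', ?_, by rw [map_mul, hg]⟩
      rw [add_comm]
      exact SetLike.mul_mem_graded (hjG.2 U hU g) ha'
  have hhG : QA.sec jG U g₀ ∈ 𝒮G.deg U hU 1 := hjG.2 U hU g₀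
  have hh : Ξ (QA.sec jG U g₀) ∈ 𝒮.deg U hU 1 := GradedFunLike.map_mem Ξ hhG
  intro z'
  obtain ⟨n, a, ha, rfl⟩ := Away.mk_surjective (𝒮.deg U hU) hh z'
  obtain ⟨b, hb, rfl⟩ := hdeg n a (by simpa using ha)
  refine ⟨Away.mk (𝒮G.deg U hU) hhG n b (by simpa using hb), ?_⟩
  rw [Away.map_mk]

/-- **closed immersion of bundles along an epimorphism**: if `X ⟶ P(E)` attached to `s` is an
immersion and `u : G ⟶ E` is an epimorphism, then `X ⟶ P(G)` attached to `q^*u ≫ s` is an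
immersion. -/
theorem epiImm (hj : RelProj.IsGrSymAlg E 𝒮 j) (hP : RelProj.IsRelProj 𝒮 p chart)
    (hO1 : RelProj.IsRelTwist 𝒮 p chart 1 O1 lam)
    (φ : E ⟶ (Scheme.Modules.pushforward p).obj O1)
    (hφ : ∀ (U : Y.Opens) (hU : IsAffineOpen U) (e : Γ(E, U)),
      Groth.Agent.H4.PBLoc.Reads lam U hU (QA.sec j U e) (φ.app U e))
    (hjG : RelProj.IsGrSymAlg G 𝒮G jG) (hPG : RelProj.IsRelProj 𝒮G pG chartG)
    (hO1G : RelProj.IsRelTwist 𝒮G pG chartG 1 O1G lamG)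
    (φG : G ⟶ (Scheme.Modules.pushforward pG).obj O1G)
    (hφG : ∀ (U : Y.Opens) (hU : IsAffineOpen U) (e : Γ(G, U)),
      Groth.Agent.H4.PBLoc.Reads lamG U hU (QA.sec jG U e) (φG.app U e))
    (u : G ⟶ E) [Epi u]
    (q : X ⟶ Y) (hL : PicF.IsInvertible L)
    (s : (Scheme.Modules.pullback q).obj E ⟶ L) [Epi s]
    (i : X ⟶ P) [IsImmersion i] (hi : i ≫ p = q) (τ : (Scheme.Modules.pullback i).obj O1 ≅ L)
    (hτ : alpha φ q i hi ≫ τ.hom = s)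
    (rG : X ⟶ PG) (hrG : rG ≫ pG = q) (τG : (Scheme.Modules.pullback rG).obj O1G ≅ L)
    (hτG : alpha φG q rG hrG ≫ τG.hom = (Scheme.Modules.pullback q).map u ≫ s) :
    IsImmersion rG := by
  have hgen : 𝒮.IsGenDegOne := genDegOne_of_isGrSymAlg hj
  have hgenG : 𝒮G.IsGenDegOne := genDegOne_of_isGrSymAlg hjG
  haveI : Epi ((Scheme.Modules.pullback q).map u) := inferInstance
  haveI : Epi ((Scheme.Modules.pullback q).map u ≫ s) := epi_comp _ _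
  apply Groth.Agent.H4.ImmTr.isImmersion_of_forall_exists_restrict
  intro x
  obtain ⟨U, hU, hxU, -⟩ := Opens.isBasis_iff_nbhd.mp Y.isBasis_affineOpens
    (show q.base x ∈ (⊤ : Y.Opens) from trivial)
  replace hU : IsAffineOpen U := hU
  obtain ⟨g₀, V₁, hV₁, hV₁U, hxV₁, b₁⟩ :=
    exists_basis_of_epi q ((Scheme.Modules.pullback q).map u ≫ s) hL x U hU hxU
  have hsig : ∀ g : Γ(G, U), sig q ((Scheme.Modules.pullback q).map u ≫ s) U g =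
      sig q s U (u.app U g) := by
    intro g
    unfold sig
    rw [comp_app_apply', pbSec_naturality]
  obtain ⟨Ξ, hΞ1, hΞ2⟩ := exists_grHom hjG 𝒮 U hU
    (AddMonoidHom.mk' (fun g => QA.sec j U (u.app U g))
      (fun a b => by
        show QA.sec j U (u.app U (a + b)) = _
        rw [map_add]
        exact QA.sec_add j U _ _))
    (fun r m => by
      show QA.sec j U (u.app U (r • m)) = _
      rw [Scheme.Modules.Hom.app_smul]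
      exact QA.sec_smul j U _ _)
    (fun m => hj.2 U hU _)
  replace hΞ2 : ∀ g : Γ(G, U), Ξ (QA.sec jG U g) = QA.sec j U (u.app U g) := hΞ2
  have hhG : QA.sec jG U g₀ ∈ 𝒮G.deg U hU 1 := hjG.2 U hU g₀
  have hh : Ξ (QA.sec jG U g₀) ∈ 𝒮.deg U hU 1 := GradedFunLike.map_mem Ξ hhG
  have hrd : ∀ g : Γ(G, U), Groth.Agent.H4.PBLoc.Reads lam U hU (Ξ (QA.sec jG U g))
      (φ.app U (u.app U g)) := by
    intro g
    rw [hΞ2 g]; exact hφ U hU _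
  refine ⟨Dp pG chartG U hU (QA.sec jG U g₀), ?_, ?_⟩
  · have hV₁' : V₁ ≤ rG ⁻¹ᵁ (pG ⁻¹ᵁ U) := by
      have h1 := hV₁U
      rw [← hrG] at h1
      exact h1
    have hb : IsBasisOver L V₁ (L.presheaf.map (homOfLE hV₁').op
        (lsec rG τG U (φG.app U g₀))) := by
      rw [lsec_res_eq_sig φG q _ rG hrG τG hτG U g₀ _ hV₁U hV₁']
      exact b₁
    exact le_preimage_Dp_of_isBasisOver rG τG hO1G hgenG U hU _ hhG (φG.app U g₀)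
      (hφG U hU g₀) _ hV₁' hb hxV₁
  · have hWpG : rG ⁻¹ᵁ Dp pG chartG U hU (QA.sec jG U g₀) ≤ rG ⁻¹ᵁ (pG ⁻¹ᵁ U) :=
      rG.preimage_mono (Dp_le pG chartG U hU _)
    have hWq : rG ⁻¹ᵁ Dp pG chartG U hU (QA.sec jG U g₀) ≤ q ⁻¹ᵁ U := by
      rw [← hrG]; exact hWpG
    have hWp : rG ⁻¹ᵁ Dp pG chartG U hU (QA.sec jG U g₀) ≤ i ⁻¹ᵁ (p ⁻¹ᵁ U) := by
      have h1 := hWq
      rw [← hi] at h1
      exact h1
    have hcmp : ∀ g : Γ(G, U), L.presheaf.map (homOfLE hWpG).op (lsec rG τG U (φG.app U g)) =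
        L.presheaf.map (homOfLE hWp).op (lsec i τ U (φ.app U (u.app U g))) := by
      intro g
      rw [lsec_res_eq_sig φG q _ rG hrG τG hτG U g _ hWq hWpG, hsig g,
        lsec_res_eq_sig φ q s i hi τ hτ U (u.app U g) _ hWq hWp]
    have bW := isBasisOver_lsec rG τG hO1G U hU (QA.sec jG U g₀) hhG (φG.app U g₀)
      (hφG U hU g₀) _ (le_refl (rG ⁻¹ᵁ Dp pG chartG U hU (QA.sec jG U g₀)))
    have eW : rG ⁻¹ᵁ Dp pG chartG U hU (QA.sec jG U g₀) ≤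
        i ⁻¹ᵁ Dp p chart U hU (Ξ (QA.sec jG U g₀)) :=
      le_preimage_Dp_of_isBasisOver i τ hO1 hgen U hU _ hh (φ.app U (u.app U g₀)) (hrd g₀) _ hWp
        (by rw [← hcmp g₀]; exact bW)
    have hchi := chi_eq_of_lin hjG hPG hO1G hP hO1 U hU Ξ hΞ1 (fun g => φG.app U g)
      (fun g => hφG U hU g) (fun g => φ.app U (u.app U g)) hrd rG i (hrG.trans hi.symm) τG τ g₀
      (rG ⁻¹ᵁ Dp pG chartG U hU (QA.sec jG U g₀)) le_rfl eW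
      (by
        intro g c hc
        rw [← hcmp g, ← hcmp g₀]
        exact hc)
    rw [← Scheme.Hom.resLE_eq_morphismRestrict]
    have hbijG := fn_bijective pG chartG U hU (QA.sec jG U g₀) Nat.one_pos hhG
    have hbij := fn_bijective p chart U hU (Ξ (QA.sec jG U g₀)) Nat.one_pos hh
    have hEsurj : ∀ e : Γ(E, U), ∃ g : Γ(G, U), Ξ (QA.sec jG U g) = QA.sec j U e := by
      intro e
      obtain ⟨g, hg⟩ := epi_app_affine (M := G) (N := E) inferInstance inferInstance u hU e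
      exact ⟨g, by rw [hΞ2 g, hg]⟩
    refine isImmersion_resLE_of_surjective_ringHom i rG
      (isAffineOpen_Dp p chart U hU _ Nat.one_pos hh)
      (isAffineOpen_Dp pG chartG U hU _ Nat.one_pos hhG) _ eW le_rfl
      (CommRingCat.ofHom ((fn p chart U hU (Ξ (QA.sec jG U g₀))).comp
        ((Away.map Ξ (QA.sec jG U g₀)).comp
          (RingEquiv.ofBijective (fn pG chartG U hU (QA.sec jG U g₀)) hbijG).symm.toRingHom))) ?_ ?_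
    · intro b
      obtain ⟨z', rfl⟩ := hbij.2 b
      obtain ⟨z, rfl⟩ := awayMap_surjective hj hjG U hU Ξ hΞ1 hEsurj g₀ z'
      refine ⟨fn pG chartG U hU (QA.sec jG U g₀) z, ?_⟩
      change fn p chart U hU (Ξ (QA.sec jG U g₀)) (Away.map Ξ (QA.sec jG U g₀)
        ((RingEquiv.ofBijective (fn pG chartG U hU (QA.sec jG U g₀)) hbijG).symm
          (fn pG chartG U hU (QA.sec jG U g₀) z))) = _
      have h1 : (RingEquiv.ofBijective (fn pG chartG U hU (QA.sec jG U g₀)) hbijG).symm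
          (fn pG chartG U hU (QA.sec jG U g₀) z) = z :=
        (RingEquiv.ofBijective (fn pG chartG U hU (QA.sec jG U g₀)) hbijG).symm_apply_apply z
      rw [h1]
    · apply CommRingCat.hom_ext
      apply RingHom.ext
      intro a
      obtain ⟨z, rfl⟩ := hbijG.2 a
      have h1 : (RingEquiv.ofBijective (fn pG chartG U hU (QA.sec jG U g₀)) hbijG).symm
          (fn pG chartG U hU (QA.sec jG U g₀) z) = z :=
        (RingEquiv.ofBijective (fn pG chartG U hU (QA.sec jG U g₀)) hbijG).symm_apply_apply z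
      change (i.appLE _ _ eW).hom (fn p chart U hU (Ξ (QA.sec jG U g₀))
        (Away.map Ξ (QA.sec jG U g₀)
          ((RingEquiv.ofBijective (fn pG chartG U hU (QA.sec jG U g₀)) hbijG).symm
            (fn pG chartG U hU (QA.sec jG U g₀) z)))) = _
      rw [h1]
      exact hchi z

end Epi

section Pair

variable {X Z P₁ P₂ P₁₂ : Scheme.{u}} {𝒮₁ 𝒮₂ 𝒮₁₂ : RelProj.QCGrAlg Z}
  {π₁ : P₁ ⟶ Z} {π₂ : P₂ ⟶ Z} {π₁₂ : P₁₂ ⟶ Z}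
  {chart₁ : ∀ (U : Z.Opens) (hU : IsAffineOpen U),
    (((π₁ ⁻¹ᵁ U : P₁.Opens) : Scheme.{u}) ≅ Proj (𝒮₁.deg U hU))}
  {chart₂ : ∀ (U : Z.Opens) (hU : IsAffineOpen U),
    (((π₂ ⁻¹ᵁ U : P₂.Opens) : Scheme.{u}) ≅ Proj (𝒮₂.deg U hU))}
  {chart₁₂ : ∀ (U : Z.Opens) (hU : IsAffineOpen U),
    (((π₁₂ ⁻¹ᵁ U : P₁₂.Opens) : Scheme.{u}) ≅ Proj (𝒮₁₂.deg U hU))}
  {O1₁ : P₁.Modules} {O1₂ : P₂.Modules} {O1₁₂ : P₁₂.Modules}
  {lam₁ : ∀ (U : Z.Opens) (hU : IsAffineOpen U),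
    O1₁ ⟶ (Scheme.Modules.pushforward (RelProj.emb π₁ chart₁ U hU)).obj
      (GrTwist.twist (𝒮₁.deg U hU) 1)}
  {lam₂ : ∀ (U : Z.Opens) (hU : IsAffineOpen U),
    O1₂ ⟶ (Scheme.Modules.pushforward (RelProj.emb π₂ chart₂ U hU)).obj
      (GrTwist.twist (𝒮₂.deg U hU) 1)}
  {lam₁₂ : ∀ (U : Z.Opens) (hU : IsAffineOpen U),
    O1₁₂ ⟶ (Scheme.Modules.pushforward (RelProj.emb π₁₂ chart₁₂ U hU)).obj
      (GrTwist.twist (𝒮₁₂.deg U hU) 1)}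
  {F₁ F₂ : Z.Modules} [F₁.IsQuasicoherent] [F₂.IsQuasicoherent]
  {j₁ : F₁ ⟶ 𝒮₁.toModule} {j₂ : F₂ ⟶ 𝒮₂.toModule}
  {j₁₂ : CohB1.tensorMod F₁ F₂ ⟶ 𝒮₁₂.toModule}
  {L₁ L₂ : X.Modules}

/-- **Segre transfer for a pair**: if `(r₁, r₂) : X ⟶ P(F₁) ×_Z P(F₂)` is an immersion, then the
morphism `X ⟶ P(F₁ ⊗ F₂)` attached to `s₁ ⊗ s₂` is an immersion. -/
theorem pairImm (hj₁ : RelProj.IsGrSymAlg F₁ 𝒮₁ j₁) (hP₁ : RelProj.IsRelProj 𝒮₁ π₁ chart₁)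
    (hO1₁ : RelProj.IsRelTwist 𝒮₁ π₁ chart₁ 1 O1₁ lam₁)
    (φ₁ : F₁ ⟶ (Scheme.Modules.pushforward π₁).obj O1₁)
    (hφ₁ : ∀ (U : Z.Opens) (hU : IsAffineOpen U) (e : Γ(F₁, U)),
      Groth.Agent.H4.PBLoc.Reads lam₁ U hU (QA.sec j₁ U e) (φ₁.app U e))
    (hj₂ : RelProj.IsGrSymAlg F₂ 𝒮₂ j₂) (hP₂ : RelProj.IsRelProj 𝒮₂ π₂ chart₂)
    (hO1₂ : RelProj.IsRelTwist 𝒮₂ π₂ chart₂ 1 O1₂ lam₂)
    (φ₂ : F₂ ⟶ (Scheme.Modules.pushforward π₂).obj O1₂)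
    (hφ₂ : ∀ (U : Z.Opens) (hU : IsAffineOpen U) (e : Γ(F₂, U)),
      Groth.Agent.H4.PBLoc.Reads lam₂ U hU (QA.sec j₂ U e) (φ₂.app U e))
    (hj₁₂ : RelProj.IsGrSymAlg (CohB1.tensorMod F₁ F₂) 𝒮₁₂ j₁₂)
    (hP₁₂ : RelProj.IsRelProj 𝒮₁₂ π₁₂ chart₁₂)
    (hO1₁₂ : RelProj.IsRelTwist 𝒮₁₂ π₁₂ chart₁₂ 1 O1₁₂ lam₁₂)
    (φ₁₂ : CohB1.tensorMod F₁ F₂ ⟶ (Scheme.Modules.pushforward π₁₂).obj O1₁₂)
    (hφ₁₂ : ∀ (U : Z.Opens) (hU : IsAffineOpen U) (e : Γ(CohB1.tensorMod F₁ F₂, U)),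
      Groth.Agent.H4.PBLoc.Reads lam₁₂ U hU (QA.sec j₁₂ U e) (φ₁₂.app U e))
    (h : X ⟶ Z) (hL₁ : PicF.IsInvertible L₁) (hL₂ : PicF.IsInvertible L₂)
    (s₁ : (Scheme.Modules.pullback h).obj F₁ ⟶ L₁) (s₂ : (Scheme.Modules.pullback h).obj F₂ ⟶ L₂)
    [Epi s₁] [Epi s₂]
    (r₁ : X ⟶ P₁) (hr₁ : r₁ ≫ π₁ = h) (τ₁ : (Scheme.Modules.pullback r₁).obj O1₁ ≅ L₁)
    (hτ₁ : alpha φ₁ h r₁ hr₁ ≫ τ₁.hom = s₁)
    (r₂ : X ⟶ P₂) (hr₂ : r₂ ≫ π₂ = h) (τ₂ : (Scheme.Modules.pullback r₂).obj O1₂ ≅ L₂)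
    (hτ₂ : alpha φ₂ h r₂ hr₂ ≫ τ₂.hom = s₂)
    (i : X ⟶ pullback π₁ π₂) [IsImmersion i] (hi₁ : i ≫ pullback.fst π₁ π₂ = r₁)
    (hi₂ : i ≫ pullback.snd π₁ π₂ = r₂)
    (r₁₂ : X ⟶ P₁₂) (hr₁₂ : r₁₂ ≫ π₁₂ = h)
    (τ₁₂ : (Scheme.Modules.pullback r₁₂).obj O1₁₂ ≅ CohB1.tensorMod L₁ L₂)
    (hτ₁₂ : alpha φ₁₂ h r₁₂ hr₁₂ ≫ τ₁₂.hom = tsig h s₁ s₂) :
    IsImmersion r₁₂ := by
  haveI : (CohB1.tensorMod F₁ F₂).IsQuasicoherent := inferInstance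
  have hgen₁ : 𝒮₁.IsGenDegOne := genDegOne_of_isGrSymAlg hj₁
  have hgen₂ : 𝒮₂.IsGenDegOne := genDegOne_of_isGrSymAlg hj₂
  have hgen₁₂ : 𝒮₁₂.IsGenDegOne := genDegOne_of_isGrSymAlg hj₁₂
  apply Groth.Agent.H4.ImmTr.isImmersion_of_forall_exists_restrict
  intro x
  obtain ⟨U, hU, hxU, -⟩ := Opens.isBasis_iff_nbhd.mp Z.isBasis_affineOpens
    (show h.base x ∈ (⊤ : Z.Opens) from trivial)
  replace hU : IsAffineOpen U := hU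
  obtain ⟨e₁, V₁, hV₁, hV₁U, hxV₁, b₁⟩ := exists_basis_of_epi h s₁ hL₁ x U hU hxU
  obtain ⟨e₂, V₂, hV₂, hV₂U, hxV₂, b₂⟩ := exists_basis_of_epi h s₂ hL₂ x U hU hxU
  obtain ⟨Ξ₁, hΞ₁1, hΞ₁2⟩ := exists_grHom hj₁ 𝒮₁₂ U hU
    (AddMonoidHom.mk' (fun e => QA.sec j₁₂ U (SecTwist.tmul F₁ F₂ U e e₂))
      (fun a b => by
        show QA.sec j₁₂ U (SecTwist.tmul F₁ F₂ U (a + b) e₂) = _
        rw [tmul_add_left]
        exact QA.sec_add j₁₂ U _ _))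
    (fun r m => by
      show QA.sec j₁₂ U (SecTwist.tmul F₁ F₂ U (r • m) e₂) = _
      rw [tmul_smul_left]
      exact QA.sec_smul j₁₂ U _ _)
    (fun m => hj₁₂.2 U hU _)
  replace hΞ₁2 : ∀ e : Γ(F₁, U), Ξ₁ (QA.sec j₁ U e) =
    QA.sec j₁₂ U (SecTwist.tmul F₁ F₂ U e e₂) := hΞ₁2
  obtain ⟨Ξ₂, hΞ₂1, hΞ₂2⟩ := exists_grHom hj₂ 𝒮₁₂ U hU
    (AddMonoidHom.mk' (fun e => QA.sec j₁₂ U (SecTwist.tmul F₁ F₂ U e₁ e))
      (fun a b => by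
        show QA.sec j₁₂ U (SecTwist.tmul F₁ F₂ U e₁ (a + b)) = _
        rw [tmul_add_right]
        exact QA.sec_add j₁₂ U _ _))
    (fun r m => by
      show QA.sec j₁₂ U (SecTwist.tmul F₁ F₂ U e₁ (r • m)) = _
      rw [tmul_smul_right]
      exact QA.sec_smul j₁₂ U _ _)
    (fun m => hj₁₂.2 U hU _)
  replace hΞ₂2 : ∀ e : Γ(F₂, U), Ξ₂ (QA.sec j₂ U e) =
    QA.sec j₁₂ U (SecTwist.tmul F₁ F₂ U e₁ e) := hΞ₂2
  have hΞeq : Ξ₁ (QA.sec j₁ U e₁) = Ξ₂ (QA.sec j₂ U e₂) := by rw [hΞ₁2, hΞ₂2]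
  have hh₁ : QA.sec j₁ U e₁ ∈ 𝒮₁.deg U hU 1 := hj₁.2 U hU e₁
  have hh₂ : QA.sec j₂ U e₂ ∈ 𝒮₂.deg U hU 1 := hj₂.2 U hU e₂
  have hh₁₂ : Ξ₁ (QA.sec j₁ U e₁) ∈ 𝒮₁₂.deg U hU 1 := GradedFunLike.map_mem Ξ₁ hh₁
  have hh₁₂' : Ξ₂ (QA.sec j₂ U e₂) ∈ 𝒮₁₂.deg U hU 1 := GradedFunLike.map_mem Ξ₂ hh₂
  have hrd₁ : ∀ e : Γ(F₁, U), Groth.Agent.H4.PBLoc.Reads lam₁₂ U hU (Ξ₁ (QA.sec j₁ U e))
      (φ₁₂.app U (SecTwist.tmul F₁ F₂ U e e₂)) := by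
    intro e; rw [hΞ₁2 e]; exact hφ₁₂ U hU _
  have hrd₂ : ∀ e : Γ(F₂, U), Groth.Agent.H4.PBLoc.Reads lam₁₂ U hU (Ξ₂ (QA.sec j₂ U e))
      (φ₁₂.app U (SecTwist.tmul F₁ F₂ U e₁ e)) := by
    intro e; rw [hΞ₂2 e]; exact hφ₁₂ U hU _
  refine ⟨Dp π₁₂ chart₁₂ U hU (Ξ₁ (QA.sec j₁ U e₁)), ?_, ?_⟩
  · -- membership
    have hVU : V₁ ⊓ V₂ ≤ h ⁻¹ᵁ U := inf_le_left.trans hV₁U
    have hVW'' : V₁ ⊓ V₂ ≤ r₁₂ ⁻¹ᵁ (π₁₂ ⁻¹ᵁ U) := by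
      have h1 := hVU
      rw [← hr₁₂] at h1
      exact h1
    have b₁' := b₁.mono (inf_le_left : V₁ ⊓ V₂ ≤ V₁)
    have b₂' := b₂.mono (inf_le_right : V₁ ⊓ V₂ ≤ V₂)
    rw [res_res] at b₁' b₂'
    have hb : IsBasisOver (CohB1.tensorMod L₁ L₂) (V₁ ⊓ V₂)
        ((CohB1.tensorMod L₁ L₂).presheaf.map (homOfLE hVW'').op
          (lsec r₁₂ τ₁₂ U (φ₁₂.app U (SecTwist.tmul F₁ F₂ U e₁ e₂)))) := by
      have h1 := lsec_res_eq_sig φ₁₂ h (tsig h s₁ s₂) r₁₂ hr₁₂ τ₁₂ hτ₁₂ U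
        (SecTwist.tmul F₁ F₂ U e₁ e₂) _ hVU hVW''
      rw [sig_tsig h s₁ s₂ U hU e₁ e₂, tmul_res] at h1
      rw [h1]
      exact b₁'.tmul b₂'
    exact le_preimage_Dp_of_isBasisOver r₁₂ τ₁₂ hO1₁₂ hgen₁₂ U hU _ hh₁₂
      (φ₁₂.app U (SecTwist.tmul F₁ F₂ U e₁ e₂)) (hrd₁ e₁) _ hVW'' hb ⟨hxV₁, hxV₂⟩
  · -- immersion over the chart
    have hWp₁₂ : r₁₂ ⁻¹ᵁ Dp π₁₂ chart₁₂ U hU (Ξ₁ (QA.sec j₁ U e₁)) ≤ r₁₂ ⁻¹ᵁ (π₁₂ ⁻¹ᵁ U) :=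
      r₁₂.preimage_mono (Dp_le π₁₂ chart₁₂ U hU _)
    have hWh : r₁₂ ⁻¹ᵁ Dp π₁₂ chart₁₂ U hU (Ξ₁ (QA.sec j₁ U e₁)) ≤ h ⁻¹ᵁ U := by
      have h1 := hWp₁₂
      rw [← hr₁₂]
      exact h1
    have hWp₁ : r₁₂ ⁻¹ᵁ Dp π₁₂ chart₁₂ U hU (Ξ₁ (QA.sec j₁ U e₁)) ≤ r₁ ⁻¹ᵁ (π₁ ⁻¹ᵁ U) := by
      have h1 := hWh
      rw [← hr₁] at h1
      exact h1
    have hWp₂ : r₁₂ ⁻¹ᵁ Dp π₁₂ chart₁₂ U hU (Ξ₁ (QA.sec j₁ U e₁)) ≤ r₂ ⁻¹ᵁ (π₂ ⁻¹ᵁ U) := by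
      have h1 := hWh
      rw [← hr₂] at h1
      exact h1
    have bW := isBasisOver_lsec r₁₂ τ₁₂ hO1₁₂ U hU (Ξ₁ (QA.sec j₁ U e₁)) hh₁₂
      (φ₁₂.app U (SecTwist.tmul F₁ F₂ U e₁ e₂)) (hrd₁ e₁) _ (le_refl _)
    have g12 : ∀ (a : Γ(F₁, U)) (b : Γ(F₂, U)),
        (CohB1.tensorMod L₁ L₂).presheaf.map (homOfLE hWp₁₂).op
          (lsec r₁₂ τ₁₂ U (φ₁₂.app U (SecTwist.tmul F₁ F₂ U a b))) =
        SecTwist.tmul L₁ L₂ _ (L₁.presheaf.map (homOfLE hWh).op (sig h s₁ U a))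
          (L₂.presheaf.map (homOfLE hWh).op (sig h s₂ U b)) := by
      intro a b
      have g0 := lsec_res_eq_sig φ₁₂ h (tsig h s₁ s₂) r₁₂ hr₁₂ τ₁₂ hτ₁₂ U
        (SecTwist.tmul F₁ F₂ U a b) _ hWh hWp₁₂
      rw [sig_tsig h s₁ s₂ U hU a b, tmul_res] at g0
      exact g0
    have bW' : IsBasisOver (CohB1.tensorMod L₁ L₂)
        (r₁₂ ⁻¹ᵁ Dp π₁₂ chart₁₂ U hU (Ξ₁ (QA.sec j₁ U e₁)))
        (SecTwist.tmul L₁ L₂ _ (L₁.presheaf.map (homOfLE hWh).op (sig h s₁ U e₁))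
          (L₂.presheaf.map (homOfLE hWh).op (sig h s₂ U e₂))) := by
      rw [← g12 e₁ e₂]; exact bW
    have bW₁ := isBasisOver_left_of_tmul hL₁ hL₂ _ _ bW'
    have bW₂ := isBasisOver_right_of_tmul hL₁ hL₂ _ _ bW'
    have g1 : ∀ a : Γ(F₁, U), L₁.presheaf.map (homOfLE hWp₁).op (lsec r₁ τ₁ U (φ₁.app U a)) =
        L₁.presheaf.map (homOfLE hWh).op (sig h s₁ U a) := fun a =>
      lsec_res_eq_sig φ₁ h s₁ r₁ hr₁ τ₁ hτ₁ U a _ hWh hWp₁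
    have g2 : ∀ b : Γ(F₂, U), L₂.presheaf.map (homOfLE hWp₂).op (lsec r₂ τ₂ U (φ₂.app U b)) =
        L₂.presheaf.map (homOfLE hWh).op (sig h s₂ U b) := fun b =>
      lsec_res_eq_sig φ₂ h s₂ r₂ hr₂ τ₂ hτ₂ U b _ hWh hWp₂
    have eW₁ : r₁₂ ⁻¹ᵁ Dp π₁₂ chart₁₂ U hU (Ξ₁ (QA.sec j₁ U e₁)) ≤
        r₁ ⁻¹ᵁ Dp π₁ chart₁ U hU (QA.sec j₁ U e₁) :=
      le_preimage_Dp_of_isBasisOver r₁ τ₁ hO1₁ hgen₁ U hU (QA.sec j₁ U e₁) hh₁ (φ₁.app U e₁)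
        (hφ₁ U hU e₁) _ hWp₁ (by rw [g1 e₁]; exact bW₁)
    have eW₂ : r₁₂ ⁻¹ᵁ Dp π₁₂ chart₁₂ U hU (Ξ₁ (QA.sec j₁ U e₁)) ≤
        r₂ ⁻¹ᵁ Dp π₂ chart₂ U hU (QA.sec j₂ U e₂) :=
      le_preimage_Dp_of_isBasisOver r₂ τ₂ hO1₂ hgen₂ U hU (QA.sec j₂ U e₂) hh₂ (φ₂.app U e₂)
        (hφ₂ U hU e₂) _ hWp₂ (by rw [g2 e₂]; exact bW₂)
    have hT12 : Dp π₁₂ chart₁₂ U hU (Ξ₁ (QA.sec j₁ U e₁)) ≤
        Dp π₁₂ chart₁₂ U hU (Ξ₂ (QA.sec j₂ U e₂)) := by rw [hΞeq]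
    have eW₂'' : r₁₂ ⁻¹ᵁ Dp π₁₂ chart₁₂ U hU (Ξ₁ (QA.sec j₁ U e₁)) ≤
        r₁₂ ⁻¹ᵁ Dp π₁₂ chart₁₂ U hU (Ξ₂ (QA.sec j₂ U e₂)) := r₁₂.preimage_mono hT12
    have hchi₁ := chi_eq_of_lin hj₁ hP₁ hO1₁ hP₁₂ hO1₁₂ U hU Ξ₁ hΞ₁1 (fun e => φ₁.app U e)
      (fun e => hφ₁ U hU e) (fun e => φ₁₂.app U (SecTwist.tmul F₁ F₂ U e e₂)) hrd₁ r₁ r₁₂
      (hr₁.trans hr₁₂.symm) τ₁ τ₁₂ e₁ _ eW₁ le_rfl
      (by
        intro a c hc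
        rw [g1 a, g1 e₁] at hc
        rw [g12 a e₂, g12 e₁ e₂, hc, tmul_smul_left]
        rfl)
    have hchi₂ := chi_eq_of_lin hj₂ hP₂ hO1₂ hP₁₂ hO1₁₂ U hU Ξ₂ hΞ₂1 (fun e => φ₂.app U e)
      (fun e => hφ₂ U hU e) (fun e => φ₁₂.app U (SecTwist.tmul F₁ F₂ U e₁ e)) hrd₂ r₂ r₁₂
      (hr₂.trans hr₁₂.symm) τ₂ τ₁₂ e₂ _ eW₂ eW₂''
      (by
        intro b c hc
        rw [g2 b, g2 e₂] at hc
        rw [g12 e₁ b, g12 e₁ e₂, hc, tmul_smul_right]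
        rfl)
    -- the product chart
    have H : IsPullback (pullback.fst π₁ π₂) (pullback.snd π₁ π₂) π₁ π₂ :=
      IsPullback.of_hasPullback π₁ π₂
    have hD₁ : IsAffineOpen (Dp π₁ chart₁ U hU (QA.sec j₁ U e₁)) :=
      isAffineOpen_Dp π₁ chart₁ U hU _ Nat.one_pos hh₁
    have hD₂ : IsAffineOpen (Dp π₂ chart₂ U hU (QA.sec j₂ U e₂)) :=
      isAffineOpen_Dp π₂ chart₂ U hU _ Nat.one_pos hh₂
    have hUD₁ : Dp π₁ chart₁ U hU (QA.sec j₁ U e₁) ≤ π₁ ⁻¹ᵁ U := Dp_le π₁ chart₁ U hU _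
    have hUD₂ : Dp π₂ chart₂ U hU (QA.sec j₂ U e₂) ≤ π₂ ⁻¹ᵁ U := Dp_le π₂ chart₂ U hU _
    have hDD : pullback.fst π₁ π₂ ⁻¹ᵁ Dp π₁ chart₁ U hU (QA.sec j₁ U e₁) ⊓
        pullback.snd π₁ π₂ ⁻¹ᵁ Dp π₂ chart₂ U hU (QA.sec j₂ U e₂) =
        pullback.fst π₁ π₂ ⁻¹ᵁ Dp π₁ chart₁ U hU (QA.sec j₁ U e₁) ⊓
        pullback.snd π₁ π₂ ⁻¹ᵁ Dp π₂ chart₂ U hU (QA.sec j₂ U e₂) := rfl
    have hDaff : IsAffineOpen (pullback.fst π₁ π₂ ⁻¹ᵁ Dp π₁ chart₁ U hU (QA.sec j₁ U e₁) ⊓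
        pullback.snd π₁ π₂ ⁻¹ᵁ Dp π₂ chart₂ U hU (QA.sec j₂ U e₂)) := by
      haveI : IsAffine (U : Scheme.{u}) := hU
      haveI : IsAffine ((Dp π₁ chart₁ U hU (QA.sec j₁ U e₁) : P₁.Opens) : Scheme.{u}) := hD₁
      haveI : IsAffine ((Dp π₂ chart₂ U hU (QA.sec j₂ U e₂) : P₂.Opens) : Scheme.{u}) := hD₂
      exact .of_isIso (Scheme.Hom.isPullback_resLE H hUD₂ hUD₁ hDD).isoPullback.hom
    have hiso := isIso_pushoutSection_of_isAffineOpen H hUD₂ hUD₁ hDD hU hD₂ hD₁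
    have hpo := (isIso_pushoutSection_iff H hUD₂ hUD₁ hDD).mp hiso
    have hbij₁ := fn_bijective π₁ chart₁ U hU (QA.sec j₁ U e₁) Nat.one_pos hh₁
    have hbij₂ := fn_bijective π₂ chart₂ U hU (QA.sec j₂ U e₂) Nat.one_pos hh₂
    -- the chart ring maps
    obtain ⟨ψ₁, hψ₁def⟩ : ∃ ψ₁ : Γ(P₁, Dp π₁ chart₁ U hU (QA.sec j₁ U e₁)) ⟶
        Γ(P₁₂, Dp π₁₂ chart₁₂ U hU (Ξ₁ (QA.sec j₁ U e₁))),
        ∀ z, ψ₁.hom (fn π₁ chart₁ U hU (QA.sec j₁ U e₁) z) =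
          fn π₁₂ chart₁₂ U hU (Ξ₁ (QA.sec j₁ U e₁)) (Away.map Ξ₁ (QA.sec j₁ U e₁) z) := by
      refine ⟨CommRingCat.ofHom ((fn π₁₂ chart₁₂ U hU (Ξ₁ (QA.sec j₁ U e₁))).comp
        ((Away.map Ξ₁ (QA.sec j₁ U e₁)).comp
          (RingEquiv.ofBijective (fn π₁ chart₁ U hU (QA.sec j₁ U e₁)) hbij₁).symm.toRingHom)), ?_⟩
      intro z
      have h1 : (RingEquiv.ofBijective (fn π₁ chart₁ U hU (QA.sec j₁ U e₁)) hbij₁).symm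
          (fn π₁ chart₁ U hU (QA.sec j₁ U e₁) z) = z :=
        (RingEquiv.ofBijective (fn π₁ chart₁ U hU (QA.sec j₁ U e₁)) hbij₁).symm_apply_apply z
      change fn π₁₂ chart₁₂ U hU (Ξ₁ (QA.sec j₁ U e₁)) (Away.map Ξ₁ (QA.sec j₁ U e₁)
        ((RingEquiv.ofBijective (fn π₁ chart₁ U hU (QA.sec j₁ U e₁)) hbij₁).symm
          (fn π₁ chart₁ U hU (QA.sec j₁ U e₁) z))) = _
      rw [h1]
    obtain ⟨ψ₂₀, hψ₂₀def⟩ : ∃ ψ₂₀ : Γ(P₂, Dp π₂ chart₂ U hU (QA.sec j₂ U e₂)) ⟶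
        Γ(P₁₂, Dp π₁₂ chart₁₂ U hU (Ξ₂ (QA.sec j₂ U e₂))),
        ∀ z, ψ₂₀.hom (fn π₂ chart₂ U hU (QA.sec j₂ U e₂) z) =
          fn π₁₂ chart₁₂ U hU (Ξ₂ (QA.sec j₂ U e₂)) (Away.map Ξ₂ (QA.sec j₂ U e₂) z) := by
      refine ⟨CommRingCat.ofHom ((fn π₁₂ chart₁₂ U hU (Ξ₂ (QA.sec j₂ U e₂))).comp
        ((Away.map Ξ₂ (QA.sec j₂ U e₂)).comp
          (RingEquiv.ofBijective (fn π₂ chart₂ U hU (QA.sec j₂ U e₂)) hbij₂).symm.toRingHom)), ?_⟩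
      intro z
      have h1 : (RingEquiv.ofBijective (fn π₂ chart₂ U hU (QA.sec j₂ U e₂)) hbij₂).symm
          (fn π₂ chart₂ U hU (QA.sec j₂ U e₂) z) = z :=
        (RingEquiv.ofBijective (fn π₂ chart₂ U hU (QA.sec j₂ U e₂)) hbij₂).symm_apply_apply z
      change fn π₁₂ chart₁₂ U hU (Ξ₂ (QA.sec j₂ U e₂)) (Away.map Ξ₂ (QA.sec j₂ U e₂)
        ((RingEquiv.ofBijective (fn π₂ chart₂ U hU (QA.sec j₂ U e₂)) hbij₂).symm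
          (fn π₂ chart₂ U hU (QA.sec j₂ U e₂) z))) = _
      rw [h1]
    -- compatibility with `r₁₂`
    have hψ₁ : ψ₁ ≫ r₁₂.appLE (Dp π₁₂ chart₁₂ U hU (Ξ₁ (QA.sec j₁ U e₁))) _ le_rfl =
        r₁.appLE (Dp π₁ chart₁ U hU (QA.sec j₁ U e₁)) _ eW₁ := by
      apply CommRingCat.hom_ext
      apply RingHom.ext
      intro a
      obtain ⟨z, rfl⟩ := hbij₁.2 a
      change (r₁₂.appLE _ _ le_rfl).hom (ψ₁.hom (fn π₁ chart₁ U hU (QA.sec j₁ U e₁) z)) = _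
      rw [hψ₁def z]
      exact hchi₁ z
    have hψ₂₀ : ψ₂₀ ≫ r₁₂.appLE (Dp π₁₂ chart₁₂ U hU (Ξ₂ (QA.sec j₂ U e₂))) _ eW₂'' =
        r₂.appLE (Dp π₂ chart₂ U hU (QA.sec j₂ U e₂)) _ eW₂ := by
      apply CommRingCat.hom_ext
      apply RingHom.ext
      intro a
      obtain ⟨z, rfl⟩ := hbij₂.2 a
      change (r₁₂.appLE _ _ eW₂'').hom (ψ₂₀.hom (fn π₂ chart₂ U hU (QA.sec j₂ U e₂) z)) = _
      rw [hψ₂₀def z]
      exact hchi₂ z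
    have hψ₂ : (ψ₂₀ ≫ P₁₂.presheaf.map (homOfLE hT12).op) ≫
        r₁₂.appLE (Dp π₁₂ chart₁₂ U hU (Ξ₁ (QA.sec j₁ U e₁))) _ le_rfl =
        r₂.appLE (Dp π₂ chart₂ U hU (QA.sec j₂ U e₂)) _ eW₂ := by
      rw [Category.assoc, Scheme.Hom.map_appLE]
      exact hψ₂₀
    -- compatibility over the base
    have hc₁ : π₁.appLE U (Dp π₁ chart₁ U hU (QA.sec j₁ U e₁)) hUD₁ ≫ ψ₁ =
        π₁₂.appLE U (Dp π₁₂ chart₁₂ U hU (Ξ₁ (QA.sec j₁ U e₁))) (Dp_le π₁₂ chart₁₂ U hU _) := by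
      apply CommRingCat.hom_ext
      apply RingHom.ext
      intro c
      have hc0 : (𝒮₁.str.app (op U)).hom c ∈ 𝒮₁.deg U hU (0 • 1) := by
        simpa using 𝒮₁.str_mem U hU c
      have f1 := fn_str hP₁ U hU (QA.sec j₁ U e₁) c
        (Away.mk (𝒮₁.deg U hU) hh₁ 0 ((𝒮₁.str.app (op U)).hom c) hc0) (Away.val_mk _ _ _ _ _)
      change ψ₁.hom ((π₁.appLE U _ hUD₁).hom c) = _
      rw [← f1, hψ₁def, Away.map_mk]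
      exact fn_str hP₁₂ U hU _ c _ (by rw [Away.val_mk, hΞ₁1])
    have hc₂₀ : π₂.appLE U (Dp π₂ chart₂ U hU (QA.sec j₂ U e₂)) hUD₂ ≫ ψ₂₀ =
        π₁₂.appLE U (Dp π₁₂ chart₁₂ U hU (Ξ₂ (QA.sec j₂ U e₂))) (Dp_le π₁₂ chart₁₂ U hU _) := by
      apply CommRingCat.hom_ext
      apply RingHom.ext
      intro c
      have hc0 : (𝒮₂.str.app (op U)).hom c ∈ 𝒮₂.deg U hU (0 • 1) := by
        simpa using 𝒮₂.str_mem U hU c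
      have f1 := fn_str hP₂ U hU (QA.sec j₂ U e₂) c
        (Away.mk (𝒮₂.deg U hU) hh₂ 0 ((𝒮₂.str.app (op U)).hom c) hc0) (Away.val_mk _ _ _ _ _)
      change ψ₂₀.hom ((π₂.appLE U _ hUD₂).hom c) = _
      rw [← f1, hψ₂₀def, Away.map_mk]
      exact fn_str hP₁₂ U hU _ c _ (by rw [Away.val_mk, hΞ₂1])
    have hcompat : π₁.appLE U (Dp π₁ chart₁ U hU (QA.sec j₁ U e₁)) hUD₁ ≫ ψ₁ =
        π₂.appLE U (Dp π₂ chart₂ U hU (QA.sec j₂ U e₂)) hUD₂ ≫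
          (ψ₂₀ ≫ P₁₂.presheaf.map (homOfLE hT12).op) := by
      rw [hc₁, ← Category.assoc, hc₂₀, Scheme.Hom.appLE_map]
    have eWD : r₁₂ ⁻¹ᵁ Dp π₁₂ chart₁₂ U hU (Ξ₁ (QA.sec j₁ U e₁)) ≤
        i ⁻¹ᵁ (pullback.fst π₁ π₂ ⁻¹ᵁ Dp π₁ chart₁ U hU (QA.sec j₁ U e₁) ⊓
          pullback.snd π₁ π₂ ⁻¹ᵁ Dp π₂ chart₂ U hU (QA.sec j₂ U e₂)) := by
      intro w hw
      refine ⟨?_, ?_⟩
      · have h1 : r₁.base w ∈ Dp π₁ chart₁ U hU (QA.sec j₁ U e₁) := eW₁ hw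
        rw [← hi₁] at h1
        exact h1
      · have h1 : r₂.base w ∈ Dp π₂ chart₂ U hU (QA.sec j₂ U e₂) := eW₂ hw
        rw [← hi₂] at h1
        exact h1
    have hψ : hpo.desc ψ₁ (ψ₂₀ ≫ P₁₂.presheaf.map (homOfLE hT12).op) hcompat ≫
        r₁₂.appLE (Dp π₁₂ chart₁₂ U hU (Ξ₁ (QA.sec j₁ U e₁))) _ le_rfl =
        i.appLE _ _ eWD := by
      apply hpo.hom_ext
      · rw [← Category.assoc, hpo.inl_desc, hψ₁, Scheme.Hom.appLE_comp_appLE]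
        exact appLE_congr_hom _ _ hi₁.symm _ _ _ _
      · rw [← Category.assoc, hpo.inr_desc, hψ₂, Scheme.Hom.appLE_comp_appLE]
        exact appLE_congr_hom _ _ hi₂.symm _ _ _ _
    rw [← Scheme.Hom.resLE_eq_morphismRestrict]
    exact Groth.Agent.H4.ImmTr.isImmersion_resLE_of_ringHom i r₁₂ hDaff _ eWD le_rfl _ hψ

end Pair

end

end Groth.Agent.H4.SegrePair
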