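import Mathlib

/-!
# Lang's theorem for `q`-semilinear endomorphisms over a separably closed field
-/

namespace Groth.Agent.H4.SemiLang

open Polynomial

variable {k : Type*} [Field k] {V : Type*} [AddCommGroup V] [Module k V]

/-- `φ` is `q`-semilinear. -/
def IsQLin (q : ℕ) (φ : V →+ V) : Prop := ∀ (c : k) (v : V), φ (c • v) = c ^ q • φ v

/-- `φ` is nondegenerate: its image spans. -/
def Nondeg (φ : V →+ V) : Prop := Submodule.span k (Set.range φ) = ⊤

namespace IsQLin

variable {q : ℕ} {φ : V →+ V} (h : IsQLin (k := k) q φ)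
include h

lemma iterate (n : ℕ) (c : k) (v : V) : φ^[n] (c • v) = c ^ (q ^ n) • φ^[n] v := by
  induction n generalizing c v with
  | zero => simp
  | succ n ih =>
    rw [Function.iterate_succ_apply', ih, h, Function.iterate_succ_apply', ← pow_mul, pow_succ]

lemma map_sum_smul {ι : Type*} (s : Finset ι) (c : ι → k) (v : ι → V) :
    φ (∑ i ∈ s, c i • v i) = ∑ i ∈ s, c i ^ q • φ (v i) := by
  rw [map_sum]
  exact Finset.sum_congr rfl fun i _ => h _ _

lemma iterate_sum_smul {ι : Type*} (s : Finset ι) (n : ℕ) (c : ι → k) (v : ι → V) :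
    φ^[n] (∑ i ∈ s, c i • v i) = ∑ i ∈ s, c i ^ (q ^ n) • φ^[n] (v i) := by
  induction n generalizing c v with
  | zero => simp
  | succ n ih =>
    rw [Function.iterate_succ_apply', ih, h.map_sum_smul]
    apply Finset.sum_congr rfl
    intro i _
    rw [Function.iterate_succ_apply', ← pow_mul, pow_succ]

lemma map_mem_span (S : Set V) {x : V} (hx : x ∈ Submodule.span k S) :
    φ x ∈ Submodule.span k (φ '' S) := by
  induction hx using Submodule.span_induction with
  | mem x hx => exact Submodule.subset_span ⟨x, hx, rfl⟩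
  | zero => simp
  | add x y _ _ hx hy =>
    rw [map_add]
    exact add_mem hx hy
  | smul c x _ hx =>
    rw [h]
    exact Submodule.smul_mem _ _ hx

lemma span_comp_basis {ι : Type*} (b : Module.Basis ι k V) (hnd : Nondeg (k := k) φ) :
    Submodule.span k (Set.range (φ ∘ b)) = ⊤ := by
  rw [eq_top_iff, ← hnd, Submodule.span_le]
  rintro _ ⟨x, rfl⟩
  have hx : x ∈ Submodule.span k (Set.range b) := by
    rw [b.span_eq]
    trivial
  have := h.map_mem_span _ hx
  rwa [← Set.range_comp] at this

lemma linearIndependent_comp_basis [FiniteDimensional k V] {ι : Type*} [Fintype ι]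
    (b : Module.Basis ι k V) (hnd : Nondeg (k := k) φ) : LinearIndependent k (φ ∘ b) :=
  linearIndependent_of_top_le_span_of_card_eq_finrank (h.span_comp_basis b hnd).ge
    (Module.finrank_eq_card_basis b).symm

lemma injective [FiniteDimensional k V] (hq : 0 < q) (hnd : Nondeg (k := k) φ) :
    Function.Injective φ := by
  rw [injective_iff_map_eq_zero]
  intro x hx
  let b := Module.finBasis k V
  have hx' : x = ∑ i, b.repr x i • b i := (b.sum_repr x).symm
  rw [hx', h.map_sum_smul] at hx
  have h1 := Fintype.linearIndependent_iff.mp (h.linearIndependent_comp_basis b hnd) _ hx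
  have h2 : ∀ i, b.repr x i = 0 := fun i => (pow_eq_zero_iff hq.ne').mp (h1 i)
  rw [hx']
  simp [h2]

end IsQLin

section B1

/-- the polynomials giving the coordinates of a fixed vector in a cyclic subspace -/
noncomputable def Y (q : ℕ) (a : ℕ → k) : ℕ → k[X]
  | 0 => C (a 0) * X
  | (i + 1) => (Y q a i) ^ q + C (a (i + 1)) * X

lemma Y_zero (q : ℕ) (a : ℕ → k) : Y q a 0 = C (a 0) * X := by rw [Y]

lemma Y_succ (q : ℕ) (a : ℕ → k) (i : ℕ) : Y q a (i + 1) = (Y q a i) ^ q + C (a (i + 1)) * X := by
  rw [Y]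

lemma Y_eval_zero {q : ℕ} (hq : 0 < q) (a : ℕ → k) (i : ℕ) : (Y q a i).eval 0 = 0 := by
  induction i with
  | zero => simp [Y_zero]
  | succ i ih => simp [Y_succ, ih, hq.ne']

lemma natDegree_pos_of {f : k[X]} (hf : f ≠ 0) (h0 : f.eval 0 = 0) : 1 ≤ f.natDegree := by
  by_contra hcon
  have hd : f.natDegree = 0 := by omega
  have := eq_C_of_natDegree_eq_zero hd
  rw [coeff_zero_eq_eval_zero, h0, C_0] at this
  exact hf this

lemma Y_ne_zero {q : ℕ} (hq1 : 1 < q) (a : ℕ → k) (i : ℕ) (hj : ∃ j ≤ i, a j ≠ 0) :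
    Y q a i ≠ 0 := by
  induction i with
  | zero =>
    obtain ⟨j, hj, hja⟩ := hj
    have : j = 0 := by omega
    subst this
    rw [Y_zero]
    exact mul_ne_zero (C_ne_zero.mpr hja) X_ne_zero
  | succ i ih =>
    by_cases hY : Y q a i = 0
    · have ha : a (i + 1) ≠ 0 := by
        obtain ⟨j, hj, hja⟩ := hj
        by_cases hji : j ≤ i
        · exact absurd hY (ih ⟨j, hji, hja⟩)
        · have : j = i + 1 := by omega
          rwa [this] at hja
      rw [Y_succ, hY, zero_pow (by omega), zero_add]
      exact mul_ne_zero (C_ne_zero.mpr ha) X_ne_zero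
    · have h1 : 1 ≤ (Y q a i).natDegree := natDegree_pos_of hY (Y_eval_zero (by omega) a i)
      have h2 : ((Y q a i) ^ q).natDegree = q * (Y q a i).natDegree := natDegree_pow _ _
      have h3 : (C (a (i + 1)) * X : k[X]).natDegree ≤ 1 := by
        calc (C (a (i + 1)) * X : k[X]).natDegree ≤ (C (a (i + 1)) : k[X]).natDegree + (X : k[X]).natDegree :=
              natDegree_mul_le
          _ ≤ 1 := by simp
      have h4 : (C (a (i + 1)) * X : k[X]).natDegree < ((Y q a i) ^ q).natDegree := by
        rw [h2]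
        nlinarith
      rw [Y_succ]
      intro h0
      have := natDegree_add_eq_left_of_natDegree_lt h4
      rw [h0, natDegree_zero, h2] at this
      nlinarith

lemma derivative_pow_q {q : ℕ} (hq0 : (q : k) = 0) (f : k[X]) : derivative (f ^ q) = 0 := by
  rw [derivative_pow]
  have : (C (q : k) : k[X]) = 0 := by rw [hq0, C_0]
  rw [show (C (q : k) : k[X]) = 0 from this]
  simp

lemma exists_root_ne_zero [IsSepClosed k] (P : k[X]) (h0 : P.eval 0 = 0) (hd : derivative P = -1)
    (hdeg : 2 ≤ P.natDegree) : ∃ c : k, c ≠ 0 ∧ P.eval c = 0 := by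
  have hX : (X : k[X]) ∣ P := by
    rw [X_dvd_iff, coeff_zero_eq_eval_zero, h0]
  obtain ⟨P₁, rfl⟩ := hX
  have hP1 : P₁ ≠ 0 := by
    rintro rfl
    simp at hdeg
  have hsep : (X * P₁).Separable := by
    rw [separable_def, hd]
    exact isCoprime_one_right.neg_right
  have hsep1 : P₁.Separable := hsep.of_mul_right
  have hdeg1 : P₁.degree ≠ 0 := by
    have : (X * P₁).natDegree = 1 + P₁.natDegree := by
      rw [natDegree_mul X_ne_zero hP1, natDegree_X]
    have h1 : 1 ≤ P₁.natDegree := by omega
    intro h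
    have h2 : P₁.natDegree = 0 := natDegree_eq_zero_iff_degree_le_zero.mpr h.le
    omega
  obtain ⟨c, hc⟩ := IsSepClosed.exists_root P₁ hdeg1 hsep1
  refine ⟨c, ?_, by rw [eval_mul, hc.eq_zero, mul_zero]⟩
  rintro rfl
  have := congrArg (eval 0) hd
  rw [derivative_mul, eval_add, eval_mul, eval_mul, derivative_X, eval_one, one_mul, eval_X, zero_mul,
    add_zero, hc.eq_zero] at this
  simp at this

variable [IsSepClosed k] [FiniteDimensional k V] {q : ℕ} {φ : V →+ V}

theorem exists_fixed_ne_zero (hq1 : 1 < q) (hq0 : (q : k) = 0) (h : IsQLin (k := k) q φ)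
    (hnd : Nondeg (k := k) φ) [Nontrivial V] : ∃ x : V, x ≠ 0 ∧ φ x = x := by
  classical
  obtain ⟨v, hv⟩ := exists_ne (0 : V)
  set e : ℕ → V := fun i => φ^[i] v with he
  have hinj : Function.Injective φ := h.injective (by omega) hnd
  have hex : ∃ m, ¬ LinearIndependent k (fun i : Fin (m + 1) => e i) := by
    refine ⟨Module.finrank k V, fun hli => ?_⟩
    have := hli.fintype_card_le_finrank
    simp at this
  have hm := Nat.find_spec hex
  have hm0 : Nat.find hex ≠ 0 := by
    intro h0
    rw [h0] at hm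
    apply hm
    have : LinearIndependent k (fun i : Fin 1 => e i) := by
      rw [linearIndependent_unique_iff]
      simpa [he] using hv
    exact this
  obtain ⟨m', hm'⟩ := Nat.exists_eq_succ_of_ne_zero hm0
  have hli : LinearIndependent k (fun i : Fin (m' + 1) => e i) := by
    have := Nat.find_min hex (m := m') (by omega)
    exact not_not.mp this
  rw [hm'] at hm
  have hsnoc : (fun i : Fin (m' + 1 + 1) => e i) =
      Fin.snoc (fun i : Fin (m' + 1) => e (i : ℕ)) (e (m' + 1)) := by
    ext i
    refine Fin.lastCases ?_ (fun j => ?_) i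
    · simp
    · simp
  rw [hsnoc, linearIndependent_finSnoc] at hm
  have hmem : e (m' + 1) ∈ Submodule.span k (Set.range fun i : Fin (m' + 1) => e (i : ℕ)) := by
    by_contra hcon
    exact hm ⟨hli, hcon⟩
  obtain ⟨a, ha⟩ := (Submodule.mem_span_range_iff_exists_fun k).mp hmem
  set a' : ℕ → k := fun i => if hi : i < m' + 1 then a ⟨i, hi⟩ else 0 with ha'
  have hsum : ∑ i ∈ Finset.range (m' + 1), a' i • e i = e (m' + 1) := by
    rw [← Fin.sum_univ_eq_sum_range (fun i => a' i • e i) (m' + 1), ← ha]
    apply Finset.sum_congr rfl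
    intro i _
    simp only [ha', dif_pos i.2]
  have hne : e (m' + 1) ≠ 0 := by
    intro h0
    apply hv
    have : φ^[m' + 1] v = φ^[m' + 1] 0 := by
      rw [show φ^[m' + 1] v = e (m' + 1) from rfl, h0]
      exact (iterate_map_zero φ (m' + 1)).symm
    exact (hinj.iterate (m' + 1)) this
  have hj : ∃ j ≤ m', a' j ≠ 0 := by
    by_contra hcon
    push Not at hcon
    apply hne
    rw [← hsum]
    apply Finset.sum_eq_zero
    intro i hi
    rw [hcon i (by simpa [Nat.lt_succ_iff] using hi), zero_smul]
  have hY := Y_ne_zero hq1 a' m' hj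
  set P : k[X] := (Y q a' m') ^ q - X with hP
  have hP0 : P.eval 0 = 0 := by
    simp [hP, Y_eval_zero (show 0 < q by omega), (show q ≠ 0 by omega)]
  have hPd : derivative P = -1 := by
    rw [hP, derivative_sub, derivative_pow_q hq0, derivative_X, zero_sub]
  have hPdeg : 2 ≤ P.natDegree := by
    have h1 : 1 ≤ (Y q a' m').natDegree := natDegree_pos_of hY (Y_eval_zero (by omega) a' m')
    have h2 : ((Y q a' m') ^ q).natDegree = q * (Y q a' m').natDegree := natDegree_pow _ _
    have h4 : (X : k[X]).natDegree < ((Y q a' m') ^ q).natDegree := by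
      rw [h2, natDegree_X]
      nlinarith
    rw [hP, natDegree_sub_eq_left_of_natDegree_lt h4, h2]
    nlinarith
  obtain ⟨c, hc0, hc⟩ := exists_root_ne_zero P hP0 hPd hPdeg
  set x : ℕ → k := fun i => (Y q a' i).eval c with hx
  have hcq : x m' ^ q = c := by
    have := hc
    rw [hP, eval_sub, eval_pow, eval_X, sub_eq_zero] at this
    exact this
  have hx0 : x 0 = a' 0 * c := by simp [hx, Y_zero]
  have hxs : ∀ i, x (i + 1) = x i ^ q + a' (i + 1) * c := by
    intro i
    simp [hx, Y_succ]
  have hes : ∀ i, φ (e i) = e (i + 1) := by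
    intro i
    simp only [he]
    rw [Function.iterate_succ_apply']
  refine ⟨∑ i ∈ Finset.range (m' + 1), x i • e i, ?_, ?_⟩
  · intro h0
    rw [← Fin.sum_univ_eq_sum_range (fun i => x i • e i) (m' + 1)] at h0
    have := Fintype.linearIndependent_iff.mp hli (fun i => x i) h0 (Fin.last m')
    simp only [Fin.val_last] at this
    rw [this, zero_pow (by omega)] at hcq
    exact hc0 hcq.symm
  · rw [h.map_sum_smul]
    simp only [hes]
    rw [Finset.sum_range_succ, hcq, ← hsum, Finset.smul_sum]
    rw [Finset.sum_range_succ' (fun i => x i • e i), Finset.sum_range_succ' (fun i => c • a' i • e i)]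
    simp only [hxs, hx0, add_smul, Finset.sum_add_distrib, smul_smul]
    rw [mul_comm c (a' 0)]
    have : ∀ i, c * a' (i + 1) = a' (i + 1) * c := fun i => mul_comm _ _
    simp only [this]
    abel

end B1

section Quot

variable {q : ℕ} {φ : V →+ V}

/-- the map induced on the quotient by a stable subspace -/
def quotMap (W : Submodule k V) (φ : V →+ V) (hW : ∀ w ∈ W, φ w ∈ W) : (V ⧸ W) →+ (V ⧸ W) :=
  QuotientAddGroup.lift W.toAddSubgroup ((W.mkQ : V →ₗ[k] V ⧸ W).toAddMonoidHom.comp φ) (by
    intro w hw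
    simp only [AddMonoidHom.mem_ker, AddMonoidHom.comp_apply, LinearMap.toAddMonoidHom_coe,
      Submodule.mkQ_apply]
    exact (Submodule.Quotient.mk_eq_zero W).mpr (hW w hw))

lemma quotMap_mk (W : Submodule k V) (hW : ∀ w ∈ W, φ w ∈ W) (v : V) :
    quotMap W φ hW (Submodule.Quotient.mk v) = Submodule.Quotient.mk (φ v) := rfl

lemma quotMap_isQLin (W : Submodule k V) (hW : ∀ w ∈ W, φ w ∈ W) (h : IsQLin (k := k) q φ) :
    IsQLin (k := k) q (quotMap W φ hW) := by
  intro c x
  obtain ⟨v, rfl⟩ := Submodule.Quotient.mk_surjective W x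
  rw [← Submodule.Quotient.mk_smul, quotMap_mk, quotMap_mk, h, Submodule.Quotient.mk_smul]

lemma quotMap_nondeg (W : Submodule k V) (hW : ∀ w ∈ W, φ w ∈ W) (hnd : Nondeg (k := k) φ) :
    Nondeg (k := k) (quotMap W φ hW) := by
  rw [Nondeg, eq_top_iff]
  rintro x -
  obtain ⟨v, rfl⟩ := Submodule.Quotient.mk_surjective W x
  have hv : v ∈ Submodule.span k (Set.range φ) := by
    rw [hnd]
    trivial
  have := Submodule.mem_map_of_mem (f := W.mkQ) hv
  rw [Submodule.map_span] at this
  refine Submodule.span_mono ?_ this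
  rintro _ ⟨_, ⟨u, rfl⟩, rfl⟩
  exact ⟨Submodule.Quotient.mk u, rfl⟩

/-- **Lang's theorem**: a nondegenerate `q`-semilinear endomorphism of a finite-dimensional vector
space over a separably closed field has a spanning set of fixed vectors. -/
theorem span_fixed_eq_top [IsSepClosed k] [FiniteDimensional k V] (hq1 : 1 < q) (hq0 : (q : k) = 0)
    (h : IsQLin (k := k) q φ) (hnd : Nondeg (k := k) φ) :
    Submodule.span k {x : V | φ x = x} = ⊤ := by
  set W := Submodule.span k {x : V | φ x = x} with hWdef
  have hW : ∀ w ∈ W, φ w ∈ W := by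
    intro w hw
    have := h.map_mem_span _ hw
    refine Submodule.span_mono ?_ this
    rintro _ ⟨x, hx, rfl⟩
    show φ (φ x) = φ x
    rw [hx]
    exact hx
  by_contra hne
  have : Nontrivial (V ⧸ W) := Submodule.Quotient.nontrivial_iff.mpr hne
  obtain ⟨xbar, hx0, hxfix⟩ := exists_fixed_ne_zero hq1 hq0 (quotMap_isQLin W hW h)
    (quotMap_nondeg W hW hnd)
  obtain ⟨v, rfl⟩ := Submodule.Quotient.mk_surjective W xbar
  have hd : φ v - v ∈ W := by
    rw [← Submodule.Quotient.eq]
    exact hxfix
  have lift : ∀ y ∈ W, ∃ u ∈ W, φ u - u = y := by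
    intro y hy
    induction hy using Submodule.closure_induction with
    | zero => exact ⟨0, zero_mem _, by simp⟩
    | add x y _ _ hx hy =>
      obtain ⟨u1, hu1, h1⟩ := hx
      obtain ⟨u2, hu2, h2⟩ := hy
      refine ⟨u1 + u2, add_mem hu1 hu2, ?_⟩
      rw [map_add, ← h1, ← h2]
      abel
    | smul_mem c w hw =>
      obtain ⟨l, hl⟩ := IsSepClosed.exists_root_C_mul_X_pow_add_C_mul_X_add_C (1 : k) (-1) (-c) hq0
        (by omega) (by simp)
      refine ⟨l • w, W.smul_mem _ (Submodule.subset_span hw), ?_⟩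
      have hw' : φ w = w := hw
      rw [h, hw', ← sub_smul]
      congr 1
      linear_combination hl
  obtain ⟨u, hu, hue⟩ := lift _ (W.neg_mem hd)
  have hfix : φ (v + u) = v + u := by
    rw [map_add]
    have : φ u = u - (φ v - v) := by
      rw [sub_eq_add_neg u, ← hue]
      abel
    rw [this]
    abel
  have hvu : v + u ∈ W := Submodule.subset_span hfix
  have hv : v ∈ W := by
    have := W.sub_mem hvu hu
    simpa using this
  exact hx0 ((Submodule.Quotient.mk_eq_zero W).mpr hv)

/-- A basis of fixed vectors. -/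
theorem exists_basis_fixed [IsSepClosed k] [FiniteDimensional k V] (hq1 : 1 < q) (hq0 : (q : k) = 0)
    (h : IsQLin (k := k) q φ) (hnd : Nondeg (k := k) φ) :
    ∃ b : Module.Basis (Fin (Module.finrank k V)) k V, ∀ i, φ (b i) = b i := by
  classical
  have hs : ⊤ ≤ Submodule.span k {x : V | φ x = x} := (span_fixed_eq_top hq1 hq0 h hnd).ge
  let b0 := Module.Basis.ofSpan hs
  have hb0 : ∀ i, φ (b0 i) = b0 i := fun i => Module.Basis.ofSpan_subset hs ⟨i, rfl⟩
  haveI : Fintype ((linearIndepOn_empty k id).extend (Set.empty_subset {x : V | φ x = x})) :=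
    FiniteDimensional.fintypeBasisIndex b0
  have hcard : Fintype.card ((linearIndepOn_empty k id).extend
      (Set.empty_subset {x : V | φ x = x})) = Module.finrank k V :=
    (Module.finrank_eq_card_basis b0).symm
  let e := Fintype.equivFinOfCardEq hcard
  refine ⟨b0.reindex e, fun i => ?_⟩
  rw [Module.Basis.reindex_apply]
  exact hb0 _

/-- Fixed vectors of iterates in terms of a basis of fixed vectors. -/
theorem iterate_eq_sum {ι : Type*} [Fintype ι] (h : IsQLin (k := k) q φ) (b : ι → V)
    (hb : ∀ i, φ (b i) = b i) (n : ℕ) (c : ι → k) :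
    φ^[n] (∑ i, c i • b i) = ∑ i, c i ^ (q ^ n) • b i := by
  induction n generalizing c with
  | zero => simp
  | succ n ih =>
    rw [Function.iterate_succ_apply', ih, h.map_sum_smul]
    apply Finset.sum_congr rfl
    intro i _
    rw [hb, ← pow_mul, pow_succ]

/-- High iterates land in the span of the fixed vectors. -/
theorem iterate_mem_span_fixed [IsSepClosed k] [FiniteDimensional k V] (hq1 : 1 < q)
    (hq0 : (q : k) = 0) (h : IsQLin (k := k) q φ) :
    ∃ N : ℕ, ∀ v : V, φ^[N + 1] v ∈ Submodule.span k {x : V | φ x = x} := by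
  classical
  set W : ℕ → Submodule k V := fun n => Submodule.span k (Set.range (φ^[n + 1])) with hW
  have hWanti : ∀ n, W (n + 1) ≤ W n := by
    intro n
    rw [hW]
    apply Submodule.span_mono
    rintro _ ⟨u, rfl⟩
    exact ⟨φ u, (Function.iterate_succ_apply φ (n + 1) u).symm⟩
  have hWanti' : Antitone W := antitone_nat_of_succ_le hWanti
  have hφW : ∀ n, ∀ w ∈ W n, φ w ∈ W (n + 1) := by
    intro n w hw
    have := h.map_mem_span _ hw
    refine Submodule.span_mono ?_ this
    rintro _ ⟨_, ⟨u, rfl⟩, rfl⟩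
    exact ⟨u, Function.iterate_succ_apply' φ (n + 1) u⟩
  obtain ⟨N, hN⟩ := IsArtinian.monotone_stabilizes
    (⟨fun n => OrderDual.toDual (W n), fun a b hab => hWanti' hab⟩ : ℕ →o (Submodule k V)ᵒᵈ)
  have hN' : ∀ m, N ≤ m → W N = W m := fun m hm => congrArg OrderDual.ofDual (hN m hm)
  set Vss : Submodule k V := W N with hVss
  have hstable : ∀ w ∈ Vss, φ w ∈ Vss := by
    intro w hw
    rw [hN' (N + 1) (by omega)]
    exact hφW N w hw
  let φ' : Vss →+ Vss :=
    { toFun := fun w => ⟨φ w, hstable w w.2⟩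
      map_zero' := by
        apply Subtype.ext
        simp
      map_add' := by
        intro x y
        apply Subtype.ext
        simp }
  have hφ'val : ∀ w : Vss, ((φ' w : Vss) : V) = φ (w : V) := fun w => rfl
  have h' : IsQLin (k := k) q φ' := by
    intro c w
    apply Subtype.ext
    rw [hφ'val, Submodule.coe_smul, Submodule.coe_smul, hφ'val, h]
  have hnd' : Nondeg (k := k) φ' := by
    rw [Nondeg]
    apply Submodule.map_injective_of_injective Vss.injective_subtype
    rw [Submodule.map_subtype_top, Submodule.map_span]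
    apply le_antisymm
    · rw [Submodule.span_le]
      rintro _ ⟨_, ⟨w, rfl⟩, rfl⟩
      exact (φ' w).2
    · conv_lhs => rw [hN' (N + 1) (by omega)]
      apply Submodule.span_mono
      rintro _ ⟨u, rfl⟩
      have hu : φ^[N + 1] u ∈ Vss := Submodule.subset_span ⟨u, rfl⟩
      refine ⟨φ' ⟨φ^[N + 1] u, hu⟩, ⟨_, rfl⟩, ?_⟩
      show φ (φ^[N + 1] u) = _
      exact (Function.iterate_succ_apply' φ (N + 1) u).symm
  have hspan := span_fixed_eq_top hq1 hq0 h' hnd'
  refine ⟨N, fun v => ?_⟩
  have hv : φ^[N + 1] v ∈ Vss := Submodule.subset_span ⟨v, rfl⟩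
  have h1 : (⟨φ^[N + 1] v, hv⟩ : Vss) ∈ Submodule.span k {x : Vss | φ' x = x} := by
    rw [hspan]
    trivial
  have h2 := Submodule.mem_map_of_mem (f := Vss.subtype) h1
  rw [Submodule.map_span] at h2
  refine Submodule.span_mono ?_ h2
  rintro _ ⟨x, hx, rfl⟩
  exact congrArg Subtype.val hx

/-- Fixed vectors which are independent over the fixed field of `c ↦ c ^ q` are independent. -/
theorem linearIndependent_fixed (h : IsQLin (k := k) q φ) (hq : 0 < q) (s : Finset V)
    (hs : ∀ v ∈ s, φ v = v)
    (hind : ∀ g : s → k, (∀ v, g v ^ q = g v) → ∑ v : s, g v • (v : V) = 0 → ∀ v, g v = 0) :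
    LinearIndependent k (fun v : s => (v : V)) := by
  classical
  rw [Fintype.linearIndependent_iff]
  suffices H : ∀ n : ℕ, ∀ g : s → k, (Finset.univ.filter fun v => g v ≠ 0).card = n →
      ∑ v : s, g v • (v : V) = 0 → ∀ v, g v = 0 by
    intro g hg
    exact H _ g rfl hg
  intro n
  induction n using Nat.strong_induction_on with
  | _ n ih =>
    intro g hcard hg
    by_contra hne
    push Not at hne
    obtain ⟨v0, hv0⟩ := hne
    set g' : s → k := fun v => (g v0)⁻¹ * g v with hg'def
    have hg'0 : g' v0 = 1 := inv_mul_cancel₀ hv0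
    have hg' : ∑ v : s, g' v • (v : V) = 0 := by
      simp only [hg'def, mul_smul, ← Finset.smul_sum, hg, smul_zero]
    set g'' : s → k := fun v => g' v ^ q - g' v with hg''def
    have hg'' : ∑ v : s, g'' v • (v : V) = 0 := by
      have h1 := congrArg φ hg'
      rw [h.map_sum_smul, map_zero] at h1
      simp only [hg''def, sub_smul, Finset.sum_sub_distrib, hg', sub_zero]
      rw [← h1]
      apply Finset.sum_congr rfl
      intro v _
      rw [hs v v.2]
    have hsub : (Finset.univ.filter fun v => g'' v ≠ 0) ⊆ (Finset.univ.filter fun v => g v ≠ 0) := by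
      intro v hv
      simp only [Finset.mem_filter, Finset.mem_univ, true_and] at hv ⊢
      intro hgv
      apply hv
      simp [hg''def, hg'def, hgv, hq.ne']
    have hssub : (Finset.univ.filter fun v => g'' v ≠ 0) ⊂ (Finset.univ.filter fun v => g v ≠ 0) := by
      refine Finset.ssubset_iff_subset_ne.mpr ⟨hsub, fun heq => ?_⟩
      have hv0mem : v0 ∈ (Finset.univ.filter fun v => g v ≠ 0) := by simp [hv0]
      rw [← heq] at hv0mem
      simp only [Finset.mem_filter, Finset.mem_univ, true_and] at hv0mem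
      apply hv0mem
      simp [hg''def, hg'0]
    have hlt := Finset.card_lt_card hssub
    rw [hcard] at hlt
    have h0 := ih _ hlt g'' rfl hg''
    have h1 := hind g' (fun v => sub_eq_zero.mp (h0 v)) hg' v0
    rw [hg'0] at h1
    exact one_ne_zero h1

end Quot

end Groth.Agent.H4.SemiLang
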