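import Mathlib.RingTheory.Localization.Ideal
import Mathlib.RingTheory.Localization.AtPrime.Basic
import Mathlib.RingTheory.Spectrum.Maximal.Defs
import Mathlib.RingTheory.Spectrum.Prime.Basic
import Mathlib.RingTheory.Ideal.Operations

/-!
# Localization at the complement of a finite union of primes (helper4)
-/

namespace Groth.Agent.H4.SemiLocal

variable {A : Type*} [CommRing A] {ι : Type*} [Fintype ι] (p : ι → PrimeSpectrum A)

/-- the complement of the union of the primes -/
abbrev S : Submonoid A := ⨅ i, (p i).asIdeal.primeCompl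

theorem disjoint_iff (q : Ideal A) :
    Disjoint (S p : Set A) (q : Set A) ↔ ∃ i, q ≤ (p i).asIdeal := by
  classical
  rw [Set.disjoint_right]
  have h1 : (∀ ⦃a : A⦄, a ∈ (q : Set A) → a ∉ (S p : Set A)) ↔
      (q : Set A) ⊆ ⋃ i ∈ ((Finset.univ : Finset ι) : Set ι), ((p i).asIdeal : Set A) := by
    constructor
    · intro h a ha
      have := h ha
      simp only [SetLike.mem_coe, Submonoid.mem_iInf, Ideal.mem_primeCompl_iff, not_forall,
        not_not] at this
      obtain ⟨i, hi⟩ := this
      exact Set.mem_biUnion (Finset.mem_coe.2 (Finset.mem_univ i)) hi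
    · intro h a ha
      obtain ⟨i, -, hi⟩ := Set.mem_iUnion₂.1 (h ha)
      simp only [SetLike.mem_coe, Submonoid.mem_iInf, Ideal.mem_primeCompl_iff, not_forall,
        not_not]
      exact ⟨i, hi⟩
  rw [h1]
  rcases isEmpty_or_nonempty ι with hι | hι
  · constructor
    · intro h
      obtain ⟨i, -, -⟩ := Set.mem_iUnion₂.1 (h q.zero_mem)
      exact (hι.false i).elim
    · rintro ⟨i, -⟩
      exact (hι.false i).elim
  · rw [Ideal.subset_union_prime (Classical.arbitrary ι) (Classical.arbitrary ι)
      (fun i _ _ _ => (p i).isPrime)]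
    simp

variable (R : Type*) [CommRing R] [Algebra A R] [IsLocalization (S p) R]

theorem comap_map_p (i : ι) :
    ((p i).asIdeal.map (algebraMap A R)).comap (algebraMap A R) = (p i).asIdeal :=
  IsLocalization.under_map_of_isPrime_disjoint (S p) R (p i).isPrime
    ((disjoint_iff p _).2 ⟨i, le_rfl⟩)

theorem isPrime_map_p (i : ι) : ((p i).asIdeal.map (algebraMap A R)).IsPrime :=
  IsLocalization.isPrime_of_isPrime_disjoint (S p) R _ (p i).isPrime
    ((disjoint_iff p _).2 ⟨i, le_rfl⟩)

theorem exists_comap_le (m : Ideal R) (hm : m.IsPrime) :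
    ∃ i, m.comap (algebraMap A R) ≤ (p i).asIdeal :=
  (disjoint_iff p _).1 ((IsLocalization.isPrime_iff_isPrime_disjoint (S p) R m).1 hm).2

theorem eq_map_of_isMaximal (m : Ideal R) (hm : m.IsMaximal) (i : ι)
    (hi : m.comap (algebraMap A R) ≤ (p i).asIdeal) : m = (p i).asIdeal.map (algebraMap A R) := by
  have h1 : m ≤ (p i).asIdeal.map (algebraMap A R) := by
    rw [← IsLocalization.map_under (S p) R m]
    exact Ideal.map_mono hi
  exact hm.eq_of_le (isPrime_map_p p R i).ne_top h1

theorem comap_eq_of_isMaximal (m : Ideal R) (hm : m.IsMaximal) (i : ι)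
    (hi : m.comap (algebraMap A R) ≤ (p i).asIdeal) : m.comap (algebraMap A R) = (p i).asIdeal := by
  rw [eq_map_of_isMaximal p R m hm i hi, comap_map_p]

theorem bijOn :
    Set.BijOn (fun m : Ideal R => m.comap (algebraMap A R)) {m | m.IsMaximal}
      {q | q ∈ Set.range (fun i => (p i).asIdeal) ∧ ∀ j, q ≤ (p j).asIdeal → q = (p j).asIdeal} := by
  refine ⟨?_, ?_, ?_⟩
  · intro m hm
    obtain ⟨i, hi⟩ := exists_comap_le p R m (Ideal.IsMaximal.isPrime hm)
    refine ⟨⟨i, (comap_eq_of_isMaximal p R m hm i hi).symm⟩, ?_⟩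
    intro j hj
    exact comap_eq_of_isMaximal p R m hm j hj
  · intro m _ m' _ h
    have h' : m.comap (algebraMap A R) = m'.comap (algebraMap A R) := h
    exact (IsLocalization.map_under (S p) R m).symm.trans
      ((congrArg (Ideal.map (algebraMap A R)) h').trans (IsLocalization.map_under (S p) R m'))
  · rintro q ⟨⟨i, rfl⟩, hmax⟩
    obtain ⟨m, hm, hle⟩ := Ideal.exists_le_maximal _ (isPrime_map_p p R i).ne_top
    obtain ⟨j, hj⟩ := exists_comap_le p R m hm.isPrime
    have h1 : (p i).asIdeal ≤ m.comap (algebraMap A R) := by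
      rw [← comap_map_p p R i]
      exact Ideal.comap_mono hle
    have h2 : (p i).asIdeal = (p j).asIdeal := hmax j (h1.trans hj)
    refine ⟨m, hm, ?_⟩
    show m.comap (algebraMap A R) = (p i).asIdeal
    rw [h2]
    exact comap_eq_of_isMaximal p R m hm j hj

include p in
theorem finite_maximalSpectrum : Finite (MaximalSpectrum R) := by
  classical
  have hinj : Function.Injective (fun m : MaximalSpectrum R =>
      (⟨m.asIdeal.comap (algebraMap A R), ((bijOn p R).mapsTo m.isMaximal).1⟩ :
        Set.range (fun i => (p i).asIdeal))) := by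
    intro m m' h
    have h' := congrArg Subtype.val h
    exact MaximalSpectrum.ext ((bijOn p R).injOn m.isMaximal m'.isMaximal h')
  exact Finite.of_injective _ hinj

end Groth.Agent.H4.SemiLocal
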