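import Mathlib

open Polynomial TensorProduct IntermediateField

namespace Groth.Agent.H4.SepH1
universe u

theorem exists_pair {A k' k : Type u} [CommRing A] [Field k'] [Field k] [Algebra A k']
    [Algebra k' k] [Algebra A k] [IsScalarTower A k' k]
    (hπ : Function.Surjective (algebraMap A k'))
    (hfin : Module.Finite k' k) (hsep : Algebra.IsSeparable k' k) :
    ∃ (Pr : StandardEtalePair A) (θ : k) (h : Pr.HasMap θ),
      Function.Surjective (Pr.lift θ h) ∧
      ∀ q : Pr.Ring, Pr.lift θ h q = 0 →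
        q ∈ Ideal.map (algebraMap A Pr.Ring) (RingHom.ker (algebraMap A k')) := by
  haveI := hfin
  haveI := hsep
  obtain ⟨θ, hθ⟩ := Field.exists_primitive_element k' k
  have hint : IsIntegral k' θ := Algebra.IsIntegral.isIntegral θ
  obtain ⟨fbar, hfbar⟩ : ∃ fbar : k'[X], fbar = minpoly k' θ := ⟨_, rfl⟩
  have hfmonic : fbar.Monic := hfbar ▸ minpoly.monic hint
  have hfsep : fbar.Separable := hfbar ▸ Algebra.IsSeparable.isSeparable k' θ
  have hfθ : aeval θ fbar = 0 := hfbar ▸ minpoly.aeval k' θ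
  have hmapsurj : Function.Surjective (Polynomial.map (algebraMap A k')) :=
    Polynomial.map_surjective _ hπ
  obtain ⟨F, hFmap, -, hFmonic⟩ := Polynomial.lifts_and_natDegree_eq_and_monic
    ((Polynomial.mem_lifts _).mpr (hmapsurj fbar)) hfmonic
  obtain ⟨Pr, hPr⟩ : ∃ Pr : StandardEtalePair A, Pr = ⟨F, hFmonic, derivative F, ⟨1, 0, 1, by simp⟩⟩ :=
    ⟨_, rfl⟩
  have hPrf : Pr.f = F := by rw [hPr]
  have hPrg : Pr.g = derivative F := by rw [hPr]
  have haev : ∀ p : A[X], aeval θ p = aeval θ (p.map (algebraMap A k')) := fun p =>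
    (Polynomial.aeval_map_algebraMap k' θ p).symm
  have hmap : Pr.HasMap θ := by
    refine ⟨?_, ?_⟩
    · rw [hPrf, haev, hFmap, hfθ]
    · rw [hPrg, haev, ← Polynomial.derivative_map, hFmap]
      exact isUnit_iff_ne_zero.mpr (hfsep.aeval_derivative_ne_zero hfθ)
  refine ⟨Pr, θ, hmap, ?_, ?_⟩
  · intro z
    have hz : z ∈ (k'⟮θ⟯ : IntermediateField k' k).toSubalgebra := by
      rw [hθ]; trivial
    rw [IntermediateField.adjoin_simple_toSubalgebra_of_isAlgebraic hint.isAlgebraic,
      Algebra.adjoin_singleton_eq_range_aeval] at hz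
    obtain ⟨q, hq⟩ := hz
    obtain ⟨q', rfl⟩ := hmapsurj q
    refine ⟨aeval Pr.X q', ?_⟩
    rw [← Polynomial.aeval_algHom_apply, StandardEtalePair.lift_X, haev]
    exact hq
  · intro q hq
    let Pres : StandardEtalePresentation A Pr.Ring :=
      ⟨Pr, Pr.X, Pr.hasMap_X, by simpa [StandardEtalePair.lift_X_left] using Function.bijective_id⟩
    obtain ⟨p, n, hpn⟩ := Pres.exists_mul_aeval_x_g_pow_eq_aeval_x q
    have hpn' : q * aeval Pr.X Pr.g ^ n = aeval Pr.X p := hpn
    have hu : IsUnit (aeval Pr.X Pr.g) := Pr.hasMap_X.2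
    have h1 : aeval θ p = 0 := by
      have := congrArg (Pr.lift θ hmap) hpn'
      rw [map_mul, hq, zero_mul, ← Polynomial.aeval_algHom_apply, StandardEtalePair.lift_X] at this
      exact this.symm
    rw [haev] at h1
    have hdvd : fbar ∣ p.map (algebraMap A k') := hfbar ▸ minpoly.dvd k' θ h1
    obtain ⟨rbar, hr⟩ := hdvd
    obtain ⟨r, rfl⟩ := hmapsurj rbar
    obtain ⟨d, hd⟩ : ∃ d : A[X], d = p - F * r := ⟨_, rfl⟩
    have hdmap : d.map (algebraMap A k') = 0 := by
      rw [hd, Polynomial.map_sub, Polynomial.map_mul, hFmap, hr, sub_self]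
    have hdcoeff : ∀ i, d.coeff i ∈ RingHom.ker (algebraMap A k') := by
      intro i
      rw [RingHom.mem_ker, ← Polynomial.coeff_map, hdmap, Polynomial.coeff_zero]
    have hdmem : aeval Pr.X d ∈ Ideal.map (algebraMap A Pr.Ring) (RingHom.ker (algebraMap A k')) := by
      rw [Polynomial.aeval_def, Polynomial.eval₂_eq_sum, Polynomial.sum_def]
      refine Ideal.sum_mem _ fun i _ => ?_
      exact Ideal.mul_mem_right _ _ (Ideal.mem_map_of_mem _ (hdcoeff i))
    have hF0 : aeval Pr.X F = 0 := hPrf ▸ Pr.hasMap_X.1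
    have hp : aeval Pr.X p = aeval Pr.X d := by
      have : p = d + F * r := by rw [hd]; ring
      rw [this, map_add, map_mul, hF0, zero_mul, add_zero]
    obtain ⟨w, hw⟩ := (hu.pow n).exists_right_inv
    have hq2 : q = (q * aeval Pr.X Pr.g ^ n) * w := by
      rw [mul_assoc, hw, mul_one]
    rw [hq2, hpn', hp]
    exact Ideal.mul_mem_right _ _ hdmem


section General
variable {Λ k' k : Type u} [CommRing Λ] [CommRing k'] [CommRing k] [Algebra Λ k'] [Algebra k' k]
  [Algebra Λ k] [IsScalarTower Λ k' k]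

attribute [local instance] SMulCommClass.of_commMonoid

lemma mapKer_bijective {P : Algebra.Extension.{u} Λ k'} {Q : Algebra.Extension.{u} Λ k}
    (f : P.Hom Q)
    [alg : Algebra P.Ring Q.Ring] (halg : algebraMap P.Ring Q.Ring = f.toRingHom)
    [Module.Flat P.Ring Q.Ring]
    (hker : ∀ q ∈ Q.ker, q ∈ Ideal.map (algebraMap P.Ring Q.Ring) P.ker) :
    Function.Bijective ((f.mapKer halg).liftBaseChange Q.Ring) := by
  constructor
  · have hinj := Module.Flat.lTensor_preserves_injective_linearMap (M := Q.Ring)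
      (P.ker.subtype) Subtype.val_injective
    have hcomp : ∀ z, (((f.mapKer halg).liftBaseChange Q.Ring z : Q.ker) : Q.Ring) =
        (TensorProduct.rid P.Ring Q.Ring) (LinearMap.lTensor Q.Ring P.ker.subtype z) := by
      intro z
      induction z with
      | zero => rw [map_zero, map_zero, map_zero]; rfl
      | add x y hx hy => rw [map_add, map_add, map_add, Submodule.coe_add, hx, hy]
      | tmul e i =>
        rw [LinearMap.liftBaseChange_tmul, LinearMap.lTensor_tmul, TensorProduct.rid_tmul,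
          Submodule.coe_smul, smul_eq_mul, Submodule.subtype_apply, Algebra.smul_def, halg,
          mul_comm]
        rfl
    intro z₁ z₂ h
    apply hinj
    apply (TensorProduct.rid P.Ring Q.Ring).injective
    rw [← hcomp, ← hcomp, h]
  · rintro ⟨q, hq⟩
    have key : ∀ q' ∈ Ideal.map (algebraMap P.Ring Q.Ring) P.ker,
        ∃ z, (((f.mapKer halg).liftBaseChange Q.Ring z : Q.ker) : Q.Ring) = q' := by
      intro q' hq'
      refine Submodule.span_induction (p := fun q' _ => ∃ z,
        (((f.mapKer halg).liftBaseChange Q.Ring z : Q.ker) : Q.Ring) = q') ?_ ?_ ?_ ?_ hq'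
      · rintro _ ⟨i, hi, rfl⟩
        refine ⟨(1 : Q.Ring) ⊗ₜ[P.Ring] (⟨i, hi⟩ : P.ker), ?_⟩
        rw [LinearMap.liftBaseChange_tmul, one_smul, halg]
        rfl
      · exact ⟨0, by rw [map_zero]; rfl⟩
      · rintro x y _ _ ⟨zx, hx⟩ ⟨zy, hy⟩
        exact ⟨zx + zy, by rw [map_add, Submodule.coe_add, hx, hy]⟩
      · rintro a x _ ⟨zx, hx⟩
        refine ⟨a • zx, ?_⟩
        rw [map_smul, Submodule.coe_smul, hx]
    obtain ⟨z, hz⟩ := key q (hker q hq)
    exact ⟨z, Subtype.ext hz⟩

lemma assemble (Q : Algebra.Extension.{u} Λ k) [Algebra.FormallySmooth Λ Q.Ring]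
    (f : (Algebra.Generators.self Λ k').toExtension.Hom Q)
    (hbij : Function.Bijective ((Algebra.Extension.H1Cotangent.map f).liftBaseChange k)) :
    Function.Bijective ((Algebra.H1Cotangent.map Λ Λ k' k).liftBaseChange k) := by
  let Q₀ : Algebra.Extension.{u} Λ k := (Algebra.Generators.self Λ k).toExtension
  let g : Q₀.Hom Q := Algebra.Extension.defaultHom (P := Q)
  haveI : Algebra.FormallySmooth Λ Q₀.Ring :=
    inferInstanceAs (Algebra.FormallySmooth Λ (MvPolynomial k Λ))
  let e₂ : Q₀.H1Cotangent ≃ₗ[k] Q.H1Cotangent :=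
    Algebra.Extension.H1Cotangent.equivOfFormallySmooth Q₀ Q
  have he₂ : ∀ y, e₂ y = Algebra.Extension.H1Cotangent.map g y :=
    fun y => Algebra.Extension.H1Cotangent.equivOfFormallySmooth_apply g y
  let d : (Algebra.Generators.self Λ k').toExtension.Hom Q₀ :=
    (Algebra.Generators.defaultHom (Algebra.Generators.self Λ k')
      (Algebra.Generators.self Λ k)).toExtensionHom
  have hmapd : Algebra.H1Cotangent.map Λ Λ k' k = Algebra.Extension.H1Cotangent.map d := rfl
  have hfd : ∀ y, Algebra.Extension.H1Cotangent.map f y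
      = Algebra.Extension.H1Cotangent.map g (Algebra.Extension.H1Cotangent.map d y) := by
    intro y
    rw [← Algebra.Extension.H1Cotangent.map_comp_apply,
      Algebra.Extension.H1Cotangent.map_eq f (g.comp d)]
  have hcomm : ∀ x, e₂ ((Algebra.H1Cotangent.map Λ Λ k' k).liftBaseChange k x)
      = (Algebra.Extension.H1Cotangent.map f).liftBaseChange k x := by
    intro x
    induction x with
    | zero => rw [map_zero, map_zero, map_zero]
    | add x y hx hy => rw [map_add, map_add, map_add, hx, hy]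
    | tmul t y =>
      rw [LinearMap.liftBaseChange_tmul, LinearMap.liftBaseChange_tmul, map_smul, he₂, hfd,
        hmapd]
  have : ⇑((Algebra.H1Cotangent.map Λ Λ k' k).liftBaseChange k)
      = ⇑e₂.symm ∘ ⇑((Algebra.Extension.H1Cotangent.map f).liftBaseChange k) := by
    funext x
    rw [Function.comp_apply, ← hcomm x, LinearEquiv.symm_apply_apply]
  rw [this]
  exact e₂.symm.bijective.comp hbij

end General

section Gen
variable {Λ k' k : Type u} [CommRing Λ] [Field k'] [Field k] [Algebra Λ k'] [Algebra k' k]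
  [Algebra Λ k] [IsScalarTower Λ k' k]

attribute [local instance] SMulCommClass.of_commMonoid

set_option maxHeartbeats 1600000 in
theorem gen (hfin : Module.Finite k' k) (hsep : Algebra.IsSeparable k' k) :
    Function.Bijective ((Algebra.H1Cotangent.map Λ Λ k' k).liftBaseChange k) := by
  let P : Algebra.Extension.{u} Λ k' := (Algebra.Generators.self Λ k').toExtension
  letI : Algebra P.Ring k := ((algebraMap k' k).comp (algebraMap P.Ring k')).toAlgebra
  haveI : IsScalarTower P.Ring k' k := .of_algebraMap_eq' rfl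
  obtain ⟨Pr, θ, hθ, hsurj, hker⟩ := exists_pair (A := P.Ring) (k' := k') (k := k)
    P.algebraMap_surjective hfin hsep
  letI : Algebra Λ Pr.Ring := ((algebraMap P.Ring Pr.Ring).comp (algebraMap Λ P.Ring)).toAlgebra
  haveI : IsScalarTower Λ P.Ring Pr.Ring := .of_algebraMap_eq' rfl
  letI : Algebra Pr.Ring k := (Pr.lift θ hθ).toRingHom.toAlgebra
  haveI : IsScalarTower P.Ring Pr.Ring k :=
    .of_algebraMap_eq' (RingHom.ext fun x => ((Pr.lift θ hθ).commutes x).symm)
  haveI : IsScalarTower Λ P.Ring k := .of_algebraMap_eq' (by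
    rw [IsScalarTower.algebraMap_eq Λ k' k, IsScalarTower.algebraMap_eq Λ P.Ring k',
      ← RingHom.comp_assoc]; rfl)
  haveI : IsScalarTower Λ Pr.Ring k := .of_algebraMap_eq' (by
    rw [IsScalarTower.algebraMap_eq Λ P.Ring k, IsScalarTower.algebraMap_eq P.Ring Pr.Ring k,
      RingHom.comp_assoc]; rfl)
  let Q : Algebra.Extension.{u} Λ k :=
    { Ring := Pr.Ring
      σ := fun x => (hsurj x).choose
      algebraMap_σ := fun x => (hsurj x).choose_spec }
  letI : Algebra P.Ring Q.Ring := (inferInstance : Algebra P.Ring Pr.Ring)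
  let f : P.Hom Q :=
  { toRingHom := algebraMap P.Ring Pr.Ring
    toRingHom_algebraMap := fun x => rfl
    algebraMap_toRingHom := fun x => (Pr.lift θ hθ).commutes x }
  haveI : Algebra.FormallySmooth Λ P.Ring :=
    inferInstanceAs (Algebra.FormallySmooth Λ (MvPolynomial k' Λ))
  haveI : Algebra.FormallySmooth P.Ring Pr.Ring := inferInstance
  haveI : Algebra.FormallySmooth Λ Q.Ring := Algebra.FormallySmooth.comp Λ P.Ring Pr.Ring
  haveI : Module.Flat k' k := inferInstance
  haveI : Module.Flat P.Ring Q.Ring := (inferInstance : Module.Flat P.Ring Pr.Ring)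
  have H₁ : f.toRingHom.FormallyEtale :=
    RingHom.formallyEtale_algebraMap.mpr (inferInstance : Algebra.FormallyEtale P.Ring Pr.Ring)
  have H₂ : Function.Bijective ((f.mapKer rfl).liftBaseChange Q.Ring) :=
    mapKer_bijective f rfl (fun q hq => hker q (RingHom.mem_ker.mp hq))
  exact assemble Q f (Algebra.Extension.tensorH1CotangentOfFormallyEtale f rfl H₁ H₂).bijective

end Gen

end Groth.Agent.H4.SepH1
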