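import Mathlib

open CategoryTheory

universe w v u

namespace Groth.Agent.H4.SerreA

section Flip

variable {k : Type w} [Field k]

/-- from `c : A ≃ Dual B` get `B ≃ Dual A` (for `B` finite dimensional) -/
noncomputable def flip {A : Type*} {B : Type*} [AddCommGroup A] [Module k A] [AddCommGroup B]
    [Module k B] [Module.Finite k B] (c : A ≃ₗ[k] Module.Dual k B) : B ≃ₗ[k] Module.Dual k A :=
  (Module.evalEquiv k B).trans c.dualMap

theorem flip_apply {A : Type*} {B : Type*} [AddCommGroup A] [Module k A] [AddCommGroup B]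
    [Module k B] [Module.Finite k B] (c : A ≃ₗ[k] Module.Dual k B) (b : B) (a : A) :
    flip c b a = c a b := rfl

end Flip

variable {k : Type w} [Field k] {T : Type u} [Category.{v} T] [Preadditive T] [Linear k T]

/-- postcomposition with an iso as a linear equivalence -/
noncomputable def postIso {X X' : T} (Y : T) (ε : X ≅ X') : (Y ⟶ X) ≃ₗ[k] (Y ⟶ X') :=
  LinearEquiv.ofLinearMap (Linear.rightComp k Y ε.hom) (Linear.rightComp k Y ε.inv)
    (by ext h; simp) (by ext h; simp)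

theorem postIso_apply {X X' : T} (Y : T) (ε : X ≅ X') (h : Y ⟶ X) :
    postIso (k := k) Y ε h = h ≫ ε.hom := rfl

variable [∀ X Y : T, Module.Finite k (X ⟶ Y)]

/-- (1) ⇒ (2a) -/
theorem one_to_twoA (S : T ⥤ T)
    (c : ∀ X Y : T, (X ⟶ Y) ≃ₗ[k] Module.Dual k (Y ⟶ S.obj X))
    (N1 : ∀ (X Y Y' : T) (f : X ⟶ Y) (g : Y ⟶ Y'),
          c X Y' (f ≫ g) = (c X Y f) ∘ₗ Linear.leftComp k (S.obj X) g) (X : T) :
    ∃ (SX : T) (e : ∀ Y : T, (Y ⟶ SX) ≃ₗ[k] Module.Dual k (X ⟶ Y)),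
        ∀ (Y Y' : T) (g : Y' ⟶ Y) (f : Y ⟶ SX),
          e Y' (g ≫ f) = (e Y f) ∘ₗ Linear.rightComp k X g := by
  refine ⟨S.obj X, fun Y => flip (c X Y), ?_⟩
  intro Y Y' g f
  apply LinearMap.ext
  intro h
  have h1 := congrArg (fun φ : Module.Dual k (Y ⟶ S.obj X) => φ f) (N1 X Y' Y h g)
  simp only [LinearMap.comp_apply, Linear.leftComp_apply] at h1
  simp only [flip_apply, LinearMap.comp_apply, Linear.rightComp_apply]
  exact h1.symm

/-- (1) ⇒ (2b) -/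
theorem one_to_twoB (S : T ⥤ T)
    (c : ∀ X Y : T, (X ⟶ Y) ≃ₗ[k] Module.Dual k (Y ⟶ S.obj X))
    (N1 : ∀ (X Y Y' : T) (f : X ⟶ Y) (g : Y ⟶ Y'),
          c X Y' (f ≫ g) = (c X Y f) ∘ₗ Linear.leftComp k (S.obj X) g) (X RX : T)
    (ε : S.obj RX ≅ X) :
    ∃ (RX : T) (e : ∀ Y : T, (RX ⟶ Y) ≃ₗ[k] Module.Dual k (Y ⟶ X)),
        ∀ (Y Y' : T) (g : Y ⟶ Y') (f : RX ⟶ Y),
          e Y' (f ≫ g) = (e Y f) ∘ₗ Linear.leftComp k X g := by
  refine ⟨RX, fun Y => (c RX Y).trans (postIso (k := k) Y ε.symm).dualMap, ?_⟩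
  intro Y Y' g f
  apply LinearMap.ext
  intro h
  have h1 := congrArg (fun φ : Module.Dual k (Y' ⟶ S.obj RX) => φ (h ≫ ε.inv)) (N1 RX Y Y' f g)
  simp only [LinearMap.comp_apply, Linear.leftComp_apply] at h1
  simp only [LinearEquiv.trans_apply, LinearEquiv.dualMap_apply, postIso_apply,
    LinearMap.comp_apply, Linear.leftComp_apply, Category.assoc, Iso.symm_hom]
  exact h1

variable (k T) in
/-- the data of (2a) -/
structure SData where
  SX : T → T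
  e : ∀ X Y : T, (Y ⟶ SX X) ≃ₗ[k] Module.Dual k (X ⟶ Y)
  he : ∀ (X Y Y' : T) (g : Y' ⟶ Y) (f : Y ⟶ SX X),
          e X Y' (g ≫ f) = (e X Y f) ∘ₗ Linear.rightComp k X g

variable (k T) in
/-- the data of (2b) -/
structure RData where
  RX : T → T
  e : ∀ X Y : T, (RX X ⟶ Y) ≃ₗ[k] Module.Dual k (Y ⟶ X)
  he : ∀ (X Y Y' : T) (g : Y ⟶ Y') (f : RX X ⟶ Y),
          e X Y' (f ≫ g) = (e X Y f) ∘ₗ Linear.leftComp k X g

namespace SData

variable (D : SData k T)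

/-- the trace form -/
noncomputable def tr (X : T) : Module.Dual k (X ⟶ D.SX X) := D.e X (D.SX X) (𝟙 _)

theorem e_apply (X Y : T) (u : Y ⟶ D.SX X) (h : X ⟶ Y) : D.e X Y u h = D.tr X (h ≫ u) := by
  have h1 := congrArg (fun φ : Module.Dual k (X ⟶ Y) => φ h) (D.he X (D.SX X) Y u (𝟙 _))
  simp only [Category.comp_id, LinearMap.comp_apply, Linear.rightComp_apply] at h1
  exact h1

theorem hom_ext_tr (X Y : T) (u u' : Y ⟶ D.SX X)
    (H : ∀ h : X ⟶ Y, D.tr X (h ≫ u) = D.tr X (h ≫ u')) : u = u' := by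
  apply (D.e X Y).injective
  apply LinearMap.ext
  intro h
  rw [D.e_apply, D.e_apply]
  exact H h

/-- the map on morphisms -/
noncomputable def sMap {X' X : T} (a : X' ⟶ X) : D.SX X' ⟶ D.SX X :=
  (D.e X (D.SX X')).symm ((D.tr X') ∘ₗ Linear.leftComp k (D.SX X') a)

theorem tr_sMap {X' X : T} (a : X' ⟶ X) (h : X ⟶ D.SX X') :
    D.tr X (h ≫ D.sMap a) = D.tr X' (a ≫ h) := by
  rw [← D.e_apply, sMap, LinearEquiv.apply_symm_apply]
  rfl

theorem tr_sMap' {X' X Y : T} (a : X' ⟶ X) (h : X ⟶ Y) (u : Y ⟶ D.SX X') :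
    D.tr X (h ≫ u ≫ D.sMap a) = D.tr X' (a ≫ h ≫ u) := by
  rw [← Category.assoc, D.tr_sMap]

theorem sMap_id (X : T) : D.sMap (𝟙 X) = 𝟙 (D.SX X) := by
  apply D.hom_ext_tr
  intro h
  rw [D.tr_sMap, Category.id_comp, Category.comp_id]

theorem sMap_comp {X Y Z : T} (a : X ⟶ Y) (b : Y ⟶ Z) :
    D.sMap (a ≫ b) = D.sMap a ≫ D.sMap b := by
  apply D.hom_ext_tr
  intro h
  rw [D.tr_sMap, D.tr_sMap', ← Category.assoc b, D.tr_sMap, Category.assoc]

theorem sMap_add {X' X : T} (a a' : X' ⟶ X) : D.sMap (a + a') = D.sMap a + D.sMap a' := by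
  apply D.hom_ext_tr
  intro h
  rw [D.tr_sMap, Preadditive.add_comp, map_add, Preadditive.comp_add, map_add, D.tr_sMap,
    D.tr_sMap]

theorem sMap_smul {X' X : T} (r : k) (a : X' ⟶ X) : D.sMap (r • a) = r • D.sMap a := by
  apply D.hom_ext_tr
  intro h
  rw [D.tr_sMap, Linear.smul_comp, map_smul, Linear.comp_smul, map_smul, D.tr_sMap]

theorem sMap_injective {X' X : T} (a a' : X' ⟶ X) (H' : D.sMap a = D.sMap a') : a = a' := by
  have key : ∀ φ : Module.Dual k (X' ⟶ X), φ a = φ a' := by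
    intro φ
    obtain ⟨h, rfl⟩ := (D.e X' X).surjective φ
    rw [D.e_apply, D.e_apply, ← D.tr_sMap a h, ← D.tr_sMap a' h, H']
  have h0 : a - a' = 0 := by
    rw [← Module.forall_dual_apply_eq_zero_iff k]
    intro φ
    rw [map_sub, key φ, sub_self]
  exact sub_eq_zero.mp h0

/-- the Serre functor -/
noncomputable def sFun : T ⥤ T where
  obj := D.SX
  map a := D.sMap a
  map_id X := D.sMap_id X
  map_comp a b := D.sMap_comp a b

instance : (D.sFun).Additive where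
  map_add {X' X a a'} := D.sMap_add a a'

instance : (D.sFun).Linear k where
  map_smul {X' X} a r := D.sMap_smul r a

instance : (D.sFun).Faithful where
  map_injective {X' X a a'} H := D.sMap_injective a a' H

theorem finrank_eq (X' X : T) :
    Module.finrank k (D.SX X' ⟶ D.SX X) = Module.finrank k (X' ⟶ X) := by
  rw [(D.e X (D.SX X')).finrank_eq, Subspace.dual_finrank_eq, (D.e X' X).finrank_eq,
    Subspace.dual_finrank_eq]

instance : (D.sFun).Full where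
  map_surjective {X' X} := by
    have hinj : Function.Injective (D.sFun.mapLinearMap k : (X' ⟶ X) →ₗ[k] _) :=
      D.sFun.map_injective
    exact (LinearMap.injective_iff_surjective_of_finrank_eq_finrank
      (D.finrank_eq X' X).symm).mp hinj

variable (R : RData k T)

/-- the Yoneda comparison `Hom(Y, Z) ≃ Hom(Y, S (R Z))` -/
noncomputable def psi (Z Y : T) : (Y ⟶ Z) ≃ₗ[k] (Y ⟶ D.SX (R.RX Z)) :=
  (flip (R.e Z Y)).trans (D.e (R.RX Z) Y).symm

theorem psi_spec (Z Y : T) (v : Y ⟶ Z) (w : R.RX Z ⟶ Y) :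
    D.e (R.RX Z) Y (D.psi R Z Y v) w = R.e Z Y w v := by
  simp only [psi, LinearEquiv.trans_apply, LinearEquiv.apply_symm_apply, flip_apply]

theorem psi_nat (Z : T) {Y' Y : T} (g : Y' ⟶ Y) (v : Y ⟶ Z) :
    D.psi R Z Y' (g ≫ v) = g ≫ D.psi R Z Y v := by
  apply (D.e (R.RX Z) Y').injective
  apply LinearMap.ext
  intro w
  rw [D.psi_spec, D.he (R.RX Z) Y Y' g]
  simp only [LinearMap.comp_apply, Linear.rightComp_apply]
  rw [D.psi_spec, R.he Z Y' Y g w]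
  rfl

/-- `S (R Z) ≅ Z` -/
noncomputable def isoSR (Z : T) : D.SX (R.RX Z) ≅ Z where
  hom := (D.psi R Z (D.SX (R.RX Z))).symm (𝟙 _)
  inv := D.psi R Z Z (𝟙 Z)
  hom_inv_id := by
    rw [← D.psi_nat, Category.comp_id, LinearEquiv.apply_symm_apply]
  inv_hom_id := by
    apply (D.psi R Z Z).injective
    rw [D.psi_nat, LinearEquiv.apply_symm_apply, Category.comp_id]

theorem essSurj (R : RData k T) : (D.sFun).EssSurj :=
  ⟨fun Z => ⟨R.RX Z, ⟨D.isoSR R Z⟩⟩⟩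

theorem cS_N1 (X Y Y' : T) (f : X ⟶ Y) (g : Y ⟶ Y') :
    flip (D.e X Y') (f ≫ g) = (flip (D.e X Y) f) ∘ₗ Linear.leftComp k (D.SX X) g := by
  apply LinearMap.ext
  intro u
  show D.e X Y' u (f ≫ g) = D.e X Y (g ≫ u) f
  rw [D.he X Y' Y g u]
  rfl

theorem cS_N2 (X' X Y : T) (a : X' ⟶ X) (f : X ⟶ Y) :
    flip (D.e X' Y) (a ≫ f) = (flip (D.e X Y) f) ∘ₗ Linear.rightComp k Y (D.sMap a) := by
  apply LinearMap.ext
  intro u
  show D.e X' Y u (a ≫ f) = D.e X Y (u ≫ D.sMap a) f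
  rw [D.e_apply, D.e_apply, Category.assoc, D.tr_sMap']

end SData

/-- (2) ⇒ (1) -/
theorem two_to_one (D : SData k T) (R : RData k T) :
    ∃ (S : T ≌ T) (_ : S.functor.Additive) (_ : S.functor.Linear k)
        (c : ∀ X Y : T, (X ⟶ Y) ≃ₗ[k] Module.Dual k (Y ⟶ S.functor.obj X)),
        (∀ (X Y Y' : T) (f : X ⟶ Y) (g : Y ⟶ Y'),
          c X Y' (f ≫ g) = (c X Y f) ∘ₗ Linear.leftComp k (S.functor.obj X) g) ∧
        (∀ (X' X Y : T) (a : X' ⟶ X) (f : X ⟶ Y),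
          c X' Y (a ≫ f) = (c X Y f) ∘ₗ Linear.rightComp k Y (S.functor.map a)) := by
  haveI : (D.sFun).EssSurj := D.essSurj R
  haveI : (D.sFun).IsEquivalence := {}
  refine ⟨(D.sFun).asEquivalence, inferInstanceAs (D.sFun).Additive,
    inferInstanceAs ((D.sFun).Linear k), fun X Y => flip (D.e X Y), ?_, ?_⟩
  · exact fun X Y Y' f g => D.cS_N1 X Y Y' f g
  · exact fun X' X Y a f => D.cS_N2 X' X Y a f

theorem main :
    (∃ (S : T ≌ T) (_ : S.functor.Additive) (_ : S.functor.Linear k)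
        (c : ∀ X Y : T, (X ⟶ Y) ≃ₗ[k] Module.Dual k (Y ⟶ S.functor.obj X)),
        (∀ (X Y Y' : T) (f : X ⟶ Y) (g : Y ⟶ Y'),
          c X Y' (f ≫ g) = (c X Y f) ∘ₗ Linear.leftComp k (S.functor.obj X) g) ∧
        (∀ (X' X Y : T) (a : X' ⟶ X) (f : X ⟶ Y),
          c X' Y (a ≫ f) = (c X Y f) ∘ₗ Linear.rightComp k Y (S.functor.map a))) ↔
    ((∀ X : T, ∃ (SX : T) (e : ∀ Y : T, (Y ⟶ SX) ≃ₗ[k] Module.Dual k (X ⟶ Y)),
        ∀ (Y Y' : T) (g : Y' ⟶ Y) (f : Y ⟶ SX),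
          e Y' (g ≫ f) = (e Y f) ∘ₗ Linear.rightComp k X g) ∧
      (∀ X : T, ∃ (RX : T) (e : ∀ Y : T, (RX ⟶ Y) ≃ₗ[k] Module.Dual k (Y ⟶ X)),
        ∀ (Y Y' : T) (g : Y ⟶ Y') (f : RX ⟶ Y),
          e Y' (f ≫ g) = (e Y f) ∘ₗ Linear.leftComp k X g)) := by
  constructor
  · rintro ⟨S, _, _, c, N1, _⟩
    exact ⟨fun X => one_to_twoA S.functor c N1 X,
      fun X => one_to_twoB S.functor c N1 X (S.inverse.obj X) (S.counitIso.app X)⟩
  · rintro ⟨hS, hR⟩
    choose SX e he using hS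
    choose RX e' he' using hR
    exact two_to_one ⟨SX, e, he⟩ ⟨RX, e', he'⟩

end Groth.Agent.H4.SerreA
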