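import Mathlib

set_option autoImplicit false
universe w v u

open CategoryTheory Limits Pretriangulated

namespace Groth.Agent.H4.SerreExact

section LinAlg

variable {k : Type*} [Field k] {V W V₁ V₂ : Type*} [AddCommGroup V] [Module k V]
  [AddCommGroup W] [Module k W] [AddCommGroup V₁] [Module k V₁] [AddCommGroup V₂] [Module k V₂]

theorem exists_factor (P : V →ₗ[k] W) (l : V →ₗ[k] k) (h : ∀ x, P x = 0 → l x = 0) :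
    ∃ μ : W →ₗ[k] k, ∀ x, μ (P x) = l x := by
  have hl : (l : Module.Dual k V) ∈ LinearMap.range P.dualMap := by
    rw [LinearMap.range_dualMap_eq_dualAnnihilator_ker, Submodule.mem_dualAnnihilator]
    intro x hx
    exact h x (LinearMap.mem_ker.1 hx)
  obtain ⟨μ, hμ⟩ := hl
  refine ⟨μ, fun x => ?_⟩
  rw [← hμ]
  rfl

theorem exists_functional (P₁ : V₁ →ₗ[k] W) (P₂ : V₂ →ₗ[k] W) (p₁ : V₁ →ₗ[k] k)
    (p₂ : V₂ →ₗ[k] k) (h : ∀ x y, P₁ x + P₂ y = 0 → p₁ x + p₂ y = 0) :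
    ∃ Ξ : W →ₗ[k] k, (∀ x, Ξ (P₁ x) = p₁ x) ∧ ∀ y, Ξ (P₂ y) = p₂ y := by
  obtain ⟨Ξ, hΞ⟩ := exists_factor (P₁.coprod P₂) (p₁.coprod p₂) (by
    rintro ⟨x, y⟩ hxy
    simp only [LinearMap.coprod_apply] at hxy ⊢
    exact h x y hxy)
  refine ⟨Ξ, fun x => ?_, fun y => ?_⟩
  · have := hΞ (x, 0)
    simpa using this
  · have := hΞ (0, y)
    simpa using this

end LinAlg

variable {k : Type w} [Field k] {T : Type u} [Category.{v} T] [Preadditive T] [Linear k T]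

/-- a perfect functional -/
def IsPerf {P Q : T} (τ : (P ⟶ Q) →ₗ[k] k) : Prop :=
  ∀ (Z : T) (l : (P ⟶ Z) →ₗ[k] k), ∃! b : Z ⟶ Q, ∀ a : P ⟶ Z, l a = τ (a ≫ b)

theorem IsPerf.ext {P Q : T} {τ : (P ⟶ Q) →ₗ[k] k} (hτ : IsPerf τ) {Z : T} {b b' : Z ⟶ Q}
    (h : ∀ a : P ⟶ Z, τ (a ≫ b) = τ (a ≫ b')) : b = b' := by
  obtain ⟨b₀, -, huniq⟩ := hτ Z (τ ∘ₗ Linear.rightComp k P b')
  have h1 : b = b₀ := huniq b (fun a => (h a).symm)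
  have h2 : b' = b₀ := huniq b' (fun a => rfl)
  rw [h1, h2]

section Serre

variable [∀ X Y : T, Module.Finite k (X ⟶ Y)] (F : T ⥤ T)
  (c : ∀ X Y : T, (X ⟶ Y) ≃ₗ[k] Module.Dual k (Y ⟶ F.obj X))
  (hc₁ : ∀ (X Y Y' : T) (f : X ⟶ Y) (g : Y ⟶ Y'),
    c X Y' (f ≫ g) = (c X Y f) ∘ₗ Linear.leftComp k (F.obj X) g)
  (hc₂ : ∀ (X' X Y : T) (a : X' ⟶ X) (f : X ⟶ Y),
    c X' Y (a ≫ f) = (c X Y f) ∘ₗ Linear.rightComp k Y (F.map a))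

/-- the trace -/
def tr (X : T) : (X ⟶ F.obj X) →ₗ[k] k := c X X (𝟙 X)

include hc₁ in
theorem c_apply (X Y : T) (f : X ⟶ Y) (h : Y ⟶ F.obj X) : c X Y f h = tr F c X (f ≫ h) := by
  have := hc₁ X X Y (𝟙 X) f
  rw [Category.id_comp] at this
  rw [this]
  rfl

include hc₁ hc₂ in
theorem tr_comm {X' X : T} (a : X' ⟶ X) (h : X ⟶ F.obj X') :
    tr F c X' (a ≫ h) = tr F c X (h ≫ F.map a) := by
  have h1 := hc₂ X' X X a (𝟙 X)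
  rw [Category.comp_id] at h1
  rw [← c_apply F c hc₁ X' X a h, h1]
  rfl

include hc₁ in
theorem tr_isPerf (X : T) : IsPerf (tr F c X) := by
  intro Z l
  obtain ⟨Φ, hΦ⟩ : ∃ Φ : (Z ⟶ F.obj X) →ₗ[k] Module.Dual k (X ⟶ Z),
      ∀ b a, Φ b a = tr F c X (a ≫ b) := by
    refine ⟨{ toFun := fun b => (tr F c X) ∘ₗ Linear.rightComp k X b
              map_add' := fun b b' => ?_
              map_smul' := fun r b => ?_ }, fun b a => rfl⟩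
    · ext a
      simp [Preadditive.comp_add]
    · ext a
      simp [Linear.comp_smul]
  have hinj : Function.Injective Φ := by
    rw [← LinearMap.ker_eq_bot, LinearMap.ker_eq_bot']
    intro b hb
    rw [← Module.forall_dual_apply_eq_zero_iff k b]
    intro ψ
    obtain ⟨a, rfl⟩ := (c X Z).surjective ψ
    rw [c_apply F c hc₁, ← hΦ, hb]
    rfl
  have hdim : Module.finrank k (Z ⟶ F.obj X) = Module.finrank k (Module.Dual k (X ⟶ Z)) := by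
    rw [Subspace.dual_finrank_eq, LinearEquiv.finrank_eq (c X Z), Subspace.dual_finrank_eq]
  have hsurj : Function.Surjective Φ :=
    (LinearMap.injective_iff_surjective_of_finrank_eq_finrank hdim).1 hinj
  obtain ⟨b, hb⟩ := hsurj l
  refine ⟨b, fun a => ?_, fun b' hb' => ?_⟩
  · rw [← hΦ, hb]
  · apply hinj
    rw [hb]
    ext a
    rw [hΦ]
    exact (hb' a).symm

end Serre

section Shift

variable [HasZeroObject T] [HasShift T ℤ] [∀ n : ℤ, (shiftFunctor T n).Additive]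
  [∀ n : ℤ, (shiftFunctor T n).Linear k]

/-- the shifted functional -/
noncomputable def shiftFunctional {P Q : T} (τ : (P ⟶ Q) →ₗ[k] k) :
    (P⟦(1 : ℤ)⟧ ⟶ Q⟦(1 : ℤ)⟧) →ₗ[k] k where
  toFun φ := τ ((shiftFunctor T (1 : ℤ)).preimage φ)
  map_add' φ ψ := by
    rw [← map_add]
    congr 1
    apply (shiftFunctor T (1 : ℤ)).map_injective
    simp
  map_smul' r φ := by
    rw [RingHom.id_apply, ← map_smul]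
    congr 1
    apply (shiftFunctor T (1 : ℤ)).map_injective
    simp [Functor.map_smul]

theorem shiftFunctional_map {P Q : T} (τ : (P ⟶ Q) →ₗ[k] k) (g : P ⟶ Q) :
    shiftFunctional τ (g⟦(1 : ℤ)⟧') = τ g := by
  show τ ((shiftFunctor T (1 : ℤ)).preimage ((shiftFunctor T (1 : ℤ)).map g)) = τ g
  rw [Functor.preimage_map]

theorem shift_isPerf {P Q : T} {τ : (P ⟶ Q) →ₗ[k] k} (hτ : IsPerf τ) :
    IsPerf (shiftFunctional τ) := by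
  intro Z l
  obtain ⟨W, ⟨θ⟩⟩ : ∃ W : T, Nonempty (W⟦(1 : ℤ)⟧ ≅ Z) :=
    ⟨_, ⟨(shiftFunctor T (1 : ℤ)).objObjPreimageIso Z⟩⟩
  obtain ⟨h, hh, huniq⟩ := hτ W
    (l ∘ₗ Linear.rightComp k _ θ.hom ∘ₗ (shiftFunctor T (1 : ℤ)).mapLinearMap k)
  have hh' : ∀ f : P ⟶ W, l (f⟦(1 : ℤ)⟧' ≫ θ.hom) = τ (f ≫ h) := fun f => hh f
  refine ⟨θ.inv ≫ h⟦(1 : ℤ)⟧', fun a => ?_, fun b' hb' => ?_⟩
  · obtain ⟨f, hf⟩ : ∃ f : P ⟶ W, f⟦(1 : ℤ)⟧' = a ≫ θ.inv :=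
      ⟨(shiftFunctor T (1 : ℤ)).preimage _, Functor.map_preimage _ _⟩
    have e1 : a = f⟦(1 : ℤ)⟧' ≫ θ.hom := by
      rw [hf, Category.assoc, Iso.inv_hom_id, Category.comp_id]
    have e2 : a ≫ θ.inv ≫ h⟦(1 : ℤ)⟧' = (f ≫ h)⟦(1 : ℤ)⟧' := by
      rw [← Category.assoc, ← hf, Functor.map_comp]
    rw [e2, shiftFunctional_map, ← hh' f, ← e1]
  · obtain ⟨h', hh''⟩ : ∃ h' : W ⟶ Q, h'⟦(1 : ℤ)⟧' = θ.hom ≫ b' :=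
      ⟨(shiftFunctor T (1 : ℤ)).preimage _, Functor.map_preimage _ _⟩
    have e3 : h' = h := by
      apply huniq
      intro f
      show l (f⟦(1 : ℤ)⟧' ≫ θ.hom) = τ (f ≫ h')
      rw [hb' (f⟦(1 : ℤ)⟧' ≫ θ.hom), Category.assoc, ← hh'', ← Functor.map_comp,
        shiftFunctional_map]
    rw [← e3, hh'', Iso.inv_hom_id_assoc]

end Shift

section Main

variable [HasZeroObject T] [HasShift T ℤ] [∀ n : ℤ, (shiftFunctor T n).Additive]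
  [∀ n : ℤ, (shiftFunctor T n).Linear k]
  [∀ X Y : T, Module.Finite k (X ⟶ Y)] (F : T ⥤ T)
  (c : ∀ X Y : T, (X ⟶ Y) ≃ₗ[k] Module.Dual k (Y ⟶ F.obj X))
  (hc₁ : ∀ (X Y Y' : T) (f : X ⟶ Y) (g : Y ⟶ Y'),
    c X Y' (f ≫ g) = (c X Y f) ∘ₗ Linear.leftComp k (F.obj X) g)
  (hc₂ : ∀ (X' X Y : T) (a : X' ⟶ X) (f : X ⟶ Y),
    c X' Y (a ≫ f) = (c X Y f) ∘ₗ Linear.rightComp k Y (F.map a))

include hc₁ in
theorem exists_e (X : T) : ∃ eX : F.obj (X⟦(1 : ℤ)⟧) ⟶ (F.obj X)⟦(1 : ℤ)⟧,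
    ∀ φ : X⟦(1 : ℤ)⟧ ⟶ F.obj (X⟦(1 : ℤ)⟧),
      -(tr F c (X⟦(1 : ℤ)⟧) φ) = shiftFunctional (tr F c X) (φ ≫ eX) := by
  obtain ⟨b, hb, -⟩ := shift_isPerf (tr_isPerf F c hc₁ X) _ (-(tr F c (X⟦(1 : ℤ)⟧)))
  exact ⟨b, fun φ => hb φ⟩

include hc₁ in
theorem exists_d (X : T) : ∃ dX : (F.obj X)⟦(1 : ℤ)⟧ ⟶ F.obj (X⟦(1 : ℤ)⟧),
    ∀ ψ : X⟦(1 : ℤ)⟧ ⟶ (F.obj X)⟦(1 : ℤ)⟧,
      -(shiftFunctional (tr F c X) ψ) = tr F c (X⟦(1 : ℤ)⟧) (ψ ≫ dX) := by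
  obtain ⟨b, hb, -⟩ := tr_isPerf F c hc₁ (X⟦(1 : ℤ)⟧) _ (-(shiftFunctional (tr F c X)))
  exact ⟨b, fun ψ => hb ψ⟩

/-- the comparison `S (X[1]) ⟶ (S X)[1]` -/
noncomputable def eHom (X : T) : F.obj (X⟦(1 : ℤ)⟧) ⟶ (F.obj X)⟦(1 : ℤ)⟧ :=
  (exists_e F c hc₁ X).choose

theorem eHom_spec (X : T) (φ : X⟦(1 : ℤ)⟧ ⟶ F.obj (X⟦(1 : ℤ)⟧)) :
    -(tr F c (X⟦(1 : ℤ)⟧) φ) = shiftFunctional (tr F c X) (φ ≫ eHom F c hc₁ X) :=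
  (exists_e F c hc₁ X).choose_spec φ

/-- its inverse -/
noncomputable def dHom (X : T) : (F.obj X)⟦(1 : ℤ)⟧ ⟶ F.obj (X⟦(1 : ℤ)⟧) :=
  (exists_d F c hc₁ X).choose

theorem dHom_spec (X : T) (ψ : X⟦(1 : ℤ)⟧ ⟶ (F.obj X)⟦(1 : ℤ)⟧) :
    -(shiftFunctional (tr F c X) ψ) = tr F c (X⟦(1 : ℤ)⟧) (ψ ≫ dHom F c hc₁ X) :=
  (exists_d F c hc₁ X).choose_spec ψ

theorem e_d (X : T) : eHom F c hc₁ X ≫ dHom F c hc₁ X = 𝟙 _ := by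
  apply (tr_isPerf F c hc₁ (X⟦(1 : ℤ)⟧)).ext
  intro a
  rw [← Category.assoc, ← dHom_spec, ← eHom_spec, neg_neg, Category.comp_id]

theorem d_e (X : T) : dHom F c hc₁ X ≫ eHom F c hc₁ X = 𝟙 _ := by
  apply (shift_isPerf (tr_isPerf F c hc₁ X)).ext
  intro a
  rw [← Category.assoc, ← eHom_spec, ← dHom_spec, neg_neg, Category.comp_id]

include hc₂ in
theorem eHom_naturality {X X' : T} (m : X ⟶ X') :
    F.map (m⟦(1 : ℤ)⟧') ≫ eHom F c hc₁ X' = eHom F c hc₁ X ≫ (F.map m)⟦(1 : ℤ)⟧' := by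
  apply (shift_isPerf (tr_isPerf F c hc₁ X')).ext
  intro a
  obtain ⟨α, hα⟩ : ∃ α : X' ⟶ F.obj X, α⟦(1 : ℤ)⟧' = a ≫ eHom F c hc₁ X :=
    ⟨(shiftFunctor T (1 : ℤ)).preimage _, Functor.map_preimage _ _⟩
  have e1 : a ≫ eHom F c hc₁ X ≫ (F.map m)⟦(1 : ℤ)⟧' = (α ≫ F.map m)⟦(1 : ℤ)⟧' := by
    rw [← Category.assoc, ← hα, Functor.map_comp]
  have e2 : m⟦(1 : ℤ)⟧' ≫ a ≫ eHom F c hc₁ X = (m ≫ α)⟦(1 : ℤ)⟧' := by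
    rw [← hα, Functor.map_comp]
  have L1 : shiftFunctional (tr F c X') (a ≫ F.map (m⟦(1 : ℤ)⟧') ≫ eHom F c hc₁ X') =
      -(tr F c (X⟦(1 : ℤ)⟧) (m⟦(1 : ℤ)⟧' ≫ a)) := by
    rw [← Category.assoc, ← eHom_spec F c hc₁ X' (a ≫ F.map (m⟦(1 : ℤ)⟧')),
      ← tr_comm F c hc₁ hc₂ (m⟦(1 : ℤ)⟧') a]
  have R1 : shiftFunctional (tr F c X') (a ≫ eHom F c hc₁ X ≫ (F.map m)⟦(1 : ℤ)⟧') =
      -(tr F c (X⟦(1 : ℤ)⟧) (m⟦(1 : ℤ)⟧' ≫ a)) := by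
    rw [e1, shiftFunctional_map, ← tr_comm F c hc₁ hc₂ m α,
      ← shiftFunctional_map (tr F c X) (m ≫ α), ← e2, ← Category.assoc,
      ← eHom_spec F c hc₁ X (m⟦(1 : ℤ)⟧' ≫ a)]
  exact L1.trans R1.symm

include hc₁ hc₂ in
theorem F_exact {X₁ X₂ X₃ : T} (m₁ : X₁ ⟶ X₂) (m₂ : X₂ ⟶ X₃)
    (hex : ∀ (Y : T) (b : X₂ ⟶ Y), m₁ ≫ b = 0 → ∃ c' : X₃ ⟶ Y, b = m₂ ≫ c')
    {Y : T} (g : Y ⟶ F.obj X₂) (hg : g ≫ F.map m₂ = 0) :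
    ∃ g₀ : Y ⟶ F.obj X₁, g = g₀ ≫ F.map m₁ := by
  obtain ⟨μ, hμ⟩ := exists_factor (Linear.leftComp k Y m₁)
    ((tr F c X₂) ∘ₗ Linear.rightComp k X₂ g) (by
    intro b hb
    obtain ⟨c', rfl⟩ := hex Y b hb
    show tr F c X₂ ((m₂ ≫ c') ≫ g) = 0
    rw [Category.assoc, tr_comm F c hc₁ hc₂ m₂ (c' ≫ g), Category.assoc, hg, comp_zero,
      map_zero])
  have hμ' : ∀ b : X₂ ⟶ Y, μ (m₁ ≫ b) = tr F c X₂ (b ≫ g) := fun b => hμ b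
  obtain ⟨g₀, hg₀, -⟩ := tr_isPerf F c hc₁ X₁ Y μ
  refine ⟨g₀, ?_⟩
  apply (tr_isPerf F c hc₁ X₂).ext
  intro b
  rw [← hμ' b, hg₀ (m₁ ≫ b), Category.assoc, tr_comm F c hc₁ hc₂ m₁ (b ≫ g₀), Category.assoc]

end Main

section Wrap

variable [HasZeroObject T] [HasShift T ℤ] [∀ n : ℤ, (shiftFunctor T n).Additive]
  [Pretriangulated T]

theorem coyoneda_exact₃' {X₁ X₂ X₃ : T} {f : X₁ ⟶ X₂} {g : X₂ ⟶ X₃} {h : X₃ ⟶ X₁⟦(1 : ℤ)⟧}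
    (hT : Triangle.mk f g h ∈ distTriang T) {Y : T} (a : Y ⟶ X₃) (ha : a ≫ h = 0) :
    ∃ a' : Y ⟶ X₂, a = a' ≫ g :=
  Triangle.coyoneda_exact₃ _ hT a ha

theorem coyoneda_exact₁' {X₁ X₂ X₃ : T} {f : X₁ ⟶ X₂} {g : X₂ ⟶ X₃} {h : X₃ ⟶ X₁⟦(1 : ℤ)⟧}
    (hT : Triangle.mk f g h ∈ distTriang T) {Y : T} (a : Y ⟶ X₁⟦(1 : ℤ)⟧)
    (ha : a ≫ f⟦(1 : ℤ)⟧' = 0) :
    ∃ a' : Y ⟶ X₃, a = a' ≫ h :=
  Triangle.coyoneda_exact₁ _ hT a ha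

theorem yoneda_exact₂' {X₁ X₂ X₃ : T} {f : X₁ ⟶ X₂} {g : X₂ ⟶ X₃} {h : X₃ ⟶ X₁⟦(1 : ℤ)⟧}
    (hT : Triangle.mk f g h ∈ distTriang T) {Y : T} (b : X₂ ⟶ Y) (hb : f ≫ b = 0) :
    ∃ b' : X₃ ⟶ Y, b = g ≫ b' :=
  Triangle.yoneda_exact₂ _ hT b hb

theorem yoneda_exact₃' {X₁ X₂ X₃ : T} {f : X₁ ⟶ X₂} {g : X₂ ⟶ X₃} {h : X₃ ⟶ X₁⟦(1 : ℤ)⟧}
    (hT : Triangle.mk f g h ∈ distTriang T) {Y : T} (b : X₃ ⟶ Y) (hb : g ≫ b = 0) :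
    ∃ b' : X₁⟦(1 : ℤ)⟧ ⟶ Y, b = h ≫ b' :=
  Triangle.yoneda_exact₃ _ hT b hb

theorem zero₁₂' {X₁ X₂ X₃ : T} {f : X₁ ⟶ X₂} {g : X₂ ⟶ X₃} {h : X₃ ⟶ X₁⟦(1 : ℤ)⟧}
    (hT : Triangle.mk f g h ∈ distTriang T) : f ≫ g = 0 :=
  comp_distTriang_mor_zero₁₂ _ hT

theorem zero₃₁' {X₁ X₂ X₃ : T} {f : X₁ ⟶ X₂} {g : X₂ ⟶ X₃} {h : X₃ ⟶ X₁⟦(1 : ℤ)⟧}
    (hT : Triangle.mk f g h ∈ distTriang T) : h ≫ f⟦(1 : ℤ)⟧' = 0 :=
  comp_distTriang_mor_zero₃₁ _ hT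

theorem tr3' {A B C A' B' C' : T} {f : A ⟶ B} {g : B ⟶ C} {h : C ⟶ A⟦(1 : ℤ)⟧}
    {f' : A' ⟶ B'} {φ : B' ⟶ C'} {ψ : C' ⟶ A'⟦(1 : ℤ)⟧}
    (hT : Triangle.mk f g h ∈ distTriang T) (hΔ : Triangle.mk f' φ ψ ∈ distTriang T)
    (b : C ⟶ B') (a' : A⟦(1 : ℤ)⟧ ⟶ C') (fac : h ≫ a' = b ≫ φ) :
    ∃ γ : B⟦(1 : ℤ)⟧ ⟶ A'⟦(1 : ℤ)⟧, (-f⟦(1 : ℤ)⟧') ≫ γ = a' ≫ ψ ∧
      (-g⟦(1 : ℤ)⟧') ≫ b⟦(1 : ℤ)⟧' = γ ≫ (-f'⟦(1 : ℤ)⟧') :=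
  complete_distinguished_triangle_morphism _ _ (rot_of_distTriang _ (rot_of_distTriang _ hT))
    (rot_of_distTriang _ hΔ) b a' fac

theorem dist_of_iso₃ {X₁ X₂ X₃ X₃' : T} {f : X₁ ⟶ X₂} {g : X₂ ⟶ X₃} {h : X₃ ⟶ X₁⟦(1 : ℤ)⟧}
    {g' : X₂ ⟶ X₃'} {h' : X₃' ⟶ X₁⟦(1 : ℤ)⟧} (hT : Triangle.mk f g' h' ∈ distTriang T)
    (i : X₃ ≅ X₃') (hg : g ≫ i.hom = g') (hh : h = i.hom ≫ h') :
    Triangle.mk f g h ∈ distTriang T :=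
  isomorphic_distinguished _ hT _
    (Triangle.isoMk (Triangle.mk f g h) (Triangle.mk f g' h') (Iso.refl X₁) (Iso.refl X₂) i
      (by
        show f ≫ 𝟙 X₂ = 𝟙 X₁ ≫ f
        rw [Category.comp_id, Category.id_comp])
      (by
        show g ≫ i.hom = 𝟙 X₂ ≫ g'
        rw [Category.id_comp]
        exact hg)
      (by
        show h ≫ (shiftFunctor T (1 : ℤ)).map (𝟙 X₁) = i.hom ≫ h'
        rw [CategoryTheory.Functor.map_id, Category.comp_id]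
        exact hh))

end Wrap

section Main2

variable [HasZeroObject T] [HasShift T ℤ] [∀ n : ℤ, (shiftFunctor T n).Additive]
  [∀ n : ℤ, (shiftFunctor T n).Linear k]
  [∀ X Y : T, Module.Finite k (X ⟶ Y)] (F : T ⥤ T)
  (c : ∀ X Y : T, (X ⟶ Y) ≃ₗ[k] Module.Dual k (Y ⟶ F.obj X))
  (hc₁ : ∀ (X Y Y' : T) (f : X ⟶ Y) (g : Y ⟶ Y'),
    c X Y' (f ≫ g) = (c X Y f) ∘ₗ Linear.leftComp k (F.obj X) g)
  (hc₂ : ∀ (X' X Y : T) (a : X' ⟶ X) (f : X ⟶ Y),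
    c X' Y (a ≫ f) = (c X Y f) ∘ₗ Linear.rightComp k Y (F.map a))
  [Pretriangulated T] [F.Additive]

include hc₂ in
theorem main_dist {A B C : T} (u₁ : A ⟶ B) (v₁ : B ⟶ C) (w₁ : C ⟶ A⟦(1 : ℤ)⟧)
    (hTr : Triangle.mk u₁ v₁ w₁ ∈ distTriang T) :
    Triangle.mk (F.map u₁) (F.map v₁) (F.map w₁ ≫ eHom F c hc₁ A) ∈ distTriang T := by
  obtain ⟨C', φ, ψ, hΔ⟩ := distinguished_cocone_triangle (F.map u₁)
  -- compatibility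
  have hcompat : ∀ (b : C ⟶ F.obj B) (a : A⟦(1 : ℤ)⟧ ⟶ C'), b ≫ φ + w₁ ≫ a = 0 →
      tr F c B (v₁ ≫ b) + -(shiftFunctional (tr F c A) (a ≫ ψ)) = 0 := by
    intro b a hba
    obtain ⟨γ, hγ₁, hγ₂⟩ := tr3' hTr hΔ b (-a) (by
      rw [Preadditive.comp_neg]
      exact (eq_neg_of_add_eq_zero_left hba).symm)
    obtain ⟨γ₀, rfl⟩ : ∃ γ₀ : B ⟶ F.obj A, γ₀⟦(1 : ℤ)⟧' = γ :=
      ⟨(shiftFunctor T (1 : ℤ)).preimage _, Functor.map_preimage _ _⟩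
    have h1 : a ≫ ψ = (u₁ ≫ γ₀)⟦(1 : ℤ)⟧' := by
      rw [Functor.map_comp]
      have := hγ₁
      rw [Preadditive.neg_comp, Preadditive.neg_comp, neg_inj] at this
      exact this.symm
    have h2 : v₁ ≫ b = γ₀ ≫ F.map u₁ := by
      apply (shiftFunctor T (1 : ℤ)).map_injective
      rw [Functor.map_comp, Functor.map_comp]
      have := hγ₂
      rw [Preadditive.neg_comp, Preadditive.comp_neg, neg_inj] at this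
      exact this
    rw [h1, shiftFunctional_map, h2, ← tr_comm F c hc₁ hc₂ u₁ γ₀]
    exact add_neg_cancel _
  -- the functional
  obtain ⟨Ξ, hΞ₁, hΞ₂⟩ := exists_functional
    (Linear.rightComp k C φ : (C ⟶ F.obj B) →ₗ[k] (C ⟶ C'))
    (Linear.leftComp k C' w₁ : (A⟦(1 : ℤ)⟧ ⟶ C') →ₗ[k] (C ⟶ C'))
    ((tr F c B) ∘ₗ Linear.leftComp k (F.obj B) v₁)
    (-((shiftFunctional (tr F c A)) ∘ₗ Linear.rightComp k (A⟦(1 : ℤ)⟧) ψ))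
    (fun b a h => hcompat b a h)
  have hΞ₁' : ∀ b : C ⟶ F.obj B, Ξ (b ≫ φ) = tr F c B (v₁ ≫ b) := fun b => hΞ₁ b
  have hΞ₂' : ∀ a : A⟦(1 : ℤ)⟧ ⟶ C', Ξ (w₁ ≫ a) = -(shiftFunctional (tr F c A) (a ≫ ψ)) :=
    fun a => hΞ₂ a
  obtain ⟨ξ, hξ, -⟩ := tr_isPerf F c hc₁ C C' Ξ
  have h_i : φ ≫ ξ = F.map v₁ := by
    apply (tr_isPerf F c hc₁ C).ext
    intro b
    rw [← Category.assoc, ← hξ (b ≫ φ), hΞ₁', tr_comm F c hc₁ hc₂ v₁ b]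
  have h_ii : ξ ≫ F.map w₁ ≫ eHom F c hc₁ A = ψ := by
    apply (shift_isPerf (tr_isPerf F c hc₁ A)).ext
    intro a
    have e1 := eHom_spec F c hc₁ A (a ≫ ξ ≫ F.map w₁)
    have e2 := tr_comm F c hc₁ hc₂ w₁ (a ≫ ξ)
    have e3 := hξ (w₁ ≫ a)
    have e4 := hΞ₂' a
    rw [Category.assoc, Category.assoc] at e1
    rw [← e1, ← Category.assoc a ξ, ← e2, ← Category.assoc, ← e3, e4, neg_neg]
  -- injectivity and surjectivity of composition with ξ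
  have hinj : ∀ (Y : T) (g : Y ⟶ C'), g ≫ ξ = 0 → g = 0 := by
    intro Y g hg
    have h1 : g ≫ ψ = 0 := by rw [← h_ii, ← Category.assoc, hg, zero_comp]
    obtain ⟨g₁, rfl⟩ := coyoneda_exact₃' hΔ g h1
    have h2 : g₁ ≫ F.map v₁ = 0 := by
      rw [← h_i, ← Category.assoc]
      exact hg
    obtain ⟨g₀, rfl⟩ := F_exact F c hc₁ hc₂ u₁ v₁
      (fun Y b hb => yoneda_exact₂' hTr b hb) g₁ h2
    rw [Category.assoc, zero₁₂' hΔ, comp_zero]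
  have hsurj : ∀ (Y : T) (h : Y ⟶ F.obj C), ∃ g : Y ⟶ C', g ≫ ξ = h := by
    intro Y h
    have h0 : w₁ ≫ u₁⟦(1 : ℤ)⟧' = 0 := zero₃₁' hTr
    have h1 : (h ≫ F.map w₁ ≫ eHom F c hc₁ A) ≫ (F.map u₁)⟦(1 : ℤ)⟧' = 0 := by
      rw [Category.assoc, Category.assoc,
        ← eHom_naturality F c hc₁ hc₂ u₁, ← F.map_comp_assoc, h0, F.map_zero, zero_comp,
        comp_zero]
    obtain ⟨g', hg'⟩ := coyoneda_exact₁' hΔ (h ≫ F.map w₁ ≫ eHom F c hc₁ A) h1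
    have h2 : (g' ≫ ξ - h) ≫ F.map w₁ = 0 := by
      have h3 : (g' ≫ ξ - h) ≫ F.map w₁ ≫ eHom F c hc₁ A = 0 := by
        rw [Preadditive.sub_comp, Category.assoc, h_ii, hg', sub_self]
      have h4 := congrArg (fun z => z ≫ dHom F c hc₁ A) h3
      simp only [Category.assoc, e_d, Category.comp_id, zero_comp] at h4
      exact h4
    obtain ⟨g₁, hg₁⟩ := F_exact F c hc₁ hc₂ v₁ w₁
      (fun Y b hb => yoneda_exact₃' hTr b hb) (g' ≫ ξ - h) h2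
    refine ⟨g' - g₁ ≫ φ, ?_⟩
    rw [Preadditive.sub_comp, Category.assoc, h_i, ← hg₁]
    abel
  obtain ⟨ζ, hζ⟩ := hsurj (F.obj C) (𝟙 _)
  have hζ' : ξ ≫ ζ = 𝟙 _ := by
    have : ξ ≫ ζ - 𝟙 _ = 0 := by
      apply hinj
      rw [Preadditive.sub_comp, Category.assoc, hζ, Category.comp_id, Category.id_comp, sub_self]
    exact sub_eq_zero.1 this
  refine dist_of_iso₃ hΔ ⟨ζ, ξ, hζ, hζ'⟩ ?_ ?_
  · show F.map v₁ ≫ ζ = φ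
    rw [← h_i, Category.assoc, hζ', Category.comp_id]
  · show F.map w₁ ≫ eHom F c hc₁ A = ζ ≫ ψ
    rw [← h_ii, ← Category.assoc ζ, hζ, Category.id_comp]

end Main2

theorem r6732
    {k : Type w} [Field k]
    {T : Type u} [Category.{v} T] [Preadditive T] [Linear k T] [HasZeroObject T] [HasShift T ℤ]
    [∀ n : ℤ, (shiftFunctor T n).Additive] [∀ n : ℤ, (shiftFunctor T n).Linear k] [Pretriangulated T]
    [∀ X Y : T, Module.Finite k (X ⟶ Y)]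
    (S : T ≌ T) [S.functor.Additive]
    (c : ∀ X Y : T, (X ⟶ Y) ≃ₗ[k] Module.Dual k (Y ⟶ S.functor.obj X))
    (hc₁ : ∀ (X Y Y' : T) (f : X ⟶ Y) (g : Y ⟶ Y'),
      c X Y' (f ≫ g) = (c X Y f) ∘ₗ Linear.leftComp k (S.functor.obj X) g)
    (hc₂ : ∀ (X' X Y : T) (a : X' ⟶ X) (f : X ⟶ Y),
      c X' Y (a ≫ f) = (c X Y f) ∘ₗ Linear.rightComp k Y (S.functor.map a)) :
    ∃ e : shiftFunctor T (1 : ℤ) ⋙ S.functor ≅ S.functor ⋙ shiftFunctor T (1 : ℤ),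
      ∀ T' ∈ distTriang T,
        Triangle.mk (S.functor.map T'.mor₁) (S.functor.map T'.mor₂)
          (S.functor.map T'.mor₃ ≫ e.hom.app T'.obj₁) ∈ distTriang T := by
  refine ⟨NatIso.ofComponents (fun X => ⟨eHom S.functor c hc₁ X, dHom S.functor c hc₁ X,
    e_d S.functor c hc₁ X, d_e S.functor c hc₁ X⟩) (fun {X X'} m => ?_), fun T' hT' => ?_⟩
  · exact eHom_naturality S.functor c hc₁ hc₂ m
  · exact main_dist S.functor c hc₁ hc₂ T'.mor₁ T'.mor₂ T'.mor₃ hT'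

end Groth.Agent.H4.SerreExact
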