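import Mathlib
import Groth.Agent.S7147
set_option autoImplicit false
universe u
namespace Groth.Agent.H4.SerreSplit
open Submodule Groth.Agent.S7147

section Alg
variable {R : Type u} [CommRing R] (M : Type u) [AddCommGroup M] [Module R M]

/-- the subspace `B(x)` of `M(x) = M/xM` -/
abbrev Bq (x : Ideal R) : Submodule (R ⧸ x) (M ⧸ (x • ⊤ : Submodule R M)) :=
  Submodule.span (R ⧸ x) ((x • ⊤ : Submodule R M).mkQ '' {m : M | ∀ φ : M →ₗ[R] R, φ m ∈ x})

variable {M}

/-- the image of `m` in `V(x) = M(x)/B(x)` -/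
abbrev img (x : Ideal R) (m : M) : (M ⧸ (x • ⊤ : Submodule R M)) ⧸ Bq M x :=
  (Bq M x).mkQ ((x • ⊤ : Submodule R M).mkQ m)

theorem img_eq_zero_iff (x : Ideal R) (m : M) : img x m = 0 ↔ m ∈ W0 R M x := by
  rw [← mem_Bx_iff R M x m]
  exact Submodule.Quotient.mk_eq_zero _

theorem img_add (x : Ideal R) (m m' : M) : img x (m + m') = img x m + img x m' := by
  simp only [img, map_add]

theorem img_sub (x : Ideal R) (m m' : M) : img x (m - m') = img x m - img x m' := by
  simp only [img, map_sub]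

theorem img_eq_iff (x : Ideal R) (m m' : M) : img x m = img x m' ↔ m - m' ∈ W0 R M x := by
  rw [← img_eq_zero_iff, img_sub, sub_eq_zero]

theorem img_smul (x : Ideal R) (a : R) (m : M) :
    img x (a • m) = (Ideal.Quotient.mk x a) • img x m := by
  rfl

theorem img_sum (x : Ideal R) {ι : Type*} (t : Finset ι) (f : ι → M) :
    img x (∑ i ∈ t, f i) = ∑ i ∈ t, img x (f i) := by
  simp only [img, map_sum]

theorem img_surjective (x : Ideal R) (v : (M ⧸ (x • ⊤ : Submodule R M)) ⧸ Bq M x) :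
    ∃ m : M, img x m = v := by
  obtain ⟨w, rfl⟩ := Submodule.mkQ_surjective _ v
  obtain ⟨m, rfl⟩ := Submodule.mkQ_surjective _ w
  exact ⟨m, rfl⟩

/-- elementary form of linear independence in `V(x)` -/
def Indep (x : Ideal R) {ι : Type*} [Fintype ι] (s : ι → M) : Prop :=
  ∀ a : ι → R, (∑ i, a i • s i) ∈ W0 R M x → ∀ i, a i ∈ x

theorem indep_iff (x : Ideal R) {ι : Type*} [Fintype ι] (s : ι → M) :
    LinearIndependent (R ⧸ x) (fun i => img x (s i)) ↔ Indep x s := by
  classical
  rw [Fintype.linearIndependent_iff]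
  constructor
  · intro h a ha i
    have h1 : ∑ i, (Ideal.Quotient.mk x (a i)) • img x (s i) = 0 := by
      rw [← (img_eq_zero_iff x _).mpr ha, img_sum]
      refine Finset.sum_congr rfl (fun i _ => ?_)
      rw [img_smul]
    exact Ideal.Quotient.eq_zero_iff_mem.mp (h _ h1 i)
  · intro h c hc i
    choose a ha using fun i => Ideal.Quotient.mk_surjective (c i)
    have h1 : img x (∑ i, a i • s i) = 0 := by
      rw [← hc, img_sum]
      refine Finset.sum_congr rfl (fun i _ => ?_)
      rw [img_smul, ha i]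
    rw [← ha i]
    exact Ideal.Quotient.eq_zero_iff_mem.mpr (h a ((img_eq_zero_iff x _).mp h1) i)


theorem indep_snoc_iff (x : Ideal R) {h : ℕ} (s : Fin h → M) (t : M) :
    Indep x (Fin.snoc s t : Fin (h + 1) → M) ↔
      ∀ (a : Fin h → R) (b : R), (∑ i, a i • s i + b • t) ∈ W0 R M x →
        (∀ i, a i ∈ x) ∧ b ∈ x := by
  constructor
  · intro hI a b hab
    have := hI (Fin.snoc a b : Fin (h + 1) → R) (by
      rw [Fin.sum_univ_castSucc]
      simpa using hab)
    refine ⟨fun i => ?_, ?_⟩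
    · simpa using this (Fin.castSucc i)
    · simpa using this (Fin.last h)
  · intro hI a ha
    rw [Fin.sum_univ_castSucc] at ha
    simp only [Fin.snoc_castSucc, Fin.snoc_last] at ha
    obtain ⟨h1, h2⟩ := hI (fun i => a (Fin.castSucc i)) (a (Fin.last h)) ha
    intro i
    refine Fin.lastCases ?_ (fun j => ?_) i
    · exact h2
    · exact h1 j

theorem indep_of_snoc (x : Ideal R) {h : ℕ} (s : Fin h → M) (t : M)
    (hI : Indep x (Fin.snoc s t : Fin (h + 1) → M)) : Indep x s := by
  rw [indep_snoc_iff] at hI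
  intro a ha i
  refine (hI a 0 ?_).1 i
  simpa using ha

theorem indep_snoc_congr (x : Ideal R) {h : ℕ} (s : Fin h → M) (u u' : M)
    (huu : u - u' ∈ W0 R M x) (hI : Indep x (Fin.snoc s u : Fin (h + 1) → M)) :
    Indep x (Fin.snoc s u' : Fin (h + 1) → M) := by
  rw [indep_snoc_iff] at hI ⊢
  intro a b hab
  refine hI a b ?_
  have : ∑ i, a i • s i + b • u = (∑ i, a i • s i + b • u') + b • (u - u') := by
    rw [smul_sub]; abel
  rw [this]
  exact (W0 R M x).add_mem hab ((W0 R M x).smul_mem b huu)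

theorem indep_snoc_add_smul (x : Ideal R) {h : ℕ} (s : Fin h → M) (s' s'' : M) (c : R)
    (hI : Indep x (Fin.snoc (Fin.snoc s s' : Fin (h + 1) → M) s'' : Fin (h + 1 + 1) → M)) :
    Indep x (Fin.snoc s (s' + c • s'') : Fin (h + 1) → M) := by
  rw [indep_snoc_iff] at hI ⊢
  intro a b hab
  have key := hI (Fin.snoc a b : Fin (h + 1) → R) (b * c) (by
    rw [Fin.sum_univ_castSucc]
    simp only [Fin.snoc_castSucc, Fin.snoc_last]
    have : ∑ i, a i • s i + b • (s' + c • s'') = ∑ i, a i • s i + b • s' + (b * c) • s'' := by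
      rw [smul_add, mul_smul]; abel
    rwa [this] at hab)
  refine ⟨fun i => ?_, ?_⟩
  · simpa using key.1 (Fin.castSucc i)
  · simpa using key.1 (Fin.last h)


theorem snoc_img (x : Ideal R) {h : ℕ} (s : Fin h → M) (u : M) :
    (Fin.snoc (fun i => img x (s i)) (img x u) :
      Fin (h + 1) → (M ⧸ (x • ⊤ : Submodule R M)) ⧸ Bq M x) =
      fun i => img x ((Fin.snoc s u : Fin (h + 1) → M) i) := by
  funext i
  refine Fin.lastCases ?_ (fun j => ?_) i
  · simp
  · simp

theorem exists_indep_snoc (x : Ideal R) [x.IsMaximal] {h : ℕ} (s : Fin h → M)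
    (hI : Indep x s)
    (hrank : h + 1 ≤ Module.finrank (R ⧸ x) ((M ⧸ (x • ⊤ : Submodule R M)) ⧸ Bq M x)) :
    ∃ u : M, Indep x (Fin.snoc s u : Fin (h + 1) → M) := by
  classical
  letI : Field (R ⧸ x) := Ideal.Quotient.field x
  have hli : LinearIndependent (R ⧸ x) (fun i => img x (s i)) := (indep_iff x s).mpr hI
  by_contra hcon
  push Not at hcon
  have hspan : Submodule.span (R ⧸ x) (Set.range (fun i => img x (s i))) = ⊤ := by
    rw [eq_top_iff]
    intro w _
    obtain ⟨u, rfl⟩ := img_surjective x w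
    by_contra hw
    apply hcon u
    rw [← indep_iff, ← snoc_img]
    exact (linearIndependent_finSnoc).mpr ⟨hli, hw⟩
  have h1 := finrank_span_eq_card hli
  rw [hspan, finrank_top, Fintype.card_fin] at h1
  omega


theorem isOpen_indep [Module.FinitePresentation R M] {h : ℕ} (s : Fin h → M) :
    IsOpen {x : MaximalSpectrum R | Indep x.asIdeal s} := by
  rw [isOpen_iff_forall_mem_open]
  intro x hx
  have hx' : Indep x.asIdeal s := hx
  haveI := x.isMaximal
  have hli := (indep_iff x.asIdeal s).mpr hx'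
  obtain ⟨f, hfx, g, hg⟩ := (Groth.Agent.S7147.result R M x.asIdeal h s).mpr hli
  refine ⟨MaximalSpectrum.toPrimeSpectrum ⁻¹' (PrimeSpectrum.basicOpen f : Set (PrimeSpectrum R)),
    ?_, ?_, ?_⟩
  · intro y hy
    have hfy : f ∉ y.asIdeal := hy
    haveI := y.isMaximal
    exact (indep_iff y.asIdeal s).mp
      ((Groth.Agent.S7147.result R M y.asIdeal h s).mp ⟨f, hfy, g, hg⟩)
  · exact (PrimeSpectrum.basicOpen f).isOpen.preimage MaximalSpectrum.toPrimeSpectrum_continuous
  · exact hfx


/-- CRT for finitely many closed points: prescribe residues. -/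
theorem exists_crt (X : Finset (MaximalSpectrum R)) (c : MaximalSpectrum R → R) :
    ∃ a : R, ∀ x ∈ X, a - c x ∈ x.asIdeal := by
  classical
  have hI : Pairwise (Function.onFun IsCoprime (fun x : X => (x : MaximalSpectrum R).asIdeal)) := by
    intro x y hxy
    haveI := (x : MaximalSpectrum R).isMaximal
    haveI := (y : MaximalSpectrum R).isMaximal
    refine Ideal.isCoprime_of_isMaximal (fun h => hxy ?_)
    exact Subtype.ext (MaximalSpectrum.ext h)
  obtain ⟨a, ha⟩ := Ideal.exists_forall_sub_mem_ideal hI (fun x : X => c x)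
  exact ⟨a, fun x hx => ha ⟨x, hx⟩⟩

/-- CRT for modules: prescribe classes mod `x M` at finitely many closed points. -/
theorem exists_crt_module (X : Finset (MaximalSpectrum R)) (v : MaximalSpectrum R → M) :
    ∃ m : M, ∀ x ∈ X, m - v x ∈ (x.asIdeal • ⊤ : Submodule R M) := by
  classical
  choose e he using fun y : MaximalSpectrum R =>
    exists_crt X (fun x => if x = y then (1 : R) else 0)
  refine ⟨∑ y ∈ X, e y • v y, fun x hx => ?_⟩
  have h1 : ∑ y ∈ X, e y • v y - v x =
      ∑ y ∈ X, (e y - if x = y then (1 : R) else 0) • v y := by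
    simp only [sub_smul, Finset.sum_sub_distrib, ite_smul, one_smul, zero_smul,
      Finset.sum_ite_eq, hx, if_true]
  rw [h1]
  refine Submodule.sum_mem _ (fun y _ => ?_)
  exact Submodule.smul_mem_smul (he y x hx) Submodule.mem_top

end Alg


section Top
open TopologicalSpace
variable {Ω : Type*} [TopologicalSpace Ω]

/-- all irreducible closed subsets of `G` have coheight at least `k` -/
def Codim (k : ℕ) (G : Set Ω) : Prop :=
  ∀ Z : IrreducibleCloseds Ω, (Z : Set Ω) ⊆ G → (k : ℕ∞) ≤ Order.coheight Z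

theorem Codim.mono {k : ℕ} {G G' : Set Ω} (h : Codim k G) (hG : G' ⊆ G) : Codim k G' :=
  fun Z hZ => h Z (hZ.trans hG)

theorem codim_zero (G : Set Ω) : Codim 0 G := fun Z _ => by simp

theorem codim_step [NoetherianSpace Ω] (k : ℕ) (Zc F : Set Ω) (hZc : IsClosed Zc) (hF : IsClosed F)
    (𝒟 : Finset (Set Ω)) (h𝒟c : ∀ D ∈ 𝒟, IsClosed D) (h𝒟i : ∀ D ∈ 𝒟, IsIrreducible D)
    (h𝒟k : ∀ D ∈ 𝒟, Codim k D) (h𝒟y : ∀ D ∈ 𝒟, ∃ y ∈ D, y ∉ Zc)
    (hcov : Zc ⊆ F ∪ ⋃₀ (𝒟 : Set (Set Ω))) :
    ∃ F' : Set Ω, IsClosed F' ∧ Zc ⊆ F ∪ F' ∧ Codim (k + 1) F' := by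
  classical
  obtain ⟨S, hSf, hSc, hSi, hSU⟩ := NoetherianSpace.exists_finite_set_isClosed_irreducible hZc
  lift S to Finset (Set Ω) using hSf
  let S' : Finset (Set Ω) := S.filter (fun C => ¬ C ⊆ F)
  refine ⟨⋃₀ (S' : Set (Set Ω)), ?_, ?_, ?_⟩
  · rw [Set.sUnion_eq_biUnion]
    refine Set.Finite.isClosed_biUnion (Finset.finite_toSet S') (fun C hC => hSc C ?_)
    exact (Finset.mem_filter.mp hC).1
  · intro x hx
    rw [hSU] at hx
    obtain ⟨C, hC, hxC⟩ := hx
    by_cases hCF : C ⊆ F
    · exact Or.inl (hCF hxC)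
    · exact Or.inr ⟨C, Finset.mem_filter.mpr ⟨hC, hCF⟩, hxC⟩
  · intro Z hZ
    obtain ⟨C, hCS', hZC⟩ := isIrreducible_iff_sUnion_isClosed.mp Z.isIrreducible S'
      (fun C hC => hSc C (Finset.mem_filter.mp hC).1) hZ
    obtain ⟨hCS, hCF⟩ := Finset.mem_filter.mp hCS'
    have hCZc : C ⊆ Zc := by
      rw [hSU]; exact Set.subset_sUnion_of_mem hCS
    have hcov' : C ⊆ ⋃₀ ((insert F 𝒟 : Finset (Set Ω)) : Set (Set Ω)) := by
      intro x hx
      rcases hcov (hCZc hx) with h | ⟨D, hD, hxD⟩
      · exact ⟨F, by simp, h⟩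
      · exact ⟨D, by simp [Finset.mem_coe.mp hD], hxD⟩
    obtain ⟨D, hD, hCD⟩ := isIrreducible_iff_sUnion_isClosed.mp (hSi C hCS) (insert F 𝒟)
      (fun z hz => by
        rcases Finset.mem_insert.mp hz with rfl | hz
        · exact hF
        · exact h𝒟c z hz) hcov'
    rcases Finset.mem_insert.mp hD with rfl | hD
    · exact absurd hCD hCF
    · obtain ⟨y, hyD, hyZc⟩ := h𝒟y D hD
      let Cic : IrreducibleCloseds Ω := ⟨C, hSi C hCS, hSc C hCS⟩
      let Dic : IrreducibleCloseds Ω := ⟨D, h𝒟i D hD, h𝒟c D hD⟩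
      have hlt : Cic < Dic := by
        refine lt_of_le_of_ne (show (Cic : Set Ω) ⊆ Dic from hCD) (fun heq => ?_)
        have : (Cic : Set Ω) = Dic := congrArg _ heq
        exact hyZc (hCZc (this ▸ hyD : y ∈ (Cic : Set Ω)))
      have h1 : (k : ℕ∞) ≤ Order.coheight Dic := h𝒟k D hD Dic subset_rfl
      have h2 : Order.coheight Dic + 1 ≤ Order.coheight Cic := Order.coheight_add_one_le hlt
      have h3 : Order.coheight Cic ≤ Order.coheight Z :=
        Order.coheight_anti (show Z ≤ Cic from hZC)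
      calc ((k + 1 : ℕ) : ℕ∞) = (k : ℕ∞) + 1 := by push_cast; rfl
        _ ≤ Order.coheight Dic + 1 := by gcongr
        _ ≤ Order.coheight Cic := h2
        _ ≤ Order.coheight Z := h3

end Top


section Main
open TopologicalSpace
variable {R : Type u} [CommRing R] {M : Type u} [AddCommGroup M] [Module R M]

theorem smul_mem_W0_of_mem (x : Ideal R) (a : R) (ha : a ∈ x) (m : M) : a • m ∈ W0 R M x :=
  smul_top_le_W0 R M x (Submodule.smul_mem_smul ha Submodule.mem_top)

theorem serre_prop [NoetherianSpace (MaximalSpectrum R)] [Module.FinitePresentation R M] :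
    ∀ (k h : ℕ) (s : Fin h → M) (F : Set (MaximalSpectrum R)), IsClosed F →
    (∀ x : MaximalSpectrum R, ¬ Indep x.asIdeal s → x ∈ F) →
    (∀ x : MaximalSpectrum R, h + k ≤ Module.finrank (R ⧸ x.asIdeal)
      ((M ⧸ (x.asIdeal • ⊤ : Submodule R M)) ⧸ Bq M x.asIdeal)) →
    ∀ (X : Finset (MaximalSpectrum R)), ((X : Set (MaximalSpectrum R)) ⊆ F) →
    ∀ v : MaximalSpectrum R → M,
    ∃ (t : M) (F' : Set (MaximalSpectrum R)), IsClosed F' ∧
      (∀ x ∈ X, t - v x ∈ W0 R M x.asIdeal) ∧
      (∀ x : MaximalSpectrum R, ¬ Indep x.asIdeal (Fin.snoc s t : Fin (h + 1) → M) → x ∈ F ∪ F') ∧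
      Codim k F' := by
  classical
  intro k
  induction k with
  | zero =>
    intro h s F hF hZ hrank X hX v
    obtain ⟨t, ht⟩ := exists_crt_module X v
    exact ⟨t, Set.univ, isClosed_univ, fun x hx => smul_top_le_W0 R M _ (ht x hx),
      fun x _ => Or.inr trivial, codim_zero _⟩
  | succ k ih =>
    intro h s F hF hZ hrank X hX v
    -- Step 1
    obtain ⟨s', F0, hF0, ha', hb', hc'⟩ := ih h s F hF hZ (fun x => by have := hrank x; omega) X hX v
    -- Step 2
    obtain ⟨S1, hS1f, hS1c, hS1i, hS1U⟩ := NoetherianSpace.exists_finite_set_isClosed_irreducible hF0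
    lift S1 to Finset (Set (MaximalSpectrum R)) using hS1f
    let 𝒟1 : Finset (Set (MaximalSpectrum R)) := S1.filter (fun D => ¬ D ⊆ F)
    have hy1 : ∀ D : {D // D ∈ 𝒟1}, ∃ y, y ∈ D.1 ∧ y ∉ F := fun D =>
      Set.not_subset.mp (Finset.mem_filter.mp D.2).2
    choose y1 hy1D hy1F using hy1
    let Y : Finset (MaximalSpectrum R) := 𝒟1.attach.image y1
    have hYF : ∀ y ∈ Y, y ∉ F := by
      intro y hy
      obtain ⟨D, _, rfl⟩ := Finset.mem_image.mp hy
      exact hy1F D
    have hYF0 : ∀ y ∈ Y, y ∈ F0 := by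
      intro y hy
      obtain ⟨D, _, rfl⟩ := Finset.mem_image.mp hy
      rw [hS1U]
      exact ⟨D.1, (Finset.mem_filter.mp D.2).1, hy1D D⟩
    -- Step 3
    have hu : ∀ y : MaximalSpectrum R, ∃ u : M, y ∉ F →
        Indep y.asIdeal (Fin.snoc s u : Fin (h + 1) → M) := by
      intro y
      by_cases hyF : y ∈ F
      · exact ⟨0, fun h => absurd hyF h⟩
      · have hI : Indep y.asIdeal s := by
          by_contra hcon
          exact hyF (hZ y hcon)
        haveI := y.isMaximal
        obtain ⟨u, hu⟩ := exists_indep_snoc y.asIdeal s hI (by have := hrank y; omega)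
        exact ⟨u, fun _ => hu⟩
    choose u hu using hu
    -- Step 4
    let F1 : Set (MaximalSpectrum R) := F ∪ F0
    have hF1 : IsClosed F1 := hF.union hF0
    let v' : MaximalSpectrum R → M := fun x => if x ∈ X then 0 else u x - s'
    obtain ⟨s'', F2, hF2, ha'', hb'', hc''⟩ := ih (h + 1) (Fin.snoc s s') F1 hF1 hb'
      (fun x => by have := hrank x; omega) (X ∪ Y)
      (by
        intro x hx
        rcases Finset.mem_union.mp (Finset.mem_coe.mp hx) with hx | hx
        · exact Or.inl (hX hx)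
        · exact Or.inr (hYF0 x hx)) v'
    -- Step 5
    obtain ⟨S2, hS2f, hS2c, hS2i, hS2U⟩ := NoetherianSpace.exists_finite_set_isClosed_irreducible hF2
    lift S2 to Finset (Set (MaximalSpectrum R)) using hS2f
    let 𝒟2 : Finset (Set (MaximalSpectrum R)) := S2.filter (fun E => ¬ E ⊆ F1)
    have hz2 : ∀ E : {E // E ∈ 𝒟2}, ∃ z, z ∈ E.1 ∧ z ∉ F1 := fun E =>
      Set.not_subset.mp (Finset.mem_filter.mp E.2).2
    choose z2 hz2E hz2F using hz2
    let Zs : Finset (MaximalSpectrum R) := 𝒟2.attach.image z2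
    have hZsF1 : ∀ z ∈ Zs, z ∉ F1 := by
      intro z hz
      obtain ⟨E, _, rfl⟩ := Finset.mem_image.mp hz
      exact hz2F E
    -- Step 6
    obtain ⟨a, ha⟩ := exists_crt (Y ∪ Zs) (fun x => if x ∈ Y then 1 else 0)
    have haY : ∀ y ∈ Y, a - 1 ∈ y.asIdeal := by
      intro y hy
      have := ha y (Finset.mem_union_left _ hy)
      simpa [hy] using this
    have haZ : ∀ z ∈ Zs, a ∈ z.asIdeal := by
      intro z hz
      have hzY : z ∉ Y := fun hzY => hZsF1 z hz (Or.inr (hYF0 z hzY))
      have := ha z (Finset.mem_union_right _ hz)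
      simpa [hzY] using this
    -- Step 7
    let t : M := s' + a • s''
    let Zc : Set (MaximalSpectrum R) :=
      {x | ¬ Indep x.asIdeal (Fin.snoc s t : Fin (h + 1) → M)}
    have hZc : IsClosed Zc := by
      rw [← isOpen_compl_iff]
      have : Zcᶜ = {x : MaximalSpectrum R | Indep x.asIdeal (Fin.snoc s t : Fin (h + 1) → M)} := by
        ext x; simp [Zc]
      rw [this]
      exact isOpen_indep _
    have hmark1 : ∀ D : {D // D ∈ 𝒟1}, y1 D ∉ Zc := by
      intro D
      have hyY : y1 D ∈ Y := Finset.mem_image.mpr ⟨D, Finset.mem_attach _ _, rfl⟩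
      have hyF : y1 D ∉ F := hy1F D
      have hyX : y1 D ∉ X := fun h => hyF (hX h)
      show ¬ ¬ Indep _ _
      rw [not_not]
      refine indep_snoc_congr _ s (u (y1 D)) t ?_ (hu _ hyF)
      have h1 := ha'' (y1 D) (Finset.mem_union_right _ hyY)
      simp only [v', hyX, if_false] at h1
      have h2 : (a - 1) • s'' ∈ W0 R M (y1 D).asIdeal := smul_mem_W0_of_mem _ _ (haY _ hyY) _
      have : u (y1 D) - t = - (s'' - (u (y1 D) - s')) - (a - 1) • s'' := by
        simp only [t, sub_smul, one_smul]; abel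
      rw [this]
      exact Submodule.sub_mem _ (Submodule.neg_mem _ h1) h2
    have hmark2 : ∀ E : {E // E ∈ 𝒟2}, z2 E ∉ Zc := by
      intro E
      have hzZ : z2 E ∈ Zs := Finset.mem_image.mpr ⟨E, Finset.mem_attach _ _, rfl⟩
      have hzF1 : z2 E ∉ F1 := hz2F E
      show ¬ ¬ Indep _ _
      rw [not_not]
      have hI : Indep (z2 E).asIdeal (Fin.snoc s s' : Fin (h + 1) → M) := by
        by_contra hcon
        exact hzF1 (hb' _ hcon)
      refine indep_snoc_congr _ s s' t ?_ hI
      have h2 : a • s'' ∈ W0 R M (z2 E).asIdeal := smul_mem_W0_of_mem _ _ (haZ _ hzZ) _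
      have : s' - t = - (a • s'') := by simp only [t]; abel
      rw [this]
      exact Submodule.neg_mem _ h2
    obtain ⟨F', hF', hcov, hcodim⟩ := codim_step k Zc F hZc hF (𝒟1 ∪ 𝒟2)
      (by
        intro D hD
        rcases Finset.mem_union.mp hD with hD | hD
        · exact hS1c D (Finset.mem_filter.mp hD).1
        · exact hS2c D (Finset.mem_filter.mp hD).1)
      (by
        intro D hD
        rcases Finset.mem_union.mp hD with hD | hD
        · exact hS1i D (Finset.mem_filter.mp hD).1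
        · exact hS2i D (Finset.mem_filter.mp hD).1)
      (by
        intro D hD
        rcases Finset.mem_union.mp hD with hD | hD
        · refine hc'.mono ?_
          rw [hS1U]
          exact Set.subset_sUnion_of_mem (Finset.mem_filter.mp hD).1
        · refine hc''.mono ?_
          rw [hS2U]
          exact Set.subset_sUnion_of_mem (Finset.mem_filter.mp hD).1)
      (by
        intro D hD
        rcases Finset.mem_union.mp hD with hD | hD
        · exact ⟨y1 ⟨D, hD⟩, hy1D ⟨D, hD⟩, hmark1 ⟨D, hD⟩⟩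
        · exact ⟨z2 ⟨D, hD⟩, hz2E ⟨D, hD⟩, hmark2 ⟨D, hD⟩⟩)
      (by
        intro x hx
        have hx' : ¬ Indep x.asIdeal
            (Fin.snoc (Fin.snoc s s' : Fin (h + 1) → M) s'' : Fin (h + 1 + 1) → M) :=
          fun hI => hx (indep_snoc_add_smul _ s s' s'' a hI)
        have hF0case : x ∈ F0 → x ∈ F ∪ ⋃₀ ((𝒟1 ∪ 𝒟2 : Finset _) : Set (Set (MaximalSpectrum R))) := by
          intro hxF0
          rw [hS1U] at hxF0
          obtain ⟨D, hD, hxD⟩ := hxF0
          by_cases hDF : D ⊆ F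
          · exact Or.inl (hDF hxD)
          · refine Or.inr ⟨D, ?_, hxD⟩
            exact Finset.mem_coe.mpr (Finset.mem_union_left _ (Finset.mem_filter.mpr ⟨hD, hDF⟩))
        rcases hb'' x hx' with (hxF | hxF0) | hxF2
        · exact Or.inl hxF
        · exact hF0case hxF0
        · rw [hS2U] at hxF2
          obtain ⟨E, hE, hxE⟩ := hxF2
          by_cases hEF : E ⊆ F1
          · rcases hEF hxE with hxF | hxF0
            · exact Or.inl hxF
            · exact hF0case hxF0
          · refine Or.inr ⟨E, ?_, hxE⟩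
            exact Finset.mem_coe.mpr (Finset.mem_union_right _ (Finset.mem_filter.mpr ⟨hE, hEF⟩)))
    refine ⟨t, F', hF', ?_, fun x hx => hcov hx, hcodim⟩
    intro x hx
    have h1 := ha' x hx
    have h2 := ha'' x (Finset.mem_union_left _ hx)
    simp only [v', hx, if_true, sub_zero] at h2
    have : t - v x = (s' - v x) + a • s'' := by simp only [t]; abel
    rw [this]
    exact Submodule.add_mem _ h1 (Submodule.smul_mem _ a h2)

end Main

end Groth.Agent.H4.SerreSplit
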