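import Mathlib
import Groth.Agent.H4.SerreSplit
set_option autoImplicit false
universe u
namespace Groth.Agent.H4.SerreSplit
open Submodule Groth.Agent.S7147

section
variable {R : Type u} [CommRing R] {M : Type u} [AddCommGroup M] [Module R M]

theorem indep_of_local_summand [Module.FinitePresentation R M] (x : Ideal R) [x.IsMaximal] (r : ℕ)
    (f : (Fin r → Localization.AtPrime x) →ₗ[Localization.AtPrime x]
      LocalizedModule x.primeCompl M)
    (g : LocalizedModule x.primeCompl M →ₗ[Localization.AtPrime x]
      (Fin r → Localization.AtPrime x))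
    (hgf : g ∘ₗ f = LinearMap.id) :
    ∃ m : Fin r → M, Indep x m := by
  classical
  haveI := Ideal.IsMaximal.isPrime ‹x.IsMaximal›
  let S := x.primeCompl
  let Rx := Localization.AtPrime x
  have hsurj : ∀ i : Fin r, ∃ (m : M) (t : S), f (Pi.single i 1) = LocalizedModule.mk m t := by
    intro i
    induction f (Pi.single i 1) using LocalizedModule.induction_on with
    | h m t => exact ⟨m, t, rfl⟩
  choose m t hmt using hsurj
  refine ⟨m, ?_⟩
  have hg1 : ∀ i j, g (LocalizedModule.mkLinearMap S M (m i)) j =
      if j = i then algebraMap R Rx (t i) else 0 := by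
    intro i j
    have h1 : LocalizedModule.mkLinearMap S M (m i) = ((t i : S) : R) • f (Pi.single i 1) := by
      rw [hmt i, LocalizedModule.mkLinearMap_apply, LocalizedModule.smul'_mk,
        ← Submonoid.smul_def, LocalizedModule.mk_cancel]
    have h2 : g (f (Pi.single i 1)) = Pi.single i 1 := LinearMap.congr_fun hgf _
    rw [h1, ← algebraMap_smul Rx ((t i : S) : R) (f (Pi.single i 1)), map_smul, h2]
    simp only [Pi.smul_apply, Pi.single_apply, smul_eq_mul, mul_ite, mul_one, mul_zero]
  let gj : Fin r → (M →ₗ[R] Rx) := fun j =>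
    ((LinearMap.proj j : (Fin r → Rx) →ₗ[Rx] Rx).restrictScalars R) ∘ₗ
      (g.restrictScalars R) ∘ₗ (LocalizedModule.mkLinearMap S M)
  have hlift : ∀ j, ∃ (φ : M →ₗ[R] R) (u : S), (Algebra.linearMap R Rx) ∘ₗ φ = u • gj j :=
    fun j => Module.FinitePresentation.exists_lift_of_isLocalizedModule S
      (Algebra.linearMap R Rx) (gj j)
  choose φ u hφu using hlift
  intro a ha j
  have h3 : φ j (∑ i, a i • m i) ∈ x := ha (φ j)
  have h4 : algebraMap R Rx (φ j (∑ i, a i • m i)) =
      algebraMap R Rx ((u j : R) * (a j * (t j : R))) := by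
    have := LinearMap.congr_fun (hφu j) (∑ i, a i • m i)
    simp only [LinearMap.comp_apply, Algebra.linearMap_apply, LinearMap.smul_apply] at this
    rw [this]
    simp only [gj, LinearMap.comp_apply, LinearMap.restrictScalars_apply, LinearMap.proj_apply,
      map_sum, map_smul, Finset.sum_apply, Pi.smul_apply, hg1]
    simp [Submonoid.smul_def, Algebra.smul_def]
  have h5 : (u j : R) * (a j * (t j : R)) ∈ x := by
    rw [← IsLocalization.AtPrime.to_map_mem_maximal_iff Rx x, ← h4,
      IsLocalization.AtPrime.to_map_mem_maximal_iff Rx x]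
    exact h3
  rcases Ideal.IsPrime.mem_or_mem ‹x.IsPrime› h5 with h | h
  · exact absurd h (u j).2
  · rcases Ideal.IsPrime.mem_or_mem ‹x.IsPrime› h with h | h
    · exact h
    · exact absurd h (t j).2


theorem card_le_finrank_of_indep [Module.Finite R M] (x : Ideal R) [x.IsMaximal] (r : ℕ)
    (m : Fin r → M) (hm : Indep x m) :
    r ≤ Module.finrank (R ⧸ x) ((M ⧸ (x • ⊤ : Submodule R M)) ⧸ Bq M x) := by
  classical
  letI : Field (R ⧸ x) := Ideal.Quotient.field x
  haveI : Module.Finite (R ⧸ x) (M ⧸ (x • ⊤ : Submodule R M)) :=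
    Module.Finite.of_restrictScalars_finite R (R ⧸ x) _
  have hli : LinearIndependent (R ⧸ x) (fun i => img x (m i)) := (indep_iff x m).mpr hm
  have := hli.fintype_card_le_finrank
  simpa using this

end
end Groth.Agent.H4.SerreSplit
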