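import Groth.Prelude.Def_W4stktopologysheavesBas
import Mathlib.Topology.Bases
import Mathlib.Topology.Sets.Opens

/-!
# Helper library: sheaves on a basis (helper4)
-/

namespace Groth.Agent.H4.ShBasis

open TopologicalSpace Opposite CategoryTheory ShB

universe u

variable {X : Type u} [TopologicalSpace X] {B : Set (Opens X)}

/-- A presheaf is separated for all coverings by members of the basis (relative to a cofinal
system of coverings for which it glues uniquely). -/
theorem separated_of_cofinal (F : Pre B) (C : ∀ U : B, Set (Cover B))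
    (hCU : ∀ U, ∀ c ∈ C U, c.U = U)
    (hC : ∀ (U : B) (ι : Type u) (V : ι → B), (∀ i, (V i : Opens X) ≤ (U : Opens X)) →
      (U : Opens X) ≤ ⨆ i, (V i : Opens X) →
      ∃ c ∈ C U, ∀ i' : c.ι, ∃ i, (c.V i' : Opens X) ≤ (V i : Opens X))
    (H : ∀ U, ∀ c ∈ C U, GluesUniquely F c)
    (U : B) (ι : Type u) (V : ι → B) (hVU : ∀ i, (V i : Opens X) ≤ (U : Opens X))
    (hcov : (U : Opens X) ≤ ⨆ i, (V i : Opens X)) (a b : F.obj U)
    (hab : ∀ i, F.res (hVU i) a = F.res (hVU i) b) : a = b := by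
  obtain ⟨c, hc, href⟩ := hC U ι V hVU hcov
  have hcU := hCU U c hc
  subst hcU
  have hglue := H c.U c hc (fun i' => F.res (c.V_le i') a) (by
    intro i j k
    rw [F.res_comp, F.res_comp])
  apply hglue.unique (fun i' => rfl)
  intro i'
  obtain ⟨i, hi⟩ := href i'
  have h1 : F.res (c.V_le i') b = F.res hi (F.res (hVU i) b) := by rw [F.res_comp]
  have h2 : F.res (c.V_le i') a = F.res hi (F.res (hVU i) a) := by rw [F.res_comp]
  rw [h1, h2, hab i]

/-- Compatibility on the chosen coverings of intersections implies compatibility on every member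
of the basis contained in an intersection. -/
theorem compat_on_basis (hB : Opens.IsBasis B) (F : Pre B)
    (sep : ∀ (U : B) (ι : Type u) (V : ι → B) (hVU : ∀ i, (V i : Opens X) ≤ (U : Opens X))
      (_ : (U : Opens X) ≤ ⨆ i, (V i : Opens X)) (a b : F.obj U)
      (_ : ∀ i, F.res (hVU i) a = F.res (hVU i) b), a = b)
    (c : Cover B) (s : ∀ i, F.obj (c.V i))
    (hs : ∀ i j k, F.res (c.W_le_left i j k) (s i) = F.res (c.W_le_right i j k) (s j))
    (i j : c.ι) (B0 : B) (hBi : (B0 : Opens X) ≤ c.V i) (hBj : (B0 : Opens X) ≤ c.V j) :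
    F.res hBi (s i) = F.res hBj (s j) := by
  let ι2 := Σ k : c.κ i j, {B' : B // (B' : Opens X) ≤ (B0 : Opens X) ⊓ (c.W i j k : Opens X)}
  apply sep B0 ι2 (fun p => p.2.1) (fun p => p.2.2.trans inf_le_left)
  · intro x hx
    have hx2 : x ∈ (c.V i : Opens X) ⊓ (c.V j : Opens X) := ⟨hBi hx, hBj hx⟩
    have hx3 := c.W_cover i j hx2
    rw [Opens.mem_iSup] at hx3
    obtain ⟨k, hk⟩ := hx3
    have hx4 : x ∈ (B0 : Opens X) ⊓ (c.W i j k : Opens X) := ⟨hx, hk⟩
    obtain ⟨B', hB', hxB', hB'le⟩ := Opens.isBasis_iff_nbhd.1 hB hx4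
    rw [Opens.mem_iSup]
    exact ⟨⟨k, ⟨⟨B', hB'⟩, hB'le⟩⟩, hxB'⟩
  · rintro ⟨k, ⟨B', hB'le⟩⟩
    have hW : (B' : Opens X) ≤ (c.W i j k : Opens X) := hB'le.trans inf_le_right
    rw [F.res_comp, F.res_comp]
    have h1 : F.res (hW.trans (c.W_le_left i j k)) (s i) =
        F.res hW (F.res (c.W_le_left i j k) (s i)) := by rw [F.res_comp]
    have h2 : F.res (hW.trans (c.W_le_right i j k)) (s j) =
        F.res hW (F.res (c.W_le_right i j k) (s j)) := by rw [F.res_comp]
    exact h1.trans ((congrArg _ (hs i j k)).trans h2.symm)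

/-- Stacks 009J: a presheaf on a basis is a sheaf as soon as it glues uniquely for a cofinal
system of coverings. -/
theorem isSheaf_of_cofinal (hB : Opens.IsBasis B) (F : Pre B) (C : ∀ U : B, Set (Cover B))
    (hCU : ∀ U, ∀ c ∈ C U, c.U = U)
    (hC : ∀ (U : B) (ι : Type u) (V : ι → B), (∀ i, (V i : Opens X) ≤ (U : Opens X)) →
      (U : Opens X) ≤ ⨆ i, (V i : Opens X) →
      ∃ c ∈ C U, ∀ i' : c.ι, ∃ i, (c.V i' : Opens X) ≤ (V i : Opens X))
    (H : ∀ U, ∀ c ∈ C U, GluesUniquely F c) : IsSheaf F := by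
  have sep := separated_of_cofinal F C hCU hC H
  intro c s hs
  obtain ⟨c', hc', href⟩ := hC c.U c.ι c.V c.V_le c.V_cover
  choose α hα using href
  have hcU := hCU c.U c' hc'
  have hglue := H c.U c' hc' (fun i' => F.res (hα i') (s (α i'))) (by
    intro i' j' k'
    rw [F.res_comp, F.res_comp]
    exact compat_on_basis hB F sep c s hs (α i') (α j') (c'.W i' j' k') _ _)
  obtain ⟨t', ht', -⟩ := hglue
  have hU' : (c.U : Opens X) ≤ (c'.U : Opens X) := by rw [hcU]
  have hU'' : (c'.U : Opens X) ≤ (c.U : Opens X) := by rw [hcU]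
  refine ⟨F.res hU' t', ?_, ?_⟩
  · intro i
    let ι2 := Σ i' : c'.ι,
      {B' : B // (B' : Opens X) ≤ (c.V i : Opens X) ⊓ (c'.V i' : Opens X)}
    apply sep (c.V i) ι2 (fun p => p.2.1) (fun p => p.2.2.trans inf_le_left)
    · intro x hx
      have hx2 : x ∈ (c'.U : Opens X) := hU' (c.V_le i hx)
      have hx3 := c'.V_cover hx2
      rw [Opens.mem_iSup] at hx3
      obtain ⟨i', hi'⟩ := hx3
      have hx4 : x ∈ (c.V i : Opens X) ⊓ (c'.V i' : Opens X) := ⟨hx, hi'⟩
      obtain ⟨B', hB', hxB', hB'le⟩ := Opens.isBasis_iff_nbhd.1 hB hx4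
      rw [Opens.mem_iSup]
      exact ⟨⟨i', ⟨⟨B', hB'⟩, hB'le⟩⟩, hxB'⟩
    · rintro ⟨i', ⟨B', hB'le⟩⟩
      have hV' : (B' : Opens X) ≤ (c'.V i' : Opens X) := hB'le.trans inf_le_right
      have hVi : (B' : Opens X) ≤ (c.V i : Opens X) := hB'le.trans inf_le_left
      rw [F.res_comp, F.res_comp]
      have h1 : F.res ((hVi.trans (c.V_le i)).trans hU') t' =
          F.res hV' (F.res (c'.V_le i') t') := by rw [F.res_comp]
      rw [h1, ht' i', F.res_comp]
      exact compat_on_basis hB F sep c s hs (α i') i B' _ _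
  · intro t2 ht2
    apply sep c.U c.ι c.V c.V_le c.V_cover
    intro i
    rw [ht2 i, F.res_comp]
    let ι2 := Σ i' : c'.ι,
      {B' : B // (B' : Opens X) ≤ (c.V i : Opens X) ⊓ (c'.V i' : Opens X)}
    apply sep (c.V i) ι2 (fun p => p.2.1) (fun p => p.2.2.trans inf_le_left)
    · intro x hx
      have hx2 : x ∈ (c'.U : Opens X) := hU' (c.V_le i hx)
      have hx3 := c'.V_cover hx2
      rw [Opens.mem_iSup] at hx3
      obtain ⟨i', hi'⟩ := hx3
      have hx4 : x ∈ (c.V i : Opens X) ⊓ (c'.V i' : Opens X) := ⟨hx, hi'⟩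
      obtain ⟨B', hB', hxB', hB'le⟩ := Opens.isBasis_iff_nbhd.1 hB hx4
      rw [Opens.mem_iSup]
      exact ⟨⟨i', ⟨⟨B', hB'⟩, hB'le⟩⟩, hxB'⟩
    · rintro ⟨i', ⟨B', hB'le⟩⟩
      have hV' : (B' : Opens X) ≤ (c'.V i' : Opens X) := hB'le.trans inf_le_right
      have hVi : (B' : Opens X) ≤ (c.V i : Opens X) := hB'le.trans inf_le_left
      rw [F.res_comp]
      have h1 : F.res ((hVi.trans (c.V_le i)).trans hU') t' =
          F.res hV' (F.res (c'.V_le i') t') := by rw [F.res_comp]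
      rw [h1, ht' i', F.res_comp]
      exact (compat_on_basis hB F sep c s hs (α i') i B' _ _).symm

end Groth.Agent.H4.ShBasis
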