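import Groth.Agent.H4.ShBasis

/-!
# Helper library: sheaves on a basis closed under relative intersections (helper4)
-/

namespace Groth.Agent.H4.ShBasis

open TopologicalSpace Opposite CategoryTheory ShB

universe u

variable {X : Type u} [TopologicalSpace X] {B : Set (Opens X)}

/-- Replace the chosen coverings of the intersections by the intersections themselves. -/
def interCover (hBi : ∀ U ∈ B, ∀ U' ∈ B, ∀ U'' ∈ B, U' ≤ U → U'' ≤ U → U' ⊓ U'' ∈ B)
    (c : Cover B) : Cover B where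
  U := c.U
  ι := c.ι
  V := c.V
  V_le := c.V_le
  V_cover := c.V_cover
  κ _ _ := PUnit
  W i j _ := ⟨(c.V i : Opens X) ⊓ c.V j,
    hBi c.U c.U.2 _ (c.V i).2 _ (c.V j).2 (c.V_le i) (c.V_le j)⟩
  W_le_left _ _ _ := inf_le_left
  W_le_right _ _ _ := inf_le_right
  W_cover i j := le_iSup (fun _ : PUnit => (c.V i : Opens X) ⊓ c.V j) PUnit.unit

theorem isSheaf_iff_of_inter_mem (hB : Opens.IsBasis B)
    (hBi : ∀ U ∈ B, ∀ U' ∈ B, ∀ U'' ∈ B, U' ≤ U → U'' ≤ U → U' ⊓ U'' ∈ B)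
    (F : Pre B) (C : ∀ U : B, Set (Cover B)) (hCU : ∀ U, ∀ c ∈ C U, c.U = U)
    (hC : ∀ (U : B) (ι : Type u) (V : ι → B), (∀ i, (V i : Opens X) ≤ (U : Opens X)) →
      (U : Opens X) ≤ ⨆ i, (V i : Opens X) →
      ∃ c ∈ C U, ∀ i' : c.ι, ∃ i, (c.V i' : Opens X) ≤ (V i : Opens X)) :
    IsSheaf F ↔ ∀ (U : B), ∀ c ∈ C U, GluesUniquely F (interCover hBi c) := by
  constructor
  · intro h U c _
    exact h _
  · intro H
    apply isSheaf_of_cofinal hB F (fun U => interCover hBi '' C U)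
    · rintro U _ ⟨c, hc, rfl⟩
      exact hCU U c hc
    · intro U ι V hVU hcov
      obtain ⟨c, hc, href⟩ := hC U ι V hVU hcov
      exact ⟨interCover hBi c, ⟨c, hc, rfl⟩, href⟩
    · rintro U _ ⟨c, hc, rfl⟩
      exact H U c hc

end Groth.Agent.H4.ShBasis
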