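import Groth.Agent.H4.ShBasis

/-!
# Helper library: stalks of sheaves on a basis (helper4)
-/

namespace Groth.Agent.H4.ShBasis

open TopologicalSpace Opposite CategoryTheory ShB

universe u

variable {X : Type u} [TopologicalSpace X] {B : Set (Opens X)}

theorem stalkRel_equivalence (hB : Opens.IsBasis B) (F : Pre B) (x : X) :
    Equivalence (StalkRel F x) := by
  refine ⟨?_, ?_, ?_⟩
  · rintro ⟨⟨U, hx⟩, s⟩
    exact ⟨U, hx, le_refl _, le_refl _, rfl⟩
  · rintro a b ⟨W, hxW, ha, hb, h⟩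
    exact ⟨W, hxW, hb, ha, h.symm⟩
  · rintro a b c ⟨W1, hxW1, ha1, hb1, h1⟩ ⟨W2, hxW2, hb2, hc2, h2⟩
    have hx : x ∈ (W1 : Opens X) ⊓ (W2 : Opens X) := ⟨hxW1, hxW2⟩
    obtain ⟨W3, hW3, hxW3, hW3le⟩ := Opens.isBasis_iff_nbhd.1 hB hx
    have h31 : ((⟨W3, hW3⟩ : B) : Opens X) ≤ (W1 : Opens X) := hW3le.trans inf_le_left
    have h32 : ((⟨W3, hW3⟩ : B) : Opens X) ≤ (W2 : Opens X) := hW3le.trans inf_le_right
    refine ⟨⟨W3, hW3⟩, hxW3, h31.trans ha1, h32.trans hc2, ?_⟩
    have e1 : F.res (h31.trans ha1) a.2 = F.res h31 (F.res ha1 a.2) := by rw [F.res_comp]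
    have e2 : F.res h31 (F.res hb1 b.2) = F.res h32 (F.res hb2 b.2) := by
      rw [F.res_comp, F.res_comp]
    have e3 : F.res (h32.trans hc2) c.2 = F.res h32 (F.res hc2 c.2) := by rw [F.res_comp]
    rw [e1, h1, e2, h2, ← e3]

theorem germ_eq_iff (hB : Opens.IsBasis B) (F : Pre B) (x : X) {U U' : B}
    (hx : x ∈ (U : Opens X)) (hx' : x ∈ (U' : Opens X)) (s : F.obj U) (s' : F.obj U') :
    germ F x hx s = germ F x hx' s' ↔
      ∃ (W : B) (_ : x ∈ (W : Opens X)) (h1 : (W : Opens X) ≤ (U : Opens X))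
        (h2 : (W : Opens X) ≤ (U' : Opens X)), F.res h1 s = F.res h2 s' := by
  have h1 : germ F x hx s = germ F x hx' s' ↔
      Relation.EqvGen (StalkRel F x) ⟨⟨U, hx⟩, s⟩ ⟨⟨U', hx'⟩, s'⟩ :=
    Quot.eq (r := StalkRel F x)
  rw [h1, (stalkRel_equivalence hB F x).eqvGen_iff]
  rfl

theorem germ_res (F : Pre B) (x : X) {U V : B} (h : (V : Opens X) ≤ (U : Opens X))
    (hx : x ∈ (V : Opens X)) (t : F.obj U) :
    germ F x hx (F.res h t) = germ F x (h hx) t := by
  apply Quot.sound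
  exact ⟨V, hx, le_refl _, h, F.res_id _ _⟩

/-- The covering datum attached to a family of members of the basis covering a member. -/
def Cover.ofFamily (hB : Opens.IsBasis B) (U : B) (ι : Type u) (V : ι → B)
    (hVU : ∀ i, (V i : Opens X) ≤ (U : Opens X)) (hcov : (U : Opens X) ≤ ⨆ i, (V i : Opens X)) :
    Cover B where
  U := U
  ι := ι
  V := V
  V_le := hVU
  V_cover := hcov
  κ i j := {B' : B // (B' : Opens X) ≤ (V i : Opens X) ⊓ (V j : Opens X)}
  W _ _ B' := B'.1
  W_le_left _ _ B' := B'.2.trans inf_le_left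
  W_le_right _ _ B' := B'.2.trans inf_le_right
  W_cover i j := by
    intro x hx
    obtain ⟨B', hB', hxB', hB'le⟩ := Opens.isBasis_iff_nbhd.1 hB hx
    rw [Opens.mem_iSup]
    exact ⟨⟨⟨B', hB'⟩, hB'le⟩, hxB'⟩

theorem separated_of_isSheaf (hB : Opens.IsBasis B) (F : Pre B) (hF : IsSheaf F)
    (U : B) (ι : Type u) (V : ι → B) (hVU : ∀ i, (V i : Opens X) ≤ (U : Opens X))
    (hcov : (U : Opens X) ≤ ⨆ i, (V i : Opens X)) (a b : F.obj U)
    (hab : ∀ i, F.res (hVU i) a = F.res (hVU i) b) : a = b := by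
  have hglue := hF (Cover.ofFamily hB U ι V hVU hcov) (fun i => F.res (hVU i) a) (by
    intro i j k
    rw [F.res_comp, F.res_comp])
  exact hglue.unique (fun i => rfl) (fun i => (hab i).symm)

theorem sections_eq_compatible_germs (hB : Opens.IsBasis B) (F : Pre B) (hF : IsSheaf F) (U : B) :
    Function.Injective (fun (s : F.obj U) (x : (U : Opens X)) => germ F x.1 x.2 s) ∧
    ∀ f : ∀ x : (U : Opens X), Stalk F x.1,
      (∃ s : F.obj U, ∀ x, germ F x.1 x.2 s = f x) ↔
      ∀ x : (U : Opens X), ∃ (V : B) (_ : x.1 ∈ (V : Opens X))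
        (hVU : (V : Opens X) ≤ (U : Opens X)) (σ : F.obj V),
        ∀ (y : X) (hy : y ∈ (V : Opens X)), germ F y hy σ = f ⟨y, hVU hy⟩ := by
  constructor
  · intro s s' h
    have h1 : ∀ x : (U : Opens X), ∃ (W : B) (_ : x.1 ∈ (W : Opens X))
        (h1 : (W : Opens X) ≤ (U : Opens X)) (h2 : (W : Opens X) ≤ (U : Opens X)),
        F.res h1 s = F.res h2 s' := fun x =>
      (germ_eq_iff hB F x.1 x.2 x.2 s s').1 (congrFun h x)
    choose W hxW hW1 hW2 hres using h1
    apply separated_of_isSheaf hB F hF U (U : Opens X) W hW1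
    · intro x hx
      rw [Opens.mem_iSup]
      exact ⟨⟨x, hx⟩, hxW ⟨x, hx⟩⟩
    · intro x
      exact hres x
  · intro f
    constructor
    · rintro ⟨s, hs⟩ x
      exact ⟨U, x.2, le_refl _, s, fun y hy => hs ⟨y, hy⟩⟩
    · intro h
      choose V hxV hVU σ hσ using h
      let c : Cover B :=
        { U := U
          ι := (U : Opens X)
          V := V
          V_le := hVU
          V_cover := by
            intro x hx
            rw [Opens.mem_iSup]
            exact ⟨⟨x, hx⟩, hxV ⟨x, hx⟩⟩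
          κ := fun x x' => {B' : B // ∃ (h1 : (B' : Opens X) ≤ (V x : Opens X))
            (h2 : (B' : Opens X) ≤ (V x' : Opens X)), F.res h1 (σ x) = F.res h2 (σ x')}
          W := fun _ _ B' => B'.1
          W_le_left := fun _ _ B' => B'.2.choose
          W_le_right := fun _ _ B' => B'.2.choose_spec.choose
          W_cover := by
            intro x x' y hy
            have e : germ F y hy.1 (σ x) = germ F y hy.2 (σ x') := by
              rw [hσ x y hy.1, hσ x' y hy.2]
            obtain ⟨W, hyW, h1, h2, hres⟩ := (germ_eq_iff hB F y hy.1 hy.2 _ _).1 e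
            rw [Opens.mem_iSup]
            exact ⟨⟨W, h1, h2, hres⟩, hyW⟩ }
      have hglue := hF c σ (by
        intro x x' B'
        exact B'.2.choose_spec.choose_spec)
      obtain ⟨t, ht, -⟩ := hglue
      refine ⟨t, fun x => ?_⟩
      have h1 : germ F x.1 (hxV x) (F.res (hVU x) t) = germ F x.1 x.2 t :=
        germ_res F x.1 (hVU x) (hxV x) t
      have h2 : F.res (hVU x) t = σ x := ht x
      rw [← h1, h2, hσ x x.1 (hxV x)]

end Groth.Agent.H4.ShBasis
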