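import Groth.Agent.H4.ShBasis3
import Mathlib.Topology.Sheaves.LocalPredicate
import Mathlib.Topology.Sheaves.SheafCondition.Sites

/-!
# Helper library: extending a sheaf on a basis to a sheaf on the space (helper4)
-/

namespace Groth.Agent.H4.ShBasis

open TopologicalSpace Opposite CategoryTheory ShB TopCat

universe u

variable {X : Type u} [TopologicalSpace X] {B : Set (Opens X)}

/-- germ families of a single section over a member of the basis -/
def germPrelocal (F : Pre B) : PrelocalPredicate (X := TopCat.of X) (fun x => Stalk F x) where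
  pred {U} f := ∃ (V : B) (hUV : U ≤ (V : Opens X)) (σ : F.obj V),
    ∀ x : U, f x = germ F x.1 (hUV x.2) σ
  res {U U'} i f := by
    rintro ⟨V, hUV, σ, h⟩
    exact ⟨V, i.le.trans hUV, σ, fun x => h ⟨x.1, i.le x.2⟩⟩

/-- the extension of a sheaf on a basis -/
noncomputable def ext (F : Pre B) : TopCat.Sheaf (Type u) (TopCat.of X) :=
  subsheafToTypes (germPrelocal F).sheafify

theorem ext_pred_iff (hB : Opens.IsBasis B) (F : Pre B) (U : B)
    (f : ∀ x : (U : Opens X), Stalk F x.1) :
    (germPrelocal F).sheafify.pred f ↔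
      ∀ x : (U : Opens X), ∃ (V : B) (_ : x.1 ∈ (V : Opens X))
        (hVU : (V : Opens X) ≤ (U : Opens X)) (σ : F.obj V),
        ∀ (y : X) (hy : y ∈ (V : Opens X)), germ F y hy σ = f ⟨y, hVU hy⟩ := by
  constructor
  · intro h x
    obtain ⟨V', hxV', i, V₀, hV', σ₀, hσ⟩ := h x
    obtain ⟨V, hV, hxV, hVV'⟩ := Opens.isBasis_iff_nbhd.1 hB hxV'
    refine ⟨⟨V, hV⟩, hxV, hVV'.trans i.le, F.res (U := V₀) (V := ⟨V, hV⟩) (hVV'.trans hV') σ₀, ?_⟩
    intro y hy
    rw [germ_res]
    exact (hσ ⟨y, hVV' hy⟩).symm
  · intro h x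
    obtain ⟨V, hxV, hVU, σ, hσ⟩ := h x
    exact ⟨V, hxV, homOfLE hVU, V, le_rfl, σ, fun y => (hσ y.1 y.2).symm⟩

/-- sections of the extension over a member of the basis come from a unique section of `F` -/
theorem exists_section_of_ext (hB : Opens.IsBasis B) (F : Pre B) (hF : IsSheaf F) (U : B)
    (t : (ext F).presheaf.obj (op (U : Opens X))) :
    ∃ s : F.obj U, ∀ x : (U : Opens X), germ F x.1 x.2 s = t.1 x :=
  ((sections_eq_compatible_germs hB F hF U).2 t.1).2 ((ext_pred_iff hB F U t.1).1 t.2)

/-- the isomorphism between the restriction of the extension and the original presheaf -/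
noncomputable def extIso (hB : Opens.IsBasis B) (F : Pre B) (hF : IsSheaf F) :
    ShB.Iso (ShB.restrict B (ext F).presheaf) F where
  hom :=
    { app := fun U t => (exists_section_of_ext hB F hF U t).choose
      natural := by
        intro U V h t
        apply (sections_eq_compatible_germs hB F hF V).1
        funext x
        show germ F x.1 x.2 _ = germ F x.1 x.2 _
        rw [germ_res, (exists_section_of_ext hB F hF U t).choose_spec ⟨x.1, h x.2⟩,
          (exists_section_of_ext hB F hF V _).choose_spec x]
        rfl }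
  inv :=
    { app := fun U s => ⟨fun x => germ F x.1 x.2 s,
        (ext_pred_iff hB F U _).2 (fun x => ⟨U, x.2, le_rfl, s, fun y hy => rfl⟩)⟩
      natural := by
        intro U V h s
        apply Subtype.ext
        funext x
        exact (germ_res F x.1 h x.2 s).symm }
  hom_inv := by
    intro U t
    apply Subtype.ext
    funext x
    exact (exists_section_of_ext hB F hF U t).choose_spec x
  inv_hom := by
    intro U s
    apply (sections_eq_compatible_germs hB F hF U).1
    funext x
    exact (exists_section_of_ext hB F hF U _).choose_spec x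

section Uniq

variable (hB : Opens.IsBasis B) (F : Pre B)
  (G G' : TopCat.Sheaf (Type u) (TopCat.of X))
  (e : ShB.Iso (ShB.restrict B G.presheaf) F) (e' : ShB.Iso (ShB.restrict B G'.presheaf) F)

/-- the family of members of the basis -/
abbrev famB (B : Set (Opens X)) : B → Opens (TopCat.of X) := fun U => (U : Opens X)

theorem range_famB : Set.range (famB B) = B := Subtype.range_coe

/-- accessor for the type synonym -/
def toB (U : InducedCategory (Opens (TopCat.of X)) (famB B)) : B := U

/-- the comparison on the basis -/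
def basisHom : (inducedFunctor (famB B)).op ⋙ G.1 ⟶ (inducedFunctor (famB B)).op ⋙ G'.1 where
  app U := TypeCat.ofHom (fun s => e'.inv.app (toB U.unop) (e.hom.app (toB U.unop) s))
  naturality := by
    intro U V f
    ext s
    have h : ((toB V.unop : B) : Opens X) ≤ ((toB U.unop : B) : Opens X) := f.unop.hom.le
    have n1 := e.hom.natural h s
    have n2 := e'.inv.natural h (e.hom.app (toB U.unop) s)
    show e'.inv.app (toB V.unop) (e.hom.app (toB V.unop) ((ShB.restrict B G.presheaf).res h s)) =
      (ShB.restrict B G'.presheaf).res h (e'.inv.app (toB U.unop) (e.hom.app (toB U.unop) s))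
    rw [n2, n1]

include hB in
theorem existsUnique_iso :
    ∃! φ : G ⟶ G', IsIso φ ∧ ∀ (U : B) (s : G.presheaf.obj (op (U : Opens X))),
      e'.hom.app U (φ.1.app (op (U : Opens X)) s) = e.hom.app U s := by
  have hB' : Opens.IsBasis (Set.range (famB B)) := by
    rw [range_famB]
    exact hB
  let φ₀ : G.1 ⟶ G'.1 := TopCat.Sheaf.restrictHomEquivHom G.1 G' hB' (basisHom F G G' e e')
  have hφ₀ : ∀ U : B, φ₀.app (op (U : Opens X)) = (basisHom F G G' e e').app (op U) :=
    fun U => TopCat.Sheaf.extend_hom_app G.1 G' hB' _ U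
  refine ⟨⟨φ₀⟩, ⟨?_, ?_⟩, ?_⟩
  · apply TopCat.Sheaf.isIso_iff_isIso_basis (B := famB B) hB'
    intro U
    show IsIso (φ₀.app (op (U : Opens X)))
    rw [hφ₀ U, isIso_iff_bijective]
    constructor
    · intro s s' h
      have h1 : e'.inv.app U (e.hom.app U s) = e'.inv.app U (e.hom.app U s') := h
      have h2 := congrArg (e'.hom.app U) h1
      rw [e'.inv_hom, e'.inv_hom] at h2
      have h3 := congrArg (e.inv.app U) h2
      rw [e.hom_inv, e.hom_inv] at h3
      exact h3
    · intro t
      refine ⟨e.inv.app U (e'.hom.app U t), ?_⟩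
      show e'.inv.app U (e.hom.app U (e.inv.app U (e'.hom.app U t))) = t
      rw [e.inv_hom, e'.hom_inv]
  · intro U s
    show e'.hom.app U (φ₀.app (op (U : Opens X)) s) = e.hom.app U s
    rw [hφ₀ U]
    exact e'.inv_hom U _
  · rintro φ' ⟨-, h⟩
    apply ObjectProperty.hom_ext
    apply TopCat.Sheaf.hom_ext (B := famB B) G.1 G' hB'
    intro U
    ext s
    show φ'.1.app (op (U : Opens X)) s = φ₀.app (op (U : Opens X)) s
    rw [hφ₀ U]
    show _ = e'.inv.app U (e.hom.app U s)
    rw [← h U s, e'.hom_inv]

end Uniq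

end Groth.Agent.H4.ShBasis
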