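import Groth.Agent.H4.ShPush
import Mathlib.Topology.Sheaves.SheafCondition.UniqueGluing

/-!
# Essential image of pushforward along a closed embedding (helper4)
-/

open CategoryTheory CategoryTheory.Limits TopologicalSpace Opposite TopCat TopCat.Presheaf

universe u

namespace Groth.Agent.H4.ShPush

variable {Z X : TopCat.{u}} (i : Z ⟶ X)

theorem map_map_eq (P : (Opens X)ᵒᵖ ⥤ Type u) {A B C : (Opens X)ᵒᵖ} (g : A ⟶ B) (f : B ⟶ C)
    (h : A ⟶ C) (s : P.obj A) : P.map f (P.map g s) = P.map h s := by
  rw [← Functor.map_comp_apply]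
  congr 1

variable (G : X.Sheaf (Type u))

theorem subsingleton_sections
    (hG : ∀ x : X, x ∉ Set.range i → Nonempty (Unique (G.presheaf.stalk x)))
    (W : Opens X) (hW : ∀ x ∈ W, x ∉ Set.range i) : Subsingleton (G.1.obj (op W)) :=
  ⟨fun s t => TopCat.Presheaf.section_ext G W s t fun x hx => by
    obtain ⟨h⟩ := hG x (hW x hx)
    exact Subsingleton.elim _ _⟩

theorem nonempty_sections
    (hG : ∀ x : X, x ∉ Set.range i → Nonempty (Unique (G.presheaf.stalk x)))
    (W : Opens X) (hW : ∀ x ∈ W, x ∉ Set.range i) : Nonempty (G.1.obj (op W)) := by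
  have key : ∀ x : W, ∃ (U : Opens X) (_ : x.1 ∈ U), Nonempty (G.1.obj (op U)) := by
    intro x
    obtain ⟨h⟩ := hG x.1 (hW x.1 x.2)
    obtain ⟨U, hxU, s, -⟩ := G.presheaf.exists_germ_eq (x := x.1) h.default
    exact ⟨U, hxU, ⟨s⟩⟩
  choose U hxU hs using key
  let V : W → Opens X := fun x => U x ⊓ W
  have hsub : ∀ x y : W, Subsingleton (G.1.obj (op (V x ⊓ V y))) := fun x y =>
    subsingleton_sections i G hG _ (fun z hz => hW z hz.1.2)
  obtain ⟨s, -, -⟩ := G.existsUnique_gluing' V W (fun x => homOfLE inf_le_right)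
    (by
      intro z hz
      simp only [Opens.mem_iSup]
      exact ⟨⟨z, hz⟩, hxU ⟨z, hz⟩, hz⟩)
    (fun x => G.1.map (homOfLE (inf_le_left : V x ≤ U x)).op (hs x).some)
    (fun x y => (hsub x y).elim _ _)
  exact ⟨s⟩

/-- the open complement of the range -/
def Zc (hi : IsClosed (Set.range i)) : Opens X := ⟨(Set.range i)ᶜ, hi.isOpen_compl⟩

theorem Zc_le_psi (hi : IsClosed (Set.range i)) (V : Opens Z) : Zc i hi ≤ psi i V := by
  apply (gc i).le_u
  intro z hz
  exact absurd ⟨z, rfl⟩ hz

theorem mem_psi_iff (hi : Topology.IsInducing i) (V : Opens Z) (z : Z) : i z ∈ psi i V ↔ z ∈ V := by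
  conv_rhs => rw [← map_psi i hi V]
  rfl

theorem psi_iSup_le (hi : Topology.IsClosedEmbedding i) {ι : Type*} (V : ι → Opens Z) :
    psi i (iSup V) ≤ (⨆ a, psi i (V a)) ⊔ Zc i hi.isClosed_range := by
  intro x hx
  by_cases hxr : x ∈ Set.range i
  · obtain ⟨z, rfl⟩ := hxr
    have hz : z ∈ iSup V := (mem_psi_iff i hi.isInducing _ z).1 hx
    rw [Opens.mem_iSup] at hz
    obtain ⟨a, ha⟩ := hz
    left
    show i z ∈ ((⨆ a, psi i (V a) : Opens X) : Set X)
    rw [SetLike.mem_coe, Opens.mem_iSup]
    exact ⟨a, (mem_psi_iff i hi.isInducing _ z).2 ha⟩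
  · right
    exact hxr

theorem psi_map_le (hi : Topology.IsClosedEmbedding i) (U : Opens X) :
    psi i ((Opens.map i).obj U) ≤ U ⊔ Zc i hi.isClosed_range := by
  intro x hx
  by_cases hxr : x ∈ Set.range i
  · obtain ⟨z, rfl⟩ := hxr
    left
    exact (mem_psi_iff i hi.isInducing _ z).1 hx
  · right
    exact hxr

/-- the candidate preimage presheaf -/
def preF : Z.Presheaf (Type u) := (psiFunctor i).op ⋙ G.1

theorem preF_isSheaf (hi : Topology.IsClosedEmbedding i)
    (hG : ∀ x : X, x ∉ Set.range i → Nonempty (Unique (G.presheaf.stalk x))) :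
    (preF i G).IsSheaf := by
  rw [isSheaf_iff_isSheafUniqueGluing_types]
  intro ι V sf hsf
  have hZsub : ∀ W : Opens X, W ≤ Zc i hi.isClosed_range → Subsingleton (G.1.obj (op W)) :=
    fun W hW => subsingleton_sections i G hG W (fun x hx => hW hx)
  obtain ⟨s₀⟩ := nonempty_sections i G hG (Zc i hi.isClosed_range) (fun x hx => hx)
  let U' : Option ι → Opens X := fun o => o.elim (Zc i hi.isClosed_range) (fun a => psi i (V a))
  have hU' : ∀ o, U' o ≤ psi i (iSup V) := by
    intro o
    cases o with
    | none => exact Zc_le_psi i hi.isClosed_range _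
    | some a => exact (gc i).monotone_u (le_iSup V a)
  let sf' : ∀ o, G.1.obj (op (U' o)) := fun o =>
    match o with
    | none => s₀
    | some a => sf a
  have hcompat : IsCompatible G.1 U' sf' := by
    intro o o'
    cases o with
    | none => exact (hZsub _ inf_le_left).elim _ _
    | some a =>
      cases o' with
      | none => exact (hZsub _ inf_le_right).elim _ _
      | some b =>
        have h := hsf a b
        have hle : psi i (V a) ⊓ psi i (V b) ≤ psi i (V a ⊓ V b) := by
          rw [(gc i).u_inf]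
        have h2 := congrArg (G.1.map (homOfLE hle).op) h
        have e1 := map_map_eq G.1 ((psiFunctor i).op.map ((V a).infLELeft (V b)).op)
          (homOfLE hle).op ((U' (some a)).infLELeft (U' (some b))).op (sf a)
        have e2 := map_map_eq G.1 ((psiFunctor i).op.map ((V a).infLERight (V b)).op)
          (homOfLE hle).op ((U' (some a)).infLERight (U' (some b))).op (sf b)
        exact e1.symm.trans (h2.trans e2)
  obtain ⟨t, ht, htu⟩ := G.existsUnique_gluing' U' (psi i (iSup V)) (fun o => homOfLE (hU' o))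
    (by
      refine (psi_iSup_le i hi V).trans ?_
      apply sup_le
      · exact iSup_le fun a => le_iSup U' (some a)
      · exact le_iSup U' none) sf' hcompat
  refine ⟨t, fun a => ht (some a), ?_⟩
  intro t' ht'
  apply htu
  intro o
  cases o with
  | none => exact (hZsub _ le_rfl).elim _ _
  | some a => exact ht' a

theorem restrict_bijective (hi : Topology.IsClosedEmbedding i)
    (hG : ∀ x : X, x ∉ Set.range i → Nonempty (Unique (G.presheaf.stalk x))) (U : Opens X) :
    Function.Bijective
      (G.1.map (homOfLE ((gc i).le_u_l U) : U ⟶ psi i ((Opens.map i).obj U)).op) := by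
  have hZsub : ∀ W : Opens X, W ≤ Zc i hi.isClosed_range → Subsingleton (G.1.obj (op W)) :=
    fun W hW => subsingleton_sections i G hG W (fun x hx => hW hx)
  obtain ⟨s₀⟩ := nonempty_sections i G hG (Zc i hi.isClosed_range) (fun x hx => hx)
  let U' : Bool → Opens X := fun b => bif b then U else Zc i hi.isClosed_range
  have hU' : ∀ b, U' b ≤ psi i ((Opens.map i).obj U) := by
    intro b
    cases b with
    | false => exact Zc_le_psi i hi.isClosed_range _
    | true => exact (gc i).le_u_l U
  have hcover : psi i ((Opens.map i).obj U) ≤ iSup U' := by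
    refine (psi_map_le i hi U).trans ?_
    apply sup_le
    · exact le_iSup U' true
    · exact le_iSup U' false
  rw [Function.bijective_iff_existsUnique]
  intro s
  let sf' : ∀ b, G.1.obj (op (U' b)) := fun b =>
    match b with
    | false => s₀
    | true => s
  have hcompat : IsCompatible G.1 U' sf' := by
    intro b b'
    cases b with
    | false => exact (hZsub _ inf_le_left).elim _ _
    | true =>
      cases b' with
      | false => exact (hZsub _ inf_le_right).elim _ _
      | true => rfl
  obtain ⟨t, ht, htu⟩ := G.existsUnique_gluing' U' _ (fun b => homOfLE (hU' b)) hcover sf' hcompat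
  refine ⟨t, ht true, ?_⟩
  intro t' ht'
  apply htu
  intro b
  cases b with
  | false => exact (hZsub _ le_rfl).elim _ _
  | true => exact ht'

/-- the preimage sheaf -/
def preSheaf (hi : Topology.IsClosedEmbedding i)
    (hG : ∀ x : X, x ∉ Set.range i → Nonempty (Unique (G.presheaf.stalk x))) :
    Z.Sheaf (Type u) := ⟨preF i G, preF_isSheaf i G hi hG⟩

/-- the comparison isomorphism -/
noncomputable def pushforwardPreSheafIso (hi : Topology.IsClosedEmbedding i)
    (hG : ∀ x : X, x ∉ Set.range i → Nonempty (Unique (G.presheaf.stalk x))) :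
    (TopCat.Sheaf.pushforward (Type u) i).obj (preSheaf i G hi hG) ≅ G :=
  ObjectProperty.isoMk _ (NatIso.ofComponents
    (fun U => (Equiv.ofBijective _ (restrict_bijective i G hi hG U.unop)).toIso)
    (by
      intro U V f
      ext s
      exact (map_map_eq G.1 _ _ ((homOfLE ((gc i).le_u_l U.unop)).op ≫ f) s).trans
        (map_map_eq G.1 _ _ ((homOfLE ((gc i).le_u_l U.unop)).op ≫ f) s).symm))

theorem essImage_pushforward_iff (hi : Topology.IsClosedEmbedding i) :
    (TopCat.Sheaf.pushforward (Type u) i).essImage G ↔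
      ∀ x : X, x ∉ Set.range i → Nonempty (Unique (G.presheaf.stalk x)) := by
  constructor
  · rintro ⟨F, ⟨e⟩⟩ x hx
    obtain ⟨h⟩ := unique_stalk_pushforward i hi.isClosed_range F x hx
    have e' := (TopCat.Presheaf.stalkFunctor (Type u) x).mapIso
      ((TopCat.Sheaf.forget (Type u) X).mapIso e)
    exact ⟨@Equiv.unique _ _ h e'.toEquiv.symm⟩
  · intro hG
    exact ⟨preSheaf i G hi hG, ⟨pushforwardPreSheafIso i G hi hG⟩⟩

end Groth.Agent.H4.ShPush
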