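import Mathlib.Topology.Sheaves.Skyscraper
import Mathlib.Topology.Sheaves.Stalks
import Mathlib.Topology.Sheaves.SheafCondition.UniqueGluing
import Mathlib.CategoryTheory.Limits.Types.Filtered
import Mathlib.CategoryTheory.Filtered.Basic
import Mathlib.Order.Directed
import Groth.Agent.H4.ShPush2

/-!
# Sections of a directed colimit of sheaves of sets (helper4)
-/

open CategoryTheory CategoryTheory.Limits TopologicalSpace Opposite TopCat TopCat.Presheaf

universe u

set_option linter.unusedSectionVars false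

namespace Groth.Agent.H4.ShColim

open Groth.Agent.H4.ShPush (map_map_eq)

variable {X : TopCat.{u}} {J : Type u} [Preorder J] [Nonempty J] [IsDirected J (· ≤ ·)]
  (F : J ⥤ X.Sheaf (Type u)) (c : Cocone F) (hc : IsColimit c)

/-- the stalk cocone is a colimit cocone -/
noncomputable def stalkIsColimit (x : X) :
    IsColimit ((Sheaf.forget (Type u) X ⋙ stalkFunctor (Type u) x).mapCocone c) :=
  isColimitOfPreserves _ hc

/-- sections of `F i` over `V` -/
abbrev sec (i : J) (V : Opens X) : Type u := (F.obj i).1.obj (op V)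

/-- transition maps -/
abbrev tr {i k : J} (h : i ≤ k) (V : Opens X) : sec F i V → sec F k V :=
  (F.map (homOfLE h)).1.app (op V)

/-- cocone maps -/
abbrev cm (i : J) (V : Opens X) : sec F i V → c.pt.1.obj (op V) :=
  (c.ι.app i).1.app (op V)

/-- restriction -/
abbrev rs (i : J) {V W : Opens X} (h : W ≤ V) : sec F i V → sec F i W :=
  (F.obj i).1.map (homOfLE h).op

theorem tr_rs {i k : J} (h : i ≤ k) {V W : Opens X} (hWV : W ≤ V) (s : sec F i V) :
    tr F h W (rs F i hWV s) = rs F k hWV (tr F h V s) :=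
  ConcreteCategory.congr_hom ((F.map (homOfLE h)).1.naturality (homOfLE hWV).op) s

theorem cm_rs (i : J) {V W : Opens X} (hWV : W ≤ V) (s : sec F i V) :
    cm F c i W (rs F i hWV s) = c.pt.1.map (homOfLE hWV).op (cm F c i V s) :=
  ConcreteCategory.congr_hom ((c.ι.app i).1.naturality (homOfLE hWV).op) s

theorem cm_tr {i k : J} (h : i ≤ k) (V : Opens X) (s : sec F i V) :
    cm F c k V (tr F h V s) = cm F c i V s := by
  have := c.w (homOfLE h)
  have h2 := congrArg (fun φ => φ.1.app (op V)) this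
  exact ConcreteCategory.congr_hom h2 s

theorem tr_tr {i k l : J} (h1 : i ≤ k) (h2 : k ≤ l) (V : Opens X) (s : sec F i V) :
    tr F h2 V (tr F h1 V s) = tr F (h1.trans h2) V s := by
  have : F.map (homOfLE h1) ≫ F.map (homOfLE h2) = F.map (homOfLE (h1.trans h2)) := by
    rw [← F.map_comp]
    rfl
  have h3 := congrArg (fun φ => φ.1.app (op V)) this
  exact ConcreteCategory.congr_hom h3 s

theorem rs_rs (i : J) {V W W' : Opens X} (h1 : W ≤ V) (h2 : W' ≤ W) (s : sec F i V) :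
    rs F i h2 (rs F i h1 s) = rs F i (h2.trans h1) s :=
  map_map_eq (F.obj i).1 _ _ _ s

include hc in
theorem exists_tr_rs_eq (x : X) {i : J} {V : Opens X} (hx : x ∈ V) (s t : sec F i V)
    (h : c.pt.presheaf.germ V x hx (cm F c i V s) = c.pt.presheaf.germ V x hx (cm F c i V t)) :
    ∃ (k : J) (hik : i ≤ k) (W : Opens X) (_ : x ∈ W) (hWV : W ≤ V),
      rs F k hWV (tr F hik V s) = rs F k hWV (tr F hik V t) := by
  have e : ∀ s : sec F i V, c.pt.presheaf.germ V x hx (cm F c i V s) =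
      ((Sheaf.forget (Type u) X ⋙ stalkFunctor (Type u) x).mapCocone c).ι.app i
        ((F.obj i).presheaf.germ V x hx s) := fun s =>
    (stalkFunctor_map_germ_apply V x hx (c.ι.app i).1 s).symm
  obtain ⟨k, f, hk⟩ := (Types.FilteredColimit.isColimit_eq_iff' (stalkIsColimit F c hc x) (i := i)
    ((F.obj i).presheaf.germ V x hx s :
      (F ⋙ Sheaf.forget (Type u) X ⋙ stalkFunctor (Type u) x).obj i)
    ((F.obj i).presheaf.germ V x hx t :
      (F ⋙ Sheaf.forget (Type u) X ⋙ stalkFunctor (Type u) x).obj i)).1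
    ((e s).symm.trans (h.trans (e t)))
  have hik : i ≤ k := f.le
  have e2 : ∀ s : sec F i V,
      (F ⋙ Sheaf.forget (Type u) X ⋙ stalkFunctor (Type u) x).map f
        ((F.obj i).presheaf.germ V x hx s) =
      (F.obj k).presheaf.germ V x hx (tr F hik V s) := fun s =>
    stalkFunctor_map_germ_apply V x hx (F.map f).1 s
  obtain ⟨W, hxW, iU, iV, hW⟩ := (F.obj k).presheaf.germ_eq x hx hx _ _
    ((e2 s).symm.trans (hk.trans (e2 t)))
  exact ⟨k, hik, W, hxW, iU.le, hW⟩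

include hc in
theorem exists_cm_eq (x : X) {V : Opens X} (hx : x ∈ V) (σ : c.pt.1.obj (op V)) :
    ∃ (i : J) (W : Opens X) (_ : x ∈ W) (hWV : W ≤ V) (s : sec F i W),
      cm F c i W s = c.pt.1.map (homOfLE hWV).op σ := by
  obtain ⟨i, g, hg⟩ := Types.jointly_surjective_of_isColimit (stalkIsColimit F c hc x)
    (c.pt.presheaf.germ V x hx σ)
  obtain ⟨W₀, hxW₀, s₀, rfl⟩ := (F.obj i).presheaf.exists_germ_eq g
  have e := stalkFunctor_map_germ_apply W₀ x hxW₀ (c.ι.app i).1 s₀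
  obtain ⟨W, hxW, iU, iV, hW⟩ := c.pt.presheaf.germ_eq x hxW₀ hx (cm F c i W₀ s₀) σ
    (e.symm.trans hg)
  refine ⟨i, W, hxW, iV.le, rs F i iU.le s₀, ?_⟩
  rw [cm_rs]
  exact hW

include hc in
theorem cm_injective
    (hinj : ∀ (i j : J) (h : i ⟶ j) (V : Opens X), Function.Injective ((F.map h).1.app (op V)))
    (i : J) (V : Opens X) : Function.Injective (cm F c i V) := by
  intro s t hst
  have key : ∀ x : V, ∃ (W : Opens X) (_ : x.1 ∈ W) (hWV : W ≤ V),
      rs F i hWV s = rs F i hWV t := by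
    intro x
    obtain ⟨k, hik, W, hxW, hWV, h⟩ := exists_tr_rs_eq F c hc x.1 x.2 s t (by rw [hst])
    refine ⟨W, hxW, hWV, ?_⟩
    apply hinj i k (homOfLE hik) W
    show tr F hik W (rs F i hWV s) = tr F hik W (rs F i hWV t)
    rw [tr_rs, tr_rs]
    exact h
  choose W hxW hWV hW using key
  refine (F.obj i).eq_of_locally_eq' W V (fun x => homOfLE (hWV x)) ?_ s t (fun x => hW x)
  intro y hy
  rw [Opens.mem_iSup]
  exact ⟨⟨y, hy⟩, hxW ⟨y, hy⟩⟩

include hc in
theorem exists_tr_eq_of_isCompact {V : Opens X} (hV : IsCompact (V : Set X)) (i : J)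
    (s t : sec F i V) (hst : cm F c i V s = cm F c i V t) :
    ∃ (k : J) (hik : i ≤ k), tr F hik V s = tr F hik V t := by
  classical
  have key : ∀ x : V, ∃ (k : J) (hik : i ≤ k) (W : Opens X) (_ : x.1 ∈ W) (hWV : W ≤ V),
      rs F k hWV (tr F hik V s) = rs F k hWV (tr F hik V t) :=
    fun x => exists_tr_rs_eq F c hc x.1 x.2 s t (by rw [hst])
  choose k hik W hxW hWV hW using key
  obtain ⟨T, hT⟩ := hV.elim_finite_subcover (fun x : V => (W x : Set X)) (fun x => (W x).2)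
    (fun y hy => Set.mem_iUnion.2 ⟨⟨y, hy⟩, hxW ⟨y, hy⟩⟩)
  obtain ⟨K, hK⟩ := Finset.exists_le (insert i (T.image k))
  have hiK : i ≤ K := hK i (Finset.mem_insert_self _ _)
  have hkK : ∀ x ∈ T, k x ≤ K := fun x hx =>
    hK (k x) (Finset.mem_insert_of_mem (Finset.mem_image_of_mem k hx))
  refine ⟨K, hiK, ?_⟩
  refine (F.obj K).eq_of_locally_eq' (fun x : T => W x.1) V (fun x => homOfLE (hWV x.1)) ?_ _ _ ?_
  · intro y hy
    obtain ⟨x, hx⟩ := Set.mem_iUnion.1 (hT hy)
    obtain ⟨hxT, hyW⟩ := Set.mem_iUnion.1 hx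
    rw [Opens.mem_iSup]
    exact ⟨⟨x, hxT⟩, hyW⟩
  · rintro ⟨x, hxT⟩
    show rs F K (hWV x) (tr F hiK V s) = rs F K (hWV x) (tr F hiK V t)
    have e : ∀ r : sec F i V, rs F K (hWV x) (tr F hiK V r) =
        tr F (hkK x hxT) (W x) (rs F (k x) (hWV x) (tr F (hik x) V r)) := by
      intro r
      rw [tr_rs, tr_tr]
    rw [e s, e t, hW x]

theorem exists_glue {U : Opens X} {ι : Type*} [Finite ι] (W : ι → Opens X)
    (hWU : ∀ a, W a ≤ U) (hcov : U ≤ iSup W)
    (σ : c.pt.1.obj (op U)) (i : ι → J) (s : ∀ a, sec F (i a) (W a))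
    (hs : ∀ a, cm F c (i a) (W a) (s a) = c.pt.1.map (homOfLE (hWU a)).op σ)
    (H : ∀ (a b : ι) (k : J) (p q : sec F k (W a ⊓ W b)),
      cm F c k (W a ⊓ W b) p = cm F c k (W a ⊓ W b) q →
        ∃ (k' : J) (hk : k ≤ k'), tr F hk (W a ⊓ W b) p = tr F hk (W a ⊓ W b) q) :
    ∃ (k : J) (t : sec F k U), cm F c k U t = σ := by
  classical
  cases nonempty_fintype ι
  obtain ⟨k₀, hk₀⟩ := Finset.exists_le (Finset.univ.image i)
  have hik₀ : ∀ a, i a ≤ k₀ := fun a => hk₀ (i a) (Finset.mem_image_of_mem i (Finset.mem_univ a))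
  obtain ⟨s', hs'⟩ : ∃ s' : ∀ a, sec F k₀ (W a),
      ∀ a, cm F c k₀ (W a) (s' a) = c.pt.1.map (homOfLE (hWU a)).op σ := by
    refine ⟨fun a => tr F (hik₀ a) (W a) (s a), fun a => ?_⟩
    rw [cm_tr]
    exact hs a
  have hpq : ∀ a b, ∃ (k' : J) (hk : k₀ ≤ k'),
      tr F hk (W a ⊓ W b) (rs F k₀ inf_le_left (s' a)) =
        tr F hk (W a ⊓ W b) (rs F k₀ inf_le_right (s' b)) := by
    intro a b
    apply H a b k₀
    rw [cm_rs, cm_rs, hs' a, hs' b]
    exact (map_map_eq c.pt.1 _ _ (homOfLE (inf_le_left.trans (hWU a))).op σ).trans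
      (map_map_eq c.pt.1 _ _ (homOfLE (inf_le_left.trans (hWU a))).op σ).symm
  choose k' hk' hpq using hpq
  obtain ⟨k₁, hk₁⟩ := Finset.exists_le
    (insert k₀ ((Finset.univ : Finset (ι × ι)).image (fun ab => k' ab.1 ab.2)))
  have h01 : k₀ ≤ k₁ := hk₁ k₀ (Finset.mem_insert_self _ _)
  have hk'1 : ∀ a b, k' a b ≤ k₁ := fun a b => hk₁ (k' a b)
    (Finset.mem_insert_of_mem (Finset.mem_image_of_mem (fun ab : ι × ι => k' ab.1 ab.2)
      (Finset.mem_univ (a, b))))
  let s'' : ∀ a, sec F k₁ (W a) := fun a => tr F h01 (W a) (s' a)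
  have hcompat : IsCompatible (F.obj k₁).1 W s'' := by
    intro a b
    show rs F k₁ inf_le_left (tr F h01 (W a) (s' a)) = rs F k₁ inf_le_right (tr F h01 (W b) (s' b))
    have e1 : rs F k₁ inf_le_left (tr F h01 (W a) (s' a)) =
        tr F (hk'1 a b) (W a ⊓ W b) (tr F (hk' a b) (W a ⊓ W b) (rs F k₀ inf_le_left (s' a))) := by
      rw [tr_tr, tr_rs]
    have e2 : rs F k₁ inf_le_right (tr F h01 (W b) (s' b)) =
        tr F (hk'1 a b) (W a ⊓ W b) (tr F (hk' a b) (W a ⊓ W b) (rs F k₀ inf_le_right (s' b))) := by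
      rw [tr_tr, tr_rs]
    rw [e1, e2, hpq a b]
  obtain ⟨t, ht, -⟩ := (F.obj k₁).existsUnique_gluing' W U (fun a => homOfLE (hWU a)) hcov s''
    hcompat
  refine ⟨k₁, t, ?_⟩
  refine c.pt.eq_of_locally_eq' W U (fun a => homOfLE (hWU a)) hcov _ _ ?_
  intro a
  have e1 : c.pt.1.map (homOfLE (hWU a)).op (cm F c k₁ U t) = cm F c k₁ (W a) (s'' a) := by
    rw [← cm_rs]
    exact congrArg (cm F c k₁ (W a)) (ht a)
  rw [e1, cm_tr]
  exact hs' a

/-- evaluation of sheaves at an open -/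
noncomputable abbrev ev (U : Opens X) : X.Sheaf (Type u) ⥤ Type u :=
  TopCat.Sheaf.forget (Type u) X ⋙ (evaluation (Opens X)ᵒᵖ (Type u)).obj (op U)

/-- the canonical comparison map -/
noncomputable abbrev Psi (U : Opens X) : colimit (F ⋙ ev U) → (ev U).obj c.pt :=
  colimit.desc (F ⋙ ev U) ((ev U).mapCocone c)

theorem Psi_ι (U : Opens X) (i : J) (s : sec F i U) :
    Psi F c U (colimit.ι (F ⋙ ev U) i s) = cm F c i U s :=
  colimit.ι_desc_apply ((ev U).mapCocone c) i s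

omit [Nonempty J] [IsDirected J (· ≤ ·)] in
theorem ι_tr (U : Opens X) {i k : J} (h : i ≤ k) (s : sec F i U) :
    colimit.ι (F ⋙ ev U) k (tr F h U s) = colimit.ι (F ⋙ ev U) i s :=
  ConcreteCategory.congr_hom (colimit.w (F ⋙ ev U) (homOfLE h)) s

theorem exists_rep₂ (U : Opens X) (a b : colimit (F ⋙ ev U)) :
    ∃ (i : J) (s t : sec F i U), colimit.ι (F ⋙ ev U) i s = a ∧ colimit.ι (F ⋙ ev U) i t = b :=
  Types.FilteredColimit.jointly_surjective_of_isColimit₂ (colimit.isColimit (F ⋙ ev U)) a b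

include hc in
theorem Psi_injective_of_injective (U : Opens X)
    (hinj : ∀ (i j : J) (h : i ⟶ j) (V : Opens X), Function.Injective ((F.map h).1.app (op V))) :
    Function.Injective (Psi F c U) := by
  intro a b hab
  obtain ⟨i, s, t, rfl, rfl⟩ := exists_rep₂ F U a b
  rw [Psi_ι, Psi_ι] at hab
  rw [cm_injective F c hc hinj i U hab]

include hc in
theorem Psi_injective_of_isCompact (U : Opens X) (hU : IsCompact (U : Set X)) :
    Function.Injective (Psi F c U) := by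
  intro a b hab
  obtain ⟨i, s, t, rfl, rfl⟩ := exists_rep₂ F U a b
  rw [Psi_ι, Psi_ι] at hab
  obtain ⟨k, hik, h⟩ := exists_tr_eq_of_isCompact F c hc hU i s t hab
  rw [← ι_tr F U hik s, ← ι_tr F U hik t, h]

include hc in
theorem Psi_surjective_of_isCompact (U : Opens X) (hU : IsCompact (U : Set X))
    (hinj : ∀ (i j : J) (h : i ⟶ j) (V : Opens X), Function.Injective ((F.map h).1.app (op V))) :
    Function.Surjective (Psi F c U) := by
  intro σ
  have key : ∀ x : U, ∃ (i : J) (W : Opens X) (_ : x.1 ∈ W) (hWV : W ≤ U) (s : sec F i W),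
      cm F c i W s = c.pt.1.map (homOfLE hWV).op σ := fun x => exists_cm_eq F c hc x.1 x.2 σ
  choose i W hxW hWU s hs using key
  obtain ⟨T, hT⟩ := hU.elim_finite_subcover (fun x : U => (W x : Set X)) (fun x => (W x).2)
    (fun y hy => Set.mem_iUnion.2 ⟨⟨y, hy⟩, hxW ⟨y, hy⟩⟩)
  obtain ⟨k, t, ht⟩ := exists_glue F c (U := U) (ι := T) (fun x => W x.1) (fun x => hWU x.1)
    (by
      intro y hy
      obtain ⟨x, hx⟩ := Set.mem_iUnion.1 (hT hy)
      obtain ⟨hxT, hyW⟩ := Set.mem_iUnion.1 hx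
      rw [Opens.mem_iSup]
      exact ⟨⟨x, hxT⟩, hyW⟩)
    σ (fun x => i x.1) (fun x => s x.1) (fun x => hs x.1)
    (fun a b k p q hpq => ⟨k, le_rfl, by rw [cm_injective F c hc hinj k _ hpq]⟩)
  exact ⟨colimit.ι (F ⋙ ev U) k t, (Psi_ι F c U k t).trans ht⟩

include hc in
theorem Psi_bijective_of_refine (U : Opens X)
    (href : ∀ 𝒱 : Set (Opens X), (⨆ V ∈ 𝒱, V) = U →
        ∃ (m : ℕ) (W : Fin m → Opens X), (∀ j, ∃ V ∈ 𝒱, W j ≤ V) ∧ (⨆ j, W j) = U ∧
          ∀ j j', IsCompact ((W j ⊓ W j' : Opens X) : Set X)) :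
    Function.Bijective (Psi F c U) := by
  have hU : IsCompact (U : Set X) := by
    obtain ⟨m, W, -, hcov, hcomp⟩ := href {U} (by simp)
    have : (U : Set X) = ⋃ j, (W j : Set X) := by
      rw [← hcov, Opens.coe_iSup]
    rw [this]
    apply isCompact_iUnion
    intro j
    have := hcomp j j
    rwa [inf_idem] at this
  refine ⟨Psi_injective_of_isCompact F c hc U hU, ?_⟩
  intro σ
  have key : ∀ x : U, ∃ (i : J) (W : Opens X) (_ : x.1 ∈ W) (hWV : W ≤ U) (s : sec F i W),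
      cm F c i W s = c.pt.1.map (homOfLE hWV).op σ := fun x => exists_cm_eq F c hc x.1 x.2 σ
  choose i W hxW hWU s hs using key
  obtain ⟨m, W', href', hcov', hcomp'⟩ := href (Set.range W) (by
    apply le_antisymm
    · refine iSup₂_le ?_
      rintro V ⟨x, rfl⟩
      exact hWU x
    · intro y hy
      simp only [Opens.mem_iSup]
      exact ⟨W ⟨y, hy⟩, ⟨⟨y, hy⟩, rfl⟩, hxW ⟨y, hy⟩⟩)
  have href'' : ∀ j, ∃ x : U, W' j ≤ W x := by
    intro j
    obtain ⟨V, ⟨x, rfl⟩, h⟩ := href' j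
    exact ⟨x, h⟩
  choose x hx using href''
  have hW'U : ∀ j, W' j ≤ U := fun j => (hx j).trans (hWU (x j))
  obtain ⟨k, t, ht⟩ := exists_glue F c (U := U) (ι := Fin m) W' hW'U (by rw [hcov'])
    σ (fun j => i (x j)) (fun j => rs F (i (x j)) (hx j) (s (x j)))
    (fun j => by
      rw [cm_rs, hs (x j)]
      exact map_map_eq c.pt.1 _ _ _ σ)
    (fun a b k p q hpq => exists_tr_eq_of_isCompact F c hc (hcomp' a b) k p q hpq)
  exact ⟨colimit.ι (F ⋙ ev U) k t, (Psi_ι F c U k t).trans ht⟩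

end Groth.Agent.H4.ShColim
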