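import Groth.Agent.H4.ShPush2
import Mathlib.CategoryTheory.Adjunction.Triple
import Mathlib.Topology.Sheaves.SheafCondition.UniqueGluing

/-!
# Extension by empty: left adjoints of restriction to an open (helper4)
-/

open CategoryTheory CategoryTheory.Limits TopologicalSpace Opposite TopCat TopCat.Presheaf

universe u

namespace Groth.Agent.H4.ShPush

theorem essImage_of_map_bijective {C D : Type*} [Category* C] [Category* D] {L : C ⥤ D} {R : D ⥤ C}
    (adj : L ⊣ R) (G : D)
    (h : ∀ H : D, Function.Bijective (fun α : G ⟶ H => R.map α)) : L.essImage G := by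
  have : IsIso (adj.counit.app G) := by
    rw [isIso_iff_coyoneda_map_bijective]
    intro H
    have e : ∀ α : G ⟶ H, adj.counit.app G ≫ α = (adj.homEquiv _ _).symm (R.map α) := by
      intro α
      rw [Adjunction.homEquiv_counit]
      exact (adj.counit.naturality α).symm
    refine ⟨fun α α' hα => ?_, fun γ => ?_⟩
    · apply (h H).1
      apply (adj.homEquiv _ _).symm.injective
      exact (e α).symm.trans (Eq.trans hα (e α'))
    · obtain ⟨α, hα⟩ := (h H).2 (adj.homEquiv _ _ γ)
      refine ⟨α, ?_⟩
      show adj.counit.app G ≫ α = γ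
      rw [e]
      have hα' : R.map α = adj.homEquiv _ _ γ := hα
      rw [hα']
      exact (adj.homEquiv _ _).symm_apply_apply γ
  exact adj.mem_essImage_of_counit_isIso G

variable {X : TopCat.{u}} (U : Opens X)

/-- the inclusion of an open subspace -/
abbrev jU : TopCat.of U ⟶ X := TopCat.ofHom ⟨Subtype.val, continuous_subtype_val⟩

theorem jU_isOpenEmbedding : Topology.IsOpenEmbedding (jU U) := U.isOpenEmbedding

/-- restriction is left adjoint to pushforward -/
noncomputable def restrictAdj :
    U.sheafRestrict (C := Type u) ⊣ TopCat.Sheaf.pushforward (Type u) (jU U) :=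
  (TopCat.Sheaf.pullbackPushforwardAdjunction (Type u) (jU U)).ofNatIsoLeft
    ((jU_isOpenEmbedding U).sheafPullbackIso (Type u))

theorem full_faithful_of_adj (L : (TopCat.of U).Sheaf (Type u) ⥤ X.Sheaf (Type u))
    (adj : L ⊣ U.sheafRestrict (C := Type u)) : L.Full ∧ L.Faithful := by
  obtain ⟨h1, h2⟩ := pushforward_full_faithful (jU U) (jU_isOpenEmbedding U).isInducing (Type u)
  let t : Adjunction.Triple L (U.sheafRestrict (C := Type u))
    (TopCat.Sheaf.pushforward (Type u) (jU U)) := ⟨adj, restrictAdj U⟩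
  have ff := t.fullyFaithfulEquiv.symm (Functor.FullyFaithful.ofFullyFaithful _)
  exact ⟨ff.full, ff.faithful⟩

/-- the subterminal sheaf represented by `U` -/
def Tsh : X.Sheaf (Type u) :=
  ⟨yoneda.obj U, by
    show TopCat.Presheaf.IsSheaf (yoneda.obj U)
    rw [isSheaf_iff_isSheafUniqueGluing_types]
    intro ι V sf _
    exact ⟨homOfLE (iSup_le fun a => (sf a).le),
      fun a => Subsingleton.elim (α := (V a ⟶ U)) _ _,
      fun _ _ => Subsingleton.elim (α := (iSup V ⟶ U)) _ _⟩⟩

/-- any sheaf on `U` maps to the restriction of `Tsh` -/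
def toRestrictTsh (F : (TopCat.of U).Sheaf (Type u)) :
    F ⟶ (U.sheafRestrict (C := Type u)).obj (Tsh U) :=
  ⟨{ app := fun W => TypeCat.ofHom (fun _ => (homOfLE (by
        rintro x ⟨y, -, rfl⟩
        exact y.2) : (jU_isOpenEmbedding U).isOpenMap.functor.obj W.unop ⟶ U))
     naturality := fun _ _ _ => by
        ext s
        exact Subsingleton.elim (α := (_ : Opens X) ⟶ U) _ _ }⟩

theorem stalk_isEmpty_iff (G : X.Sheaf (Type u)) :
    (∀ x : X, x ∉ U → IsEmpty (G.presheaf.stalk x)) ↔
      ∀ V : Opens X, ¬ V ≤ U → IsEmpty (G.1.obj (op V)) := by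
  constructor
  · intro h V hV
    obtain ⟨x, hxV, hxU⟩ := Set.not_subset.1 hV
    exact ⟨fun s => (h x hxU).false (G.presheaf.germ V x hxV s)⟩
  · intro h x hx
    refine ⟨fun t => ?_⟩
    obtain ⟨V, hxV, s, -⟩ := G.presheaf.exists_germ_eq t
    exact (h V (fun hVU => hx (hVU hxV))).false s

theorem isEmpty_of_essImage (L : (TopCat.of U).Sheaf (Type u) ⥤ X.Sheaf (Type u))
    (adj : L ⊣ U.sheafRestrict (C := Type u)) (G : X.Sheaf (Type u)) (hG : L.essImage G)
    (V : Opens X) (hV : ¬ V ≤ U) : IsEmpty (G.1.obj (op V)) := by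
  obtain ⟨F, ⟨e⟩⟩ := hG
  let τ : G ⟶ Tsh U := e.inv ≫ (adj.homEquiv F (Tsh U)).symm (toRestrictTsh U F)
  exact ⟨fun s => hV (τ.1.app (op V) s).le⟩

/-- the image functor on opens -/
abbrev jF : Opens (TopCat.of U) ⥤ Opens X := (jU_isOpenEmbedding U).isOpenMap.functor

theorem le_jF_map (V : Opens X) (h : V ≤ U) : V ≤ (jF U).obj ((Opens.map (jU U)).obj V) := by
  intro x hx
  exact ⟨⟨x, h hx⟩, hx, rfl⟩

theorem jF_map_le (V : Opens X) : (jF U).obj ((Opens.map (jU U)).obj V) ≤ V := by
  rintro x ⟨y, hy, rfl⟩
  exact hy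

theorem jF_le (W : Opens (TopCat.of U)) : (jF U).obj W ≤ U := by
  rintro x ⟨y, -, rfl⟩
  exact y.2

theorem map_jF (W : Opens (TopCat.of U)) : (Opens.map (jU U)).obj ((jF U).obj W) = W :=
  Opens.map_functor_eq' _ (jU_isOpenEmbedding U) W

variable {U} (G H : X.Sheaf (Type u))

/-- extend a morphism of restrictions, when the source is empty outside `U` -/
noncomputable def extendHom (hG : ∀ V : Opens X, ¬ V ≤ U → IsEmpty (G.1.obj (op V)))
    (β : (U.sheafRestrict (C := Type u)).obj G ⟶ (U.sheafRestrict (C := Type u)).obj H) :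
    G ⟶ H :=
  haveI := Classical.propDecidable
  ⟨{ app := fun V => TypeCat.ofHom (fun s =>
        if h : V.unop ≤ U then
          H.1.map (homOfLE (le_jF_map U V.unop h)).op
            (β.1.app (op ((Opens.map (jU U)).obj V.unop))
              (G.1.map (homOfLE (jF_map_le U V.unop)).op s))
        else ((hG V.unop h).false s).elim)
     naturality := fun V V' f => by
        ext s
        by_cases h : V.unop ≤ U
        · have h' : V'.unop ≤ U := f.unop.le.trans h
          simp only [dif_pos h, dif_pos h']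
          let g : (Opens.map (jU U)).obj V'.unop ⟶ (Opens.map (jU U)).obj V.unop :=
            (Opens.map (jU U)).map f.unop
          have nat := ConcreteCategory.congr_hom (β.hom.naturality g.op)
            (G.1.map (homOfLE (jF_map_le U V.unop)).op s)
          have e1 : G.1.map (homOfLE (jF_map_le U V'.unop)).op (G.1.map f s) =
              G.1.map ((jF U).map g).op (G.1.map (homOfLE (jF_map_le U V.unop)).op s) :=
            (map_map_eq G.1 _ _ (f ≫ (homOfLE (jF_map_le U V'.unop)).op) s).trans
              (map_map_eq G.1 _ _ (f ≫ (homOfLE (jF_map_le U V'.unop)).op) s).symm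
          show H.1.map (homOfLE (le_jF_map U V'.unop h')).op
              (β.hom.app (op ((Opens.map (jU U)).obj V'.unop))
                (G.1.map (homOfLE (jF_map_le U V'.unop)).op (G.1.map f s))) =
            H.1.map f (H.1.map (homOfLE (le_jF_map U V.unop h)).op
              (β.hom.app (op ((Opens.map (jU U)).obj V.unop))
                (G.1.map (homOfLE (jF_map_le U V.unop)).op s)))
          rw [e1]
          refine (congrArg (H.1.map (homOfLE (le_jF_map U V'.unop h')).op) nat).trans ?_
          exact (map_map_eq H.1 _ _ ((homOfLE (le_jF_map U V.unop h)).op ≫ f) _).trans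
            (map_map_eq H.1 _ _ ((homOfLE (le_jF_map U V.unop h)).op ≫ f) _).symm
        · exact ((hG V.unop h).false s).elim }⟩

theorem restrict_map_extendHom (hG : ∀ V : Opens X, ¬ V ≤ U → IsEmpty (G.1.obj (op V)))
    (β : (U.sheafRestrict (C := Type u)).obj G ⟶ (U.sheafRestrict (C := Type u)).obj H) :
    (U.sheafRestrict (C := Type u)).map (extendHom G H hG β) = β := by
  apply ObjectProperty.hom_ext
  ext W s
  induction W with | op W => ?_
  have h : (jF U).obj W ≤ U := jF_le U W
  show (extendHom G H hG β).hom.app (op ((jF U).obj W)) s = β.hom.app (op W) s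
  simp only [extendHom, dif_pos h]
  let g : W ⟶ (Opens.map (jU U)).obj ((jF U).obj W) := eqToHom (map_jF U W).symm
  have nat := ConcreteCategory.congr_hom (β.hom.naturality g.op)
    (G.1.map (homOfLE (jF_map_le U ((jF U).obj W))).op s)
  show H.1.map (homOfLE (le_jF_map U ((jF U).obj W) h)).op
      (β.hom.app (op ((Opens.map (jU U)).obj ((jF U).obj W)))
        (G.1.map (homOfLE (jF_map_le U ((jF U).obj W))).op s)) = β.hom.app (op W) s
  have e1 : G.1.map ((jF U).map g).op (G.1.map (homOfLE (jF_map_le U ((jF U).obj W))).op s) = s := by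
    rw [map_map_eq G.1 _ _ (𝟙 _) s]
    exact ConcreteCategory.congr_hom (G.1.map_id _) s
  have e2 : (homOfLE (le_jF_map U ((jF U).obj W) h)) = (jF U).map g := Subsingleton.elim _ _
  rw [e2]
  refine nat.symm.trans ?_
  exact congrArg (β.hom.app (op W)) e1

theorem restrict_map_injective (hG : ∀ V : Opens X, ¬ V ≤ U → IsEmpty (G.1.obj (op V)))
    (α α' : G ⟶ H)
    (hα : (U.sheafRestrict (C := Type u)).map α = (U.sheafRestrict (C := Type u)).map α') :
    α = α' := by
  apply ObjectProperty.hom_ext
  ext V s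
  induction V with | op V => ?_
  by_cases hV : V ≤ U
  · have key : ∀ γ : G ⟶ H, γ.hom.app (op V) s =
        H.1.map (homOfLE (le_jF_map U V hV)).op
          (γ.hom.app (op ((jF U).obj ((Opens.map (jU U)).obj V)))
            (G.1.map (homOfLE (jF_map_le U V)).op s)) := by
      intro γ
      have n1 := ConcreteCategory.congr_hom (γ.hom.naturality (homOfLE (jF_map_le U V)).op) s
      refine Eq.trans ?_ (congrArg (H.1.map (homOfLE (le_jF_map U V hV)).op) n1.symm)
      refine Eq.trans ?_ (map_map_eq H.1 _ _ (𝟙 _) _).symm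
      exact (ConcreteCategory.congr_hom (H.1.map_id _) _).symm
    show α.hom.app (op V) s = α'.hom.app (op V) s
    refine (key α).trans (Eq.trans ?_ (key α').symm)
    congr 1
    have := congrArg (fun γ => γ.hom.app (op ((Opens.map (jU U)).obj V))) hα
    exact ConcreteCategory.congr_hom this _
  · exact ((hG V hV).false s).elim

theorem essImage_of_isEmpty (L : (TopCat.of U).Sheaf (Type u) ⥤ X.Sheaf (Type u))
    (adj : L ⊣ U.sheafRestrict (C := Type u))
    (hG : ∀ V : Opens X, ¬ V ≤ U → IsEmpty (G.1.obj (op V))) : L.essImage G := by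
  exact essImage_of_map_bijective adj G (fun H =>
    ⟨fun α α' h => restrict_map_injective G H hG α α' h,
      fun β => ⟨extendHom G H hG β, restrict_map_extendHom G H hG β⟩⟩)

theorem essImage_iff (L : (TopCat.of U).Sheaf (Type u) ⥤ X.Sheaf (Type u))
    (adj : L ⊣ U.sheafRestrict (C := Type u)) :
    L.essImage G ↔ ∀ x : X, x ∉ U → IsEmpty (G.presheaf.stalk x) := by
  rw [stalk_isEmpty_iff]
  exact ⟨fun h V hV => isEmpty_of_essImage U L adj G h V hV, essImage_of_isEmpty G L adj⟩

end Groth.Agent.H4.ShPush
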