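import Mathlib.Topology.Sheaves.Functors
import Mathlib.Topology.Sheaves.Stalks
import Mathlib.CategoryTheory.Localization.Adjunction
import Mathlib.CategoryTheory.Localization.Opposite
import Mathlib.CategoryTheory.Limits.Types.Products
import Mathlib.CategoryTheory.Adjunction.FullyFaithful

/-!
# Pushforward of sheaves along embeddings (helper4)
-/

open CategoryTheory CategoryTheory.Limits TopologicalSpace Opposite TopCat

universe u v w

namespace Groth.Agent.H4.ShPush

variable {Z X : TopCat.{u}} (i : Z ⟶ X)

/-- sections over an open with empty preimage -/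
theorem subsingleton_of_map_eq_bot (F : Z.Sheaf (Type u)) {W : Opens X}
    (hW : (Opens.map i).obj W = ⊥) :
    Subsingleton (((TopCat.Sheaf.pushforward (Type u) i).obj F).presheaf.obj (op W)) := by
  have h := F.isTerminalOfEqEmpty hW
  have : Unique (F.obj.obj (op ((Opens.map i).obj W))) := (Types.isTerminalEquivUnique _).toFun h
  exact (Unique.instSubsingleton : Subsingleton (F.obj.obj (op ((Opens.map i).obj W))))

theorem nonempty_of_map_eq_bot (F : Z.Sheaf (Type u)) {W : Opens X}
    (hW : (Opens.map i).obj W = ⊥) :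
    Nonempty (((TopCat.Sheaf.pushforward (Type u) i).obj F).presheaf.obj (op W)) := by
  have h := F.isTerminalOfEqEmpty hW
  have : Unique (F.obj.obj (op ((Opens.map i).obj W))) := (Types.isTerminalEquivUnique _).toFun h
  exact ⟨this.default⟩

theorem unique_stalk_pushforward (hi : IsClosed (Set.range i)) (F : Z.Sheaf (Type u))
    (x : X) (hx : x ∉ Set.range i) :
    Nonempty (Unique (((TopCat.Sheaf.pushforward (Type u) i).obj F).presheaf.stalk x)) := by
  set G := ((TopCat.Sheaf.pushforward (Type u) i).obj F).presheaf with hG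
  let U₀ : Opens X := ⟨(Set.range i)ᶜ, hi.isOpen_compl⟩
  have hxU₀ : x ∈ U₀ := hx
  have hbot : ∀ W : Opens X, W ≤ U₀ → (Opens.map i).obj W = ⊥ := by
    intro W hW
    ext z
    simp only [Opens.map_coe, Set.mem_preimage, SetLike.mem_coe, Opens.coe_bot, Set.mem_empty_iff_false,
      iff_false]
    intro hz
    exact hW hz ⟨z, rfl⟩
  obtain ⟨s₀⟩ := nonempty_of_map_eq_bot i F (hbot U₀ le_rfl)
  refine ⟨⟨⟨G.germ U₀ x hxU₀ s₀⟩, ?_⟩⟩
  intro t
  obtain ⟨U, hxU, s, rfl⟩ := G.exists_germ_eq t
  have hsub := subsingleton_of_map_eq_bot i F (hbot (U ⊓ U₀) inf_le_right)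
  exact G.germ_ext (U ⊓ U₀) ⟨hxU, hxU₀⟩ (homOfLE inf_le_left) (homOfLE inf_le_right)
    (Subsingleton.elim _ _)

/-- the largest open of `X` with preimage contained in `V` -/
def psi (V : Opens Z) : Opens X := sSup {U : Opens X | (Opens.map i).obj U ≤ V}

theorem gc : GaloisConnection (Opens.map i).obj (psi i) := by
  intro U V
  constructor
  · intro h
    exact le_sSup h
  · intro h
    refine le_trans ((Opens.map i).monotone h) ?_
    intro z hz
    have : i z ∈ psi i V := hz
    rw [psi, Opens.mem_sSup] at this
    obtain ⟨U', hU', hz'⟩ := this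
    exact hU' hz'

theorem map_psi (hi : Topology.IsInducing i) (V : Opens Z) : (Opens.map i).obj (psi i V) = V := by
  apply le_antisymm
  · exact (gc i).l_u_le V
  · obtain ⟨U, hU, hUV⟩ := hi.isOpen_iff.1 V.2
    have : (Opens.map i).obj ⟨U, hU⟩ = V := Opens.ext hUV
    rw [← this]
    exact (Opens.map i).monotone ((gc i).le_u_l _)

/-- `psi` as a functor -/
def psiFunctor : Opens Z ⥤ Opens X := (gc i).monotone_u.functor

/-- adjunction -/
def adj : Opens.map i ⊣ psiFunctor i :=
  Adjunction.mkOfHomEquiv
    { homEquiv := fun _ _ =>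
        { toFun := fun f => homOfLE ((gc i).le_u f.le)
          invFun := fun g => homOfLE ((gc i).l_le g.le)
          left_inv := fun _ => Subsingleton.elim _ _
          right_inv := fun _ => Subsingleton.elim _ _ }
      homEquiv_naturality_left_symm := fun _ _ => Subsingleton.elim _ _
      homEquiv_naturality_right := fun _ _ => Subsingleton.elim _ _ }

instance : (psiFunctor i).Faithful := ⟨fun _ => Subsingleton.elim _ _⟩

theorem psiFunctor_full (hi : Topology.IsInducing i) : (psiFunctor i).Full :=
  ⟨fun {V V'} f => ⟨homOfLE (by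
    rw [← map_psi i hi V, ← map_psi i hi V']
    exact (Opens.map i).monotone f.le), Subsingleton.elim _ _⟩⟩

theorem whiskering_full_faithful (hi : Topology.IsInducing i) (C : Type w) [Category.{v} C] :
    ((Functor.whiskeringLeft _ _ C).obj (Opens.map i).op).Full ∧
    ((Functor.whiskeringLeft _ _ C).obj (Opens.map i).op).Faithful := by
  have := psiFunctor_full i hi
  have h1 := (adj i).isLocalization
  exact ⟨Localization.full_whiskeringLeft (Opens.map i).op
      ((MorphismProperty.isomorphisms _).inverseImage (Opens.map i)).op C,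
    Localization.faithful_whiskeringLeft (Opens.map i).op
      ((MorphismProperty.isomorphisms _).inverseImage (Opens.map i)).op C⟩


theorem pushforward_full_faithful (hi : Topology.IsInducing i) (C : Type w) [Category.{v} C] :
    (TopCat.Sheaf.pushforward C i).Full ∧ (TopCat.Sheaf.pushforward C i).Faithful := by
  obtain ⟨h1, h2⟩ := whiskering_full_faithful i hi C
  constructor
  · refine ⟨fun {F G} α => ?_⟩
    obtain ⟨β, hβ⟩ := h1.map_surjective (X := F.obj) (Y := G.obj) α.hom
    exact ⟨⟨β⟩, ObjectProperty.hom_ext _ hβ⟩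
  · refine ⟨fun {F G} β β' h => ?_⟩
    apply ObjectProperty.hom_ext
    apply h2.map_injective
    exact congrArg (fun a => a.hom) h

end Groth.Agent.H4.ShPush
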