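import Groth.Agent.H4.Spectral5
import Mathlib.Topology.Order
import Mathlib.Topology.Sober
import Mathlib.Topology.QuasiSeparated

/-!
# Helper library: powers of the Sierpiński space are spectral (helper4)
-/

namespace Groth.Agent.H4.Spec

open Topology TopologicalSpace Set

variable {I : Type*}

/-- Basic open subsets of a power of the Sierpiński space. -/
def sBasic (F : Finset I) : Set (I → Prop) := {w | ∀ i ∈ F, w i}

theorem mem_sBasic {F : Finset I} {w : I → Prop} : w ∈ sBasic F ↔ ∀ i ∈ F, w i := Iff.rfl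

theorem isOpen_sBasic (F : Finset I) : IsOpen (sBasic F) := by
  have : sBasic F = ⋂ i ∈ F, (fun w : I → Prop => w i) ⁻¹' {True} := by
    ext w
    simp [sBasic]
  rw [this]
  exact isOpen_biInter_finset fun i _ => isOpen_singleton_true.preimage (continuous_apply i)

theorem sBasic_inter [DecidableEq I] (F G : Finset I) : sBasic F ∩ sBasic G = sBasic (F ∪ G) := by
  ext w
  simp only [mem_inter_iff, mem_sBasic, Finset.mem_union]
  constructor
  · rintro ⟨h1, h2⟩ i (hi | hi)
    · exact h1 i hi
    · exact h2 i hi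
  · intro h
    exact ⟨fun i hi => h i (Or.inl hi), fun i hi => h i (Or.inr hi)⟩

theorem exists_sBasic_subset {u : Set (I → Prop)} (hu : IsOpen u) {w : I → Prop} (hw : w ∈ u) :
    ∃ F : Finset I, w ∈ sBasic F ∧ sBasic F ⊆ u := by
  classical
  obtain ⟨F, v, hv, hsub⟩ := isOpen_pi_iff.1 hu w hw
  refine ⟨F.filter fun i => w i, ?_, ?_⟩
  · intro i hi
    exact (Finset.mem_filter.1 hi).2
  · intro w' hw'
    apply hsub
    intro i hi
    by_cases hwi : w i
    · have h1 : w' i := hw' i (Finset.mem_filter.2 ⟨hi, hwi⟩)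
      have h2 : w' i = w i := propext ⟨fun _ => hwi, fun _ => h1⟩
      rw [h2]
      exact (hv i hi).2
    · have h1 : w i = False := propext ⟨fun h => hwi h, False.elim⟩
      have h2 : v i ∈ nhds (w i) := (hv i hi).1.mem_nhds (hv i hi).2
      rw [h1, nhds_false] at h2
      rw [Filter.mem_top.1 h2]
      trivial

theorem isTopologicalBasis_sBasic :
    IsTopologicalBasis (range (sBasic : Finset I → Set (I → Prop))) := by
  apply isTopologicalBasis_of_isOpen_of_nhds
  · rintro _ ⟨F, rfl⟩
    exact isOpen_sBasic F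
  · intro w u hw hu
    obtain ⟨F, h1, h2⟩ := exists_sBasic_subset hu hw
    exact ⟨_, ⟨F, rfl⟩, h1, h2⟩

theorem isCompact_sBasic (F : Finset I) : IsCompact (sBasic F) := by
  classical
  apply isCompact_of_finite_subcover
  intro ι U hUo hcov
  have hm : (fun i => i ∈ F) ∈ sBasic F := fun i hi => hi
  obtain ⟨a, ha⟩ := mem_iUnion.1 (hcov hm)
  obtain ⟨G, hG1, hG2⟩ := exists_sBasic_subset (hUo a) ha
  refine ⟨{a}, ?_⟩
  intro w hw
  simp only [Finset.mem_singleton, iUnion_iUnion_eq_left]
  apply hG2
  intro i hi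
  exact hw i (hG1 i hi)

instance : PrespectralSpace (I → Prop) :=
  PrespectralSpace.of_isTopologicalBasis' isTopologicalBasis_sBasic isCompact_sBasic

instance : QuasiSeparatedSpace (I → Prop) := by
  classical
  exact QuasiSeparatedSpace.of_isTopologicalBasis isTopologicalBasis_sBasic fun F G => by
    rw [sBasic_inter]
    exact isCompact_sBasic _

instance : QuasiSober (I → Prop) := by
  classical
  refine ⟨fun {Z} hZ hZcl => ?_⟩
  let w : I → Prop := fun i => ∃ z ∈ Z, z i
  have hwZ : w ∈ Z := by
    rw [← hZcl.closure_eq, mem_closure_iff]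
    intro u hu hwu
    obtain ⟨F, hF1, hF2⟩ := exists_sBasic_subset hu hwu
    have h1 := isIrreducible_iff_sInter.1 hZ
      (F.image fun i => (fun z : I → Prop => z i) ⁻¹' {True}) (by
        intro s hs
        obtain ⟨i, _, rfl⟩ := Finset.mem_image.1 hs
        exact isOpen_singleton_true.preimage (continuous_apply i)) (by
        intro s hs
        obtain ⟨i, hi, rfl⟩ := Finset.mem_image.1 hs
        obtain ⟨z, hz, hzi⟩ := hF1 i hi
        exact ⟨z, hz, by simpa using hzi⟩)
    obtain ⟨z, hzZ, hz⟩ := h1
    refine ⟨z, hF2 ?_, hzZ⟩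
    intro i hi
    have := hz ((fun z : I → Prop => z i) ⁻¹' {True})
      (by simpa using Finset.mem_image_of_mem _ hi)
    simpa using this
  refine ⟨w, ?_⟩
  apply subset_antisymm
  · exact closure_minimal (singleton_subset_iff.2 hwZ) hZcl
  · intro z hz
    rw [mem_closure_iff]
    intro u hu hzu
    obtain ⟨F, hF1, hF2⟩ := exists_sBasic_subset hu hzu
    refine ⟨w, hF2 ?_, rfl⟩
    intro i hi
    exact ⟨z, hz, hF1 i hi⟩

instance : SpectralSpace (I → Prop) where

theorem spectralSpace_of_homeomorph {X Y : Type*} [TopologicalSpace X] [TopologicalSpace Y]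
    (e : X ≃ₜ Y) [SpectralSpace Y] : SpectralSpace X := by
  have : CompactSpace X := e.symm.compactSpace
  exact e.isOpenEmbedding.spectralSpace

section Hochster

variable {X : Type*} [TopologicalSpace X]

/-- The Hochster map of a space into a power of the Sierpiński space, indexed by its
quasi-compact opens. -/
def hochsterMap (X : Type*) [TopologicalSpace X] :
    X → ({U : Set X // IsOpen U ∧ IsCompact U} → Prop) := fun x U => x ∈ U.1

theorem continuous_hochsterMap : Continuous (hochsterMap X) := by
  refine continuous_pi fun U => ?_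
  rw [continuous_Prop]
  exact U.2.1

theorem hochsterMap_preimage_sBasic (F : Finset {U : Set X // IsOpen U ∧ IsCompact U}) :
    hochsterMap X ⁻¹' sBasic F = ⋂ U ∈ F, U.1 := by
  ext x
  simp [hochsterMap, sBasic]

theorem isCompact_isOpen_biInter_finset [CompactSpace X] [QuasiSeparatedSpace X]
    (F : Finset {U : Set X // IsOpen U ∧ IsCompact U}) :
    IsOpen (⋂ U ∈ F, U.1) ∧ IsCompact (⋂ U ∈ F, U.1) := by
  classical
  induction F using Finset.induction_on with
  | empty => simp [isCompact_univ]
  | insert U F _ ih =>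
    simp only [Finset.mem_insert, iInter_iInter_eq_or_left]
    exact ⟨U.2.1.inter ih.1, QuasiSeparatedSpace.inter_isCompact _ _ U.2.1 U.2.2 ih.1 ih.2⟩

theorem isSpectralMap_hochsterMap [CompactSpace X] [QuasiSeparatedSpace X] :
    IsSpectralMap (hochsterMap X) := by
  refine ⟨continuous_hochsterMap, fun s hso hsc => ?_⟩
  obtain ⟨t, ht, rfl⟩ := (isCompact_open_iff_eq_finite_iUnion_of_isTopologicalBasis _
    isTopologicalBasis_sBasic isCompact_sBasic s).1 ⟨hsc, hso⟩
  rw [preimage_iUnion₂]
  refine ht.isCompact_biUnion fun F _ => ?_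
  rw [hochsterMap_preimage_sBasic]
  exact (isCompact_isOpen_biInter_finset F).2

theorem isEmbedding_hochsterMap [T0Space X] [PrespectralSpace X] :
    IsEmbedding (hochsterMap X) := by
  refine ⟨⟨?_⟩, ?_⟩
  · apply le_antisymm
    · exact continuous_hochsterMap.le_induced
    · intro s hs
      rw [isOpen_induced_iff]
      obtain ⟨S, hS, rfl⟩ := (PrespectralSpace.isTopologicalBasis (X := X)).open_eq_sUnion hs
      refine ⟨⋃ U : {U : Set X // IsOpen U ∧ IsCompact U}, ⋃ _ : U.1 ∈ S, sBasic {U}, ?_, ?_⟩
      · exact isOpen_iUnion fun U => isOpen_iUnion fun _ => isOpen_sBasic _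
      · ext x
        simp only [preimage_iUnion, mem_iUnion, mem_preimage, mem_sBasic, Finset.mem_singleton,
          forall_eq, hochsterMap, mem_sUnion, exists_prop]
        constructor
        · rintro ⟨U, hU, hx⟩
          exact ⟨U.1, hU, hx⟩
        · rintro ⟨U, hU, hx⟩
          exact ⟨⟨U, hS hU⟩, hU, hx⟩
  · intro x y hxy
    by_contra hne
    obtain ⟨u, hu, hxu⟩ := exists_isOpen_xor'_mem hne
    rcases hxu with ⟨hx, hy⟩ | ⟨hy, hx⟩
    · obtain ⟨v, hv, hxv, hvu⟩ :=
        (PrespectralSpace.isTopologicalBasis (X := X)).exists_subset_of_mem_open hx hu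
      have := congrFun hxy ⟨v, hv⟩
      simp only [hochsterMap, eq_iff_iff] at this
      exact hy (hvu (this.1 hxv))
    · obtain ⟨v, hv, hyv, hvu⟩ :=
        (PrespectralSpace.isTopologicalBasis (X := X)).exists_subset_of_mem_open hy hu
      have := congrFun hxy ⟨v, hv⟩
      simp only [hochsterMap, eq_iff_iff] at this
      exact hx (hvu (this.2 hyv))

end Hochster

end Groth.Agent.H4.Spec
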