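import Mathlib

/-!
# Smooth over reduced is reduced (helper4)

Via Mathlib's `TensorProduct.toIntegralClosure_bijective_of_smooth` with `B = R[X]`: a ring `R` is
reduced iff it is integrally closed in `R[X]`.
-/

universe u

namespace Groth.Agent.H4.SmRed

open Polynomial TensorProduct

/-- Over a domain, an integral element of the polynomial ring is constant. -/
lemma natDegree_eq_zero_of_isIntegral {D : Type*} [CommRing D] [IsDomain D] (g : D[X])
    (hg : IsIntegral D g) : g.natDegree = 0 := by
  obtain ⟨P, hP, hroot⟩ := hg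
  by_contra hd
  have h1 : eval₂ (algebraMap D D[X]) g P = P.comp g := by
    rw [Polynomial.comp]
    rfl
  rw [h1] at hroot
  have h2 : (P.comp g).natDegree = P.natDegree * g.natDegree := natDegree_comp
  rw [hroot, natDegree_zero] at h2
  have h3 : P.natDegree = 0 := by
    rcases Nat.mul_eq_zero.mp h2.symm with h | h
    · exact h
    · exact absurd h hd
  have h4 : P = 1 := by
    have := eq_C_of_natDegree_eq_zero h3
    rw [this]
    have hl : P.leadingCoeff = 1 := hP
    rw [leadingCoeff, h3] at hl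
    rw [hl, C_1]
  rw [h4, one_comp] at hroot
  exact one_ne_zero hroot

/-- Over a reduced ring, an integral element of the polynomial ring is constant. -/
lemma coeff_eq_zero_of_isIntegral {R : Type*} [CommRing R] [IsReduced R] (f : R[X])
    (hf : IsIntegral R f) (i : ℕ) (hi : i ≠ 0) : f.coeff i = 0 := by
  apply IsReduced.eq_zero
  rw [← mem_nilradical, nilradical_eq_sInf, Ideal.mem_sInf]
  intro p hp
  have : p.IsPrime := hp
  let φ : R[X] →+* (R ⧸ p)[X] := mapRingHom (Ideal.Quotient.mk p)
  have hint : IsIntegral (R ⧸ p) (φ f) := by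
    refine IsIntegral.map_of_comp_eq (Ideal.Quotient.mk p) φ ?_ hf
    ext r
    simp [φ]
  have hdeg := natDegree_eq_zero_of_isIntegral (φ f) hint
  have hc : (φ f).coeff i = 0 := by
    apply coeff_eq_zero_of_natDegree_lt
    rw [hdeg]
    exact Nat.pos_of_ne_zero hi
  have : Ideal.Quotient.mk p (f.coeff i) = 0 := by
    rw [← hc]
    simp [φ]
  exact Ideal.Quotient.eq_zero_iff_mem.mp this

theorem isReduced_of_smooth (R : Type*) [CommRing R] (S : Type*) [CommRing S]
    [Algebra R S] [Algebra.Smooth R S] [IsReduced R] : IsReduced S := by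
  refine ⟨fun n hn => ?_⟩
  -- `n ⊗ X` is nilpotent, hence integral over `S`
  have hnil : IsNilpotent (n ⊗ₜ[R] (X : R[X])) := by
    obtain ⟨k, hk⟩ := hn
    refine ⟨k, ?_⟩
    rw [Algebra.TensorProduct.tmul_pow, hk, zero_tmul]
  have hint : IsIntegral S (n ⊗ₜ[R] (X : R[X])) := by
    obtain ⟨k, hk⟩ := hnil
    exact ⟨X ^ k, monic_X_pow k, by simp [hk]⟩
  obtain ⟨y, hy⟩ := (TensorProduct.toIntegralClosure_bijective_of_smooth (R := R) (S := S)
    (B := R[X])).2 ⟨_, hint⟩
  have hy' : (Algebra.TensorProduct.map (AlgHom.id S S) (integralClosure R R[X]).val) y =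
      n ⊗ₜ[R] (X : R[X]) := congrArg Subtype.val hy
  -- the coefficient-of-`X` functional
  let ψ : S ⊗[R] R[X] →ₗ[R] S ⊗[R] R := LinearMap.lTensor S (lcoeff R 1)
  have h1 : ψ (n ⊗ₜ[R] (X : R[X])) = n ⊗ₜ[R] (1 : R) := by
    simp [ψ]
  have h2 : ∀ z : S ⊗[R] integralClosure R R[X],
      ψ ((Algebra.TensorProduct.map (AlgHom.id S S) (integralClosure R R[X]).val) z) = 0 := by
    intro z
    induction z with
    | zero => simp
    | add a b ha hb => rw [map_add, map_add, ha, hb, add_zero]
    | tmul s b =>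
      have hb : (b : R[X]).coeff 1 = 0 := coeff_eq_zero_of_isIntegral _ b.2 1 one_ne_zero
      simp [ψ, hb]
  have h3 : n ⊗ₜ[R] (1 : R) = 0 := by
    rw [← h1, ← hy', h2]
  have h4 := congrArg (TensorProduct.rid R S) h3
  simpa using h4

end Groth.Agent.H4.SmRed
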