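import Mathlib
import Groth.Prelude.Def_DRing2
import Groth.Agent.H4.TorOpen1

set_option autoImplicit false
universe u
open Polynomial TensorProduct

namespace Groth.Agent.H4.SmTor1

section Inj

variable (R : Type u) [CommRing R] (M : Type u) [AddCommGroup M] [Module R M]

lemma e_tmul (p : R[X]) (m : M) :
    PolynomialModule.polynomialTensorProductLEquivPolynomialModule R M (p ⊗ₜ m) =
      p • PolynomialModule.single R 0 m := by
  simp [PolynomialModule.polynomialTensorProductLEquivPolynomialModule]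
  rfl

variable (ξ : M →ₗ[R] M)

/-- the polynomial-module form of `X ⊗ 1 - 1 ⊗ ξ` -/
noncomputable def t2 (p : PolynomialModule R M) : PolynomialModule R M :=
  (X : R[X]) • p - PolynomialModule.map R ξ p

lemma t2_coeff_succ (p : PolynomialModule R M) (n : ℕ) :
    (t2 R M ξ p).coeff (n + 1) = p.coeff n - ξ (p.coeff (n + 1)) := by
  have h1 : ((X : R[X]) • p).coeff (n + 1) = p.coeff n := by
    have := PolynomialModule.monomial_smul_apply 1 (1 : R) p (n + 1)
    rw [Polynomial.monomial_one_one_eq_X] at this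
    rw [this]
    simp
  have h2 : (PolynomialModule.map R ξ p).coeff (n + 1) = ξ (p.coeff (n + 1)) := by
    simp [PolynomialModule.map]
  unfold t2
  rw [show ((X : R[X]) • p - PolynomialModule.map R ξ p).coeff =
    ((X : R[X]) • p).coeff - (PolynomialModule.map R ξ p).coeff from rfl]
  rw [Finsupp.sub_apply, h1, h2]

lemma t2_injective (p : PolynomialModule R M) (h : t2 R M ξ p = 0) : p = 0 := by
  have h1 : ∀ n, p.coeff n = ξ (p.coeff (n + 1)) := by
    intro n
    have := t2_coeff_succ R M ξ p n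
    rw [h] at this
    simp only [PolynomialModule.coeff_zero, Finsupp.coe_zero, Pi.zero_apply] at this
    exact (sub_eq_zero.1 this.symm)
  have h2 : ∀ j n, p.coeff n = (ξ ^ j) (p.coeff (n + j)) := by
    intro j
    induction j with
    | zero => intro n; simp
    | succ j ih =>
      intro n
      rw [ih n, h1 (n + j), pow_succ, Module.End.mul_apply, add_assoc]
  rw [← PolynomialModule.coeff_eq_zero]
  ext n
  obtain ⟨N, hN⟩ : ∃ N, ∀ k, N ≤ k → p.coeff k = 0 := by
    refine ⟨p.coeff.support.sup id + 1, fun k hk => ?_⟩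
    by_contra hne
    have := Finset.le_sup (f := id) (Finsupp.mem_support_iff.2 hne)
    simp only [id_eq] at this
    omega
  rw [h2 N n, hN (n + N) (by omega), map_zero]
  rfl

end Inj

section Seq

variable (R : Type u) [CommRing R] (M : Type u) [AddCommGroup M] [Module R M] [Module R[X] M]
  [IsScalarTower R R[X] M]

/-- multiplication by `X` -/
noncomputable def xi : M →ₗ[R] M where
  toFun m := (X : R[X]) • m
  map_add' := smul_add _
  map_smul' r m := by
    simp only [RingHom.id_apply]
    rw [← algebraMap_smul R[X] r m, ← algebraMap_smul R[X] r ((X : R[X]) • m), smul_smul, smul_smul,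
      mul_comm]

/-- the map `X ⊗ 1 - 1 ⊗ X` -/
noncomputable def tt : R[X] ⊗[R] M →ₗ[R[X]] R[X] ⊗[R] M :=
  (X : R[X]) • LinearMap.id - LinearMap.baseChange R[X] (xi R M)

/-- the counit -/
noncomputable def ee : R[X] ⊗[R] M →ₗ[R[X]] M :=
  LinearMap.liftBaseChange R[X] (LinearMap.id : M →ₗ[R] M)

lemma tt_tmul (p : R[X]) (m : M) : tt R M (p ⊗ₜ m) = (X * p) ⊗ₜ m - p ⊗ₜ ((X : R[X]) • m) := by
  simp only [tt, LinearMap.sub_apply, LinearMap.smul_apply, LinearMap.id_coe, id_eq,
    LinearMap.baseChange_tmul, TensorProduct.smul_tmul', smul_eq_mul]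
  rfl

lemma ee_tmul (p : R[X]) (m : M) : ee R M (p ⊗ₜ m) = p • m := by
  simp [ee]

lemma ee_tt (z : R[X] ⊗[R] M) : ee R M (tt R M z) = 0 := by
  induction z using TensorProduct.induction_on with
  | zero => simp
  | tmul p m => rw [tt_tmul, map_sub, ee_tmul, ee_tmul, mul_smul, smul_comm, sub_self]
  | add x y hx hy => rw [map_add, map_add, hx, hy, add_zero]

lemma ee_surjective : Function.Surjective (ee R M) := fun m => ⟨1 ⊗ₜ m, by rw [ee_tmul, one_smul]⟩

lemma pow_tmul_sub_mem (k : ℕ) (m : M) :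
    ((X : R[X]) ^ k) ⊗ₜ[R] m - (1 : R[X]) ⊗ₜ[R] (((X : R[X]) ^ k) • m) ∈ LinearMap.range (tt R M) := by
  induction k generalizing m with
  | zero => simp
  | succ k ih =>
    have h1 : ((X : R[X]) ^ (k + 1)) ⊗ₜ[R] m - (1 : R[X]) ⊗ₜ[R] (((X : R[X]) ^ (k + 1)) • m) =
        tt R M (((X : R[X]) ^ k) ⊗ₜ[R] m) +
          (((X : R[X]) ^ k) ⊗ₜ[R] ((X : R[X]) • m) -
            (1 : R[X]) ⊗ₜ[R] (((X : R[X]) ^ k) • ((X : R[X]) • m))) := by
      rw [tt_tmul, pow_succ', ← mul_smul, mul_comm ((X : R[X]) ^ k) X]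
      abel
    rw [h1]
    exact Submodule.add_mem _ ⟨_, rfl⟩ (ih _)

lemma sub_mem_range (z : R[X] ⊗[R] M) :
    z - (1 : R[X]) ⊗ₜ[R] (ee R M z) ∈ LinearMap.range (tt R M) := by
  induction z using TensorProduct.induction_on with
  | zero => simp
  | add x y hx hy =>
    have : x + y - (1 : R[X]) ⊗ₜ[R] (ee R M (x + y)) =
        (x - (1 : R[X]) ⊗ₜ[R] (ee R M x)) + (y - (1 : R[X]) ⊗ₜ[R] (ee R M y)) := by
      rw [map_add, TensorProduct.tmul_add]; abel
    rw [this]
    exact Submodule.add_mem _ hx hy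
  | tmul p m =>
    rw [ee_tmul]
    induction p using Polynomial.induction_on' with
    | add p q hp hq =>
      have : (p + q) ⊗ₜ[R] m - (1 : R[X]) ⊗ₜ[R] ((p + q) • m) =
          (p ⊗ₜ[R] m - (1 : R[X]) ⊗ₜ[R] (p • m)) + (q ⊗ₜ[R] m - (1 : R[X]) ⊗ₜ[R] (q • m)) := by
        rw [TensorProduct.add_tmul, add_smul, TensorProduct.tmul_add]; abel
      rw [this]
      exact Submodule.add_mem _ hp hq
    | monomial k r =>
      have : (monomial k r) ⊗ₜ[R] m - (1 : R[X]) ⊗ₜ[R] ((monomial k r) • m) =
          r • (((X : R[X]) ^ k) ⊗ₜ[R] m - (1 : R[X]) ⊗ₜ[R] (((X : R[X]) ^ k) • m)) := by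
        rw [← Polynomial.smul_X_eq_monomial, smul_sub, TensorProduct.smul_tmul',
          smul_assoc, TensorProduct.tmul_smul]
      rw [this]
      exact Submodule.smul_of_tower_mem _ r (pow_tmul_sub_mem R M k m)

lemma exact_tt_ee : Function.Exact (tt R M) (ee R M) := by
  intro z
  constructor
  · intro hz
    have := sub_mem_range R M z
    rw [hz, TensorProduct.tmul_zero, sub_zero] at this
    exact this
  · rintro ⟨w, rfl⟩
    exact ee_tt R M w

lemma e_tt (z : R[X] ⊗[R] M) :
    PolynomialModule.polynomialTensorProductLEquivPolynomialModule R M (tt R M z) =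
      t2 R M (xi R M) (PolynomialModule.polynomialTensorProductLEquivPolynomialModule R M z) := by
  induction z using TensorProduct.induction_on with
  | zero => simp [t2]
  | add x y hx hy =>
    rw [map_add, map_add, hx, hy, map_add]
    simp only [t2, smul_add, map_add]
    abel
  | tmul p m =>
    rw [tt_tmul, map_sub, e_tmul, e_tmul, e_tmul, t2, PolynomialModule.map_smul,
      PolynomialModule.map_single, mul_smul]
    simp only [Algebra.algebraMap_self, Polynomial.map_id]
    rfl

lemma tt_injective : Function.Injective (tt R M) := by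
  rw [injective_iff_map_eq_zero]
  intro z hz
  have h1 := e_tt R M z
  rw [hz, map_zero] at h1
  have h2 := t2_injective R M (xi R M) _ h1.symm
  exact (LinearEquiv.map_eq_zero_iff _).1 h2

/-- a module over `R[X]` which is flat over `R` has tor dimension at most one over `R[X]` -/
theorem hasTorDimLE_one_of_flat [Module.Flat R M] : DRing.HasTorDimLE R[X] 1 M := by
  haveI : Module.Flat R[X] (R[X] ⊗[R] M) := inferInstance
  exact Groth.Agent.H4.TorOpen1.hasTorDimLE_succ_of_ses (tt R M) (ee R M) (tt_injective R M)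
    (exact_tt_ee R M) (ee_surjective R M) 0
    ((Groth.Agent.H4.TorOpen1.hasTorDimLE_zero_iff _).2 inferInstance)

end Seq

end Groth.Agent.H4.SmTor1
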