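import Mathlib
import Groth.Prelude.Def_DRing2
import Groth.Agent.H4.TorAmp3
import Groth.Agent.H4.Perf1
import Groth.Agent.H4.RestrPC
import Groth.Agent.H4.RB5
import Groth.Agent.H4.BCSq
import Groth.Agent.H4.WEt
import Groth.Agent.H4.KProj5

set_option autoImplicit false
universe u
attribute [local instance] HasDerivedCategory.standard
open CategoryTheory CategoryTheory.Limits MonoidalCategory DerivedCategory
open DRing Groth.Agent.H4.PC Groth.Agent.H4.ResP Groth.Agent.H4.DRing1 Groth.Agent.H4.LDer
open Groth.Agent.H4.TorAmp Groth.Agent.H4.RestrPC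

namespace Groth.Agent.H4.WEtTor

section A

variable {R : Type u} [CommRing R]

/-- a bounded above flat complex, exact below `a`, with flat cokernel of `d^{a-1}`, has tor
amplitude in `[a, b]` -/
theorem hasTorAmp_of_flat_coker (P : Cx R) (a b : ℤ) (hP : IsBAFlat b P)
    (h1 : ∀ i : ℤ, i < a → P.ExactAt i)
    (h2 : Module.Flat R (P.X a ⧸ LinearMap.range (P.d (a - 1) a).hom)) :
    HasTorAmplitudeIn R a b (toD P) := by
  haveI : P.IsGE a := by rw [CochainComplex.isGE_iff]; exact h1
  have hflat : Module.Flat R (P.opcycles a) :=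
    Module.Flat.of_linearEquiv (opcyclesIso P (a - 1) a (by omega)).toLinearEquiv
  refine ⟨P.truncGE a, ?_, ?_, ⟨(asIso (Q.map (P.πTruncGE a))).symm⟩⟩
  · intro i hi
    rcases hi with hi | hi
    · exact (P.truncGE a).isZero_of_isStrictlyGE a i hi
    · by_cases hia : a < i
      · exact (hP.1 i hi).of_iso (P.truncGEXIso a i hia)
      · by_cases hia' : i < a
        · exact (P.truncGE a).isZero_of_isStrictlyGE a i hia'
        · obtain rfl : i = a := by omega
          refine IsZero.of_iso ?_ (P.truncGEXIsoOpcycles i)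
          rw [IsZero.iff_id_eq_zero, ← cancel_epi (P.pOpcycles i)]
          exact (hP.1 i hi).eq_of_src _ _
  · intro i
    by_cases hia : a < i
    · haveI := hP.2 i
      exact Module.Flat.of_linearEquiv (P.truncGEXIso a i hia).toLinearEquiv
    · by_cases hia' : i < a
      · haveI := ModuleCat.subsingleton_of_isZero ((P.truncGE a).isZero_of_isStrictlyGE a i hia')
        infer_instance
      · obtain rfl : i = a := by omega
        exact Module.Flat.of_linearEquiv (P.truncGEXIsoOpcycles i).toLinearEquiv

lemma isGE_of_hasTorAmp {a b : ℤ} {K : Dual.D R} (h : HasTorAmplitudeIn R a b K) : K.IsGE a := by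
  obtain ⟨E, h1, h2, ⟨e'⟩⟩ := h
  rw [isGE_iff]
  intro i hi
  exact (isZero_homology_toD_of_isZero E i (h1 i (Or.inl hi))).of_iso
    ((homologyFunctor (ModuleCat.{u} R) i).mapIso e'.symm)

end A

section W

variable (R S : Type u) [CommRing R] [CommRing S] [Algebra R S]

/-- **tor amplitude descends along weakly étale ring maps** -/
theorem hasTorAmp_of_weaklyEtale [Algebra.WeaklyEtale R S] (K : Dual.D S) (a b : ℤ)
    (h : HasTorAmplitudeIn R a b ((restrictD (algebraMap R S)).obj K)) :
    HasTorAmplitudeIn S a b K := by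
  haveI : K.IsLE b := (isLE_restrictD_iff (algebraMap R S) K b).1 (isLE_of_hasTorAmp h)
  obtain ⟨P, hP, ⟨e⟩⟩ := exists_iso_of_isLE K b
  refine hasTorAmp_of_iso e ?_
  -- the restricted complex
  have hF : IsBAFlat b ((GC (ModuleCat.restrictScalars.{u} (algebraMap R S))).obj P) :=
    ⟨fun i hi => (ModuleCat.restrictScalars.{u} (algebraMap R S)).map_isZero (hP.1 i hi),
      fun i => by
        haveI := hP.2 i
        exact Groth.Agent.H4.BCSq.flat_restrictScalars R S (P.X i)⟩
  have e1 : (restrictD (algebraMap R S)).obj K ≅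
      toD ((GC (ModuleCat.restrictScalars.{u} (algebraMap R S))).obj P) :=
    (restrictD (algebraMap R S)).mapIso e.symm ≪≫
      (ModuleCat.restrictScalars.{u} (algebraMap R S)).mapDerivedCategoryFactors.app P
  have h' := hasTorAmp_of_iso e1 h
  have hfl := Groth.Agent.H4.Perf.flat_coker_of_hasTorAmp _ b hF.1 hF.2 a b h'
  -- exactness below `a`
  haveI hGE : K.IsGE a := by
    rw [← Groth.Agent.H4.RB5.isGE_restrictD_iff (algebraMap R S) K a]
    exact isGE_of_hasTorAmp h
  have hex : ∀ i : ℤ, i < a → P.ExactAt i := by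
    intro i hi
    rw [HomologicalComplex.exactAt_iff_isZero_homology]
    have hz : IsZero ((homologyFunctor (ModuleCat.{u} S) i).obj K) := by
      have := (isGE_iff K a).1 hGE i hi
      exact this
    exact (hz.of_iso ((homologyFunctor (ModuleCat.{u} S) i).mapIso e)).of_iso
      (homologyToDIso P i).symm
  refine hasTorAmp_of_flat_coker P a b hP.isBAFlat hex ?_
  -- flatness of the cokernel
  letI modR : Module R (P.X a) := Module.compHom (P.X a) (algebraMap R S)
  haveI : IsScalarTower R S (P.X a) := IsScalarTower.of_algebraMap_smul (fun r x => rfl)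
  let e2 : (((GC (ModuleCat.restrictScalars.{u} (algebraMap R S))).obj P).X a ⧸
      LinearMap.range (((GC (ModuleCat.restrictScalars.{u} (algebraMap R S))).obj P).d (a - 1) a).hom)
        ≃ₗ[R] (P.X a ⧸ (LinearMap.range (P.d (a - 1) a).hom).restrictScalars R) :=
    Submodule.Quotient.equiv _ _ (LinearEquiv.refl R (P.X a)) (by
      ext x
      simp only [Submodule.mem_map, LinearMap.mem_range, Submodule.restrictScalars_mem]
      constructor
      · rintro ⟨y, ⟨z, rfl⟩, rfl⟩
        exact ⟨z, rfl⟩
      · rintro ⟨z, rfl⟩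
        exact ⟨_, ⟨z, rfl⟩, rfl⟩)
  let e3 := Submodule.Quotient.restrictScalarsEquiv R (LinearMap.range (P.d (a - 1) a).hom)
  haveI : Module.Flat R (P.X a ⧸ LinearMap.range (P.d (a - 1) a).hom) :=
    Module.Flat.of_linearEquiv (e2.trans e3).symm
  exact Groth.Agent.H4.WEt.main (A := R) (B := S) (Algebra.WeaklyEtale.flat_lmul' R S)

end W

end Groth.Agent.H4.WEtTor
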