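import Mathlib
import Groth.Prelude.Def_DRing2
import Groth.Agent.H4.WEtTor
import Groth.Agent.H4.FlatAcyc2
import Groth.Agent.H4.FAmp9
import Groth.Agent.H4.TorOpen1

set_option autoImplicit false
universe u
attribute [local instance] HasDerivedCategory.standard
open CategoryTheory CategoryTheory.Limits DerivedCategory
open DRing Groth.Agent.H4.LDer Groth.Agent.H4.TorAmp

namespace Groth.Agent.H4.SmTor2

variable {R : Type u} [CommRing R]

/-- a bounded above flat complex, exact below `a`, with cokernel of `d^{a-1}` of tor dimension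
`≤ d`, has tor amplitude in `[a - d, b]` -/
theorem hasTorAmp_of_td_coker (P : Cx R) (b : ℤ) (hP : IsBAFlat b P) (d : ℕ) :
    ∀ (a : ℤ), (∀ i : ℤ, i < a → P.ExactAt i) →
      DRing.HasTorDimLE R d (P.X a ⧸ LinearMap.range (P.d (a - 1) a).hom) →
      HasTorAmplitudeIn R (a - d) b (toD P) := by
  induction d with
  | zero =>
    intro a h1 h2
    have hfl : Module.Flat R (P.X a ⧸ LinearMap.range (P.d (a - 1) a).hom) :=
      (Groth.Agent.H4.TorOpen1.hasTorDimLE_zero_iff _).1 h2
    have := Groth.Agent.H4.WEtTor.hasTorAmp_of_flat_coker P a b hP h1 hfl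
    simpa using this
  | succ d ih =>
    intro a h1 h2
    have hex : Function.Exact (P.d (a - 1 - 1) (a - 1)).hom (P.d (a - 1) a).hom :=
      Groth.Agent.H4.FlatAcyc.exact_d_of_exactAt P (a - 1 - 1) (a - 1) a (by omega) (by omega)
        (h1 (a - 1) (by omega))
    -- the induced map from the cokernel
    let f : (P.X (a - 1) ⧸ LinearMap.range (P.d (a - 1 - 1) (a - 1)).hom) →ₗ[R] P.X a :=
      Submodule.liftQ _ (P.d (a - 1) a).hom (by
        rw [LinearMap.exact_iff.1 hex])
    have hf : Function.Injective f := by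
      rw [← LinearMap.ker_eq_bot, Submodule.ker_liftQ, LinearMap.exact_iff.1 hex]
      exact Submodule.mkQ_map_self _
    have hfg : Function.Exact f (LinearMap.range (P.d (a - 1) a).hom).mkQ := by
      rw [LinearMap.exact_iff, Submodule.ker_mkQ, Submodule.range_liftQ]
    haveI := hP.2 a
    have h3 : DRing.HasTorDimLE R d (P.X (a - 1) ⧸ LinearMap.range (P.d (a - 1 - 1) (a - 1)).hom) :=
      Groth.Agent.H4.FAmp9.hasTorDimLE_of_ses f _ hf hfg (Submodule.mkQ_surjective _) d h2
    have := ih (a - 1) (fun i hi => h1 i (by omega)) h3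
    have e : a - 1 - (d : ℤ) = a - ((d + 1 : ℕ) : ℤ) := by push_cast; ring
    rw [e] at this
    exact this

end Groth.Agent.H4.SmTor2
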