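import Mathlib
import Groth.Prelude.Def_DRing2
import Groth.Agent.H4.WEtTor
import Groth.Agent.H4.SmTor1
import Groth.Agent.H4.SmTor2

set_option autoImplicit false
universe u
attribute [local instance] HasDerivedCategory.standard
open CategoryTheory CategoryTheory.Limits MonoidalCategory DerivedCategory
open DRing Groth.Agent.H4.PC Groth.Agent.H4.ResP Groth.Agent.H4.DRing1 Groth.Agent.H4.LDer
open Groth.Agent.H4.TorAmp Groth.Agent.H4.RestrPC

namespace Groth.Agent.H4.SmTor3

variable (R S : Type u) [CommRing R] [CommRing S] [Algebra R S]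

/-- every `S`-module which is flat over `R` has tor dimension `≤ d` over `S` -/
def RelTD (d : ℕ) : Prop :=
  ∀ (M : Type u) [AddCommGroup M] [Module R M] [Module S M] [IsScalarTower R S M]
    [Module.Flat R M], DRing.HasTorDimLE S d M

theorem relTD_polynomial : RelTD R (Polynomial R) 1 := fun M _ _ _ _ _ =>
  Groth.Agent.H4.SmTor1.hasTorDimLE_one_of_flat R M

/-- **tor amplitude along a flat ring map of relative tor dimension `≤ d`** -/
theorem hasTorAmp_of_relTD [Module.Flat R S] (d : ℕ) (hd : RelTD R S d) (K : Dual.D S) (a b : ℤ)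
    (h : HasTorAmplitudeIn R a b ((restrictD (algebraMap R S)).obj K)) :
    HasTorAmplitudeIn S (a - d) b K := by
  haveI : K.IsLE b := (isLE_restrictD_iff (algebraMap R S) K b).1 (isLE_of_hasTorAmp h)
  obtain ⟨P, hP, ⟨e⟩⟩ := exists_iso_of_isLE K b
  refine hasTorAmp_of_iso e ?_
  -- the restricted complex
  have hF : IsBAFlat b ((GC (ModuleCat.restrictScalars.{u} (algebraMap R S))).obj P) :=
    ⟨fun i hi => (ModuleCat.restrictScalars.{u} (algebraMap R S)).map_isZero (hP.1 i hi),
      fun i => by
        haveI := hP.2 i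
        exact Groth.Agent.H4.BCSq.flat_restrictScalars R S (P.X i)⟩
  have e1 : (restrictD (algebraMap R S)).obj K ≅
      toD ((GC (ModuleCat.restrictScalars.{u} (algebraMap R S))).obj P) :=
    (restrictD (algebraMap R S)).mapIso e.symm ≪≫
      (ModuleCat.restrictScalars.{u} (algebraMap R S)).mapDerivedCategoryFactors.app P
  have h' := hasTorAmp_of_iso e1 h
  have hfl := Groth.Agent.H4.Perf.flat_coker_of_hasTorAmp _ b hF.1 hF.2 a b h'
  -- exactness below `a`
  haveI hGE : K.IsGE a := by
    rw [← Groth.Agent.H4.RB5.isGE_restrictD_iff (algebraMap R S) K a]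
    exact Groth.Agent.H4.WEtTor.isGE_of_hasTorAmp h
  have hex : ∀ i : ℤ, i < a → P.ExactAt i := by
    intro i hi
    rw [HomologicalComplex.exactAt_iff_isZero_homology]
    have hz : IsZero ((homologyFunctor (ModuleCat.{u} S) i).obj K) := by
      have := (isGE_iff K a).1 hGE i hi
      exact this
    exact (hz.of_iso ((homologyFunctor (ModuleCat.{u} S) i).mapIso e)).of_iso
      (homologyToDIso P i).symm
  refine Groth.Agent.H4.SmTor2.hasTorAmp_of_td_coker P b hP.isBAFlat d a hex ?_
  -- flatness of the cokernel over `R`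
  letI modR : Module R (P.X a) := Module.compHom (P.X a) (algebraMap R S)
  haveI : IsScalarTower R S (P.X a) := IsScalarTower.of_algebraMap_smul (fun r x => rfl)
  let e2 : (((GC (ModuleCat.restrictScalars.{u} (algebraMap R S))).obj P).X a ⧸
      LinearMap.range (((GC (ModuleCat.restrictScalars.{u} (algebraMap R S))).obj P).d (a - 1) a).hom)
        ≃ₗ[R] (P.X a ⧸ (LinearMap.range (P.d (a - 1) a).hom).restrictScalars R) :=
    Submodule.Quotient.equiv _ _ (LinearEquiv.refl R (P.X a)) (by
      ext x
      simp only [Submodule.mem_map, LinearMap.mem_range, Submodule.restrictScalars_mem]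
      constructor
      · rintro ⟨y, ⟨z, rfl⟩, rfl⟩
        exact ⟨z, rfl⟩
      · rintro ⟨z, rfl⟩
        exact ⟨_, ⟨z, rfl⟩, rfl⟩)
  let e3 := Submodule.Quotient.restrictScalarsEquiv R (LinearMap.range (P.d (a - 1) a).hom)
  haveI : Module.Flat R (P.X a ⧸ LinearMap.range (P.d (a - 1) a).hom) :=
    Module.Flat.of_linearEquiv (e2.trans e3).symm
  exact hd _

end Groth.Agent.H4.SmTor3
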