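import Mathlib

set_option autoImplicit false
universe u

namespace Groth.Agent.H4.SmTor4

section LA

variable {S V W : Type*} [CommRing S] [AddCommGroup V] [Module S V] [AddCommGroup W] [Module S W]

/-- quotient basis: killing the last basis vector -/
theorem exists_basis_of_ker_eq_span_last (n : ℕ) (b : Module.Basis (Fin (n + 1)) S V)
    (π : V →ₗ[S] W) (hπ : Function.Surjective π)
    (hker : LinearMap.ker π = Submodule.span S {b (Fin.last n)}) :
    ∃ b' : Module.Basis (Fin n) S W, ∀ i, b' i = π (b i.castSucc) := by
  have hli : LinearIndependent S (π ∘ (fun i : Fin n => b i.castSucc)) := by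
    have h0 : LinearIndependent S (fun i : Fin n => b i.castSucc) :=
      b.linearIndependent.comp _ (Fin.castSucc_injective n)
    refine h0.map ?_
    rw [hker]
    have := b.linearIndependent.disjoint_span_image
      (s := Set.range (Fin.castSucc : Fin n → Fin (n + 1))) (t := {Fin.last n}) (by
        rw [Set.disjoint_singleton_right]
        rintro ⟨i, hi⟩
        exact (Fin.castSucc_lt_last i).ne hi)
    rw [Set.image_singleton, ← Set.range_comp] at this
    exact this
  have hsp : ⊤ ≤ Submodule.span S (Set.range (π ∘ (fun i : Fin n => b i.castSucc))) := by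
    rintro w -
    obtain ⟨v, rfl⟩ := hπ w
    have hv : v ∈ Submodule.span S (Set.range b) := by rw [b.span_eq]; trivial
    induction hv using Submodule.span_induction with
    | mem x hx =>
      obtain ⟨j, rfl⟩ := hx
      induction j using Fin.lastCases with
      | last =>
        have : b (Fin.last n) ∈ LinearMap.ker π := by
          rw [hker]; exact Submodule.subset_span rfl
        rw [LinearMap.mem_ker.1 this]
        exact Submodule.zero_mem _
      | cast i => exact Submodule.subset_span ⟨i, rfl⟩
    | zero => rw [map_zero]; exact Submodule.zero_mem _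
    | add x y _ _ hx hy => rw [map_add]; exact Submodule.add_mem _ hx hy
    | smul a x _ hx => rw [map_smul]; exact Submodule.smul_mem _ a hx
  exact ⟨Module.Basis.mk hli hsp, fun i => by rw [Module.Basis.mk_apply]; rfl⟩

end LA

section Coords

open Polynomial TensorProduct KaehlerDifferential

variable (R S : Type u) [CommRing R] [CommRing S] [Algebra R S]

/-- `S` is a finitely presented `R`-algebra with `H¹(L_{S/R}) = 0` and `Ω[S⁄R]` free on `n`
differentials (étale coordinates) -/
def HasCoords (n : ℕ) : Prop :=
  Algebra.FinitePresentation R S ∧ Subsingleton (Algebra.H1Cotangent R S) ∧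
    ∃ (s : Fin n → S) (b : Module.Basis (Fin n) S Ω[S⁄R]), ∀ i, b i = D R S (s i)

variable {R S}

lemma exists_tmul_DX [Algebra R[X] S] (z : S ⊗[R[X]] Ω[R[X]⁄R]) :
    ∃ c : S, z = c ⊗ₜ[R[X]] (D R R[X] X) := by
  induction z using TensorProduct.induction_on with
  | zero => exact ⟨0, by rw [TensorProduct.zero_tmul]⟩
  | add x y hx hy =>
    obtain ⟨c, rfl⟩ := hx
    obtain ⟨c', rfl⟩ := hy
    exact ⟨c + c', by rw [TensorProduct.add_tmul]⟩
  | tmul s ω =>
    have h1 : ω = (polynomialEquiv R ω) • D R R[X] X := by
      rw [← polynomialEquiv_symm, LinearEquiv.symm_apply_apply]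
    refine ⟨(polynomialEquiv R ω) • s, ?_⟩
    conv_lhs => rw [h1]
    rw [TensorProduct.tmul_smul, TensorProduct.smul_tmul']

theorem HasCoords.step [Algebra R[X] S] [IsScalarTower R R[X] S] (n : ℕ)
    [Algebra.FinitePresentation R S] [Subsingleton (Algebra.H1Cotangent R S)]
    (s : Fin (n + 1) → S) (b : Module.Basis (Fin (n + 1)) S Ω[S⁄R]) (hb : ∀ i, b i = D R S (s i))
    (hX : algebraMap R[X] S X = s (Fin.last n)) : HasCoords R[X] S n := by
  have hfp : Algebra.FinitePresentation R[X] S :=
    Algebra.FinitePresentation.of_restrict_scalars_finitePresentation R R[X] S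
  -- the base change map
  have hmB : ∀ c : S, mapBaseChange R R[X] S (c ⊗ₜ[R[X]] (D R R[X] X)) = c • b (Fin.last n) := by
    intro c
    rw [mapBaseChange_tmul, map_D, hX, hb]
  have hinj : Function.Injective (mapBaseChange R R[X] S) := by
    rw [injective_iff_map_eq_zero]
    intro z hz
    obtain ⟨c, rfl⟩ := exists_tmul_DX z
    rw [hmB] at hz
    have h2 := congrArg (fun v => b.repr v (Fin.last n)) hz
    simp only [map_smul, Module.Basis.repr_self, Finsupp.smul_apply, Finsupp.single_eq_same,
      smul_eq_mul, mul_one, map_zero, Finsupp.coe_zero, Pi.zero_apply] at h2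
    rw [h2, TensorProduct.zero_tmul]
  have hH1 : Subsingleton (Algebra.H1Cotangent R[X] S) := by
    refine ⟨fun y y' => ?_⟩
    have key : ∀ y : Algebra.H1Cotangent R[X] S, y = 0 := by
      intro y
      have h1 : Algebra.H1Cotangent.δ R R[X] S y = 0 := by
        apply hinj
        rw [map_zero]
        exact (Algebra.H1Cotangent.exact_δ_mapBaseChange R R[X] S _).2 ⟨y, rfl⟩
      obtain ⟨y0, rfl⟩ := (Algebra.H1Cotangent.exact_map_δ R R[X] S y).1 h1
      rw [Subsingleton.elim y0 0, map_zero]
    rw [key y, key y']
  have hker : LinearMap.ker (KaehlerDifferential.map R R[X] S S) =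
      Submodule.span S {b (Fin.last n)} := by
    rw [LinearMap.exact_iff.1 (exact_mapBaseChange_map R R[X] S)]
    apply le_antisymm
    · rintro _ ⟨z, rfl⟩
      obtain ⟨c, rfl⟩ := exists_tmul_DX z
      rw [hmB]
      exact Submodule.smul_mem _ _ (Submodule.subset_span rfl)
    · rw [Submodule.span_le, Set.singleton_subset_iff]
      exact ⟨1 ⊗ₜ[R[X]] (D R R[X] X), by rw [hmB, one_smul]⟩
  obtain ⟨b', hb'⟩ := exists_basis_of_ker_eq_span_last n b (KaehlerDifferential.map R R[X] S S)
    (KaehlerDifferential.map_surjective R R[X] S) hker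
  exact ⟨hfp, hH1, fun i => s i.castSucc, b', fun i => by rw [hb', hb, map_D]; rfl⟩

end Coords

end Groth.Agent.H4.SmTor4
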