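import Mathlib
import Groth.Prelude.Def_DRing2
import Groth.Agent.H4.SmTor3
import Groth.Agent.H4.SmTor4
import Groth.Agent.H4.RD

set_option autoImplicit false
universe u
attribute [local instance] HasDerivedCategory.standard
open CategoryTheory CategoryTheory.Limits DerivedCategory
open DRing Groth.Agent.H4.TorAmp Polynomial KaehlerDifferential

namespace Groth.Agent.H4.SmTor5

open Groth.Agent.H4.SmTor3 Groth.Agent.H4.SmTor4

variable (S : Type u) [CommRing S]

theorem etale_of_hasCoords_zero (R : Type u) [CommRing R] [Algebra R S] (h : HasCoords R S 0) :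
    Algebra.Etale R S := by
  obtain ⟨hfp, hH1, s, b, -⟩ := h
  haveI : Subsingleton Ω[S⁄R] := b.repr.toEquiv.subsingleton
  exact ⟨⟨inferInstance, hH1⟩, hfp⟩

/-- **smooth ring maps with `n` étale coordinates shift tor amplitude by at most `n`** -/
theorem hasTorAmp_of_hasCoords : ∀ (n : ℕ) (R : Type u) [CommRing R] [Algebra R S],
    HasCoords R S n → ∀ (K : Dual.D S) (a b : ℤ),
      HasTorAmplitudeIn R a b ((restrictD (algebraMap R S)).obj K) →
      HasTorAmplitudeIn S (a - n) b K := by
  intro n
  induction n with
  | zero =>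
    intro R _ _ h K a b hK
    haveI := etale_of_hasCoords_zero S R h
    have := Groth.Agent.H4.WEtTor.hasTorAmp_of_weaklyEtale R S K a b hK
    simpa using this
  | succ n ih =>
    intro R _ _ h K a b hK
    obtain ⟨hfp, hH1, s, bb, hbb⟩ := h
    letI alg : Algebra R[X] S := (Polynomial.aeval (R := R) (s (Fin.last n))).toRingHom.toAlgebra
    haveI : IsScalarTower R R[X] S :=
      IsScalarTower.of_algebraMap_eq (fun r => ((Polynomial.aeval (R := R) (s (Fin.last n))).commutes r).symm)
    have hX : algebraMap R[X] S X = s (Fin.last n) := Polynomial.aeval_X _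
    have h' : HasCoords R[X] S n := HasCoords.step n s bb hbb hX
    have hcomp : algebraMap R S = (algebraMap R[X] S).comp (algebraMap R R[X]) :=
      IsScalarTower.algebraMap_eq R R[X] S
    have e1 : (restrictD (algebraMap R S)).obj K ≅
        (restrictD (algebraMap R R[X])).obj ((restrictD (algebraMap R[X] S)).obj K) :=
      (Groth.Agent.H4.RD.restrictDCompIso (algebraMap R R[X]) (algebraMap R[X] S) (algebraMap R S)
        hcomp).app K
    have h1 := hasTorAmp_of_iso e1 hK
    have h2 := hasTorAmp_of_relTD R R[X] 1 (relTD_polynomial R) _ a b h1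
    have h3 := ih R[X] h' K _ b h2
    have e : a - ((1 : ℕ) : ℤ) - (n : ℤ) = a - ((n + 1 : ℕ) : ℤ) := by push_cast; ring
    rw [e] at h3
    exact h3

end Groth.Agent.H4.SmTor5
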