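import Mathlib
import Groth.Prelude.Def_DRing2
import Groth.Agent.H4.SmTor5

set_option autoImplicit false
universe u
attribute [local instance] HasDerivedCategory.standard
open CategoryTheory CategoryTheory.Limits DerivedCategory
open DRing Groth.Agent.H4.TorAmp Polynomial KaehlerDifferential

namespace Groth.Agent.H4.SmTor6

open Groth.Agent.H4.SmTor3 Groth.Agent.H4.SmTor4 Groth.Agent.H4.SmTor5

variable (R S : Type u) [CommRing R] [CommRing S] [Algebra R S]

theorem hasCoords_of_isStandardSmoothOfRelativeDimension (n : ℕ)
    [Algebra.IsStandardSmoothOfRelativeDimension n R S] : HasCoords R S n := by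
  obtain ⟨ι, σ, hσ, hι, P, hP⟩ := Algebra.IsStandardSmoothOfRelativeDimension.out (n := n) (R := R) (S := S)
  haveI : Algebra.IsStandardSmooth R S := P.isStandardSmooth
  classical
  letI : Fintype ι := Fintype.ofFinite ι
  letI : Fintype σ := Fintype.ofFinite σ
  have hcard : Fintype.card ((Set.range P.map)ᶜ : Set ι) = n := by
    rw [← hP]
    simp only [Fintype.card_compl_set, Algebra.Presentation.dimension, Nat.card_eq_fintype_card,
      Set.card_range_of_injective P.map_inj]
  let e : ((Set.range P.map)ᶜ : Set ι) ≃ Fin n := Fintype.equivFinOfCardEq hcard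
  refine ⟨inferInstance, inferInstance, fun i => P.val (e.symm i), P.basisKaehler.reindex e,
    fun i => ?_⟩
  rw [Module.Basis.reindex_apply, Algebra.SubmersivePresentation.basisKaehler_apply]

/-- **standard smooth of relative dimension `n` shifts tor amplitude by at most `n`** -/
theorem hasTorAmp_of_isStandardSmooth (n : ℕ) [Algebra.IsStandardSmoothOfRelativeDimension n R S]
    (K : Dual.D S) (a b : ℤ)
    (h : HasTorAmplitudeIn R a b ((restrictD (algebraMap R S)).obj K)) :
    HasTorAmplitudeIn S (a - n) b K :=
  hasTorAmp_of_hasCoords S n R (hasCoords_of_isStandardSmoothOfRelativeDimension R S n) K a b h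

end Groth.Agent.H4.SmTor6
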