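import Mathlib
import Groth.Prelude.Def_DRing2
import Groth.Prelude.Def_Hensel
import Groth.Agent.H4.WEtTor
import Groth.Agent.H4.PCHom
import Groth.Agent.H4.RD
import Groth.Agent.S6946
import Groth.Agent.S6947
import Groth.Agent.Lib.Helper8.Hens.CompFlat
import Groth.Agent.Lib.Helper8.Hens.WEtSpec

set_option autoImplicit false
universe u
attribute [local instance] HasDerivedCategory.standard
open CategoryTheory CategoryTheory.Limits DerivedCategory
open DRing Groth.Agent.H4.TorAmp Groth.Agent.H4.PCHom Groth.Agent.H4.WEtTor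

namespace Groth.Agent.H4.WEtTor2

/-- restriction along a flat ring map preserves tor amplitude -/
theorem hasTorAmp_restrictD_of_flat (R S : Type u) [CommRing R] [CommRing S] [Algebra R S]
    [Module.Flat R S] (K : Dual.D S) (a b : ℤ) (h : HasTorAmplitudeIn S a b K) :
    HasTorAmplitudeIn R a b ((restrictD (algebraMap R S)).obj K) := by
  have hfl : DRing.HasTorAmplitudeIn R (-((0 : ℕ) : ℤ)) 0 (Dual.inD R S) :=
    (Groth.Agent.S6946.result R S 0).1.1
      ((Groth.Agent.S6946.result R S 0).2.2 inferInstance)
  have h1 := Groth.Agent.S6947.result 0 hfl K a b h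
  simpa using h1

/-- weakly étale ring maps: tor amplitude can be tested after restriction of scalars -/
theorem hasTorAmp_restrictD_iff (R S : Type u) [CommRing R] [CommRing S] [Algebra R S]
    [Algebra.WeaklyEtale R S] (K : Dual.D S) (a b : ℤ) :
    HasTorAmplitudeIn R a b ((restrictD (algebraMap R S)).obj K) ↔ HasTorAmplitudeIn S a b K :=
  ⟨hasTorAmp_of_weaklyEtale R S K a b, hasTorAmp_restrictD_of_flat R S K a b⟩

/-- **S1292** -/
theorem S1292 {A : Type u} [CommRing A] (p : Ideal A) [p.IsPrime]
    (Ah Ash : Type u) [CommRing Ah] [IsLocalRing Ah] [CommRing Ash] [IsLocalRing Ash]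
    [Algebra (Localization.AtPrime p) Ah] [IsLocalHom (algebraMap (Localization.AtPrime p) Ah)] [Hensel.IsHenselization (Localization.AtPrime p) Ah]
    [Algebra (Localization.AtPrime p) Ash] [IsLocalHom (algebraMap (Localization.AtPrime p) Ash)] [Hensel.IsStrictHenselization (Localization.AtPrime p) Ash]
    [Algebra Ah Ash] [IsScalarTower (Localization.AtPrime p) Ah Ash]
    (a b : ℤ) (K : Dual.D Ash) (L : Dual.D Ah) :
    [DRing.HasTorAmplitudeIn (Localization.AtPrime p) a b ((DRing.restrictD (algebraMap (Localization.AtPrime p) Ash)).obj K),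
     DRing.HasTorAmplitudeIn Ah a b ((DRing.restrictD (algebraMap Ah Ash)).obj K),
     DRing.HasTorAmplitudeIn Ash a b K].TFAE ∧
    (DRing.HasTorAmplitudeIn (Localization.AtPrime p) a b ((DRing.restrictD (algebraMap (Localization.AtPrime p) Ah)).obj L) ↔
      DRing.HasTorAmplitudeIn Ah a b L) := by
  haveI h1 : Algebra.WeaklyEtale (Localization.AtPrime p) Ah :=
    Groth.Agent.H8.Hens.weaklyEtale_of_isHenselization (R := Localization.AtPrime p) Ah
  haveI h2 : Algebra.WeaklyEtale (Localization.AtPrime p) Ash :=
    Groth.Agent.H8.Hens.weaklyEtale_of_isStrictHenselization (R := Localization.AtPrime p) Ash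
  have hfl : (algebraMap Ah Ash).Flat :=
    Groth.Agent.H8.Hens.ringHom_flat_of_isHenselization (R := Localization.AtPrime p) Ah Ash
      (algebraMap Ah Ash) (by
        ext x
        exact (IsScalarTower.algebraMap_apply (Localization.AtPrime p) Ah Ash x).symm)
  haveI : Module.Flat Ah Ash := RingHom.flat_algebraMap_iff.mp hfl
  refine ⟨?_, hasTorAmp_restrictD_iff _ _ L a b⟩
  tfae_have 3 → 2 := hasTorAmp_restrictD_of_flat Ah Ash K a b
  tfae_have 2 → 1 := by
    intro h
    have h3 := hasTorAmp_restrictD_of_flat (Localization.AtPrime p) Ah _ a b h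
    have e := restrictDComp (algebraMap (Localization.AtPrime p) Ah) (algebraMap Ah Ash) K
    have hc : (algebraMap Ah Ash).comp (algebraMap (Localization.AtPrime p) Ah) =
        algebraMap (Localization.AtPrime p) Ash := by
      ext x
      exact (IsScalarTower.algebraMap_apply (Localization.AtPrime p) Ah Ash x).symm
    rw [hc] at e
    exact hasTorAmp_of_iso e.symm h3
  tfae_have 1 → 3 := hasTorAmp_of_weaklyEtale _ _ K a b
  tfae_finish

end Groth.Agent.H4.WEtTor2
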