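import Mathlib
import Groth.Prelude.Def_DRing2
import Groth.Agent.H4.SmTor6
import Groth.Agent.H4.WEtTor2

set_option autoImplicit false
universe u
open TensorProduct

namespace Groth.Agent.H4.SmTor7

variable (R : Type u) [CommRing R] (M : Submonoid R) (A : Type u) [CommRing A] [Algebra R A]
  [IsLocalization M A]

include M in
theorem lmul'_bijective : Function.Bijective (Algebra.TensorProduct.lmul' R (S := A)) := by
  haveI : IsLocalization (Algebra.algebraMapSubmonoid A M) (A ⊗[R] A) := inferInstance
  have hle : Algebra.algebraMapSubmonoid A M ≤ IsUnit.submonoid A := by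
    rintro _ ⟨m, hm, rfl⟩
    exact IsLocalization.map_units A ⟨m, hm⟩
  let e : A ≃ₐ[A] A ⊗[R] A := IsLocalization.atUnits A (Algebra.algebraMapSubmonoid A M) hle
  have h1 : Function.Bijective (algebraMap A (A ⊗[R] A)) := by
    have : (e : A → A ⊗[R] A) = algebraMap A (A ⊗[R] A) := by
      ext a
      have := e.commutes a
      simpa using this
    rw [← this]
    exact e.bijective
  have h2 : ∀ a : A, Algebra.TensorProduct.lmul' R (S := A) (algebraMap A (A ⊗[R] A) a) = a := by
    intro a
    simp [Algebra.TensorProduct.algebraMap_apply]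
  constructor
  · intro x y hxy
    obtain ⟨a, rfl⟩ := h1.2 x
    obtain ⟨b, rfl⟩ := h1.2 y
    rw [h2, h2] at hxy
    rw [hxy]
  · intro a
    exact ⟨algebraMap A (A ⊗[R] A) a, h2 a⟩

include M in
theorem weaklyEtale_of_isLocalization : Algebra.WeaklyEtale R A where
  flat := IsLocalization.flat A M
  flat_lmul' := RingHom.Flat.of_bijective (lmul'_bijective R M A)

section Square

attribute [local instance] HasDerivedCategory.standard
open CategoryTheory DerivedCategory DRing Groth.Agent.H4.TorAmp

variable (R R' A A' : Type u) [CommRing R] [CommRing R'] [CommRing A] [CommRing A']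
  [Algebra R R'] [Algebra R A] [Algebra A A'] [Algebra R' A'] [Algebra R A']
  [IsScalarTower R R' A'] [IsScalarTower R A A']

/-- the local form: a commutative square with `R → R'` flat, `R → A` standard smooth of relative
dimension `n` and `A → A'` weakly étale -/
theorem hasTorAmp_of_square [Module.Flat R R'] (n : ℕ)
    [Algebra.IsStandardSmoothOfRelativeDimension n R A] [Algebra.WeaklyEtale A A']
    (K : Dual.D A') (a b : ℤ)
    (h : HasTorAmplitudeIn R' a b ((restrictD (algebraMap R' A')).obj K)) :
    HasTorAmplitudeIn A' (a - n) b K := by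
  have h1 := Groth.Agent.H4.WEtTor2.hasTorAmp_restrictD_of_flat R R' _ a b h
  have e1 : (restrictD (algebraMap R R')).obj ((restrictD (algebraMap R' A')).obj K) ≅
      (restrictD (algebraMap R A)).obj ((restrictD (algebraMap A A')).obj K) :=
    ((Groth.Agent.H4.RD.restrictDCompIso (algebraMap R R') (algebraMap R' A') (algebraMap R A')
      (IsScalarTower.algebraMap_eq R R' A')).app K).symm ≪≫
    (Groth.Agent.H4.RD.restrictDCompIso (algebraMap R A) (algebraMap A A') (algebraMap R A')
      (IsScalarTower.algebraMap_eq R A A')).app K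
  have h2 := hasTorAmp_of_iso e1 h1
  have h3 := Groth.Agent.H4.SmTor6.hasTorAmp_of_isStandardSmooth R A n _ a b h2
  exact Groth.Agent.H4.WEtTor.hasTorAmp_of_weaklyEtale A A' K (a - n) b h3

end Square

end Groth.Agent.H4.SmTor7
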