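import Mathlib
import Groth.Prelude.Def_DRing2
import Groth.Agent.H4.SmTor7

set_option autoImplicit false
universe u
attribute [local instance] HasDerivedCategory.standard
open CategoryTheory CategoryTheory.Limits AlgebraicGeometry DerivedCategory
open DRing Groth.Agent.H4.TorAmp

namespace Groth.Agent.H4.SmTor8

variable {X Y : Scheme.{u}}

/-- extract an affine chart on which `f` is standard smooth of relative dimension `n` -/
theorem exists_chart (f : X ⟶ Y) (x : X) (n : ℕ) (V : X.Opens) (hx : x ∈ V)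
    [SmoothOfRelativeDimension n (V.ι ≫ f)] :
    ∃ (U : Y.Opens) (_ : IsAffineOpen U) (W : X.Opens) (_ : IsAffineOpen W) (_ : x ∈ W)
      (e : W ≤ f ⁻¹ᵁ U), (f.appLE U W e).hom.IsStandardSmoothOfRelativeDimension n := by
  obtain ⟨U, hU, W, hW, hxW, e, h⟩ :=
    SmoothOfRelativeDimension.exists_isStandardSmoothOfRelativeDimension (n := n)
      (f := V.ι ≫ f) (⟨x, hx⟩ : V)
  have e' : V.ι ''ᵁ W ≤ f ⁻¹ᵁ U := by
    rintro _ ⟨w, hw, rfl⟩
    exact e hw
  refine ⟨U, hU, V.ι ''ᵁ W, hW.image_of_isOpenImmersion V.ι, ⟨⟨x, hx⟩, hxW, rfl⟩, e', ?_⟩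
  have : (V.ι ≫ f).appLE U W e = f.appLE U (V.ι ''ᵁ W) e' := by
    rw [Scheme.Hom.comp_appLE, Scheme.Opens.ι_appLE]
    rfl
  rw [← this]
  exact h

/-- **stalkwise shift of tor amplitude along a smooth morphism** -/
theorem hasTorAmp_stalk_shift (f : X ⟶ Y) (x : X) (n : ℕ) (V : X.Opens) (hx : x ∈ V)
    [SmoothOfRelativeDimension n (V.ι ≫ f)] (K : Dual.D (X.presheaf.stalk x)) (a b : ℤ)
    (h : HasTorAmplitudeIn (Y.presheaf.stalk (f.base x)) a b
      ((restrictD (f.stalkMap x).hom).obj K)) :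
    HasTorAmplitudeIn (X.presheaf.stalk x) (a - n) b K := by
  obtain ⟨U, hU, W, hW, hxW, e, hsm⟩ := exists_chart f x n V hx
  letI algRA : Algebra Γ(Y, U) Γ(X, W) := (f.appLE U W e).hom.toAlgebra
  letI algRR' : Algebra Γ(Y, U) (Y.presheaf.stalk (f.base x)) :=
    Y.presheaf.algebra_section_stalk ⟨f.base x, e hxW⟩
  letI algAA' : Algebra Γ(X, W) (X.presheaf.stalk x) := X.presheaf.algebra_section_stalk ⟨x, hxW⟩
  letI algR'A' : Algebra (Y.presheaf.stalk (f.base x)) (X.presheaf.stalk x) :=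
    (f.stalkMap x).hom.toAlgebra
  letI algRA' : Algebra Γ(Y, U) (X.presheaf.stalk x) :=
    ((algebraMap Γ(X, W) (X.presheaf.stalk x)).comp (algebraMap Γ(Y, U) Γ(X, W))).toAlgebra
  haveI : IsScalarTower Γ(Y, U) Γ(X, W) (X.presheaf.stalk x) := .of_algebraMap_eq' rfl
  haveI : IsScalarTower Γ(Y, U) (Y.presheaf.stalk (f.base x)) (X.presheaf.stalk x) := by
    refine .of_algebraMap_eq' ?_
    change (X.presheaf.germ W x hxW).hom.comp (f.appLE U W e).hom =
      (f.stalkMap x).hom.comp (Y.presheaf.germ U (f.base x) (e hxW)).hom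
    rw [← CommRingCat.hom_comp, ← CommRingCat.hom_comp]
    congr 1
    rw [Scheme.Hom.germ_stalkMap, Scheme.Hom.appLE, Category.assoc, X.presheaf.germ_res]
  haveI : IsLocalization.AtPrime (Y.presheaf.stalk (f.base x))
      (hU.primeIdealOf ⟨f.base x, e hxW⟩).asIdeal := hU.isLocalization_stalk ⟨f.base x, e hxW⟩
  haveI : Module.Flat Γ(Y, U) (Y.presheaf.stalk (f.base x)) :=
    IsLocalization.flat _ (hU.primeIdealOf ⟨f.base x, e hxW⟩).asIdeal.primeCompl
  haveI : IsLocalization.AtPrime (X.presheaf.stalk x) (hW.primeIdealOf ⟨x, hxW⟩).asIdeal :=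
    hW.isLocalization_stalk ⟨x, hxW⟩
  haveI : Algebra.WeaklyEtale Γ(X, W) (X.presheaf.stalk x) :=
    Groth.Agent.H4.SmTor7.weaklyEtale_of_isLocalization Γ(X, W)
      (hW.primeIdealOf ⟨x, hxW⟩).asIdeal.primeCompl (X.presheaf.stalk x)
  haveI : Algebra.IsStandardSmoothOfRelativeDimension n Γ(Y, U) Γ(X, W) := hsm
  exact Groth.Agent.H4.SmTor7.hasTorAmp_of_square Γ(Y, U) (Y.presheaf.stalk (f.base x)) Γ(X, W)
    (X.presheaf.stalk x) n K a b h

end Groth.Agent.H4.SmTor8
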