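import Mathlib
import Groth.Prelude.Def_DRing2
import Groth.Agent.H4.SmTor8
import Groth.Agent.H4.RelTor13
import Groth.Agent.H4.RPC1

set_option autoImplicit false
universe u
open CategoryTheory CategoryTheory.Limits AlgebraicGeometry MonoidalCategory
attribute [local instance] HasDerivedCategory.standard

namespace Groth.Agent.H4.SmTor9

open Groth.Agent.H4.TorAmp DRing
open Groth.Agent.H4.SPt6 Groth.Agent.H4.RelTor2 Groth.Agent.H4.RelTor3 Groth.Agent.H4.RelTor5
  Groth.Agent.H4.RelTor7 Groth.Agent.H4.RelTor9 Groth.Agent.H4.SPush1 Groth.Agent.H4.RelTor13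

variable {X X' Y : Scheme.{u}}

/-- the stalk of a direct image along a closed immersion vanishes outside the image -/
lemma isZero_stalk_push (i : X ⟶ X') [IsClosedImmersion i] (M : X.Modules) (x' : X')
    (hx' : x' ∉ Set.range i.base) :
    IsZero ((DerSch.stalkFunctor X' x').obj ((Scheme.Modules.pushforward i).obj M)) := by
  haveI : Subsingleton (((Scheme.Modules.pushforward i).obj M).presheaf.stalk x') := by
    refine ⟨fun m m' => ?_⟩
    have key : ∀ m : ((Scheme.Modules.pushforward i).obj M).presheaf.stalk x', m = 0 := by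
      intro m
      obtain ⟨W, hW, s, rfl⟩ :=
        ((Scheme.Modules.pushforward i).obj M).presheaf.exists_germ_eq (x := x') m
      let V : X'.Opens := ⟨(Set.range i.base)ᶜ, i.isClosedEmbedding.isClosed_range.isOpen_compl⟩ ⊓ W
      have hVe : i ⁻¹ᵁ V = ⊥ := by
        apply le_antisymm _ bot_le
        intro z hz
        exact (hz.1 ⟨z, rfl⟩).elim
      have hxV : x' ∈ V := ⟨hx', hW⟩
      haveI : Subsingleton Γ(M, i ⁻¹ᵁ V) :=
        Groth.Agent.H4.RPC1.subsingleton_sections_of_eq_bot M hVe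
      have h1 := ((Scheme.Modules.pushforward i).obj M).presheaf.germ_res_apply
        (homOfLE (inf_le_right : V ≤ W)) x' hxV s
      rw [← h1]
      have h2 : ((Scheme.Modules.pushforward i).obj M).presheaf.map
          (homOfLE (inf_le_right : V ≤ W)).op s = 0 :=
        Subsingleton.elim (α := Γ(M, i ⁻¹ᵁ V)) _ _
      rw [h2, map_zero]
    rw [key m, key m']
  exact ModuleCat.isZero_of_subsingleton
    (M := ModuleCat.of (X'.presheaf.stalk x')
      (((Scheme.Modules.pushforward i).obj M).presheaf.stalk x'))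

/-- outside the image of a closed immersion the direct image has any tor amplitude -/
lemma hasTorAmplitudeAt_push_of_notMem (i : X ⟶ X') [IsClosedImmersion i]
    (F : CochainComplex X.Modules ℤ) (a b : ℤ) (x' : X') (hx' : x' ∉ Set.range i.base) :
    DerSch.HasTorAmplitudeAt (𝟙 X') a b ((pushCx i).obj F) x' := by
  rw [hasTorAmplitudeAt_id_iff]
  have hz : ∀ j : ℤ, IsZero (((stalkCx x').obj ((pushCx i).obj F)).X j) := fun j =>
    isZero_stalk_push i (F.X j) x' hx'
  exact ⟨_, fun j _ => hz j, fun j => by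
    haveI := ModuleCat.subsingleton_of_isZero (hz j)
    infer_instance, ⟨Iso.refl _⟩⟩

/-- the pointwise shift for direct images along closed immersions into smooth schemes -/
theorem hasTorAmplitudeAt_push (i : X ⟶ X') [IsClosedImmersion i] (f' : X' ⟶ Y) (n : ℕ)
    (F : CochainComplex X.Modules ℤ) (a b : ℤ) (x : X) (V : X'.Opens) (hx : i.base x ∈ V)
    [SmoothOfRelativeDimension n (V.ι ≫ f')]
    (hF : DerSch.HasTorAmplitudeAt (i ≫ f') a b F x) :
    DerSch.HasTorAmplitudeAt (𝟙 X') (a - n) b ((pushCx i).obj F) (i.base x) := by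
  rw [hasTorAmplitudeAt_id_iff]
  have hi : Topology.IsInducing i.base := i.isClosedEmbedding.toIsEmbedding.toIsInducing
  let ρ : Y.presheaf.stalk (f'.base (i.base x)) →+* X'.presheaf.stalk (i.base x) :=
    (f'.stalkMap (i.base x)).hom
  let τ : X'.presheaf.stalk (i.base x) →+* X.presheaf.stalk x := (i.stalkMap x).hom
  let χ : Y.presheaf.stalk (f'.base (i.base x)) →+* X.presheaf.stalk x :=
    ((i ≫ f').stalkMap x).hom
  have hχ : χ = τ.comp ρ := by
    simp only [χ, ρ, τ]; rw [Scheme.Hom.stalkMap_comp]; rfl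
  -- the object over the local ring of `X'`
  let K : Dual.D (X'.presheaf.stalk (i.base x)) := toD ((DTen.resCx τ).obj ((stalkCx x).obj F))
  have e0 : toD ((stalkCx (i.base x)).obj ((pushCx i).obj F)) ≅ K :=
    DerivedCategory.Q.mapIso (stalkPushCxIso i hi x F)
  refine hasTorAmp_of_iso e0.symm ?_
  refine Groth.Agent.H4.SmTor8.hasTorAmp_stalk_shift f' (i.base x) n V hx K a b ?_
  let e2 : (DRing.restrictD ρ).obj K ≅
      toD ((DTen.resCx ρ).obj ((DTen.resCx τ).obj ((stalkCx x).obj F))) :=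
    (DTen.resFactors ρ).app _
  let e3 : toD ((DTen.resCx ρ).obj ((DTen.resCx τ).obj ((stalkCx x).obj F))) ≅
      toD ((DerSch.stalkCxOver (i ≫ f') x).obj F) :=
    DerivedCategory.Q.mapIso (resCxCompIso ρ τ χ hχ _ ≪≫ (stalkCxOverIso (i ≫ f') x F).symm)
  exact hasTorAmp_of_iso (e2 ≪≫ e3).symm hF

/-- **S6190** -/
theorem S6190 (i : X ⟶ X') [IsClosedImmersion i] (f' : X' ⟶ Y) [Smooth f'] (d : ℕ)
    (hd : ∀ x : X', ∃ (n : ℕ) (V : X'.Opens), n ≤ d ∧ x ∈ V ∧ SmoothOfRelativeDimension n (V.ι ≫ f'))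
    (F : CochainComplex X.Modules ℤ) (a b : ℤ) (hF : DerSch.HasTorAmplitude (i ≫ f') a b F) :
    DCoh.HasFlatAmplitudeIn (a - d) b (DCoh.toD X' (((Scheme.Modules.pushforward i).mapHomologicalComplex (ComplexShape.up ℤ)).obj F)) := by
  refine hasFlatAmplitudeIn_of_hasTorAmplitude _ (a - d) b (fun x' => ?_)
  by_cases hx' : x' ∈ Set.range i.base
  · obtain ⟨x, rfl⟩ := hx'
    obtain ⟨n, V, hn, hxV, hsm⟩ := hd (i.base x)
    have h1 := hasTorAmplitudeAt_push i f' n F a b x V hxV (hF x)
    rw [hasTorAmplitudeAt_id_iff] at h1 ⊢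
    exact hasTorAmp_mono (by omega) le_rfl h1
  · exact hasTorAmplitudeAt_push_of_notMem i F _ _ x' hx'

end Groth.Agent.H4.SmTor9
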