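import Mathlib
import Groth.Prelude.Def_DRing2
import Groth.Agent.H4.SmTor9
import Groth.Agent.H4.PAmp1
import Groth.Agent.H4.RPC24

set_option autoImplicit false
universe u
open CategoryTheory CategoryTheory.Limits AlgebraicGeometry
attribute [local instance] HasDerivedCategory.standard

namespace Groth.Agent.H4.SmTor10
open Groth DerivedCategory
open scoped ZeroObject
open Groth.Agent.H4.PAmp1

variable {X Y S : Scheme.{u}}

lemma isZero_Q_obj_of_forall_isZero (E : CochainComplex Y.Modules ℤ) (h : ∀ i, IsZero (E.X i)) :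
    IsZero (Q.obj E) := by
  apply Q.map_isZero
  rw [IsZero.iff_id_eq_zero]
  apply HomologicalComplex.hom_ext
  intro i
  exact (h i).eq_of_src _ _

lemma hasPerfectAmplitudeIn_of_isZero (m n : ℤ) (K : DCoh.D Y) (hK : IsZero K) :
    KSix.HasPerfectAmplitudeIn m n K := by
  rw [hasPerfectAmplitudeIn_iff]
  intro x
  refine ⟨Y, 𝟙 Y, inferInstance, (0 : CochainComplex Y.Modules ℤ), ⟨x, rfl⟩,
    fun i _ => (HomologicalComplex.eval _ _ i).map_isZero (isZero_zero _), fun i =>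
    Groth.Agent.H4.PSch5.isFinLocFree_of_isZero
      ((HomologicalComplex.eval _ _ i).map_isZero (isZero_zero _)), ⟨?_⟩⟩
  exact IsZero.iso ((Groth.Agent.H4.PSch2.RD (𝟙 Y)).map_isZero hK) (Q.map_isZero (isZero_zero _))

/-- **S6219** -/
theorem S6219 (i : X ⟶ Y) [IsClosedImmersion i]
    (g : Y ⟶ S) [Smooth g] (d : ℕ)
    (hd : ∀ y : Y, ∃ (n : ℕ) (V : Y.Opens), n ≤ d ∧ y ∈ V ∧ SmoothOfRelativeDimension n (V.ι ≫ g))
    (a b : ℤ) (F : CochainComplex X.Modules ℤ) (hF : DerSch.HasPerfAmplitudeRel (i ≫ g) a b F) :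
    KSix.HasPerfectAmplitudeIn (a - d) b (DCoh.toD Y (((Scheme.Modules.pushforward i).mapHomologicalComplex (ComplexShape.up ℤ)).obj F)) := by
  have h1 := Groth.Agent.H4.SmTor9.S6190 i g d hd F a b hF.2
  by_cases hab : a - d ≤ b
  · rw [S4275 Y _ (a - d) b hab]
    exact ⟨(Groth.Agent.H4.RPC24.S6201 i g (a - d - 1) F).1 (hF.1 _), h1⟩
  · obtain ⟨E, hv, -, ⟨e⟩⟩ := h1
    refine hasPerfectAmplitudeIn_of_isZero _ _ _ ?_
    exact (isZero_Q_obj_of_forall_isZero E (fun j => hv j (by omega))).of_iso e.symm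

end Groth.Agent.H4.SmTor10
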