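import Mathlib
import Groth.Prelude.Def_DRing2
import Groth.Agent.H4.SmTor9
import Groth.Agent.H4.PAmp1
import Groth.Agent.H4.RTBC1

set_option autoImplicit false
universe u
open CategoryTheory CategoryTheory.Limits AlgebraicGeometry MonoidalCategory
attribute [local instance] HasDerivedCategory.standard

namespace Groth.Agent.H4.SmTor11

open Groth.Agent.H4.TorAmp DRing
open Groth.Agent.H4.SPt6 Groth.Agent.H4.RelTor2 Groth.Agent.H4.RelTor3 Groth.Agent.H4.RelTor5
  Groth.Agent.H4.RelTor7 Groth.Agent.H4.RelTor9 Groth.Agent.H4.SPush1 Groth.Agent.H4.RelTor13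
  Groth.Agent.H4.LDS15 Groth.Agent.H4.PSch1

variable {X Y : Scheme.{u}}

/-- chart form of the stalkwise shift -/
theorem hasTorAmp_stalk_shift_chart (f : X ⟶ Y) (n : ℕ) (U : Y.Opens) (hU : IsAffineOpen U)
    (W : X.Opens) (hW : IsAffineOpen W) (e : W ≤ f ⁻¹ᵁ U)
    (hsm : (f.appLE U W e).hom.IsStandardSmoothOfRelativeDimension n) (x : X) (hxW : x ∈ W)
    (K : Dual.D (X.presheaf.stalk x)) (a b : ℤ)
    (h : HasTorAmplitudeIn (Y.presheaf.stalk (f.base x)) a b
      ((restrictD (f.stalkMap x).hom).obj K)) :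
    HasTorAmplitudeIn (X.presheaf.stalk x) (a - n) b K := by
  letI algRA : Algebra Γ(Y, U) Γ(X, W) := (f.appLE U W e).hom.toAlgebra
  letI algRR' : Algebra Γ(Y, U) (Y.presheaf.stalk (f.base x)) :=
    Y.presheaf.algebra_section_stalk ⟨f.base x, e hxW⟩
  letI algAA' : Algebra Γ(X, W) (X.presheaf.stalk x) := X.presheaf.algebra_section_stalk ⟨x, hxW⟩
  letI algR'A' : Algebra (Y.presheaf.stalk (f.base x)) (X.presheaf.stalk x) :=
    (f.stalkMap x).hom.toAlgebra
  letI algRA' : Algebra Γ(Y, U) (X.presheaf.stalk x) :=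
    ((algebraMap Γ(X, W) (X.presheaf.stalk x)).comp (algebraMap Γ(Y, U) Γ(X, W))).toAlgebra
  haveI : IsScalarTower Γ(Y, U) Γ(X, W) (X.presheaf.stalk x) := .of_algebraMap_eq' rfl
  haveI : IsScalarTower Γ(Y, U) (Y.presheaf.stalk (f.base x)) (X.presheaf.stalk x) := by
    refine .of_algebraMap_eq' ?_
    change (X.presheaf.germ W x hxW).hom.comp (f.appLE U W e).hom =
      (f.stalkMap x).hom.comp (Y.presheaf.germ U (f.base x) (e hxW)).hom
    rw [← CommRingCat.hom_comp, ← CommRingCat.hom_comp]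
    congr 1
    rw [Scheme.Hom.germ_stalkMap, Scheme.Hom.appLE, Category.assoc, X.presheaf.germ_res]
  haveI : IsLocalization.AtPrime (Y.presheaf.stalk (f.base x))
      (hU.primeIdealOf ⟨f.base x, e hxW⟩).asIdeal := hU.isLocalization_stalk ⟨f.base x, e hxW⟩
  haveI : Module.Flat Γ(Y, U) (Y.presheaf.stalk (f.base x)) :=
    IsLocalization.flat _ (hU.primeIdealOf ⟨f.base x, e hxW⟩).asIdeal.primeCompl
  haveI : IsLocalization.AtPrime (X.presheaf.stalk x) (hW.primeIdealOf ⟨x, hxW⟩).asIdeal :=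
    hW.isLocalization_stalk ⟨x, hxW⟩
  haveI : Algebra.WeaklyEtale Γ(X, W) (X.presheaf.stalk x) :=
    Groth.Agent.H4.SmTor7.weaklyEtale_of_isLocalization Γ(X, W)
      (hW.primeIdealOf ⟨x, hxW⟩).asIdeal.primeCompl (X.presheaf.stalk x)
  haveI : Algebra.IsStandardSmoothOfRelativeDimension n Γ(Y, U) Γ(X, W) := hsm
  exact Groth.Agent.H4.SmTor7.hasTorAmp_of_square Γ(Y, U) (Y.presheaf.stalk (f.base x)) Γ(X, W)
    (X.presheaf.stalk x) n K a b h

/-- smooth morphisms shift tor amplitude by a locally bounded amount -/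
theorem exists_nhd_shift (f : X ⟶ Y) [Smooth f] (x : X) :
    ∃ (W : X.Opens) (n : ℕ), x ∈ W ∧ ∀ x' : X, x' ∈ W →
      ∀ (K : Dual.D (X.presheaf.stalk x')) (a b : ℤ),
        HasTorAmplitudeIn (Y.presheaf.stalk (f.base x')) a b
          ((restrictD (f.stalkMap x').hom).obj K) →
        HasTorAmplitudeIn (X.presheaf.stalk x') (a - n) b K := by
  obtain ⟨U, hU, W, hW, hxW, e, hsm⟩ := Smooth.exists_isStandardSmooth f x
  letI algRA : Algebra Γ(Y, U) Γ(X, W) := (f.appLE U W e).hom.toAlgebra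
  haveI : Algebra.IsStandardSmooth Γ(Y, U) Γ(X, W) := hsm
  obtain ⟨ι, σ, hσ, hι, ⟨P⟩⟩ := Algebra.IsStandardSmooth.out (R := Γ(Y, U)) (S := Γ(X, W))
  have hsm' : (f.appLE U W e).hom.IsStandardSmoothOfRelativeDimension P.dimension :=
    P.isStandardSmoothOfRelativeDimension rfl
  exact ⟨W, P.dimension, hxW, fun x' hx' K a b h =>
    hasTorAmp_stalk_shift_chart f P.dimension U hU W hW e hsm' x' hx' K a b h⟩

section Restrict

variable {U : Scheme.{u}} (j : U ⟶ X) [IsOpenImmersion j]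

/-- stalk of the restriction to an open subscheme -/
noncomputable def stalkResCxIso (y : U) (F : CochainComplex X.Modules ℤ) :
    (stalkCx y).obj ((resCx j).obj F) ≅
      ((ModuleCat.extendScalars.{u,u,u} (j.stalkMap y).hom).mapHomologicalComplex
        (ComplexShape.up ℤ)).obj ((stalkCx (j.base y)).obj F) :=
  (stalkCx y).mapIso ((NatIso.mapHomologicalComplex (Scheme.Modules.restrictFunctorIsoPullback j)
    (ComplexShape.up ℤ)).app F) ≪≫ stalkPullCxIso j y F

theorem hasTorAmp_stalk_res_iff (y : U) (F : CochainComplex X.Modules ℤ) (a b : ℤ) :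
    HasTorAmplitudeIn (U.presheaf.stalk y) a b (toD ((stalkCx y).obj ((resCx j).obj F))) ↔
      HasTorAmplitudeIn (X.presheaf.stalk (j.base y)) a b (toD ((stalkCx (j.base y)).obj F)) := by
  constructor
  · intro h
    have h3 := hasTorAmp_of_iso (DerivedCategory.Q.mapIso (stalkResCxIso j y F)) h
    exact hasTorAmp_of_ext_faithfullyFlat (j.stalkMap y).hom (faithfullyFlat_stalkMap j y) _ a b h3
  · intro h
    have hfl : (j.stalkMap y).hom.Flat := Flat.stalkMap j y
    have h3 := Groth.Agent.H4.RTBC1.hasTorAmp_ext_of_flat (j.stalkMap y).hom hfl _ a b h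
    exact hasTorAmp_of_iso (DerivedCategory.Q.mapIso (stalkResCxIso j y F)).symm h3

end Restrict

section Push

variable {X' : Scheme.{u}}

/-- pointwise form of `RelTor13.hasTorAmplitude_of_push` -/
theorem hasTorAmplitudeAt_of_push (i : X ⟶ X') (hi : Topology.IsInducing i.base)
    (f' : X' ⟶ Y) [Flat f'] (F : CochainComplex X.Modules ℤ) (a b : ℤ) (x : X)
    (h : HasTorAmplitudeIn (X'.presheaf.stalk (i.base x)) a b
      (toD ((stalkCx (i.base x)).obj ((pushCx i).obj F)))) :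
    DerSch.HasTorAmplitudeAt (i ≫ f') a b F x := by
  let ρ : Y.presheaf.stalk (f'.base (i.base x)) →+* X'.presheaf.stalk (i.base x) :=
    (f'.stalkMap (i.base x)).hom
  let τ : X'.presheaf.stalk (i.base x) →+* X.presheaf.stalk x := (i.stalkMap x).hom
  let χ : Y.presheaf.stalk (f'.base (i.base x)) →+* X.presheaf.stalk x :=
    ((i ≫ f').stalkMap x).hom
  have hχ : χ = τ.comp ρ := by
    simp only [χ, ρ, τ]; rw [Scheme.Hom.stalkMap_comp]; rfl
  have h1 := hasTorAmp_of_iso (DerivedCategory.Q.mapIso (stalkPushCxIso i hi x F)) h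
  have h2 := Groth.Agent.H4.RTBC1.hasTorAmp_res_of_flat ρ
    (faithfullyFlat_stalkMap f' (i.base x)).toFlat _ a b h1
  let e3 : toD ((DTen.resCx ρ).obj ((DTen.resCx τ).obj ((stalkCx x).obj F))) ≅
      toD ((DerSch.stalkCxOver (i ≫ f') x).obj F) :=
    DerivedCategory.Q.mapIso (resCxCompIso ρ τ χ hχ _ ≪≫ (stalkCxOverIso (i ≫ f') x F).symm)
  exact hasTorAmp_of_iso e3 h2

/-- flat amplitude of the restriction to an open from stalkwise tor amplitude on the open -/
theorem hasFlatAmplitudeIn_restrict (V : X'.Opens) (G F' : CochainComplex X'.Modules ℤ)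
    (e : DCoh.toD X' F' ≅ DCoh.toD X' G) (a b : ℤ)
    (h : ∀ v : X', v ∈ V → HasTorAmplitudeIn (X'.presheaf.stalk v) a b
      (toD ((stalkCx v).obj G))) :
    DCoh.HasFlatAmplitudeIn a b (DerivedCategory.Q.obj ((DCoh.restrictCx V).obj F')) := by
  have h1 : DCoh.HasFlatAmplitudeIn a b (DCoh.toD (V : Scheme.{u}) ((DCoh.restrictCx V).obj G)) := by
    refine hasFlatAmplitudeIn_of_hasTorAmplitude _ a b (fun y => ?_)
    rw [hasTorAmplitudeAt_id_iff]
    exact (hasTorAmp_stalk_res_iff V.ι y G a b).2 (h _ y.2)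
  obtain ⟨E, hv, hfl, ⟨e1⟩⟩ := h1
  exact ⟨E, hv, hfl, ⟨e1 ≪≫ (Groth.Agent.H4.PSch2.RDfac V.ι G).symm ≪≫
    (Groth.Agent.H4.PSch2.RD V.ι).mapIso e.symm ≪≫ Groth.Agent.H4.PSch2.RDfac V.ι F'⟩⟩

/-- **S6197** -/
theorem S6197 (i : X ⟶ X') [IsClosedImmersion i] (f' : X' ⟶ Y) [Smooth f']
    (F : CochainComplex X.Modules ℤ) :
    DerSch.LocFiniteTorAmplitude (i ≫ f') F ↔
      DCoh.LocHasFiniteTorDim (DCoh.toD X' (((Scheme.Modules.pushforward i).mapHomologicalComplex (ComplexShape.up ℤ)).obj F)) := by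
  have hi : Topology.IsInducing i.base := i.isClosedEmbedding.toIsEmbedding.toIsInducing
  constructor
  · intro hF x'
    by_cases hx' : x' ∈ Set.range i.base
    · obtain ⟨x, rfl⟩ := hx'
      obtain ⟨V, a, b, hxV, hV⟩ := hF x
      obtain ⟨V', hV'⟩ := Groth.Agent.H4.RPC1.exists_opens_preimage_eq i V
      obtain ⟨W, n, hxW, hW⟩ := exists_nhd_shift f' (i.base x)
      refine ⟨V' ⊓ W, a - n, b, ⟨?_, hxW⟩, ?_⟩
      · have : x ∈ i ⁻¹ᵁ V' := by rw [hV']; exact hxV
        exact this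
      · rintro F' ⟨e⟩
        refine hasFlatAmplitudeIn_restrict _ _ F' e _ _ (fun v hv => ?_)
        rw [← hasTorAmplitudeAt_id_iff]
        by_cases hvr : v ∈ Set.range i.base
        · obtain ⟨x'', rfl⟩ := hvr
          have hx''V : x'' ∈ V := by
            have : x'' ∈ i ⁻¹ᵁ V' := hv.1
            rw [hV'] at this
            exact this
          have h1 := hV x'' hx''V
          -- shift at `i x''`
          rw [hasTorAmplitudeAt_id_iff]
          let ρ : Y.presheaf.stalk (f'.base (i.base x'')) →+* X'.presheaf.stalk (i.base x'') :=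
            (f'.stalkMap (i.base x'')).hom
          let τ : X'.presheaf.stalk (i.base x'') →+* X.presheaf.stalk x'' := (i.stalkMap x'').hom
          let χ : Y.presheaf.stalk (f'.base (i.base x'')) →+* X.presheaf.stalk x'' :=
            ((i ≫ f').stalkMap x'').hom
          have hχ : χ = τ.comp ρ := by
            simp only [χ, ρ, τ]; rw [Scheme.Hom.stalkMap_comp]; rfl
          let K : Dual.D (X'.presheaf.stalk (i.base x'')) :=
            toD ((DTen.resCx τ).obj ((stalkCx x'').obj F))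
          have e0 : toD ((stalkCx (i.base x'')).obj ((pushCx i).obj F)) ≅ K :=
            DerivedCategory.Q.mapIso (stalkPushCxIso i hi x'' F)
          refine hasTorAmp_of_iso e0.symm ?_
          refine hW (i.base x'') hv.2 K a b ?_
          let e2 : (DRing.restrictD ρ).obj K ≅
              toD ((DTen.resCx ρ).obj ((DTen.resCx τ).obj ((stalkCx x'').obj F))) :=
            (DTen.resFactors ρ).app _
          let e3 : toD ((DTen.resCx ρ).obj ((DTen.resCx τ).obj ((stalkCx x'').obj F))) ≅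
              toD ((DerSch.stalkCxOver (i ≫ f') x'').obj F) :=
            DerivedCategory.Q.mapIso
              (resCxCompIso ρ τ χ hχ _ ≪≫ (stalkCxOverIso (i ≫ f') x'' F).symm)
          exact hasTorAmp_of_iso (e2 ≪≫ e3).symm h1
        · exact Groth.Agent.H4.SmTor9.hasTorAmplitudeAt_push_of_notMem i F _ _ v hvr
    · refine ⟨⟨(Set.range i.base)ᶜ, i.isClosedEmbedding.isClosed_range.isOpen_compl⟩, 0, 0, hx', ?_⟩
      rintro F' ⟨e⟩
      refine hasFlatAmplitudeIn_restrict _ _ F' e _ _ (fun v hv => ?_)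
      rw [← hasTorAmplitudeAt_id_iff]
      exact Groth.Agent.H4.SmTor9.hasTorAmplitudeAt_push_of_notMem i F _ _ v hv
  · intro hK x
    obtain ⟨V', a, b, hxV', h⟩ := hK (i.base x)
    have h1 := h _ ⟨Iso.refl _⟩
    have h2 := hasTorAmplitude_of_hasFlatAmplitudeIn _ a b h1
    refine ⟨i ⁻¹ᵁ V', a, b, hxV', fun x'' hx'' => ?_⟩
    have h3 := h2 ⟨i.base x'', hx''⟩
    rw [hasTorAmplitudeAt_id_iff] at h3
    have h4 := (hasTorAmp_stalk_res_iff V'.ι ⟨i.base x'', hx''⟩ _ a b).1 h3
    exact hasTorAmplitudeAt_of_push i hi f' F a b x'' h4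

end Push

end Groth.Agent.H4.SmTor11
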