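import Mathlib
import Groth.Agent.H4.SmTor11
import Groth.Agent.H4.FAmp5
import Groth.Agent.H4.RPC24

set_option autoImplicit false
universe u
open CategoryTheory CategoryTheory.Limits AlgebraicGeometry
attribute [local instance] HasDerivedCategory.standard

namespace Groth.Agent.H4.SmTor12
open Groth

/-- **S6217** -/
theorem S6217 {X Y S : Scheme.{u}} (i : X ⟶ Y) [IsClosedImmersion i]
    (g : Y ⟶ S) [Smooth g] (F : CochainComplex X.Modules ℤ) :
    DerSch.IsPerfectRel (i ≫ g) F ↔ DCoh.IsPerfect (DCoh.toD Y (((Scheme.Modules.pushforward i).mapHomologicalComplex (ComplexShape.up ℤ)).obj F)) := by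
  rw [Groth.Agent.H4.FAmp5.S0914, ← Groth.Agent.H4.SmTor11.S6197 i g F]
  unfold DerSch.IsPerfectRel DerSch.IsPseudoCoherentRelAll
  constructor
  · rintro ⟨h1, h2⟩
    exact ⟨fun m => (Groth.Agent.H4.RPC24.S6201 i g m F).1 (h1 m), h2⟩
  · rintro ⟨h1, h2⟩
    exact ⟨fun m => (Groth.Agent.H4.RPC24.S6201 i g m F).2 (h1 m), h2⟩

end Groth.Agent.H4.SmTor12
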