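import Mathlib
import Groth.Prelude.Def_DRing2
import Groth.Agent.H4.SmTor11
import Groth.Agent.H4.FAmp5
import Groth.Agent.H4.Cok2
import Groth.Agent.Lib.Lead.QC.Flat

set_option autoImplicit false
universe u
open CategoryTheory CategoryTheory.Limits AlgebraicGeometry MonoidalCategory
attribute [local instance] HasDerivedCategory.standard

namespace Groth.Agent.H4.SmTor13

open Groth.Agent.H4.TorAmp DRing Groth.Agent.LD.QC Groth.Agent.H4.Cok

variable {X Y S : Scheme.{u}}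

/-- the direct image of the structure sheaf along an affine morphism is flat over the base when
the composite is flat -/
theorem isFlatOverAt_pushO (f : X ⟶ Y) (g : Y ⟶ S) [IsAffineHom f] [Flat (f ≫ g)] (y : Y) :
    @Module.Flat (S.presheaf.stalk (g.base y)) ((pushO f).presheaf.stalk y) _ _
      (stalkModuleOver g (pushO f) y) := by
  obtain ⟨V, hV, hyV⟩ : ∃ V : S.Opens, IsAffineOpen V ∧ g.base y ∈ V := by
    obtain ⟨_, ⟨V, hV, rfl⟩, hyV, -⟩ :=
      S.isBasis_affineOpens.exists_subset_of_mem_open (Set.mem_univ (g.base y)) isOpen_univ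
    exact ⟨V, hV, hyV⟩
  obtain ⟨U, hU, hyU, hUV⟩ : ∃ U : Y.Opens, IsAffineOpen U ∧ y ∈ U ∧ U ≤ g ⁻¹ᵁ V := by
    obtain ⟨_, ⟨U, hU, rfl⟩, hyU, hUV⟩ :=
      Y.isBasis_affineOpens.exists_subset_of_mem_open hyV (V.2.preimage g.continuous)
    exact ⟨U, hU, hyU, hUV⟩
  refine isFlatOverAt_of_flat_sections g (pushO f) hU hV hUV y hyU ?_
  have hU' : IsAffineOpen (f ⁻¹ᵁ U) := hU.preimage f
  have e' : f ⁻¹ᵁ U ≤ (f ≫ g) ⁻¹ᵁ V := fun z hz => hUV hz
  have hfl : ((f ≫ g).appLE V (f ⁻¹ᵁ U) e').hom.Flat := Flat.flat_appLE (f ≫ g) hV hU' e'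
  letI alg : Algebra Γ(S, V) Γ(X, f ⁻¹ᵁ U) := ((f ≫ g).appLE V (f ⁻¹ᵁ U) e').hom.toAlgebra
  haveI : Module.Flat Γ(S, V) Γ(X, f ⁻¹ᵁ U) := hfl
  letI := sectionsModuleOver g (pushO f) hUV
  let e : Γ(X, f ⁻¹ᵁ U) ≃ₗ[Γ(S, V)] Γ(pushO f, U) :=
    { toFun := fun s => s
      invFun := fun s => s
      map_add' := fun _ _ => rfl
      map_smul' := fun r s => by
        simp only [RingHom.id_apply]
        have h1 : (f ≫ g).appLE V (f ⁻¹ᵁ U) e' = g.appLE V U hUV ≫ f.app U := by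
          rw [Scheme.Hom.app_eq_appLE, Scheme.Hom.appLE_comp_appLE]
        change ((f ≫ g).appLE V (f ⁻¹ᵁ U) e').hom r * s = _
        rw [h1]
        rfl
      left_inv := fun _ => rfl
      right_inv := fun _ => rfl }
  exact Module.Flat.of_linearEquiv e.symm

open Groth.Agent.H4.SPt6 Groth.Agent.H4.RelTor2 in
/-- the direct image of the structure sheaf locally has finite tor dimension -/
theorem locHasFiniteTorDim_pushO (f : X ⟶ Y) (g : Y ⟶ S) [IsAffineHom f] [Smooth g]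
    [Flat (f ≫ g)] : DCoh.LocHasFiniteTorDim (DCoh.inD Y (pushO f)) := by
  intro y
  obtain ⟨W, n, hyW, hW⟩ := Groth.Agent.H4.SmTor11.exists_nhd_shift g y
  refine ⟨W, -(n : ℤ), 0, hyW, ?_⟩
  rintro F' ⟨e⟩
  refine Groth.Agent.H4.SmTor11.hasFlatAmplitudeIn_restrict W
    ((HomologicalComplex.single Y.Modules (ComplexShape.up ℤ) 0).obj (pushO f)) F' e _ _
    (fun v hv => ?_)
  -- the stalk complex is the stalk module in degree `0`
  let Mv : ModuleCat.{u} (Y.presheaf.stalk v) := (DerSch.stalkFunctor Y v).obj (pushO f)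
  let e1 : toD ((stalkCx v).obj
      ((HomologicalComplex.single Y.Modules (ComplexShape.up ℤ) 0).obj (pushO f))) ≅
      (DerivedCategory.singleFunctor (ModuleCat.{u} (Y.presheaf.stalk v)) 0).obj Mv :=
    DerivedCategory.Q.mapIso ((HomologicalComplex.singleMapHomologicalComplex
      (DerSch.stalkFunctor Y v) (ComplexShape.up ℤ) 0).app (pushO f))
  refine hasTorAmp_of_iso e1.symm ?_
  have h0 := hW v hv ((DerivedCategory.singleFunctor (ModuleCat.{u} (Y.presheaf.stalk v)) 0).obj Mv)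
    0 0 ?_
  · simpa using h0
  · -- flatness over the base
    refine hasTorAmp_of_iso
      (Groth.Agent.H4.PCHom.restrictDSingle (g.stalkMap v).hom Mv).symm ?_
    have hfl := isFlatOverAt_pushO f g v
    letI := stalkModuleOver g (pushO f) v
    have h1 : DRing.HasTorAmplitudeIn (S.presheaf.stalk (g.base v)) (-((0 : ℕ) : ℤ)) 0
        (Dual.inD (S.presheaf.stalk (g.base v)) ((pushO f).presheaf.stalk v)) :=
      (Groth.Agent.S6946.result _ _ 0).1.1 ((Groth.Agent.S6946.result _ _ 0).2.2 hfl)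
    simp only [CharP.cast_eq_zero, neg_zero] at h1
    exact h1

/-- **S7872** -/
theorem S7872 (f : X ⟶ Y) (g : Y ⟶ S) [IsAffineHom f] [Smooth g] [Flat (f ≫ g)]
    (hpc : ∀ m : ℤ, DCoh.IsPseudoCoherentD m (DCoh.inD Y ((Coh.push f).obj (Coh.structureModule X)))) :
    DCoh.IsPerfect (DCoh.inD Y ((Coh.push f).obj (Coh.structureModule X))) :=
  (Groth.Agent.H4.FAmp5.S0914 _).2 ⟨hpc, locHasFiniteTorDim_pushO f g⟩

end Groth.Agent.H4.SmTor13
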