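import Mathlib
import Groth.Prelude.Def_DRing2
import Groth.Agent.H4.SmTor11
import Groth.Agent.H4.PMor4

set_option autoImplicit false
universe u
open CategoryTheory CategoryTheory.Limits AlgebraicGeometry MonoidalCategory
attribute [local instance] HasDerivedCategory.standard

namespace Groth.Agent.H4.SmTor14

open Groth.Agent.H4.TorAmp DRing

variable {X Y S : Scheme.{u}}

/-- flat over a smooth base of relative dimension `n`: tor dimension `≤ n` -/
theorem hasTorDimLE_of_flat_over_smooth (q : Y ⟶ S) (f : X ⟶ Y) (n : ℕ)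
    [SmoothOfRelativeDimension n q] [Flat (f ≫ q)] : DerSch.HasTorDimLE f n := by
  intro x
  obtain ⟨U, hU, W, hW, hxW, e, hsm⟩ :=
    SmoothOfRelativeDimension.exists_isStandardSmoothOfRelativeDimension (n := n) (f := q) (f.base x)
  have h0 : DerSch.HasTorAmplitudeAt (f ≫ q) (-((0 : ℕ) : ℤ)) 0 (DerSch.unitCx X) x :=
    Groth.Agent.H4.PMor4.hasTorDimLE_zero_of_flat (f ≫ q) x
  let K : Dual.D (Y.presheaf.stalk (f.base x)) := toD ((DerSch.stalkCxOver f x).obj (DerSch.unitCx X))
  have key : HasTorAmplitudeIn (Y.presheaf.stalk (f.base x)) (0 - n) 0 K := by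
    refine Groth.Agent.H4.SmTor11.hasTorAmp_stalk_shift_chart q n U hU W hW e hsm (f.base x) hxW K 0 0 ?_
    let φ : S.presheaf.stalk (q.base (f.base x)) →+* Y.presheaf.stalk (f.base x) :=
      (q.stalkMap (f.base x)).hom
    let e1 := ((ModuleCat.restrictScalars.{u} φ).mapDerivedCategoryFactors).app
      ((DerSch.stalkCxOver f x).obj (DerSch.unitCx X))
    let ψ : S.presheaf.stalk (q.base (f.base x)) →+* X.presheaf.stalk x := ((f ≫ q).stalkMap x).hom
    let e2 : (DerSch.stalkFunctor X x ⋙ ModuleCat.restrictScalars.{u} (f.stalkMap x).hom) ⋙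
        ModuleCat.restrictScalars.{u} φ ≅ DerSch.stalkFunctor X x ⋙ ModuleCat.restrictScalars.{u} ψ :=
      Functor.associator _ _ _ ≪≫ Functor.isoWhiskerLeft (DerSch.stalkFunctor X x)
        (ModuleCat.restrictScalarsComp'.{u} φ (f.stalkMap x).hom ψ
          (by simp only [ψ, φ]; rw [Scheme.Hom.stalkMap_comp]; rfl)).symm
    let e3 := (NatIso.mapHomologicalComplex e2 (ComplexShape.up ℤ)).app (DerSch.unitCx X)
    have h0' : HasTorAmplitudeIn (S.presheaf.stalk (q.base (f.base x))) 0 0
        (toD ((DerSch.stalkCxOver (f ≫ q) x).obj (DerSch.unitCx X))) := by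
      have h0'' : DerSch.HasTorAmplitudeAt (f ≫ q) 0 0 (DerSch.unitCx X) x := by simpa using h0
      exact h0''
    exact hasTorAmp_of_iso (e1 ≪≫ DerivedCategory.Q.mapIso e3).symm h0'
  have : (0 : ℤ) - n = -(n : ℤ) := by ring
  rw [this] at key
  exact key

end Groth.Agent.H4.SmTor14
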