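import Mathlib
import Groth.Prelude.Def_DRing2
import Groth.Agent.H4.SmTor11
import Groth.Agent.H4.RPC27

set_option autoImplicit false
universe u
open CategoryTheory CategoryTheory.Limits AlgebraicGeometry MonoidalCategory
attribute [local instance] HasDerivedCategory.standard

namespace Groth.Agent.H4.SmTor15

open Groth.Agent.H4.TorAmp DRing

variable {X Y : Scheme.{u}}

/-- the stalk of the structure module over the base, as the local ring -/
noncomputable def unitStalkOverIso (f : X ⟶ Y) (x : X) :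
    letI : Algebra (Y.presheaf.stalk (f.base x)) (X.presheaf.stalk x) := (f.stalkMap x).hom.toAlgebra
    (DerSch.stalkOver f x).obj (Coh.structureModule X) ≅
      ModuleCat.of (Y.presheaf.stalk (f.base x)) (X.presheaf.stalk x) :=
  letI : Algebra (Y.presheaf.stalk (f.base x)) (X.presheaf.stalk x) := (f.stalkMap x).hom.toAlgebra
  (ModuleCat.restrictScalars (f.stalkMap x).hom).mapIso
      (Groth.Agent.H2.HomSh.unitStalkEquiv x).symm.toModuleIso ≪≫
        Groth.Agent.H4.RestrPC.ofIsoRestrict.symm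

/-- tor amplitude of the structure sheaf at a point, in ring form -/
theorem hasTorAmplitudeAt_unitCx_iff (f : X ⟶ Y) (x : X) (a b : ℤ) :
    letI : Algebra (Y.presheaf.stalk (f.base x)) (X.presheaf.stalk x) := (f.stalkMap x).hom.toAlgebra
    DerSch.HasTorAmplitudeAt f a b (DerSch.unitCx X) x ↔
      HasTorAmplitudeIn (Y.presheaf.stalk (f.base x)) a b
        (Dual.inD (Y.presheaf.stalk (f.base x)) (X.presheaf.stalk x)) := by
  letI : Algebra (Y.presheaf.stalk (f.base x)) (X.presheaf.stalk x) := (f.stalkMap x).hom.toAlgebra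
  let e1 := (HomologicalComplex.singleMapHomologicalComplex (DerSch.stalkOver f x)
    (ComplexShape.up ℤ) 0).app (Coh.structureModule X)
  let e : toD ((DerSch.stalkCxOver f x).obj (DerSch.unitCx X)) ≅
      Dual.inD (Y.presheaf.stalk (f.base x)) (X.presheaf.stalk x) :=
    DerivedCategory.Q.mapIso e1 ≪≫
      (DerivedCategory.singleFunctor (ModuleCat.{u} (Y.presheaf.stalk (f.base x))) 0).mapIso
        (unitStalkOverIso f x)
  exact ⟨fun h => hasTorAmp_of_iso e h, fun h => hasTorAmp_of_iso e.symm h⟩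

/-- restriction to an open subscheme does not change the tor amplitude of the structure sheaf -/
theorem hasTorAmplitudeAt_unitCx_of_openImmersion {U : Scheme.{u}} (j : U ⟶ X) [IsOpenImmersion j]
    (f : X ⟶ Y) (a b : ℤ) (u : U)
    (h : DerSch.HasTorAmplitudeAt f a b (DerSch.unitCx X) (j.base u)) :
    DerSch.HasTorAmplitudeAt (j ≫ f) a b (DerSch.unitCx U) u := by
  rw [hasTorAmplitudeAt_unitCx_iff] at h ⊢
  letI a1 : Algebra (Y.presheaf.stalk (f.base (j.base u))) (X.presheaf.stalk (j.base u)) :=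
    (f.stalkMap (j.base u)).hom.toAlgebra
  letI a2 : Algebra (Y.presheaf.stalk (f.base (j.base u))) (U.presheaf.stalk u) :=
    ((j ≫ f).stalkMap u).hom.toAlgebra
  have hcomp : ((j ≫ f).stalkMap u).hom = (j.stalkMap u).hom.comp (f.stalkMap (j.base u)).hom := by
    rw [Scheme.Hom.stalkMap_comp]; rfl
  have hbij : Function.Bijective (j.stalkMap u).hom :=
    (ConcreteCategory.isIso_iff_bijective (j.stalkMap u)).1 inferInstance
  let φ : X.presheaf.stalk (j.base u) ≃ₗ[Y.presheaf.stalk (f.base (j.base u))] U.presheaf.stalk u :=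
    LinearEquiv.ofBijective
      { toFun := fun s => (j.stalkMap u).hom s
        map_add' := fun s t => map_add _ s t
        map_smul' := fun r s => by
          simp only [RingHom.id_apply, Algebra.smul_def, map_mul]
          congr 1
          change (j.stalkMap u).hom ((f.stalkMap (j.base u)).hom r) = ((j ≫ f).stalkMap u).hom r
          rw [hcomp]; rfl } hbij
  exact hasTorAmp_of_iso
    ((DerivedCategory.singleFunctor (ModuleCat.{u} (Y.presheaf.stalk (f.base (j.base u)))) 0).mapIso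
      φ.toModuleIso) h

/-- relative tor amplitude along a smooth second factor: local shift -/
theorem exists_nhd_shift_at {U W : Scheme.{u}} (g : U ⟶ W) (h : W ⟶ Y) [Smooth h] (w : W) :
    ∃ (W' : W.Opens) (n : ℕ), w ∈ W' ∧ ∀ u : U, g.base u ∈ W' → ∀ (F : CochainComplex U.Modules ℤ)
      (a b : ℤ), DerSch.HasTorAmplitudeAt (g ≫ h) a b F u →
        DerSch.HasTorAmplitudeAt g (a - n) b F u := by
  obtain ⟨W', n, hw, hW'⟩ := Groth.Agent.H4.SmTor11.exists_nhd_shift h w
  refine ⟨W', n, hw, fun u hu F a b hF => ?_⟩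
  refine hW' (g.base u) hu (toD ((DerSch.stalkCxOver g u).obj F)) a b ?_
  let φ : Y.presheaf.stalk (h.base (g.base u)) →+* W.presheaf.stalk (g.base u) :=
    (h.stalkMap (g.base u)).hom
  let e1 := ((ModuleCat.restrictScalars.{u} φ).mapDerivedCategoryFactors).app
    ((DerSch.stalkCxOver g u).obj F)
  let ψ : Y.presheaf.stalk (h.base (g.base u)) →+* U.presheaf.stalk u := ((g ≫ h).stalkMap u).hom
  let e2 : (DerSch.stalkFunctor U u ⋙ ModuleCat.restrictScalars.{u} (g.stalkMap u).hom) ⋙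
      ModuleCat.restrictScalars.{u} φ ≅ DerSch.stalkFunctor U u ⋙ ModuleCat.restrictScalars.{u} ψ :=
    Functor.associator _ _ _ ≪≫ Functor.isoWhiskerLeft (DerSch.stalkFunctor U u)
      (ModuleCat.restrictScalarsComp'.{u} φ (g.stalkMap u).hom ψ
        (by simp only [ψ, φ]; rw [Scheme.Hom.stalkMap_comp]; rfl)).symm
  let e3 := (NatIso.mapHomologicalComplex e2 (ComplexShape.up ℤ)).app F
  exact hasTorAmp_of_iso (e1 ≪≫ DerivedCategory.Q.mapIso e3).symm hF

/-- **S17643** (no Noetherian hypotheses needed) -/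
theorem S17643 (f : X ⟶ Y) [LocallyOfFiniteType f] (hf : DerSch.HasFiniteTorDim f)
    (U : X.Opens) (hU : IsAffineOpen U) (V : Y.Opens) (hV : IsAffineOpen V) (hUV : U ≤ f ⁻¹ᵁ V) :
    ∃ (W : Scheme.{u}) (g : (U : Scheme.{u}) ⟶ W) (h : W ⟶ Y),
      IsClosedImmersion g ∧ DerSch.HasFiniteTorDim g ∧ Smooth h ∧ g ≫ h = U.ι ≫ f := by
  letI alg : Algebra Γ(Y, V) Γ(X, U) := (f.appLE V U hUV).hom.toAlgebra
  have hft : Algebra.FiniteType Γ(Y, V) Γ(X, U) := f.finiteType_appLE hV hU hUV
  obtain ⟨n, φ, hφ⟩ := Algebra.FiniteType.iff_quotient_mvPolynomial''.1 hft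
  let P : CommRingCat.{u} := CommRingCat.of (MvPolynomial (Fin n) Γ(Y, V))
  let cP : Γ(Y, V) ⟶ P := CommRingCat.ofHom (algebraMap Γ(Y, V) (MvPolynomial (Fin n) Γ(Y, V)))
  let φ' : P ⟶ Γ(X, U) := CommRingCat.ofHom φ.toRingHom
  have hcφ : cP ≫ φ' = f.appLE V U hUV := by
    ext r
    exact φ.commutes r
  let g : (U : Scheme.{u}) ⟶ Spec P := hU.isoSpec.hom ≫ Spec.map φ'
  let h : Spec P ⟶ Y := Spec.map cP ≫ hV.fromSpec
  haveI : IsClosedImmersion (Spec.map φ') := IsClosedImmersion.spec_of_surjective φ' hφ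
  haveI hg : IsClosedImmersion g := inferInstance
  haveI : Smooth (Spec.map cP) := by
    rw [HasRingHomProperty.Spec_iff (P := @Smooth)]
    exact RingHom.smooth_algebraMap.mpr ⟨inferInstance, inferInstance⟩
  haveI hh : Smooth h := inferInstance
  have hgh : g ≫ h = U.ι ≫ f := by
    simp only [g, h, Category.assoc]
    rw [← Spec.map_comp_assoc, hcφ, IsAffineOpen.SpecMap_appLE_fromSpec f hV hU hUV,
      IsAffineOpen.isoSpec_hom_fromSpec_assoc]
  refine ⟨Spec P, g, h, hg, ?_, hh, hgh⟩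
  obtain ⟨a, b, hab⟩ := hf
  -- tor amplitude relative to `g ≫ h`
  have h1 : ∀ u : (U : Scheme.{u}), DerSch.HasTorAmplitudeAt (g ≫ h) a b (DerSch.unitCx U) u := by
    intro u
    rw [hgh]
    exact hasTorAmplitudeAt_unitCx_of_openImmersion U.ι f a b u (hab _)
  -- local shifts and compactness
  choose W' nn hW'mem hW' using fun w : Spec P => exists_nhd_shift_at g h w
  haveI : CompactSpace (U : Scheme.{u}) := isCompact_iff_compactSpace.1 hU.isCompact
  obtain ⟨t, ht⟩ := isCompact_univ.elim_finite_subcover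
    (fun u : (U : Scheme.{u}) => (g ⁻¹ᵁ W' (g.base u) : Set (U : Scheme.{u})))
    (fun u => (g ⁻¹ᵁ W' (g.base u)).2)
    (fun u _ => Set.mem_iUnion.2 ⟨u, hW'mem (g.base u)⟩)
  refine ⟨a - (t.sup fun u => nn (g.base u) : ℕ), b, fun u => ?_⟩
  obtain ⟨u0, hu0⟩ := Set.mem_iUnion.1 (ht (Set.mem_univ u))
  obtain ⟨hu0t, hu0'⟩ := Set.mem_iUnion.1 hu0
  have h2 := hW' (g.base u0) u hu0' (DerSch.unitCx U) a b (h1 u)
  have hle : nn (g.base u0) ≤ t.sup fun u => nn (g.base u) :=
    Finset.le_sup (f := fun u => nn (g.base u)) hu0t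
  exact hasTorAmp_mono (by omega) le_rfl h2

end Groth.Agent.H4.SmTor15
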