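import Mathlib

open TensorProduct

namespace Groth.Agent.H4.SmallExtLift

universe u

section NAK
variable {A : Type*} [CommRing A] {M : Type*} [AddCommGroup M] [Module A M]

lemma nak (I : Ideal A) (N : ℕ) (hI : I ^ N = ⊥) (P Q : Submodule A M) (h : P ≤ Q ⊔ I • P) :
    P ≤ Q := by
  have key : ∀ n : ℕ, P ≤ Q ⊔ I ^ n • P := by
    intro n
    induction n with
    | zero => rw [pow_zero, Ideal.one_eq_top, Submodule.top_smul]; exact le_sup_right
    | succ n ih =>
      calc P ≤ Q ⊔ I • P := h
        _ ≤ Q ⊔ I • (Q ⊔ I ^ n • P) := sup_le_sup_left (Submodule.smul_mono le_rfl ih) Q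
        _ = Q ⊔ (I • Q ⊔ I • (I ^ n • P)) := by rw [Submodule.smul_sup]
        _ ≤ Q ⊔ I ^ (n+1) • P := by
          refine sup_le le_sup_left (sup_le (le_trans Submodule.smul_le_right le_sup_left) ?_)
          rw [← Submodule.mul_smul, ← pow_succ']
          exact le_sup_right
  have := key N
  rwa [hI, Submodule.bot_smul, sup_bot_eq] at this

end NAK

lemma formallySmooth_of_flat
    {k : Type u} [Field k] {A : Type u} [CommRing A] [Algebra k A] [IsLocalRing A]
    [IsArtinianRing A]
    (hres : ∀ a : A, ∃ c : k, a - algebraMap k A c ∈ IsLocalRing.maximalIdeal A)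
    {B : Type u} [CommRing B] [Algebra A B] [Module.Flat A B] [Algebra k B] [IsScalarTower k A B]
    (hsm : Algebra.FormallySmooth k (B ⧸ (IsLocalRing.maximalIdeal A).map (algebraMap A B))) :
    Algebra.FormallySmooth A B := by
  classical
  obtain ⟨N, hN⟩ : ∃ N : ℕ, (IsLocalRing.maximalIdeal A) ^ N = ⊥ := by
    have h1 := IsArtinianRing.isNilpotent_jacobson_bot (R := A)
    rw [IsLocalRing.jacobson_eq_maximalIdeal ⊥ bot_ne_top] at h1
    obtain ⟨n, hn⟩ := h1
    exact ⟨n, hn⟩
  have hJN : ((IsLocalRing.maximalIdeal A).map (algebraMap A B)) ^ N = ⊥ := by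
    rw [← Ideal.map_pow, hN, Ideal.map_bot]
  have hJnil : IsNilpotent ((IsLocalRing.maximalIdeal A).map (algebraMap A B)) := ⟨N, hJN⟩
  haveI := hsm
  obtain ⟨s, hs⟩ := Algebra.FormallySmooth.exists_lift
    ((IsLocalRing.maximalIdeal A).map (algebraMap A B)) hJnil
    (AlgHom.id k (B ⧸ (IsLocalRing.maximalIdeal A).map (algebraMap A B)))
  have hs' : ∀ b : B ⧸ (IsLocalRing.maximalIdeal A).map (algebraMap A B),
      Ideal.Quotient.mk ((IsLocalRing.maximalIdeal A).map (algebraMap A B)) (s b) = b :=
    fun b => AlgHom.congr_fun hs b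
  let φ : A ⊗[k] (B ⧸ (IsLocalRing.maximalIdeal A).map (algebraMap A B)) →ₐ[A] B :=
    Algebra.TensorProduct.lift (Algebra.ofId A B) s (fun _ _ => Commute.all _ _)
  have hφ : ∀ (a : A) (b : B ⧸ (IsLocalRing.maximalIdeal A).map (algebraMap A B)),
      φ (a ⊗ₜ b) = algebraMap A B a * s b := by
    intro a b; exact Algebra.TensorProduct.lift_tmul _ _ _ a b
  have hJsub : ∀ x : B, x ∈ (IsLocalRing.maximalIdeal A).map (algebraMap A B) →
      x ∈ ((IsLocalRing.maximalIdeal A) • (⊤ : Submodule A B)) := by
    intro x hx; rw [Ideal.smul_top_eq_map]; exact hx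
  have hsurj : Function.Surjective φ := by
    have h1 : (⊤ : Submodule A B) ≤ LinearMap.range φ.toLinearMap := by
      apply nak (IsLocalRing.maximalIdeal A) N hN
      intro w _
      have hw : w - s (Ideal.Quotient.mk _ w) ∈
          (IsLocalRing.maximalIdeal A).map (algebraMap A B) := by
        rw [← Ideal.Quotient.eq, hs']
      have e : s (Ideal.Quotient.mk _ w) + (w - s (Ideal.Quotient.mk _ w)) = w := by ring
      rw [← e]
      refine Submodule.add_mem_sup ⟨1 ⊗ₜ (Ideal.Quotient.mk _ w), ?_⟩ (hJsub _ hw)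
      show φ (1 ⊗ₜ _) = _
      rw [hφ, map_one, one_mul]
    intro b
    obtain ⟨x, hx⟩ := h1 (Submodule.mem_top : b ∈ ⊤)
    exact ⟨x, hx⟩
  have claim : ∀ y : A ⊗[k] (B ⧸ (IsLocalRing.maximalIdeal A).map (algebraMap A B)),
      y - (1 : A) ⊗ₜ[k] (Ideal.Quotient.mk ((IsLocalRing.maximalIdeal A).map (algebraMap A B)) (φ y)) ∈
        (IsLocalRing.maximalIdeal A) •
          (⊤ : Submodule A (A ⊗[k] (B ⧸ (IsLocalRing.maximalIdeal A).map (algebraMap A B)))) := by
    intro y
    induction y using TensorProduct.induction_on with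
    | zero => simp
    | tmul a b =>
      obtain ⟨c, hc⟩ := hres a
      have e0 : Ideal.Quotient.mk ((IsLocalRing.maximalIdeal A).map (algebraMap A B))
          (algebraMap A B a) = algebraMap k _ c := by
        have h5 : algebraMap A B a - algebraMap A B (algebraMap k A c) ∈
            (IsLocalRing.maximalIdeal A).map (algebraMap A B) := by
          rw [← map_sub]; exact Ideal.mem_map_of_mem _ hc
        rw [← IsScalarTower.algebraMap_apply] at h5
        have h6 := (Ideal.Quotient.eq).2 h5
        rw [h6]; rfl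
      have e1 : Ideal.Quotient.mk ((IsLocalRing.maximalIdeal A).map (algebraMap A B))
          (φ (a ⊗ₜ b)) = c • b := by
        rw [hφ, map_mul, hs', e0, Algebra.smul_def]
      have e2 : (1 : A) ⊗ₜ[k] (c • b) = (algebraMap k A c) ⊗ₜ[k] b := by
        rw [TensorProduct.tmul_smul, TensorProduct.smul_tmul', Algebra.algebraMap_eq_smul_one]
      rw [e1, e2, ← TensorProduct.sub_tmul]
      have e3 : (a - algebraMap k A c) ⊗ₜ[k] b =
          (a - algebraMap k A c) • ((1 : A) ⊗ₜ[k] b) := by
        rw [TensorProduct.smul_tmul', smul_eq_mul, mul_one]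
      rw [e3]
      exact Submodule.smul_mem_smul hc Submodule.mem_top
    | add y z hy hz =>
      have : (y + z) - (1 : A) ⊗ₜ[k] (Ideal.Quotient.mk
          ((IsLocalRing.maximalIdeal A).map (algebraMap A B)) (φ (y + z))) =
          (y - (1 : A) ⊗ₜ[k] (Ideal.Quotient.mk _ (φ y))) +
            (z - (1 : A) ⊗ₜ[k] (Ideal.Quotient.mk _ (φ z))) := by
        rw [map_add, map_add, TensorProduct.tmul_add]; abel
      rw [this]; exact Submodule.add_mem _ hy hz
  have hinj : Function.Injective φ := by
    rw [injective_iff_map_eq_zero]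
    let φl : A ⊗[k] (B ⧸ (IsLocalRing.maximalIdeal A).map (algebraMap A B)) →ₗ[A] B :=
      φ.toLinearMap
    have hK : LinearMap.ker φl ≤ ⊥ := by
      apply nak (IsLocalRing.maximalIdeal A) N hN
      rw [bot_sup_eq]
      intro x hx
      have hx0 : φ x = 0 := hx
      have hxtop : x ∈ (IsLocalRing.maximalIdeal A) •
          (⊤ : Submodule A (A ⊗[k] (B ⧸ (IsLocalRing.maximalIdeal A).map (algebraMap A B)))) := by
        have := claim x
        rwa [hx0, map_zero, TensorProduct.tmul_zero, sub_zero] at this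
      have hex : Function.Exact (LinearMap.ker φl).subtype φl :=
        LinearMap.exact_subtype_ker_map φl
      have hinjK := LinearMap.lTensor_injective_of_exact_of_flat (M := ↥(LinearMap.ker φl)) φl
        (show Function.Surjective φl from hsurj) (LinearMap.ker φl).subtype
        (Submodule.subtype_injective _) hex
        (A ⧸ IsLocalRing.maximalIdeal A)
      have h0 : ((LinearMap.ker φl).subtype.lTensor (A ⧸ IsLocalRing.maximalIdeal A))
          ((1 : A ⧸ IsLocalRing.maximalIdeal A) ⊗ₜ[A] (⟨x, hx⟩ : LinearMap.ker φl)) = 0 := by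
        rw [LinearMap.lTensor_tmul]
        apply (TensorProduct.quotTensorEquivQuotSMul _ (IsLocalRing.maximalIdeal A)).injective
        rw [map_zero]
        have := TensorProduct.quotTensorEquivQuotSMul_mk_tmul (IsLocalRing.maximalIdeal A)
          (1 : A) x
        rw [map_one, one_smul] at this
        rw [Submodule.subtype_apply, this, Submodule.Quotient.mk_eq_zero]
        exact hxtop
      have h1 : ((1 : A ⧸ IsLocalRing.maximalIdeal A) ⊗ₜ[A]
          (⟨x, hx⟩ : LinearMap.ker φl)) = 0 := hinjK (by rw [h0, map_zero])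
      have h2 : (⟨x, hx⟩ : LinearMap.ker φl) ∈
          (IsLocalRing.maximalIdeal A) • (⊤ : Submodule A (LinearMap.ker φl)) := by
        have := TensorProduct.quotTensorEquivQuotSMul_mk_tmul (IsLocalRing.maximalIdeal A)
          (1 : A) (⟨x, hx⟩ : LinearMap.ker φl)
        rw [map_one, one_smul, h1, map_zero] at this
        exact (Submodule.Quotient.mk_eq_zero _).1 this.symm
      have h3 : Submodule.map (LinearMap.ker φl).subtype
          ((IsLocalRing.maximalIdeal A) • (⊤ : Submodule A (LinearMap.ker φl))) =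
          (IsLocalRing.maximalIdeal A) • (LinearMap.ker φl) := by
        rw [Submodule.map_smul'', Submodule.map_subtype_top]
      rw [← h3]
      exact ⟨⟨x, hx⟩, h2, rfl⟩
    intro x hx
    have : x ∈ LinearMap.ker φl := hx
    exact (Submodule.mem_bot A).1 (hK this)
  let e : (A ⊗[k] (B ⧸ (IsLocalRing.maximalIdeal A).map (algebraMap A B))) ≃ₐ[A] B :=
    AlgEquiv.ofBijective φ ⟨hinj, hsurj⟩
  exact Algebra.FormallySmooth.of_equiv e

theorem main
    {k : Type u} [Field k] [IsAlgClosed k]
    {A : Type u} [CommRing A] [Algebra k A] [IsLocalRing A] [IsArtinianRing A]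
    (hres : ∀ a : A, ∃ c : k, a - algebraMap k A c ∈ IsLocalRing.maximalIdeal A)
    (t : A) (ht : t ∈ IsLocalRing.maximalIdeal A)
    (htm : ∀ a ∈ IsLocalRing.maximalIdeal A, a * t = 0)
    {B : Type u} [CommRing B] [Algebra A B] [Module.Flat A B] [Algebra k B] [IsScalarTower k A B]
    (hsm : Algebra.FormallySmooth k (B ⧸ (IsLocalRing.maximalIdeal A).map (algebraMap A B)))
    (σ : (B ⧸ Ideal.span {algebraMap A B t}) ≃ₐ[A] (B ⧸ Ideal.span {algebraMap A B t})) :
    ∃ τ : B ≃ₐ[A] B, ∀ b : B,
      Ideal.Quotient.mk (Ideal.span {algebraMap A B t}) (τ b) =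
        σ (Ideal.Quotient.mk (Ideal.span {algebraMap A B t}) b) := by
  classical
  haveI : Algebra.FormallySmooth A B := formallySmooth_of_flat hres hsm
  have htt : algebraMap A B t * algebraMap A B t = 0 := by
    rw [← map_mul, htm t ht, map_zero]
  have hI2 : (Ideal.span {algebraMap A B t}) ^ 2 = ⊥ := by
    rw [Ideal.span_singleton_pow, pow_two, htt]
    exact Ideal.span_singleton_eq_bot.2 rfl
  have hInil : IsNilpotent (Ideal.span {algebraMap A B t}) := ⟨2, hI2⟩
  obtain ⟨τ₀, hτ₀⟩ := Algebra.FormallySmooth.exists_lift (Ideal.span {algebraMap A B t}) hInil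
    ((σ : _ →ₐ[A] _).comp (Ideal.Quotient.mkₐ A (Ideal.span {algebraMap A B t})))
  have hτ : ∀ b, Ideal.Quotient.mk (Ideal.span {algebraMap A B t}) (τ₀ b) =
      σ (Ideal.Quotient.mk (Ideal.span {algebraMap A B t}) b) := fun b => AlgHom.congr_fun hτ₀ b
  have hqsurj : Function.Surjective (Ideal.Quotient.mk (Ideal.span {algebraMap A B t})) :=
    Ideal.Quotient.mk_surjective
  have hstep : ∀ w : B, ∃ w' u : B, w = τ₀ w' + algebraMap A B t * u := by
    intro w
    obtain ⟨v, hv⟩ := σ.surjective (Ideal.Quotient.mk _ w)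
    obtain ⟨w', rfl⟩ := hqsurj v
    have h1 : w - τ₀ w' ∈ Ideal.span {algebraMap A B t} := by
      rw [← Ideal.Quotient.eq, hτ, hv]
    obtain ⟨u, hu⟩ := Ideal.mem_span_singleton'.1 h1
    exact ⟨w', u, by rw [mul_comm, hu]; ring⟩
  have hτsurj : Function.Surjective τ₀ := by
    intro w
    obtain ⟨w', u, rfl⟩ := hstep w
    obtain ⟨u', u'', rfl⟩ := hstep u
    refine ⟨w' + t • u', ?_⟩
    rw [map_add, map_smul, Algebra.smul_def, mul_add, ← mul_assoc, htt, zero_mul, add_zero]
  have hτinj : Function.Injective τ₀ := by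
    rw [injective_iff_map_eq_zero]
    intro b hb
    have h1 : Ideal.Quotient.mk (Ideal.span {algebraMap A B t}) b = 0 := by
      apply σ.injective; rw [← hτ, hb, map_zero, map_zero]
    have h2 : b ∈ Ideal.span {algebraMap A B t} := Ideal.Quotient.eq_zero_iff_mem.1 h1
    obtain ⟨c, hc⟩ := Ideal.mem_span_singleton'.1 h2
    by_cases ht0 : t = 0
    · rw [← hc, ht0, map_zero, mul_zero]
    · have F1 : ∀ y : B, algebraMap A B t * y = 0 →
          y ∈ (IsLocalRing.maximalIdeal A).map (algebraMap A B) := by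
        intro y hy
        let ff : Fin 1 → A := fun _ => t
        let xx : Fin 1 → B := fun _ => y
        have hrel : ∑ i : Fin 1, ff i • xx i = 0 := by
          simp [ff, xx, Algebra.smul_def, hy]
        obtain ⟨κ, a, y', hy', ha⟩ :=
          Module.Flat.isTrivialRelation_of_sum_smul_eq_zero (R := A) (M := B) (f := ff) (x := xx) hrel
        have h1 : y = ∑ j, a 0 j • y' j := hy' 0
        rw [h1]
        refine Ideal.sum_mem _ fun j _ => ?_
        have h2 : t * a 0 j = 0 := by simpa [ff] using ha j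
        have h3 : a 0 j ∈ IsLocalRing.maximalIdeal A := by
          by_contra hnot
          have hu : IsUnit (a 0 j) := by
            rwa [IsLocalRing.mem_maximalIdeal, mem_nonunits_iff, not_not] at hnot
          exact ht0 ((hu.mul_left_eq_zero).1 h2)
        rw [Algebra.smul_def]
        exact Ideal.mul_mem_right _ _ (Ideal.mem_map_of_mem _ h3)
      have F2 : ∀ j ∈ (IsLocalRing.maximalIdeal A).map (algebraMap A B),
          ∃ j' ∈ (IsLocalRing.maximalIdeal A).map (algebraMap A B),
            σ.symm (Ideal.Quotient.mk (Ideal.span {algebraMap A B t}) j) =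
              Ideal.Quotient.mk (Ideal.span {algebraMap A B t}) j' := by
        intro j hj
        refine Submodule.span_induction
          (p := fun j _ => ∃ j' ∈ (IsLocalRing.maximalIdeal A).map (algebraMap A B),
            σ.symm (Ideal.Quotient.mk (Ideal.span {algebraMap A B t}) j) =
              Ideal.Quotient.mk (Ideal.span {algebraMap A B t}) j') ?_ ?_ ?_ ?_ hj
        · rintro _ ⟨m, hm, rfl⟩
          refine ⟨algebraMap A B m, Ideal.mem_map_of_mem _ hm, ?_⟩
          have : Ideal.Quotient.mk (Ideal.span {algebraMap A B t}) (algebraMap A B m) =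
              algebraMap A (B ⧸ Ideal.span {algebraMap A B t}) m := rfl
          rw [this, AlgEquiv.commutes]
        · exact ⟨0, Ideal.zero_mem _, by simp⟩
        · rintro x y _ _ ⟨x', hx', ex⟩ ⟨y', hy', ey⟩
          exact ⟨x' + y', Ideal.add_mem _ hx' hy', by rw [map_add, map_add, ex, ey, map_add]⟩
        · rintro w x _ ⟨x', hx', ex⟩
          obtain ⟨w', hw'⟩ := hqsurj (σ.symm (Ideal.Quotient.mk _ w))
          refine ⟨w' * x', Ideal.mul_mem_left _ _ hx', ?_⟩
          rw [smul_eq_mul, map_mul, map_mul, ex, map_mul, hw']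
      have h3 : algebraMap A B t * τ₀ c = 0 := by
        rw [← τ₀.commutes t, ← map_mul, mul_comm, hc, hb]
      have h4 := F1 _ h3
      obtain ⟨j', hj', ej⟩ := F2 _ h4
      have h5 : Ideal.Quotient.mk (Ideal.span {algebraMap A B t}) c =
          Ideal.Quotient.mk (Ideal.span {algebraMap A B t}) j' := by
        rw [← ej, hτ, AlgEquiv.symm_apply_apply]
      have h6 : c - j' ∈ Ideal.span {algebraMap A B t} := Ideal.Quotient.eq.1 h5
      have hIJ : Ideal.span {algebraMap A B t} ≤
          (IsLocalRing.maximalIdeal A).map (algebraMap A B) := by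
        rw [Ideal.span_le]; rintro _ rfl; exact Ideal.mem_map_of_mem _ ht
      have h7 : c ∈ (IsLocalRing.maximalIdeal A).map (algebraMap A B) := by
        have := Ideal.add_mem _ (hIJ h6) hj'
        rwa [sub_add_cancel] at this
      have h8 : ∀ j ∈ (IsLocalRing.maximalIdeal A).map (algebraMap A B),
          j * algebraMap A B t = 0 := by
        intro j hj
        refine Submodule.span_induction (p := fun j _ => j * algebraMap A B t = 0) ?_ ?_ ?_ ?_ hj
        · rintro _ ⟨m, hm, rfl⟩
          rw [← map_mul, htm m hm, map_zero]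
        · exact zero_mul _
        · intro x y _ _ hx hy; rw [add_mul, hx, hy, add_zero]
        · intro w x _ hx; rw [smul_eq_mul, mul_assoc, hx, mul_zero]
      rw [← hc]; exact h8 c h7
  exact ⟨AlgEquiv.ofBijective τ₀ ⟨hτinj, hτsurj⟩, fun b => hτ b⟩

end Groth.Agent.H4.SmallExtLift
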