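import Mathlib
import Groth.Statements.S19902
import Groth.Agent.Lib.Helper3.AlgSt.OpenSub6
import Groth.Agent.Lib.Helper3.AlgSt.OpenSub5
import Groth.Agent.Lib.Helper3.AlgSt.LocQ13

set_option autoImplicit false
universe w u
open CategoryTheory CategoryTheory.Functor CategoryTheory.Limits Opposite AlgebraicGeometry

noncomputable section

namespace Groth.Agent.H4.SmlA

open Groth.Agent.H3 Groth.Agent.H3.FibCatAux Groth.Agent.H3.GerbAux Groth.Agent.H3.FpCalc Groth.Agent.H3.TwoCart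
  Groth.Agent.H3.StackPsh Groth.Agent.H3.PshBridge Groth.Agent.H3.AlgStAux Groth.Agent.H3.RepBridge
  Groth.Agent.H3.SetoidPsh Groth.Agent.H3.BaseChangeSp Groth.Agent.H3.AlgStComp
  Groth.Agent.H3.AlgStProps Groth.Agent.H3.AlgStBridge2 Groth.Agent.H3.AlgStCharts
  Groth.Agent.H3.AlgStDescent Groth.Agent.H3.Whisker Groth.Agent.H3.AlgStLES
  Groth.Agent.H3.FPtRel Groth.Agent.H3.AlgStStackRep Groth.Agent.H3.TwoYoneda
  Groth.Agent.H3.AlgStPoints Groth.Agent.H3.AlgStAlgebraic Groth.Agent.H3.AlgStQCMor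
  Groth.Agent.H3.AlgStSmoothLoc Groth.Agent.H3.SmSrc Groth.Agent.H3.AlgStLocQ
  Groth.Agent.H3.AlgStAffine Groth.Agent.H3.OpenSub

variable {S : Scheme.{u}} {𝒳 𝒴 𝒵 𝒳' 𝒜 ℬ 𝒞 𝒟 : AlgSt.Cat S}

/-- `LocQ` is monotone in the property -/
theorem locQ_mono {P P' : MorphismProperty (AlgSp.Sp S)}
    (h : ∀ ⦃X Y : AlgSp.Sp S⦄ (a : X ⟶ Y), P a → P' a) {f : 𝒳 ⥤ᵇ 𝒴} (hf : AlgSt.LocQ P f) :
    AlgSt.LocQ P' f := by
  obtain ⟨U, V, x, y, k, α, hx₁, hx₂, hy, hk⟩ := hf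
  exact ⟨U, V, x, y, k, α, hx₁, hx₂, hy, h _ hk⟩

lemma comp_assoc' (a : 𝒜 ⥤ᵇ ℬ) (b : ℬ ⥤ᵇ 𝒞) (c : 𝒞 ⥤ᵇ 𝒟) :
    BasedFunctor.comp (BasedFunctor.comp a b) c = BasedFunctor.comp a (BasedFunctor.comp b c) := by
  apply basedFunctor_ext
  rfl

/-- the 2-commutative square of a 2-fibre product, composed with a further functor -/
def sqIso (j : 𝒜 ⥤ᵇ ℬ) (u : 𝒞 ⥤ᵇ ℬ) (f : ℬ ⥤ᵇ 𝒴) :
    BasedFunctor.comp (FibCat.fpFst j u) (BasedFunctor.comp j f) ≅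
      BasedFunctor.comp (FibCat.fpSnd j u) (BasedFunctor.comp u f) :=
  eqToIso (comp_assoc' _ _ _).symm ≪≫ whiskerR (FibCat.fpIso j u) f ≪≫ eqToIso (comp_assoc' _ _ _)

/-- smoothness descends along a smooth surjective source -/
theorem locQ_smooth_of_comp (h𝒳 : AlgSt.IsAlgStack Scheme.fppfPrecoverage 𝒳)
    (h𝒴 : AlgSt.IsAlgStack Scheme.fppfPrecoverage 𝒴)
    (h𝒵 : AlgSt.IsAlgStack Scheme.fppfPrecoverage 𝒵) (u : 𝒳 ⥤ᵇ 𝒴) (F : 𝒴 ⥤ᵇ 𝒵)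
    (hu₁ : AlgSt.LocQ (AlgSp.LocP @Smooth) u) (hu₂ : AlgSt.IsSurjective u)
    (huF : AlgSt.LocQ (AlgSp.LocP @Smooth) (BasedFunctor.comp u F)) :
    AlgSt.LocQ (AlgSp.LocP @Smooth) F := by
  obtain ⟨U, V, W, x, y, z, h, k, α, β, γ, hx₁, hx₂, hy₁, hy₂, hz₁, hz₂, hPf, hPg, hPfg, hsf, hsg⟩ :=
    exists_comp_square h𝒳 h𝒴 h𝒵 u F
  have h1 := hPfg _ isSmoothLocalST_smooth huF
  have h2 := hPf _ isSmoothLocalST_smooth hu₁
  have h3 := hsf hu₂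
  refine ⟨V, W, y, z, k, β, hy₁, hy₂, hz₁, ?_⟩
  refine (isSmoothLocalST_smooth.locality (AlgSp.IsAlgSpace.yon_obj V)
    (AlgSp.IsAlgSpace.yon_obj W) _).2 (fun pt => ?_)
  obtain ⟨v, hv⟩ := points_map_yon_surjective h h3 pt
  refine ⟨(AlgSp.yon S).obj U, (AlgSp.yon S).obj W, (AlgSp.yon S).map h, 𝟙 _,
    (AlgSp.yon S).map (h ≫ k), v, AlgSp.IsAlgSpace.yon_obj U, AlgSp.IsAlgSpace.yon_obj W, h2,
    Groth.Agent.H3.AlgSpCov.locP_smooth_id _, ?_, hv, h1⟩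
  rw [Category.comp_id, Functor.map_comp]

/-- the inverse image of `subOf T` under a 1-morphism is `subOf` of the preimage of `T` -/
theorem subOf_preimage (h𝒳' : FibCat.IsFibGrpd 𝒳'.p) (h𝒳 : FibCat.IsFibGrpd 𝒳.p) (g : 𝒳' ⥤ᵇ 𝒳)
    (T : Set (AlgSt.Points 𝒳)) (a : 𝒳'.obj) :
    subOf T (g.obj a) ↔ subOf (AlgSt.Points.map g ⁻¹' T) a := by
  constructor
  · rintro h p ⟨m⟩
    show AlgSt.Points.map g (AlgSt.Points.mk p) ∈ T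
    rw [AlgSt.Points.map_mk]
    exact h (p.map g) ⟨g.map m⟩
  · rintro h q ⟨m⟩
    obtain ⟨f, hf⟩ : ∃ f : 𝒳.p.obj q.obj ⟶ 𝒳'.p.obj a, f = 𝒳.p.map m ≫ eqToHom (g.w_obj a) :=
      ⟨_, rfl⟩
    obtain ⟨a', φ, hφ⟩ := h𝒳'.exists_lift (x := a) f
    have hGφ : 𝒳.p.IsHomLift f (g.map φ) := BasedFunctor.preserves_isHomLift g f φ
    have hcart : 𝒳.p.IsStronglyCartesian f (g.map φ) :=
      isStronglyCartesian_of_isHomLift 𝒳.p h𝒳 _ _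
    have hm : 𝒳.p.IsHomLift (𝟙 (𝒳.p.obj q.obj) ≫ f) m := by
      rw [Category.id_comp, hf]
      have : 𝒳.p.IsHomLift (𝒳.p.map m) m := IsHomLift.map 𝒳.p m
      infer_instance
    let χ : q.obj ⟶ g.obj a' := IsStronglyCartesian.map 𝒳.p f (g.map φ) (f' := 𝟙 _ ≫ f) rfl m
    have ha' : 𝒳'.p.obj a' = Over.mk q.str := (IsHomLift.domain_eq 𝒳'.p f φ).trans q.lies
    have h1 := h ⟨q.K, q.str, a', ha'⟩ ⟨φ⟩
    change AlgSt.Points.map g (AlgSt.Points.mk _) ∈ T at h1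
    rw [AlgSt.Points.map_mk] at h1
    have h2 : AlgSt.Points.mk q =
        AlgSt.Points.mk ((⟨q.K, q.str, a', ha'⟩ : AlgSt.FPt 𝒳').map g) := by
      apply AlgSt.Points.sound
      exact ⟨q, 𝟙 _, χ, trivial⟩
    rw [h2]
    exact h1

/-- smoothness over the inverse image of an open substack on which `f` is smooth -/
theorem locQ_preimage (h𝒳' : AlgSt.IsAlgStack Scheme.fppfPrecoverage 𝒳')
    (h𝒳 : AlgSt.IsAlgStack Scheme.fppfPrecoverage 𝒳)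
    (h𝒴 : AlgSt.IsAlgStack Scheme.fppfPrecoverage 𝒴)
    (g : 𝒳' ⥤ᵇ 𝒳) (hg : AlgSt.LocQ (AlgSp.LocP @Smooth) g) (f : 𝒳 ⥤ᵇ 𝒴)
    (T : Set (AlgSt.Points 𝒳)) (hT : IsOpen T)
    (hQ₂ : AlgSt.LocQ (AlgSp.LocP @Smooth) (BasedFunctor.comp (AlgSt.subIncl 𝒳 (subOf T)) f)) :
    AlgSt.LocQ (AlgSp.LocP @Smooth)
      (BasedFunctor.comp (AlgSt.subIncl 𝒳' (subOf (AlgSt.Points.map g ⁻¹' T)))
        (BasedFunctor.comp g f)) := by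
  have h𝒳g := h𝒳.isStack.1
  have h𝒳'g := h𝒳'.isStack.1
  have hQ := isOpenSubstack_subOf h𝒳 T hT
  have hT' : IsOpen (AlgSt.Points.map g ⁻¹' T) :=
    (continuous_points_map h𝒳 g).isOpen_preimage T hT
  have hQ' := isOpenSubstack_subOf h𝒳' _ hT'
  have hP : AlgSt.IsAlgStack Scheme.fppfPrecoverage (FibCat.fp (AlgSt.subIncl 𝒳 (subOf T)) g) :=
    isAlgStack_fp h𝒳.isStack h𝒳.diag hQ.2.1 h𝒳' _ g
  have hfst : AlgSt.LocQ (AlgSp.LocP @Smooth) (FibCat.fpFst (AlgSt.subIncl 𝒳 (subOf T)) g) :=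
    locQ_fpFst isSmoothLocalST_smooth good_smooth.bc h𝒳' h𝒳 hQ.2.1 g _ hg
  have h1 : AlgSt.LocQ (AlgSp.LocP @Smooth)
      (BasedFunctor.comp (FibCat.fpFst (AlgSt.subIncl 𝒳 (subOf T)) g)
        (BasedFunctor.comp (AlgSt.subIncl 𝒳 (subOf T)) f)) :=
    locQ_comp isSmoothLocalST_smooth good_smooth.comp hP hQ.2.1 h𝒴 _ _ hfst hQ₂
  have h2 : AlgSt.LocQ (AlgSp.LocP @Smooth)
      (BasedFunctor.comp (FibCat.fpSnd (AlgSt.subIncl 𝒳 (subOf T)) g) (BasedFunctor.comp g f)) :=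
    locQ_of_iso (sqIso _ g f) h1
  have hval : ∀ w : (FibCat.fp (AlgSt.subIncl 𝒳 (subOf T)) g).obj,
      subOf (AlgSt.Points.map g ⁻¹' T) ((FibCat.fpSnd (AlgSt.subIncl 𝒳 (subOf T)) g).obj w) := by
    intro w
    rw [← subOf_preimage h𝒳'g h𝒳g g T]
    exact subOf_of_hom w.obj.iso.inv w.obj.fst.property
  have hsrep : AlgSt.RepByAlgSpWith (AlgSp.LocP @Smooth)
      (FibCat.fpSnd (AlgSt.subIncl 𝒳 (subOf T)) g) :=
    rep_locP_of_isOpenImm Groth.Agent.H3.AlgSpCov.etale_le_smooth _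
      (repByAlgSpWith_fpSnd _ _ g hQ.2.2)
  have hs₁ : AlgSt.RepByAlgSpWith (AlgSp.LocP @Smooth)
      (liftSub _ (FibCat.fpSnd (AlgSt.subIncl 𝒳 (subOf T)) g) hval) :=
    rep_liftSub good_smooth.toC (fun X => Groth.Agent.H3.AlgSpCov.locP_smooth_id X) hP.isStack.1
      h𝒳'g _ hQ'.2.1.isStack.1 _ hval hsrep
  have hs₂ : AlgSt.IsSurjective
      (liftSub _ (FibCat.fpSnd (AlgSt.subIncl 𝒳 (subOf T)) g) hval) := by
    apply isSurjective_liftSub h𝒳'g _ (fun _ _ m h => subOf_of_hom m h)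
    rw [range_subIncl_subOf]
    intro t ht
    have ht' : AlgSt.Points.map g t ∈
        Set.range (AlgSt.Points.map (AlgSt.subIncl 𝒳 (subOf T))) := by
      rw [range_subIncl_subOf]
      exact ht
    obtain ⟨b, hb⟩ := ht'
    obtain ⟨w, -, hw⟩ := exists_point_fp h𝒳'g h𝒳g hQ.2.1.isStack.1 g
      (AlgSt.subIncl 𝒳 (subOf T)) b t hb
    exact ⟨w, hw⟩
  have h3 : BasedFunctor.comp (liftSub _ (FibCat.fpSnd (AlgSt.subIncl 𝒳 (subOf T)) g) hval)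
      (BasedFunctor.comp (AlgSt.subIncl 𝒳' (subOf (AlgSt.Points.map g ⁻¹' T)))
        (BasedFunctor.comp g f)) =
      BasedFunctor.comp (FibCat.fpSnd (AlgSt.subIncl 𝒳 (subOf T)) g) (BasedFunctor.comp g f) := by
    rw [← comp_assoc', liftSub_comp]
  refine locQ_smooth_of_comp hP hQ'.2.1 h𝒴 _ _
    (locQ_of_rep isSmoothLocalST_smooth hQ'.2.1 _ hs₁) hs₂ ?_
  rw [h3]
  exact h2

/-- maximality of the inverse image -/
theorem preimage_max (h𝒳' : AlgSt.IsAlgStack Scheme.fppfPrecoverage 𝒳')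
    (h𝒳 : AlgSt.IsAlgStack Scheme.fppfPrecoverage 𝒳)
    (h𝒴 : AlgSt.IsAlgStack Scheme.fppfPrecoverage 𝒴)
    (g : 𝒳' ⥤ᵇ 𝒳) (hg : AlgSt.LocQ (AlgSp.LocP @Smooth) g) (f : 𝒳 ⥤ᵇ 𝒴)
    (Q : 𝒳.obj → Prop)
    (hQ₃ : ∀ Q' : 𝒳.obj → Prop, AlgSt.IsOpenSubstack 𝒳 Q' Scheme.fppfPrecoverage →
      AlgSt.LocQ (AlgSp.LocP @Smooth) (BasedFunctor.comp (AlgSt.subIncl 𝒳 Q') f) →
        ∀ a, Q' a → Q a)
    (Q' : 𝒳'.obj → Prop) (hQ' : AlgSt.IsOpenSubstack 𝒳' Q' Scheme.fppfPrecoverage)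
    (hL : AlgSt.LocQ (AlgSp.LocP @Smooth)
      (BasedFunctor.comp (AlgSt.subIncl 𝒳' Q') (BasedFunctor.comp g f)))
    (a : 𝒳'.obj) (ha : Q' a) : Q (g.obj a) := by
  have h𝒳g := h𝒳.isStack.1
  have h𝒳'g := h𝒳'.isStack.1
  have hQ's := hQ'.2.1
  obtain ⟨u, hu⟩ : ∃ u : AlgSt.fullSub 𝒳' Q' ⥤ᵇ 𝒳,
    u = BasedFunctor.comp (AlgSt.subIncl 𝒳' Q') g := ⟨_, rfl⟩
  have hi : AlgSt.LocQ (AlgSp.LocP @Smooth) (AlgSt.subIncl 𝒳' Q') :=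
    locQ_of_rep isSmoothLocalST_smooth h𝒳' _
      (rep_locP_of_isOpenImm Groth.Agent.H3.AlgSpCov.etale_le_smooth _ hQ'.2.2)
  have hu₁ : AlgSt.LocQ (AlgSp.LocP @Smooth) u := by
    rw [hu]
    exact locQ_comp isSmoothLocalST_smooth good_smooth.comp hQ's h𝒳' h𝒳 _ _ hi hg
  have hopen : AlgSt.IsOpenMor u := isOpenMor_of_locQ hQ's h𝒳 u
    (locQ_mono (AlgStDiagLft.locP_mono AlgStDiagLft.smooth_le_flat) hu₁)
    (locQ_mono (AlgStDiagLft.locP_mono AlgStDiagLft.smooth_le_lfp) hu₁)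
  have hT₂ : IsOpen (Set.range (AlgSt.Points.map u)) := by
    rw [← Set.image_univ]
    exact hopen _ isOpen_univ
  have hQ₂ := isOpenSubstack_subOf h𝒳 _ hT₂
  have hP : AlgSt.IsAlgStack Scheme.fppfPrecoverage
      (FibCat.fp (AlgSt.subIncl 𝒳 (subOf (Set.range (AlgSt.Points.map u)))) u) :=
    isAlgStack_fp h𝒳.isStack h𝒳.diag hQ₂.2.1 hQ's _ u
  have hfst : AlgSt.LocQ (AlgSp.LocP @Smooth)
      (FibCat.fpFst (AlgSt.subIncl 𝒳 (subOf (Set.range (AlgSt.Points.map u)))) u) :=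
    locQ_fpFst isSmoothLocalST_smooth good_smooth.bc hQ's h𝒳 hQ₂.2.1 u _ hu₁
  have hfst₂ : AlgSt.IsSurjective
      (FibCat.fpFst (AlgSt.subIncl 𝒳 (subOf (Set.range (AlgSt.Points.map u)))) u) := by
    intro b
    have hb : AlgSt.Points.map (AlgSt.subIncl 𝒳 (subOf (Set.range (AlgSt.Points.map u)))) b ∈
        Set.range (AlgSt.Points.map u) := by
      have := Set.mem_range_self (f := AlgSt.Points.map
        (AlgSt.subIncl 𝒳 (subOf (Set.range (AlgSt.Points.map u))))) b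
      rwa [range_subIncl_subOf] at this
    obtain ⟨c, hc⟩ := hb
    obtain ⟨w, hw, -⟩ := exists_point_fp hQ's.isStack.1 h𝒳g hQ₂.2.1.isStack.1 u
      (AlgSt.subIncl 𝒳 (subOf (Set.range (AlgSt.Points.map u)))) b c hc.symm
    exact ⟨w, hw⟩
  have hsnd : AlgSt.LocQ (AlgSp.LocP @Smooth)
      (FibCat.fpSnd (AlgSt.subIncl 𝒳 (subOf (Set.range (AlgSt.Points.map u)))) u) :=
    locQ_of_rep isSmoothLocalST_smooth hQ's _
      (rep_locP_of_isOpenImm Groth.Agent.H3.AlgSpCov.etale_le_smooth _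
        (repByAlgSpWith_fpSnd _ _ u hQ₂.2.2))
  have hL' : AlgSt.LocQ (AlgSp.LocP @Smooth) (BasedFunctor.comp u f) := by
    rw [hu, comp_assoc']
    exact hL
  have h1 : AlgSt.LocQ (AlgSp.LocP @Smooth)
      (BasedFunctor.comp
        (FibCat.fpSnd (AlgSt.subIncl 𝒳 (subOf (Set.range (AlgSt.Points.map u)))) u)
        (BasedFunctor.comp u f)) :=
    locQ_comp isSmoothLocalST_smooth good_smooth.comp hP hQ's h𝒴 _ _ hsnd hL'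
  have h2 : AlgSt.LocQ (AlgSp.LocP @Smooth)
      (BasedFunctor.comp
        (FibCat.fpFst (AlgSt.subIncl 𝒳 (subOf (Set.range (AlgSt.Points.map u)))) u)
        (BasedFunctor.comp (AlgSt.subIncl 𝒳 (subOf (Set.range (AlgSt.Points.map u)))) f)) :=
    locQ_of_iso (sqIso _ u f).symm h1
  have h3 : AlgSt.LocQ (AlgSp.LocP @Smooth)
      (BasedFunctor.comp (AlgSt.subIncl 𝒳 (subOf (Set.range (AlgSt.Points.map u)))) f) :=
    locQ_smooth_of_comp hP hQ₂.2.1 h𝒴 _ _ hfst hfst₂ h2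
  apply hQ₃ _ hQ₂ h3 (g.obj a)
  have h4 := subOf_range_obj hQ's.isStack.1 h𝒳g u ⟨a, ha⟩
  subst hu
  exact h4

theorem main (h𝒳' : AlgSt.IsAlgStack Scheme.fppfPrecoverage 𝒳')
    (h𝒳 : AlgSt.IsAlgStack Scheme.fppfPrecoverage 𝒳)
    (h𝒴 : AlgSt.IsAlgStack Scheme.fppfPrecoverage 𝒴)
    (g : 𝒳' ⥤ᵇ 𝒳) (hg : AlgSt.LocQ (AlgSp.LocP @Smooth) g) (f : 𝒳 ⥤ᵇ 𝒴)
    (Q : 𝒳.obj → Prop) (hQ₁ : AlgSt.IsOpenSubstack 𝒳 Q Scheme.fppfPrecoverage)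
    (hQ₂ : AlgSt.LocQ (AlgSp.LocP @Smooth) (BasedFunctor.comp (AlgSt.subIncl 𝒳 Q) f))
    (hQ₃ : ∀ Q' : 𝒳.obj → Prop, AlgSt.IsOpenSubstack 𝒳 Q' Scheme.fppfPrecoverage →
      AlgSt.LocQ (AlgSp.LocP @Smooth) (BasedFunctor.comp (AlgSt.subIncl 𝒳 Q') f) →
        ∀ a, Q' a → Q a) :
    AlgSt.IsOpenSubstack 𝒳' (fun a ↦ Q (g.obj a)) Scheme.fppfPrecoverage ∧
      AlgSt.LocQ (AlgSp.LocP @Smooth)
        (BasedFunctor.comp (AlgSt.subIncl 𝒳' (fun a ↦ Q (g.obj a))) (BasedFunctor.comp g f)) ∧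
      ∀ Q' : 𝒳'.obj → Prop, AlgSt.IsOpenSubstack 𝒳' Q' Scheme.fppfPrecoverage →
        AlgSt.LocQ (AlgSp.LocP @Smooth)
          (BasedFunctor.comp (AlgSt.subIncl 𝒳' Q') (BasedFunctor.comp g f)) →
        ∀ a, Q' a → Q (g.obj a) := by
  have h𝒳g := h𝒳.isStack.1
  have h𝒳'g := h𝒳'.isStack.1
  obtain ⟨T, hT⟩ : ∃ T : Set (AlgSt.Points 𝒳),
    T = Set.range (AlgSt.Points.map (AlgSt.subIncl 𝒳 Q)) := ⟨_, rfl⟩
  have hTo : IsOpen T := hT ▸ isOpen_range_subIncl h𝒳 Q hQ₁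
  have hQeq : Q = subOf T := hT ▸ eq_subOf_range h𝒳 Q hQ₁
  subst hQeq
  have hfun : (fun a ↦ subOf T (g.obj a)) = subOf (AlgSt.Points.map g ⁻¹' T) :=
    funext fun a => propext (subOf_preimage h𝒳'g h𝒳g g T a)
  refine ⟨?_, ?_, ?_⟩
  · rw [hfun]
    exact isOpenSubstack_subOf h𝒳' _ ((continuous_points_map h𝒳 g).isOpen_preimage T hTo)
  · rw [hfun]
    exact locQ_preimage h𝒳' h𝒳 h𝒴 g hg f T hTo hQ₂
  · intro Q' hQ' hL a ha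
    exact preimage_max h𝒳' h𝒳 h𝒴 g hg f (subOf T) hQ₃ Q' hQ' hL a ha

end Groth.Agent.H4.SmlA
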