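import Groth.Prelude.Def_W4stktopologysheavesDim
import Mathlib.Topology.Sober
import Mathlib.Topology.Spectral.Basic
import Mathlib.Topology.NoetherianSpace

/-!
# Helper library: the soberification of a topological space (helper4)
-/

namespace Groth.Agent.H4.Sob

open Topology TopologicalSpace Set PtTop

universe u

variable {X : Type u} [TopologicalSpace X]

/-- The underlying set of a point of the soberification. -/
def carr (Z : Sob X) : Set X := IrreducibleCloseds.carrier Z

theorem carr_irr (Z : Sob X) : IsIrreducible (carr Z) := IrreducibleCloseds.isIrreducible' Z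

theorem carr_closed (Z : Sob X) : IsClosed (carr Z) := IrreducibleCloseds.isClosed' Z

theorem carr_ext {Z Z' : Sob X} (h : carr Z = carr Z') : Z = Z' :=
  IrreducibleCloseds.ext (s := Z) (t := Z') h

/-- Make a point of the soberification. -/
def mkSob (C : Set X) (h1 : IsIrreducible C) (h2 : IsClosed C) : Sob X :=
  (⟨C, h1, h2⟩ : IrreducibleCloseds X)

theorem carr_mkSob (C : Set X) (h1 : IsIrreducible C) (h2 : IsClosed C) :
    carr (mkSob C h1 h2) = C := rfl

theorem carr_toSob (x : X) : carr (toSob X x) = closure {x} := rfl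

/-- The basic open of the soberification attached to a subset `U` of `X`. -/
def D (U : Set X) : Set (Sob X) := {Z : Sob X | (carr Z ∩ U).Nonempty}

theorem mem_D {U : Set X} {Z : Sob X} :
    Z ∈ D U ↔ (carr Z ∩ U).Nonempty := Iff.rfl

theorem D_univ : D (Set.univ : Set X) = Set.univ := by
  ext Z
  simp only [mem_D, inter_univ, mem_univ, iff_true]
  exact (carr_irr Z).nonempty

theorem D_inter {U V : Set X} (hU : IsOpen U) (hV : IsOpen V) : D (U ∩ V) = D U ∩ D V := by
  ext Z
  simp only [mem_D, mem_inter_iff]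
  constructor
  · rintro ⟨x, hxZ, hxU, hxV⟩
    exact ⟨⟨x, hxZ, hxU⟩, ⟨x, hxZ, hxV⟩⟩
  · rintro ⟨h1, h2⟩
    exact (carr_irr Z).2 U V hU hV h1 h2

theorem D_sUnion (S : Set (Set X)) : D (⋃₀ S) = ⋃ U ∈ S, D U := by
  ext Z
  simp only [mem_D, mem_iUnion, exists_prop]
  constructor
  · rintro ⟨x, hxZ, U, hU, hxU⟩
    exact ⟨U, hU, x, hxZ, hxU⟩
  · rintro ⟨U, hU, x, hxZ, hxU⟩
    exact ⟨x, hxZ, U, hU, hxU⟩

theorem D_iUnion {ι : Sort*} (W : ι → Set X) : D (⋃ a, W a) = ⋃ a, D (W a) := by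
  ext Z
  simp only [mem_D, inter_iUnion, Set.nonempty_iUnion, mem_iUnion]

theorem D_biUnion {ι : Type*} (t : Finset ι) (W : ι → Set X) :
    D (⋃ a ∈ t, W a) = ⋃ a ∈ t, D (W a) := by
  rw [D_iUnion]
  congr 1
  funext a
  rw [D_iUnion]

theorem D_mono {U V : Set X} (h : U ⊆ V) : D U ⊆ D V := by
  rintro Z ⟨x, hxZ, hxU⟩
  exact ⟨x, hxZ, h hxU⟩

theorem isOpen_D {U : Set X} (hU : IsOpen U) : IsOpen (D U) :=
  TopologicalSpace.isOpen_generateFrom_of_mem ⟨⟨U, hU⟩, rfl⟩

theorem isOpen_iff {S : Set (Sob X)} : IsOpen S ↔ ∃ U : Set X, IsOpen U ∧ S = D U := by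
  constructor
  · intro hS
    induction hS with
    | basic s hs =>
      obtain ⟨U, rfl⟩ := hs
      exact ⟨U, U.2, rfl⟩
    | univ => exact ⟨Set.univ, isOpen_univ, D_univ.symm⟩
    | inter s t _ _ ihs iht =>
      obtain ⟨U, hU, rfl⟩ := ihs
      obtain ⟨V, hV, rfl⟩ := iht
      exact ⟨U ∩ V, hU.inter hV, (D_inter hU hV).symm⟩
    | sUnion S _ ih =>
      choose U hUo hU using ih
      refine ⟨⋃ s : S, U s.1 s.2, isOpen_iUnion fun s => hUo s.1 s.2, ?_⟩
      ext Z
      simp only [mem_sUnion, mem_D, mem_iUnion, inter_iUnion, Set.nonempty_iUnion]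
      constructor
      · rintro ⟨s, hs, hZs⟩
        rw [hU s hs] at hZs
        exact ⟨⟨s, hs⟩, hZs⟩
      · rintro ⟨⟨s, hs⟩, hZ⟩
        refine ⟨s, hs, ?_⟩
        rw [hU s hs]
        exact hZ
  · rintro ⟨U, hU, rfl⟩
    exact isOpen_D hU

theorem toSob_preimage_D {U : Set X} (hU : IsOpen U) : toSob X ⁻¹' D U = U := by
  ext x
  simp only [mem_preimage, mem_D, carr_toSob]
  constructor
  · rintro ⟨y, hy, hyU⟩
    have : (x : X) ⤳ y := specializes_iff_mem_closure.2 hy
    exact this.mem_open hU hyU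
  · intro hx
    exact ⟨x, subset_closure rfl, hx⟩

theorem continuous_toSob : Continuous (toSob X) := by
  rw [continuous_def]
  intro S hS
  obtain ⟨U, hU, rfl⟩ := isOpen_iff.1 hS
  rw [toSob_preimage_D hU]
  exact hU

theorem D_injective {U V : Set X} (hU : IsOpen U) (hV : IsOpen V) (h : D U = D V) : U = V := by
  rw [← toSob_preimage_D hU, ← toSob_preimage_D hV, h]

theorem D_subset_D_iff {U V : Set X} (hU : IsOpen U) (hV : IsOpen V) : D U ⊆ D V ↔ U ⊆ V := by
  constructor
  · intro h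
    rw [← toSob_preimage_D hU, ← toSob_preimage_D hV]
    exact preimage_mono h
  · exact D_mono

theorem bijOn_preimage :
    Set.BijOn (fun U' : Set (Sob X) => toSob X ⁻¹' U') {U' | IsOpen U'} {U : Set X | IsOpen U} := by
  refine ⟨?_, ?_, ?_⟩
  · intro S hS
    exact (hS : IsOpen S).preimage continuous_toSob
  · intro S hS T hT h
    obtain ⟨U, hU, rfl⟩ := isOpen_iff.1 hS
    obtain ⟨V, hV, rfl⟩ := isOpen_iff.1 hT
    simp only [toSob_preimage_D hU, toSob_preimage_D hV] at h
    rw [h]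
  · intro U hU
    exact ⟨D U, isOpen_D hU, toSob_preimage_D hU⟩

instance : T0Space (Sob X) := by
  rw [t0Space_iff_inseparable]
  intro Z Z' h
  have key : ∀ Z Z' : Sob X, Inseparable Z Z' → carr Z ⊆ carr Z' := by
    intro Z Z' h
    by_contra hsub
    obtain ⟨x, hxZ, hxZ'⟩ := Set.not_subset.1 hsub
    have hopen : IsOpen (D (carr Z')ᶜ) := isOpen_D (carr_closed Z').isOpen_compl
    have h1 : Z ∈ D (carr Z')ᶜ := ⟨x, hxZ, hxZ'⟩
    have h2 : Z' ∈ D (carr Z')ᶜ := (h.mem_open_iff hopen).1 h1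
    obtain ⟨y, hy, hy'⟩ := h2
    exact hy' hy
  exact carr_ext (subset_antisymm (key Z Z' h) (key Z' Z h.symm))

/-- The closed subset of the soberification attached to a subset of `X`. -/
def Vc (C : Set X) : Set (Sob X) := {Z : Sob X | carr Z ⊆ C}

theorem Vc_eq_compl (C : Set X) : Vc C = (D Cᶜ)ᶜ := by
  ext Z
  simp only [Vc, mem_ofPred_eq, mem_compl_iff, mem_D, not_nonempty_iff_eq_empty]
  rw [← disjoint_iff_inter_eq_empty, disjoint_compl_right_iff_subset]

theorem isClosed_iff {T : Set (Sob X)} : IsClosed T ↔ ∃ C : Set X, IsClosed C ∧ T = Vc C := by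
  rw [← isOpen_compl_iff, isOpen_iff]
  constructor
  · rintro ⟨U, hU, h⟩
    refine ⟨Uᶜ, hU.isClosed_compl, ?_⟩
    rw [Vc_eq_compl, compl_compl, ← h, compl_compl]
  · rintro ⟨C, hC, rfl⟩
    exact ⟨Cᶜ, hC.isOpen_compl, by rw [Vc_eq_compl, compl_compl]⟩

instance : QuasiSober (Sob X) := by
  refine ⟨fun {T} hT hTcl => ?_⟩
  obtain ⟨C, hC, rfl⟩ := isClosed_iff.1 hTcl
  have hCirr : IsIrreducible C := by
    constructor
    · obtain ⟨Z, hZ⟩ := hT.nonempty
      obtain ⟨x, hx⟩ := (carr_irr Z).nonempty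
      exact ⟨x, hZ hx⟩
    · intro u v hu hv ⟨x, hxC, hxu⟩ ⟨y, hyC, hyv⟩
      have h1 : (Vc C ∩ D u).Nonempty :=
        ⟨toSob X x, closure_minimal (singleton_subset_iff.2 hxC) hC,
          ⟨x, subset_closure rfl, hxu⟩⟩
      have h2 : (Vc C ∩ D v).Nonempty :=
        ⟨toSob X y, closure_minimal (singleton_subset_iff.2 hyC) hC,
          ⟨y, subset_closure rfl, hyv⟩⟩
      obtain ⟨Z, hZC, hZu, hZv⟩ := hT.2 (D u) (D v) (isOpen_D hu) (isOpen_D hv) h1 h2
      obtain ⟨z, hzZ, hzuv⟩ := (carr_irr Z).2 u v hu hv hZu hZv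
      exact ⟨z, hZC hzZ, hzuv⟩
  let ZC : Sob X := mkSob C hCirr hC
  refine ⟨ZC, ?_⟩
  apply subset_antisymm
  · apply closure_minimal _ hTcl
    rw [singleton_subset_iff]
    exact (subset_rfl : C ⊆ C)
  · intro Z hZ
    rw [mem_closure_iff]
    intro S hS hZS
    obtain ⟨U, hU, rfl⟩ := isOpen_iff.1 hS
    obtain ⟨x, hxZ, hxU⟩ := hZS
    exact ⟨ZC, ⟨x, hZ hxZ, hxU⟩, rfl⟩

section Universal

variable {Y : Type*} [TopologicalSpace Y] [QuasiSober Y]

/-- The extension of a continuous map to the soberification. -/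
noncomputable def ext (f : X → Y) (hf : Continuous f) (Z : Sob X) : Y :=
  ((carr_irr Z).image f hf.continuousOn).genericPoint

theorem isGenericPoint_ext (f : X → Y) (hf : Continuous f) (Z : Sob X) :
    IsGenericPoint (ext f hf Z) (closure (f '' carr Z)) :=
  IsIrreducible.isGenericPoint_genericPoint_closure _

theorem ext_preimage (f : X → Y) (hf : Continuous f) {V : Set Y} (hV : IsOpen V) :
    ext f hf ⁻¹' V = D (f ⁻¹' V) := by
  ext Z
  rw [mem_preimage, (isGenericPoint_ext f hf Z).mem_open_set_iff hV, mem_D,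
    closure_inter_open_nonempty_iff hV]
  constructor
  · rintro ⟨y, ⟨x, hx, rfl⟩, hy⟩
    exact ⟨x, hx, hy⟩
  · rintro ⟨x, hx, hy⟩
    exact ⟨f x, ⟨x, hx, rfl⟩, hy⟩

theorem continuous_ext (f : X → Y) (hf : Continuous f) : Continuous (ext f hf) := by
  rw [continuous_def]
  intro V hV
  rw [ext_preimage f hf hV]
  exact isOpen_D (hV.preimage hf)

theorem ext_comp_toSob [T0Space Y] (f : X → Y) (hf : Continuous f) : ext f hf ∘ toSob X = f := by
  funext x
  have h1 := isGenericPoint_ext f hf (toSob X x)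
  rw [carr_toSob] at h1
  have h2 : IsGenericPoint (f x) (closure (f '' (closure {x}))) := by
    change closure {f x} = _
    apply subset_antisymm
    · apply closure_mono
      rw [singleton_subset_iff]
      exact ⟨x, subset_closure rfl, rfl⟩
    · apply closure_minimal _ isClosed_closure
      rw [← image_singleton]
      exact image_closure_subset_closure_image hf
  exact h1.eq h2

end Universal

section Compact

theorem isCompact_D_iff {U : Set X} (hU : IsOpen U) : IsCompact (D U) ↔ IsCompact U := by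
  constructor
  · intro h
    rw [isCompact_iff_finite_subcover]
    intro ι W hW hcov
    have h1 : D U ⊆ ⋃ a, D (W a) := by
      have := D_mono hcov
      rwa [D_iUnion] at this
    obtain ⟨t, ht⟩ := h.elim_finite_subcover _ (fun a => isOpen_D (hW a)) h1
    refine ⟨t, ?_⟩
    have h2 : D U ⊆ D (⋃ i ∈ t, W i) := by
      rw [D_biUnion]
      exact ht
    have h3 : IsOpen (⋃ i ∈ t, W i) := isOpen_biUnion fun a (_ : a ∈ t) => hW a
    exact (D_subset_D_iff hU h3).1 h2
  · intro h
    rw [isCompact_iff_finite_subcover]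
    intro ι S hS hcov
    choose W hWo hW using fun a => isOpen_iff.1 (hS a)
    have h1 : U ⊆ ⋃ a, W a := by
      rw [← D_subset_D_iff hU (isOpen_iUnion hWo)]
      refine hcov.trans ?_
      intro Z hZ
      simp only [mem_iUnion] at hZ
      obtain ⟨a, hZa⟩ := hZ
      rw [hW a] at hZa
      exact D_mono (subset_iUnion W a) hZa
    obtain ⟨t, ht⟩ := h.elim_finite_subcover W hWo h1
    refine ⟨t, ?_⟩
    refine (D_mono ht).trans ?_
    rw [D_biUnion]
    simp only [hW]
    exact subset_rfl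

theorem compactSpace_sob [CompactSpace X] : CompactSpace (Sob X) := by
  rw [← isCompact_univ_iff, ← D_univ, isCompact_D_iff isOpen_univ]
  exact isCompact_univ

theorem spectralSpace_sob [CompactSpace X] [PrespectralSpace X] [QuasiSeparatedSpace X] :
    SpectralSpace (Sob X) := by
  have h1 : CompactSpace (Sob X) := compactSpace_sob
  have h2 : QuasiSeparatedSpace (Sob X) := by
    refine ⟨fun S T hS hSc hT hTc => ?_⟩
    obtain ⟨U, hU, rfl⟩ := isOpen_iff.1 hS
    obtain ⟨V, hV, rfl⟩ := isOpen_iff.1 hT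
    rw [← D_inter hU hV, isCompact_D_iff (hU.inter hV)]
    exact QuasiSeparatedSpace.inter_isCompact U V hU ((isCompact_D_iff hU).1 hSc) hV
      ((isCompact_D_iff hV).1 hTc)
  have h3 : PrespectralSpace (Sob X) := by
    refine ⟨?_⟩
    apply isTopologicalBasis_of_isOpen_of_nhds
    · intro S hS
      exact hS.1
    · intro Z S hZS hS
      obtain ⟨W, hW, rfl⟩ := isOpen_iff.1 hS
      obtain ⟨x, hxZ, hxW⟩ := hZS
      obtain ⟨U, ⟨hUo, hUc⟩, hxU, hUW⟩ :=
        (PrespectralSpace.isTopologicalBasis (X := X)).exists_subset_of_mem_open hxW hW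
      exact ⟨D U, ⟨isOpen_D hUo, (isCompact_D_iff hUo).2 hUc⟩, ⟨x, hxZ, hxU⟩, D_mono hUW⟩
  exact { }

theorem noetherianSpace_sob [NoetherianSpace X] : NoetherianSpace (Sob X) := by
  rw [noetherianSpace_iff_opens]
  intro S
  obtain ⟨U, hU, hS⟩ := isOpen_iff.1 S.2
  change IsCompact S.carrier
  rw [hS, isCompact_D_iff hU]
  exact NoetherianSpace.isCompact U

end Compact

end Groth.Agent.H4.Sob
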