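import Mathlib

/-! helper4: splitting a monic polynomial in a finite free extension, and the tower
`R[x₁, …, xₙ]/(P(x₁), …, P(xₙ))` for a split polynomial `P` with its sections. -/

set_option autoImplicit false

universe u

open Polynomial

noncomputable section

namespace Groth.Agent.H4.SpA

lemma of_injective_of_monic {R : Type u} [CommRing R] {P : R[X]} (hP : P.Monic)
    (hd : 0 < P.natDegree) : Function.Injective (AdjoinRoot.of P) := by
  rw [injective_iff_map_eq_zero]
  intro r hr
  by_contra h
  have h1 : AdjoinRoot.mk P (C r) = 0 := hr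
  rw [AdjoinRoot.mk_eq_zero] at h1
  have h2 : (C r : R[X]) ≠ 0 := by
    intro h3
    exact h (C_eq_zero.mp h3)
  exact hP.not_dvd_of_natDegree_lt h2 (by rw [natDegree_C]; exact hd) h1

theorem exists_split : ∀ (d : ℕ) (R : Type u) [CommRing R] (P : R[X]), P.Monic →
    P.natDegree = d →
    ∃ (R' : Type u) (_ : CommRing R') (_ : Algebra R R'), Module.Free R R' ∧ Module.Finite R R' ∧
      Function.Injective (algebraMap R R') ∧
      ∃ α : Fin d → R', P.map (algebraMap R R') = ∏ j, (X - C (α j)) := by
  intro d
  induction d with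
  | zero =>
    intro R _ P hP hd
    refine ⟨R, inferInstance, Algebra.id R, inferInstance, inferInstance, fun _ _ h => h,
      Fin.elim0, ?_⟩
    have : P = 1 := eq_one_of_monic_natDegree_zero hP hd
    simp [this]
  | succ d ih =>
    intro R _ P hP hd
    rcases subsingleton_or_nontrivial R with hs | hn
    · refine ⟨R, inferInstance, Algebra.id R, inferInstance, inferInstance, fun _ _ h => h,
        fun _ => 0, Subsingleton.elim _ _⟩
    · have hinj : Function.Injective (AdjoinRoot.of P) :=
        of_injective_of_monic hP (by omega)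
      haveI : Nontrivial (AdjoinRoot P) := hinj.nontrivial
      have hroot : IsRoot (P.map (AdjoinRoot.of P)) (AdjoinRoot.root P) := AdjoinRoot.isRoot_root P
      have hPQ : (X - C (AdjoinRoot.root P)) *
          ((P.map (AdjoinRoot.of P)) /ₘ (X - C (AdjoinRoot.root P))) = P.map (AdjoinRoot.of P) :=
        mul_divByMonic_eq_iff_isRoot.2 hroot
      have hPm : (P.map (AdjoinRoot.of P)).Monic := hP.map _
      have hQm : ((P.map (AdjoinRoot.of P)) /ₘ (X - C (AdjoinRoot.root P))).Monic :=
        (monic_X_sub_C _).of_mul_monic_left (by rw [hPQ]; exact hPm)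
      have hQd : ((P.map (AdjoinRoot.of P)) /ₘ (X - C (AdjoinRoot.root P))).natDegree = d := by
        have h1 := (monic_X_sub_C (AdjoinRoot.root P)).natDegree_mul hQm
        rw [hPQ, natDegree_map_eq_of_injective hinj, hd, natDegree_X_sub_C] at h1
        omega
      obtain ⟨R', iR', iA', hfree, hfin, hinj', α, hα⟩ := ih (AdjoinRoot P) _ hQm hQd
      letI : Algebra R R' := ((algebraMap (AdjoinRoot P) R').comp (AdjoinRoot.of P)).toAlgebra
      haveI : IsScalarTower R (AdjoinRoot P) R' := IsScalarTower.of_algebraMap_eq (fun _ => rfl)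
      haveI : Module.Free R (AdjoinRoot P) := hP.free_adjoinRoot
      haveI : Module.Finite R (AdjoinRoot P) := hP.finite_adjoinRoot
      refine ⟨R', iR', inferInstance, Module.Free.trans (S := AdjoinRoot P),
        Module.Finite.trans (AdjoinRoot P) R', hinj'.comp hinj,
        Fin.cons (algebraMap (AdjoinRoot P) R' (AdjoinRoot.root P)) α, ?_⟩
      have h2 : P.map (algebraMap R R') =
          (P.map (AdjoinRoot.of P)).map (algebraMap (AdjoinRoot P) R') := by
        rw [Polynomial.map_map]
        rfl
      rw [h2, ← hPQ, Polynomial.map_mul, hα, Fin.prod_univ_succ]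
      simp only [Fin.cons_zero, Fin.cons_succ, Polynomial.map_sub, Polynomial.map_X,
        Polynomial.map_C]

theorem exists_tower {R : Type u} [CommRing R] {d : ℕ} (α : Fin d → R)
    {B' : Type u} [CommRing B'] [Algebra R B'] :
    ∀ (n : ℕ) (β : Fin n → B'), (∀ k, aeval (β k) (∏ j, (X - C (α j)) : R[X]) = 0) →
    ∃ (D : Type u) (_ : CommRing D) (_ : Algebra R D), Module.Free R D ∧ Module.Finite R D ∧
      ∃ φ : D →ₐ[R] B', (∀ k, β k ∈ φ.range) ∧
      ∃ (m : ℕ) (ρ : Fin m → (D →ₐ[R] R)),
        ∀ q : Ideal D, q.IsPrime → ∃ j, RingHom.ker (ρ j) ≤ q := by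
  intro n
  induction n with
  | zero =>
    intro β _
    refine ⟨R, inferInstance, Algebra.id R, inferInstance, inferInstance, Algebra.ofId R B',
      fun k => k.elim0, 1, fun _ => AlgHom.id R R, ?_⟩
    intro q _
    refine ⟨0, ?_⟩
    intro x hx
    rw [RingHom.mem_ker] at hx
    have : x = 0 := hx
    rw [this]
    exact q.zero_mem
  | succ n ih =>
    intro β hβ
    obtain ⟨D, iD, iDA, hfree, hfin, φ, hφ, m, ρ, hρ⟩ :=
      ih (fun k => β k.castSucc) (fun k => hβ _)
    have hPm : (∏ j, (X - C (α j)) : R[X]).Monic :=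
      monic_prod_of_monic _ _ (fun j _ => monic_X_sub_C _)
    have hPCm : ((∏ j, (X - C (α j)) : R[X]).map (algebraMap R D)).Monic := hPm.map _
    haveI : Module.Free D (AdjoinRoot ((∏ j, (X - C (α j)) : R[X]).map (algebraMap R D))) :=
      hPCm.free_adjoinRoot
    haveI : Module.Finite D (AdjoinRoot ((∏ j, (X - C (α j)) : R[X]).map (algebraMap R D))) :=
      hPCm.finite_adjoinRoot
    have hfree' : Module.Free R
        (AdjoinRoot ((∏ j, (X - C (α j)) : R[X]).map (algebraMap R D))) :=
      Module.Free.trans (S := D)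
    have hfin' : Module.Finite R
        (AdjoinRoot ((∏ j, (X - C (α j)) : R[X]).map (algebraMap R D))) :=
      Module.Finite.trans D _
    -- the map to `B'`
    have hev : ((∏ j, (X - C (α j)) : R[X]).map (algebraMap R D)).eval₂ (φ : D →+* B')
        (β (Fin.last n)) = 0 := by
      rw [eval₂_map]
      have h1 : (φ : D →+* B').comp (algebraMap R D) = algebraMap R B' := φ.comp_algebraMap
      rw [h1]
      exact hβ (Fin.last n)
    -- the sections
    have hevρ : ∀ (j : Fin m) (l : Fin d),
        ((∏ j, (X - C (α j)) : R[X]).map (algebraMap R D)).eval₂ (ρ j : D →+* R) (α l) = 0 := by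
      intro j l
      rw [eval₂_map]
      have h1 : (ρ j : D →+* R).comp (algebraMap R D) = RingHom.id R := by
        ext x
        simp
      rw [h1, eval₂_id, eval_prod]
      apply Finset.prod_eq_zero (Finset.mem_univ l)
      simp
    refine ⟨AdjoinRoot ((∏ j, (X - C (α j)) : R[X]).map (algebraMap R D)), inferInstance,
      inferInstance, hfree', hfin',
      AdjoinRoot.liftAlgHom _ φ (β (Fin.last n)) hev, ?_, m * d,
      fun i => AdjoinRoot.liftAlgHom _ (ρ (finProdFinEquiv.symm i).1)
        (α (finProdFinEquiv.symm i).2) (hevρ _ _), ?_⟩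
    · intro k
      refine Fin.lastCases ?_ (fun k' => ?_) k
      · exact ⟨AdjoinRoot.root _, AdjoinRoot.liftAlgHom_root _ _ _ _⟩
      · obtain ⟨c, hc⟩ := hφ k'
        exact ⟨AdjoinRoot.of _ c, (AdjoinRoot.liftAlgHom_of _ _ _ _ _).trans hc⟩
    · intro q hq
      haveI := hq
      obtain ⟨j, hj⟩ := hρ (q.comap (AdjoinRoot.of _)) inferInstance
      -- the root is congruent to some `α l`
      have hprod : (∏ l, (AdjoinRoot.root ((∏ j, (X - C (α j)) : R[X]).map (algebraMap R D)) -
          AdjoinRoot.of _ (algebraMap R D (α l)))) = 0 := by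
        have hPC : (∏ j, (X - C (α j)) : R[X]).map (algebraMap R D) =
            ∏ l, (X - C (algebraMap R D (α l))) := by
          rw [Polynomial.map_prod]
          simp only [Polynomial.map_sub, Polynomial.map_X, Polynomial.map_C]
        have h1 := AdjoinRoot.eval₂_root ((∏ j, (X - C (α j)) : R[X]).map (algebraMap R D))
        have h3 : eval₂ (AdjoinRoot.of ((∏ j, (X - C (α j)) : R[X]).map (algebraMap R D)))
            (AdjoinRoot.root ((∏ j, (X - C (α j)) : R[X]).map (algebraMap R D)))
            (∏ l, (X - C (algebraMap R D (α l)))) = 0 := by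
          rw [← hPC]
          exact h1
        rw [eval₂_finset_prod] at h3
        simpa only [eval₂_sub, eval₂_X, eval₂_C] using h3
      have hmem : (∏ l, (AdjoinRoot.root ((∏ j, (X - C (α j)) : R[X]).map (algebraMap R D)) -
          AdjoinRoot.of _ (algebraMap R D (α l)))) ∈ q := by
        rw [hprod]
        exact q.zero_mem
      rw [Ideal.IsPrime.prod_mem_iff] at hmem
      obtain ⟨l, -, hl⟩ := hmem
      refine ⟨finProdFinEquiv (j, l), ?_⟩
      intro c' hc'
      rw [RingHom.mem_ker] at hc'
      obtain ⟨g, rfl⟩ := AdjoinRoot.mk_surjective c'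
      simp only [Equiv.symm_apply_apply] at hc'
      have hc'' : g.eval₂ (ρ j : D →+* R) (α l) = 0 := by
        rw [← hc']
        exact (AdjoinRoot.liftAlgHom_mk _ _ _ _ g).symm
      -- `c₀ = g(α l)`
      have hc0 : g.eval (algebraMap R D (α l)) ∈ RingHom.ker (ρ j) := by
        rw [RingHom.mem_ker]
        have h1 : (ρ j) (g.eval (algebraMap R D (α l))) =
            g.eval₂ (ρ j : D →+* R) ((ρ j) (algebraMap R D (α l))) := by
          rw [← eval₂_id]
          exact Polynomial.hom_eval₂ g (RingHom.id D) (ρ j : D →+* R) _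
        rw [h1, AlgHom.commutes]
        exact hc''
      have hc0q : AdjoinRoot.of _ (g.eval (algebraMap R D (α l))) ∈ q := hj hc0
      have hdiff : AdjoinRoot.mk _ g - AdjoinRoot.of _ (g.eval (algebraMap R D (α l))) ∈ q := by
        have h1 : AdjoinRoot.mk ((∏ j, (X - C (α j)) : R[X]).map (algebraMap R D)) g =
            (g.map (AdjoinRoot.of _)).eval (AdjoinRoot.root _) := by
          rw [eval_map, ← AdjoinRoot.aeval_eq]
          rfl
        have h2 : AdjoinRoot.of ((∏ j, (X - C (α j)) : R[X]).map (algebraMap R D))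
            (g.eval (algebraMap R D (α l))) =
            (g.map (AdjoinRoot.of _)).eval (AdjoinRoot.of _ (algebraMap R D (α l))) := by
          rw [eval_map, ← eval₂_id (p := g)]
          exact Polynomial.hom_eval₂ g (RingHom.id D) (AdjoinRoot.of _) _
        rw [h1, h2]
        obtain ⟨t, ht⟩ := sub_dvd_eval_sub (AdjoinRoot.root _)
          (AdjoinRoot.of _ (algebraMap R D (α l))) (g.map (AdjoinRoot.of
            ((∏ j, (X - C (α j)) : R[X]).map (algebraMap R D))))
        rw [ht]
        exact q.mul_mem_right t hl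
      have := q.add_mem hdiff hc0q
      rwa [sub_add_cancel] at this

end Groth.Agent.H4.SpA
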