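import Mathlib
import Groth.Prelude.Def_Mor2
import Groth.Agent.H4.SpA

/-! helper4: a finite morphism to an affine scheme becomes, after a finite locally free surjective
base change, a closed subscheme of a finite locally free scheme which is set-theoretically a finite
union of sections. -/

set_option autoImplicit false

universe u

open CategoryTheory CategoryTheory.Limits AlgebraicGeometry Polynomial TensorProduct

noncomputable section

namespace Groth.Agent.H4.SpB

open Groth.Agent.H4.SpA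

lemma finLocFree_SpecMap (R S : Type u) [CommRing R] [CommRing S] [Algebra R S]
    [Module.Free R S] [Module.Finite R S] :
    Mor2.IsFinLocFree (Spec.map (CommRingCat.ofHom (algebraMap R S))) := by
  haveI : Module.FinitePresentation R S := Module.finitePresentation_of_projective R S
  haveI : Algebra.FinitePresentation R S := inferInstance
  refine ⟨?_, ?_, ?_⟩
  · rw [IsFinite.SpecMap_iff]
    simpa [RingHom.finite_algebraMap]
  · rw [Flat.SpecMap_iff]
    simpa [RingHom.flat_algebraMap_iff] using (inferInstance : Module.Flat R S)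
  · rw [LocallyOfFinitePresentation.SpecMap_iff]
    simpa [RingHom.finitePresentation_algebraMap]

attribute [local instance] Algebra.TensorProduct.rightAlgebra

/-- the algebra part -/
theorem alg_main (A B : Type u) [CommRing A] [CommRing B] [Algebra A B] [Module.Finite A B] :
    ∃ (A' : Type u) (_ : CommRing A') (_ : Algebra A A'), Module.Free A A' ∧ Module.Finite A A' ∧
      Function.Injective (algebraMap A A') ∧
    ∃ (D : Type u) (_ : CommRing D) (_ : Algebra A' D), Module.Free A' D ∧ Module.Finite A' D ∧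
      ∃ φ : D →ₐ[A'] B ⊗[A] A', Function.Surjective φ ∧
      ∃ (m : ℕ) (ρ : Fin m → (D →ₐ[A'] A')),
        ∀ q : Ideal D, q.IsPrime → ∃ j, RingHom.ker (ρ j) ≤ q := by
  obtain ⟨n, b, hb⟩ := Module.Finite.exists_fin (R := A) (M := B)
  have hint : ∀ k, ∃ p : A[X], p.Monic ∧ aeval (b k) p = 0 := fun k =>
    Algebra.IsIntegral.isIntegral (R := A) (b k)
  choose p hpm hp using hint
  have hPm : (∏ k, p k).Monic := monic_prod_of_monic _ _ (fun k _ => hpm k)
  have hPb : ∀ k, aeval (b k) (∏ k, p k) = 0 := by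
    intro k
    rw [map_prod]
    exact Finset.prod_eq_zero (Finset.mem_univ k) (hp k)
  obtain ⟨A', iA', iAA', hfree, hfin, hinj, α, hα⟩ :=
    exists_split (∏ k, p k).natDegree A (∏ k, p k) hPm rfl
  refine ⟨A', iA', iAA', hfree, hfin, hinj, ?_⟩
  have hβ : ∀ k, aeval ((Algebra.TensorProduct.includeLeft : B →ₐ[A] B ⊗[A] A') (b k))
      (∏ j, (X - C (α j)) : A'[X]) = 0 := by
    intro k
    rw [← hα, aeval_map_algebraMap, aeval_algHom_apply, hPb k, map_zero]
  obtain ⟨D, iD, iDA, hDfree, hDfin, φ, hφ, m, ρ, hρ⟩ := exists_tower α n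
    (fun k => (Algebra.TensorProduct.includeLeft : B →ₐ[A] B ⊗[A] A') (b k)) hβ
  refine ⟨D, iD, iDA, hDfree, hDfin, φ, ?_, m, ρ, hρ⟩
  -- surjectivity
  have key : ∀ x : B, x ⊗ₜ[A] (1 : A') ∈ φ.range := by
    intro x
    have hx : x ∈ Submodule.span A (Set.range b) := by rw [hb]; trivial
    induction hx using Submodule.span_induction with
    | mem x hx =>
      obtain ⟨k, rfl⟩ := hx
      exact hφ k
    | zero => rw [TensorProduct.zero_tmul]; exact Subalgebra.zero_mem _
    | add x y _ _ hx hy => rw [TensorProduct.add_tmul]; exact Subalgebra.add_mem _ hx hy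
    | smul a x _ hx =>
      rw [← TensorProduct.smul_tmul', ← algebraMap_smul A' a (x ⊗ₜ[A] (1 : A'))]
      exact Subalgebra.smul_mem _ hx _
  rw [← AlgHom.range_eq_top, eq_top_iff]
  intro z hz
  clear hz
  induction z using TensorProduct.induction_on with
  | zero => exact Subalgebra.zero_mem _
  | add x y hx hy => exact Subalgebra.add_mem _ hx hy
  | tmul x y =>
    have h1 : x ⊗ₜ[A] y = y • (x ⊗ₜ[A] (1 : A')) := by
      rw [Algebra.smul_def, Algebra.TensorProduct.right_algebraMap_apply,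
        Algebra.TensorProduct.tmul_mul_tmul, one_mul, mul_one]
    rw [h1]
    exact Subalgebra.smul_mem _ (key x) _

/-- the case of spectra -/
theorem spec_case (A B : Type u) [CommRing A] [CommRing B] [Algebra A B] [Module.Finite A B] :
    ∃ (X' : Scheme.{u}) (b : X' ⟶ Spec (CommRingCat.of A)) (Z' : Scheme.{u}) (c : Z' ⟶ X')
      (i : pullback (Spec.map (CommRingCat.ofHom (algebraMap A B))) b ⟶ Z'),
      Mor2.IsFinLocFree b ∧ Surjective b ∧ Mor2.IsFinLocFree c ∧ IsClosedImmersion i ∧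
      i ≫ c = pullback.snd (Spec.map (CommRingCat.ofHom (algebraMap A B))) b ∧
      ∃ (m : ℕ) (Zj : Fin m → Scheme.{u}) (ιj : ∀ j, Zj j ⟶ Z'),
        (∀ j, IsClosedImmersion (ιj j)) ∧ (∀ j, IsIso (ιj j ≫ c)) ∧
        (⋃ j, Set.range (ιj j).base) = Set.univ := by
  obtain ⟨A', _, _, hfree, hfin, hinj, D, _, _, hDfree, hDfin, φ, hφ, m, ρ, hρ⟩ := alg_main A B
  haveI := hfree
  haveI := hfin
  haveI := hDfree
  haveI := hDfin
  have hi : IsClosedImmersion (Spec.map (CommRingCat.ofHom φ.toRingHom)) :=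
    IsClosedImmersion.spec_of_surjective _ hφ
  refine ⟨Spec (CommRingCat.of A'), Spec.map (CommRingCat.ofHom (algebraMap A A')),
    Spec (CommRingCat.of D), Spec.map (CommRingCat.ofHom (algebraMap A' D)),
    (pullbackSpecIso A B A').hom ≫ Spec.map (CommRingCat.ofHom φ.toRingHom),
    finLocFree_SpecMap A A', ?_, finLocFree_SpecMap A' D, inferInstance, ?_, m,
    fun _ => Spec (CommRingCat.of A'), fun j => Spec.map (CommRingCat.ofHom (ρ j).toRingHom),
    ?_, ?_, ?_⟩
  · -- surjectivity
    have hint : (algebraMap A A').IsIntegral := RingHom.Finite.to_isIntegral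
      (RingHom.finite_algebraMap.2 hfin)
    have hs := hint.comap_surjective hinj
    exact ⟨hs⟩
  · rw [Category.assoc, ← Spec.map_comp, ← CommRingCat.ofHom_comp]
    have h1 : φ.toRingHom.comp (algebraMap A' D) =
        (RingHomClass.toRingHom (Algebra.TensorProduct.includeRight : A' →ₐ[A] B ⊗[A] A')) := by
      ext x
      exact φ.commutes x
    rw [h1]
    exact pullbackSpecIso_hom_snd A B A'
  · intro j
    apply IsClosedImmersion.spec_of_surjective
    intro x
    exact ⟨algebraMap A' D x, (ρ j).commutes x⟩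
  · intro j
    rw [← Spec.map_comp, ← CommRingCat.ofHom_comp]
    have h1 : (ρ j).toRingHom.comp (algebraMap A' D) = RingHom.id A' := by
      ext x
      exact (ρ j).commutes x
    rw [h1]
    change IsIso (Spec.map (𝟙 (CommRingCat.of A')))
    rw [Spec.map_id]
    infer_instance
  · rw [Set.eq_univ_iff_forall]
    intro z
    obtain ⟨j, hj⟩ := hρ z.asIdeal z.isPrime
    rw [Set.mem_iUnion]
    refine ⟨j, ?_⟩
    have hsurj : Function.Surjective (ρ j).toRingHom := fun x =>
      ⟨algebraMap A' D x, (ρ j).commutes x⟩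
    have := range_comap_of_surjective _ (ρ j).toRingHom hsurj
    change z ∈ Set.range (PrimeSpectrum.comap (ρ j).toRingHom)
    rw [this]
    exact hj

/-- the general case -/
theorem main {X Y : Scheme.{u}} [IsAffine X] (f : Y ⟶ X) [IsFinite f] :
    ∃ (X' : Scheme.{u}) (b : X' ⟶ X) (Z' : Scheme.{u}) (c : Z' ⟶ X') (i : pullback f b ⟶ Z'),
      Mor2.IsFinLocFree b ∧ Surjective b ∧ Mor2.IsFinLocFree c ∧ IsClosedImmersion i ∧
      i ≫ c = pullback.snd f b ∧
      ∃ (m : ℕ) (Zj : Fin m → Scheme.{u}) (ιj : ∀ j, Zj j ⟶ Z'),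
        (∀ j, IsClosedImmersion (ιj j)) ∧ (∀ j, IsIso (ιj j ≫ c)) ∧
        (⋃ j, Set.range (ιj j).base) = Set.univ := by
  haveI : IsAffine Y := isAffine_of_isAffineHom f
  letI : Algebra Γ(X, ⊤) Γ(Y, ⊤) := f.appTop.hom.toAlgebra
  have hfin : Module.Finite Γ(X, ⊤) Γ(Y, ⊤) := by
    have h1 : f.appTop.hom.Finite :=
      ((HasAffineProperty.iff_of_isAffine (P := @IsFinite)).1 (inferInstance : IsFinite f)).2
    exact h1
  obtain ⟨X', b₀, Z', c, i₀, hb, hbs, hc, hi, hic, hsec⟩ := spec_case Γ(X, ⊤) Γ(Y, ⊤)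
  have hf₀ : Spec.map (CommRingCat.ofHom (algebraMap Γ(X, ⊤) Γ(Y, ⊤))) = Spec.map f.appTop := rfl
  have comm₁ : f ≫ X.isoSpec.hom =
      Y.isoSpec.hom ≫ Spec.map (CommRingCat.ofHom (algebraMap Γ(X, ⊤) Γ(Y, ⊤))) := by
    rw [hf₀, Scheme.isoSpec_hom_naturality]
  have comm₂ : (b₀ ≫ X.isoSpec.inv) ≫ X.isoSpec.hom = 𝟙 X' ≫ b₀ := by
    rw [Category.assoc, Iso.inv_hom_id, Category.comp_id, Category.id_comp]
  refine ⟨X', b₀ ≫ X.isoSpec.inv, Z', c,
    pullback.map f (b₀ ≫ X.isoSpec.inv) _ b₀ Y.isoSpec.hom (𝟙 X') X.isoSpec.hom comm₁ comm₂ ≫ i₀,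
    ?_, ?_, hc, ?_, ?_, hsec⟩
  · obtain ⟨h1, h2, h3⟩ := hb
    exact ⟨inferInstance, inferInstance, inferInstance⟩
  · infer_instance
  · infer_instance
  · rw [Category.assoc, hic]
    erw [pullback.lift_snd]
    rw [Category.comp_id]

end Groth.Agent.H4.SpB
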