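import Mathlib
import Groth.Prelude

set_option autoImplicit false
universe u v
open CategoryTheory CategoryTheory.Limits

namespace Groth.Agent.H4.SpSeqDeg

section gen
variable {C : Type u} [Category.{v} C] [Abelian C] {ι : Type*} {c : ComplexShape ι}

lemma mono_homologyMap_of_d_eq_zero {K L : HomologicalComplex C c} (f : K ⟶ L) (i j k : ι)
    (hi : c.prev j = i) (hk : c.next j = k)
    (hK1 : K.d i j = 0) (hK2 : K.d j k = 0) (hL1 : L.d i j = 0) (hL2 : L.d j k = 0)
    (hf : Mono (f.f j)) : Mono (HomologicalComplex.homologyMap f j) := by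
  haveI := K.isIso_iCycles j k hk hK2
  haveI := L.isIso_iCycles j k hk hL2
  haveI := K.isIso_homologyπ i j hi hK1
  haveI := L.isIso_homologyπ i j hi hL1
  have h1 : HomologicalComplex.cyclesMap f j ≫ L.iCycles j = K.iCycles j ≫ f.f j :=
    HomologicalComplex.cyclesMap_i f j
  have h2 : K.homologyπ j ≫ HomologicalComplex.homologyMap f j =
      HomologicalComplex.cyclesMap f j ≫ L.homologyπ j :=
    HomologicalComplex.homologyπ_naturality f j
  haveI : Mono (HomologicalComplex.cyclesMap f j) := by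
    haveI : Mono (HomologicalComplex.cyclesMap f j ≫ L.iCycles j) := by
      rw [h1]; exact mono_comp _ _
    exact mono_of_mono _ (L.iCycles j)
  haveI : Mono (K.homologyπ j ≫ HomologicalComplex.homologyMap f j) := by
    rw [h2]; exact mono_comp _ _
  have h3 : HomologicalComplex.homologyMap f j =
      inv (K.homologyπ j) ≫ (K.homologyπ j ≫ HomologicalComplex.homologyMap f j) := by
    rw [IsIso.inv_hom_id_assoc]
  rw [h3]
  exact mono_comp _ _

lemma isZero_homology_of_isZero_X (K : HomologicalComplex C c) (j : ι) (h : IsZero (K.X j)) :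
    IsZero (K.homology j) := by
  have h1 : IsZero (K.cycles j) := by
    rw [IsZero.iff_id_eq_zero, ← cancel_mono (K.iCycles j)]
    exact h.eq_of_tgt _ _
  rw [IsZero.iff_id_eq_zero, ← cancel_epi (K.homologyπ j)]
  exact h1.eq_of_src _ _

end gen

theorem main {C : Type u} [Category.{v} C] [Abelian C]
    (E E' : E₂CohomologicalSpectralSequence C) (φ : E ⟶ E')
    (hE : ∀ pq : ℤ × ℤ, pq.1 < 0 ∨ pq.2 < 0 → IsZero ((E.page 2 le_rfl).X pq))
    (hd' : ∀ (r : ℤ) (hr : 2 ≤ r) (pq : ℤ × ℤ), pq.1 ≠ 0 →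
      (E'.page r hr).d pq (pq + (r, 1 - r)) = 0)
    (hφd : ∀ (r : ℤ) (hr : 2 ≤ r) (pq : ℤ × ℤ),
      (φ.hom r hr).f pq ≫ (E'.page r hr).d pq (pq + (r, 1 - r)) = 0)
    (hmono : ∀ pq : ℤ × ℤ, Mono ((φ.hom 2 le_rfl).f pq)) :
    SpSeq.Degenerates E 2 := by
  have stepA : ∀ (r : ℤ) (hr : 2 ≤ r),
      (∀ pq : ℤ × ℤ, pq.1 < 0 ∨ pq.2 < 0 → IsZero ((E.page r hr).X pq)) →
      (∀ pq : ℤ × ℤ, r ≤ pq.1 → Mono ((φ.hom r hr).f pq)) →
      ∀ pq pq' : ℤ × ℤ, (E.page r hr).d pq pq' = 0 := by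
    intro r hr hZ hM pq pq'
    by_cases hrel : (ComplexShape.up' ((r, 1 - r) : ℤ × ℤ)).Rel pq pq'
    · have hpq' : pq + (r, 1 - r) = pq' := hrel
      subst hpq'
      by_cases hq : pq.1 < 0 ∨ pq.2 < 0
      · exact (hZ pq hq).eq_of_src _ _
      · push_neg at hq
        haveI := hM (pq + (r, 1 - r)) (by
          show r ≤ pq.1 + r
          omega)
        rw [← cancel_mono ((φ.hom r hr).f (pq + (r, 1 - r))), zero_comp,
          ← (φ.hom r hr).comm pq _]
        exact hφd r hr pq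
    · exact (E.page r hr).shape pq pq' hrel
  have key : ∀ r : ℤ, 2 ≤ r → ∀ hr : 2 ≤ r,
      (∀ pq : ℤ × ℤ, pq.1 < 0 ∨ pq.2 < 0 → IsZero ((E.page r hr).X pq)) ∧
      (∀ pq : ℤ × ℤ, r ≤ pq.1 → Mono ((φ.hom r hr).f pq)) := by
    intro r hr2
    induction r, hr2 using Int.le_induction with
    | base =>
      intro hr
      exact ⟨hE, fun pq _ => hmono pq⟩
    | succ r hr ih =>
      intro hr'
      obtain ⟨hZ, hM⟩ := ih hr
      have hD := stepA r hr hZ hM
      refine ⟨fun pq hpq => ?_, fun pq hpq => ?_⟩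
      · exact IsZero.of_iso (isZero_homology_of_isZero_X _ pq (hZ pq hpq))
          (E.iso r (r + 1) pq rfl hr).symm
      · have hcomm := φ.comm r (r + 1) pq rfl hr
        have hprev : (ComplexShape.up' ((r, 1 - r) : ℤ × ℤ)).prev pq = pq - (r, 1 - r) :=
          ComplexShape.prev_eq' _ (sub_add_cancel pq (r, 1 - r))
        have hnext : (ComplexShape.up' ((r, 1 - r) : ℤ × ℤ)).next pq = pq + (r, 1 - r) :=
          ComplexShape.next_eq' _ rfl
        have hL1 : (E'.page r hr).d (pq - (r, 1 - r)) pq = 0 := by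
          have hne : (pq - (r, 1 - r)).1 ≠ 0 := by
            show pq.1 - r ≠ 0
            omega
          have := hd' r hr (pq - (r, 1 - r)) hne
          rwa [sub_add_cancel] at this
        have hL2 : (E'.page r hr).d pq (pq + (r, 1 - r)) = 0 := hd' r hr pq (by omega)
        have hm : Mono (HomologicalComplex.homologyMap (φ.hom r hr) pq) :=
          mono_homologyMap_of_d_eq_zero (φ.hom r hr) (pq - (r, 1 - r)) pq (pq + (r, 1 - r))
            hprev hnext (hD _ _) (hD _ _) hL1 hL2 (hM pq (by omega))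
        have h4 : (φ.hom (r + 1) hr').f pq = (E.iso r (r + 1) pq rfl hr).inv ≫
            (HomologicalComplex.homologyMap (φ.hom r hr) pq ≫
              (E'.iso r (r + 1) pq rfl hr).hom) := by
          rw [hcomm, Iso.inv_hom_id_assoc]
        rw [h4]
        infer_instance
  refine ⟨le_rfl, fun r' h₀ _ pq pq' => ?_⟩
  obtain ⟨hZ, hM⟩ := key r' h₀ h₀
  exact stepA r' h₀ hZ hM pq pq'

end Groth.Agent.H4.SpSeqDeg
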