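import Mathlib
import Groth.Prelude

set_option autoImplicit false
universe u v
open CategoryTheory CategoryTheory.Limits

namespace Groth.Agent.H4.SpSeqDim

section modcat
variable {K : Type u} [Field K]

lemma finite_of_mono {A B : ModuleCat.{v} K} (i : A ⟶ B) [Mono i] (hB : Module.Finite K B) :
    Module.Finite K A :=
  Module.Finite.of_injective i.hom ((ModuleCat.mono_iff_injective i).1 inferInstance)

lemma finite_of_epi {A B : ModuleCat.{v} K} (p : A ⟶ B) [Epi p] (hA : Module.Finite K A) :
    Module.Finite K B :=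
  Module.Finite.of_surjective p.hom ((ModuleCat.epi_iff_surjective p).1 inferInstance)

lemma finrank_le_of_mono {A B : ModuleCat.{v} K} (i : A ⟶ B) [Mono i] (hB : Module.Finite K B) :
    Module.finrank K A ≤ Module.finrank K B :=
  LinearMap.finrank_le_finrank_of_injective (f := i.hom)
    ((ModuleCat.mono_iff_injective i).1 inferInstance)

lemma finrank_le_of_epi {A B : ModuleCat.{v} K} (p : A ⟶ B) [Epi p] (hA : Module.Finite K A) :
    Module.finrank K B ≤ Module.finrank K A :=
  LinearMap.finrank_le_finrank_of_surjective (f := p.hom)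
    ((ModuleCat.epi_iff_surjective p).1 inferInstance)

lemma epi_of_mono_of_finrank_eq {A B : ModuleCat.{v} K} (i : A ⟶ B) [Mono i]
    (hA : Module.Finite K A) (hB : Module.Finite K B)
    (h : Module.finrank K A = Module.finrank K B) : Epi i := by
  rw [ModuleCat.epi_iff_surjective]
  exact (LinearMap.injective_iff_surjective_of_finrank_eq_finrank (f := i.hom) h).1
    ((ModuleCat.mono_iff_injective i).1 inferInstance)

lemma mono_of_epi_of_finrank_eq {A B : ModuleCat.{v} K} (p : A ⟶ B) [Epi p]
    (hA : Module.Finite K A) (hB : Module.Finite K B)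
    (h : Module.finrank K A = Module.finrank K B) : Mono p := by
  rw [ModuleCat.mono_iff_injective]
  exact (LinearMap.injective_iff_surjective_of_finrank_eq_finrank (f := p.hom) h).2
    ((ModuleCat.epi_iff_surjective p).1 inferInstance)

variable {ι : Type*} {c : ComplexShape ι}

lemma homology_finite (L : HomologicalComplex (ModuleCat.{v} K) c) (j : ι)
    (h : Module.Finite K (L.X j)) :
    Module.Finite K (L.homology j) ∧
      Module.finrank K (L.homology j) ≤ Module.finrank K (L.X j) := by
  have h1 : Module.Finite K (L.cycles j) := finite_of_mono (L.iCycles j) h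
  have h2 : Module.Finite K (L.homology j) := finite_of_epi (L.homologyπ j) h1
  exact ⟨h2, (finrank_le_of_epi (L.homologyπ j) h1).trans (finrank_le_of_mono (L.iCycles j) h)⟩

lemma d_eq_zero_of_finrank_homology_eq (L : HomologicalComplex (ModuleCat.{v} K) c) (j : ι)
    (h : Module.Finite K (L.X j))
    (heq : Module.finrank K (L.homology j) = Module.finrank K (L.X j)) :
    (∀ i, L.d i j = 0) ∧ (∀ k, L.d j k = 0) := by
  have h1 : Module.Finite K (L.cycles j) := finite_of_mono (L.iCycles j) h
  have h2 : Module.Finite K (L.homology j) := finite_of_epi (L.homologyπ j) h1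
  have l1 := finrank_le_of_epi (L.homologyπ j) h1
  have l2 := finrank_le_of_mono (L.iCycles j) h
  have e1 : Module.finrank K (L.cycles j) = Module.finrank K (L.X j) := by omega
  have e2 : Module.finrank K (L.cycles j) = Module.finrank K (L.homology j) := by omega
  haveI : Epi (L.iCycles j) := epi_of_mono_of_finrank_eq _ h1 h e1
  haveI : Mono (L.homologyπ j) := mono_of_epi_of_finrank_eq _ h1 h2 e2
  constructor
  · intro i
    have : L.toCycles i j = 0 := by
      rw [← cancel_mono (L.homologyπ j), L.toCycles_comp_homologyπ i j, zero_comp]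
    rw [← L.toCycles_i i j, this, zero_comp]
  · intro k
    rw [← cancel_epi (L.iCycles j), L.iCycles_d j k, comp_zero]

lemma finrank_cokernel_add {A B : ModuleCat.{v} K} (i : A ⟶ B) [Mono i]
    (hB : Module.Finite K B) :
    Module.finrank K (cokernel i : ModuleCat.{v} K) + Module.finrank K A = Module.finrank K B := by
  have e := (ModuleCat.cokernelIsoRangeQuotient i).toLinearEquiv.finrank_eq
  have hinj : Function.Injective i.hom := (ModuleCat.mono_iff_injective i).1 inferInstance
  have h1 := LinearMap.finrank_range_of_inj hinj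
  have h2 := (LinearMap.range i.hom).finrank_quotient_add_finrank
  rw [e, ← h1]
  exact h2

lemma finrank_top {X : ModuleCat.{v} K} :
    Module.finrank K ((⊤ : Subobject X) : ModuleCat.{v} K) = Module.finrank K X :=
  (asIso (⊤ : Subobject X).arrow).toLinearEquiv.finrank_eq

lemma finrank_bot {X : ModuleCat.{v} K} :
    Module.finrank K ((⊥ : Subobject X) : ModuleCat.{v} K) = 0 := by
  have hz : IsZero ((⊥ : Subobject X) : ModuleCat.{v} K) :=
    (isZero_zero _).of_iso Subobject.botCoeIsoZero
  haveI := ModuleCat.subsingleton_of_isZero hz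
  exact Module.finrank_zero_of_subsingleton

lemma fil_step {X : ModuleCat.{v} K} (hX : Module.Finite K X) (F : ℤ → Subobject X)
    (hF : Antitone F) (p : ℤ) :
    Module.finrank K (SpSeq.grPiece F hF p : ModuleCat.{v} K) +
        Module.finrank K ((F (p + 1) : ModuleCat.{v} K)) =
      Module.finrank K ((F p : ModuleCat.{v} K)) := by
  have hFp : Module.Finite K ((F p : ModuleCat.{v} K)) := finite_of_mono (F p).arrow hX
  exact finrank_cokernel_add ((F (p + 1)).ofLE (F p) (hF (Int.le_add_one le_rfl))) hFp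

lemma fil_sum {X : ModuleCat.{v} K} (hX : Module.Finite K X) (F : ℤ → Subobject X)
    (hF : Antitone F) (lo : ℤ) (N : ℕ) : ∀ q : ℤ, q = lo + N →
    Module.finrank K ((F lo : ModuleCat.{v} K)) =
      ∑ p ∈ Finset.Ico lo q, Module.finrank K (SpSeq.grPiece F hF p : ModuleCat.{v} K) +
        Module.finrank K ((F q : ModuleCat.{v} K)) := by
  induction N with
  | zero =>
    intro q hq
    obtain rfl : q = lo := by simpa using hq
    simp
  | succ N ih =>
    intro q hq
    have ih' := ih (lo + N) rfl
    have hstep := fil_step hX F hF (lo + N)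
    obtain rfl : q = lo + N + 1 := by rw [hq]; push_cast; ring
    have hset : Finset.Ico lo (lo + (N : ℤ) + 1) =
        insert (lo + (N : ℤ)) (Finset.Ico lo (lo + N)) := by
      ext x
      simp only [Finset.mem_insert, Finset.mem_Ico]
      omega
    rw [hset, Finset.sum_insert (by simp)]
    omega

end modcat

theorem main {K : Type u} [Field K] {r₀ : ℤ}
    (E : CohomologicalSpectralSequence (ModuleCat.{v} K) r₀) (H : ℤ → ModuleCat.{v} K)
    (a : SpSeq.Abutment E H) (n : ℤ) (hfin : a.IsFinite n)
    (hquad : ∀ pq : ℤ × ℤ, pq.1 < 0 ∨ pq.2 < 0 → IsZero ((E.page r₀ le_rfl).X pq))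
    (hfd : ∀ pq : ℤ × ℤ, Module.Finite K ((E.page r₀ le_rfl).X pq))
    (hH : Module.Finite K (H n))
    (hsum : ∑ s ∈ Finset.Icc (0 : ℤ) n, Module.finrank K ((E.page r₀ le_rfl).X (s, n - s)) =
      Module.finrank K (H n)) :
    ∀ s : ℤ, SpSeq.StationaryAt E (s, n - s) r₀ := by
  have hfin_all : ∀ (pq : ℤ × ℤ) (r : ℤ), r₀ ≤ r → ∀ hr : r₀ ≤ r,
      Module.Finite K ((E.page r hr).X pq) := by
    intro pq r hr0
    induction r, hr0 using Int.leInduction with
    | base => intro hr; exact hfd pq
    | succ r hr ih =>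
      intro hr'
      haveI := (homology_finite (E.page r hr) pq (ih hr)).1
      exact Module.Finite.equiv (E.iso r (r + 1) pq rfl hr).toLinearEquiv
  have hstep : ∀ (pq : ℤ × ℤ) (r : ℤ) (hr : r₀ ≤ r) (hr' : r₀ ≤ r + 1),
      Module.finrank K ((E.page (r + 1) hr').X pq) ≤ Module.finrank K ((E.page r hr).X pq) := by
    intro pq r hr hr'
    have h1 := (homology_finite (E.page r hr) pq (hfin_all pq r hr hr)).2
    have h2 := (E.iso r (r + 1) pq rfl hr).toLinearEquiv.finrank_eq
    omega
  have hzero : ∀ (pq : ℤ × ℤ) (r : ℤ) (hr : r₀ ≤ r) (hr' : r₀ ≤ r + 1),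
      Module.finrank K ((E.page (r + 1) hr').X pq) = Module.finrank K ((E.page r hr).X pq) →
      (∀ i, (E.page r hr).d i pq = 0) ∧ (∀ k, (E.page r hr).d pq k = 0) := by
    intro pq r hr hr' heq
    have h2 := (E.iso r (r + 1) pq rfl hr).toLinearEquiv.finrank_eq
    exact d_eq_zero_of_finrank_homology_eq (E.page r hr) pq (hfin_all pq r hr hr) (by omega)
  have hchain : ∀ (pq : ℤ × ℤ) (r : ℤ) (hr : r₀ ≤ r) (R : ℤ), r ≤ R → ∀ hR : r₀ ≤ R,
      Module.finrank K ((E.page R hR).X pq) ≤ Module.finrank K ((E.page r hr).X pq) := by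
    intro pq r hr R hrR
    induction R, hrR using Int.leInduction with
    | base => intro hR; exact le_rfl
    | succ R hR' ih =>
      intro hR
      exact (hstep pq R (hr.trans hR') hR).trans (ih (hr.trans hR'))
  -- the comparison of dimensions
  have hle : ∀ s : ℤ, Module.finrank K ((E.page (a.rk (s, n - s)) (a.stat (s, n - s)).1).X (s, n - s)) ≤
      Module.finrank K ((E.page r₀ le_rfl).X (s, n - s)) := fun s =>
    hchain (s, n - s) r₀ le_rfl _ (a.stat (s, n - s)).1 _
  have he0 : ∀ s : ℤ, s ∉ Finset.Icc (0 : ℤ) n →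
      Module.finrank K ((E.page r₀ le_rfl).X (s, n - s)) = 0 := by
    intro s hs
    have hz : IsZero ((E.page r₀ le_rfl).X (s, n - s)) := by
      apply hquad
      rw [Finset.mem_Icc] at hs
      show s < 0 ∨ n - s < 0
      omega
    haveI := ModuleCat.subsingleton_of_isZero hz
    exact Module.finrank_zero_of_subsingleton
  have hgen : ∀ (s m : ℤ), m = n →
      Module.finrank K (SpSeq.grPiece (a.fil m) (a.anti m) s : ModuleCat.{v} K) =
      Module.finrank K (SpSeq.grPiece (a.fil n) (a.anti n) s : ModuleCat.{v} K) := by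
    rintro s m rfl
    rfl
  have hβ : ∀ s : ℤ, Module.finrank K ((E.page (a.rk (s, n - s)) (a.stat (s, n - s)).1).X (s, n - s)) =
      Module.finrank K (SpSeq.grPiece (a.fil n) (a.anti n) s : ModuleCat.{v} K) := fun s =>
    ((a.β (s, n - s)).toLinearEquiv.finrank_eq).trans (hgen s _ (by show s + (n - s) = n; ring))
  obtain ⟨⟨lo, hlo⟩, ⟨hi, hhi⟩⟩ := hfin
  change a.fil n lo = ⊤ at hlo
  change a.fil n hi = ⊥ at hhi
  set lo' : ℤ := min lo 0 with hlo'
  set top : ℤ := max (max hi (n + 1)) lo' with htop
  have h1 : lo' ≤ 0 := min_le_right lo 0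
  have h1' : lo' ≤ lo := min_le_left lo 0
  have h2 : n + 1 ≤ top := (le_max_right hi (n + 1)).trans (le_max_left _ _)
  have h3 : hi ≤ top := (le_max_left hi (n + 1)).trans (le_max_left _ _)
  have h4 : lo' ≤ top := le_max_right _ _
  have hFlo : a.fil n lo' = ⊤ := top_le_iff.1 (hlo ▸ a.anti n h1')
  have hFtop : a.fil n top = ⊥ := le_bot_iff.1 (hhi ▸ a.anti n h3)
  have hs1 := fil_sum hH (a.fil n) (a.anti n) lo' (top - lo').toNat top (by omega)
  rw [hFlo, hFtop, finrank_top, finrank_bot, add_zero] at hs1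
  -- sums over S = Ico lo' top
  have hs2 : ∑ s ∈ Finset.Icc (0 : ℤ) n, Module.finrank K ((E.page r₀ le_rfl).X (s, n - s)) =
      ∑ s ∈ Finset.Ico lo' top, Module.finrank K ((E.page r₀ le_rfl).X (s, n - s)) := by
    apply Finset.sum_subset
    · intro x hx
      rw [Finset.mem_Icc] at hx
      rw [Finset.mem_Ico]
      omega
    · intro x _ hx
      exact he0 x hx
  have hs3 : ∑ s ∈ Finset.Ico lo' top,
      Module.finrank K ((E.page (a.rk (s, n - s)) (a.stat (s, n - s)).1).X (s, n - s)) =
      ∑ s ∈ Finset.Ico lo' top, Module.finrank K ((E.page r₀ le_rfl).X (s, n - s)) := by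
    rw [← hs2, hsum, hs1]
    exact Finset.sum_congr rfl (fun s _ => hβ s)
  have heqS := (Finset.sum_eq_sum_iff_of_le (fun s _ => hle s)).1 hs3
  have heq : ∀ s : ℤ,
      Module.finrank K ((E.page (a.rk (s, n - s)) (a.stat (s, n - s)).1).X (s, n - s)) =
      Module.finrank K ((E.page r₀ le_rfl).X (s, n - s)) := by
    intro s
    by_cases hs : s ∈ Finset.Ico lo' top
    · exact heqS s hs
    · have hs' : s ∉ Finset.Icc (0 : ℤ) n := by
        rw [Finset.mem_Icc]
        rw [Finset.mem_Ico] at hs
        omega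
      have := hle s
      rw [he0 s hs'] at this ⊢
      omega
  intro s
  refine ⟨le_rfl, fun r' h₀ _ => ?_⟩
  by_cases hrR : a.rk (s, n - s) ≤ r'
  · exact (a.stat (s, n - s)).2 r' h₀ hrR
  · push_neg at hrR
    have hr1 : r₀ ≤ r' + 1 := by omega
    have c1 := hchain (s, n - s) (r' + 1) hr1 (a.rk (s, n - s)) (by omega) (a.stat (s, n - s)).1
    have c2 := hstep (s, n - s) r' h₀ hr1
    have c3 := hchain (s, n - s) r₀ le_rfl r' h₀ h₀
    have c4 := heq s
    obtain ⟨z1, z2⟩ := hzero (s, n - s) r' h₀ hr1 (by omega)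
    exact ⟨z1 _, z2 _⟩

end Groth.Agent.H4.SpSeqDim
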