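import Mathlib

/-!
# Helper library: the constructible topology on a spectral space (helper4)
-/

namespace Groth.Agent.H4.Spec

open Topology TopologicalSpace Set

universe u
variable {X : Type*} [tX : TopologicalSpace X]

/-- The constructible topology is compact on a spectral space (unbundled form). -/
theorem compactSpace_cons [SpectralSpace X] : @CompactSpace X (constructibleTopology X) := by
  have h : CompactSpace (WithConstructibleTopology X) := inferInstance
  exact @Function.Surjective.compactSpace (WithConstructibleTopology X) X _ (constructibleTopology X)
    WithTopology.ofTopology (WithTopology.continuous_ofTopology _) h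
    (WithTopology.ofTopology_surjective _)

/-- Opens are constructibly open when compact opens form a basis. -/
theorem isOpen_cons_of_isOpen [PrespectralSpace X] {s : Set X} (hs : IsOpen s) :
    IsOpen[constructibleTopology X] s := by
  obtain ⟨S, hS, rfl⟩ := (PrespectralSpace.isTopologicalBasis (X := X)).open_eq_sUnion hs
  exact @isOpen_sUnion X (constructibleTopology X) S fun t ht =>
    (hS ht).2.isOpen_constructibleTopology_of_isOpen (hS ht).1

theorem isClosed_cons_of_isClosed [PrespectralSpace X] {s : Set X} (hs : IsClosed s) :
    IsClosed[constructibleTopology X] s := by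
  rw [← @isOpen_compl_iff X s (constructibleTopology X)]
  exact isOpen_cons_of_isOpen hs.isOpen_compl

theorem cons_le [PrespectralSpace X] : constructibleTopology X ≤ tX :=
  fun _ hs => isOpen_cons_of_isOpen hs

theorem continuous_id_cons [PrespectralSpace X] :
    @Continuous X X (constructibleTopology X) tX id :=
  continuous_id_of_le cons_le

/-- Compact opens are constructibly clopen. -/
theorem isClosed_cons_of_isCompact_isOpen {s : Set X} (hc : IsCompact s) (ho : IsOpen s) :
    IsClosed[constructibleTopology X] s := by
  rw [← @isOpen_compl_iff X s (constructibleTopology X)]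
  apply IsCompact.isOpen_constructibleTopology_of_isClosed
  · rwa [compl_compl]
  · exact ho.isClosed_compl

/-- The constructible topology of a spectral space is Hausdorff. -/
theorem t2Space_cons [T0Space X] [PrespectralSpace X] : @T2Space X (constructibleTopology X) := by
  refine @T2Space.mk X (constructibleTopology X) ?_
  intro x y hxy
  have hins : ¬ Inseparable x y := fun h => hxy h.eq
  rw [(PrespectralSpace.isTopologicalBasis (X := X)).inseparable_iff] at hins
  simp only [not_forall] at hins
  obtain ⟨U, ⟨hUo, hUc⟩, hU⟩ := hins
  have h1 : IsOpen[constructibleTopology X] U := hUc.isOpen_constructibleTopology_of_isOpen hUo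
  have h2 : IsOpen[constructibleTopology X] Uᶜ := by
    rw [@isOpen_compl_iff X U (constructibleTopology X)]
    exact isClosed_cons_of_isCompact_isOpen hUc hUo
  by_cases hx : x ∈ U
  · have hy : y ∉ U := fun hy => hU (iff_of_true hx hy)
    exact ⟨U, Uᶜ, h1, h2, hx, hy, disjoint_compl_right⟩
  · have hy : y ∈ U := by
      by_contra hy
      exact hU (iff_of_false hx hy)
    exact ⟨Uᶜ, U, h2, h1, hx, hy, disjoint_compl_left⟩

/-- Constructibly closed sets of a spectral space are compact (in both topologies). -/
theorem isCompact_cons_of_isClosed_cons [SpectralSpace X] {s : Set X}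
    (hs : IsClosed[constructibleTopology X] s) : @IsCompact X (constructibleTopology X) s :=
  @IsClosed.isCompact X (constructibleTopology X) s compactSpace_cons hs

theorem isCompact_of_isCompact_cons [PrespectralSpace X] {s : Set X}
    (hs : @IsCompact X (constructibleTopology X) s) : IsCompact s := by
  have := @IsCompact.image X X (constructibleTopology X) tX s id hs continuous_id_cons
  simpa using this

theorem isCompact_of_isClosed_cons [SpectralSpace X] {s : Set X}
    (hs : IsClosed[constructibleTopology X] s) : IsCompact s :=
  isCompact_of_isCompact_cons (isCompact_cons_of_isClosed_cons hs)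

/-- In a spectral space, a point in the closure of a constructibly closed set is a specialization
of a point of that set. -/
theorem exists_specializes_of_mem_closure [SpectralSpace X] {E : Set X}
    (hE : IsClosed[constructibleTopology X] E) {x : X} (hx : x ∈ closure E) :
    ∃ e ∈ E, e ⤳ x := by
  let ι := {U : Set X // IsOpen U ∧ IsCompact U ∧ x ∈ U}
  have hne : (E ∩ ⋂ i : ι, (i : Set X)).Nonempty := by
    refine @IsCompact.inter_iInter_nonempty X (constructibleTopology X) E ι
      (isCompact_cons_of_isClosed_cons hE) (fun i => (i : Set X))
      (fun i => isClosed_cons_of_isCompact_isOpen i.2.2.1 i.2.1) ?_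
    intro u
    have hopen : IsOpen (⋂ i ∈ u, (i : Set X)) :=
      isOpen_biInter_finset fun i _ => i.2.1
    have hmem : x ∈ ⋂ i ∈ u, (i : Set X) := by
      simp only [mem_iInter]
      exact fun i _ => i.2.2.2
    obtain ⟨y, hy1, hy2⟩ := mem_closure_iff.mp hx _ hopen hmem
    exact ⟨y, hy2, hy1⟩
  obtain ⟨e, heE, he⟩ := hne
  refine ⟨e, heE, ?_⟩
  rw [specializes_iff_forall_open]
  intro V hV hxV
  obtain ⟨U, ⟨hUo, hUc⟩, hxU, hUV⟩ :=
    (PrespectralSpace.isTopologicalBasis (X := X)).exists_subset_of_mem_open hxV hV
  exact hUV (mem_iInter.mp he ⟨U, hUo, hUc, hxU⟩)

theorem isClosed_of_isClosed_cons_of_stableUnderSpecialization [SpectralSpace X] {E : Set X}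
    (hE : IsClosed[constructibleTopology X] E) (hs : StableUnderSpecialization E) : IsClosed E := by
  rw [← closure_subset_iff_isClosed]
  intro x hx
  obtain ⟨e, he, hex⟩ := exists_specializes_of_mem_closure hE hx
  exact hs hex he

theorem isOpen_of_isOpen_cons_of_stableUnderGeneralization [SpectralSpace X] {E : Set X}
    (hE : IsOpen[constructibleTopology X] E) (hs : StableUnderGeneralization E) : IsOpen E := by
  rw [← isClosed_compl_iff]
  apply isClosed_of_isClosed_cons_of_stableUnderSpecialization
  · rwa [@isClosed_compl_iff X (constructibleTopology X)]
  · exact hs.compl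

section Maps

variable {Y : Type*} [tY : TopologicalSpace Y]

/-- A spectral map is continuous for the constructible topologies. -/
theorem continuous_cons_of_isSpectralMap {f : X → Y} (hf : IsSpectralMap f) :
    @Continuous X Y (constructibleTopology X) (constructibleTopology Y) f := by
  refine (continuous_generateFrom_iff (t := constructibleTopology X)
    (b := constructibleTopologySubbasis Y)).2 ?_
  rintro s (⟨hso, hsc⟩ | ⟨hscl, hsc⟩)
  · exact (hf.isCompact_preimage_of_isOpen hso hsc).isOpen_constructibleTopology_of_isOpen
      (hso.preimage hf.continuous)
  · apply IsCompact.isOpen_constructibleTopology_of_isClosed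
    · rw [← preimage_compl]
      exact hf.isCompact_preimage_of_isOpen hscl.isOpen_compl hsc
    · exact hscl.preimage hf.continuous

theorem isSpectralMap_of_continuous_of_continuous_cons [SpectralSpace X] {f : X → Y}
    (hf : Continuous f)
    (hfc : @Continuous X Y (constructibleTopology X) (constructibleTopology Y) f) :
    IsSpectralMap f := by
  refine ⟨hf, fun s hso hsc => ?_⟩
  apply isCompact_of_isClosed_cons
  exact @IsClosed.preimage X Y (constructibleTopology X) (constructibleTopology Y) f hfc s
    (isClosed_cons_of_isCompact_isOpen hsc hso)

theorem isClosed_cons_singleton [T0Space X] [PrespectralSpace X] (x : X) :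
    IsClosed[constructibleTopology X] ({x} : Set X) := by
  exact @isClosed_singleton X (constructibleTopology X)
    (@T2Space.t1Space X (constructibleTopology X) t2Space_cons) x

/-- The image of a constructibly closed set under a spectral map of spectral spaces is
constructibly closed. -/
theorem isClosed_cons_image [SpectralSpace X] [T0Space Y] [PrespectralSpace Y] {f : X → Y}
    (hf : IsSpectralMap f) {s : Set X} (hs : IsClosed[constructibleTopology X] s) :
    IsClosed[constructibleTopology Y] (f '' s) := by
  have h1 : @IsCompact X (constructibleTopology X) s := isCompact_cons_of_isClosed_cons hs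
  have h2 : @IsCompact Y (constructibleTopology Y) (f '' s) :=
    @IsCompact.image X Y (constructibleTopology X) (constructibleTopology Y) s f h1
      (continuous_cons_of_isSpectralMap hf)
  exact @IsCompact.isClosed Y (constructibleTopology Y) t2Space_cons _ h2

theorem isClosed_cons_range [SpectralSpace X] [T0Space Y] [PrespectralSpace Y] {f : X → Y}
    (hf : IsSpectralMap f) : IsClosed[constructibleTopology Y] (range f) := by
  rw [← image_univ]
  exact isClosed_cons_image hf (@isClosed_univ X (constructibleTopology X))

theorem isCompact_fiber [SpectralSpace X] [T0Space Y] [PrespectralSpace Y] {f : X → Y}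
    (hf : IsSpectralMap f) (y : Y) : IsCompact (f ⁻¹' {y}) := by
  apply isCompact_of_isClosed_cons
  exact @IsClosed.preimage X Y (constructibleTopology X) (constructibleTopology Y) f
    (continuous_cons_of_isSpectralMap hf) _ (isClosed_cons_singleton y)

end Maps

end Groth.Agent.H4.Spec
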