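import Groth.Agent.H4.Spectral

/-!
# Helper library: more on spectral spaces (helper4)
-/

namespace Groth.Agent.H4.Spec

open Topology TopologicalSpace Set

variable {X : Type*} [tX : TopologicalSpace X]

/-- Two points of a spectral space have a common generalization or disjoint open neighbourhoods. -/
theorem exists_common_generalization_or_disjoint_nhds [SpectralSpace X] (x y : X) :
    (∃ z : X, z ⤳ x ∧ z ⤳ y) ∨
    (∃ U V : Set X, IsOpen U ∧ IsOpen V ∧ x ∈ U ∧ y ∈ V ∧ Disjoint U V) := by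
  classical
  by_cases h : ∃ U V : Set X, IsOpen U ∧ IsOpen V ∧ x ∈ U ∧ y ∈ V ∧ Disjoint U V
  · exact Or.inr h
  left
  have h' : ∀ U V : Set X, IsOpen U → IsOpen V → x ∈ U → y ∈ V → (U ∩ V).Nonempty := by
    intro U V hU hV hx hy
    by_contra hne
    exact h ⟨U, V, hU, hV, hx, hy, disjoint_iff_inter_eq_empty.mpr (not_nonempty_iff_eq_empty.mp hne)⟩
  let ι := {U : Set X // IsOpen U ∧ IsCompact U ∧ (x ∈ U ∨ y ∈ U)}
  have hne : ((univ : Set X) ∩ ⋂ i : ι, (i : Set X)).Nonempty := by
    refine @IsCompact.inter_iInter_nonempty X (constructibleTopology X) univ ι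
      (@isCompact_univ X (constructibleTopology X) compactSpace_cons) (fun i => (i : Set X))
      (fun i => isClosed_cons_of_isCompact_isOpen i.2.2.1 i.2.1) ?_
    intro u
    let A : Set X := ⋂ i ∈ u.filter (fun i : ι => x ∈ (i : Set X)), (i : Set X)
    let B : Set X := ⋂ i ∈ u.filter (fun i : ι => y ∈ (i : Set X)), (i : Set X)
    have hA : IsOpen A := isOpen_biInter_finset fun i _ => i.2.1
    have hB : IsOpen B := isOpen_biInter_finset fun i _ => i.2.1
    have hxA : x ∈ A := by
      simp only [A, mem_iInter, Finset.mem_filter]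
      exact fun i hi => hi.2
    have hyB : y ∈ B := by
      simp only [B, mem_iInter, Finset.mem_filter]
      exact fun i hi => hi.2
    obtain ⟨z, hzA, hzB⟩ := h' A B hA hB hxA hyB
    refine ⟨z, mem_univ _, ?_⟩
    simp only [mem_iInter]
    intro i hi
    rcases i.2.2.2 with hx | hy
    · have := mem_iInter₂.mp hzA i (Finset.mem_filter.mpr ⟨hi, hx⟩)
      exact this
    · have := mem_iInter₂.mp hzB i (Finset.mem_filter.mpr ⟨hi, hy⟩)
      exact this
  obtain ⟨z, -, hz⟩ := hne
  refine ⟨z, ?_, ?_⟩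
  · rw [specializes_iff_forall_open]
    intro V hV hxV
    obtain ⟨U, ⟨hUo, hUc⟩, hxU, hUV⟩ :=
      (PrespectralSpace.isTopologicalBasis (X := X)).exists_subset_of_mem_open hxV hV
    exact hUV (mem_iInter.mp hz ⟨U, hUo, hUc, Or.inl hxU⟩)
  · rw [specializes_iff_forall_open]
    intro V hV hyV
    obtain ⟨U, ⟨hUo, hUc⟩, hyU, hUV⟩ :=
      (PrespectralSpace.isTopologicalBasis (X := X)).exists_subset_of_mem_open hyV hV
    exact hUV (mem_iInter.mp hz ⟨U, hUo, hUc, Or.inr hyU⟩)

end Groth.Agent.H4.Spec
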