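import Groth.Agent.H4.Spectral2

/-!
# Helper library: constructibly closed subsets of spectral spaces are spectral (helper4)
-/

namespace Groth.Agent.H4.Spec

open Topology TopologicalSpace Set

variable {X : Type*} [tX : TopologicalSpace X]

theorem isClosed_cons_inter {s t : Set X} (hs : IsClosed[constructibleTopology X] s)
    (ht : IsClosed[constructibleTopology X] t) : IsClosed[constructibleTopology X] (s ∩ t) :=
  @IsClosed.inter X s t (constructibleTopology X) hs ht

theorem isClosed_cons_union {s t : Set X} (hs : IsClosed[constructibleTopology X] s)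
    (ht : IsClosed[constructibleTopology X] t) : IsClosed[constructibleTopology X] (s ∪ t) :=
  @IsClosed.union X s t (constructibleTopology X) hs ht

theorem isClosed_cons_iInter {ι : Sort*} {f : ι → Set X}
    (h : ∀ i, IsClosed[constructibleTopology X] (f i)) :
    IsClosed[constructibleTopology X] (⋂ i, f i) :=
  @isClosed_iInter X ι (constructibleTopology X) f h

theorem isClosed_cons_sInter {S : Set (Set X)}
    (h : ∀ t ∈ S, IsClosed[constructibleTopology X] t) :
    IsClosed[constructibleTopology X] (⋂₀ S) :=
  @isClosed_sInter X (constructibleTopology X) S h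

theorem isClosed_cons_compl_iff {s : Set X} :
    IsClosed[constructibleTopology X] sᶜ ↔ IsOpen[constructibleTopology X] s :=
  @isClosed_compl_iff X (constructibleTopology X) s

theorem isOpen_cons_compl_iff {s : Set X} :
    IsOpen[constructibleTopology X] sᶜ ↔ IsClosed[constructibleTopology X] s :=
  @isOpen_compl_iff X s (constructibleTopology X)

theorem isOpen_cons_inter {s t : Set X} (hs : IsOpen[constructibleTopology X] s)
    (ht : IsOpen[constructibleTopology X] t) : IsOpen[constructibleTopology X] (s ∩ t) :=
  @IsOpen.inter X (constructibleTopology X) s t hs ht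

theorem isOpen_cons_union {s t : Set X} (hs : IsOpen[constructibleTopology X] s)
    (ht : IsOpen[constructibleTopology X] t) : IsOpen[constructibleTopology X] (s ∪ t) :=
  @IsOpen.union X s t (constructibleTopology X) hs ht

theorem isOpen_cons_iUnion {ι : Sort*} {f : ι → Set X}
    (h : ∀ i, IsOpen[constructibleTopology X] (f i)) :
    IsOpen[constructibleTopology X] (⋃ i, f i) :=
  @isOpen_iUnion X ι (constructibleTopology X) f h

theorem isOpen_cons_of_isCompact_isOpen {s : Set X} (hc : IsCompact s) (ho : IsOpen s) :
    IsOpen[constructibleTopology X] s :=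
  hc.isOpen_constructibleTopology_of_isOpen ho

theorem isClosed_cons_preimage {Y : Type*} [TopologicalSpace Y] {f : X → Y} (hf : IsSpectralMap f)
    {s : Set Y} (hs : IsClosed[constructibleTopology Y] s) :
    IsClosed[constructibleTopology X] (f ⁻¹' s) :=
  @IsClosed.preimage X Y (constructibleTopology X) (constructibleTopology Y) f
    (continuous_cons_of_isSpectralMap hf) s hs

theorem isOpen_cons_preimage {Y : Type*} [TopologicalSpace Y] {f : X → Y} (hf : IsSpectralMap f)
    {s : Set Y} (hs : IsOpen[constructibleTopology Y] s) :
    IsOpen[constructibleTopology X] (f ⁻¹' s) :=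
  @IsOpen.preimage X Y (constructibleTopology X) (constructibleTopology Y) f
    (continuous_cons_of_isSpectralMap hf) s hs

theorem isCompact_preimage_val_of_isClosed_cons [SpectralSpace X] {E F : Set X}
    (hE : IsClosed[constructibleTopology X] E) (hF : IsClosed[constructibleTopology X] F) :
    IsCompact ((Subtype.val : E → X) ⁻¹' F) := by
  have h : (Subtype.val : E → X) ⁻¹' F = (Subtype.val : E → X) ⁻¹' (F ∩ E) := by
    ext x
    simp
  rw [h]
  apply IsInducing.subtypeVal.isCompact_preimage'
  · exact isCompact_of_isClosed_cons (isClosed_cons_inter hF hE)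
  · rw [Subtype.range_coe]
    exact inter_subset_right

theorem isSpectralMap_val_of_isClosed_cons [SpectralSpace X] {E : Set X}
    (hE : IsClosed[constructibleTopology X] E) : IsSpectralMap (Subtype.val : E → X) :=
  ⟨continuous_subtype_val, fun _ ho hc =>
    isCompact_preimage_val_of_isClosed_cons hE (isClosed_cons_of_isCompact_isOpen hc ho)⟩

theorem quasiSober_of_isClosed_cons [SpectralSpace X] {E : Set X}
    (hE : IsClosed[constructibleTopology X] E) : QuasiSober E := by
  refine ⟨fun {S} hS hScl => ?_⟩
  have hirr : IsIrreducible (closure ((Subtype.val : E → X) '' S)) :=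
    (hS.image _ continuous_subtype_val.continuousOn).closure
  obtain ⟨η, hη⟩ := QuasiSober.sober hirr isClosed_closure
  have himg : (Subtype.val : E → X) '' S = closure ((Subtype.val : E → X) '' S) ∩ E := by
    apply subset_antisymm
    · rintro _ ⟨s, hs, rfl⟩
      exact ⟨subset_closure ⟨s, hs, rfl⟩, s.2⟩
    · rintro x ⟨hx1, hx2⟩
      refine ⟨⟨x, hx2⟩, ?_, rfl⟩
      have : (⟨x, hx2⟩ : E) ∈ closure S := by
        rw [IsInducing.subtypeVal.closure_eq_preimage_closure_image]
        exact hx1
      rwa [hScl.closure_eq] at this
  have hcl : IsClosed[constructibleTopology X] ((Subtype.val : E → X) '' S) := by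
    rw [himg]
    exact isClosed_cons_inter (isClosed_cons_of_isClosed isClosed_closure) hE
  obtain ⟨e, he, heη⟩ := exists_specializes_of_mem_closure hcl hη.mem
  have hηe : η ⤳ e := hη.specializes (subset_closure he)
  have heq : e = η := (heη.antisymm hηe).eq
  obtain ⟨s, hs, hse⟩ := he
  refine ⟨s, ?_⟩
  rw [isGenericPoint_def]
  apply subset_antisymm
  · exact (closure_minimal (singleton_subset_iff.mpr hs) hScl)
  · intro t ht
    rw [IsInducing.subtypeVal.closure_eq_preimage_closure_image, image_singleton, hse, heq,
      mem_preimage, hη.def]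
    exact subset_closure ⟨t, ht, rfl⟩

/-- A constructibly closed subset of a spectral space is spectral. -/
theorem spectralSpace_of_isClosed_cons [SpectralSpace X] {E : Set X}
    (hE : IsClosed[constructibleTopology X] E) : SpectralSpace E := by
  have hval := isSpectralMap_val_of_isClosed_cons hE
  have hpre : PrespectralSpace E := PrespectralSpace.of_isInducing _ IsInducing.subtypeVal hval
  have hcomp : CompactSpace E := isCompact_iff_compactSpace.mp (isCompact_of_isClosed_cons hE)
  have hsob : QuasiSober E := quasiSober_of_isClosed_cons hE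
  have hqs : QuasiSeparatedSpace E := by
    let ι := {U : Set X // IsOpen U ∧ IsCompact U}
    let b : ι → Set E := fun U => (Subtype.val : E → X) ⁻¹' (U : Set X)
    have hb : IsTopologicalBasis (range b) := by
      have := (PrespectralSpace.isTopologicalBasis (X := X)).isInducing
        (IsInducing.subtypeVal (t := E))
      convert this using 1
      ext s
      constructor
      · rintro ⟨U, rfl⟩
        exact ⟨U.1, U.2, rfl⟩
      · rintro ⟨U, hU, rfl⟩
        exact ⟨⟨U, hU⟩, rfl⟩
    refine QuasiSeparatedSpace.of_isTopologicalBasis hb fun i j => ?_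
    have : b i ∩ b j = (Subtype.val : E → X) ⁻¹' ((i : Set X) ∩ (j : Set X)) := rfl
    rw [this]
    apply isCompact_preimage_val_of_isClosed_cons hE
    exact isClosed_cons_of_isCompact_isOpen
      (QuasiSeparatedSpace.inter_isCompact _ _ i.2.1 i.2.2 j.2.1 j.2.2) (i.2.1.inter j.2.1)
  exact { }

end Groth.Agent.H4.Spec
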