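import Groth.Agent.H4.Spectral3

/-!
# Helper library: constructible sets and directed intersections in spectral spaces (helper4)
-/

namespace Groth.Agent.H4.Spec

open Topology TopologicalSpace Set

variable {X : Type*} [tX : TopologicalSpace X]

/-- In a quasi-compact space constructible sets are clopen for the constructible topology. -/
theorem isClopen_cons_of_isConstructible [CompactSpace X] {s : Set X} (hs : IsConstructible s) :
    IsClosed[constructibleTopology X] s ∧ IsOpen[constructibleTopology X] s := by
  induction hs using IsConstructible.empty_union_induction with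
  | open_retrocompact U hUo hUc =>
    exact ⟨isClosed_cons_of_isCompact_isOpen hUc.isCompact hUo,
      isOpen_cons_of_isCompact_isOpen hUc.isCompact hUo⟩
  | union s hs t ht ihs iht =>
    exact ⟨isClosed_cons_union ihs.1 iht.1, isOpen_cons_union ihs.2 iht.2⟩
  | compl s hs ih =>
    exact ⟨isClosed_cons_compl_iff.mpr ih.2, isOpen_cons_compl_iff.mpr ih.1⟩

theorem isClosed_cons_of_isConstructible [CompactSpace X] {s : Set X} (hs : IsConstructible s) :
    IsClosed[constructibleTopology X] s := (isClopen_cons_of_isConstructible hs).1

theorem isOpen_cons_of_isConstructible [CompactSpace X] {s : Set X} (hs : IsConstructible s) :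
    IsOpen[constructibleTopology X] s := (isClopen_cons_of_isConstructible hs).2

omit tX in
/-- A directed family has, for each finite subfamily, a member below the intersection. -/
theorem exists_subset_biInter_of_directed {I : Type*} [Nonempty I] (U : I → Set X)
    (hdir : ∀ i j, ∃ k, U k ⊆ U i ∩ U j) (u : Finset I) : ∃ k, U k ⊆ ⋂ i ∈ u, U i := by
  classical
  induction u using Finset.induction_on with
  | empty => exact ⟨Classical.arbitrary I, by simp⟩
  | insert a u _ ih =>
    obtain ⟨k, hk⟩ := ih
    obtain ⟨k', hk'⟩ := hdir a k
    refine ⟨k', ?_⟩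
    intro x hx
    simp only [Finset.mem_insert, mem_iInter]
    rintro i (rfl | hi)
    · exact (hk' hx).1
    · exact mem_iInter₂.mp (hk (hk' hx).2) i hi

/-- In a spectral space, an open neighbourhood of a directed intersection of constructibly closed
sets contains one of them. -/
theorem exists_subset_open_of_directed_iInter [SpectralSpace X] {I : Type*} [Nonempty I]
    (U : I → Set X) (hU : ∀ i, IsClosed[constructibleTopology X] (U i))
    (hdir : ∀ i j, ∃ k, U k ⊆ U i ∩ U j) (V : Set X)
    (hV : IsOpen[constructibleTopology X] V) (hsub : (⋂ i, U i) ⊆ V) : ∃ i, U i ⊆ V := by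
  by_contra hcon
  simp only [not_exists] at hcon
  have hne : (Vᶜ ∩ ⋂ i, U i).Nonempty := by
    refine @IsCompact.inter_iInter_nonempty X (constructibleTopology X) Vᶜ I
      (isCompact_cons_of_isClosed_cons (isClosed_cons_compl_iff.mpr hV)) U hU ?_
    intro u
    obtain ⟨k, hk⟩ := exists_subset_biInter_of_directed U hdir u
    obtain ⟨x, hxU, hxV⟩ := not_subset.mp (hcon k)
    exact ⟨x, hxV, hk hxU⟩
  obtain ⟨x, hxV, hxU⟩ := hne
  exact hxV (hsub hxU)

end Groth.Agent.H4.Spec
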