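import Groth.Agent.H4.Spectral4

/-!
# Helper library: generalizations of a compact set in a spectral space (helper4)
-/

namespace Groth.Agent.H4.Spec

open Topology TopologicalSpace Set

variable {X : Type*} [tX : TopologicalSpace X]

/-- The set of generalizations of a quasi-compact subset of a prespectral space is the intersection of
the quasi-compact opens containing it. -/
theorem generalizations_eq_sInter [PrespectralSpace X] {E : Set X} (hE : IsCompact E) :
    {x | ∃ e ∈ E, x ⤳ e} = ⋂₀ {U | IsOpen U ∧ IsCompact U ∧ E ⊆ U} := by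
  ext x
  simp only [Set.mem_ofPred_eq, Set.mem_sInter]
  constructor
  · rintro ⟨e, he, hxe⟩ U ⟨hUo, -, hEU⟩
    exact hUo.stableUnderGeneralization hxe (hEU he)
  · intro hx
    by_contra hcon
    simp only [not_exists, not_and] at hcon
    have hcov : ∀ e ∈ E, ∃ U : Set X, (IsOpen U ∧ IsCompact U) ∧ e ∈ U ∧ x ∉ U := by
      intro e he
      have := hcon e he
      rw [specializes_iff_forall_open] at this
      simp only [not_forall] at this
      obtain ⟨V, hV, heV, hxV⟩ := this
      obtain ⟨U, hU, heU, hUV⟩ :=
        (PrespectralSpace.isTopologicalBasis (X := X)).exists_subset_of_mem_open heV hV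
      exact ⟨U, hU, heU, fun h => hxV (hUV h)⟩
    choose! U hU heU hxU using hcov
    obtain ⟨t, htE, htfin, hcov'⟩ := hE.elim_finite_subcover_image (b := E) (c := U)
      (fun e he => (hU e he).1) (fun e he => Set.mem_biUnion he (heU e he))
    have hmem := hx (⋃ e ∈ t, U e) ⟨isOpen_biUnion fun e he => (hU e (htE he)).1,
      htfin.isCompact_biUnion fun e he => (hU e (htE he)).2, hcov'⟩
    simp only [Set.mem_iUnion] at hmem
    obtain ⟨e, he, hxe⟩ := hmem
    exact hxU e (htE he) hxe

theorem isClosed_cons_generalizations [PrespectralSpace X] {E : Set X} (hE : IsCompact E) :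
    IsClosed[constructibleTopology X] {x | ∃ e ∈ E, x ⤳ e} := by
  rw [generalizations_eq_sInter hE]
  exact isClosed_cons_sInter fun U hU => isClosed_cons_of_isCompact_isOpen hU.2.1 hU.1

end Groth.Agent.H4.Spec
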