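import Groth.Agent.H4.Spectral5

/-!
# Helper library: limits of spectral spaces (helper4)
-/

namespace Groth.Agent.H4.Spec

open CategoryTheory CategoryTheory.Limits Topology TopologicalSpace Set

universe u

section WithCons

variable {X Y : Type*} [TopologicalSpace X] [TopologicalSpace Y]

theorem t2Space_withCons [T0Space X] [PrespectralSpace X] :
    T2Space (WithConstructibleTopology X) :=
  @T2Space.of_injective_continuous (WithConstructibleTopology X) X _ (constructibleTopology X)
    t2Space_cons _ (WithTopology.ofTopology_injective _) (WithTopology.continuous_ofTopology _)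

theorem continuous_withCons_map {f : X → Y} (hf : IsSpectralMap f) :
    Continuous (fun w : WithConstructibleTopology X =>
      (WithTopology.toTopology (constructibleTopology Y) (f w.ofTopology))) := by
  rw [continuous_def]
  intro s hs
  have h1 : IsOpen[constructibleTopology Y] (WithTopology.toTopology (constructibleTopology Y) ⁻¹' s) :=
    hs
  have h2 := isOpen_cons_preimage hf h1
  exact h2

theorem continuous_ofTopology_withCons [PrespectralSpace X] :
    Continuous (WithTopology.ofTopology : WithConstructibleTopology X → X) := by
  rw [continuous_def]
  intro s hs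
  have : IsOpen[constructibleTopology X] s := isOpen_cons_of_isOpen hs
  exact this

theorem isClosed_withCons_preimage_ofTopology {Z : Set X}
    (hZ : IsClosed[constructibleTopology X] Z) :
    IsClosed ((WithTopology.ofTopology : WithConstructibleTopology X → X) ⁻¹' Z) := by
  rw [WithConstructibleTopology.isClosed_iff]
  exact hZ

end WithCons

section Lim

variable {J : Type u} [SmallCategory J] {F : J ⥤ TopCat.{u}} (c : Cone F) (hc : IsLimit c)

/-- Points of a limit cone in `TopCat` correspond to compatible families. -/
noncomputable def secEquiv : c.pt ≃ (F ⋙ forget TopCat).sections :=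
  Types.isLimitEquivSections (isLimitOfPreserves (forget TopCat) hc)

theorem secEquiv_symm_apply (s : (F ⋙ forget TopCat).sections) (j : J) :
    c.π.app j ((secEquiv c hc).symm s) = s.1 j :=
  Types.isLimitEquivSections_symm_apply (isLimitOfPreserves (forget TopCat) hc) s j

theorem secEquiv_apply (x : c.pt) (j : J) : ((secEquiv c hc) x).1 j = c.π.app j x := rfl

include hc in
theorem cone_ext {x y : c.pt} (h : ∀ j, c.π.app j x = c.π.app j y) : x = y := by
  apply (secEquiv c hc).injective
  apply Subtype.ext
  funext j
  exact h j

theorem cone_w_apply {i j : J} (a : i ⟶ j) (x : c.pt) :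
    F.map a (c.π.app i x) = c.π.app j x := by
  have := c.w a
  rw [← this]
  rfl

end Lim

end Groth.Agent.H4.Spec
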