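import Groth.Agent.H4.SpectralLim

/-!
# Helper library: compactness in limits of spectral spaces (helper4)
-/

namespace Groth.Agent.H4.Spec

open CategoryTheory CategoryTheory.Limits Topology TopologicalSpace Set

universe u

variable {J : Type u} [SmallCategory J] {F : J ⥤ TopCat.{u}} (c : Cone F) (hc : IsLimit c)

include hc in
/-- Stacks 0A2W: in a limit of spectral spaces with spectral transition maps, a subset cut out by
constructibly closed conditions on the coordinates is quasi-compact. -/
theorem isCompact_setOf_forall_mem (hF : ∀ j, SpectralSpace (F.obj j))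
    (hFm : ∀ {i j : J} (a : i ⟶ j), IsSpectralMap (F.map a : F.obj i → F.obj j))
    {ι : Type*} (jj : ι → J) (Zs : ∀ t, Set (F.obj (jj t)))
    (hZ : ∀ t, IsClosed[constructibleTopology (F.obj (jj t))] (Zs t)) :
    IsCompact {x : c.pt | ∀ t, c.π.app (jj t) x ∈ Zs t} := by
  have hT2 : ∀ j, T2Space (WithConstructibleTopology (F.obj j)) := fun j => t2Space_withCons
  let P := ∀ j, WithConstructibleTopology (F.obj j)
  let K : Set P := {u | (∀ (i j : J) (a : i ⟶ j),
      WithTopology.toTopology (constructibleTopology (F.obj j)) (F.map a (u i).ofTopology) = u j) ∧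
    ∀ t, (u (jj t)).ofTopology ∈ Zs t}
  have hKcl : IsClosed K := by
    have h1 : IsClosed {u : P | ∀ (i j : J) (a : i ⟶ j),
        WithTopology.toTopology (constructibleTopology (F.obj j)) (F.map a (u i).ofTopology) = u j} := by
      simp only [ofPred_forall]
      refine isClosed_iInter fun i => isClosed_iInter fun j => isClosed_iInter fun a => ?_
      exact isClosed_eq ((continuous_withCons_map (hFm a)).comp (continuous_apply i))
        (continuous_apply j)
    have h2 : IsClosed {u : P | ∀ t, (u (jj t)).ofTopology ∈ Zs t} := by
      simp only [ofPred_forall]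
      refine isClosed_iInter fun t => ?_
      have h3 := isClosed_withCons_preimage_ofTopology (hZ t)
      exact IsClosed.preimage (continuous_apply (A := fun j => WithConstructibleTopology (F.obj j))
        (jj t)) h3
    exact h1.inter h2
  have hKc : CompactSpace K := isCompact_iff_compactSpace.mp hKcl.isCompact
  let Ψ : K → c.pt := fun u => (secEquiv c hc).symm ⟨fun j => (u.1 j).ofTopology, by
    intro i j a
    have := u.2.1 i j a
    exact congrArg WithTopology.ofTopology this⟩
  have hΨ : ∀ (u : K) (j : J), c.π.app j (Ψ u) = (u.1 j).ofTopology := fun u j =>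
    secEquiv_symm_apply c hc _ j
  have hΨc : Continuous Ψ := by
    have htop := TopCat.induced_of_isLimit c hc
    have : Continuous[_, c.pt.str] Ψ := by
      rw [htop]
      refine continuous_iInf_rng.2 fun j => continuous_induced_rng.2 ?_
      have : (c.π.app j : c.pt → F.obj j) ∘ Ψ = fun u : K => (u.1 j).ofTopology := by
        funext u
        exact hΨ u j
      rw [this]
      exact continuous_ofTopology_withCons.comp ((continuous_apply j).comp continuous_subtype_val)
    exact this
  have hrange : {x : c.pt | ∀ t, c.π.app (jj t) x ∈ Zs t} = range Ψ := by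
    apply subset_antisymm
    · intro x hx
      refine ⟨⟨fun j => WithTopology.toTopology _ (c.π.app j x), ?_, ?_⟩, ?_⟩
      · intro i j a
        exact congrArg (WithTopology.toTopology _) (cone_w_apply c a x)
      · intro t
        exact hx t
      · apply cone_ext c hc
        intro j
        rw [hΨ]
    · rintro _ ⟨u, rfl⟩ t
      rw [hΨ]
      exact u.2.2 t
  rw [hrange]
  exact isCompact_range hΨc

end Groth.Agent.H4.Spec
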