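import Groth.Agent.H4.SpectralLim2

/-!
# Helper library: cofiltered limits of spectral spaces are spectral (helper4)
-/

namespace Groth.Agent.H4.Spec

open CategoryTheory CategoryTheory.Limits Topology TopologicalSpace Set

universe u

variable {J : Type u} [SmallCategory J] {F : J ⥤ TopCat.{u}} (c : Cone F) (hc : IsLimit c)

theorem continuous_proj (j : J) : Continuous (c.π.app j : c.pt → F.obj j) :=
  (c.π.app j).hom.continuous

theorem continuous_map {i j : J} (a : i ⟶ j) : Continuous (F.map a : F.obj i → F.obj j) :=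
  (F.map a).hom.continuous

include hc in
theorem t0Space_lim (hF : ∀ j, T0Space (F.obj j)) : T0Space c.pt := by
  rw [t0Space_iff_inseparable]
  intro x y hxy
  apply cone_ext c hc
  intro j
  exact (hxy.map (continuous_proj c j)).eq

include hc in
/-- Basis of a cofiltered limit given by preimages of opens. -/
theorem isTopologicalBasis_lim_opens [IsCofiltered J] :
    IsTopologicalBasis {U : Set c.pt | ∃ (j : J) (V : Set (F.obj j)), IsOpen V ∧
      U = c.π.app j ⁻¹' V} := by
  have := TopCat.isTopologicalBasis_cofiltered_limit F c hc (fun j => {V | IsOpen V})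
    (fun j => isTopologicalBasis_opens) (fun i => isOpen_univ)
    (fun i U1 U2 h1 h2 => h1.inter h2)
    (fun i j f V hV => hV.preimage (continuous_map f))
  exact this

include hc in
/-- Basis of a cofiltered limit of spectral spaces given by preimages of quasi-compact opens. -/
theorem isTopologicalBasis_lim_qc [IsCofiltered J] (hF : ∀ j, SpectralSpace (F.obj j))
    (hFm : ∀ {i j : J} (a : i ⟶ j), IsSpectralMap (F.map a : F.obj i → F.obj j)) :
    IsTopologicalBasis {U : Set c.pt | ∃ (j : J) (V : Set (F.obj j)), (IsOpen V ∧ IsCompact V) ∧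
      U = c.π.app j ⁻¹' V} := by
  have := TopCat.isTopologicalBasis_cofiltered_limit F c hc (fun j => {V | IsOpen V ∧ IsCompact V})
    (fun j => PrespectralSpace.isTopologicalBasis) (fun i => ⟨isOpen_univ, isCompact_univ⟩)
    (fun i U1 U2 h1 h2 => ⟨h1.1.inter h2.1,
      QuasiSeparatedSpace.inter_isCompact U1 U2 h1.1 h1.2 h2.1 h2.2⟩)
    (fun i j f V hV => ⟨hV.1.preimage (continuous_map f),
      (hFm f).isCompact_preimage_of_isOpen hV.1 hV.2⟩)
  exact this

include hc in
theorem quasiSober_lim [IsCofiltered J] (hF : ∀ j, QuasiSober (F.obj j))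
    (hF0 : ∀ j, T0Space (F.obj j)) : QuasiSober c.pt := by
  refine ⟨fun {Z} hZ hZcl => ?_⟩
  have hirr : ∀ j, IsIrreducible (closure ((c.π.app j : c.pt → F.obj j) '' Z)) := fun j =>
    (hZ.image _ (continuous_proj c j).continuousOn).closure
  choose ξ hξ using fun j => QuasiSober.sober (hirr j) isClosed_closure
  have hcompat : ∀ {i j : J} (a : i ⟶ j), (F.map a : F.obj i → F.obj j) (ξ i) = ξ j := by
    intro i j a
    have h1 : IsGenericPoint ((F.map a : F.obj i → F.obj j) (ξ i))
        (closure ((F.map a : F.obj i → F.obj j) '' closure ((c.π.app i : c.pt → F.obj i) '' Z))) :=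
      (hξ i).image (continuous_map a)
    have h2 : closure ((F.map a : F.obj i → F.obj j) '' closure ((c.π.app i : c.pt → F.obj i) '' Z))
        = closure ((c.π.app j : c.pt → F.obj j) '' Z) := by
      apply subset_antisymm
      · apply closure_minimal _ isClosed_closure
        refine (image_closure_subset_closure_image (continuous_map a)).trans ?_
        apply closure_mono
        rintro _ ⟨_, ⟨z, hz, rfl⟩, rfl⟩
        exact ⟨z, hz, (cone_w_apply c a z).symm⟩
      · apply closure_mono
        rintro _ ⟨z, hz, rfl⟩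
        exact ⟨c.π.app i z, subset_closure ⟨z, hz, rfl⟩, cone_w_apply c a z⟩
    rw [h2] at h1
    exact h1.eq (hξ j)
  let ξ' : c.pt := (secEquiv c hc).symm ⟨ξ, fun a => hcompat a⟩
  have hξ' : ∀ j, c.π.app j ξ' = ξ j := fun j => secEquiv_symm_apply c hc _ j
  have basis := isTopologicalBasis_lim_opens c hc
  have hmem : ξ' ∈ Z := by
    by_contra hcon
    obtain ⟨U, ⟨j, V, hV, rfl⟩, hξU, hUZ⟩ :=
      basis.exists_subset_of_mem_open (show ξ' ∈ Zᶜ from hcon) hZcl.isOpen_compl
    have h1 : ξ j ∈ V := by
      rw [← hξ' j]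
      exact hξU
    obtain ⟨_, hyV, ⟨z, hz, rfl⟩⟩ := mem_closure_iff.mp (hξ j).mem V hV h1
    exact hUZ hyV hz
  refine ⟨ξ', ?_⟩
  rw [isGenericPoint_def]
  apply subset_antisymm (closure_minimal (singleton_subset_iff.2 hmem) hZcl)
  intro z hz
  rw [← specializes_iff_mem_closure, specializes_iff_forall_open]
  intro s hs hzs
  obtain ⟨U, ⟨j, V, hV, rfl⟩, hzU, hUs⟩ := basis.exists_subset_of_mem_open hzs hs
  apply hUs
  show c.π.app j ξ' ∈ V
  rw [hξ' j]
  exact ((hξ j).mem_open_set_iff hV).mpr ⟨c.π.app j z, subset_closure ⟨z, hz, rfl⟩, hzU⟩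

include hc in
theorem isCompact_proj_preimage (hF : ∀ j, SpectralSpace (F.obj j))
    (hFm : ∀ {i j : J} (a : i ⟶ j), IsSpectralMap (F.map a : F.obj i → F.obj j))
    (j : J) {Z : Set (F.obj j)} (hZ : IsClosed[constructibleTopology (F.obj j)] Z) :
    IsCompact ((c.π.app j : c.pt → F.obj j) ⁻¹' Z) := by
  have := isCompact_setOf_forall_mem c hc hF hFm (fun _ : Unit => j) (fun _ => Z) (fun _ => hZ)
  have heq : (c.π.app j : c.pt → F.obj j) ⁻¹' Z =
      {x : c.pt | ∀ _ : Unit, c.π.app j x ∈ Z} := by
    ext x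
    simp
  rw [heq]
  exact this

include hc in
theorem isCompact_proj_preimage_inter (hF : ∀ j, SpectralSpace (F.obj j))
    (hFm : ∀ {i j : J} (a : i ⟶ j), IsSpectralMap (F.map a : F.obj i → F.obj j))
    (i j : J) {Z : Set (F.obj i)} {Z' : Set (F.obj j)}
    (hZ : IsClosed[constructibleTopology (F.obj i)] Z)
    (hZ' : IsClosed[constructibleTopology (F.obj j)] Z') :
    IsCompact ((c.π.app i : c.pt → F.obj i) ⁻¹' Z ∩ (c.π.app j : c.pt → F.obj j) ⁻¹' Z') := by
  have := isCompact_setOf_forall_mem c hc hF hFm (fun b : Bool => bif b then i else j)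
    (fun b => match b with
      | true => Z
      | false => Z')
    (fun b => match b with
      | true => hZ
      | false => hZ')
  have heq : (c.π.app i : c.pt → F.obj i) ⁻¹' Z ∩ (c.π.app j : c.pt → F.obj j) ⁻¹' Z' =
      {x : c.pt | ∀ b : Bool, c.π.app (bif b then i else j) x ∈
        (match b with
          | true => Z
          | false => Z' : Set (F.obj (bif b then i else j)))} := by
    ext x
    simp only [mem_inter_iff, mem_preimage, Bool.forall_bool]
    exact and_comm
  rw [heq]
  exact this

include hc in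
/-- Stacks 0A2Z: a cofiltered limit of spectral spaces with spectral transition maps is spectral. -/
theorem spectralSpace_lim [IsCofiltered J] (hF : ∀ j, SpectralSpace (F.obj j))
    (hFm : ∀ {i j : J} (a : i ⟶ j), IsSpectralMap (F.map a : F.obj i → F.obj j)) :
    SpectralSpace c.pt := by
  have h0 : T0Space c.pt := t0Space_lim c hc fun j => inferInstance
  have hsob : QuasiSober c.pt := quasiSober_lim c hc (fun j => inferInstance) (fun j => inferInstance)
  have hcomp : CompactSpace c.pt := by
    have := isCompact_setOf_forall_mem c hc hF hFm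
      (fun t : PEmpty.{1} => t.elim) (fun t => t.elim) (fun t => t.elim)
    rw [← isCompact_univ_iff]
    convert this using 1
    ext x
    simp
  let ι := Σ j : J, {V : Set (F.obj j) // IsOpen V ∧ IsCompact V}
  let b : ι → Set c.pt := fun p => (c.π.app p.1 : c.pt → F.obj p.1) ⁻¹' (p.2 : Set (F.obj p.1))
  have hb : IsTopologicalBasis (range b) := by
    have := isTopologicalBasis_lim_qc c hc hF hFm
    convert this using 1
    ext s
    constructor
    · rintro ⟨⟨j, V⟩, rfl⟩
      exact ⟨j, V.1, V.2, rfl⟩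
    · rintro ⟨j, V, hV, rfl⟩
      exact ⟨⟨j, ⟨V, hV⟩⟩, rfl⟩
  have hbc : ∀ p, IsCompact (b p) := fun p =>
    isCompact_proj_preimage c hc hF hFm p.1 (isClosed_cons_of_isCompact_isOpen p.2.2.2 p.2.2.1)
  have hpre : PrespectralSpace c.pt := PrespectralSpace.of_isTopologicalBasis' hb hbc
  have hqs : QuasiSeparatedSpace c.pt :=
    QuasiSeparatedSpace.of_isTopologicalBasis hb fun p q =>
      isCompact_proj_preimage_inter c hc hF hFm p.1 q.1
        (isClosed_cons_of_isCompact_isOpen p.2.2.2 p.2.2.1)
        (isClosed_cons_of_isCompact_isOpen q.2.2.2 q.2.2.1)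
  exact { }

include hc in
theorem isSpectralMap_proj (hF : ∀ j, SpectralSpace (F.obj j))
    (hFm : ∀ {i j : J} (a : i ⟶ j), IsSpectralMap (F.map a : F.obj i → F.obj j)) (j : J) :
    IsSpectralMap (c.π.app j : c.pt → F.obj j) :=
  ⟨continuous_proj c j, fun _ ho hc' =>
    isCompact_proj_preimage c hc hF hFm j (isClosed_cons_of_isCompact_isOpen hc' ho)⟩

end Groth.Agent.H4.Spec
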