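import Groth.Agent.H4.SpectralLim3
import Mathlib.Topology.Category.TopCat.Limits.Konig

/-!
# Helper library: nonemptiness of cofiltered limits of spectral spaces (helper4)
-/

namespace Groth.Agent.H4.Spec

open CategoryTheory CategoryTheory.Limits Topology TopologicalSpace Set

universe u

variable {J : Type u} [SmallCategory J] {F : J ⥤ TopCat.{u}} (c : Cone F) (hc : IsLimit c)

section

variable (hF : ∀ j, SpectralSpace (F.obj j))
  (hFm : ∀ {i j : J} (a : i ⟶ j), IsSpectralMap (F.map a : F.obj i → F.obj j))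
  (Z : ∀ j, Set (F.obj j))
  (hmap : ∀ {i j : J} (a : i ⟶ j), Set.MapsTo (F.map a) (Z i) (Z j))

/-- The auxiliary diagram of the sets `Z j` with their constructible topologies. -/
noncomputable def consDiagram
    (hFm : ∀ {i j : J} (a : i ⟶ j), IsSpectralMap (F.map a : F.obj i → F.obj j))
    (Z : ∀ j, Set (F.obj j))
    (hmap : ∀ {i j : J} (a : i ⟶ j), Set.MapsTo (F.map a) (Z i) (Z j)) : J ⥤ TopCat.{u} where
  obj j := TopCat.of {w : WithConstructibleTopology (F.obj j) // w.ofTopology ∈ Z j}
  map {i j} a := TopCat.ofHom ⟨fun w => ⟨WithTopology.toTopology (constructibleTopology (F.obj j))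
      (F.map a w.1.ofTopology), hmap a w.2⟩,
    ((continuous_withCons_map (hFm a)).comp continuous_subtype_val).subtype_mk _⟩
  map_id j := by
    ext w
    change (F.map (𝟙 j) w.1.ofTopology) = w.1.ofTopology
    rw [F.map_id]
    rfl
  map_comp a b := by
    ext w
    change (F.map (a ≫ b) w.1.ofTopology) = (F.map b (F.map a w.1.ofTopology))
    rw [F.map_comp]
    rfl

end

include hc in
theorem exists_forall_mem_of_isClosed_cons [IsCofiltered J] (hF : ∀ j, SpectralSpace (F.obj j))
    (hFm : ∀ {i j : J} (a : i ⟶ j), IsSpectralMap (F.map a : F.obj i → F.obj j))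
    (Z : ∀ j, Set (F.obj j)) (hne : ∀ j, (Z j).Nonempty)
    (hcl : ∀ j, IsClosed[constructibleTopology (F.obj j)] (Z j))
    (hmap : ∀ {i j : J} (a : i ⟶ j), Set.MapsTo (F.map a) (Z i) (Z j)) :
    ∃ x : c.pt, ∀ j, c.π.app j x ∈ Z j := by
  let G := consDiagram hFm Z hmap
  have hne' : ∀ j, Nonempty (G.obj j) := fun j => by
    obtain ⟨z, hz⟩ := hne j
    exact ⟨⟨WithTopology.toTopology _ z, hz⟩⟩
  have hT2 : ∀ j, T2Space (G.obj j) := fun j => by
    have : T2Space (WithConstructibleTopology (F.obj j)) := t2Space_withCons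
    change T2Space {w : WithConstructibleTopology (F.obj j) // w.ofTopology ∈ Z j}
    infer_instance
  have hcpt : ∀ j, CompactSpace (G.obj j) := fun j => by
    change CompactSpace {w : WithConstructibleTopology (F.obj j) // w.ofTopology ∈ Z j}
    have h1 : IsClosed {w : WithConstructibleTopology (F.obj j) | w.ofTopology ∈ Z j} :=
      isClosed_withCons_preimage_ofTopology (hcl j)
    exact isCompact_iff_compactSpace.mp h1.isCompact
  obtain ⟨u⟩ := TopCat.nonempty_limitCone_of_compact_t2_cofiltered_system.{u, u} G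
  refine ⟨(secEquiv c hc).symm ⟨fun j => (u.1 j).1.ofTopology, ?_⟩, ?_⟩
  · intro i j a
    have := u.2 a
    exact congrArg (fun w : G.obj j => w.1.ofTopology) this
  · intro j
    rw [secEquiv_symm_apply]
    exact (u.1 j).2

end Groth.Agent.H4.Spec
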