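import Groth.Agent.H4.SpectralLim4
import Mathlib.CategoryTheory.Filtered.Final

/-!
# Helper library: descending inclusions in cofiltered limits of spectral spaces (helper4)
-/

namespace Groth.Agent.H4.Spec

open CategoryTheory CategoryTheory.Limits Topology TopologicalSpace Set

universe u

variable {J : Type u} [SmallCategory J] {F : J ⥤ TopCat.{u}} (c : Cone F) (hc : IsLimit c)

include hc in
theorem preimage_subset_preimage_iff_exists_hom [IsCofiltered J]
    (hF : ∀ j, SpectralSpace (F.obj j))
    (hFm : ∀ {i j : J} (a : i ⟶ j), IsSpectralMap (F.map a : F.obj i → F.obj j))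
    (i : J) (E F' : Set (F.obj i)) (hE : IsClosed[constructibleTopology (F.obj i)] E)
    (hF' : IsOpen[constructibleTopology (F.obj i)] F') :
    (c.π.app i ⁻¹' E ⊆ c.π.app i ⁻¹' F') ↔
      ∃ (j : J) (a : j ⟶ i), F.map a ⁻¹' E ⊆ F.map a ⁻¹' F' := by
  constructor
  · intro h
    by_contra hcon
    push_neg at hcon
    let G : Over i ⥤ TopCat.{u} := Over.forget i ⋙ F
    let Z : ∀ o : Over i, Set (G.obj o) := fun o => F.map o.hom ⁻¹' (E ∩ F'ᶜ)
    have hZne : ∀ o, (Z o).Nonempty := by
      intro o
      have := hcon o.left o.hom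
      rw [Set.not_subset] at this
      obtain ⟨y, hy1, hy2⟩ := this
      exact ⟨y, hy1, hy2⟩
    have hZcl : ∀ o, IsClosed[constructibleTopology (G.obj o)] (Z o) := by
      intro o
      exact isClosed_cons_preimage (hFm o.hom)
        (isClosed_cons_inter hE (isClosed_cons_compl_iff.2 hF'))
    have hZmap : ∀ {o o' : Over i} (g : o ⟶ o'), Set.MapsTo (G.map g) (Z o) (Z o') := by
      intro o o' g y hy
      change F.map o'.hom (F.map g.left y) ∈ E ∩ F'ᶜ
      have h1 : F.map g.left ≫ F.map o'.hom = F.map o.hom := by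
        rw [← F.map_comp, Over.w]
      have h2 : F.map o'.hom (F.map g.left y) = F.map o.hom y := by
        rw [← h1]; rfl
      rw [h2]
      exact hy
    obtain ⟨x, hx⟩ := exists_forall_mem_of_isClosed_cons (F := G) (c.whisker (Over.forget i))
      ((Functor.Initial.isLimitWhiskerEquiv (Over.forget i) c).symm hc)
      (fun o => hF o.left) (fun g => hFm g.left) Z hZne hZcl hZmap
    have hx1 := hx (Over.mk (𝟙 i))
    have hx2 : c.π.app i x ∈ E ∩ F'ᶜ := by
      have : F.map (𝟙 i) (c.π.app i x) ∈ E ∩ F'ᶜ := hx1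
      rwa [F.map_id] at this
    exact hx2.2 (h hx2.1)
  · rintro ⟨j, a, h⟩ x hx
    have h1 : F.map a (c.π.app j x) = c.π.app i x := cone_w_apply c a x
    have h2 : c.π.app j x ∈ F.map a ⁻¹' E := by
      change F.map a (c.π.app j x) ∈ E
      rw [h1]; exact hx
    have h3 := h h2
    change F.map a (c.π.app j x) ∈ F' at h3
    rw [h1] at h3
    exact h3

end Groth.Agent.H4.Spec
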