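import Groth.Agent.H4.SpectralLim5

/-!
# Helper library: descending quasi-compact opens in cofiltered limits (helper4)
-/

namespace Groth.Agent.H4.Spec

open CategoryTheory CategoryTheory.Limits Topology TopologicalSpace Set

universe u

variable {J : Type u} [SmallCategory J] {F : J ⥤ TopCat.{u}} (c : Cone F) (hc : IsLimit c)

theorem proj_preimage_map_preimage {i j : J} (a : i ⟶ j) (V : Set (F.obj j)) :
    (c.π.app i : c.pt → F.obj i) ⁻¹' ((F.map a : F.obj i → F.obj j) ⁻¹' V) =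
      (c.π.app j : c.pt → F.obj j) ⁻¹' V := by
  ext x
  change F.map a (c.π.app i x) ∈ V ↔ _
  rw [cone_w_apply]
  rfl

/-- A finite union of "basic" subsets of the limit is basic. -/
theorem exists_preimage_eq_sUnion_of_finite [IsCofiltered J] (T : ∀ j, Set (Set (F.obj j)))
    (hT0 : ∀ j, ∅ ∈ T j) (hTu : ∀ j (U V : Set (F.obj j)), U ∈ T j → V ∈ T j → U ∪ V ∈ T j)
    (hTm : ∀ {i j : J} (a : i ⟶ j) (V : Set (F.obj j)), V ∈ T j →
      (F.map a : F.obj i → F.obj j) ⁻¹' V ∈ T i)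
    (S : Set (Set c.pt)) (hSfin : S.Finite)
    (hS : ∀ U ∈ S, ∃ (j : J) (V : Set (F.obj j)), V ∈ T j ∧ U = c.π.app j ⁻¹' V) :
    ∃ (i : J) (Ui : Set (F.obj i)), Ui ∈ T i ∧ c.π.app i ⁻¹' Ui = ⋃₀ S := by
  induction S, hSfin using Set.Finite.induction_on with
  | empty =>
    obtain ⟨i⟩ := IsCofiltered.nonempty (C := J)
    exact ⟨i, ∅, hT0 i, by simp⟩
  | @insert U S _ _ ih =>
    obtain ⟨i, Ui, hUi, hi⟩ := ih (fun U' hU' => hS U' (Set.mem_insert_of_mem _ hU'))
    obtain ⟨j, V, hV, rfl⟩ := hS U (Set.mem_insert _ _)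
    refine ⟨IsCofiltered.min i j, (F.map (IsCofiltered.minToLeft i j)) ⁻¹' Ui ∪
      (F.map (IsCofiltered.minToRight i j)) ⁻¹' V, hTu _ _ _ (hTm _ _ hUi) (hTm _ _ hV), ?_⟩
    rw [Set.sUnion_insert, Set.preimage_union, proj_preimage_map_preimage,
      proj_preimage_map_preimage, hi, Set.union_comm]

include hc in
/-- Quasi-compact opens of the limit descend to a finite level, relative to a basis stable under
finite unions and pullbacks. -/
theorem exists_preimage_eq_of_isCompact_isOpen [IsCofiltered J] (T : ∀ j, Set (Set (F.obj j)))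
    (hT0 : ∀ j, ∅ ∈ T j) (hTu : ∀ j (U V : Set (F.obj j)), U ∈ T j → V ∈ T j → U ∪ V ∈ T j)
    (hTm : ∀ {i j : J} (a : i ⟶ j) (V : Set (F.obj j)), V ∈ T j →
      (F.map a : F.obj i → F.obj j) ⁻¹' V ∈ T i)
    (hTb : IsTopologicalBasis {U : Set c.pt | ∃ (j : J) (V : Set (F.obj j)), V ∈ T j ∧
      U = c.π.app j ⁻¹' V})
    (U : Set c.pt) (hUo : IsOpen U) (hUc : IsCompact U) :
    ∃ (i : J) (Ui : Set (F.obj i)), Ui ∈ T i ∧ c.π.app i ⁻¹' Ui = U := by
  obtain ⟨S, hSsub, rfl⟩ := hTb.open_eq_sUnion hUo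
  obtain ⟨t, ht⟩ := hUc.elim_finite_subcover (fun s : S => (s : Set c.pt))
    (fun s => hTb.isOpen (hSsub s.2)) (by rw [Set.sUnion_eq_iUnion])
  let S' : Set (Set c.pt) := (fun s : S => (s : Set c.pt)) '' (t : Set S)
  have hS'fin : S'.Finite := (Finset.finite_toSet t).image _
  have hS'sub : S' ⊆ S := by
    rintro _ ⟨s, -, rfl⟩
    exact s.2
  obtain ⟨i, Ui, hUi, hi⟩ := exists_preimage_eq_sUnion_of_finite c T hT0 hTu hTm S' hS'fin
    (fun U hU => hSsub (hS'sub hU))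
  refine ⟨i, Ui, hUi, ?_⟩
  rw [hi]
  apply subset_antisymm
  · exact Set.sUnion_subset_sUnion hS'sub
  · refine ht.trans ?_
    intro x hx
    simp only [Set.mem_iUnion] at hx
    obtain ⟨s, hs, hxs⟩ := hx
    exact ⟨s, ⟨s, hs, rfl⟩, hxs⟩

include hc in
theorem exists_isCompact_isOpen_preimage_eq [IsCofiltered J]
    (hF : ∀ j, SpectralSpace (F.obj j))
    (hFm : ∀ {i j : J} (a : i ⟶ j), IsSpectralMap (F.map a : F.obj i → F.obj j))
    (U : Set c.pt) (hUo : IsOpen U) (hUc : IsCompact U) :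
    ∃ (i : J) (Ui : Set (F.obj i)), IsOpen Ui ∧ IsCompact Ui ∧ c.π.app i ⁻¹' Ui = U := by
  obtain ⟨i, Ui, hUi, h⟩ := exists_preimage_eq_of_isCompact_isOpen c hc
    (fun j => {V | IsOpen V ∧ IsCompact V}) (fun j => ⟨isOpen_empty, isCompact_empty⟩)
    (fun j U V hU hV => ⟨hU.1.union hV.1, hU.2.union hV.2⟩)
    (fun a V hV => ⟨hV.1.preimage (continuous_map a),
      (hFm a).isCompact_preimage_of_isOpen hV.1 hV.2⟩)
    (isTopologicalBasis_lim_qc c hc hF hFm) U hUo hUc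
  exact ⟨i, Ui, hUi.1, hUi.2, h⟩

include hc in
theorem exists_isOpen_preimage_eq [IsCofiltered J]
    (U : Set c.pt) (hUo : IsOpen U) (hUc : IsCompact U) :
    ∃ (i : J) (Ui : Set (F.obj i)), IsOpen Ui ∧ c.π.app i ⁻¹' Ui = U := by
  obtain ⟨i, Ui, hUi, h⟩ := exists_preimage_eq_of_isCompact_isOpen c hc
    (fun j => {V | IsOpen V}) (fun j => isOpen_empty)
    (fun j U V hU hV => hU.union hV)
    (fun a V hV => hV.preimage (continuous_map a))
    (isTopologicalBasis_lim_opens c hc) U hUo hUc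
  exact ⟨i, Ui, hUi, h⟩

include hc in
/-- Equality of preimages of constructibly clopen sets descends to a finite level. -/
theorem exists_hom_preimage_eq_of_proj_preimage_eq [IsCofiltered J]
    (hF : ∀ j, SpectralSpace (F.obj j))
    (hFm : ∀ {i j : J} (a : i ⟶ j), IsSpectralMap (F.map a : F.obj i → F.obj j))
    (i : J) (E E' : Set (F.obj i))
    (hEc : IsClosed[constructibleTopology (F.obj i)] E)
    (hEo : IsOpen[constructibleTopology (F.obj i)] E)
    (hEc' : IsClosed[constructibleTopology (F.obj i)] E')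
    (hEo' : IsOpen[constructibleTopology (F.obj i)] E')
    (h : c.π.app i ⁻¹' E = c.π.app i ⁻¹' E') :
    ∃ (j : J) (a : j ⟶ i), F.map a ⁻¹' E = F.map a ⁻¹' E' := by
  obtain ⟨j1, a1, h1⟩ := (preimage_subset_preimage_iff_exists_hom c hc hF hFm i E E' hEc hEo').1
    h.subset
  obtain ⟨j2, a2, h2⟩ := (preimage_subset_preimage_iff_exists_hom c hc hF hFm i E' E hEc' hEo).1
    h.symm.subset
  obtain ⟨k, b1, b2, hb⟩ := IsCofiltered.cospan a1 a2
  refine ⟨k, b1 ≫ a1, ?_⟩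
  apply subset_antisymm
  · intro y hy
    have : F.map b1 y ∈ F.map a1 ⁻¹' E := by
      change F.map a1 (F.map b1 y) ∈ E
      have h3 : F.map (b1 ≫ a1) y ∈ E := hy
      rwa [F.map_comp] at h3
    have h4 := h1 this
    change F.map (b1 ≫ a1) y ∈ E'
    rw [F.map_comp]
    exact h4
  · intro y hy
    have : F.map b2 y ∈ F.map a2 ⁻¹' E' := by
      change F.map a2 (F.map b2 y) ∈ E'
      have h3 : F.map (b1 ≫ a1) y ∈ E' := hy
      rwa [hb, F.map_comp] at h3
    have h4 := h2 this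
    change F.map (b1 ≫ a1) y ∈ E
    rw [hb, F.map_comp]
    exact h4

end Groth.Agent.H4.Spec
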