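import Groth.Agent.H4.SpectralLim6
import Mathlib.Topology.Constructible

/-!
# Helper library: descending constructible sets in cofiltered limits of spectral spaces (helper4)
-/

namespace Groth.Agent.H4.Spec

open CategoryTheory CategoryTheory.Limits Topology TopologicalSpace Set

universe u

theorem isConstructible_preimage_of_isSpectralMap {X Y : Type*} [TopologicalSpace X]
    [TopologicalSpace Y] [QuasiSeparatedSpace X] [CompactSpace Y] {f : X → Y}
    (hf : IsSpectralMap f) {s : Set Y} (hs : IsConstructible s) : IsConstructible (f ⁻¹' s) :=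
  hs.preimage hf.continuous fun t hto htr =>
    (hf.isCompact_preimage_of_isOpen hto htr.isCompact).isRetrocompact (hto.preimage hf.continuous)

variable {J : Type u} [SmallCategory J] {F : J ⥤ TopCat.{u}} (c : Cone F) (hc : IsLimit c)

include hc in
theorem exists_isConstructible_preimage_eq [IsCofiltered J]
    (hF : ∀ j, SpectralSpace (F.obj j))
    (hFm : ∀ {i j : J} (a : i ⟶ j), IsSpectralMap (F.map a : F.obj i → F.obj j))
    (E : Set c.pt) (hE : IsConstructible E) :
    ∃ (i : J) (Ei : Set (F.obj i)), IsConstructible Ei ∧ c.π.app i ⁻¹' Ei = E := by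
  have hX : SpectralSpace c.pt := spectralSpace_lim c hc hF hFm
  induction hE using IsConstructible.empty_union_induction with
  | open_retrocompact U hUo hUc =>
    obtain ⟨i, Ui, h1, h2, h3⟩ := exists_isCompact_isOpen_preimage_eq c hc hF hFm U hUo
      hUc.isCompact
    exact ⟨i, Ui, h2.isConstructible h1, h3⟩
  | union s hs t ht ihs iht =>
    obtain ⟨i, Ei, hEi, rfl⟩ := ihs
    obtain ⟨j, Ej, hEj, rfl⟩ := iht
    refine ⟨IsCofiltered.min i j, (F.map (IsCofiltered.minToLeft i j)) ⁻¹' Ei ∪
      (F.map (IsCofiltered.minToRight i j)) ⁻¹' Ej,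
      (isConstructible_preimage_of_isSpectralMap (hFm _) hEi).union
      (isConstructible_preimage_of_isSpectralMap (hFm _) hEj), ?_⟩
    rw [Set.preimage_union, proj_preimage_map_preimage, proj_preimage_map_preimage]
  | compl s hs ih =>
    obtain ⟨i, Ei, hEi, rfl⟩ := ih
    exact ⟨i, Eiᶜ, hEi.compl, Set.preimage_compl⟩

include hc in
theorem exists_isConstructible_isOpen_preimage_eq [IsCofiltered J]
    (hF : ∀ j, SpectralSpace (F.obj j))
    (hFm : ∀ {i j : J} (a : i ⟶ j), IsSpectralMap (F.map a : F.obj i → F.obj j))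
    (E : Set c.pt) (hE : IsConstructible E) (hEo : IsOpen E) :
    ∃ (i : J) (Ei : Set (F.obj i)), IsConstructible Ei ∧ IsOpen Ei ∧ c.π.app i ⁻¹' Ei = E := by
  have hX : SpectralSpace c.pt := spectralSpace_lim c hc hF hFm
  have hEc : IsCompact E := isCompact_of_isClosed_cons (isClosed_cons_of_isConstructible hE)
  obtain ⟨i, Ui, h1, h2, h3⟩ := exists_isCompact_isOpen_preimage_eq c hc hF hFm E hEo hEc
  exact ⟨i, Ui, h2.isConstructible h1, h1, h3⟩

include hc in
theorem exists_isConstructible_isClosed_preimage_eq [IsCofiltered J]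
    (hF : ∀ j, SpectralSpace (F.obj j))
    (hFm : ∀ {i j : J} (a : i ⟶ j), IsSpectralMap (F.map a : F.obj i → F.obj j))
    (E : Set c.pt) (hE : IsConstructible E) (hEc : IsClosed E) :
    ∃ (i : J) (Ei : Set (F.obj i)), IsConstructible Ei ∧ IsClosed Ei ∧ c.π.app i ⁻¹' Ei = E := by
  obtain ⟨i, Ui, h1, h2, h3⟩ := exists_isConstructible_isOpen_preimage_eq c hc hF hFm Eᶜ
    hE.compl hEc.isOpen_compl
  refine ⟨i, Uiᶜ, h1.compl, h2.isClosed_compl, ?_⟩
  rw [Set.preimage_compl, h3, compl_compl]

end Groth.Agent.H4.Spec
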