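import Groth.Agent.H4.Spectral5

/-!
# Helper library: products of spectral spaces (helper4)
-/

namespace Groth.Agent.H4.Spec

open Topology TopologicalSpace Set

variable {X Y : Type*} [TopologicalSpace X] [TopologicalSpace Y]

/-- The product of two quasi-sober spaces is quasi-sober. -/
theorem quasiSober_prod [QuasiSober X] [QuasiSober Y] : QuasiSober (X × Y) := by
  refine ⟨fun {Z} hZ hZcl => ?_⟩
  have h1 : IsIrreducible (closure (Prod.fst '' Z)) :=
    (hZ.image _ continuous_fst.continuousOn).closure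
  have h2 : IsIrreducible (closure (Prod.snd '' Z)) :=
    (hZ.image _ continuous_snd.continuousOn).closure
  obtain ⟨ξ₁, hξ₁⟩ := QuasiSober.sober h1 isClosed_closure
  obtain ⟨ξ₂, hξ₂⟩ := QuasiSober.sober h2 isClosed_closure
  have hmem : (ξ₁, ξ₂) ∈ Z := by
    by_contra hcon
    have hopen : IsOpen Zᶜ := hZcl.isOpen_compl
    obtain ⟨U, V, hU, hV, hξU, hξV, hUV⟩ := isOpen_prod_iff.mp hopen ξ₁ ξ₂ hcon
    have hU' : (Z ∩ (U ×ˢ (univ : Set Y))).Nonempty := by
      obtain ⟨_, hx1, ⟨z, hz, rfl⟩⟩ := mem_closure_iff.mp hξ₁.mem U hU hξU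
      exact ⟨z, hz, hx1, mem_univ _⟩
    have hV' : (Z ∩ ((univ : Set X) ×ˢ V)).Nonempty := by
      obtain ⟨_, hx1, ⟨z, hz, rfl⟩⟩ := mem_closure_iff.mp hξ₂.mem V hV hξV
      exact ⟨z, hz, mem_univ _, hx1⟩
    obtain ⟨z, hz, ⟨hz1, -⟩, ⟨-, hz2⟩⟩ := hZ.2 _ _ (hU.prod isOpen_univ) (isOpen_univ.prod hV) hU' hV'
    exact hUV (show z ∈ U ×ˢ V from ⟨hz1, hz2⟩) hz
  refine ⟨(ξ₁, ξ₂), ?_⟩
  rw [isGenericPoint_def]
  apply subset_antisymm
  · exact closure_minimal (singleton_subset_iff.mpr hmem) hZcl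
  · have : closure ({(ξ₁, ξ₂)} : Set (X × Y)) = closure {ξ₁} ×ˢ closure {ξ₂} := by
      rw [← closure_prod_eq, singleton_prod_singleton]
    rw [this, hξ₁.def, hξ₂.def]
    intro z hz
    exact ⟨subset_closure ⟨z, hz, rfl⟩, subset_closure ⟨z, hz, rfl⟩⟩

/-- The product of two spectral spaces is spectral. -/
theorem spectralSpace_prod [SpectralSpace X] [SpectralSpace Y] : SpectralSpace (X × Y) := by
  have hsob : QuasiSober (X × Y) := quasiSober_prod
  let ι := {U : Set X // IsOpen U ∧ IsCompact U} × {V : Set Y // IsOpen V ∧ IsCompact V}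
  let b : ι → Set (X × Y) := fun p => (p.1 : Set X) ×ˢ (p.2 : Set Y)
  have hb : IsTopologicalBasis (range b) := by
    have := (PrespectralSpace.isTopologicalBasis (X := X)).prod
      (PrespectralSpace.isTopologicalBasis (X := Y))
    convert this using 1
    ext s
    constructor
    · rintro ⟨⟨U, V⟩, rfl⟩
      exact ⟨U.1, U.2, V.1, V.2, rfl⟩
    · rintro ⟨U, hU, V, hV, rfl⟩
      exact ⟨⟨⟨U, hU⟩, ⟨V, hV⟩⟩, rfl⟩
  have hbc : ∀ i, IsCompact (b i) := fun i => i.1.2.2.prod i.2.2.2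
  have hpre : PrespectralSpace (X × Y) := PrespectralSpace.of_isTopologicalBasis' hb hbc
  have hqs : QuasiSeparatedSpace (X × Y) := by
    refine QuasiSeparatedSpace.of_isTopologicalBasis hb fun i j => ?_
    have : b i ∩ b j = ((i.1 : Set X) ∩ (j.1 : Set X)) ×ˢ ((i.2 : Set Y) ∩ (j.2 : Set Y)) :=
      prod_inter_prod
    rw [this]
    exact (QuasiSeparatedSpace.inter_isCompact _ _ i.1.2.1 i.1.2.2 j.1.2.1 j.1.2.2).prod
      (QuasiSeparatedSpace.inter_isCompact _ _ i.2.2.1 i.2.2.2 j.2.2.1 j.2.2.2)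
  exact { }

end Groth.Agent.H4.Spec
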