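import Mathlib
open MvPolynomial
namespace Groth.Agent.H4.SpinA
noncomputable section

abbrev W1 : Fin 4 → ℕ := ![1, 1, 0, 0]
abbrev W2 : Fin 4 → ℕ := ![0, 0, 1, 1]
abbrev rho : Fin 4 → Fin 2 := ![0, 1, 0, 1]
abbrev iot : Fin 4 → Fin 4 := ![2, 3, 0, 1]

lemma iot0 : iot 0 = 2 := rfl
lemma iot1 : iot 1 = 3 := rfl
lemma iot2 : iot 2 = 0 := rfl
lemma iot3 : iot 3 = 1 := rfl
lemma rho0 : rho 0 = 0 := rfl
lemma rho1 : rho 1 = 1 := rfl
lemma rho2 : rho 2 = 0 := rfl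
lemma rho3 : rho 3 = 1 := rfl

lemma sum_univ_ten {M : Type*} [AddCommMonoid M] (f : Fin 10 → M) :
    ∑ i, f i = f 0 + f 1 + f 2 + f 3 + f 4 + f 5 + f 6 + f 7 + f 8 + f 9 := by
  rw [Fin.sum_univ_succ, Fin.sum_univ_succ, Fin.sum_univ_eight]
  simp only [add_assoc]
  rfl

variable (k : Type*) [Field k]

def pl : MvPolynomial (Fin 4) k := X 0 * X 3 - X 1 * X 2
def ph1 : MvPolynomial (Fin 4) k := X 0 * (X 3 - X 2) + X 2 * (X 1 - X 0)
def ph2 : MvPolynomial (Fin 4) k := X 1 * (X 2 - X 3) + X 3 * (X 0 - X 1)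
def ph3 : MvPolynomial (Fin 4) k := X 0 * X 3 + X 1 * X 2
def ph : MvPolynomial (Fin 4) k := ph1 k + ph2 k + ph3 k
def ph13 : MvPolynomial (Fin 4) k := ph1 k - ph3 k
def ph23 : MvPolynomial (Fin 4) k := ph2 k - ph3 k
def pc : MvPolynomial (Fin 4) k := X 0 * X 1 * (X 0 - X 1) * (X 2 * X 3 * (X 2 - X 3))
def pg : MvPolynomial (Fin 2) k := X 0 * X 1 * (X 0 - X 1)

def BiH (f : MvPolynomial (Fin 4) k) (m n : ℕ) : Prop :=
  IsWeightedHomogeneous W1 f m ∧ IsWeightedHomogeneous W2 f n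

variable {k}

lemma BiH.mul {f g : MvPolynomial (Fin 4) k} {m n m' n' : ℕ} (hf : BiH k f m n)
    (hg : BiH k g m' n') : BiH k (f * g) (m + m') (n + n') :=
  ⟨hf.1.mul hg.1, hf.2.mul hg.2⟩

lemma BiH.add {f g : MvPolynomial (Fin 4) k} {m n : ℕ} (hf : BiH k f m n)
    (hg : BiH k g m n) : BiH k (f + g) m n :=
  ⟨hf.1.add hg.1, hf.2.add hg.2⟩

lemma BiH.sub {f g : MvPolynomial (Fin 4) k} {m n : ℕ} (hf : BiH k f m n)
    (hg : BiH k g m n) : BiH k (f - g) m n :=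
  ⟨hf.1.sub hg.1, hf.2.sub hg.2⟩

lemma BiH.sq {f : MvPolynomial (Fin 4) k} {m n : ℕ} (hf : BiH k f m n) :
    BiH k (f ^ 2) (m + m) (n + n) := by
  rw [pow_two]; exact hf.mul hf

variable (k)

lemma bih_X0 : BiH k (X 0) 1 0 := ⟨isWeightedHomogeneous_X k W1 0, isWeightedHomogeneous_X k W2 0⟩
lemma bih_X1 : BiH k (X 1) 1 0 := ⟨isWeightedHomogeneous_X k W1 1, isWeightedHomogeneous_X k W2 1⟩
lemma bih_X2 : BiH k (X 2) 0 1 := ⟨isWeightedHomogeneous_X k W1 2, isWeightedHomogeneous_X k W2 2⟩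
lemma bih_X3 : BiH k (X 3) 0 1 := ⟨isWeightedHomogeneous_X k W1 3, isWeightedHomogeneous_X k W2 3⟩

lemma bih_l : BiH k (pl k) 1 1 :=
  ((bih_X0 k).mul (bih_X3 k)).sub ((bih_X1 k).mul (bih_X2 k))
lemma bih_h1 : BiH k (ph1 k) 1 1 :=
  BiH.add (m := 1) (n := 1) ((bih_X0 k).mul ((bih_X3 k).sub (bih_X2 k)))
    ((bih_X2 k).mul ((bih_X1 k).sub (bih_X0 k)))
lemma bih_h2 : BiH k (ph2 k) 1 1 :=
  BiH.add (m := 1) (n := 1) ((bih_X1 k).mul ((bih_X2 k).sub (bih_X3 k)))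
    ((bih_X3 k).mul ((bih_X0 k).sub (bih_X1 k)))
lemma bih_h3 : BiH k (ph3 k) 1 1 :=
  BiH.add (m := 1) (n := 1) ((bih_X0 k).mul (bih_X3 k)) ((bih_X1 k).mul (bih_X2 k))
lemma bih_h : BiH k (ph k) 1 1 := ((bih_h1 k).add (bih_h2 k)).add (bih_h3 k)
lemma bih_h13 : BiH k (ph13 k) 1 1 := (bih_h1 k).sub (bih_h3 k)
lemma bih_h23 : BiH k (ph23 k) 1 1 := (bih_h2 k).sub (bih_h3 k)
lemma bih_c : BiH k (pc k) 3 3 :=
  (((bih_X0 k).mul (bih_X1 k)).mul ((bih_X0 k).sub (bih_X1 k))).mul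
    (((bih_X2 k).mul (bih_X3 k)).mul ((bih_X2 k).sub (bih_X3 k)))

lemma rho_l : rename rho (pl k) = 0 := by
  simp only [pl, map_sub, map_mul, rename_X, rho0, rho1, rho2, rho3]; ring
lemma rho_c : rename rho (pc k) = (pg k) ^ 2 := by
  simp only [pc, pg, map_sub, map_mul, rename_X, rho0, rho1, rho2, rho3]; ring
lemma iot_l : rename iot (pl k) = - pl k := by
  simp only [pl, map_sub, map_mul, rename_X, iot0, iot1, iot2, iot3]; ring
lemma iot_h1 : rename iot (ph1 k) = ph1 k := by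
  simp only [ph1, map_add, map_sub, map_mul, rename_X, iot0, iot1, iot2, iot3]; ring
lemma iot_h2 : rename iot (ph2 k) = ph2 k := by
  simp only [ph2, map_add, map_sub, map_mul, rename_X, iot0, iot1, iot2, iot3]; ring
lemma iot_h3 : rename iot (ph3 k) = ph3 k := by
  simp only [ph3, map_add, map_sub, map_mul, rename_X, iot0, iot1, iot2, iot3]; ring
lemma iot_h : rename iot (ph k) = ph k := by
  simp only [ph, map_add, iot_h1, iot_h2, iot_h3]
lemma iot_h13 : rename iot (ph13 k) = ph13 k := by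
  simp only [ph13, map_sub, iot_h1, iot_h3]
lemma iot_h23 : rename iot (ph23 k) = ph23 k := by
  simp only [ph23, map_sub, iot_h2, iot_h3]
lemma iot_c : rename iot (pc k) = pc k := by
  simp only [pc, map_sub, map_mul, rename_X, iot0, iot1, iot2, iot3]; ring

def InI (f : MvPolynomial (Fin 4) k) : Prop :=
  IsWeightedHomogeneous W1 f 3 ∧ IsWeightedHomogeneous W2 f 3 ∧ (pg k) ^ 2 ∣ rename rho f

lemma inI_of_rho_zero {f : MvPolynomial (Fin 4) k} (hf : BiH k f 3 3) (h0 : rename rho f = 0) :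
    InI k f := ⟨hf.1, hf.2, by rw [h0]; exact dvd_zero _⟩

lemma gen_c : InI k (pc k) ∧ rename iot (pc k) = pc k :=
  ⟨⟨(bih_c k).1, (bih_c k).2, Dvd.intro 1 (by rw [rho_c, mul_one])⟩, iot_c k⟩

lemma gen_sym (G : MvPolynomial (Fin 4) k) (hG : BiH k G 1 1) (hi : rename iot G = G) :
    InI k (pl k ^ 2 * G) ∧ rename iot (pl k ^ 2 * G) = pl k ^ 2 * G := by
  refine ⟨inI_of_rho_zero k ((bih_l k).sq.mul hG) ?_, ?_⟩
  · rw [map_mul, map_pow, rho_l]; ring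
  · rw [map_mul, map_pow, iot_l, hi]; ring

lemma gen_anti (G1 G2 : MvPolynomial (Fin 4) k) (hG1 : BiH k G1 1 1) (hG2 : BiH k G2 1 1)
    (hi1 : rename iot G1 = G1) (hi2 : rename iot G2 = G2) :
    InI k (pl k * G1 * G2) ∧ rename iot (pl k * G1 * G2) = -(pl k * G1 * G2) := by
  refine ⟨inI_of_rho_zero k (((bih_l k).mul hG1).mul hG2) ?_, ?_⟩
  · rw [map_mul, map_mul, rho_l]; ring
  · rw [map_mul, map_mul, iot_l, hi1, hi2]; ring

lemma gen_anti_sq (G : MvPolynomial (Fin 4) k) (hG : BiH k G 1 1)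
    (hi : rename iot G = G) :
    InI k (pl k * G ^ 2) ∧ rename iot (pl k * G ^ 2) = -(pl k * G ^ 2) := by
  have := gen_anti k G G hG hG hi hi
  rwa [show pl k * G ^ 2 = pl k * G * G by ring]

/-! ### monomial decomposition -/

def E (a b : ℕ) : Fin 4 →₀ ℕ :=
  Finsupp.single 0 a + Finsupp.single 1 (3 - a) + Finsupp.single 2 b + Finsupp.single 3 (3 - b)

def mon (a b : ℕ) : MvPolynomial (Fin 4) k :=
  X 0 ^ a * X 1 ^ (3 - a) * X 2 ^ b * X 3 ^ (3 - b)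

def poly16 (c : ℕ → ℕ → k) : MvPolynomial (Fin 4) k :=
  ∑ a ∈ Finset.range 4, ∑ b ∈ Finset.range 4, C (c a b) * mon k a b

lemma E0 (a b : ℕ) : E a b 0 = a := by simp [E]
lemma E1 (a b : ℕ) : E a b 1 = 3 - a := by simp [E]
lemma E2 (a b : ℕ) : E a b 2 = b := by simp [E]
lemma E3 (a b : ℕ) : E a b 3 = 3 - b := by simp [E]

lemma mon_eq (a b : ℕ) : mon k a b = monomial (E a b) 1 := by
  simp [mon, E, X_pow_eq_monomial, monomial_mul]

lemma mapDomain_E (a b : ℕ) : Finsupp.mapDomain iot (E b a) = E a b := by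
  simp only [E, Finsupp.mapDomain_add, Finsupp.mapDomain_single, iot0, iot1, iot2, iot3]
  abel

lemma coeff_iot (f : MvPolynomial (Fin 4) k) (a b : ℕ) :
    coeff (E a b) (rename iot f) = coeff (E b a) f := by
  have hinj : Function.Injective iot := by decide
  rw [← mapDomain_E, coeff_rename_mapDomain _ hinj]

lemma decomp (f : MvPolynomial (Fin 4) k) (h1 : IsWeightedHomogeneous W1 f 3)
    (h2 : IsWeightedHomogeneous W2 f 3) :
    f = poly16 k (fun a b => coeff (E a b) f) := by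
  have hsupp : ∀ d ∈ f.support, d = E (d 0) (d 2) ∧ d 0 < 4 ∧ d 2 < 4 := by
    intro d hd
    have hd' : coeff d f ≠ 0 := mem_support_iff.mp hd
    have e1 := h1 hd'
    have e2 := h2 hd'
    rw [Finsupp.weight_eq_sum, Fin.sum_univ_four] at e1 e2
    simp at e1 e2
    refine ⟨?_, by omega, by omega⟩
    ext i
    fin_cases i
    · simp [E0]
    · simp [E1]; omega
    · simp [E2]
    · simp [E3]; omega
  have hinj : Set.InjOn (fun p : ℕ × ℕ => E p.1 p.2)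
      (Finset.range 4 ×ˢ Finset.range 4 : Finset (ℕ × ℕ)) := by
    intro p _ q _ h
    have h0 := DFunLike.congr_fun h 0
    have h2 := DFunLike.congr_fun h 2
    simp only [E0, E2] at h0 h2
    exact Prod.ext h0 h2
  have hmon : ∀ a b, C (coeff (E a b) f) * mon k a b = monomial (E a b) (coeff (E a b) f) := by
    intro a b; rw [mon_eq, C_mul_monomial, mul_one]
  calc f = ∑ d ∈ f.support, monomial d (coeff d f) := f.as_sum
    _ = ∑ d ∈ (Finset.range 4 ×ˢ Finset.range 4).image (fun p : ℕ × ℕ => E p.1 p.2),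
          monomial d (coeff d f) := by
        apply Finset.sum_subset
        · intro d hd
          obtain ⟨e, h0, h2⟩ := hsupp d hd
          rw [Finset.mem_image]
          exact ⟨(d 0, d 2), by simp [h0, h2], e.symm⟩
        · intro d _ hd
          rw [notMem_support_iff.mp hd, map_zero]
    _ = ∑ p ∈ Finset.range 4 ×ˢ Finset.range 4, monomial (E p.1 p.2) (coeff (E p.1 p.2) f) :=
        Finset.sum_image hinj
    _ = ∑ a ∈ Finset.range 4, ∑ b ∈ Finset.range 4, monomial (E a b) (coeff (E a b) f) :=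
        Finset.sum_product _ _ _
    _ = poly16 k (fun a b => coeff (E a b) f) := by
        simp only [poly16, hmon]

/-! ### conditions from divisibility -/

lemma rho_poly16 (c : ℕ → ℕ → k) :
    rename rho (poly16 k c) = ∑ a ∈ Finset.range 4, ∑ b ∈ Finset.range 4,
      C (c a b) * (X 0 ^ a * X 1 ^ (3 - a) * X 0 ^ b * X 1 ^ (3 - b)) := by
  simp only [poly16, mon, map_sum, map_mul, map_pow, rename_C, rename_X, rho0, rho1, rho2, rho3]

lemma eval_of_sq_dvd {σ : Type*} (P : σ → k) (g F : MvPolynomial σ k) (hg : eval P g = 0)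
    (h : g ^ 2 ∣ F) : eval P F = 0 := by
  obtain ⟨q, rfl⟩ := h; simp [hg]

lemma eval_pderiv_of_sq_dvd {σ : Type*} (P : σ → k) (g F : MvPolynomial σ k) (i : σ)
    (hg : eval P g = 0) (h : g ^ 2 ∣ F) : eval P (pderiv i F) = 0 := by
  obtain ⟨q, rfl⟩ := h
  rw [pderiv_mul, pderiv_pow]
  simp [hg]

lemma conds (c : ℕ → ℕ → k) (hdiv : (pg k) ^ 2 ∣ rename rho (poly16 k c)) :
    c 0 0 = 0 ∧ c 0 1 + c 1 0 = 0 ∧ c 3 3 = 0 ∧ c 2 3 + c 3 2 = 0 ∧
    (c 0 0 + c 0 1 + c 0 2 + c 0 3 + c 1 0 + c 1 1 + c 1 2 + c 1 3 +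
      c 2 0 + c 2 1 + c 2 2 + c 2 3 + c 3 0 + c 3 1 + c 3 2 + c 3 3 = 0) ∧
    (c 0 1 + 2 * c 0 2 + 3 * c 0 3 + c 1 0 + 2 * c 1 1 + 3 * c 1 2 + 4 * c 1 3 +
      2 * c 2 0 + 3 * c 2 1 + 4 * c 2 2 + 5 * c 2 3 + 3 * c 3 0 + 4 * c 3 1 + 5 * c 3 2 +
      6 * c 3 3 = 0) := by
  rw [rho_poly16] at hdiv
  have g01 : eval ![0, 1] (pg k) = 0 := by simp [pg]
  have g10 : eval ![1, 0] (pg k) = 0 := by simp [pg]
  have g11 : eval ![1, 1] (pg k) = 0 := by simp [pg]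
  have a1 := eval_of_sq_dvd k ![0, 1] _ _ g01 hdiv
  have a2 := eval_pderiv_of_sq_dvd k ![0, 1] _ _ 0 g01 hdiv
  have a3 := eval_of_sq_dvd k ![1, 0] _ _ g10 hdiv
  have a4 := eval_pderiv_of_sq_dvd k ![1, 0] _ _ 1 g10 hdiv
  have a5 := eval_of_sq_dvd k ![1, 1] _ _ g11 hdiv
  have a6 := eval_pderiv_of_sq_dvd k ![1, 1] _ _ 0 g11 hdiv
  simp [Finset.sum_range_succ, pderiv_mul, pderiv_pow, pderiv_X] at a1 a2 a3 a4 a5 a6
  refine ⟨?_, ?_, ?_, ?_, ?_, ?_⟩
  · linear_combination a1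
  · linear_combination a2
  · linear_combination a3
  · linear_combination a4
  · linear_combination a5
  · linear_combination a6

end
end Groth.Agent.H4.SpinA
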