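import Groth.Agent.H4.SpinA
open MvPolynomial
open Groth.Agent.H4.SpinA
namespace Groth.Agent.H4.SpinB
noncomputable section

variable (k : Type*) [Field k]

lemma sym_identity (c : ℕ → ℕ → k) (hs : ∀ a b, c a b = c b a) (e0 : c 0 0 = 0)
    (c01 : c 0 1 = 0) (c23 : c 2 3 = 0) (e6 : c 3 3 = 0)
    (h12 : c 1 2 = -2 * c 0 2 - c 0 3 - c 1 1) (h22 : c 2 2 = 2 * c 0 2 + c 1 1 - 2 * c 1 3) :
    C (6:k) * poly16 k c = C (6 * c 1 1 + 12 * c 0 2) * pc k + C (2 * c 0 3) * (pl k ^ 2 * ph k)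
      + C (-3 * c 1 3 - 2 * c 0 3) * (pl k ^ 2 * ph13 k)
      + C (-3 * c 0 2 - 2 * c 0 3) * (pl k ^ 2 * ph23 k) := by
  simp only [poly16, mon, Finset.sum_range_succ, Finset.sum_range_zero, zero_add]
  rw [hs 1 0, hs 2 0, hs 3 0, hs 2 1, hs 3 1, hs 3 2, e0, c01, c23, e6, h12, h22]
  simp only [pc, pl, ph, ph1, ph2, ph3, ph13, ph23, map_add, map_sub, map_mul, map_neg,
    map_ofNat, map_zero, Nat.reduceSub]
  ring

lemma anti_identity (c : ℕ → ℕ → k) (ha : ∀ a b, c a b = - c b a) (d0 : c 0 0 = 0)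
    (d1 : c 1 1 = 0) (d2 : c 2 2 = 0) (d3 : c 3 3 = 0) :
    C (36:k) * poly16 k c = C (-4 * c 0 3) * (pl k * ph k ^ 2)
      + C (6 * c 1 3 + 8 * c 0 3) * (pl k * ph k * ph13 k)
      + C (6 * c 0 2 + 8 * c 0 3) * (pl k * ph k * ph23 k)
      + C (-9 * c 2 3 - 6 * c 1 3 - 4 * c 0 3) * (pl k * ph13 k ^ 2)
      + C (-9 * c 0 1 - 6 * c 0 2 - 4 * c 0 3) * (pl k * ph23 k ^ 2)
      + C (-9 * c 1 2 - 6 * c 0 2 - 6 * c 1 3 + c 0 3) * (pl k * ph13 k * ph23 k) := by
  simp only [poly16, mon, Finset.sum_range_succ, Finset.sum_range_zero, zero_add]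
  rw [ha 1 0, ha 2 0, ha 3 0, ha 2 1, ha 3 1, ha 3 2, d0, d1, d2, d3]
  simp only [pc, pl, ph, ph1, ph2, ph3, ph13, ph23, map_add, map_sub, map_mul, map_neg,
    map_ofNat, map_zero, Nat.reduceSub]
  ring

lemma C_mul_eq_smul (a : k) (p : MvPolynomial (Fin 4) k) : C a * p = a • p :=
  (smul_eq_C_mul p a).symm

theorem sym_mem [CharZero k] (f : MvPolynomial (Fin 4) k) (hf : InI k f)
    (hs : rename iot f = f) :
    f ∈ Submodule.span k ({pc k, pl k ^ 2 * ph k, pl k ^ 2 * ph13 k, pl k ^ 2 * ph23 k} :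
      Set (MvPolynomial (Fin 4) k)) := by
  obtain ⟨h1, h2, hdiv⟩ := hf
  have hdec := decomp k f h1 h2
  have hsym : ∀ a b, coeff (E a b) f = coeff (E b a) f := by
    intro a b
    conv_lhs => rw [← hs]
    exact coeff_iot k f a b
  generalize hc : (fun a b => coeff (E a b) f) = c at hdec
  have hsym' : ∀ a b, c a b = c b a := by intro a b; rw [← hc]; exact hsym a b
  rw [hdec] at hdiv
  obtain ⟨e0, e1, e6, e5, es, ew⟩ := conds k c hdiv
  have h2k : (2:k) ≠ 0 := by norm_num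
  have c01 : c 0 1 = 0 := by
    have : (2:k) * c 0 1 = 0 := by linear_combination e1 - hsym' 1 0
    exact (mul_eq_zero.mp this).resolve_left h2k
  have c23 : c 2 3 = 0 := by
    have : (2:k) * c 2 3 = 0 := by linear_combination e5 - hsym' 3 2
    exact (mul_eq_zero.mp this).resolve_left h2k
  simp only [hsym' 1 0, hsym' 2 0, hsym' 3 0, hsym' 2 1, hsym' 3 1, hsym' 3 2, e0, c01, c23, e6] at es ew
  have h12 : c 1 2 = -2 * c 0 2 - c 0 3 - c 1 1 := by linear_combination 2 * es - (1/2) * ew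
  have h22 : c 2 2 = 2 * c 0 2 + c 1 1 - 2 * c 1 3 := by linear_combination ew - 3 * es
  have key := sym_identity k c hsym' e0 c01 c23 e6 h12 h22
  have h6 : (6:k) ≠ 0 := by norm_num
  have hf6 : f = C ((6:k)⁻¹) * (C (6:k) * poly16 k c) := by
    rw [← mul_assoc, ← C_mul, inv_mul_cancel₀ h6, C_1, one_mul]; exact hdec
  rw [hf6, key]
  simp only [C_mul_eq_smul]
  apply Submodule.smul_mem
  exact Submodule.add_mem _ (Submodule.add_mem _ (Submodule.add_mem _
    (Submodule.smul_mem _ _ (Submodule.subset_span (by simp)))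
    (Submodule.smul_mem _ _ (Submodule.subset_span (by simp))))
    (Submodule.smul_mem _ _ (Submodule.subset_span (by simp))))
    (Submodule.smul_mem _ _ (Submodule.subset_span (by simp)))

theorem anti_mem [CharZero k] (f : MvPolynomial (Fin 4) k) (hf : InI k f)
    (hs : rename iot f = -f) :
    f ∈ Submodule.span k ({pl k * ph k ^ 2, pl k * ph k * ph13 k, pl k * ph k * ph23 k,
      pl k * ph13 k ^ 2, pl k * ph23 k ^ 2, pl k * ph13 k * ph23 k} :
      Set (MvPolynomial (Fin 4) k)) := by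
  obtain ⟨h1, h2, -⟩ := hf
  have hdec := decomp k f h1 h2
  have hanti : ∀ a b, coeff (E a b) f = - coeff (E b a) f := by
    intro a b
    have := coeff_iot k f a b
    rw [hs, coeff_neg] at this
    rw [← this, neg_neg]
  generalize hc : (fun a b => coeff (E a b) f) = c at hdec
  have ha' : ∀ a b, c a b = - c b a := by intro a b; rw [← hc]; exact hanti a b
  have h2k : (2:k) ≠ 0 := by norm_num
  have diag : ∀ a, c a a = 0 := by
    intro a
    have : (2:k) * c a a = 0 := by linear_combination ha' a a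
    exact (mul_eq_zero.mp this).resolve_left h2k
  have key := anti_identity k c ha' (diag 0) (diag 1) (diag 2) (diag 3)
  have h36 : (36:k) ≠ 0 := by norm_num
  have hf36 : f = C ((36:k)⁻¹) * (C (36:k) * poly16 k c) := by
    rw [← mul_assoc, ← C_mul, inv_mul_cancel₀ h36, C_1, one_mul]; exact hdec
  rw [hf36, key]
  simp only [C_mul_eq_smul]
  apply Submodule.smul_mem
  exact Submodule.add_mem _ (Submodule.add_mem _ (Submodule.add_mem _ (Submodule.add_mem _
    (Submodule.add_mem _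
    (Submodule.smul_mem _ _ (Submodule.subset_span (by simp)))
    (Submodule.smul_mem _ _ (Submodule.subset_span (by simp))))
    (Submodule.smul_mem _ _ (Submodule.subset_span (by simp))))
    (Submodule.smul_mem _ _ (Submodule.subset_span (by simp))))
    (Submodule.smul_mem _ _ (Submodule.subset_span (by simp))))
    (Submodule.smul_mem _ _ (Submodule.subset_span (by simp)))

theorem main_sym_iff [CharZero k] (I : Submodule k (MvPolynomial (Fin 4) k))
    (hI : ∀ f, f ∈ I ↔ InI k f) (f : MvPolynomial (Fin 4) k) :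
    (f ∈ I ∧ rename iot f = f) ↔
      f ∈ Submodule.span k ({pc k, pl k ^ 2 * ph k, pl k ^ 2 * ph13 k, pl k ^ 2 * ph23 k} :
        Set (MvPolynomial (Fin 4) k)) := by
  constructor
  · rintro ⟨hf, hs⟩
    exact sym_mem k f ((hI f).1 hf) hs
  · intro hf
    induction hf using Submodule.span_induction with
    | mem x hx =>
      simp only [Set.mem_insert_iff, Set.mem_singleton_iff] at hx
      rcases hx with rfl | rfl | rfl | rfl
      · exact ⟨(hI _).2 (gen_c k).1, (gen_c k).2⟩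
      · have := gen_sym k _ (bih_h k) (iot_h k); exact ⟨(hI _).2 this.1, this.2⟩
      · have := gen_sym k _ (bih_h13 k) (iot_h13 k); exact ⟨(hI _).2 this.1, this.2⟩
      · have := gen_sym k _ (bih_h23 k) (iot_h23 k); exact ⟨(hI _).2 this.1, this.2⟩
    | zero => exact ⟨I.zero_mem, map_zero _⟩
    | add x y _ _ hx hy => exact ⟨I.add_mem hx.1 hy.1, by rw [map_add, hx.2, hy.2]⟩
    | smul a x _ hx => exact ⟨I.smul_mem a hx.1, by rw [map_smul, hx.2]⟩

theorem main_anti_iff [CharZero k] (I : Submodule k (MvPolynomial (Fin 4) k))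
    (hI : ∀ f, f ∈ I ↔ InI k f) (f : MvPolynomial (Fin 4) k) :
    (f ∈ I ∧ rename iot f = -f) ↔
      f ∈ Submodule.span k ({pl k * ph k ^ 2, pl k * ph k * ph13 k, pl k * ph k * ph23 k,
        pl k * ph13 k ^ 2, pl k * ph23 k ^ 2, pl k * ph13 k * ph23 k} :
        Set (MvPolynomial (Fin 4) k)) := by
  constructor
  · rintro ⟨hf, hs⟩
    exact anti_mem k f ((hI f).1 hf) hs
  · intro hf
    induction hf using Submodule.span_induction with
    | mem x hx =>
      simp only [Set.mem_insert_iff, Set.mem_singleton_iff] at hx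
      rcases hx with rfl | rfl | rfl | rfl | rfl | rfl
      · have := gen_anti_sq k _ (bih_h k) (iot_h k); exact ⟨(hI _).2 this.1, this.2⟩
      · have := gen_anti k _ _ (bih_h k) (bih_h13 k) (iot_h k) (iot_h13 k)
        exact ⟨(hI _).2 this.1, this.2⟩
      · have := gen_anti k _ _ (bih_h k) (bih_h23 k) (iot_h k) (iot_h23 k)
        exact ⟨(hI _).2 this.1, this.2⟩
      · have := gen_anti_sq k _ (bih_h13 k) (iot_h13 k); exact ⟨(hI _).2 this.1, this.2⟩
      · have := gen_anti_sq k _ (bih_h23 k) (iot_h23 k); exact ⟨(hI _).2 this.1, this.2⟩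
      · have := gen_anti k _ _ (bih_h13 k) (bih_h23 k) (iot_h13 k) (iot_h23 k)
        exact ⟨(hI _).2 this.1, this.2⟩
    | zero => exact ⟨I.zero_mem, by rw [map_zero, neg_zero]⟩
    | add x y _ _ hx hy => exact ⟨I.add_mem hx.1 hy.1, by rw [map_add, hx.2, hy.2, neg_add]⟩
    | smul a x _ hx => exact ⟨I.smul_mem a hx.1, by rw [map_smul, hx.2, smul_neg]⟩

/-! ### linear independence -/

lemma eval_pl (x0 x1 y0 y1 : k) : eval ![x0, x1, y0, y1] (pl k) = x0 * y1 - x1 * y0 := by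
  simp [pl]
lemma eval_ph (x0 x1 y0 y1 : k) : eval ![x0, x1, y0, y1] (ph k) =
    3 * (x0 * y1 + x1 * y0) - 2 * x0 * y0 - 2 * x1 * y1 := by
  simp [ph, ph1, ph2, ph3]; ring
lemma eval_ph13 (x0 x1 y0 y1 : k) : eval ![x0, x1, y0, y1] (ph13 k) = -2 * x0 * y0 := by
  simp [ph13, ph1, ph3]; ring
lemma eval_ph23 (x0 x1 y0 y1 : k) : eval ![x0, x1, y0, y1] (ph23 k) = -2 * x1 * y1 := by
  simp [ph23, ph2, ph3]; ring
lemma eval_pc (x0 x1 y0 y1 : k) : eval ![x0, x1, y0, y1] (pc k) =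
    x0 * x1 * (x0 - x1) * (y0 * y1 * (y0 - y1)) := by
  simp [pc]

theorem lin_indep [CharZero k] : LinearIndependent k
    ![pc k, pl k ^ 2 * ph k, pl k ^ 2 * ph13 k, pl k ^ 2 * ph23 k, pl k * ph k ^ 2,
      pl k * ph k * ph13 k, pl k * ph k * ph23 k, pl k * ph13 k ^ 2, pl k * ph23 k ^ 2,
      pl k * ph13 k * ph23 k] := by
  rw [Fintype.linearIndependent_iff]
  intro g hg
  have hg' : g 0 • pc k + g 1 • (pl k ^ 2 * ph k) + g 2 • (pl k ^ 2 * ph13 k)
      + g 3 • (pl k ^ 2 * ph23 k) + g 4 • (pl k * ph k ^ 2) + g 5 • (pl k * ph k * ph13 k)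
      + g 6 • (pl k * ph k * ph23 k) + g 7 • (pl k * ph13 k ^ 2) + g 8 • (pl k * ph23 k ^ 2)
      + g 9 • (pl k * ph13 k * ph23 k) = 0 := by
    rw [sum_univ_ten] at hg; exact hg
  have ev : ∀ x0 x1 y0 y1 : k,
      g 0 * (x0*x1*(x0-x1)*(y0*y1*(y0-y1))) +
      g 1 * ((x0*y1 - x1*y0)^2*(3*(x0*y1+x1*y0) - 2*x0*y0 - 2*x1*y1)) +
      g 2 * ((x0*y1 - x1*y0)^2*(-2*x0*y0)) +
      g 3 * ((x0*y1 - x1*y0)^2*(-2*x1*y1)) +
      g 4 * ((x0*y1 - x1*y0)*(3*(x0*y1+x1*y0) - 2*x0*y0 - 2*x1*y1)^2) +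
      g 5 * ((x0*y1 - x1*y0)*(3*(x0*y1+x1*y0) - 2*x0*y0 - 2*x1*y1)*(-2*x0*y0)) +
      g 6 * ((x0*y1 - x1*y0)*(3*(x0*y1+x1*y0) - 2*x0*y0 - 2*x1*y1)*(-2*x1*y1)) +
      g 7 * ((x0*y1 - x1*y0)*(-2*x0*y0)^2) +
      g 8 * ((x0*y1 - x1*y0)*(-2*x1*y1)^2) +
      g 9 * ((x0*y1 - x1*y0)*(-2*x0*y0)*(-2*x1*y1)) = 0 := by
    intro x0 x1 y0 y1
    have := congrArg (eval ![x0, x1, y0, y1]) hg'
    simp only [map_add, map_mul, map_pow, map_zero, smul_eq_C_mul, eval_C, eval_pl, eval_ph,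
      eval_ph13, eval_ph23, eval_pc] at this
    linear_combination this
  have p0 := ev 2 1 2 1
  have p1 := ev 0 1 1 0
  have p2 := ev 1 0 0 1
  have p3 := ev 0 1 1 1
  have p4 := ev 1 1 0 1
  have p5 := ev 0 1 1 2
  have p6 := ev 1 2 0 1
  have p7 := ev 1 0 1 1
  have p8 := ev 1 1 1 0
  have p9 := ev 1 0 2 1
  have p10 := ev 2 1 1 0
  have p11 := ev 1 1 1 2
  have p12 := ev 1 2 1 1
  have r0 : g 0 = 0 := by linear_combination (1/4) * p0
  have r1 : g 1 = 0 := by linear_combination (1/6) * p1 + (1/6) * p2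
  have r2 : g 2 = 0 := by linear_combination (1/12) * p1 + (1/12) * p2 + (-1/4) * p7 + (-1/4) * p8
  have r3 : g 3 = 0 := by linear_combination (1/12) * p1 + (1/12) * p2 + (-1/4) * p3 + (-1/4) * p4
  have r4 : g 4 = 0 := by linear_combination (-1/18) * p1 + (1/18) * p2
  have r5 : g 5 = 0 := by linear_combination (1/36) * p1 + (1/18) * p2 + (-1/4) * p7 + (1/12) * p8 + (1/12) * p9
  have r6 : g 6 = 0 := by linear_combination (-1/18) * p1 + (-1/36) * p2 + (1/4) * p3 + (-1/12) * p4 + (-1/12) * p5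
  have r7 : g 7 = 0 := by linear_combination (1/36) * p1 + (1/72) * p2 + (-1/12) * p8 + (1/24) * p9
  have r8 : g 8 = 0 := by linear_combination (-1/72) * p1 + (-1/36) * p2 + (1/12) * p4 + (-1/24) * p5
  have r9 : g 9 = 0 := by linear_combination (1/72) * p1 + (-1/72) * p2 + (1/4) * p3 + (-5/12) * p4 + (-1/24) * p5 + (-1/4) * p7 + (1/24) * p8 + (1/24) * p9 + (1/8) * p11
  intro i
  fin_cases i
  · exact r0
  · exact r1
  · exact r2
  · exact r3
  · exact r4
  · exact r5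
  · exact r6
  · exact r7
  · exact r8
  · exact r9

end
end Groth.Agent.H4.SpinB
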