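import Mathlib
import Groth.Prelude
import Groth.Agent.H4.ConstPl2
import Groth.Agent.Lib.Helper5.FunFld.Ext2

set_option autoImplicit false
universe u v w
open TensorProduct

namespace Groth.Agent.H4.SplitPl

open FunFld IntermediateField
open scoped IntermediateField.algebraAdjoinAdjoin

section kbar

variable {k : Type u} {kb : Type u} {K : Type v} [Field k] [Field kb] [Field K]
  [Algebra k kb] [Algebra k K]

/-- the map `E ⊗ K → kb ⊗ K` for an intermediate field `E`. -/
noncomputable def jmap (E : IntermediateField k kb) : E ⊗[k] K →ₐ[k] kb ⊗[k] K :=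
  Algebra.TensorProduct.map E.val (AlgHom.id k K)

theorem jmap_tmul (E : IntermediateField k kb) (c : E) (y : K) :
    jmap (K := K) E (c ⊗ₜ[k] y) = (c : kb) ⊗ₜ[k] y := by
  simp [jmap]

theorem jmap_injective (E : IntermediateField k kb) : Function.Injective (jmap (K := K) E) := by
  have h1 := Module.Flat.rTensor_preserves_injective_linearMap (M := K) E.val.toLinearMap
    (fun a b hab => by simpa using hab)
  have h2 : ∀ t, jmap (K := K) E t = LinearMap.rTensor K E.val.toLinearMap t := by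
    intro t
    induction t using TensorProduct.induction_on with
    | zero => simp
    | tmul c y => simp [jmap_tmul]
    | add a b ha hb => rw [map_add, map_add, ha, hb]
  intro a b hab
  apply h1
  rw [← h2, ← h2, hab]

theorem jmap_range_mono {E E' : IntermediateField k kb} (h : E ≤ E') :
    Set.range (jmap (K := K) E) ⊆ Set.range (jmap (K := K) E') := by
  rintro _ ⟨s, rfl⟩
  refine ⟨Algebra.TensorProduct.map (IntermediateField.inclusion h) (AlgHom.id k K) s, ?_⟩
  induction s using TensorProduct.induction_on with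
  | zero => simp
  | tmul c y => simp [jmap_tmul]
  | add a b ha hb => rw [map_add, map_add, map_add, ha, hb]

theorem exists_fin [Algebra.IsAlgebraic k kb] (t : kb ⊗[k] K) :
    ∃ E : IntermediateField k kb, FiniteDimensional k E ∧ t ∈ Set.range (jmap (K := K) E) := by
  induction t using TensorProduct.induction_on with
  | zero => exact ⟨⊥, inferInstance, 0, map_zero _⟩
  | tmul c y =>
    refine ⟨IntermediateField.adjoin k {c}, ?_,
      ⟨c, IntermediateField.mem_adjoin_simple_self k c⟩ ⊗ₜ y, jmap_tmul _ _ _⟩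
    exact IntermediateField.adjoin.finiteDimensional (Algebra.IsIntegral.isIntegral c)
  | add a b ha hb =>
    obtain ⟨E₁, h₁, ha⟩ := ha
    obtain ⟨E₂, h₂, hb⟩ := hb
    haveI := h₁
    haveI := h₂
    refine ⟨E₁ ⊔ E₂, inferInstance, ?_⟩
    obtain ⟨a', ha'⟩ := jmap_range_mono (le_sup_left : E₁ ≤ E₁ ⊔ E₂) ha
    obtain ⟨b', hb'⟩ := jmap_range_mono (le_sup_right : E₂ ≤ E₁ ⊔ E₂) hb
    exact ⟨a' + b', by rw [map_add, ha', hb']⟩

theorem isField_tensor [Algebra.IsAlgebraic k kb] (hg : IsGeometric k K) :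
    IsField (kb ⊗[k] K) := by
  refine ⟨⟨0, 1, fun h01 => ?_⟩, mul_comm, fun {t} ht => ?_⟩
  · have hF := hg (⊥ : IntermediateField k kb) inferInstance
    obtain ⟨a, b, hab⟩ := hF.exists_pair_ne
    have h10 : (0 : (⊥ : IntermediateField k kb) ⊗[k] K) = 1 :=
      jmap_injective ⊥ (by rw [map_zero]; exact h01.trans (jmap (K := K) ⊥).map_one.symm)
    have h0 : ∀ z : (⊥ : IntermediateField k kb) ⊗[k] K, z = 0 := fun z => by
      rw [← mul_one z, ← h10, mul_zero]
    exact hab ((h0 a).trans (h0 b).symm)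
  · obtain ⟨E, hE, s, rfl⟩ := exists_fin t
    have hs : s ≠ 0 := fun h => ht (by rw [h, map_zero])
    obtain ⟨s', hs'⟩ := (hg E hE).mul_inv_cancel hs
    exact ⟨jmap E s', by rw [← map_mul, hs']; exact (jmap (K := K) E).map_one⟩

theorem exists_Kbar [Algebra.IsAlgebraic k kb] (hg : IsGeometric k K) :
    ∃ (Kb : Type (max u v)) (_ : Field Kb) (_ : Algebra K Kb) (_ : Algebra kb Kb)
      (_ : Algebra k Kb) (_ : IsScalarTower k kb Kb) (_ : IsScalarTower k K Kb),
      Function.Bijective (Algebra.TensorProduct.productMap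
        (IsScalarTower.toAlgHom k kb Kb) (IsScalarTower.toAlgHom k K Kb)) := by
  letI : Algebra K (kb ⊗[k] K) := Algebra.TensorProduct.rightAlgebra
  have hF : IsField (kb ⊗[k] K) := isField_tensor hg
  haveI : Nontrivial (kb ⊗[k] K) := hF.nontrivial
  obtain ⟨m, hm⟩ := Ideal.exists_maximal (kb ⊗[k] K)
  have hm0 : ∀ t ∈ m, t = 0 := by
    intro t ht
    by_contra h0
    obtain ⟨t', ht'⟩ := hF.mul_inv_cancel h0
    exact hm.ne_top ((Ideal.eq_top_iff_one m).2 (ht' ▸ m.mul_mem_right t' ht))
  haveI := hm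
  letI : Field ((kb ⊗[k] K) ⧸ m) := Ideal.Quotient.field m
  refine ⟨(kb ⊗[k] K) ⧸ m, inferInstance, inferInstance, inferInstance, inferInstance,
    inferInstance, inferInstance, ?_⟩
  have key : ∀ t, Algebra.TensorProduct.productMap
      (IsScalarTower.toAlgHom k kb ((kb ⊗[k] K) ⧸ m))
      (IsScalarTower.toAlgHom k K ((kb ⊗[k] K) ⧸ m)) t = Ideal.Quotient.mk m t := by
    intro t
    induction t using TensorProduct.induction_on with
    | zero => simp
    | tmul c y =>
      have e1 : algebraMap kb ((kb ⊗[k] K) ⧸ m) c = Ideal.Quotient.mk m (c ⊗ₜ[k] (1 : K)) := rfl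
      have e2 : algebraMap K ((kb ⊗[k] K) ⧸ m) y = Ideal.Quotient.mk m ((1 : kb) ⊗ₜ[k] y) := rfl
      rw [Algebra.TensorProduct.productMap_apply_tmul, IsScalarTower.coe_toAlgHom',
        IsScalarTower.coe_toAlgHom', e1, e2, ← map_mul, Algebra.TensorProduct.tmul_mul_tmul,
        mul_one, one_mul]
    | add a b ha hb => rw [map_add, map_add, ha, hb]
  constructor
  · intro a b hab
    rw [key, key, Ideal.Quotient.eq] at hab
    exact sub_eq_zero.1 (hm0 _ hab)
  · intro z
    obtain ⟨t, rfl⟩ := Ideal.Quotient.mk_surjective z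
    exact ⟨t, key t⟩

end kbar

section pre

theorem linearIndependent_pow_of_transcendental {k A : Type*} [Field k] [CommRing A] [Algebra k A]
    {x : A} (hx : Transcendental k x) : LinearIndependent k (fun m : ℕ => x ^ m) := by
  have h := (Polynomial.basisMonomials k).linearIndependent.map' (Polynomial.aeval x).toLinearMap
    (LinearMap.ker_eq_bot.2 (by exact transcendental_iff_injective.1 hx))
  have e : (⇑(Polynomial.aeval x).toLinearMap ∘ ⇑(Polynomial.basisMonomials k)) =
      fun m : ℕ => x ^ m := by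
    funext m
    simp [Polynomial.coe_basisMonomials]
  rwa [e] at h

theorem linearIndependent_adjoin_of_pow {k₁ K₁ : Type*} [Field k₁] [Field K₁] [Algebra k₁ K₁]
    {ι : Type*} (xb : K₁) (v : ι → K₁)
    (h3 : LinearIndependent k₁ (fun p : ℕ × ι => xb ^ p.1 * v p.2)) :
    LinearIndependent (Algebra.adjoin k₁ ({xb} : Set K₁)) v := by
  classical
  rw [linearIndependent_iff']
  intro s g hg i hi
  have hg' : ∀ j, ∃ p : Polynomial k₁, Polynomial.aeval xb p = (g j : K₁) := by
    intro j
    have : (g j : K₁) ∈ (Polynomial.aeval xb : Polynomial k₁ →ₐ[k₁] K₁).range := by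
      rw [← Algebra.adjoin_singleton_eq_range_aeval]
      exact (g j).2
    exact (AlgHom.mem_range _).1 this
  choose p hp using hg'
  obtain ⟨N, hN⟩ : ∃ N, ∀ j ∈ s, (p j).natDegree < N :=
    ⟨(s.sup fun j => (p j).natDegree) + 1, fun j hj =>
      Nat.lt_succ_of_le (Finset.le_sup (f := fun j => (p j).natDegree) hj)⟩
  have hsum : ∑ q ∈ Finset.range N ×ˢ s, (p q.2).coeff q.1 • (xb ^ q.1 * v q.2) = 0 := by
    rw [Finset.sum_product_right]
    refine Eq.trans ?_ hg
    refine Finset.sum_congr rfl (fun j hj => ?_)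
    have e1 : (g j • v j : K₁) = (g j : K₁) * v j := rfl
    rw [e1, ← hp j, Polynomial.aeval_eq_sum_range' (hN j hj), Finset.sum_mul]
    refine Finset.sum_congr rfl (fun m _ => ?_)
    rw [smul_mul_assoc]
  have hcoef := linearIndependent_iff'.1 h3 (Finset.range N ×ˢ s)
    (fun q => (p q.2).coeff q.1) hsum
  have hgi : (g i : K₁) = 0 := by
    rw [← hp i, Polynomial.aeval_eq_sum_range' (hN i hi)]
    refine Finset.sum_eq_zero (fun m hm => ?_)
    have := hcoef (m, i) (Finset.mem_product.2 ⟨hm, hi⟩)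
    simp only at this
    rw [this, zero_smul]
  exact Subtype.ext hgi

theorem linearIndependent_adjoinField_of_pow {k₁ K₁ : Type*} [Field k₁] [Field K₁] [Algebra k₁ K₁]
    {ι : Type*} (xb : K₁) (v : ι → K₁)
    (h3 : LinearIndependent k₁ (fun p : ℕ × ι => xb ^ p.1 * v p.2)) :
    LinearIndependent (IntermediateField.adjoin k₁ ({xb} : Set K₁)) v := by
  have hR := linearIndependent_adjoin_of_pow xb v h3
  rwa [LinearIndependent.iff_fractionRing (Algebra.adjoin k₁ ({xb} : Set K₁))
    (IntermediateField.adjoin k₁ ({xb} : Set K₁))] at hR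

end pre

section degree

variable {k : Type*} {k₁ : Type*} {K : Type*} {K₁ : Type*} [Field k] [Field k₁] [Field K] [Field K₁]
  [Algebra k k₁] [Algebra k K] [Algebra K K₁] [Algebra k₁ K₁] [Algebra k K₁]
  [IsScalarTower k k₁ K₁] [IsScalarTower k K K₁]

theorem transcendental_algebraMap_of_isAlgebraic [Algebra.IsAlgebraic k k₁] {x : K}
    (hx : Transcendental k x) : Transcendental k₁ (algebraMap K K₁ x) := by
  intro halg
  have h1 : IsAlgebraic k (algebraMap K K₁ x) := halg.restrictScalars k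
  exact hx ((isAlgebraic_algebraMap_iff (algebraMap K K₁).injective).1 h1)

theorem algebraMap_mem_adjoin (x : K) {f : K} (hf : f ∈ IntermediateField.adjoin k ({x} : Set K)) :
    algebraMap K K₁ f ∈ IntermediateField.adjoin k₁ ({algebraMap K K₁ x} : Set K₁) := by
  have hle : IntermediateField.adjoin k ({x} : Set K) ≤
      ((IntermediateField.adjoin k₁ ({algebraMap K K₁ x} : Set K₁)).restrictScalars k).comap
        (IsScalarTower.toAlgHom k K K₁) := by
    rw [IntermediateField.adjoin_le_iff]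
    intro y hy
    rw [Set.mem_singleton_iff] at hy
    subst hy
    show algebraMap K K₁ y ∈ IntermediateField.adjoin k₁ ({algebraMap K K₁ y} : Set K₁)
    exact IntermediateField.mem_adjoin_simple_self k₁ _
  exact hle hf

theorem finrank_le_of_surjective
    (h : Function.Surjective (Algebra.TensorProduct.productMap
      (IsScalarTower.toAlgHom k k₁ K₁) (IsScalarTower.toAlgHom k K K₁)))
    (x : K) [FiniteDimensional (IntermediateField.adjoin k ({x} : Set K)) K] :
    Module.finrank (IntermediateField.adjoin k₁ ({algebraMap K K₁ x} : Set K₁)) K₁ ≤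
      Module.finrank (IntermediateField.adjoin k ({x} : Set K)) K := by
  classical
  set F := IntermediateField.adjoin k ({x} : Set K) with hF
  set F₁ := IntermediateField.adjoin k₁ ({algebraMap K K₁ x} : Set K₁) with hF₁
  let b := Module.finBasis F K
  let b' : Fin (Module.finrank F K) → K₁ := fun i => algebraMap K K₁ (b i)
  have hspan : Submodule.span F₁ (Set.range b') = ⊤ := by
    rw [eq_top_iff]
    rintro w -
    refine Groth.Agent.H4.ConstPl2.induction_Kbar h
      (fun w => w ∈ Submodule.span F₁ (Set.range b')) (zero_mem _) ?_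
      (fun a c ha hc => add_mem ha hc) w
    intro c y
    have hy : y = ∑ i, ((b.repr y i : F) : K) * b i := by
      conv_lhs => rw [← b.sum_repr y]
      refine Finset.sum_congr rfl (fun i _ => ?_)
      rfl
    rw [hy, map_sum, Finset.mul_sum]
    refine Submodule.sum_mem _ (fun i _ => ?_)
    rw [map_mul, ← mul_assoc]
    have hmem : algebraMap k₁ K₁ c * algebraMap K K₁ ((b.repr y i : F) : K) ∈ F₁ :=
      mul_mem (F₁.algebraMap_mem c) (algebraMap_mem_adjoin x (b.repr y i).2)
    have e1 : algebraMap k₁ K₁ c * algebraMap K K₁ ((b.repr y i : F) : K) * algebraMap K K₁ (b i) =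
        (⟨_, hmem⟩ : F₁) • b' i := rfl
    rw [e1]
    exact Submodule.smul_mem _ _ (Submodule.subset_span ⟨i, rfl⟩)
  calc Module.finrank F₁ K₁ = Module.finrank F₁ (⊤ : Submodule F₁ K₁) := (finrank_top F₁ K₁).symm
    _ = (Set.range b').finrank F₁ := by rw [Set.finrank, hspan]
    _ ≤ Fintype.card (Fin (Module.finrank F K)) := finrank_range_le_card b'
    _ = Module.finrank F K := Fintype.card_fin _

theorem finrank_le_of_injective
    (h : Function.Injective (Algebra.TensorProduct.productMap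
      (IsScalarTower.toAlgHom k k₁ K₁) (IsScalarTower.toAlgHom k K K₁)))
    {x : K} (hx : Transcendental k x)
    [FiniteDimensional (IntermediateField.adjoin k ({x} : Set K)) K]
    [FiniteDimensional (IntermediateField.adjoin k₁ ({algebraMap K K₁ x} : Set K₁)) K₁] :
    Module.finrank (IntermediateField.adjoin k ({x} : Set K)) K ≤
      Module.finrank (IntermediateField.adjoin k₁ ({algebraMap K K₁ x} : Set K₁)) K₁ := by
  classical
  set F := IntermediateField.adjoin k ({x} : Set K) with hF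
  let b := Module.finBasis F K
  let xF : F := ⟨x, IntermediateField.mem_adjoin_simple_self k x⟩
  have hpow : LinearIndependent k (fun m : ℕ => xF ^ m) := by
    refine LinearIndependent.of_comp F.val.toLinearMap ?_
    have e : (⇑F.val.toLinearMap ∘ fun m : ℕ => xF ^ m) = fun m : ℕ => x ^ m := by
      funext m
      simp [xF]
    rw [e]
    exact linearIndependent_pow_of_transcendental hx
  have h1 : LinearIndependent k (fun p : ℕ × Fin (Module.finrank F K) => xF ^ p.1 • b p.2) :=
    linearIndependent_smul hpow b.linearIndependent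
  have h2 := Module.Flat.linearIndependent_one_tmul (S := k₁) h1
  let g : k₁ ⊗[k] K →ₐ[k₁] K₁ :=
    Algebra.TensorProduct.productLeftAlgHom (Algebra.ofId k₁ K₁) (IsScalarTower.toAlgHom k K K₁)
  have hg : ∀ t, g t = Algebra.TensorProduct.productMap
      (IsScalarTower.toAlgHom k k₁ K₁) (IsScalarTower.toAlgHom k K K₁) t := by
    intro t
    induction t using TensorProduct.induction_on with
    | zero => simp
    | tmul c x => simp [g]
    | add a b ha hb => rw [map_add, map_add, ha, hb]
  have h3 : LinearIndependent k₁ (fun p : ℕ × Fin (Module.finrank F K) =>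
      algebraMap K K₁ x ^ p.1 * algebraMap K K₁ (b p.2)) := by
    have h3' := h2.map' g.toLinearMap
      (LinearMap.ker_eq_bot.2 (fun a c hac => h (by rw [← hg, ← hg]; exact hac)))
    have e : (⇑g.toLinearMap ∘ fun p : ℕ × Fin (Module.finrank F K) =>
        (1 : k₁) ⊗ₜ[k] (xF ^ p.1 • b p.2)) =
        fun p => algebraMap K K₁ x ^ p.1 * algebraMap K K₁ (b p.2) := by
      funext p
      show g ((1 : k₁) ⊗ₜ[k] (xF ^ p.1 • b p.2)) = _
      have e2 : (xF ^ p.1 • b p.2 : K) = x ^ p.1 * b p.2 := by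
        rw [Algebra.smul_def, map_pow]; rfl
      rw [hg, Algebra.TensorProduct.productMap_apply_tmul, map_one, one_mul, e2]
      simp
    rw [← e]
    exact h3'
  have hR := linearIndependent_adjoinField_of_pow (algebraMap K K₁ x)
    (fun i => algebraMap K K₁ (b i)) h3
  have := hR.fintype_card_le_finrank
  simpa using this

end degree

section restrict

variable {k₀ X Y : Type*} [Field k₀] [Field X] [Field Y] [Algebra k₀ X] [Algebra X Y]
  [Algebra.IsAlgebraic X Y]

theorem exists_place_below (hX : IsFF1 k₀ X) (w : Valuation Y (WithZero (Multiplicative ℤ)))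
    (hw : Function.Surjective w) (hk : ∀ c : k₀, w (algebraMap X Y (algebraMap k₀ X c)) ≤ 1) :
    ∃ (P : Place k₀ X) (e : ℕ), e ≠ 0 ∧ ∀ y : X, w (algebraMap X Y y) = P.1 y ^ e := by
  letI : Algebra k₀ Y := ((algebraMap X Y).comp (algebraMap k₀ X)).toAlgebra
  haveI : IsScalarTower k₀ X Y := IsScalarTower.of_algebraMap_eq (fun _ => rfl)
  let Q : Place k₀ Y := ⟨w, hk, hw⟩
  obtain ⟨P, e, he⟩ := exists_isOverWith hX Q
  exact ⟨P, e, isOverWith_ne_zero he, he⟩

end restrict

section core

variable {k : Type u} {kb : Type u} {K : Type v} {Kb : Type w} [Field k] [Field kb] [Field K]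
  [Field Kb] [Algebra k kb] [Algebra k K] [Algebra K Kb] [Algebra kb Kb] [Algebra k Kb]
  [IsScalarTower k kb Kb] [IsScalarTower k K Kb]

theorem deg_eq_one_of_algClosed [IsAlgClosed kb] (hKb : IsFF1 kb Kb) (Qb : Place kb Kb) :
    Qb.deg = 1 := by
  haveI h2 : @Module.Finite kb (IsLocalRing.ResidueField Qb.O) _ _ Algebra.toModule :=
    W.Place.finiteDimensional_residueField Qb hKb
  haveI : Algebra.IsIntegral kb (IsLocalRing.ResidueField Qb.O) := Algebra.IsIntegral.of_finite kb _
  have hbij : Function.Bijective (algebraMap kb (IsLocalRing.ResidueField Qb.O)) :=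
    IsAlgClosed.algebraMap_bijective_of_isIntegral
  have e : kb ≃ₗ[kb] IsLocalRing.ResidueField Qb.O :=
    (AlgEquiv.ofBijective (Algebra.ofId kb _) hbij).toLinearEquiv
  have h3 : Module.finrank kb (IsLocalRing.ResidueField Qb.O) = 1 := by
    rw [← e.finrank_eq, Module.finrank_self]
  exact h3

theorem core [IsAlgClosure k kb]
    (h : Function.Bijective (Algebra.TensorProduct.productMap
      (IsScalarTower.toAlgHom k kb Kb) (IsScalarTower.toAlgHom k K Kb)))
    (hK : IsFunctionField k K) {x : K} (hx : Transcendental k x)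
    (k' : IntermediateField k kb) [FiniteDimensional k k']
    (hk' : ∀ Qb : Place kb Kb, Qb.1 (algebraMap K Kb x) < 1 →
      (∃ z ∈ Algebra.adjoin K (Set.range fun c : k' => algebraMap kb Kb c),
        Qb.1 z = WithZero.exp (-1)) ∧
      ∀ Q' : Place kb Kb,
        (∃ e : ℕ, ∀ z ∈ Algebra.adjoin K (Set.range fun c : k' => algebraMap kb Kb c),
          Q'.1 z = Qb.1 z ^ e) → Q' = Qb)
    (K' : Type v) [Field K'] [Algebra K K'] [Algebra k' K'] [Algebra k K']
    [IsScalarTower k k' K'] [IsScalarTower k K K']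
    (h' : Function.Bijective (Algebra.TensorProduct.productMap
      (IsScalarTower.toAlgHom k k' K') (IsScalarTower.toAlgHom k K K')))
    (Q : Place k' K') (hQ : Q.1 (algebraMap K K' x) < 1) : Q.deg = 1 := by
  classical
  haveI : Algebra.IsAlgebraic k kb := IsAlgClosure.isAlgebraic
  haveI : IsAlgClosed kb := IsAlgClosure.isAlgClosed k
  -- the embedding φ
  let e := AlgEquiv.ofBijective _ h'
  let ψ : k' ⊗[k] K →ₐ[k] Kb := Algebra.TensorProduct.productMap
    ((IsScalarTower.toAlgHom k kb Kb).comp k'.val) (IsScalarTower.toAlgHom k K Kb)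
  let φ : K' →ₐ[k] Kb := ψ.comp e.symm.toAlgHom
  have hφK : ∀ y : K, φ (algebraMap K K' y) = algebraMap K Kb y := by
    intro y
    have e1 : algebraMap K K' y = e ((1 : k') ⊗ₜ[k] y) := by
      simp [e]
    rw [e1]
    simp [φ, ψ]
  have hφk : ∀ c : k', φ (algebraMap k' K' c) = algebraMap kb Kb (c : kb) := by
    intro c
    have e1 : algebraMap k' K' c = e (c ⊗ₜ[k] (1 : K)) := by
      simp [e]
    rw [e1]
    simp [φ, ψ]
  letI : Algebra K' Kb := φ.toRingHom.toAlgebra
  have hφK' : ∀ y : K, algebraMap K' Kb (algebraMap K K' y) = algebraMap K Kb y := hφK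
  have hφk' : ∀ c : k', algebraMap K' Kb (algebraMap k' K' c) = algebraMap kb Kb (c : kb) := hφk
  haveI : IsScalarTower K K' Kb := IsScalarTower.of_algebraMap_eq (fun y => (hφK' y).symm)
  haveI : Algebra.IsAlgebraic K Kb := Groth.Agent.H4.ConstPl2.isAlgebraic_Kbar h.surjective
  haveI : Algebra.IsAlgebraic K' Kb := Algebra.IsAlgebraic.tower_top (K := K) K'
  haveI : Algebra.IsAlgebraic k k' := Algebra.IsAlgebraic.of_finite k k'
  have hKb : IsFF1 kb Kb := Groth.Agent.H4.ConstPl2.isFF1_Kbar hK h.surjective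
  have hK' : IsFF1 k' K' := Groth.Agent.H4.ConstPl2.isFF1_Kbar hK h'.surjective
  have hxb : Transcendental kb (algebraMap K Kb x) := transcendental_algebraMap_of_isAlgebraic hx
  have hx' : Transcendental k' (algebraMap K K' x) := transcendental_algebraMap_of_isAlgebraic hx
  have hφx : algebraMap K' Kb (algebraMap K K' x) = algebraMap K Kb x := hφK' x
  set xb := algebraMap K Kb x with hxbdef
  set x' := algebraMap K K' x with hx'def
  have hx'0 : x' ≠ 0 := by
    intro h0
    exact hx' (h0 ▸ isAlgebraic_zero)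
  let Sb : Finset (Place kb Kb) := (W.finite_zeros hKb hxb).toFinset
  have hSb : ∀ Qb, Qb ∈ Sb ↔ Qb.1 xb < 1 := fun Qb => by
    simp only [Sb, Set.Finite.mem_toFinset, Set.mem_ofPred_eq]
  let S' : Finset (Place k' K') := (W.finite_zeros hK' hx').toFinset
  have hS' : ∀ Q', Q' ∈ S' ↔ Q'.1 x' < 1 := fun Q' => by
    simp only [S', Set.Finite.mem_toFinset, Set.mem_ofPred_eq]
  -- restriction of places
  have hρ : ∀ Qb : Place kb Kb, ∃ (Q' : Place k' K') (e : ℕ), e ≠ 0 ∧
      ∀ y : K', Qb.1 (algebraMap K' Kb y) = Q'.1 y ^ e := by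
    intro Qb
    refine exists_place_below hK' Qb.1 Qb.surj (fun c => ?_)
    rw [hφk']
    exact Qb.v_algebraMap_le _
  choose ρ eρ heρ0 heρ using hρ
  have hmemK' : ∀ z ∈ Algebra.adjoin K (Set.range fun c : k' => algebraMap kb Kb c),
      ∃ z' : K', algebraMap K' Kb z' = z := by
    intro z hz
    have hle : Algebra.adjoin K (Set.range fun c : k' => algebraMap kb Kb c) ≤
        (IsScalarTower.toAlgHom K K' Kb).range := by
      refine Algebra.adjoin_le ?_
      rintro _ ⟨c, rfl⟩
      exact ⟨algebraMap k' K' c, hφk' c⟩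
    exact (AlgHom.mem_range _).1 (hle hz)
  have he1 : ∀ Qb ∈ Sb, eρ Qb = 1 := by
    intro Qb hQb
    obtain ⟨⟨z, hz, hzv⟩, -⟩ := hk' Qb ((hSb Qb).1 hQb)
    obtain ⟨z', rfl⟩ := hmemK' z hz
    rw [heρ Qb z'] at hzv
    have hv0 : (ρ Qb).1 z' ≠ 0 := by
      intro h0
      rw [h0, zero_pow (heρ0 Qb)] at hzv
      exact WithZero.exp_ne_zero hzv.symm
    rw [← WithZero.exp_log hv0, ← WithZero.exp_nsmul, WithZero.exp_inj] at hzv
    have hdvd : ((eρ Qb : ℕ) : ℤ) ∣ 1 :=
      ⟨-(WithZero.log ((ρ Qb).1 z')), by rw [nsmul_eq_mul] at hzv; linarith⟩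
    have := Int.eq_one_of_dvd_one (Int.natCast_nonneg _) hdvd
    exact_mod_cast this
  have hρinj : Set.InjOn ρ (Sb : Set (Place kb Kb)) := by
    intro Q₁ h₁ Q₂ h₂ h12
    have h₂' := (hSb Q₂).1 (Finset.mem_coe.1 h₂)
    refine (hk' Q₂ h₂').2 Q₁ ⟨1, fun z hz => ?_⟩
    obtain ⟨z', rfl⟩ := hmemK' z hz
    rw [heρ Q₁ z', heρ Q₂ z', he1 Q₁ (Finset.mem_coe.1 h₁), he1 Q₂ (Finset.mem_coe.1 h₂), h12]
    simp only [pow_one]
  have hρS : ∀ Qb ∈ Sb, ρ Qb ∈ S' := by
    intro Qb hQb
    rw [hS']
    have h1 := (hSb Qb).1 hQb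
    rw [← hφx, heρ Qb x', he1 Qb hQb, pow_one] at h1
    exact h1
  have hord : ∀ Qb ∈ Sb, Qb.ord xb = (ρ Qb).ord x' := by
    intro Qb hQb
    rw [Place.ord, Place.ord, ← hφx, heρ Qb x', he1 Qb hQb, pow_one]
  -- degree formulas
  have hA := W.sum_ord_mul_deg_zeros hK' hx' S' hS'
  have hB := W.sum_ord_mul_deg_zeros hKb hxb Sb hSb
  haveI : FiniteDimensional (IntermediateField.adjoin k ({x} : Set K)) K :=
    hK.isFF1.finiteDimensional_adjoin hx
  haveI : FiniteDimensional (IntermediateField.adjoin kb ({xb} : Set Kb)) Kb :=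
    hKb.finiteDimensional_adjoin hxb
  have hC1 := finrank_le_of_surjective (k₁ := k') (K₁ := K') h'.surjective x
  have hC2 := finrank_le_of_injective (k₁ := kb) (K₁ := Kb) h.injective hx
  have hB' : ∑ Qb ∈ Sb, Qb.ord xb =
      (Module.finrank (IntermediateField.adjoin kb ({xb} : Set Kb)) Kb : ℤ) := by
    rw [← hB]
    refine Finset.sum_congr rfl (fun Qb _ => ?_)
    rw [deg_eq_one_of_algClosed hKb Qb]
    simp
  have hD : ∑ Qb ∈ Sb, Qb.ord xb ≤ ∑ Q' ∈ S', Q'.ord x' := by
    calc ∑ Qb ∈ Sb, Qb.ord xb = ∑ Qb ∈ Sb, (ρ Qb).ord x' := Finset.sum_congr rfl hord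
      _ = ∑ Q' ∈ Sb.image ρ, Q'.ord x' := (Finset.sum_image (f := fun Q' : Place k' K' => Q'.ord x') hρinj).symm
      _ ≤ ∑ Q' ∈ S', Q'.ord x' := by
        refine Finset.sum_le_sum_of_subset_of_nonneg ?_ ?_
        · intro Q' hQ'
          obtain ⟨Qb, hQb, rfl⟩ := Finset.mem_image.1 hQ'
          exact hρS Qb hQb
        · intro Q' hQ' _
          exact ((Q'.v_lt_one_iff hx'0).1 ((hS' Q').1 hQ')).le
  have hQS : Q ∈ S' := (hS' Q).2 hQ
  by_contra hne
  have hdeg2 : 2 ≤ Q.deg := by
    have := W.Place.deg_pos Q hK'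
    omega
  have hlt : ∑ Q' ∈ S', Q'.ord x' < ∑ Q' ∈ S', Q'.ord x' * (Q'.deg : ℤ) := by
    refine Finset.sum_lt_sum (fun Q' hQ' => ?_) ⟨Q, hQS, ?_⟩
    · have h1 := (Q'.v_lt_one_iff hx'0).1 ((hS' Q').1 hQ')
      have h2 : (1 : ℤ) ≤ Q'.deg := by exact_mod_cast W.Place.deg_pos Q' hK'
      nlinarith
    · have h1 := (Q.v_lt_one_iff hx'0).1 hQ
      have h2 : (2 : ℤ) ≤ Q.deg := by exact_mod_cast hdeg2
      nlinarith
  have hfin : (Module.finrank (IntermediateField.adjoin k' ({x'} : Set K')) K' : ℤ) ≤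
      Module.finrank (IntermediateField.adjoin kb ({xb} : Set Kb)) Kb := by
    exact_mod_cast hC1.trans hC2
  linarith

end core

section main

variable {k : Type u} {K : Type v} [Field k] [Field K] [Algebra k K]

theorem main (hK : IsFunctionField k K) (hg : IsGeometric k K) (P : Place k K) :
    ∃ (k' : Type u) (_ : Field k') (_ : Algebra k k'), FiniteDimensional k k' ∧
      ∀ (K' : Type v) [Field K'] [Algebra K K'] [Algebra k' K'] [Algebra k K']
        [IsScalarTower k k' K'] [IsScalarTower k K K'],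
        Function.Bijective (Algebra.TensorProduct.productMap
          (IsScalarTower.toAlgHom k k' K') (IsScalarTower.toAlgHom k K K')) →
        ∀ Q : Place k' K', P.1.HasExtension Q.1 → Q.deg = 1 := by
  classical
  obtain ⟨Kb, _, _, _, _, _, _, h⟩ := exists_Kbar (kb := AlgebraicClosure k) hg
  obtain ⟨x, hxv⟩ := P.exists_uniformizer
  have hx0 : x ≠ 0 := by
    rintro rfl
    rw [map_zero] at hxv
    exact WithZero.exp_ne_zero hxv.symm
  have hx1 : P.1 x < 1 := by
    rw [hxv, ← WithZero.exp_zero, WithZero.exp_lt_exp]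
    norm_num
  have hx : Transcendental k x := transcendental_of_v_lt_one _ P.v_algebraMap_le hx0 hx1
  have hKb : IsFF1 (AlgebraicClosure k) Kb := Groth.Agent.H4.ConstPl2.isFF1_Kbar hK h.surjective
  have hxb : Transcendental (AlgebraicClosure k) (algebraMap K Kb x) :=
    transcendental_algebraMap_of_isAlgebraic hx
  let Sb : Finset (Place (AlgebraicClosure k) Kb) := (W.finite_zeros hKb hxb).toFinset
  choose kf hkf1 hkf2 hkf3 using
    fun Qb : Place (AlgebraicClosure k) Kb => Groth.Agent.H4.ConstPl2.main h hK Qb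
  let k' : IntermediateField k (AlgebraicClosure k) := ⨆ Qb ∈ Sb, kf Qb
  haveI hfin : FiniteDimensional k k' :=
    IntermediateField.finiteDimensional_iSup_of_finset' (fun Qb _ => hkf1 Qb)
  refine ⟨k', inferInstance, inferInstance, hfin, ?_⟩
  intro K' _ _ _ _ _ _ h' Q hPQ
  refine core h hK hx k' ?_ K' h' Q ?_
  · intro Qb hQb
    have hle : kf Qb ≤ k' :=
      le_iSup₂ (f := fun Qb (_ : Qb ∈ Sb) => kf Qb) Qb ((Set.Finite.mem_toFinset _).2 hQb)
    have hadj : Algebra.adjoin K (Set.range fun c : kf Qb => algebraMap (AlgebraicClosure k) Kb c) ≤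
        Algebra.adjoin K (Set.range fun c : k' => algebraMap (AlgebraicClosure k) Kb c) := by
      apply Algebra.adjoin_mono
      rintro _ ⟨c, rfl⟩
      exact ⟨⟨c, hle c.2⟩, rfl⟩
    obtain ⟨z, hz, hzv⟩ := hkf2 Qb
    refine ⟨⟨z, hadj hz, hzv⟩, ?_⟩
    rintro Q' ⟨e, he⟩
    exact hkf3 Qb Q' ⟨e, fun z hz => he z (hadj hz)⟩
  · have h1 := hPQ.val_isEquiv_comap
    exact (Valuation.isEquiv_iff_val_lt_one.1 h1).1 hx1

end main

end Groth.Agent.H4.SplitPl
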