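import Mathlib
import Groth.Prelude.Def_DerSch2
import Groth.Agent.H4.NT6
import Groth.Agent.H4.TilD4
import Groth.Agent.H4.PSch5
import Groth.Agent.Lib.Lead.QC.FreeHom
import Groth.Agent.Lib.Lead.QC.Karoubi
import Groth.Agent.Lib.Lead.QC.Stalk

set_option autoImplicit false
universe u
attribute [local instance] HasDerivedCategory.standard
open CategoryTheory CategoryTheory.Limits AlgebraicGeometry DerivedCategory Opposite
open Groth.Agent.LD.QC

namespace Groth.Agent.H4.Spread1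

section Spread


variable {X : Scheme.{u}}

/-- finitely many germs of functions are defined on a common neighbourhood -/
theorem exists_sections_of_germs (x : X) {ι : Type*} [Finite ι] (a : ι → X.presheaf.stalk x) :
    ∃ (V : X.Opens) (hx : x ∈ V) (s : ι → Γ(X, V)), ∀ k, X.presheaf.germ V x hx (s k) = a k := by
  have key := fun k => TopCat.Presheaf.exists_germ_eq X.presheaf (a k)
  choose W hW t ht using key
  have hopen : IsOpen (⋂ l, (W l : Set X)) := isOpen_iInter_of_finite fun l => (W l).2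
  let V : X.Opens := ⟨⋂ l, (W l : Set X), hopen⟩
  have hxV : x ∈ V := Set.mem_iInter.mpr hW
  have hVW : ∀ l, V ≤ W l := fun l z hz => Set.mem_iInter.mp hz l
  refine ⟨V, hxV, fun k => X.presheaf.map (homOfLE (hVW k)).op (t k), fun k => ?_⟩
  rw [← ht k]
  exact TopCat.Presheaf.germ_res_apply X.presheaf (homOfLE (hVW k)) x hxV (t k)

/-- finitely many functions with vanishing germs vanish on a common neighbourhood -/
theorem exists_nbhd_eq_zero (x : X) {ι : Type*} [Finite ι] (V : X.Opens) (hx : x ∈ V)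
    (s : ι → Γ(X, V)) (h : ∀ k, X.presheaf.germ V x hx (s k) = 0) :
    ∃ (W : X.Opens) (hW : W ≤ V), x ∈ W ∧ ∀ k, X.presheaf.map (homOfLE hW).op (s k) = 0 := by
  have key : ∀ k, ∃ (W : X.Opens) (hW : W ≤ V), x ∈ W ∧
      X.presheaf.map (homOfLE hW).op (s k) = 0 := by
    intro k
    have h0 : X.presheaf.germ V x hx (s k) = X.presheaf.germ V x hx 0 := by
      rw [h k, map_zero]
    obtain ⟨W, hxW, iU, iV, e⟩ := TopCat.Presheaf.germ_eq X.presheaf x hx hx _ _ h0
    refine ⟨W, leOfHom iU, hxW, ?_⟩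
    rw [map_zero] at e
    exact e
  choose W hWV hxW e using key
  have hopen : IsOpen ((V : Set X) ∩ ⋂ l, (W l : Set X)) :=
    V.2.inter (isOpen_iInter_of_finite fun l => (W l).2)
  let W' : X.Opens := ⟨(V : Set X) ∩ ⋂ l, (W l : Set X), hopen⟩
  have hxW' : x ∈ W' := ⟨hx, Set.mem_iInter.mpr hxW⟩
  have hW'W : ∀ l, W' ≤ W l := fun l z hz => Set.mem_iInter.mp hz.2 l
  have hW'V : W' ≤ V := fun z hz => hz.1
  refine ⟨W', hW'V, hxW', fun k => ?_⟩
  have h1 : X.presheaf.map (homOfLE hW'V).op =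
      X.presheaf.map (homOfLE (hWV k)).op ≫ X.presheaf.map (homOfLE (hW'W k)).op := by
    rw [← Functor.map_comp]; rfl
  rw [h1, CommRingCat.comp_apply, e k, map_zero]


end Spread

section FreeCx


variable (Y : Scheme.{u})

lemma sectionsOfHom_apply {M : Y.Modules} {n : ℕ} (φ : freeMod Y n ⟶ M) (k : Fin n) :
    sectionsOfHom φ k = φ.app ⊤ (eSec n k) := rfl

/-- the morphism of free modules given by a matrix of global functions -/
noncomputable def matHom {n m : ℕ} (b : Fin m → Fin n → Γ(Y, ⊤)) : freeMod Y n ⟶ freeMod Y m :=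
  homOfSections (freeMod Y m) (fun k => ∑ l, b l k • eSec m l)

lemma matHom_app_eSec {n m : ℕ} (b : Fin m → Fin n → Γ(Y, ⊤)) (k : Fin n) :
    (matHom Y b).app ⊤ (eSec n k) = ∑ l, b l k • eSec m l := by
  rw [← sectionsOfHom_apply, matHom, sectionsOfHom_homOfSections]

lemma app_sum_smul {M N : Y.Modules} (φ : M ⟶ N) {ι : Type*} (s : Finset ι)
    (r : ι → Γ(Y, ⊤)) (t : ι → Γ(M, ⊤)) :
    φ.app ⊤ (∑ l ∈ s, r l • t l) = ∑ l ∈ s, r l • φ.app ⊤ (t l) := by
  rw [map_sum]
  refine Finset.sum_congr rfl fun l _ => ?_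
  exact φ.app_smul (r l) (t l)

lemma matHom_comp {n m p : ℕ} (b : Fin m → Fin n → Γ(Y, ⊤)) (c : Fin p → Fin m → Γ(Y, ⊤)) :
    matHom Y b ≫ matHom Y c = matHom Y (fun q k => ∑ l, c q l * b l k) := by
  apply hom_ext_sections
  funext k
  rw [sectionsOfHom_apply, sectionsOfHom_apply, matHom_app_eSec, Scheme.Modules.Hom.comp_app,
    ConcreteCategory.comp_apply, matHom_app_eSec, app_sum_smul]
  simp_rw [matHom_app_eSec, Finset.smul_sum, smul_smul, Finset.sum_smul]
  rw [Finset.sum_comm]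
  refine Finset.sum_congr rfl fun q _ => Finset.sum_congr rfl fun l _ => ?_
  rw [mul_comm]

lemma matHom_zero {n m : ℕ} : matHom Y (fun (_ : Fin m) (_ : Fin n) => (0 : Γ(Y, ⊤))) = 0 := by
  apply hom_ext_sections
  funext k
  rw [sectionsOfHom_apply, sectionsOfHom_apply, matHom_app_eSec]
  simp

/-- the complex of free modules attached to a family of matrices of global functions -/
noncomputable def freeCx (n : ℤ → ℕ) (b : ∀ i : ℤ, Fin (n (i + 1)) → Fin (n i) → Γ(Y, ⊤))
    (hb : ∀ (i : ℤ) (q : Fin (n (i + 1 + 1))) (k : Fin (n i)),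
      ∑ l, b (i + 1) q l * b i l k = 0) : CochainComplex Y.Modules ℤ :=
  CochainComplex.of (fun i => freeMod Y (n i)) (fun i => matHom Y (b i)) (fun i => by
    rw [matHom_comp]
    have : (fun q k => ∑ l, b (i + 1) q l * b i l k) = fun _ _ => 0 := by
      funext q k
      exact hb i q k
    rw [this, matHom_zero])

lemma freeCx_X (n : ℤ → ℕ) (b : ∀ i : ℤ, Fin (n (i + 1)) → Fin (n i) → Γ(Y, ⊤))
    (hb : ∀ (i : ℤ) (q : Fin (n (i + 1 + 1))) (k : Fin (n i)),
      ∑ l, b (i + 1) q l * b i l k = 0) (i : ℤ) :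
    (freeCx Y n b hb).X i = freeMod Y (n i) := rfl

lemma freeCx_d (n : ℤ → ℕ) (b : ∀ i : ℤ, Fin (n (i + 1)) → Fin (n i) → Γ(Y, ⊤))
    (hb : ∀ (i : ℤ) (q : Fin (n (i + 1 + 1))) (k : Fin (n i)),
      ∑ l, b (i + 1) q l * b i l k = 0) (i : ℤ) :
    (freeCx Y n b hb).d i (i + 1) = matHom Y (b i) := by
  simp [freeCx]

lemma isZero_freeMod_zero : IsZero (freeMod Y 0) := by
  rw [IsZero.iff_id_eq_zero]
  apply hom_ext_sections
  funext k
  exact k.elim0

lemma isStrictlyPerfect_freeCx (n : ℤ → ℕ) (b : ∀ i : ℤ, Fin (n (i + 1)) → Fin (n i) → Γ(Y, ⊤))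
    (hb : ∀ (i : ℤ) (q : Fin (n (i + 1 + 1))) (k : Fin (n i)),
      ∑ l, b (i + 1) q l * b i l k = 0) (a c : ℤ) (hn : ∀ i, i < a ∨ c < i → n i = 0) :
    DCoh.IsStrictlyPerfect (freeCx Y n b hb) := by
  refine ⟨⟨a, c, fun i hi => ?_⟩, fun i => isFinLocFree_freeMod Y (n i)⟩
  change IsZero (freeMod Y (n i))
  rw [hn i hi]
  exact isZero_freeMod_zero Y


end FreeCx

section Push


variable {X Y : Scheme.{u}} (j : Y ⟶ X) [IsOpenImmersion j]

/-- a global section of `M` on `Y`, as a global section of `j_* M` -/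
def pushSec (M : Y.Modules) (t : Γ(M, ⊤)) : Γ((Scheme.Modules.pushforward j).obj M, ⊤) := t

lemma pushSec_add (M : Y.Modules) (s t : Γ(M, ⊤)) :
    pushSec j M (s + t) = pushSec j M s + pushSec j M t := rfl

lemma pushforward_map_app_pushSec {M N : Y.Modules} (φ : M ⟶ N) (t : Γ(M, ⊤)) :
    ((Scheme.Modules.pushforward j).map φ).app ⊤ (pushSec j M t) = pushSec j N (φ.app ⊤ t) := rfl

/-- the germ at `x` of a global section of `M`, in the stalk of `j_* M` -/
noncomputable def pgerm (M : Y.Modules) (x : X) (t : Γ(M, ⊤)) :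
    ((Scheme.Modules.pushforward j).obj M).presheaf.stalk x :=
  ((Scheme.Modules.pushforward j).obj M).presheaf.germ ⊤ x trivial (pushSec j M t)

lemma pgerm_add (M : Y.Modules) (x : X) (s t : Γ(M, ⊤)) :
    pgerm j M x (s + t) = pgerm j M x s + pgerm j M x t := by
  unfold pgerm
  rw [pushSec_add, map_add]

lemma pgerm_zero (M : Y.Modules) (x : X) : pgerm j M x 0 = 0 := by
  unfold pgerm
  exact map_zero _

lemma pgerm_sum (M : Y.Modules) (x : X) {ι : Type*} (s : Finset ι) (t : ι → Γ(M, ⊤)) :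
    pgerm j M x (∑ l ∈ s, t l) = ∑ l ∈ s, pgerm j M x (t l) := by
  classical
  induction s using Finset.induction_on with
  | empty => simpa using pgerm_zero j M x
  | insert a s ha ih => rw [Finset.sum_insert ha, Finset.sum_insert ha, pgerm_add, ih]

lemma stalk_map_pgerm {M N : Y.Modules} (φ : M ⟶ N) (x : X) (t : Γ(M, ⊤)) :
    (DerSch.stalkFunctor X x).map ((Scheme.Modules.pushforward j).map φ) (pgerm j M x t) =
      pgerm j N x (φ.app ⊤ t) := by
  unfold pgerm
  rw [DerSch.stalkFunctor_map_germ]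
  rfl

/-- scalar multiplication by a function defined near `x` -/
lemma pgerm_smul (M : Y.Modules) (x : X) (V : X.Opens) (hx : x ∈ V) (a : Γ(X, V))
    (b : Γ(Y, ⊤)) (hb : Y.presheaf.map (homOfLE (le_top : j ⁻¹ᵁ V ≤ ⊤)).op b = j.app V a)
    (t : Γ(M, ⊤)) :
    pgerm j M x (b • t) = X.presheaf.germ V x hx a • pgerm j M x t := by
  let N := (Scheme.Modules.pushforward j).obj M
  have h1 : ∀ s : Γ(M, ⊤), pgerm j M x s = N.presheaf.germ V x hx
      (N.presheaf.map (homOfLE (le_top : V ≤ ⊤)).op (pushSec j M s)) := by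
    intro s
    exact (germ_res N x (le_top : V ≤ ⊤) hx (pushSec j M s)).symm
  rw [h1, h1, ← germ_smul N x V hx a]
  congr 1
  rw [pushforward_smul]
  change M.presheaf.map (homOfLE (le_top : j ⁻¹ᵁ V ≤ ⊤)).op (b • t) = _
  rw [Scheme.Modules.map_smul, hb]
  rfl

lemma exists_smul_pgerm_one (y : Y)
    (z : ((Scheme.Modules.pushforward j).obj (unitMod Y)).presheaf.stalk (j y)) :
    ∃ r : X.presheaf.stalk (j y), z = r • pgerm j (unitMod Y) (j y) (1 : Γ(Y, ⊤)) := by
  let N := (Scheme.Modules.pushforward j).obj (unitMod Y)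
  obtain ⟨W, hxW, s, rfl⟩ := TopCat.Presheaf.exists_germ_eq N.presheaf z
  let W' : X.Opens := W ⊓ j.opensRange
  have hxW' : j y ∈ W' := ⟨hxW, ⟨y, rfl⟩⟩
  let s' : Γ(N, W') := N.presheaf.map (homOfLE (inf_le_left : W' ≤ W)).op s
  haveI := j.isIso_app W' inf_le_right
  let a : Γ(X, W') := inv (j.app W') (show Γ(Y, j ⁻¹ᵁ W') from s')
  have ha : j.app W' a = (show Γ(Y, j ⁻¹ᵁ W') from s') := by
    change (inv (j.app W') ≫ j.app W') _ = _
    rw [IsIso.inv_hom_id]
    rfl
  refine ⟨X.presheaf.germ W' (j y) hxW' a, ?_⟩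
  have h1 : N.presheaf.germ W (j y) hxW s = N.presheaf.germ W' (j y) hxW' s' :=
    (germ_res N (j y) (inf_le_left : W' ≤ W) hxW' s).symm
  have h2 : pgerm j (unitMod Y) (j y) (1 : Γ(Y, ⊤)) = N.presheaf.germ W' (j y) hxW'
      (N.presheaf.map (homOfLE (le_top : W' ≤ ⊤)).op (pushSec j (unitMod Y) (1 : Γ(Y, ⊤)))) :=
    (germ_res N (j y) (le_top : W' ≤ ⊤) hxW' _).symm
  rw [h1, h2, ← germ_smul N (j y) W' hxW' a]
  congr 1
  rw [pushforward_smul]
  change (show Γ(Y, j ⁻¹ᵁ W') from s') = j.app W' a *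
    Y.presheaf.map (homOfLE (le_top : j ⁻¹ᵁ W' ≤ ⊤)).op (1 : Γ(Y, ⊤))
  rw [map_one, mul_one, ha]

lemma eq_zero_of_smul_pgerm_one (y : Y) (r : X.presheaf.stalk (j y))
    (h : r • pgerm j (unitMod Y) (j y) (1 : Γ(Y, ⊤)) = 0) : r = 0 := by
  let N := (Scheme.Modules.pushforward j).obj (unitMod Y)
  obtain ⟨W₀, hxW₀, a₀, rfl⟩ := TopCat.Presheaf.exists_germ_eq X.presheaf r
  let W : X.Opens := W₀ ⊓ j.opensRange
  have hxW : j y ∈ W := ⟨hxW₀, ⟨y, rfl⟩⟩
  let a : Γ(X, W) := X.presheaf.map (homOfLE (inf_le_left : W ≤ W₀)).op a₀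
  have hr : X.presheaf.germ W₀ (j y) hxW₀ a₀ = X.presheaf.germ W (j y) hxW a :=
    (sgerm_res (j y) (inf_le_left : W ≤ W₀) hxW a₀).symm
  rw [hr] at h ⊢
  have h2 : pgerm j (unitMod Y) (j y) (1 : Γ(Y, ⊤)) = N.presheaf.germ W (j y) hxW
      (N.presheaf.map (homOfLE (le_top : W ≤ ⊤)).op (pushSec j (unitMod Y) (1 : Γ(Y, ⊤)))) :=
    (germ_res N (j y) (le_top : W ≤ ⊤) hxW _).symm
  rw [h2, ← germ_smul N (j y) W hxW a] at h
  have h3 : a • N.presheaf.map (homOfLE (le_top : W ≤ ⊤)).op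
      (pushSec j (unitMod Y) (1 : Γ(Y, ⊤))) =
      (show Γ(N, W) from (show Γ(Y, j ⁻¹ᵁ W) from j.app W a)) := by
    rw [pushforward_smul]
    change j.app W a * Y.presheaf.map (homOfLE (le_top : j ⁻¹ᵁ W ≤ ⊤)).op (1 : Γ(Y, ⊤)) = j.app W a
    rw [map_one, mul_one]
  rw [h3] at h
  have h0 : N.presheaf.germ W (j y) hxW (show Γ(N, W) from (show Γ(Y, j ⁻¹ᵁ W) from j.app W a)) =
      N.presheaf.germ W (j y) hxW 0 := by
    rw [h, map_zero]
  obtain ⟨W', hxW', iU, iV, e⟩ := TopCat.Presheaf.germ_eq N.presheaf (j y) hxW hxW _ _ h0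
  rw [map_zero] at e
  have hW'W : W' ≤ W := leOfHom iU
  have e' : Y.presheaf.map (homOfLE (show j ⁻¹ᵁ W' ≤ j ⁻¹ᵁ W from fun z hz => hW'W hz)).op
      (j.app W a) = 0 := e
  have hnat : Y.presheaf.map (homOfLE (show j ⁻¹ᵁ W' ≤ j ⁻¹ᵁ W from fun z hz => hW'W hz)).op
      (j.app W a) = j.app W' (X.presheaf.map (homOfLE hW'W).op a) := by
    have := j.naturality (homOfLE hW'W).op
    exact (congr($(this) a)).symm
  rw [hnat] at e'
  haveI := j.isIso_app W' (hW'W.trans inf_le_right)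
  have hinj : Function.Injective (j.app W') :=
    ((ConcreteCategory.isIso_iff_bijective (j.app W')).mp inferInstance).1
  have h5 : X.presheaf.map (homOfLE hW'W).op a = 0 := hinj (by rw [e', map_zero])
  rw [← sgerm_res (j y) hW'W hxW' a, h5, map_zero]

lemma stalk_map_smul {M N : X.Modules} (φ : M ⟶ N) (x : X) (r : X.presheaf.stalk x)
    (z : M.presheaf.stalk x) :
    ((DerSch.stalkFunctor X x).map φ).hom (r • z) =
      r • (((DerSch.stalkFunctor X x).map φ).hom z : N.presheaf.stalk x) :=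
  LinearMap.map_smul ((DerSch.stalkFunctor X x).map φ).hom r z

lemma proj_app_eSec (n : ℕ) (k l : Fin n) :
    (freeModProj (X := Y) n k).app ⊤ (eSec n l) = if l = k then (1 : Γ(Y, ⊤)) else 0 := by
  have h : Sigma.ι (fun _ : Fin n => unitMod Y) l ≫ freeModProj n k =
      if l = k then 𝟙 _ else 0 := by
    rw [freeModProj, Sigma.ι_desc]
  have h2 : (freeModProj (X := Y) n k).app ⊤ (eSec n l) =
      (Sigma.ι (fun _ : Fin n => unitMod Y) l ≫ freeModProj n k).app ⊤ (1 : Γ(Y, ⊤)) := rfl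
  rw [h2, h]
  split_ifs
  · rfl
  · rfl

/-- the family of germs of the basis sections in the stalk of `j_* O_Y^n` -/
noncomputable def gfam (n : ℕ) (y : Y) (l : Fin n) :
    ((DerSch.stalkFunctor X (j y)).obj ((Scheme.Modules.pushforward j).obj (freeMod Y n))) :=
  pgerm j (freeMod Y n) (j y) (eSec n l)

lemma linearIndependent_gfam (n : ℕ) (y : Y) :
    LinearIndependent (X.presheaf.stalk (j y)) (gfam j n y) := by
  rw [Fintype.linearIndependent_iff]
  intro g hg k
  let f := ((DerSch.stalkFunctor X (j y)).map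
    ((Scheme.Modules.pushforward j).map (freeModProj (X := Y) n k))).hom
  let p1 : ((DerSch.stalkFunctor X (j y)).obj ((Scheme.Modules.pushforward j).obj (unitMod Y))) :=
    pgerm j (unitMod Y) (j y) (1 : Γ(Y, ⊤))
  have h2 : ∀ l, f (gfam j n y l) = if l = k then p1 else 0 := by
    intro l
    have := stalk_map_pgerm j (freeModProj (X := Y) n k) (j y) (eSec n l)
    rw [proj_app_eSec] at this
    refine this.trans ?_
    split_ifs
    · rfl
    · exact pgerm_zero j _ _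
  have h1 : f (∑ i, g i • gfam j n y i) = 0 := by rw [hg, map_zero]
  rw [map_sum] at h1
  have h3 : ∀ i, f (g i • gfam j n y i) = if i = k then g k • p1 else 0 := by
    intro i
    rw [map_smul, h2]
    split_ifs with hik
    · rw [hik]
    · exact smul_zero _
  simp_rw [h3] at h1
  rw [Finset.sum_ite_eq' Finset.univ k, if_pos (Finset.mem_univ k)] at h1
  exact eq_zero_of_smul_pgerm_one j y (g k) h1

lemma span_gfam (n : ℕ) (y : Y) :
    ⊤ ≤ Submodule.span (X.presheaf.stalk (j y)) (Set.range (gfam j n y)) := by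
  intro z _
  have htot := freeMod_total (X := Y) n
  have h1 : z = ∑ l, ((DerSch.stalkFunctor X (j y)).map ((Scheme.Modules.pushforward j).map
      (freeModProj (X := Y) n l ≫ Sigma.ι (fun _ : Fin n => unitMod Y) l))).hom z := by
    have h2 := congrArg (fun φ => ((DerSch.stalkFunctor X (j y)).map
      ((Scheme.Modules.pushforward j).map φ)).hom z) htot
    simp only [Functor.map_sum, CategoryTheory.Functor.map_id] at h2
    rw [ModuleCat.hom_sum] at h2
    simpa using h2.symm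
  rw [h1]
  refine Submodule.sum_mem _ fun l _ => ?_
  rw [Functor.map_comp, Functor.map_comp, ModuleCat.hom_comp, LinearMap.comp_apply]
  obtain ⟨r, hr⟩ := exists_smul_pgerm_one j y (((DerSch.stalkFunctor X (j y)).map
    ((Scheme.Modules.pushforward j).map (freeModProj (X := Y) n l))).hom z)
  rw [hr, stalk_map_smul]
  refine Submodule.smul_mem _ _ (Submodule.subset_span ⟨l, ?_⟩)
  exact (stalk_map_pgerm j (Sigma.ι (fun _ : Fin n => unitMod Y) l) (j y) (1 : Γ(Y, ⊤))).symm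

/-- the germs of the basis sections form a basis of the stalk of `j_* O_Y^n` at a point of `Y` -/
noncomputable def stalkBasis (n : ℕ) (y : Y) :
    Module.Basis (Fin n) (X.presheaf.stalk (j y))
      ((DerSch.stalkFunctor X (j y)).obj ((Scheme.Modules.pushforward j).obj (freeMod Y n))) :=
  Module.Basis.mk (linearIndependent_gfam j n y) (span_gfam j n y)

lemma stalkBasis_apply (n : ℕ) (y : Y) (l : Fin n) :
    stalkBasis j n y l = pgerm j (freeMod Y n) (j y) (eSec n l) := by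
  rw [stalkBasis, Module.Basis.mk_apply]
  rfl

theorem stalk_pushCx_freeCx_iso (y : Y)
    (E : DRing.Cx (X.presheaf.stalk (j y))) (n : ℤ → ℕ)
    (bs : ∀ i, Module.Basis (Fin (n i)) (X.presheaf.stalk (j y)) (E.X i))
    (b : ∀ i : ℤ, Fin (n (i + 1)) → Fin (n i) → Γ(Y, ⊤))
    (hb : ∀ (i : ℤ) (q : Fin (n (i + 1 + 1))) (k : Fin (n i)),
      ∑ l, b (i + 1) q l * b i l k = 0)
    (V : X.Opens) (hxV : j y ∈ V) (a : ∀ i : ℤ, Fin (n (i + 1)) → Fin (n i) → Γ(X, V))
    (hab : ∀ i l k, Y.presheaf.map (homOfLE (le_top : j ⁻¹ᵁ V ≤ ⊤)).op (b i l k) =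
      j.app V (a i l k))
    (ha : ∀ i l k, X.presheaf.germ V (j y) hxV (a i l k) =
      (bs (i + 1)).repr ((E.d i (i + 1)).hom (bs i k)) l) :
    Nonempty (((DerSch.stalkFunctor X (j y)).mapHomologicalComplex (ComplexShape.up ℤ)).obj
      ((DerSch.pushCx j).obj (freeCx Y n b hb)) ≅ E) := by
  let G := freeCx Y n b hb
  let Θ : ∀ i, E.X i ≃ₗ[X.presheaf.stalk (j y)]
      ((DerSch.stalkFunctor X (j y)).obj ((Scheme.Modules.pushforward j).obj (freeMod Y (n i)))) :=
    fun i => (bs i).equiv (stalkBasis j (n i) y) (Equiv.refl _)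
  refine ⟨(HomologicalComplex.Hom.isoOfComponents (fun i => (Θ i).toModuleIso) ?_).symm⟩
  rintro i i' (rfl : i + 1 = i')
  ext1
  apply (bs i).ext
  intro k
  change (((DerSch.stalkFunctor X (j y)).map ((Scheme.Modules.pushforward j).map
    ((freeCx Y n b hb).d i (i + 1)))).hom (Θ i (bs i k))) = Θ (i + 1) ((E.d i (i + 1)).hom (bs i k))
  rw [freeCx_d]
  have h1 : Θ i (bs i k) = pgerm j (freeMod Y (n i)) (j y) (eSec (n i) k) := by
    change (bs i).equiv (stalkBasis j (n i) y) (Equiv.refl _) (bs i k) = _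
    rw [Module.Basis.equiv_apply, Equiv.refl_apply, stalkBasis_apply]
  rw [h1]
  have h2 : ((DerSch.stalkFunctor X (j y)).map ((Scheme.Modules.pushforward j).map
      (matHom Y (b i)))).hom (pgerm j (freeMod Y (n i)) (j y) (eSec (n i) k)) =
      pgerm j (freeMod Y (n (i + 1))) (j y) ((matHom Y (b i)).app ⊤ (eSec (n i) k)) :=
    stalk_map_pgerm j (matHom Y (b i)) (j y) (eSec (n i) k)
  refine h2.trans ?_
  rw [matHom_app_eSec, pgerm_sum]
  have h3 : (E.d i (i + 1)).hom (bs i k) =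
      ∑ l, (bs (i + 1)).repr ((E.d i (i + 1)).hom (bs i k)) l • bs (i + 1) l :=
    ((bs (i + 1)).sum_repr _).symm
  rw [h3, map_sum]
  refine Finset.sum_congr rfl fun l _ => ?_
  rw [map_smul]
  have h4 : Θ (i + 1) (bs (i + 1) l) = pgerm j (freeMod Y (n (i + 1))) (j y) (eSec (n (i + 1)) l) := by
    change (bs (i + 1)).equiv (stalkBasis j (n (i + 1)) y) (Equiv.refl _) (bs (i + 1) l) = _
    rw [Module.Basis.equiv_apply, Equiv.refl_apply, stalkBasis_apply]
  rw [h4, pgerm_smul j (freeMod Y (n (i + 1))) (j y) V hxV (a i l k) (b i l k) (hab i l k), ha]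
  rfl


end Push

section Final
variable {X : Scheme.{u}}

/-- restricting the direct image along an open immersion gives back the complex -/
noncomputable def restrictPushCxIso (W : X.Opens) (G : CochainComplex (W : Scheme.{u}).Modules ℤ) :
    (DCoh.restrictCx W).obj ((DerSch.pushCx W.ι).obj G) ≅ G :=
  HomologicalComplex.Hom.isoOfComponents
    (fun i => (Scheme.Modules.restrictFunctorAdjCounitIso W.ι).app (G.X i))
    (fun i k _ => ((Scheme.Modules.restrictFunctorAdjCounitIso W.ι).hom.naturality (G.d i k)).symm)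

lemma isPerfect_restrict_pushCx (W : X.Opens) (G : CochainComplex (W : Scheme.{u}).Modules ℤ)
    (hG : DCoh.IsStrictlyPerfect G) :
    DCoh.IsPerfect (DerivedCategory.Q.obj ((DCoh.restrictCx W).obj ((DerSch.pushCx W.ι).obj G))) :=
  Groth.Agent.H4.PSch5.isPerfect_of_iso (Q.mapIso (restrictPushCxIso W G)).symm
    (Groth.Agent.H4.TilD4.isPerfect_of_isStrictlyPerfect G hG)

theorem exists_spread (x : X) (E : DRing.Cx (X.presheaf.stalk x)) (a c : ℤ)
    (hE : DRing.VanishesOutside E a c) (hp : DRing.TermwiseFiniteProjective E) :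
    ∃ (W : X.Opens) (_ : x ∈ W) (G : CochainComplex (W : Scheme.{u}).Modules ℤ),
      DCoh.IsStrictlyPerfect G ∧
      Nonempty (((DerSch.stalkFunctor X x).mapHomologicalComplex (ComplexShape.up ℤ)).obj
        ((DerSch.pushCx W.ι).obj G) ≅ E) := by
  classical
  let R := X.presheaf.stalk x
  haveI : ∀ i, Module.Finite R (E.X i) := fun i => (hp i).1
  haveI : ∀ i, Module.Projective R (E.X i) := fun i => (hp i).2
  haveI : ∀ i, Module.Free R (E.X i) := fun i => Module.free_of_flat_of_isLocalRing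
  let n : ℤ → ℕ := fun i => Module.finrank R (E.X i)
  let bs : ∀ i, Module.Basis (Fin (n i)) R (E.X i) := fun i => Module.finBasis R (E.X i)
  have hn : ∀ i, i < a ∨ c < i → n i = 0 := fun i hi => by
    haveI : Subsingleton (E.X i) := ModuleCat.subsingleton_of_isZero (hE i hi)
    exact Module.finrank_zero_of_subsingleton
  have hn' : ∀ i, i ∉ Set.Icc a c → n i = 0 := fun i hi => hn i (by
    rw [Set.mem_Icc] at hi
    omega)
  let A : ∀ i, Fin (n (i + 1)) → Fin (n i) → R :=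
    fun i l k => (bs (i + 1)).repr ((E.d i (i + 1)).hom (bs i k)) l
  have hA : ∀ (i : ℤ) (q : Fin (n (i + 1 + 1))) (k : Fin (n i)),
      ∑ l, A (i + 1) q l * A i l k = 0 := by
    intro i q k
    have h0 : (E.d (i + 1) (i + 1 + 1)).hom ((E.d i (i + 1)).hom (bs i k)) = 0 := by
      have := E.d_comp_d i (i + 1) (i + 1 + 1)
      exact congr($(this).hom (bs i k))
    have h3 : (E.d i (i + 1)).hom (bs i k) = ∑ l, A i l k • bs (i + 1) l :=
      ((bs (i + 1)).sum_repr _).symm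
    rw [h3, map_sum] at h0
    have h4 := congrArg (fun w => (bs (i + 1 + 1)).repr w q) h0
    simp only [map_smul, map_sum, Finsupp.coe_finset_sum, Finset.sum_apply, Finsupp.coe_smul,
      Pi.smul_apply, smul_eq_mul, map_zero, Finsupp.coe_zero, Pi.zero_apply] at h4
    rw [← h4]
    exact Finset.sum_congr rfl fun l _ => mul_comm _ _
  obtain ⟨V₀, hxV₀, s, hs⟩ := exists_sections_of_germs x
    (ι := Σ i : Set.Icc a c, Fin (n ((i : ℤ) + 1)) × Fin (n (i : ℤ)))
    (fun p => A (p.1 : ℤ) p.2.1 p.2.2)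
  let B₀ : ∀ i, Fin (n (i + 1)) → Fin (n i) → Γ(X, V₀) := fun i l k =>
    if h : i ∈ Set.Icc a c then s ⟨⟨i, h⟩, l, k⟩ else 0
  have hB₀ : ∀ i l k, X.presheaf.germ V₀ x hxV₀ (B₀ i l k) = A i l k := by
    intro i l k
    by_cases h : i ∈ Set.Icc a c
    · simp only [B₀, dif_pos h]
      exact hs ⟨⟨i, h⟩, l, k⟩
    · exact (Fin.cast (hn' i h) k).elim0
  obtain ⟨W, hWV, hxW, hW⟩ := exists_nbhd_eq_zero x
    (ι := Σ i : Set.Icc a c, Fin (n ((i : ℤ) + 1 + 1)) × Fin (n (i : ℤ))) V₀ hxV₀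
    (fun p => ∑ l, B₀ ((p.1 : ℤ) + 1) p.2.1 l * B₀ (p.1 : ℤ) l p.2.2) (fun p => by
      rw [map_sum]
      simp_rw [map_mul, hB₀]
      exact hA _ _ _)
  let y : (W : Scheme.{u}) := ⟨x, hxW⟩
  let a' : ∀ i, Fin (n (i + 1)) → Fin (n i) → Γ(X, W) := fun i l k =>
    X.presheaf.map (homOfLE hWV).op (B₀ i l k)
  have he : (⊤ : (W : Scheme.{u}).Opens) ≤ W.ι ⁻¹ᵁ W := by
    rw [Scheme.Opens.ι_preimage_self]
  let b : ∀ i, Fin (n (i + 1)) → Fin (n i) → Γ((W : Scheme.{u}), ⊤) := fun i l k =>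
    W.ι.appLE W ⊤ he (a' i l k)
  have hab : ∀ i l k, (W : Scheme.{u}).presheaf.map
      (homOfLE (le_top : W.ι ⁻¹ᵁ W ≤ ⊤)).op (b i l k) = W.ι.app W (a' i l k) := by
    intro i l k
    change (W.ι.appLE W ⊤ he ≫ (W : Scheme.{u}).presheaf.map
      (homOfLE (le_top : W.ι ⁻¹ᵁ W ≤ ⊤)).op) (a' i l k) = _
    rw [Scheme.Hom.appLE_map, Scheme.Hom.app_eq_appLE]
  have hb : ∀ (i : ℤ) (q : Fin (n (i + 1 + 1))) (k : Fin (n i)),
      ∑ l, b (i + 1) q l * b i l k = 0 := by
    intro i q k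
    by_cases h : i ∈ Set.Icc a c
    · have h1 := hW ⟨⟨i, h⟩, q, k⟩
      simp only at h1
      have h2 : ∑ l, b (i + 1) q l * b i l k = W.ι.appLE W ⊤ he
          (X.presheaf.map (homOfLE hWV).op (∑ l, B₀ (i + 1) q l * B₀ i l k)) := by
        simp only [b, a', map_sum, map_mul]
      rw [h2, h1, map_zero]
    · exact (Fin.cast (hn' i h) k).elim0
  have ha : ∀ i l k, X.presheaf.germ W x hxW (a' i l k) = A i l k := by
    intro i l k
    rw [← hB₀ i l k]
    exact sgerm_res x hWV hxW (B₀ i l k)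
  refine ⟨W, hxW, freeCx (W : Scheme.{u}) n b hb,
    isStrictlyPerfect_freeCx (W : Scheme.{u}) n b hb a c hn, ?_⟩
  exact stalk_pushCx_freeCx_iso W.ι y E n bs b hb W hxW a' hab ha


end Final

end Groth.Agent.H4.Spread1
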