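import Mathlib
import Groth.Prelude.Def_DerSch2
import Groth.Agent.H4.NT6
import Groth.Agent.H4.TilD9
import Groth.Agent.H4.SPt6
import Groth.Agent.H4.Spread1
import Groth.Agent.Lib.Lead.QC.FreeHom
import Groth.Agent.Lib.Lead.QC.Karoubi
import Groth.Agent.Lib.Lead.QC.Stalk

set_option autoImplicit false
universe u
attribute [local instance] HasDerivedCategory.standard
open CategoryTheory CategoryTheory.Limits AlgebraicGeometry DerivedCategory Opposite
open Groth.Agent.LD.QC Groth.Agent.H4.FAmp3 Groth.Agent.H4.SPt6 Groth.Agent.H4.PSch1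
open Groth.Agent.H4.Spread1

namespace Groth.Agent.H4.Spread2

section StalkRestrict


variable {X Y : Scheme.{u}} (j : Y ⟶ X) [IsOpenImmersion j]

/-- the ring map `O_{Y,y} → O_{X,j y}` inverse to the stalk map of an open immersion -/
noncomputable def stalkRingHom (y : Y) : Y.presheaf.stalk y →+* X.presheaf.stalk (j y) :=
  (stalkRingEquiv j y).toRingHom

/-- the stalk of a restricted module, as a linear equivalence -/
noncomputable def stalkRestrictLin (M : X.Modules) (y : Y) :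
    (DerSch.stalkFunctor Y y).obj (M.restrict j) ≃ₗ[Y.presheaf.stalk y]
      (ModuleCat.restrictScalars (stalkRingHom j y)).obj ((DerSch.stalkFunctor X (j y)).obj M) :=
  { toFun := fun m => stalkRestrictAddEquiv j M y m
    map_add' := fun a b => map_add (stalkRestrictAddEquiv j M y) a b
    map_smul' := fun a m => stalkRestrictAddEquiv_smul j M y a m
    invFun := fun m => (stalkRestrictAddEquiv j M y).symm m
    left_inv := fun m => (stalkRestrictAddEquiv j M y).symm_apply_apply m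
    right_inv := fun m => (stalkRestrictAddEquiv j M y).apply_symm_apply m }

lemma stalkRestrictLin_germ (M : X.Modules) (y : Y) (W : Y.Opens) (hy : y ∈ W)
    (s : Γ(M.restrict j, W)) :
    stalkRestrictLin j M y ((M.restrict j).presheaf.germ W y hy s) =
      M.presheaf.germ (j ''ᵁ W) (j y) ⟨y, hy, rfl⟩ s :=
  stalkRestrictAddEquiv_germ j M y W hy s

/-- the stalk functor of an open subscheme, in terms of the stalk functor of the ambient scheme -/
noncomputable def stalkRestrictNatIso (y : Y) :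
    Scheme.Modules.restrictFunctor j ⋙ DerSch.stalkFunctor Y y ≅
      DerSch.stalkFunctor X (j y) ⋙ ModuleCat.restrictScalars (stalkRingHom j y) :=
  NatIso.ofComponents (fun M => (stalkRestrictLin j M y).toModuleIso) (by
    intro M N φ
    ext m
    obtain ⟨W, hyW, s, rfl⟩ := TopCat.Presheaf.exists_germ_eq (M.restrict j).presheaf m
    change stalkRestrictLin j N y ((DerSch.stalkFunctor Y y).map
      ((Scheme.Modules.restrictFunctor j).map φ) ((M.restrict j).presheaf.germ W y hyW s)) =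
      (DerSch.stalkFunctor X (j y)).map φ
        (stalkRestrictLin j M y ((M.restrict j).presheaf.germ W y hyW s))
    rw [DerSch.stalkFunctor_map_germ, stalkRestrictLin_germ, stalkRestrictLin_germ,
      DerSch.stalkFunctor_map_germ]
    rfl)

/-- the complex of stalks of a restricted complex -/
noncomputable def stalkCxRestrictIso (y : Y) (E : CochainComplex X.Modules ℤ) :
    (stalkCx y).obj ((resCx j).obj E) ≅
      ((ModuleCat.restrictScalars (stalkRingHom j y)).mapHomologicalComplex (ComplexShape.up ℤ)).obj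
        ((stalkCx (j y)).obj E) :=
  (NatIso.mapHomologicalComplex (stalkRestrictNatIso j y) (ComplexShape.up ℤ)).app E

/-- an isomorphism of stalk complexes in the derived category passes to an open subscheme -/
theorem nonempty_iso_stalk_restrict (y : Y) (E F : CochainComplex X.Modules ℤ)
    (h : Nonempty (Q.obj ((stalkCx (j y)).obj E) ≅ Q.obj ((stalkCx (j y)).obj F))) :
    Nonempty (Q.obj ((stalkCx y).obj ((resCx j).obj E)) ≅
      Q.obj ((stalkCx y).obj ((resCx j).obj F))) := by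
  obtain ⟨e⟩ := h
  let Res := ModuleCat.restrictScalars (stalkRingHom j y)
  let fac := Res.mapDerivedCategoryFactors
  exact ⟨Q.mapIso (stalkCxRestrictIso j y E) ≪≫ (fac.app _).symm ≪≫
    Res.mapDerivedCategory.mapIso e ≪≫ fac.app _ ≪≫ (Q.mapIso (stalkCxRestrictIso j y F)).symm⟩


end StalkRestrict

section ModSpread


variable {X : Scheme.{u}}

/-- finitely many germs of sections of modules are defined on a common neighbourhood -/
theorem exists_sections_of_germs_mod (x : X) {ι : Type*} [Finite ι] (M : ι → X.Modules)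
    (a : ∀ i, (M i).presheaf.stalk x) :
    ∃ (V : X.Opens) (hx : x ∈ V) (s : ∀ i, Γ(M i, V)),
      ∀ i, (M i).presheaf.germ V x hx (s i) = a i := by
  have key := fun k => TopCat.Presheaf.exists_germ_eq (M k).presheaf (a k)
  choose W hW t ht using key
  have hopen : IsOpen (⋂ l, (W l : Set X)) := isOpen_iInter_of_finite fun l => (W l).2
  let V : X.Opens := ⟨⋂ l, (W l : Set X), hopen⟩
  have hxV : x ∈ V := Set.mem_iInter.mpr hW
  have hVW : ∀ l, V ≤ W l := fun l z hz => Set.mem_iInter.mp hz l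
  refine ⟨V, hxV, fun k => (M k).presheaf.map (homOfLE (hVW k)).op (t k), fun k => ?_⟩
  rw [← ht k]
  exact germ_res (M k) x (hVW k) hxV (t k)

/-- finitely many sections with vanishing germs vanish on a common neighbourhood -/
theorem exists_nbhd_eq_zero_mod (x : X) {ι : Type*} [Finite ι] (M : ι → X.Modules)
    (V : X.Opens) (hx : x ∈ V)
    (s : ∀ i, Γ(M i, V)) (h : ∀ k, (M k).presheaf.germ V x hx (s k) = 0) :
    ∃ (W : X.Opens) (hW : W ≤ V), x ∈ W ∧ ∀ k, (M k).presheaf.map (homOfLE hW).op (s k) = 0 := by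
  have key : ∀ k, ∃ (W : X.Opens) (hW : W ≤ V), x ∈ W ∧
      (M k).presheaf.map (homOfLE hW).op (s k) = 0 := by
    intro k
    have h0 : (M k).presheaf.germ V x hx (s k) = (M k).presheaf.germ V x hx 0 := by
      rw [h k, map_zero]
    obtain ⟨W, hxW, iU, iV, e⟩ := TopCat.Presheaf.germ_eq (M k).presheaf x hx hx _ _ h0
    refine ⟨W, leOfHom iU, hxW, ?_⟩
    rw [map_zero] at e
    exact e
  choose W hWV hxW e using key
  have hopen : IsOpen ((V : Set X) ∩ ⋂ l, (W l : Set X)) :=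
    V.2.inter (isOpen_iInter_of_finite fun l => (W l).2)
  let W' : X.Opens := ⟨(V : Set X) ∩ ⋂ l, (W l : Set X), hopen⟩
  have hxW' : x ∈ W' := ⟨hx, Set.mem_iInter.mpr hxW⟩
  have hW'W : ∀ l, W' ≤ W l := fun l z hz => Set.mem_iInter.mp hz.2 l
  have hW'V : W' ≤ V := fun z hz => hz.1
  refine ⟨W', hW'V, hxW', fun k => ?_⟩
  have h1 : (M k).presheaf.map (homOfLE hW'V).op =
      (M k).presheaf.map (homOfLE (hWV k)).op ≫ (M k).presheaf.map (homOfLE (hW'W k)).op := by
    rw [← Functor.map_comp]; rfl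
  rw [h1, ConcreteCategory.comp_apply, e k, map_zero]

/-- the stalk of the structure sheaf, as a module, is generated by the germ of `1` -/
lemma exists_smul_germ_one (x : X) (z : (unitMod X).presheaf.stalk x) :
    ∃ r : X.presheaf.stalk x, z = r • (unitMod X).presheaf.germ ⊤ x trivial (1 : Γ(X, ⊤)) := by
  obtain ⟨V, hxV, s, rfl⟩ := TopCat.Presheaf.exists_germ_eq (unitMod X).presheaf z
  refine ⟨X.presheaf.germ V x hxV (show Γ(X, V) from s), ?_⟩
  have h2 : (unitMod X).presheaf.germ ⊤ x trivial (1 : Γ(X, ⊤)) = (unitMod X).presheaf.germ V x hxV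
      ((unitMod X).presheaf.map (homOfLE (le_top : V ≤ ⊤)).op (1 : Γ(X, ⊤))) :=
    (germ_res (unitMod X) x (le_top : V ≤ ⊤) hxV _).symm
  rw [h2, ← germ_smul (unitMod X) x V hxV]
  congr 1
  change s = (show Γ(X, V) from s) * X.presheaf.map (homOfLE (le_top : V ≤ ⊤)).op (1 : Γ(X, ⊤))
  rw [map_one, mul_one]

/-- the germs of the basis sections span the stalk of a free module -/
lemma span_germ_eSec (M : X.Modules) {k : ℕ} (ε : M ≅ freeMod X k) (x : X) :
    ⊤ ≤ Submodule.span (X.presheaf.stalk x) (Set.range fun l : Fin k =>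
      (M.presheaf.germ ⊤ x trivial (ε.inv.app ⊤ (eSec k l)) :
        (DerSch.stalkFunctor X x).obj M)) := by
  intro z _
  have htot : ∑ l, (ε.hom ≫ freeModProj (X := X) k l) ≫
      (Sigma.ι (fun _ : Fin k => unitMod X) l ≫ ε.inv) = 𝟙 M := by
    have h := freeMod_total (X := X) k
    have h2 : ∑ l, (ε.hom ≫ freeModProj (X := X) k l) ≫
        (Sigma.ι (fun _ : Fin k => unitMod X) l ≫ ε.inv) =
        ε.hom ≫ (∑ l, freeModProj (X := X) k l ≫ Sigma.ι (fun _ : Fin k => unitMod X) l) ≫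
          ε.inv := by
      rw [Preadditive.sum_comp, Preadditive.comp_sum]
      refine Finset.sum_congr rfl fun l _ => ?_
      simp only [Category.assoc]
    rw [h2, h, Category.id_comp, Iso.hom_inv_id]
  have h1 : z = ∑ l, ((DerSch.stalkFunctor X x).map ((ε.hom ≫ freeModProj (X := X) k l) ≫
      (Sigma.ι (fun _ : Fin k => unitMod X) l ≫ ε.inv))).hom z := by
    have h2 := congrArg (fun φ => ((DerSch.stalkFunctor X x).map φ).hom z) htot
    simp only [Functor.map_sum, CategoryTheory.Functor.map_id, ModuleCat.hom_sum,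
      LinearMap.sum_apply, ModuleCat.hom_id, LinearMap.id_apply] at h2
    exact h2.symm
  rw [h1]
  refine Submodule.sum_mem _ fun l _ => ?_
  rw [Functor.map_comp, ModuleCat.hom_comp, LinearMap.comp_apply]
  obtain ⟨r, hr⟩ := exists_smul_germ_one x
    (((DerSch.stalkFunctor X x).map (ε.hom ≫ freeModProj (X := X) k l)).hom z)
  rw [hr, stalk_map_smul]
  refine Submodule.smul_mem _ _ (Submodule.subset_span ⟨l, ?_⟩)
  exact (DerSch.stalkFunctor_map_germ x (Sigma.ι (fun _ : Fin k => unitMod X) l ≫ ε.inv) ⊤ trivial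
    (1 : Γ(X, ⊤))).symm


end ModSpread

section J

variable {X : Scheme.{u}}

/-- `j_* j^* M` for the inclusion of an open -/
noncomputable abbrev JMod (W : X.Opens) (M : X.Modules) : X.Modules :=
  (Scheme.Modules.pushforward W.ι).obj ((Scheme.Modules.restrictFunctor W.ι).obj M)

lemma JMod_smul (W : X.Opens) (M : X.Modules) (V : X.Opens) (c : Γ(X, V)) (s : Γ(JMod W M, V)) :
    c • s = (show Γ(JMod W M, V) from
      (X.presheaf.map (homOfLE (W.ι.image_preimage_le V)).op c) •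
        (show Γ(M, W.ι ''ᵁ (W.ι ⁻¹ᵁ V)) from s)) := by
  rw [pushforward_smul]
  have h := W.ι.app_appIso_inv V
  have h2 : (W.ι.appIso (W.ι ⁻¹ᵁ V)).inv (W.ι.app V c) =
      X.presheaf.map (homOfLE (W.ι.image_preimage_le V)).op c := congr($(h) c)
  rw [← h2]
  rfl

/-- the complex `j_* j^* F` for the inclusion of an open -/
noncomputable abbrev JCx (W : X.Opens) (F : CochainComplex X.Modules ℤ) :
    CochainComplex X.Modules ℤ :=
  (DerSch.pushCx W.ι).obj ((DCoh.restrictCx W).obj F)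

/-- the unit `F ⟶ j_* j^* F` -/
noncomputable def ηCx (W : X.Opens) (F : CochainComplex X.Modules ℤ) : F ⟶ JCx W F where
  f n := (Scheme.Modules.restrictAdjunction W.ι).unit.app (F.X n)
  comm' n m _ := ((Scheme.Modules.restrictAdjunction W.ι).unit.naturality (F.d n m)).symm

lemma ηCx_f_app (W : X.Opens) (F : CochainComplex X.Modules ℤ) (n : ℤ) (V : X.Opens) :
    ((ηCx W F).f n).app V = (F.X n).presheaf.map (homOfLE (W.ι.image_preimage_le V)).op := rfl

lemma JCx_d_app (W : X.Opens) (F : CochainComplex X.Modules ℤ) (n m : ℤ) (V : X.Opens) :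
    ((JCx W F).d n m).app V = (F.d n m).app (W.ι ''ᵁ (W.ι ⁻¹ᵁ V)) := rfl


lemma image_preimage_le_of_le (W V₀ : X.Opens) (hWV : W ≤ V₀) (V : X.Opens) :
    W.ι ''ᵁ (W.ι ⁻¹ᵁ V) ≤ V₀ := by
  rintro _ ⟨w, -, rfl⟩
  exact hWV w.2

lemma image_preimage_le_self (W : X.Opens) (V : X.Opens) : W.ι ''ᵁ (W.ι ⁻¹ᵁ V) ≤ W := by
  rintro _ ⟨w, -, rfl⟩
  exact w.2

lemma map_map_le (M : X.Modules) {U₁ U₂ U₃ : X.Opens} (h₁ : U₂ ≤ U₁) (h₂ : U₃ ≤ U₂)
    (s : Γ(M, U₁)) :
    M.presheaf.map (homOfLE h₂).op (M.presheaf.map (homOfLE h₁).op s) =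
      M.presheaf.map (homOfLE (h₂.trans h₁)).op s := by
  rw [← ConcreteCategory.comp_apply, ← Functor.map_comp]
  rfl

/-- a section over a neighbourhood of `W`, as a global section of `j_* j^* M` -/
noncomputable def jres (W : X.Opens) (M : X.Modules) {V₀ : X.Opens} (hWV : W ≤ V₀) (t : Γ(M, V₀)) :
    Γ(JMod W M, ⊤) :=
  M.presheaf.map (homOfLE (image_preimage_le_of_le W V₀ hWV ⊤)).op t

lemma jres_sub (W : X.Opens) (M : X.Modules) {V₀ : X.Opens} (hWV : W ≤ V₀) (s t : Γ(M, V₀)) :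
    jres W M hWV (s - t) = jres W M hWV s - jres W M hWV t := by
  unfold jres
  exact map_sub _ s t

lemma jres_sum (W : X.Opens) (M : X.Modules) {V₀ : X.Opens} (hWV : W ≤ V₀) {κ : Type*}
    (S : Finset κ) (t : κ → Γ(M, V₀)) :
    jres W M hWV (∑ q ∈ S, t q) = ∑ q ∈ S, jres W M hWV (t q) := by
  unfold jres
  exact map_sum _ t S

lemma jres_smul (W : X.Opens) (M : X.Modules) {V₀ : X.Opens} (hWV : W ≤ V₀) (c : Γ(X, ⊤))
    (t : Γ(M, V₀)) :
    jres W M hWV (X.presheaf.map (homOfLE (le_top : V₀ ≤ ⊤)).op c • t) = c • jres W M hWV t := by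
  rw [JMod_smul]
  unfold jres
  rw [Scheme.Modules.map_smul]
  congr 1
  rw [← ConcreteCategory.comp_apply, ← Functor.map_comp]
  rfl

lemma jres_app (W : X.Opens) {M N : X.Modules} (d : M ⟶ N) {V₀ : X.Opens} (hWV : W ≤ V₀)
    (t : Γ(M, V₀)) :
    ((Scheme.Modules.pushforward W.ι).map ((Scheme.Modules.restrictFunctor W.ι).map d)).app ⊤
      (jres W M hWV t) = jres W N hWV (d.app V₀ t) :=
  app_res d (image_preimage_le_of_le W V₀ hWV ⊤) t

lemma jres_eq_zero (W : X.Opens) (M : X.Modules) {V₀ : X.Opens} (hWV : W ≤ V₀) (t : Γ(M, V₀))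
    (h : M.presheaf.map (homOfLE hWV).op t = 0) : jres W M hWV t = 0 := by
  unfold jres
  rw [← map_map_le M hWV (image_preimage_le_self W ⊤) t, h, map_zero]
  rfl

lemma germ_jres (W : X.Opens) (M : X.Modules) {V₀ : X.Opens} (hWV : W ≤ V₀) (t : Γ(M, V₀))
    (x : X) (hx : x ∈ V₀) :
    (JMod W M).presheaf.germ ⊤ x trivial (jres W M hWV t) =
      (JMod W M).presheaf.germ V₀ x hx
        (((Scheme.Modules.restrictAdjunction W.ι).unit.app M).app V₀ t) := by
  rw [← germ_res (JMod W M) x (le_top : V₀ ≤ ⊤) hx (jres W M hWV t)]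
  congr 1
  change M.presheaf.map (homOfLE (W.ι.image_mono (W.ι.preimage_mono (le_top : V₀ ≤ ⊤)))).op
    (M.presheaf.map (homOfLE (image_preimage_le_of_le W V₀ hWV ⊤)).op t) = _
  rw [map_map_le]
  rfl


end J

section Main


variable {X : Scheme.{u}}

lemma app_res' {M N : X.Modules} (φ : M ⟶ N) {U V : X.Opens} (h : V ≤ U) (s : Γ(M, U)) :
    φ.app V (M.presheaf.map (homOfLE h).op s) = N.presheaf.map (homOfLE h).op (φ.app U s) :=
  (app_res φ h s)

set_option maxHeartbeats 1600000 in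
theorem exists_spread_chainMap (x : X) (P F : CochainComplex X.Modules ℤ) (a b : ℤ)
    (hP : DCoh.VanishesOutside P a b) (k : ℤ → ℕ) (ε : ∀ n, P.X n ≅ freeMod X (k n))
    (ψ : (stalkCx x).obj P ⟶ (stalkCx x).obj F) :
    ∃ (W : X.Opens) (_ : x ∈ W) (β : P ⟶ JCx W F),
      (stalkCx x).map β = ψ ≫ (stalkCx x).map (ηCx W F) := by
  classical
  let R := X.presheaf.stalk x
  -- basis sections
  let e : ∀ n, Fin (k n) → Γ(P.X n, ⊤) := fun n l => (ε n).inv.app ⊤ (eSec (k n) l)
  let ge : ∀ n, Fin (k n) → ((stalkCx x).obj P).X n := fun n l =>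
    (P.X n).presheaf.germ ⊤ x trivial (e n l)
  let v : ∀ n, Fin (k n) → (F.X n).presheaf.stalk x := fun n l => (ψ.f n).hom (ge n l)
  have hv0 : ∀ n, n ∉ Set.Icc a b → ∀ l, v n l = 0 := by
    intro n hn l
    have hz : IsZero (((stalkCx x).obj P).X n) :=
      (DerSch.stalkFunctor X x).map_isZero (hP n (by rw [Set.mem_Icc] at hn; omega))
    haveI := ModuleCat.subsingleton_of_isZero hz
    have : ge n l = 0 := Subsingleton.elim _ _
    change (ψ.f n).hom (ge n l) = 0
    rw [this, map_zero]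
  -- the matrices of the differential
  let Mn : ∀ n, freeMod X (k n) ⟶ freeMod X (k (n + 1)) := fun n =>
    (ε n).inv ≫ P.d n (n + 1) ≫ (ε (n + 1)).hom
  let c : ∀ n, Fin (k (n + 1)) → Fin (k n) → Γ(X, ⊤) := fun n q l =>
    coord (k (n + 1)) q ((Mn n).app ⊤ (eSec (k n) l))
  have hMn : ∀ n l, (Mn n).app ⊤ (eSec (k n) l) = ∑ q, c n q l • eSec (k (n + 1)) q :=
    fun n l => eq_sum_coord_smul (k (n + 1)) _
  have hde : ∀ n l, (P.d n (n + 1)).app ⊤ (e n l) = ∑ q, c n q l • e (n + 1) q := by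
    intro n l
    have h1 : (P.d n (n + 1)).app ⊤ (e n l) = (ε (n + 1)).inv.app ⊤ ((Mn n).app ⊤ (eSec (k n) l)) := by
      change _ = ((Mn n) ≫ (ε (n + 1)).inv).app ⊤ (eSec (k n) l)
      have : Mn n ≫ (ε (n + 1)).inv = (ε n).inv ≫ P.d n (n + 1) := by
        simp only [Mn, Category.assoc, Iso.hom_inv_id, Category.comp_id]
      rw [this]
      rfl
    rw [h1, hMn, app_sum_smul]
  -- sections
  obtain ⟨V₀, hxV₀, t₀, ht₀⟩ := exists_sections_of_germs_mod x
    (ι := Σ n : Set.Icc a b, Fin (k (n : ℤ))) (fun p => F.X (p.1 : ℤ))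
    (fun p => v (p.1 : ℤ) p.2)
  let t : ∀ n, Fin (k n) → Γ(F.X n, V₀) := fun n l =>
    if h : n ∈ Set.Icc a b then t₀ ⟨⟨n, h⟩, l⟩ else 0
  have ht : ∀ n l, (F.X n).presheaf.germ V₀ x hxV₀ (t n l) = v n l := by
    intro n l
    by_cases h : n ∈ Set.Icc a b
    · simp only [t, dif_pos h]
      exact ht₀ ⟨⟨n, h⟩, l⟩
    · simp only [t, dif_neg h]
      rw [map_zero, hv0 n h l]
  let cV : ∀ n, Fin (k (n + 1)) → Fin (k n) → Γ(X, V₀) := fun n q l =>
    X.presheaf.map (homOfLE (le_top : V₀ ≤ ⊤)).op (c n q l)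
  let D : ∀ n, Fin (k n) → Γ(F.X (n + 1), V₀) := fun n l =>
    (F.d n (n + 1)).app V₀ (t n l) - ∑ q, cV n q l • t (n + 1) q
  have hD : ∀ n l, (F.X (n + 1)).presheaf.germ V₀ x hxV₀ (D n l) = 0 := by
    intro n l
    simp only [D]
    rw [map_sub, sub_eq_zero, map_sum]
    have h1 : (F.X (n + 1)).presheaf.germ V₀ x hxV₀ ((F.d n (n + 1)).app V₀ (t n l)) =
        (((stalkCx x).obj F).d n (n + 1)).hom (v n l) := by
      rw [← ht n l]
      exact (DerSch.stalkFunctor_map_germ x (F.d n (n + 1)) V₀ hxV₀ (t n l)).symm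
    rw [h1]
    have h2 : (((stalkCx x).obj F).d n (n + 1)).hom (v n l) =
        (ψ.f (n + 1)).hom ((((stalkCx x).obj P).d n (n + 1)).hom (ge n l)) := by
      have := ψ.comm n (n + 1)
      exact congr($(this).hom (ge n l))
    rw [h2]
    have h3 : (((stalkCx x).obj P).d n (n + 1)).hom (ge n l) =
        ∑ q, X.presheaf.germ ⊤ x trivial (c n q l) • ge (n + 1) q := by
      have h4 := DerSch.stalkFunctor_map_germ x (P.d n (n + 1)) ⊤ trivial (e n l)
      refine h4.trans ?_
      rw [hde, map_sum]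
      refine Finset.sum_congr rfl fun q _ => ?_
      exact germ_smul (P.X (n + 1)) x ⊤ trivial (c n q l) (e (n + 1) q)
    rw [h3, map_sum]
    refine Finset.sum_congr rfl fun q _ => ?_
    rw [map_smul]
    have h5 : (F.X (n + 1)).presheaf.germ V₀ x hxV₀ (cV n q l • t (n + 1) q) =
        X.presheaf.germ V₀ x hxV₀ (cV n q l) • (F.X (n + 1)).presheaf.germ V₀ x hxV₀ (t (n + 1) q) :=
      germ_smul (F.X (n + 1)) x V₀ hxV₀ _ _
    rw [h5, ht (n + 1) q, sgerm_res x (le_top : V₀ ≤ ⊤) hxV₀ (c n q l)]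
    rfl
  obtain ⟨W, hWV, hxW, hW⟩ := exists_nbhd_eq_zero_mod x
    (ι := Σ n : Set.Icc a b, Fin (k (n : ℤ))) (fun p => F.X ((p.1 : ℤ) + 1)) V₀ hxV₀
    (fun p => D (p.1 : ℤ) p.2) (fun p => hD _ _)
  -- the sections of `j_* j^* F`
  let τ : ∀ n, Fin (k n) → Γ((JCx W F).X n, ⊤) := fun n l => jres W (F.X n) hWV (t n l)
  let βf : ∀ n, P.X n ⟶ (JCx W F).X n := fun n =>
    (ε n).hom ≫ homOfSections ((JCx W F).X n) (τ n)
  have hβe : ∀ n l, (βf n).app ⊤ (e n l) = τ n l := by
    intro n l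
    change (homOfSections ((JCx W F).X n) (τ n)).app ⊤ (((ε n).inv ≫ (ε n).hom).app ⊤ (eSec (k n) l)) = _
    rw [Iso.inv_hom_id]
    exact congrFun (sectionsOfHom_homOfSections ((JCx W F).X n) (τ n)) l
  have hτ : ∀ n, n ∈ Set.Icc a b → ∀ l,
      ((JCx W F).d n (n + 1)).app ⊤ (τ n l) = ∑ q, c n q l • τ (n + 1) q := by
    intro n hn l
    have h1 : ((JCx W F).d n (n + 1)).app ⊤ (τ n l) =
        jres W (F.X (n + 1)) hWV ((F.d n (n + 1)).app V₀ (t n l)) :=
      jres_app W (F.d n (n + 1)) hWV (t n l)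
    have h2 : ∀ q, c n q l • τ (n + 1) q =
        jres W (F.X (n + 1)) hWV (cV n q l • t (n + 1) q) := fun q =>
      (jres_smul W (F.X (n + 1)) hWV (c n q l) (t (n + 1) q)).symm
    have h3 : jres W (F.X (n + 1)) hWV (D n l) = 0 :=
      jres_eq_zero W (F.X (n + 1)) hWV (D n l) (hW ⟨⟨n, hn⟩, l⟩)
    simp only [D] at h3
    rw [jres_sub, sub_eq_zero, jres_sum] at h3
    rw [h1, h3]
    exact Finset.sum_congr rfl fun q _ => (h2 q).symm
  have hcomm : ∀ n, βf n ≫ (JCx W F).d n (n + 1) = P.d n (n + 1) ≫ βf (n + 1) := by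
    intro n
    by_cases hn : n ∈ Set.Icc a b
    · rw [← cancel_epi (ε n).inv]
      apply hom_ext_sections
      funext l
      rw [sectionsOfHom_apply, sectionsOfHom_apply]
      have hL : ((ε n).inv ≫ βf n ≫ (JCx W F).d n (n + 1)).app ⊤ (eSec (k n) l) =
          ((JCx W F).d n (n + 1)).app ⊤ (τ n l) := by
        change ((JCx W F).d n (n + 1)).app ⊤ ((βf n).app ⊤ (e n l)) = _
        rw [hβe]
      have hR : ((ε n).inv ≫ P.d n (n + 1) ≫ βf (n + 1)).app ⊤ (eSec (k n) l) =
          ∑ q, c n q l • τ (n + 1) q := by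
        change (βf (n + 1)).app ⊤ ((P.d n (n + 1)).app ⊤ (e n l)) = _
        rw [hde, app_sum_smul]
        simp_rw [hβe]
      rw [hL, hR]
      exact hτ n hn l
    · exact (hP n (by rw [Set.mem_Icc] at hn; omega)).eq_of_src _ _
  let β : P ⟶ JCx W F :=
    { f := βf
      comm' := fun n m hnm => by
        obtain rfl : n + 1 = m := hnm
        exact hcomm n }
  refine ⟨W, hxW, β, ?_⟩
  ext n : 1
  apply ModuleCat.hom_ext
  apply LinearMap.ext_on (top_le_iff.mp (span_germ_eSec (P.X n) (ε n) x))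
  rintro _ ⟨l, rfl⟩
  change ((DerSch.stalkFunctor X x).map (βf n)).hom (ge n l) =
    ((DerSch.stalkFunctor X x).map ((ηCx W F).f n)).hom (v n l)
  have h1 : ((DerSch.stalkFunctor X x).map (βf n)).hom (ge n l) =
      ((JCx W F).X n).presheaf.germ ⊤ x trivial (τ n l) := by
    have := DerSch.stalkFunctor_map_germ x (βf n) ⊤ trivial (e n l)
    rw [hβe] at this
    exact this
  have h2 : ((DerSch.stalkFunctor X x).map ((ηCx W F).f n)).hom (v n l) =
      ((JCx W F).X n).presheaf.germ V₀ x hxV₀ (((ηCx W F).f n).app V₀ (t n l)) := by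
    rw [← ht n l]
    exact DerSch.stalkFunctor_map_germ x ((ηCx W F).f n) V₀ hxV₀ (t n l)
  rw [h1, h2]
  exact germ_jres W (F.X n) hWV (t n l) x hxV₀


end Main

end Groth.Agent.H4.Spread2
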