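import Mathlib
import Groth.Prelude.Def_DerSch2
import Groth.Agent.H4.NT7
import Groth.Agent.H4.PCS1
import Groth.Agent.H4.PSch3
import Groth.Agent.Lib.Lead.QC.StalkNbhd

set_option autoImplicit false
universe u
attribute [local instance] HasDerivedCategory.standard
open CategoryTheory CategoryTheory.Limits AlgebraicGeometry DerivedCategory Opposite Pretriangulated
open Groth.Agent.LD.QC Groth.Agent.H4.FAmp3 Groth.Agent.H4.SPt6 Groth.Agent.H4.PSch1
open Groth.Agent.H4.PSch2 Groth.Agent.H4.PSch3 Groth.Agent.H4.TilD9 Groth.Agent.H4.TilD10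
open Groth.Agent.H4.TilD11 Groth.Agent.H4.NT7 Groth.Agent.H4.PCS1 Groth.Agent.H4.PCS4
open Groth.Agent.H4.PCS6

namespace Groth.Agent.H4.Spread3

section Vanish


variable {Y : Scheme.{u}}

/-- vanishing of stalks of cohomology sheaves on an open gives a bound for the restriction -/
lemma isLE_RD_of_stalks (C : DCoh.D Y) (V : Y.Opens) (b : ℤ)
    (h : ∀ i, b ≤ i → ∀ y' ∈ V, Subsingleton ((DCoh.HD C i).presheaf.stalk y')) :
    ((RD V.ι).obj C).IsLE (b - 1) := by
  rw [DerivedCategory.isLE_iff]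
  intro q hq
  exact IsZero.of_iso (isZero_restrict_of_stalks (DCoh.HD C q) V (h q (by omega)))
    ((mapDerivedCategoryHomologyIso (Scheme.Modules.restrictFunctor V.ι) q).app C)

lemma allPC_RD_of_le (C : DCoh.D Y) {V W : Y.Opens} (hVW : V ≤ W)
    (hpc : AllPC ((RD W.ι).obj C)) : AllPC ((RD V.ι).obj C) := by
  have key : ∀ (k : (V : Scheme.{u}) ⟶ Y) [IsOpenImmersion k], k = Y.homOfLE hVW ≫ W.ι →
      AllPC ((RD k).obj C) := by
    intro k _ hk
    subst hk
    obtain ⟨e⟩ := nonempty_RD_comp_obj (Y.homOfLE hVW) W.ι C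
    exact (hpc.restrict (Y.homOfLE hVW)).of_iso e.symm
  exact key V.ι (Y.homOfLE_ι hVW).symm

/-- stalks of the cohomology sheaves of a restriction -/
lemma subsingleton_stalk_HD_RD (C : DCoh.D Y) (V : Y.Opens) (i : ℤ) (y' : (V : Scheme.{u}))
    (h : Subsingleton ((DCoh.HD C i).presheaf.stalk (V.ι y'))) :
    Subsingleton ((DCoh.HD ((RD V.ι).obj C) i).presheaf.stalk y') := by
  let e := (mapDerivedCategoryHomologyIso (Scheme.Modules.restrictFunctor V.ι) i).app C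
  have e' : DCoh.HD ((RD V.ι).obj C) i ≅ (DCoh.HD C i).restrict V.ι := e
  have h1 : Subsingleton (((DCoh.HD C i).restrict V.ι).presheaf.stalk y') :=
    (stalkRestrictAddEquiv V.ι (DCoh.HD C i) y').toEquiv.subsingleton
  have e2 := ((DerSch.stalkFunctor (V : Scheme.{u}) y').mapIso e').toLinearEquiv
  haveI : Subsingleton ((DerSch.stalkFunctor (V : Scheme.{u}) y').obj
    ((DCoh.HD C i).restrict V.ι)) := h1
  exact e2.toEquiv.subsingleton

lemma subsingleton_stalk_HD_of_RD (C : DCoh.D Y) (V : Y.Opens) (i : ℤ) (y' : (V : Scheme.{u}))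
    (h : Subsingleton ((DCoh.HD ((RD V.ι).obj C) i).presheaf.stalk y')) :
    Subsingleton ((DCoh.HD C i).presheaf.stalk (V.ι y')) := by
  let e := (mapDerivedCategoryHomologyIso (Scheme.Modules.restrictFunctor V.ι) i).app C
  have e' : DCoh.HD ((RD V.ι).obj C) i ≅ (DCoh.HD C i).restrict V.ι := e
  have e2 := ((DerSch.stalkFunctor (V : Scheme.{u}) y').mapIso e').toLinearEquiv
  haveI : Subsingleton ((DerSch.stalkFunctor (V : Scheme.{u}) y').obj
    (DCoh.HD ((RD V.ι).obj C) i)) := h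
  have h1 : Subsingleton (((DCoh.HD C i).restrict V.ι).presheaf.stalk y') :=
    e2.symm.toEquiv.subsingleton
  exact (stalkRestrictAddEquiv V.ι (DCoh.HD C i) y').symm.toEquiv.subsingleton

theorem exists_open_stalks_zero (C : DCoh.D Y) (W : Y.Opens) (y : Y) (hy : y ∈ W)
    (hpc : AllPC ((RD W.ι).obj C)) (D' : ℤ) [((RD W.ι).obj C).IsLE D'] (e : ℤ)
    (hz : ∀ i, e ≤ i → Subsingleton ((DCoh.HD C i).presheaf.stalk y)) (n : ℕ) :
    D' + 1 - n ≥ e → ∃ V : Y.Opens, V ≤ W ∧ y ∈ V ∧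
      ∀ i, D' + 1 - n ≤ i → ∀ y' ∈ V, Subsingleton ((DCoh.HD C i).presheaf.stalk y') := by
  induction n with
  | zero =>
    intro _
    refine ⟨W, le_rfl, hy, fun i hi y' hy' => ?_⟩
    have hzero : IsZero (DCoh.HD ((RD W.ι).obj C) i) :=
      isZero_of_isLE _ D' i (by simp at hi; omega)
    let z : (W : Scheme.{u}) := ⟨y', hy'⟩
    have h2 : IsZero ((DerSch.stalkFunctor (W : Scheme.{u}) z).obj (DCoh.HD ((RD W.ι).obj C) i)) :=
      (DerSch.stalkFunctor (W : Scheme.{u}) z).map_isZero hzero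
    exact subsingleton_stalk_HD_of_RD C W i z (ModuleCat.subsingleton_of_isZero h2)
  | succ n ih =>
    intro hn
    obtain ⟨V, hVW, hyV, hV⟩ := ih (by push_cast at hn; omega)
    let b' : ℤ := D' + 1 - n
    haveI hLE : ((RD V.ι).obj C).IsLE (b' - 1) := isLE_RD_of_stalks C V b' hV
    have hpcV : AllPC ((RD V.ι).obj C) := allPC_RD_of_le C hVW hpc
    have hpcV' : DCoh.IsPseudoCoherentD (b' - 1) ((RD V.ι).obj C) := by
      rw [isPseudoCoherentD_iff_pcAt]
      exact fun x => hpcV (b' - 1) x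
    have hFT : (DCoh.HD ((RD V.ι).obj C) (b' - 1)).IsFiniteType :=
      (S0890 (b' - 1) _ hpcV').1 (fun j hj => isZero_of_isLE _ (b' - 1) j hj)
    let y'' : (V : Scheme.{u}) := ⟨y, hyV⟩
    have hz' : Subsingleton ((DCoh.HD ((RD V.ι).obj C) (b' - 1)).presheaf.stalk y'') :=
      subsingleton_stalk_HD_RD C V (b' - 1) y'' (hz (b' - 1) (by push_cast at hn; omega))
    obtain ⟨V', hyV', hV'⟩ := exists_nbhd_stalks_zero _ hFT y'' hz'
    refine ⟨V.ι ''ᵁ V', ?_, ⟨y'', hyV', rfl⟩, ?_⟩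
    · rintro _ ⟨z, -, rfl⟩
      exact hVW z.2
    · rintro i hi _ ⟨z, hz1, rfl⟩
      by_cases hib : b' ≤ i
      · exact hV i hib _ z.2
      · have : i = b' - 1 := by push_cast at hi; omega
        subst this
        exact subsingleton_stalk_HD_of_RD C V (b' - 1) z (hV' z hz1)

/-- a complex which is pseudo-coherent near `y`, bounded above, and whose cohomology sheaves in
degrees `≥ e` have vanishing stalk at `y` lies in `D^{< e}` on a neighbourhood of `y` -/
theorem exists_isLE_of_stalks (C : DCoh.D Y) (W : Y.Opens) (y : Y) (hy : y ∈ W)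
    (hpc : AllPC ((RD W.ι).obj C)) (D' : ℤ) [((RD W.ι).obj C).IsLE D'] (e : ℤ)
    (hz : ∀ i, e ≤ i → Subsingleton ((DCoh.HD C i).presheaf.stalk y)) :
    ∃ V : Y.Opens, V ≤ W ∧ y ∈ V ∧ ((RD V.ι).obj C).IsLE (e - 1) := by
  by_cases hD : D' + 1 ≥ e
  · obtain ⟨V, hVW, hyV, hV⟩ := exists_open_stalks_zero C W y hy hpc D' e hz (D' + 1 - e).toNat
      (by rw [Int.toNat_of_nonneg (by omega)]; omega)
    refine ⟨V, hVW, hyV, isLE_RD_of_stalks C V e fun i hi => hV i ?_⟩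
    rw [Int.toNat_of_nonneg (by omega)]
    omega
  · refine ⟨W, le_rfl, hy, ?_⟩
    exact TStructure.t.isLE_of_le _ D' (e - 1) (by omega)


/-- a morphism between bounded above objects, pseudo-coherent near `y`, which is an `m`-witness
on stalks at `y`, is an `m`-witness on a neighbourhood of `y` -/
theorem exists_isWitD_restrict {A B : DCoh.D Y} (α : A ⟶ B) (W : Y.Opens) (y : Y) (hy : y ∈ W)
    (hA : AllPC ((RD W.ι).obj A)) (hB : AllPC ((RD W.ι).obj B)) (D' : ℤ)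
    [hAle : ((RD W.ι).obj A).IsLE D'] [hBle : ((RD W.ι).obj B).IsLE D'] (m : ℤ)
    (hα : IsWitD m ((DerSch.stalkFunctor Y y).mapDerivedCategory.map α)) :
    ∃ V : Y.Opens, V ≤ W ∧ y ∈ V ∧ IsWitD m ((RD V.ι).map α) := by
  obtain ⟨C, g, h, hT⟩ := distinguished_cocone_triangle α
  let T := Triangle.mk α g h
  haveI : ((RD W.ι).obj C).IsLE D' := by
    have hrot := rot_of_distTriang _ ((RD W.ι).map_distinguished T hT)
    haveI : (((RD W.ι).obj A)⟦(1 : ℤ)⟧).IsLE (D' - 1) :=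
      TStructure.t.isLE_shift _ D' 1 (D' - 1) (by omega)
    haveI h1 : (((RD W.ι).obj A)⟦(1 : ℤ)⟧).IsLE D' :=
      TStructure.t.isLE_of_le _ (D' - 1) D' (by omega)
    exact TStructure.t.isLE₂ _ hrot D' hBle h1
  have hC : AllPC ((RD W.ι).obj C) := fun m' x =>
    PCAt.obj₃ ((RD W.ι).mapTriangle.obj T) ((RD W.ι).map_distinguished T hT) m' x
      (hA (m' + 1) x) (hB m' x)
  let St := (DerSch.stalkFunctor Y y).mapDerivedCategory
  have hSt : (St.obj C).IsLE (m - 1) :=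
    (isWitD_iff_isLE (St.mapTriangle.obj T) (St.map_distinguished T hT) m).1 hα
  have hz : ∀ i, m ≤ i → Subsingleton ((DCoh.HD C i).presheaf.stalk y) := by
    intro i hi
    have h1 : IsZero ((homologyFunctor _ i).obj (St.obj C)) :=
      isZero_of_isLE _ (m - 1) i (by omega)
    have h2 := h1.of_iso ((mapDerivedCategoryHomologyIso (DerSch.stalkFunctor Y y) i).app C).symm
    exact ModuleCat.subsingleton_of_isZero h2
  obtain ⟨V, hVW, hyV, hV⟩ := exists_isLE_of_stalks C W y hy hC D' m hz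
  refine ⟨V, hVW, hyV, ?_⟩
  exact (isWitD_iff_isLE ((RD V.ι).mapTriangle.obj T) ((RD V.ι).map_distinguished T hT) m).2 hV


end Vanish

section DLevel


variable {C : Type*} [Category C] [Abelian C] [HasDerivedCategory C]

lemma factor_unique (T : Triangle (DerivedCategory C)) (hT : T ∈ distTriang _)
    (X : DerivedCategory C) (h : ∀ w : T.obj₃ ⟶ X, w = 0) (u u' : T.obj₂ ⟶ X)
    (huu : T.mor₁ ≫ u = T.mor₁ ≫ u') : u = u' := by
  have h0 : T.mor₁ ≫ (u - u') = 0 := by rw [Preadditive.comp_sub, huu, sub_self]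
  obtain ⟨w, hw⟩ := Triangle.yoneda_exact₂ T hT (u - u') h0
  rw [h w, comp_zero] at hw
  exact sub_eq_zero.mp hw

lemma factor_exists (T : Triangle (DerivedCategory C)) (hT : T ∈ distTriang _)
    (X : DerivedCategory C) (h : ∀ w : T.obj₃⟦(-1 : ℤ)⟧ ⟶ X, w = 0) (f' : T.obj₁ ⟶ X) :
    ∃ u : T.obj₂ ⟶ X, T.mor₁ ≫ u = f' := by
  have hT' := inv_rot_of_distTriang _ hT
  obtain ⟨g, hg⟩ := Triangle.yoneda_exact₂ T.invRotate hT' f' (h _)
  exact ⟨g, hg.symm⟩

/-- two objects of `D^{≥ c}` receiving `(c-1)`-witnesses from the same object are isomorphic -/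
theorem nonempty_iso_of_isWitD {A B B' : DerivedCategory C} (f : A ⟶ B) (f' : A ⟶ B') (c : ℤ)
    (hf : IsWitD (c - 1) f) (hf' : IsWitD (c - 1) f') [hB : B.IsGE c] [hB' : B'.IsGE c] :
    Nonempty (B ≅ B') := by
  obtain ⟨K, g, h, hT⟩ := distinguished_cocone_triangle f
  obtain ⟨K', g', h', hT'⟩ := distinguished_cocone_triangle f'
  haveI hK : K.IsLE (c - 1 - 1) := (isWitD_iff_isLE (Triangle.mk f g h) hT (c - 1)).1 hf
  haveI hK' : K'.IsLE (c - 1 - 1) := (isWitD_iff_isLE (Triangle.mk f' g' h') hT' (c - 1)).1 hf'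
  haveI hKs : (K⟦(-1 : ℤ)⟧).IsLE (c - 1) :=
    TStructure.t.isLE_shift K (c - 1 - 1) (-1) (c - 1) (by omega)
  haveI hKs' : (K'⟦(-1 : ℤ)⟧).IsLE (c - 1) :=
    TStructure.t.isLE_shift K' (c - 1 - 1) (-1) (c - 1) (by omega)
  have z1 : ∀ (Z : DerivedCategory C) [Z.IsGE c] (w : K ⟶ Z), w = 0 := fun Z hZ w =>
    TStructure.t.zero_of_isLE_of_isGE w (c - 1 - 1) c (by omega) hK hZ
  have z1' : ∀ (Z : DerivedCategory C) [Z.IsGE c] (w : K' ⟶ Z), w = 0 := fun Z hZ w =>
    TStructure.t.zero_of_isLE_of_isGE w (c - 1 - 1) c (by omega) hK' hZ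
  have z2 : ∀ (Z : DerivedCategory C) [Z.IsGE c] (w : K⟦(-1 : ℤ)⟧ ⟶ Z), w = 0 := fun Z hZ w =>
    TStructure.t.zero_of_isLE_of_isGE w (c - 1) c (by omega) hKs hZ
  have z2' : ∀ (Z : DerivedCategory C) [Z.IsGE c] (w : K'⟦(-1 : ℤ)⟧ ⟶ Z), w = 0 := fun Z hZ w =>
    TStructure.t.zero_of_isLE_of_isGE w (c - 1) c (by omega) hKs' hZ
  obtain ⟨u, hu⟩ := factor_exists (Triangle.mk f g h) hT B' (z2 B') f'
  obtain ⟨v, hv⟩ := factor_exists (Triangle.mk f' g' h') hT' B (z2' B) f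
  refine ⟨⟨u, v, ?_, ?_⟩⟩
  · apply factor_unique (Triangle.mk f g h) hT B (z1 B)
    change f ≫ u ≫ v = f ≫ 𝟙 B
    change f ≫ u = f' at hu
    change f' ≫ v = f at hv
    rw [← Category.assoc, hu, hv, Category.comp_id]
  · apply factor_unique (Triangle.mk f' g' h') hT' B' (z1' B')
    change f' ≫ v ≫ u = f' ≫ 𝟙 B'
    change f ≫ u = f' at hu
    change f' ≫ v = f at hv
    rw [← Category.assoc, hv, hu, Category.comp_id]


end DLevel

end Groth.Agent.H4.Spread3
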