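import Mathlib
import Groth.Prelude.Def_DerSch2
import Groth.Agent.H4.Spread2
import Groth.Agent.H4.Spread3
import Groth.Agent.H4.FAmp8
import Groth.Agent.Lib.Lead.QC.UnitIso

set_option autoImplicit false
universe u
attribute [local instance] HasDerivedCategory.standard
open CategoryTheory CategoryTheory.Limits AlgebraicGeometry DerivedCategory Opposite Pretriangulated
open Groth.Agent.LD.QC Groth.Agent.H4.FAmp3 Groth.Agent.H4.SPt6 Groth.Agent.H4.PSch1
open Groth.Agent.H4.PSch2 Groth.Agent.H4.PSch3 Groth.Agent.H4.TilD9 Groth.Agent.H4.TilD10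
open Groth.Agent.H4.TilD11 Groth.Agent.H4.NT7 Groth.Agent.H4.PCS1 Groth.Agent.H4.PCS4
open Groth.Agent.H4.PCS6 Groth.Agent.H4.Spread1 Groth.Agent.H4.Spread2 Groth.Agent.H4.Spread3

namespace Groth.Agent.H4.Spread4

variable {X : Scheme.{u}}

/-- over an open contained in `W`, the unit `M ⟶ j_* j^* M` is an isomorphism -/
lemma isIso_restrict_unit (V W : X.Opens) (hVW : V ≤ W) (M : X.Modules) :
    IsIso ((Scheme.Modules.restrictFunctor V.ι).map
      ((Scheme.Modules.restrictAdjunction W.ι).unit.app M)) := by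
  rw [Scheme.Modules.Hom.isIso_iff_isIso_app]
  intro V'
  rw [ConcreteCategory.isIso_iff_bijective]
  have hle : V.ι ''ᵁ V' ≤ W.ι ''ᵁ (W.ι ⁻¹ᵁ (V.ι ''ᵁ V')) := by
    rintro _ ⟨z, hz, rfl⟩
    exact ⟨⟨V.ι z, hVW z.2⟩, ⟨z, hz, rfl⟩, rfl⟩
  exact res_bijective_of_eq M (W.ι.image_preimage_le (V.ι ''ᵁ V')) hle

lemma isIso_resCx_ηCx (V W : X.Opens) (hVW : V ≤ W) (F : CochainComplex X.Modules ℤ) :
    IsIso ((resCx V.ι).map (ηCx W F)) := by
  haveI : ∀ n, IsIso (((resCx V.ι).map (ηCx W F)).f n) := fun n =>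
    isIso_restrict_unit V W hVW (F.X n)
  exact HomologicalComplex.Hom.isIso_of_components _

/-- the unit `M ⟶ j_* j^* M` is an isomorphism on stalks at points of `W` -/
lemma isIso_stalk_unit (W : X.Opens) (M : X.Modules) (x : X) (hx : x ∈ W) :
    IsIso ((DerSch.stalkFunctor X x).map ((Scheme.Modules.restrictAdjunction W.ι).unit.app M)) := by
  let y : (W : Scheme.{u}) := ⟨x, hx⟩
  let η := (Scheme.Modules.restrictAdjunction W.ι).unit.app M
  haveI : IsIso ((Scheme.Modules.restrictFunctor W.ι).map η) := isIso_restrict_unit W W le_rfl M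
  let N := stalkRestrictNatIso W.ι y
  haveI h2 : IsIso ((Scheme.Modules.restrictFunctor W.ι ⋙
      DerSch.stalkFunctor (W : Scheme.{u}) y).map η) := by
    rw [Functor.comp_map]
    infer_instance
  have h1 : IsIso ((DerSch.stalkFunctor X (W.ι y) ⋙
      ModuleCat.restrictScalars (stalkRingHom W.ι y)).map η) := by
    rw [← NatIso.naturality_1 N η]
    infer_instance
  rw [Functor.comp_map] at h1
  haveI := h1
  exact isIso_of_reflects_iso ((DerSch.stalkFunctor X (W.ι y)).map η)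
    (ModuleCat.restrictScalars (stalkRingHom W.ι y))

lemma isIso_stalkCx_ηCx (W : X.Opens) (F : CochainComplex X.Modules ℤ) (x : X) (hx : x ∈ W) :
    IsIso ((stalkCx x).map (ηCx W F)) := by
  haveI : ∀ n, IsIso (((stalkCx x).map (ηCx W F)).f n) := fun n =>
    isIso_stalk_unit W (F.X n) x hx
  exact HomologicalComplex.Hom.isIso_of_components _

section KP
variable {C : Type*} [Category C] [Abelian C] [HasDerivedCategory C]

lemma exists_chainMap_of_kproj (K L : CochainComplex C ℤ) [K.IsKProjective]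
    (ψ : Q.obj K ⟶ Q.obj L) : ∃ s : K ⟶ L, Q.map s = ψ := by
  let q := HomotopyCategory.quotient C (ComplexShape.up ℤ)
  let ψ' : Qh.obj (q.obj K) ⟶ Qh.obj (q.obj L) :=
    (quotientCompQhIso C).hom.app K ≫ ψ ≫ (quotientCompQhIso C).inv.app L
  obtain ⟨g, hg⟩ := (CochainComplex.IsKProjective.Qh_map_bijective K (q.obj L)).2 ψ'
  obtain ⟨s, rfl⟩ := q.map_surjective g
  refine ⟨s, ?_⟩
  have h1 := (quotientCompQhIso C).hom.naturality s
  have h2 : Q.map s = (quotientCompQhIso C).inv.app K ≫ Qh.map (q.map s) ≫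
      (quotientCompQhIso C).hom.app L := by
    rw [← cancel_epi ((quotientCompQhIso C).hom.app K), Iso.hom_inv_id_app_assoc]
    exact h1.symm
  rw [h2, hg]
  simp [ψ']

end KP

lemma isGE_RD {U : Scheme.{u}} (j : U ⟶ X) [IsOpenImmersion j] (C : DCoh.D X) (b : ℤ)
    [C.IsGE b] : ((RD j).obj C).IsGE b := by
  rw [DerivedCategory.isGE_iff]
  intro q hq
  exact IsZero.of_iso ((Scheme.Modules.restrictFunctor j).map_isZero (isZero_of_isGE C b q hq))
    ((mapDerivedCategoryHomologyIso (Scheme.Modules.restrictFunctor j) q).app C)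


set_option maxHeartbeats 1600000 in
theorem main_local (x : X) (E F P : CochainComplex X.Modules ℤ) (c D' : ℤ)
    [hEge : (Q.obj E).IsGE c] [hFge : (Q.obj F).IsGE c] [hFle : (Q.obj F).IsLE D']
    (hFpc : AllPC (Q.obj F)) (a b : ℤ) (hP : DCoh.VanishesOutside P a b) (k : ℤ → ℕ)
    (ε : ∀ n, P.X n ≅ freeMod X (k n)) (g : P ⟶ E) (hg : IsWitCx (c - 1) g)
    (φ : Q.obj ((stalkCx x).obj E) ≅ Q.obj ((stalkCx x).obj F)) :
    ∃ V : X.Opens, x ∈ V ∧ Nonempty ((RD V.ι).obj (Q.obj E) ≅ (RD V.ι).obj (Q.obj F)) := by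
  have hPfl : ∀ n, FlatMod.IsFinLocFree (P.X n) := fun n =>
    isFinLocFree_of_iso (ε n).symm (isFinLocFree_freeMod X (k n))
  have hPsp : DCoh.IsStrictlyPerfect P := ⟨⟨a, b, hP⟩, hPfl⟩
  -- K-projectivity of the stalk complex
  let SP := (stalkCx x).obj P
  haveI : SP.IsStrictlyLE b := by
    rw [CochainComplex.isStrictlyLE_iff]
    intro i hi
    exact (DerSch.stalkFunctor X x).map_isZero (hP i (Or.inr hi))
  haveI : ∀ n, Projective (SP.X n) := fun n => by
    haveI : Module.Free (X.presheaf.stalk x) ((P.X n).presheaf.stalk x) :=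
      free_stalk_of_isFinLocFree (P.X n) (hPfl n) x
    haveI : Module.Projective (X.presheaf.stalk x) ((DerSch.stalkFunctor X x).obj (P.X n)) :=
      inferInstanceAs (Module.Projective (X.presheaf.stalk x) ((P.X n).presheaf.stalk x))
    exact inferInstanceAs (Projective ((DerSch.stalkFunctor X x).obj (P.X n)))
  haveI : SP.IsKProjective := CochainComplex.isKProjective_of_projective SP b
  let ψ₀ : Q.obj SP ⟶ Q.obj ((stalkCx x).obj F) := Q.map ((stalkCx x).map g) ≫ φ.hom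
  obtain ⟨ψ, hψ⟩ := exists_chainMap_of_kproj SP _ ψ₀
  have hψW : IsWitCx (c - 1) ψ := by
    have h1 : IsWitCx (c - 1) ((stalkCx x).map g) := hg.map (DerSch.stalkFunctor X x)
    have h2 : IsWitD (c - 1) (Q.map ((stalkCx x).map g)) := (isWitD_Q_map_iff _).2 h1
    have h3 : IsWitD (c - 1) ψ₀ := by
      have := (isWitD_iso_comp (m := c - 1) (𝟙 _) (Q.map ((stalkCx x).map g)) φ.hom).2 h2
      simpa using this
    rw [← hψ] at h3
    exact (isWitD_Q_map_iff ψ).1 h3
  obtain ⟨W, hxW, β, hβ⟩ := exists_spread_chainMap x P F a b hP k ε ψ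
  haveI := isIso_stalkCx_ηCx W F x hxW
  have hβW : IsWitCx (c - 1) ((stalkCx x).map β) := by
    rw [hβ]
    have := (isWitCx_iso_comp (m := c - 1) (𝟙 _) ψ ((stalkCx x).map (ηCx W F))).2 hψW
    simpa using this
  let α : Q.obj P ⟶ Q.obj (JCx W F) := Q.map β
  let St := (DerSch.stalkFunctor X x).mapDerivedCategory
  have hα : IsWitD (c - 1) (St.map α) := by
    have hnat := (DerSch.stalkFunctor X x).mapDerivedCategoryFactors_hom_naturality β
    have h1 : St.map α = ((DerSch.stalkFunctor X x).mapDerivedCategoryFactors.hom.app P) ≫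
        Q.map ((stalkCx x).map β) ≫
        ((DerSch.stalkFunctor X x).mapDerivedCategoryFactors.inv.app (JCx W F)) := by
      rw [← cancel_mono ((DerSch.stalkFunctor X x).mapDerivedCategoryFactors.hom.app (JCx W F))]
      simp only [Category.assoc, Iso.inv_hom_id_app]
      exact hnat
    rw [h1, isWitD_iso_comp, isWitD_Q_map_iff]
    exact hβW
  -- pseudo-coherence and boundedness near `x`
  have hA0 : AllPC (Q.obj P) := fun m y => PCAt.of_global P hPsp (𝟙 _) (IsWitD.of_isIso _) y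
  have hA : AllPC ((RD W.ι).obj (Q.obj P)) := hA0.restrict W.ι
  let eB : (RD W.ι).obj (Q.obj (JCx W F)) ≅ (RD W.ι).obj (Q.obj F) :=
    RDfac W.ι (JCx W F) ≪≫ Q.mapIso (restrictPushCxIso W ((resCx W.ι).obj F)) ≪≫
      (RDfac W.ι F).symm
  have hB : AllPC ((RD W.ι).obj (Q.obj (JCx W F))) := (hFpc.restrict W.ι).of_iso eB.symm
  let D'' : ℤ := max b D'
  haveI : P.IsStrictlyLE b := by
    rw [CochainComplex.isStrictlyLE_iff]
    intro i hi
    exact hP i (Or.inr hi)
  haveI hPle : (Q.obj P).IsLE b := inferInstance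
  haveI hAle : ((RD W.ι).obj (Q.obj P)).IsLE D'' := by
    haveI := isLE_RD W.ι (Q.obj P) b
    exact TStructure.t.isLE_of_le _ b D'' (le_max_left _ _)
  haveI hBle : ((RD W.ι).obj (Q.obj (JCx W F))).IsLE D'' := by
    haveI := isLE_RD W.ι (Q.obj F) D'
    haveI : ((RD W.ι).obj (Q.obj F)).IsLE D'' :=
      TStructure.t.isLE_of_le _ D' D'' (le_max_right _ _)
    exact TStructure.t.isLE_of_iso eB.symm D''
  obtain ⟨V, hVW, hxV, hV⟩ := exists_isWitD_restrict α W x hxW hA hB D'' (c - 1) hα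
  haveI : IsIso ((RD V.ι).map (Q.map (ηCx W F))) := by
    rw [RD_map_Q]
    haveI := isIso_resCx_ηCx V W hVW F
    infer_instance
  let f' : (RD V.ι).obj (Q.obj P) ⟶ (RD V.ι).obj (Q.obj F) :=
    (RD V.ι).map α ≫ inv ((RD V.ι).map (Q.map (ηCx W F)))
  have hf' : IsWitD (c - 1) f' := by
    have := (isWitD_iso_comp (m := c - 1) (𝟙 _) ((RD V.ι).map α)
      (inv ((RD V.ι).map (Q.map (ηCx W F))))).2 hV
    simpa using this
  let f : (RD V.ι).obj (Q.obj P) ⟶ (RD V.ι).obj (Q.obj E) := (RD V.ι).map (Q.map g)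
  have hf : IsWitD (c - 1) f := ((isWitD_Q_map_iff g).2 hg).map (Scheme.Modules.restrictFunctor V.ι)
  haveI := isGE_RD V.ι (Q.obj E) c
  haveI := isGE_RD V.ι (Q.obj F) c
  exact ⟨V, hxV, nonempty_iso_of_isWitD f f' c hf hf'⟩


/-- an isomorphism over an open immersion, transported to its range -/
lemma nonempty_iso_opensRange {V : Scheme.{u}} (k : V ⟶ X) [IsOpenImmersion k]
    (E F : CochainComplex X.Modules ℤ)
    (h : Nonempty (Q.obj ((resCx k).obj E) ≅ Q.obj ((resCx k).obj F))) :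
    Nonempty (Q.obj ((DCoh.restrictCx k.opensRange).obj E) ≅
      Q.obj ((DCoh.restrictCx k.opensRange).obj F)) := by
  obtain ⟨e⟩ := h
  have key : ∀ (ι' : ↑k.opensRange ⟶ X) [IsOpenImmersion ι'], ι' = k.isoOpensRange.inv ≫ k →
      Nonempty (Q.obj ((resCx ι').obj E) ≅ Q.obj ((resCx ι').obj F)) := by
    intro ι' _ hι'
    subst hι'
    let i := k.isoOpensRange.inv
    exact ⟨Q.mapIso ((resCxComp i k).app E) ≪≫ (RDfac i ((resCx k).obj E)).symm ≪≫
      (RD i).mapIso e ≪≫ RDfac i ((resCx k).obj F) ≪≫ (Q.mapIso ((resCxComp i k).app F)).symm⟩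
  exact key k.opensRange.ι (Scheme.Hom.isoOpensRange_inv_comp k).symm

theorem S6195_main (x : X) (E F : CochainComplex X.Modules ℤ) (c d : ℤ)
    [(DCoh.toD X E).IsGE c] [(DCoh.toD X E).IsLE d] [(DCoh.toD X F).IsGE c]
    [(DCoh.toD X F).IsLE d]
    (hE : ∀ m : ℤ, DCoh.IsPseudoCoherentD m (DCoh.toD X E))
    (hF : ∀ m : ℤ, DCoh.IsPseudoCoherentD m (DCoh.toD X F))
    (hx : Nonempty (DRing.toD (((DerSch.stalkFunctor X x).mapHomologicalComplex
        (ComplexShape.up ℤ)).obj E) ≅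
      DRing.toD (((DerSch.stalkFunctor X x).mapHomologicalComplex (ComplexShape.up ℤ)).obj F))) :
    ∃ U : X.Opens, x ∈ U ∧
      Nonempty (DerivedCategory.Q.obj ((DCoh.restrictCx U).obj E) ≅
        DerivedCategory.Q.obj ((DCoh.restrictCx U).obj F)) := by
  have hpcE : PCAt (c - 1) (Q.obj E) x := (isPseudoCoherentD_iff_pcAt _ _).1 (hE (c - 1)) x
  obtain ⟨U, j, hj, ⟨y, rfl⟩, P, g, a, b, hab, hfree, hg⟩ :=
    exists_locFreeWit_of_pcAt (c - 1) E x hpcE
  choose k ε using hfree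
  have ε' : ∀ n, P.X n ≅ freeMod U (k n) := fun n => (ε n).some
  let E' := (resCx j).obj E
  let F' := (resCx j).obj F
  haveI : (Q.obj E').IsGE c := by
    haveI := isGE_RD j (Q.obj E) c
    exact TStructure.t.isGE_of_iso (RDfac j E) c
  haveI : (Q.obj F').IsGE c := by
    haveI := isGE_RD j (Q.obj F) c
    exact TStructure.t.isGE_of_iso (RDfac j F) c
  haveI : (Q.obj F').IsLE d := by
    haveI := isLE_RD j (Q.obj F) d
    exact TStructure.t.isLE_of_iso (RDfac j F) d
  have hFpc0 : AllPC (Q.obj F) := fun m z => (isPseudoCoherentD_iff_pcAt m _).1 (hF m) z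
  have hFpc : AllPC (Q.obj F') := (hFpc0.restrict j).of_iso (RDfac j F)
  obtain ⟨φ⟩ := nonempty_iso_stalk_restrict j y E F hx
  obtain ⟨V, hyV, ⟨e⟩⟩ := main_local y E' F' P c d hFpc a b hab k ε' g hg φ
  let kk : (V : Scheme.{u}) ⟶ X := V.ι ≫ j
  have h1 : Nonempty (Q.obj ((resCx kk).obj E) ≅ Q.obj ((resCx kk).obj F)) :=
    ⟨Q.mapIso ((resCxComp V.ι j).app E) ≪≫ (RDfac V.ι E').symm ≪≫ e ≪≫ RDfac V.ι F' ≪≫
      (Q.mapIso ((resCxComp V.ι j).app F)).symm⟩
  exact ⟨kk.opensRange, ⟨⟨y, hyV⟩, rfl⟩, nonempty_iso_opensRange kk E F h1⟩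

end Groth.Agent.H4.Spread4
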