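import Mathlib
import Groth.Agent.H4.WRc

/-! helper4: Weil restriction of closed subschemes: local models (projectivity under base change,
equalizer subschemes). -/

set_option autoImplicit false

universe u

open CategoryTheory CategoryTheory.Limits AlgebraicGeometry TensorProduct

namespace Groth.Agent.H4.WRd

section Alg

/-- projectivity is stable under base change (for commutative rings, in pushout form) -/
lemma projective_of_isPushout {B C A D : CommRingCat.{u}} {ψ : B ⟶ C} {φ : B ⟶ A}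
    {inl : C ⟶ D} {inr : A ⟶ D} (h : IsPushout ψ φ inl inr)
    (hA : @Module.Projective B _ A _ φ.hom.toAlgebra.toModule) :
    @Module.Projective C _ D _ inl.hom.toAlgebra.toModule := by
  letI := φ.hom.toAlgebra
  letI := ψ.hom.toAlgebra
  letI algD : Algebra C D := inl.hom.toAlgebra
  haveI : Module.Projective B A := hA
  have h0 : IsPushout ψ φ
      (CommRingCat.ofHom (S := C ⊗[B] A) Algebra.TensorProduct.includeLeftRingHom)
      (CommRingCat.ofHom (S := C ⊗[B] A) Algebra.TensorProduct.includeRight.toRingHom) :=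
    CommRingCat.isPushout_tensorProduct B C A
  have he := h0.inl_isoIsPushout_hom _ _ h
  let E : (C ⊗[B] A) ≃ₗ[C] D :=
    { toFun := fun x => (h0.isoIsPushout _ _ h).hom.hom x
      map_add' := fun x y => map_add _ x y
      map_smul' := fun c x => by
        have h1 : (h0.isoIsPushout _ _ h).hom.hom
            (Algebra.TensorProduct.includeLeftRingHom c) = inl.hom c :=
          congrArg (fun g => g.hom c) he
        rw [RingHom.id_apply, Algebra.smul_def, Algebra.smul_def, map_mul]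
        congr 1
      invFun := fun x => (h0.isoIsPushout _ _ h).inv.hom x
      left_inv := fun x => congrArg (fun g => g.hom x) (h0.isoIsPushout _ _ h).hom_inv_id
      right_inv := fun x => congrArg (fun g => g.hom x) (h0.isoIsPushout _ _ h).inv_hom_id }
  exact Module.Projective.of_equiv' E

end Alg

section Eq

lemma eq_factor_iff {P X' T : Scheme.{u}} (a b : P ⟶ X') (s : T ⟶ P) :
    (∃ l : T ⟶ equalizer a b, l ≫ equalizer.ι a b = s) ↔ s ≫ a = s ≫ b := by
  constructor
  · rintro ⟨l, rfl⟩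
    rw [Category.assoc, Category.assoc, equalizer.condition]
  · intro h
    exact ⟨equalizer.lift s h, equalizer.lift_ι _ _⟩

lemma over_eq_factor_iff {S : Scheme.{u}} {P X' : Over S} (a b : P ⟶ X') {T : Scheme.{u}}
    (s : T ⟶ P.left) :
    (∃ l : T ⟶ (equalizer a b).left, l ≫ (equalizer.ι a b).left = s) ↔
      s ≫ a.left = s ≫ b.left := by
  constructor
  · rintro ⟨l, rfl⟩
    have h : (equalizer.ι a b).left ≫ a.left = (equalizer.ι a b).left ≫ b.left :=
      congrArg (fun m => Over.Hom.left m) (equalizer.condition a b)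
    rw [Category.assoc, Category.assoc, h]
  · intro h
    let s' : Over.mk (s ≫ P.hom) ⟶ P := Over.homMk s rfl
    have hs : s' ≫ a = s' ≫ b := by
      ext
      exact h
    refine ⟨(equalizer.lift s' hs).left, ?_⟩
    exact congrArg (fun m => Over.Hom.left m) (equalizer.lift_ι s' hs)

end Eq

section Model

open Groth.Agent.H4.WRb

/-- the local model for `weil_rep`: an affine morphism `h : A ⟶ S` whose coordinate ring over an
affine open `U` of `S` is projective, base changed along an arbitrary `k : Y ⟶ S`. -/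
theorem loc_model {A S Y P : Scheme.{u}} (h : A ⟶ S) [IsAffineHom h] (k : Y ⟶ S) (fst : P ⟶ A)
    (π : P ⟶ Y) (hP : IsPullback fst π h k) (U : S.Opens) (hU : IsAffineOpen U)
    (hproj : @Module.Projective Γ(S, U) _ Γ(A, h ⁻¹ᵁ U) _ (h.app U).hom.toAlgebra.toModule)
    (y : Y) (hy : k y ∈ U) :
    ∃ (V PV : Scheme.{u}) (j : V ⟶ Y) (fP : PV ⟶ P) (πV : PV ⟶ V),
      IsOpenImmersion j ∧ y ∈ Set.range j ∧ IsAffine V ∧ IsAffine PV ∧ IsPullback fP πV π j ∧
      @Module.Projective Γ(V, ⊤) _ Γ(PV, ⊤) _ πV.appTop.hom.toAlgebra.toModule := by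
  obtain ⟨V', hV', hyV, hVU⟩ : ∃ V' : Y.Opens, IsAffineOpen V' ∧ y ∈ V' ∧ V' ≤ k ⁻¹ᵁ U := by
    obtain ⟨_, ⟨V', hV', rfl⟩, hyV, hVU⟩ := Y.isBasis_affineOpens.exists_subset_of_mem_open
      (show y ∈ ((k ⁻¹ᵁ U : Y.Opens) : Set Y) from hy) (k ⁻¹ᵁ U).2
    exact ⟨V', hV', hyV, hVU⟩
  have : IsAffine V'.toScheme := hV'
  have : IsAffine U.toScheme := hU
  have : IsAffine (h ⁻¹ᵁ U).toScheme := hU.preimage h
  have hrange : Set.range (V'.ι ≫ k) ⊆ Set.range U.ι := by
    rw [Scheme.Opens.range_ι]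
    rintro _ ⟨x, rfl⟩
    have hx : V'.ι x ∈ (V' : Set Y) := by
      rw [← Scheme.Opens.range_ι V']
      exact ⟨x, rfl⟩
    rw [Scheme.Hom.comp_apply]
    exact hVU hx
  obtain ⟨k', hk'⟩ : ∃ k' : V'.toScheme ⟶ U.toScheme, k' ≫ U.ι = V'.ι ≫ k :=
    ⟨IsOpenImmersion.lift U.ι (V'.ι ≫ k) hrange, IsOpenImmersion.lift_fac _ _ _⟩
  have comm : (pullback.snd k' (h ∣_ U) ≫ (h ⁻¹ᵁ U).ι) ≫ h =
      (pullback.fst k' (h ∣_ U) ≫ V'.ι) ≫ k := by
    simp only [Category.assoc]
    rw [← morphismRestrict_ι, ← hk', pullback.condition_assoc]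
  obtain ⟨fP, hfP1, hfP2⟩ : ∃ fP : pullback k' (h ∣_ U) ⟶ P,
      fP ≫ fst = pullback.snd k' (h ∣_ U) ≫ (h ⁻¹ᵁ U).ι ∧
      fP ≫ π = pullback.fst k' (h ∣_ U) ≫ V'.ι :=
    ⟨hP.lift _ _ comm, hP.lift_fst _ _ _, hP.lift_snd _ _ _⟩
  have hpb : IsPullback fP (pullback.fst k' (h ∣_ U)) π V'.ι := by
    have s1 : IsPullback (pullback.snd k' (h ∣_ U)) (pullback.fst k' (h ∣_ U)) (h ∣_ U) k' :=
      (IsPullback.of_hasPullback k' (h ∣_ U)).flip
    have s2 : IsPullback (h ⁻¹ᵁ U).ι (h ∣_ U) h U.ι := (isPullback_morphismRestrict h U).flip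
    have s3 := s1.paste_horiz s2
    rw [← hfP1, hk'] at s3
    exact IsPullback.of_right s3 hfP2 hP
  have p1 : @Module.Projective Γ(U.toScheme, ⊤) _ Γ((h ⁻¹ᵁ U).toScheme, ⊤) _
      (h ∣_ U).appTop.hom.toAlgebra.toModule := by
    have sq : CommSq U.topIso.inv (h.app U) (h ∣_ U).appTop (h ⁻¹ᵁ U).topIso.inv := ⟨by
      rw [← Scheme.Hom.resLE_eq_morphismRestrict, Scheme.Hom.appTop, Scheme.Hom.resLE_app_top,
        Iso.inv_hom_id_assoc, Scheme.Hom.appLE_eq_app]⟩
    exact projective_of_isPushout (IsPushout.of_horiz_isIso sq) hproj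
  have p2 := projective_of_isPushout
    (isPushout_appTop_of_isPullback (IsPullback.of_hasPullback k' (h ∣_ U))) p1
  refine ⟨V'.toScheme, pullback k' (h ∣_ U), V'.ι, fP, pullback.fst k' (h ∣_ U), inferInstance,
    ?_, inferInstance, inferInstance, hpb, p2⟩
  rw [Scheme.Opens.range_ι]
  exact hyV

end Model

end Groth.Agent.H4.WRd
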