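import Mathlib
import Groth.Agent.H4.WRd

/-! helper4: Weil restriction of closed subschemes: translation of "pointwise equality of two
morphisms `G ⊗ Y ⟶ Y'` over all points of `G`" into the predicate `PredW`. -/

set_option autoImplicit false

universe u

open CategoryTheory CategoryTheory.Limits AlgebraicGeometry MonoidalCategory
  CartesianMonoidalCategory

namespace Groth.Agent.H4.WRe

open Groth.Agent.H4.WRb

lemma eq_iff_predW {S : Scheme.{u}} {G Y Y' : Over S} (m₁ m₂ : G ⊗ Y ⟶ Y') {W : Scheme.{u}}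
    (w : W ⟶ (G ⊗ Y).left)
    (hw : ∀ ⦃T'' : Scheme.{u}⦄ (s : T'' ⟶ (G ⊗ Y).left),
      (∃ l : T'' ⟶ W, l ≫ w = s) ↔ s ≫ m₁.left = s ≫ m₂.left)
    {T : Over S} (y : T ⟶ Y) :
    (∀ (T' : Over S) (t : T' ⟶ T) (g : T' ⟶ G), lift g (t ≫ y) ≫ m₁ = lift g (t ≫ y) ≫ m₂) ↔
      PredW (snd G Y).left w y.left := by
  constructor
  · intro hfix T'' q s hqs
    rw [hw]
    have hg : (s ≫ (fst G Y).left) ≫ G.hom = q ≫ T.hom := by
      calc (s ≫ (fst G Y).left) ≫ G.hom = s ≫ ((fst G Y).left ≫ G.hom) := Category.assoc _ _ _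
        _ = s ≫ ((snd G Y).left ≫ Y.hom) := by rw [Over.w (fst G Y), Over.w (snd G Y)]
        _ = (s ≫ (snd G Y).left) ≫ Y.hom := (Category.assoc _ _ _).symm
        _ = (q ≫ y.left) ≫ Y.hom := by rw [hqs]
        _ = q ≫ (y.left ≫ Y.hom) := Category.assoc _ _ _
        _ = q ≫ T.hom := by rw [Over.w y]
    let T' : Over S := Over.mk (q ≫ T.hom)
    let t : T' ⟶ T := Over.homMk q rfl
    let g : T' ⟶ G := Over.homMk (s ≫ (fst G Y).left) hg
    have hs : (lift g (t ≫ y)).left = s := by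
      apply pullback.hom_ext
      · have h1 := congrArg (fun m => Over.Hom.left m) (lift_fst g (t ≫ y))
        exact h1
      · have h1 := congrArg (fun m => Over.Hom.left m) (lift_snd g (t ≫ y))
        exact h1.trans hqs
    have h2 := congrArg (fun m => Over.Hom.left m) (hfix T' t g)
    have h3 : (lift g (t ≫ y)).left ≫ m₁.left = (lift g (t ≫ y)).left ≫ m₂.left := h2
    rw [hs] at h3
    exact h3
  · intro hP T' t g
    have e : t.left ≫ y.left = (lift g (t ≫ y)).left ≫ (snd G Y).left :=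
      (congrArg (fun m => Over.Hom.left m) (lift_snd g (t ≫ y))).symm
    have h1 := (hw _).1 (hP t.left (lift g (t ≫ y)).left e)
    ext
    exact h1

lemma over_rep {S : Scheme.{u}} {Y : Over S} {Z₀ : Scheme.{u}} (c₀ : Z₀ ⟶ Y.left) {T : Over S}
    (y : T ⟶ Y) :
    (∃ z : T ⟶ Over.mk (c₀ ≫ Y.hom),
        z ≫ (Over.homMk c₀ rfl : Over.mk (c₀ ≫ Y.hom) ⟶ Y) = y) ↔
      ∃ z : T.left ⟶ Z₀, z ≫ c₀ = y.left := by
  constructor
  · rintro ⟨z, rfl⟩
    exact ⟨z.left, rfl⟩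
  · rintro ⟨z, hz⟩
    have hz' : z ≫ c₀ ≫ Y.hom = T.hom := by
      rw [← Category.assoc, hz, Over.w]
    refine ⟨Over.homMk z hz', ?_⟩
    ext
    exact hz

end Groth.Agent.H4.WRe
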