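import Mathlib
import Groth.Prelude.Def_SGA3x
import Groth.Agent.H4.WRc
import Groth.Agent.Lib.Helper3.FpqcCov.Basic

/-! helper4: Weil restriction of closed subschemes along an essentially free morphism
(SGA3 VIII 6.4): local model on an affine cover with projective coordinate rings, finite
presentation, fpqc + Zariski gluing. -/

set_option autoImplicit false

universe u

open CategoryTheory CategoryTheory.Limits AlgebraicGeometry

namespace Groth.Agent.H4.WRi

open Groth.Agent.H4.WRb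

/-- restriction of a local predicate along a morphism -/
lemma isLocalPred_precomp {Y Y' : Scheme.{u}} {Q : ∀ ⦃T : Scheme.{u}⦄, (T ⟶ Y) → Prop}
    (hQ : IsLocalPred Q) (h : Y' ⟶ Y) :
    IsLocalPred (fun ⦃T : Scheme.{u}⦄ (x : T ⟶ Y') => Q (x ≫ h)) where
  comp := by
    intro T T' g y hy
    show Q ((g ≫ y) ≫ h)
    rw [Category.assoc]
    exact hQ.comp g (y ≫ h) hy
  of_sieve := by
    intro T y R hR hh
    refine hQ.of_sieve (y ≫ h) R hR (fun T' t ht => ?_)
    have h1 : Q ((t ≫ y) ≫ h) := hh t ht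
    rwa [Category.assoc] at h1

/-- `PredW` can be tested on an open cover of the total space -/
lemma predW_iff_openCover {Y P W : Scheme.{u}} (π : P ⟶ Y) (w : W ⟶ P) [Mono w] {ι : Type u}
    (V : ι → P.Opens) (hV : ∀ x : P, ∃ i, x ∈ V i) ⦃T : Scheme.{u}⦄ (y : T ⟶ Y) :
    PredW π w y ↔ ∀ i, PredW ((V i).ι ≫ π) (pullback.snd w (V i).ι) y := by
  constructor
  · intro h i T'' q s hqs
    obtain ⟨l, hl⟩ := h q (s ≫ (V i).ι) (by rw [hqs, Category.assoc])
    exact ⟨pullback.lift l s hl, pullback.lift_snd _ _ _⟩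
  · intro h T'' q s hqs
    have hcov : Presieve.ofArrows (fun i => ((s ⁻¹ᵁ V i : T''.Opens) : Scheme.{u}))
        (fun i => (s ⁻¹ᵁ V i).ι) ∈ Scheme.zariskiPrecoverage T'' := by
      refine (Scheme.ofArrows_mem_precoverage_iff _).2 ⟨fun x => ?_, fun i => inferInstance⟩
      obtain ⟨i, hi⟩ := hV (s x)
      refine ⟨i, ?_⟩
      rw [Scheme.Opens.range_ι]
      exact hi
    have hmem := Scheme.zariskiPrecoverage_le_fpqcPrecoverage _ hcov
    refine exists_factor_of_sieve w s (Sieve.generate _)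
      (Precoverage.generate_mem_toGrothendieck hmem) ?_
    rintro T' t ⟨_, a, _, ⟨i⟩, rfl⟩
    obtain ⟨l, hl⟩ := h i ((s ⁻¹ᵁ V i).ι ≫ q) (s ∣_ V i) (by
      rw [Category.assoc, hqs, ← Category.assoc, ← Category.assoc, morphismRestrict_ι])
    refine ⟨a ≫ l ≫ pullback.fst _ _, ?_⟩
    rw [Category.assoc, Category.assoc, pullback.condition, ← Category.assoc l, hl,
      morphismRestrict_ι, Category.assoc]

section Alg

variable {B A : Type u} [CommRing B] [CommRing A] [Algebra B A]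

/-- the content ideal of a finitely generated ideal of a projective algebra is finitely generated -/
lemma content_fg [Module.Projective B A] (I : Ideal A) (hI : I.FG) :
    (Groth.Agent.H4.WRa.content (B := B) I).FG := by
  classical
  obtain ⟨s, hs⟩ := Module.projective_def'.mp (inferInstance : Module.Projective B A)
  obtain ⟨T, rfl⟩ := hI
  have hlc : ∀ a : A, a = Finsupp.linearCombination B id (s a) := by
    intro a
    have := congrArg (fun g : A →ₗ[B] A => g a) hs
    simpa using this.symm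
  refine ⟨T.biUnion (fun a => (s a).support.image (fun x => (s a) x)), le_antisymm ?_ ?_⟩
  · rw [Ideal.span_le]
    intro b hb
    rw [Finset.mem_coe, Finset.mem_biUnion] at hb
    obtain ⟨a, haT, hb⟩ := hb
    rw [Finset.mem_image] at hb
    obtain ⟨x, _, rfl⟩ := hb
    exact Ideal.subset_span ⟨(Finsupp.lapply x).comp s, a, Ideal.subset_span haT, rfl⟩
  · have key : ∀ a ∈ Ideal.span (T : Set A), ∀ f : A →ₗ[B] B,
        f a ∈ Ideal.span
          ((T.biUnion (fun a => (s a).support.image (fun x => (s a) x)) : Finset B) : Set B) := by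
      intro a ha
      induction ha using Submodule.span_induction with
      | mem a haT =>
        intro f
        rw [hlc a, Finsupp.linearCombination_apply, Finsupp.sum, map_sum]
        refine Ideal.sum_mem _ fun x hx => ?_
        rw [id, map_smul, smul_eq_mul]
        refine Ideal.mul_mem_right _ _ (Ideal.subset_span ?_)
        rw [Finset.mem_coe, Finset.mem_biUnion]
        exact ⟨a, haT, Finset.mem_image.2 ⟨x, hx, rfl⟩⟩
      | zero =>
        intro f
        rw [map_zero]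
        exact Ideal.zero_mem _
      | add a b _ _ ha hb =>
        intro f
        rw [map_add]
        exact Ideal.add_mem _ (ha f) (hb f)
      | smul r a _ ha =>
        intro f
        have h1 := ha (f.comp (LinearMap.mulLeft B r))
        rwa [LinearMap.comp_apply, LinearMap.mulLeft_apply] at h1
    rw [Groth.Agent.H4.WRa.content, Ideal.span_le]
    rintro b ⟨f, a, ha, rfl⟩
    exact key a ha f

end Alg

/-- explicit form of `WRb.local_rep` -/
theorem local_iff {X₀ P₀ W₀ : Scheme.{u}} [IsAffine X₀] [IsAffine P₀] (π₀ : P₀ ⟶ X₀)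
    (w₀ : W₀ ⟶ P₀) [IsClosedImmersion w₀]
    (hproj : @Module.Projective Γ(X₀, ⊤) _ Γ(P₀, ⊤) _ π₀.appTop.hom.toAlgebra.toModule)
    ⦃T : Scheme.{u}⦄ (x : T ⟶ X₀) :
    PredW π₀ w₀ x ↔
      @Groth.Agent.H4.WRa.content Γ(X₀, ⊤) Γ(P₀, ⊤) _ _ π₀.appTop.hom.toAlgebra
        (RingHom.ker w₀.appTop.hom) ≤ RingHom.ker x.appTop.hom := by
  letI alg : Algebra Γ(X₀, ⊤) Γ(P₀, ⊤) := π₀.appTop.hom.toAlgebra
  haveI : Module.Projective Γ(X₀, ⊤) Γ(P₀, ⊤) := hproj
  have hkc := ker_subschemeι_appTop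
    (Groth.Agent.H4.WRa.content (B := Γ(X₀, ⊤)) (RingHom.ker w₀.appTop.hom))
  have back : ∀ ⦃T : Scheme.{u}⦄ (x : T ⟶ X₀),
      Groth.Agent.H4.WRa.content (B := Γ(X₀, ⊤)) (RingHom.ker w₀.appTop.hom) ≤
        RingHom.ker x.appTop.hom → PredW π₀ w₀ x := by
    intro T x hJ T'' q s hqs
    rw [factors_iff w₀ s]
    have hσ : s.appTop.hom.comp (algebraMap Γ(X₀, ⊤) Γ(P₀, ⊤)) = (q ≫ x).appTop.hom := by
      rw [hqs, Scheme.Hom.comp_appTop, CommRingCat.hom_comp]
      rfl
    refine Groth.Agent.H4.WRa.le_ker_of_content_le (q ≫ x).appTop.hom s.appTop.hom hσ _ ?_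
    refine hJ.trans ?_
    intro b hb
    have hb' : x.appTop.hom b = 0 := RingHom.mem_ker.mp hb
    rw [RingHom.mem_ker, Scheme.Hom.comp_appTop, CommRingCat.hom_comp, RingHom.comp_apply, hb',
      map_zero]
  have hloc := predW_isLocal π₀ w₀
  have main : ∀ ⦃T : Scheme.{u}⦄ (x : T ⟶ X₀), PredW π₀ w₀ x ↔
      ∃ z : T ⟶ (Scheme.IdealSheafData.ofIdealTop
        (Groth.Agent.H4.WRa.content (B := Γ(X₀, ⊤)) (RingHom.ker w₀.appTop.hom))).subscheme,
        z ≫ (Scheme.IdealSheafData.ofIdealTop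
        (Groth.Agent.H4.WRa.content (B := Γ(X₀, ⊤)) (RingHom.ker w₀.appTop.hom))).subschemeι = x := by
    intro T x
    refine rep_of_affine hloc _ (fun C x => ?_) x
    rw [factors_iff _ x, hkc]
    refine ⟨fun hx => ?_, back x⟩
    obtain ⟨l, hl⟩ := hx (pullback.fst x π₀) (pullback.snd x π₀) pullback.condition
    have hpo := isPushout_appTop_of_isPullback (IsPullback.of_hasPullback x π₀)
    refine Groth.Agent.H4.WRa.content_le_ker_of_isPushout hpo _ ?_
    intro a ha
    have ha' : w₀.appTop.hom a = 0 := RingHom.mem_ker.mp ha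
    rw [RingHom.mem_ker, ← hl, Scheme.Hom.comp_appTop, CommRingCat.hom_comp, RingHom.comp_apply,
      ha', map_zero]
  rw [main x, factors_iff _ x, hkc]

/-- closed subschemes of an affine scheme cut out by a finitely generated ideal are of finite
presentation -/
lemma lfp_subschemeι {X : Scheme.{u}} [IsAffine X] (J : Ideal Γ(X, ⊤)) (hJ : J.FG) :
    LocallyOfFinitePresentation (Scheme.IdealSheafData.ofIdealTop J).subschemeι := by
  obtain ⟨h1, h2⟩ := IsClosedImmersion.isAffine_surjective_of_isAffine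
    (Scheme.IdealSheafData.ofIdealTop J).subschemeι
  haveI := h1
  rw [HasRingHomProperty.iff_of_isAffine (P := @LocallyOfFinitePresentation)]
  refine RingHom.FinitePresentation.of_surjective _ h2 ?_
  rw [ker_subschemeι_appTop]
  exact hJ

/-- the kernel of a closed immersion of finite presentation between affine schemes is finitely
generated -/
lemma ker_fg_of_lfp {X Z : Scheme.{u}} [IsAffine X] (c : Z ⟶ X) [IsClosedImmersion c]
    [LocallyOfFinitePresentation c] : (RingHom.ker c.appTop.hom).FG := by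
  obtain ⟨h1, h2⟩ := IsClosedImmersion.isAffine_surjective_of_isAffine c
  haveI := h1
  have h3 : RingHom.FinitePresentation c.appTop.hom :=
    (HasRingHomProperty.iff_of_isAffine (P := @LocallyOfFinitePresentation)).1 inferInstance
  letI := c.appTop.hom.toAlgebra
  haveI : Algebra.FinitePresentation Γ(X, ⊤) Γ(Z, ⊤) := h3
  exact Algebra.FinitePresentation.ker_fG_of_surjective (Algebra.ofId Γ(X, ⊤) Γ(Z, ⊤)) h2

/-- two subobjects representing the same subfunctor: finite presentation transfers -/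
lemma lfp_of_rep {X Z₁ Z₂ : Scheme.{u}} (c₁ : Z₁ ⟶ X) (c₂ : Z₂ ⟶ X) [Mono c₁] [Mono c₂]
    (h : ∀ ⦃T : Scheme.{u}⦄ (x : T ⟶ X), (∃ z : T ⟶ Z₁, z ≫ c₁ = x) ↔ (∃ z : T ⟶ Z₂, z ≫ c₂ = x))
    (h2 : LocallyOfFinitePresentation c₂) : LocallyOfFinitePresentation c₁ := by
  obtain ⟨a, ha⟩ := (h c₁).1 ⟨𝟙 _, Category.id_comp _⟩
  obtain ⟨b, hb⟩ := (h c₂).2 ⟨𝟙 _, Category.id_comp _⟩
  haveI : IsIso a := ⟨b, by rw [← cancel_mono c₁, Category.assoc, hb, ha, Category.id_comp],
    by rw [← cancel_mono c₂, Category.assoc, ha, hb, Category.id_comp]⟩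
  rw [← ha]
  infer_instance

/-- local model: over an affine base, total space covered by affine opens with projective
coordinate rings -/
theorem cover_rep {X₀ P W : Scheme.{u}} [IsAffine X₀] (π : P ⟶ X₀) (w : W ⟶ P)
    [IsClosedImmersion w] {ι : Type u} (V : ι → P.Opens) (hcov : ∀ x : P, ∃ i, x ∈ V i)
    (hV : ∀ i, IsAffineOpen (V i))
    (hproj : ∀ i, @Module.Projective Γ(X₀, ⊤) _ Γ((V i : Scheme.{u}), ⊤) _
      ((V i).ι ≫ π).appTop.hom.toAlgebra.toModule) :
    ∃ (Z : Scheme.{u}) (c : Z ⟶ X₀), IsClosedImmersion c ∧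
      (∀ ⦃T : Scheme.{u}⦄ (x : T ⟶ X₀), PredW π w x ↔ ∃ z : T ⟶ Z, z ≫ c = x) ∧
      (Finite ι → LocallyOfFinitePresentation w → LocallyOfFinitePresentation c) := by
  haveI : ∀ i, IsAffine (V i : Scheme.{u}) := fun i => hV i
  obtain ⟨J, hJ⟩ : ∃ J : ι → Ideal Γ(X₀, ⊤), J = fun i =>
      @Groth.Agent.H4.WRa.content Γ(X₀, ⊤) Γ((V i : Scheme.{u}), ⊤) _ _
        ((V i).ι ≫ π).appTop.hom.toAlgebra (RingHom.ker (pullback.snd w (V i).ι).appTop.hom) :=
    ⟨_, rfl⟩
  have hloc : ∀ i ⦃T : Scheme.{u}⦄ (x : T ⟶ X₀),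
      PredW ((V i).ι ≫ π) (pullback.snd w (V i).ι) x ↔ J i ≤ RingHom.ker x.appTop.hom := by
    intro i T x
    rw [hJ]
    exact local_iff ((V i).ι ≫ π) (pullback.snd w (V i).ι) (hproj i) x
  refine ⟨_, (Scheme.IdealSheafData.ofIdealTop (⨆ i, J i)).subschemeι, inferInstance, ?_, ?_⟩
  · intro T x
    rw [predW_iff_openCover π w V hcov x, factors_iff, ker_subschemeι_appTop, iSup_le_iff]
    exact forall_congr' fun i => hloc i x
  · intro hfin hw
    refine lfp_subschemeι _ (Submodule.fg_iSup _ fun i => ?_)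
    rw [hJ]
    letI := ((V i).ι ≫ π).appTop.hom.toAlgebra
    haveI : Module.Projective Γ(X₀, ⊤) Γ((V i : Scheme.{u}), ⊤) := hproj i
    exact content_fg _ (ker_fg_of_lfp (pullback.snd w (V i).ι))

/-- `PredW f j g` says that the base change of `j` along `g` is an isomorphism -/
lemma predW_iff_isIso {S Z Y S' : Scheme.{u}} (f : Z ⟶ S) (j : Y ⟶ Z) [Mono j] (g : S' ⟶ S) :
    PredW f j g ↔ IsIso (pullback.snd j (pullback.fst f g)) := by
  constructor
  · intro h
    obtain ⟨l, hl⟩ := h (pullback.snd f g) (pullback.fst f g) pullback.condition.symm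
    refine ⟨pullback.lift l (𝟙 _) (by rw [hl, Category.id_comp]), ?_, pullback.lift_snd _ _ _⟩
    rw [← cancel_mono (pullback.snd j (pullback.fst f g)), Category.assoc, pullback.lift_snd,
      Category.comp_id, Category.id_comp]
  · intro h T'' q s hqs
    refine ⟨pullback.lift s q hqs.symm ≫ inv (pullback.snd j (pullback.fst f g)) ≫
      pullback.fst j (pullback.fst f g), ?_⟩
    rw [Category.assoc, Category.assoc, pullback.condition, IsIso.inv_hom_id_assoc,
      pullback.lift_fst]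

/-- SGA3 VIII 6.4 -/
theorem essFree_rep {S Z Y : Scheme.{u}} (f : Z ⟶ S) (hf : SGA3x.IsEssentiallyFree f)
    (j : Y ⟶ Z) [IsClosedImmersion j] :
    ∃ (T : Scheme.{u}) (t : T ⟶ S), IsClosedImmersion t ∧
      (∀ ⦃S' : Scheme.{u}⦄ (g : S' ⟶ S), PredW f j g ↔ ∃ g' : S' ⟶ T, g' ≫ t = g) ∧
      (QuasiCompact f → LocallyOfFinitePresentation j → LocallyOfFinitePresentation t) := by
  have hU : ∀ s : S, ∃ U : S.Opens, s ∈ U ∧ ∃ (Z₁ : Scheme.{u}) (c₁ : Z₁ ⟶ (U : Scheme.{u})),
      IsClosedImmersion c₁ ∧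
      (∀ ⦃T : Scheme.{u}⦄ (x : T ⟶ (U : Scheme.{u})), PredW f j (x ≫ U.ι) ↔
        ∃ z : T ⟶ Z₁, z ≫ c₁ = x) ∧
      (QuasiCompact f → LocallyOfFinitePresentation j → LocallyOfFinitePresentation c₁) := by
    intro s
    obtain ⟨U, hsU, hUaff, S', hS', g, hgf, hgs, hV⟩ := hf s
    refine ⟨U, hsU, ?_⟩
    haveI : IsAffine (U : Scheme.{u}) := hUaff
    haveI := hgf
    haveI := hgs
    haveI : QuasiCompact g := inferInstance
    choose V hxV hVaff hVproj using hV
    have hpb1 : IsPullback (pullback.fst f (g ≫ U.ι)) (pullback.snd f (g ≫ U.ι)) f (g ≫ U.ι) :=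
      IsPullback.of_hasPullback _ _
    have hpb2 := IsPullback.of_hasPullback j (pullback.fst f (g ≫ U.ι))
    obtain ⟨Z', c', hc', hrep', -⟩ := cover_rep (pullback.snd f (g ≫ U.ι))
      (pullback.snd j (pullback.fst f (g ≫ U.ι))) V (fun x => ⟨x, hxV x⟩) hVaff hVproj
    obtain ⟨Z₁, c₁, hc₁, hrep₁⟩ := Groth.Agent.H4.WRc.glue_rep
      (X := fun _ : PUnit.{u + 1} => S') (fun _ => g)
      (by rw [Groth.Agent.H3.FpqcCov.ofArrows_const]
          exact Scheme.Hom.singleton_mem_fpqcPrecoverage g)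
      (isLocalPred_precomp (predW_isLocal f j) U.ι)
      (fun _ => Z') (fun _ => c') (fun _ => hc')
      (fun _ T x => by
        show PredW f j ((x ≫ g) ≫ U.ι) ↔ _
        rw [Category.assoc, predW_baseChange hpb1 hpb2]
        exact hrep' x)
    refine ⟨Z₁, c₁, hc₁, hrep₁, ?_⟩
    intro hqc hj
    haveI := hqc
    haveI := hj
    haveI := hc₁
    -- finite subcover
    haveI : CompactSpace ↥(pullback f (g ≫ U.ι)) :=
      QuasiCompact.compactSpace_of_compactSpace (pullback.snd f (g ≫ U.ι))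
    have hcovV : (Set.univ : Set ↥(pullback f (g ≫ U.ι))) ⊆
        ⋃ x, ((V x : (pullback f (g ≫ U.ι)).Opens) : Set ↥(pullback f (g ≫ U.ι))) :=
      fun y _ => Set.mem_iUnion.2 ⟨y, hxV y⟩
    obtain ⟨t, ht⟩ := isCompact_univ.elim_finite_subcover _ (fun x => (V x).isOpen) hcovV
    obtain ⟨Z'', c'', hc'', hrep'', hfp''⟩ := cover_rep (pullback.snd f (g ≫ U.ι))
      (pullback.snd j (pullback.fst f (g ≫ U.ι))) (fun i : ↥t => V i.1)
      (fun x => by
        have hx := ht (Set.mem_univ x)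
        rw [Set.mem_iUnion₂] at hx
        obtain ⟨i, hi, hxi⟩ := hx
        exact ⟨⟨i, hi⟩, hxi⟩)
      (fun i => hVaff i.1) (fun i => hVproj i.1)
    haveI := hc''
    have hlfp : LocallyOfFinitePresentation (pullback.fst g c₁) := by
      refine lfp_of_rep (pullback.fst g c₁) c'' (fun T x => ?_) (hfp'' inferInstance inferInstance)
      have e1 : (∃ z : T ⟶ Z'', z ≫ c'' = x) ↔ PredW f j ((x ≫ g) ≫ U.ι) := by
        rw [← hrep'' x, Category.assoc, predW_baseChange hpb1 hpb2]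
      have e2 : PredW f j ((x ≫ g) ≫ U.ι) ↔ ∃ z : T ⟶ Z₁, z ≫ c₁ = x ≫ g := hrep₁ (x ≫ g)
      rw [e1, e2]
      constructor
      · rintro ⟨z, hz⟩
        exact ⟨z ≫ pullback.snd g c₁, by
          rw [Category.assoc, ← pullback.condition, ← Category.assoc, hz]⟩
      · rintro ⟨z, hz⟩
        exact ⟨pullback.lift x z hz.symm, pullback.lift_fst _ _ _⟩
    exact MorphismProperty.of_pullback_fst_of_descendsAlong
      (P := @LocallyOfFinitePresentation) (Q := @Surjective ⊓ @Flat ⊓ @QuasiCompact)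
      (f := g) (g := c₁) ⟨⟨hgs, hgf⟩, inferInstance⟩ hlfp
  choose U hsU Z₁ c₁ hc₁ hrep₁ hfp₁ using hU
  obtain ⟨T, t, ht, hrep⟩ := Groth.Agent.H4.WRc.glue_rep
    (X := fun s : S => ((U s : S.Opens) : Scheme.{u})) (fun s => (U s).ι)
    (Scheme.zariskiPrecoverage_le_fpqcPrecoverage _
      ((Scheme.ofArrows_mem_precoverage_iff _).2
        ⟨fun s => ⟨s, by rw [Scheme.Opens.range_ι]; exact hsU s⟩, fun s => inferInstance⟩))
    (predW_isLocal f j) Z₁ c₁ hc₁ (fun s T x => hrep₁ s x)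
  refine ⟨T, t, ht, hrep, ?_⟩
  intro hqc hj
  haveI := ht
  refine IsZariskiLocalAtTarget.of_forall_exists_morphismRestrict (P := @LocallyOfFinitePresentation)
    (fun s => ⟨U s, hsU s, ?_⟩)
  haveI := hc₁ s
  haveI : IsClosedImmersion (t ∣_ U s) :=
    MorphismProperty.of_isPullback (P := @IsClosedImmersion)
      (isPullback_morphismRestrict t (U s)).flip ht
  refine lfp_of_rep (t ∣_ U s) (c₁ s) (fun T' x => ?_) (hfp₁ s hqc hj)
  rw [← hrep₁ s x, hrep (x ≫ (U s).ι)]
  constructor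
  · rintro ⟨z, hz⟩
    exact ⟨z ≫ (t ⁻¹ᵁ U s).ι, by
      rw [Category.assoc, ← morphismRestrict_ι, ← Category.assoc, hz]⟩
  · rintro ⟨z, hz⟩
    exact ⟨(isPullback_morphismRestrict t (U s)).lift x z hz.symm,
      (isPullback_morphismRestrict t (U s)).lift_fst _ _ _⟩

end Groth.Agent.H4.WRi
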