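import Mathlib
import Groth.Agent.H4.WRi
import Groth.Agent.H4.WRe
import Groth.Agent.Lib.Helper3.FpqcLocal2

/-! helper4: finite presentation of Weil restrictions of closed subschemes; transporters into a
closed subscheme. -/

set_option autoImplicit false

universe u

open CategoryTheory CategoryTheory.Limits AlgebraicGeometry MonoidalCategory
  CartesianMonoidalCategory

namespace Groth.Agent.H4.WRj

open Groth.Agent.H4.WRb Groth.Agent.H4.WRi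

/-- finite presentation of a representing subobject can be checked on an fpqc covering family -/
lemma lfp_of_cover_rep {Y : Scheme.{u}} {ι : Type u} {X : ι → Scheme.{u}} (f : ∀ i, X i ⟶ Y)
    (hf : Presieve.ofArrows X f ∈ Scheme.fpqcPrecoverage Y)
    {Q : ∀ ⦃T : Scheme.{u}⦄, (T ⟶ Y) → Prop} {Z₀ : Scheme.{u}} (c₀ : Z₀ ⟶ Y) [Mono c₀]
    (h₀ : ∀ ⦃T : Scheme.{u}⦄ (y : T ⟶ Y), Q y ↔ ∃ z : T ⟶ Z₀, z ≫ c₀ = y)
    (Z : ι → Scheme.{u}) (c : ∀ i, Z i ⟶ X i) [∀ i, Mono (c i)]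
    (h : ∀ (i : ι) ⦃T : Scheme.{u}⦄ (x : T ⟶ X i), Q (x ≫ f i) ↔ ∃ z : T ⟶ Z i, z ≫ c i = x)
    (hl : ∀ i, LocallyOfFinitePresentation (c i)) : LocallyOfFinitePresentation c₀ := by
  apply MorphismProperty.IsLocalAtTarget.of_forall_pullbackSnd (P := @LocallyOfFinitePresentation)
    (K := Scheme.fpqcPrecoverage) hf
  intro V g _ hg
  obtain ⟨i⟩ := hg
  refine lfp_of_rep (pullback.snd c₀ (f i)) (c i) (fun T x => ?_) (hl i)
  rw [← h i x, h₀ (x ≫ f i)]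
  constructor
  · rintro ⟨z, hz⟩
    exact ⟨z ≫ pullback.fst c₀ (f i), by
      rw [Category.assoc, pullback.condition, ← Category.assoc, hz]⟩
  · rintro ⟨z, hz⟩
    exact ⟨pullback.lift z x hz, pullback.lift_snd _ _ _⟩

/-- `WRc.glue_rep` with finite presentation -/
theorem glue_rep_lfp {Y : Scheme.{u}} {ι : Type u} {X : ι → Scheme.{u}} (f : ∀ i, X i ⟶ Y)
    (hf : Presieve.ofArrows X f ∈ Scheme.fpqcPrecoverage Y)
    {Q : ∀ ⦃T : Scheme.{u}⦄, (T ⟶ Y) → Prop} (hQ : IsLocalPred Q)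
    (Z : ι → Scheme.{u}) (c : ∀ i, Z i ⟶ X i) (hc : ∀ i, IsClosedImmersion (c i))
    (h : ∀ (i : ι) ⦃T : Scheme.{u}⦄ (x : T ⟶ X i), Q (x ≫ f i) ↔ ∃ z : T ⟶ Z i, z ≫ c i = x)
    (hl : ∀ i, LocallyOfFinitePresentation (c i)) :
    ∃ (Z₀ : Scheme.{u}) (c₀ : Z₀ ⟶ Y), IsClosedImmersion c₀ ∧
      (∀ ⦃T : Scheme.{u}⦄ (y : T ⟶ Y), Q y ↔ ∃ z : T ⟶ Z₀, z ≫ c₀ = y) ∧
      LocallyOfFinitePresentation c₀ := by
  obtain ⟨Z₀, c₀, hc₀, h₀⟩ := Groth.Agent.H4.WRc.glue_rep f hf hQ Z c hc h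
  haveI := hc₀
  haveI : ∀ i, Mono (c i) := fun i => by
    haveI := hc i
    infer_instance
  exact ⟨Z₀, c₀, hc₀, h₀, lfp_of_cover_rep f hf c₀ h₀ Z c h hl⟩

/-- `WRb.local_rep` with finite presentation -/
theorem local_rep_lfp {X₀ P₀ W₀ : Scheme.{u}} [IsAffine X₀] [IsAffine P₀] (π₀ : P₀ ⟶ X₀)
    (w₀ : W₀ ⟶ P₀) [IsClosedImmersion w₀]
    (hproj : @Module.Projective Γ(X₀, ⊤) _ Γ(P₀, ⊤) _ π₀.appTop.hom.toAlgebra.toModule) :
    ∃ (Z : Scheme.{u}) (c : Z ⟶ X₀), IsClosedImmersion c ∧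
      (∀ ⦃T : Scheme.{u}⦄ (x : T ⟶ X₀), PredW π₀ w₀ x ↔ ∃ z : T ⟶ Z, z ≫ c = x) ∧
      (LocallyOfFinitePresentation w₀ → LocallyOfFinitePresentation c) := by
  refine ⟨_, (Scheme.IdealSheafData.ofIdealTop
    (@Groth.Agent.H4.WRa.content Γ(X₀, ⊤) Γ(P₀, ⊤) _ _ π₀.appTop.hom.toAlgebra
      (RingHom.ker w₀.appTop.hom))).subschemeι, inferInstance, fun T x => ?_, fun hw => ?_⟩
  · rw [local_iff π₀ w₀ hproj x, factors_iff, ker_subschemeι_appTop]
  · letI := π₀.appTop.hom.toAlgebra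
    haveI : Module.Projective Γ(X₀, ⊤) Γ(P₀, ⊤) := hproj
    exact lfp_subschemeι _ (content_fg _ (ker_fg_of_lfp w₀))

/-- `WRc.weil_rep` with finite presentation -/
theorem weil_rep_lfp {Y P W : Scheme.{u}} (π : P ⟶ Y) (w : W ⟶ P) [IsClosedImmersion w]
    [LocallyOfFinitePresentation w]
    (hloc : ∀ y : Y, ∃ (V PV : Scheme.{u}) (j : V ⟶ Y) (fP : PV ⟶ P) (πV : PV ⟶ V),
      IsOpenImmersion j ∧ y ∈ Set.range j ∧ IsAffine V ∧ IsAffine PV ∧ IsPullback fP πV π j ∧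
      @Module.Projective Γ(V, ⊤) _ Γ(PV, ⊤) _ πV.appTop.hom.toAlgebra.toModule) :
    ∃ (Z : Scheme.{u}) (c : Z ⟶ Y), IsClosedImmersion c ∧
      (∀ ⦃T : Scheme.{u}⦄ (y : T ⟶ Y), PredW π w y ↔ ∃ z : T ⟶ Z, z ≫ c = y) ∧
      LocallyOfFinitePresentation c := by
  choose V PV j fP πV hj hy hV hPV hpb hproj using hloc
  have hcov : Presieve.ofArrows V j ∈ Scheme.fpqcPrecoverage Y :=
    Scheme.zariskiPrecoverage_le_fpqcPrecoverage _
      ((Scheme.ofArrows_mem_precoverage_iff _).2 ⟨fun y => ⟨y, hy y⟩, hj⟩)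
  have hl : ∀ y : Y, ∃ (Z : Scheme.{u}) (c : Z ⟶ V y), IsClosedImmersion c ∧
      (∀ ⦃T : Scheme.{u}⦄ (x : T ⟶ V y), PredW π w (x ≫ j y) ↔ ∃ z : T ⟶ Z, z ≫ c = x) ∧
      LocallyOfFinitePresentation c := by
    intro y
    haveI := hV y
    haveI := hPV y
    obtain ⟨Z, c, hc, hZ, hfp⟩ := local_rep_lfp (πV y) (pullback.snd w (fP y)) (hproj y)
    refine ⟨Z, c, hc, fun T x => ?_, hfp inferInstance⟩
    rw [predW_baseChange (hpb y) (IsPullback.of_hasPullback w (fP y)), hZ x]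
  choose Z c hc hZ hfp using hl
  exact glue_rep_lfp j hcov (predW_isLocal π w) Z c hc hZ hfp

/-- cancellation for morphisms locally of finite presentation -/
lemma lfp_of_comp_lft {X Y Z : Scheme.{u}} (f : X ⟶ Y) (g : Y ⟶ Z)
    [hfg : LocallyOfFinitePresentation (f ≫ g)] [hg : LocallyOfFiniteType g] :
    LocallyOfFinitePresentation f := by
  rw [HasRingHomProperty.iff_exists_appLE (P := @LocallyOfFinitePresentation)
    (RingHom.finitePresentation_stableUnderComposition.stableUnderCompositionWithLocalizationAway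
      RingHom.finitePresentation_holdsForLocalizationAway).1]
  intro x
  obtain ⟨_, ⟨W, hW, rfl⟩, hxW, -⟩ := Z.isBasis_affineOpens.exists_subset_of_mem_open
    (Set.mem_univ (g (f x))) isOpen_univ
  obtain ⟨_, ⟨U, hU, rfl⟩, hxU, hUW⟩ := Y.isBasis_affineOpens.exists_subset_of_mem_open
    (show f x ∈ ((g ⁻¹ᵁ W : Y.Opens) : Set Y) from hxW) (g ⁻¹ᵁ W).2
  obtain ⟨_, ⟨V, hV, rfl⟩, hxV, hVU⟩ := X.isBasis_affineOpens.exists_subset_of_mem_open
    (show x ∈ ((f ⁻¹ᵁ U : X.Opens) : Set X) from hxU) (f ⁻¹ᵁ U).2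
  refine ⟨⟨U, hU⟩, ⟨V, hV⟩, hxV, hVU, ?_⟩
  have h3 := Scheme.Hom.appLE_comp_appLE f g W U V hUW hVU
  have h1 : RingHom.FinitePresentation
      ((f ≫ g).appLE W V (hVU.trans ((TopologicalSpace.Opens.map f.base).map (homOfLE hUW)).le)).hom :=
    HasRingHomProperty.appLE @LocallyOfFinitePresentation (f ≫ g) hfg ⟨W, hW⟩ ⟨V, hV⟩ _
  have h2 : RingHom.FiniteType (g.appLE W U hUW).hom :=
    HasRingHomProperty.appLE @LocallyOfFiniteType g hg ⟨W, hW⟩ ⟨U, hU⟩ hUW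
  refine RingHom.FinitePresentation.of_comp_finiteType (g.appLE W U hUW).hom ?_ h2
  rw [← CommRingCat.hom_comp, h3]
  exact h1

/-- translation of "every point of `G ⊗ Y` over `y` is sent by `m` into the subobject `y'`" into
the predicate `PredW` -/
lemma factor_iff_predW {S : Scheme.{u}} {G Y K Y' : Over S} (m : G ⊗ Y ⟶ K) (y' : Y' ⟶ K)
    {W : Scheme.{u}} (w : W ⟶ (G ⊗ Y).left)
    (hw : ∀ ⦃T'' : Scheme.{u}⦄ (s : T'' ⟶ (G ⊗ Y).left),
      (∃ l : T'' ⟶ W, l ≫ w = s) ↔ ∃ a : T'' ⟶ Y'.left, a ≫ y'.left = s ≫ m.left)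
    {T : Over S} (y : T ⟶ Y) :
    (∀ (T' : Over S) (t : T' ⟶ T) (g : T' ⟶ G), ∃ a' : T' ⟶ Y', lift g (t ≫ y) ≫ m = a' ≫ y') ↔
      PredW (snd G Y).left w y.left := by
  constructor
  · intro hfix T'' q s hqs
    rw [hw]
    have hg : (s ≫ (fst G Y).left) ≫ G.hom = q ≫ T.hom := by
      calc (s ≫ (fst G Y).left) ≫ G.hom = s ≫ ((fst G Y).left ≫ G.hom) := Category.assoc _ _ _
        _ = s ≫ ((snd G Y).left ≫ Y.hom) := by rw [Over.w (fst G Y), Over.w (snd G Y)]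
        _ = (s ≫ (snd G Y).left) ≫ Y.hom := (Category.assoc _ _ _).symm
        _ = (q ≫ y.left) ≫ Y.hom := by rw [hqs]
        _ = q ≫ (y.left ≫ Y.hom) := Category.assoc _ _ _
        _ = q ≫ T.hom := by rw [Over.w y]
    obtain ⟨T', hT'⟩ : ∃ T' : Over S, T' = Over.mk (q ≫ T.hom) := ⟨_, rfl⟩
    subst hT'
    obtain ⟨t, ht⟩ : ∃ t : Over.mk (q ≫ T.hom) ⟶ T, t = Over.homMk q rfl := ⟨_, rfl⟩
    obtain ⟨g, hgd⟩ : ∃ g : Over.mk (q ≫ T.hom) ⟶ G, g = Over.homMk (s ≫ (fst G Y).left) hg :=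
      ⟨_, rfl⟩
    have hs : (lift g (t ≫ y)).left = s := by
      apply pullback.hom_ext
      · have h1 := congrArg (fun m => Over.Hom.left m) (lift_fst g (t ≫ y))
        rw [hgd] at h1
        rw [hgd]
        exact h1
      · have h1 := congrArg (fun m => Over.Hom.left m) (lift_snd g (t ≫ y))
        rw [ht] at h1
        rw [ht]
        exact h1.trans hqs
    obtain ⟨a', ha'⟩ := hfix _ t g
    refine ⟨a'.left, ?_⟩
    have h2 := congrArg (fun m => Over.Hom.left m) ha'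
    have h3 : (lift g (t ≫ y)).left ≫ m.left = a'.left ≫ y'.left := h2
    rw [← h3, hs]
  · intro hP T' t g
    have e : t.left ≫ y.left = (lift g (t ≫ y)).left ≫ (snd G Y).left :=
      (congrArg (fun m => Over.Hom.left m) (lift_snd g (t ≫ y))).symm
    obtain ⟨a, ha⟩ := (hw _).1 (hP t.left (lift g (t ≫ y)).left e)
    have ha' : a ≫ Y'.hom = T'.hom := by
      rw [← Over.w y', ← Category.assoc, ha, Category.assoc, Over.w m, Over.w]
    refine ⟨Over.homMk a ha', ?_⟩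
    ext
    exact ha.symm

end Groth.Agent.H4.WRj
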