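import Mathlib
import Groth.Prelude.Def_AlgGrp
import Groth.Agent.H4.WRj
import Groth.Agent.H4.WRe
import Groth.Agent.H4.HbI

/-! helper4: the pointwise stabilizer of a finite locally free closed subscheme under a group
action is a closed subscheme of finite presentation. -/

set_option autoImplicit false

universe u

open CategoryTheory CategoryTheory.Limits MonoidalCategory CartesianMonoidalCategory MonObj GrpObj
  AlgebraicGeometry

namespace Groth.Agent.H4.StabA

/-- the diagonal of a morphism locally of finite type is locally of finite presentation -/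
lemma lfp_diagonal {X S : Scheme.{u}} (f : X ⟶ S) [LocallyOfFiniteType f] :
    LocallyOfFinitePresentation (pullback.diagonal f) := by
  haveI : LocallyOfFinitePresentation (pullback.diagonal f ≫ pullback.fst f f) := by
    rw [pullback.diagonal_fst]
    infer_instance
  exact Groth.Agent.H4.WRj.lfp_of_comp_lft _ (pullback.fst f f)

set_option backward.isDefEq.respectTransparency false in
/-- the equalizer of two morphisms into a scheme locally of finite type over the base is
locally of finite presentation over the source -/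
lemma lfp_equalizer_ι_left {S : Scheme.{u}} {X Y : Over S} [LocallyOfFiniteType Y.hom]
    (f g : X ⟶ Y) : LocallyOfFinitePresentation (equalizer.ι f g).left := by
  refine MorphismProperty.of_isPullback
    ((Limits.isPullback_equalizer_prod f g).map (Over.forget _)).flip ?_
  rw [← MorphismProperty.cancel_right_of_respectsIso @LocallyOfFinitePresentation _
    (Over.prodLeftIsoPullback Y Y).hom]
  convert! (lfp_diagonal Y.hom)
  ext1 <;> simp [← Over.comp_left]

/-- points of `G` over which two morphisms `G ⊗ Y ⟶ X` agree, for `Y` finite locally free and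
`X` separated and locally of finite type over `S`, form a closed subscheme of finite
presentation -/
theorem eq_locus_rep {S : Scheme.{u}} (G X Y : Over S) [IsSeparated X.hom]
    [LocallyOfFiniteType X.hom] [IsFinite Y.hom] [Flat Y.hom] [LocallyOfFinitePresentation Y.hom]
    (m₁ m₂ : G ⊗ Y ⟶ X) :
    ∃ (Z : Over S) (j : Z ⟶ G), IsClosedImmersion j.left ∧ LocallyOfFinitePresentation j.left ∧
      ∀ (T : Over S) (g : T ⟶ G), (∃ z : T ⟶ Z, z ≫ j = g) ↔
        ∀ (T' : Over S) (t : T' ⟶ T) (y : T' ⟶ Y), lift (t ≫ g) y ≫ m₁ = lift (t ≫ g) y ≫ m₂ := by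
  have hπ : IsPullback (fst G Y).left (snd G Y).left G.hom Y.hom :=
    IsPullback.of_hasPullback G.hom Y.hom
  haveI : IsFinite (fst G Y).left :=
    MorphismProperty.of_isPullback (P := @IsFinite) hπ.flip inferInstance
  haveI : Flat (fst G Y).left :=
    MorphismProperty.of_isPullback (P := @Flat) hπ.flip inferInstance
  haveI : LocallyOfFinitePresentation (fst G Y).left :=
    MorphismProperty.of_isPullback (P := @LocallyOfFinitePresentation) hπ.flip inferInstance
  haveI : LocallyOfFinitePresentation (equalizer.ι m₁ m₂).left := lfp_equalizer_ι_left m₁ m₂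
  obtain ⟨Z₀, c₀, hc₀, hZ, hfp⟩ := Groth.Agent.H4.WRj.weil_rep_lfp (fst G Y).left
    (equalizer.ι m₁ m₂).left (Groth.Agent.H4.HbI.hloc_of_flf _)
  refine ⟨Over.mk (c₀ ≫ G.hom), Over.homMk c₀ rfl, hc₀, hfp, ?_⟩
  intro T g
  rw [Groth.Agent.H4.WRe.over_rep c₀ g, ← hZ g.left]
  constructor
  · intro hP T' t y
    obtain ⟨l, hl⟩ := hP t.left (lift (t ≫ g) y).left (by
      rw [← Over.comp_left, ← Over.comp_left, lift_fst])
    have h1 : (lift (t ≫ g) y).left ≫ m₁.left = (lift (t ≫ g) y).left ≫ m₂.left := by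
      rw [← hl, Category.assoc, Category.assoc, ← Over.comp_left, ← Over.comp_left,
        equalizer.condition]
    ext
    exact h1
  · intro hfix T'' q s hqs
    have hy : (s ≫ (snd G Y).left) ≫ Y.hom = q ≫ T.hom := by
      calc (s ≫ (snd G Y).left) ≫ Y.hom = s ≫ ((snd G Y).left ≫ Y.hom) := Category.assoc _ _ _
        _ = s ≫ ((fst G Y).left ≫ G.hom) := by rw [Over.w (fst G Y), Over.w (snd G Y)]
        _ = (s ≫ (fst G Y).left) ≫ G.hom := (Category.assoc _ _ _).symm
        _ = (q ≫ g.left) ≫ G.hom := by rw [hqs]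
        _ = q ≫ (g.left ≫ G.hom) := Category.assoc _ _ _
        _ = q ≫ T.hom := by rw [Over.w g]
    obtain ⟨T', hT'⟩ : ∃ T' : Over S, T' = Over.mk (q ≫ T.hom) := ⟨_, rfl⟩
    subst hT'
    obtain ⟨t, ht⟩ : ∃ t : Over.mk (q ≫ T.hom) ⟶ T, t = Over.homMk q rfl := ⟨_, rfl⟩
    obtain ⟨y, hyd⟩ : ∃ y : Over.mk (q ≫ T.hom) ⟶ Y, y = Over.homMk (s ≫ (snd G Y).left) hy :=
      ⟨_, rfl⟩
    have hs : (lift (t ≫ g) y).left = s := by
      apply pullback.hom_ext
      · have h1 := congrArg (fun m => Over.Hom.left m) (lift_fst (t ≫ g) y)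
        rw [ht] at h1
        rw [ht]
        exact h1.trans hqs
      · have h1 := congrArg (fun m => Over.Hom.left m) (lift_snd (t ≫ g) y)
        rw [hyd] at h1
        rw [hyd]
        exact h1
    refine ⟨(equalizer.lift (lift (t ≫ g) y) (hfix _ t y)).left, ?_⟩
    rw [← Over.comp_left, equalizer.lift_ι, hs]

/-- **pointwise stabilizer** of a finite locally free closed subscheme -/
theorem stab_rep {S : Scheme.{u}} (G X Y : Over S) [GrpObj G] [IsSeparated X.hom]
    [LocallyOfFiniteType X.hom] (a : AlgGrp.Action G X) (i : Y ⟶ X)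
    [IsFinite Y.hom] [Flat Y.hom] [LocallyOfFinitePresentation Y.hom] :
    ∃ (Z : Over S) (j : Z ⟶ G), IsClosedImmersion j.left ∧ LocallyOfFinitePresentation j.left ∧
      ∀ (T : Over S) (g : T ⟶ G), (∃ z : T ⟶ Z, z ≫ j = g) ↔
        ∀ (T' : Over S) (t : T' ⟶ T) (y : T' ⟶ Y),
          lift (t ≫ g) (y ≫ i) ≫ a.act = y ≫ i := by
  obtain ⟨Z, j, h1, h2, h3⟩ := eq_locus_rep G X Y
    (lift (fst G Y) (snd G Y ≫ i) ≫ a.act) (snd G Y ≫ i)
  refine ⟨Z, j, h1, h2, fun T g => ?_⟩
  rw [h3 T g]
  refine forall_congr' fun T' => forall_congr' fun t => forall_congr' fun y => ?_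
  have e1 : lift (t ≫ g) y ≫ lift (fst G Y) (snd G Y ≫ i) = lift (t ≫ g) (y ≫ i) := by
    ext1
    · rw [Category.assoc, lift_fst, lift_fst, lift_fst]
    · rw [Category.assoc, lift_snd, lift_snd, ← Category.assoc, lift_snd]
  rw [← Category.assoc, e1, ← Category.assoc, lift_snd]

end Groth.Agent.H4.StabA
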