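import Mathlib
import Groth.Prelude.Def_W4c6stackyreslrsPsRefl

set_option autoImplicit false
open TensorProduct

universe u v w

namespace Groth.Agent.H4.StabHopf

section Ctr
variable {k : Type u} [CommRing k] {M : Type w} [AddCommGroup M] [Module k M]

/-- contraction of the first factor against a functional -/
noncomputable def ctr (X : Type*) [AddCommGroup X] [Module k X] (φ : M →ₗ[k] k) :
    M ⊗[k] X →ₗ[k] X :=
  (TensorProduct.lid k X).toLinearMap ∘ₗ φ.rTensor X

lemma ctr_tmul (X : Type*) [AddCommGroup X] [Module k X] (φ : M →ₗ[k] k) (m : M) (x : X) :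
    ctr X φ (m ⊗ₜ[k] x) = φ m • x := by
  simp [ctr]

lemma ctr_nat {X Y : Type*} [AddCommGroup X] [Module k X] [AddCommGroup Y] [Module k Y]
    (f : X →ₗ[k] Y) (φ : M →ₗ[k] k) (t : M ⊗[k] X) :
    ctr Y φ ((f.lTensor M) t) = f (ctr X φ t) := by
  induction t using TensorProduct.induction_on with
  | zero => simp
  | tmul m x => simp [ctr_tmul]
  | add a b ha hb => simp only [map_add, ha, hb]

end Ctr

lemma eq_zero_of_ctr {k : Type u} [Field k] {M : Type w} [AddCommGroup M] [Module k M]
    (X : Type*) [AddCommGroup X] [Module k X] (s : M ⊗[k] X)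
    (h : ∀ φ : M →ₗ[k] k, ctr X φ s = 0) : s = 0 := by
  have b := Module.Free.chooseBasis k M
  apply (TensorProduct.equivFinsuppOfBasisLeft b).injective
  ext i
  rw [TensorProduct.equivFinsuppOfBasisLeft_apply, map_zero, Finsupp.zero_apply]
  exact h (b.coord i)

section Stab

variable {k : Type u} [Field k] {A : Type v} [CommRing A] [HopfAlgebra k A]
  {M : Type w} [AddCommGroup M] [Module k M] [HopfRep.Comod k A M]

/-- the coefficient `(φ ⊗ id)(ρ m) - φ(m)` -/
noncomputable def cf (φ : M →ₗ[k] k) (m : M) : A :=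
  ctr A φ (HopfRep.Comod.coact (k := k) (A := A) m) - algebraMap k A (φ m)

lemma mk_cf (I : Ideal A) (φ : M →ₗ[k] k) (m : M) :
    Ideal.Quotient.mkₐ k I (cf (A := A) φ m) =
      ctr (A ⧸ I) φ ((LinearMap.lTensor M (Ideal.Quotient.mkₐ k I).toLinearMap)
        (HopfRep.Comod.coact (k := k) (A := A) m) - m ⊗ₜ[k] (1 : A ⧸ I)) := by
  rw [map_sub, ctr_nat, ctr_tmul, cf, map_sub, AlgHom.commutes, Algebra.algebraMap_eq_smul_one]
  rfl

lemma mem_quotInv_iff (I : Ideal A) (m : M) :
    m ∈ GLin.quotInvariants k A M I ↔ ∀ φ : M →ₗ[k] k, cf (A := A) φ m ∈ I := by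
  rw [GLin.mem_quotInvariants_iff]
  constructor
  · intro h φ
    have h2 := mk_cf I φ m
    rw [h, sub_self, map_zero] at h2
    exact Ideal.Quotient.eq_zero_iff_mem.1 h2
  · intro h
    refine sub_eq_zero.1 (eq_zero_of_ctr _ _ fun φ => ?_)
    rw [← mk_cf]
    exact Ideal.Quotient.eq_zero_iff_mem.2 (h φ)

lemma quotInv_mono {I J : Ideal A} (h : I ≤ J) :
    GLin.quotInvariants k A M I ≤ GLin.quotInvariants k A M J := by
  intro m hm
  rw [mem_quotInv_iff] at hm ⊢
  exact fun φ => h (hm φ)

variable (k A) in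
/-- the ideal of the stabilizer of `m` -/
noncomputable def stabIdeal (m : M) : Ideal A :=
  Ideal.span (Set.range fun φ : M →ₗ[k] k => cf (A := A) φ m)

lemma mem_stab (m : M) : m ∈ GLin.quotInvariants k A M (stabIdeal k A m) :=
  (mem_quotInv_iff _ m).2 fun φ => Ideal.subset_span ⟨φ, rfl⟩

lemma stab_le (I : Ideal A) (m : M) (h : m ∈ GLin.quotInvariants k A M I) :
    stabIdeal k A m ≤ I :=
  Ideal.span_le.2 (by rintro _ ⟨φ, rfl⟩; exact (mem_quotInv_iff I m).1 h φ)

lemma counit_cf (φ : M →ₗ[k] k) (m : M) :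
    CoalgebraStruct.counit (R := k) (cf (A := A) φ m) = 0 := by
  have h := LinearMap.congr_fun (HopfRep.Comod.counit_comp (k := k) (A := A) (V := M)) m
  simp only [LinearMap.comp_apply, LinearMap.flip_apply, TensorProduct.mk_apply] at h
  rw [cf, map_sub, ← ctr_nat (CoalgebraStruct.counit (R := k) (A := A)) φ, h, ctr_tmul]
  simp

lemma assoc_nat3 {B : Type*} [AddCommGroup B] [Module k B] (q : A →ₗ[k] B)
    (z : (M ⊗[k] A) ⊗[k] A) :
    (LinearMap.lTensor M (TensorProduct.map q q)) (TensorProduct.assoc k M A A z) =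
      TensorProduct.assoc k M B B (TensorProduct.map (q.lTensor M) q z) := by
  induction z using TensorProduct.induction_on with
  | zero => simp
  | tmul y a =>
    induction y using TensorProduct.induction_on with
    | zero => simp
    | tmul x a' => simp
    | add y1 y2 h1 h2 => simp only [TensorProduct.add_tmul, map_add, h1, h2]
  | add z1 z2 h1 h2 => simp only [map_add, h1, h2]

lemma map_rT {B : Type*} [AddCommGroup B] [Module k B] (q : A →ₗ[k] B)
    (r : M →ₗ[k] M ⊗[k] A) (t : M ⊗[k] A) :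
    TensorProduct.map (q.lTensor M) q ((r.rTensor A) t) =
      ((q.lTensor M ∘ₗ r).rTensor B) ((q.lTensor M) t) := by
  induction t using TensorProduct.induction_on with
  | zero => simp
  | tmul x a => simp
  | add y1 y2 h1 h2 => simp only [map_add, h1, h2]

lemma comul_cf (m : M) (φ : M →ₗ[k] k) :
    TensorProduct.map (Ideal.Quotient.mkₐ k (stabIdeal k A m)).toLinearMap
      (Ideal.Quotient.mkₐ k (stabIdeal k A m)).toLinearMap
      (CoalgebraStruct.comul (R := k) (cf (A := A) φ m)) = 0 := by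
  have hst := (GLin.mem_quotInvariants_iff k A M _ m).1 (mem_stab (A := A) m)
  have hco := LinearMap.congr_fun (HopfRep.Comod.coassoc (k := k) (A := A) (V := M)) m
  simp only [LinearMap.comp_apply, LinearEquiv.coe_coe] at hco
  rw [cf, map_sub, map_sub, ← ctr_nat (CoalgebraStruct.comul (R := k) (A := A)) φ, ← ctr_nat,
    ← hco, assoc_nat3, map_rT, hst]
  simp only [LinearMap.rTensor_tmul, LinearMap.comp_apply, hst, TensorProduct.assoc_tmul,
    ctr_tmul, Bialgebra.comul_one, Algebra.algebraMap_eq_smul_one, map_smul,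
    Algebra.TensorProduct.one_def, TensorProduct.map_tmul, AlgHom.toLinearMap_apply, map_one,
    sub_self]

end Stab

section Rmul
variable {k : Type u} [CommRing k] {M : Type w} [AddCommGroup M] [Module k M]

/-- `(x ⊗ b) ⊗ b' ↦ x ⊗ b b'` -/
noncomputable def rmul (B : Type*) [CommRing B] [Algebra k B] :
    (M ⊗[k] B) ⊗[k] B →ₗ[k] M ⊗[k] B :=
  (LinearMap.mul' k B).lTensor M ∘ₗ (TensorProduct.assoc k M B B).toLinearMap

lemma rmul_tmul_tmul (B : Type*) [CommRing B] [Algebra k B] (x : M) (b b' : B) :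
    rmul (k := k) (M := M) B ((x ⊗ₜ[k] b) ⊗ₜ[k] b') = x ⊗ₜ[k] (b * b') := by
  simp [rmul]

lemma rmul_one (B : Type*) [CommRing B] [Algebra k B] (z : M ⊗[k] B) :
    rmul (k := k) (M := M) B (z ⊗ₜ[k] (1 : B)) = z := by
  induction z using TensorProduct.induction_on with
  | zero => simp
  | tmul x b => rw [rmul_tmul_tmul, mul_one]
  | add y1 y2 h1 h2 => rw [TensorProduct.add_tmul, map_add, h1, h2]

end Rmul

section Anti

variable {k : Type u} [Field k] {A : Type v} [CommRing A] [HopfAlgebra k A]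
  {M : Type w} [AddCommGroup M] [Module k M] [HopfRep.Comod k A M]

/-- the inverse of the canonical map `x ⊗ a ↦ ρ(x)·a` -/
noncomputable def psi : M ⊗[k] A →ₗ[k] M ⊗[k] A :=
  rmul A ∘ₗ (((HopfAlgebraStruct.antipode k (A := A)).lTensor M ∘ₗ
    HopfRep.Comod.coact (k := k) (A := A)).rTensor A)

omit [HopfRep.Comod k A M] in
lemma rmul_S (z : (M ⊗[k] A) ⊗[k] A) :
    rmul A ((((HopfAlgebraStruct.antipode k (A := A)).lTensor M).rTensor A) z) =
      (LinearMap.lTensor M (LinearMap.mul' k A ∘ₗ
        (HopfAlgebraStruct.antipode k (A := A)).rTensor A))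
        (TensorProduct.assoc k M A A z) := by
  induction z using TensorProduct.induction_on with
  | zero => simp
  | tmul y a =>
    induction y using TensorProduct.induction_on with
    | zero => simp
    | tmul x a' => simp [rmul_tmul_tmul]
    | add y1 y2 h1 h2 => simp only [TensorProduct.add_tmul, map_add, h1, h2]
  | add z1 z2 h1 h2 => simp only [map_add, h1, h2]

lemma psi_coact (m : M) :
    psi (k := k) (A := A) (HopfRep.Comod.coact (k := k) (A := A) m) = m ⊗ₜ[k] (1 : A) := by
  have hco := LinearMap.congr_fun (HopfRep.Comod.coassoc (k := k) (A := A) (V := M)) m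
  simp only [LinearMap.comp_apply, LinearEquiv.coe_coe] at hco
  have hcu := LinearMap.congr_fun (HopfRep.Comod.counit_comp (k := k) (A := A) (V := M)) m
  simp only [LinearMap.comp_apply, LinearMap.flip_apply, TensorProduct.mk_apply] at hcu
  rw [psi, LinearMap.comp_apply, LinearMap.rTensor_comp, LinearMap.comp_apply, rmul_S, hco,
    ← LinearMap.lTensor_comp_apply, LinearMap.comp_assoc, HopfAlgebra.mul_antipode_rTensor_comul,
    LinearMap.lTensor_comp_apply, hcu, LinearMap.lTensor_tmul, Algebra.linearMap_apply, map_one]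

omit [HopfRep.Comod k A M] in
lemma lemY (J : Ideal A) (y : M ⊗[k] A) (a : A) :
    ((Ideal.Quotient.mkₐ k J).toLinearMap.lTensor M)
      (rmul A (((HopfAlgebraStruct.antipode k (A := A)).lTensor M) y ⊗ₜ[k] a)) =
      rmul (A ⧸ J) ((((Ideal.Quotient.mkₐ k J).toLinearMap ∘ₗ
        HopfAlgebraStruct.antipode k (A := A)).lTensor M) y ⊗ₜ[k] (Ideal.Quotient.mkₐ k J a)) := by
  induction y using TensorProduct.induction_on with
  | zero => simp
  | tmul x a' => simp [rmul_tmul_tmul]
  | add y1 y2 h1 h2 => simp only [map_add, TensorProduct.add_tmul, h1, h2]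

lemma lemZ (J : Ideal A) (t : M ⊗[k] A) :
    ((Ideal.Quotient.mkₐ k J).toLinearMap.lTensor M) (psi (k := k) (A := A) t) =
      rmul (A ⧸ J) ((((((Ideal.Quotient.mkₐ k J).toLinearMap ∘ₗ
        HopfAlgebraStruct.antipode k (A := A)).lTensor M) ∘ₗ
          HopfRep.Comod.coact (k := k) (A := A)).rTensor (A ⧸ J))
        (((Ideal.Quotient.mkₐ k J).toLinearMap.lTensor M) t)) := by
  induction t using TensorProduct.induction_on with
  | zero => simp
  | tmul x a =>
    simp only [psi, LinearMap.comp_apply, LinearMap.rTensor_tmul, LinearMap.lTensor_tmul]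
    exact lemY J _ a
  | add y1 y2 h1 h2 => simp only [map_add, h1, h2]

lemma antipode_cf (m : M) (φ : M →ₗ[k] k) :
    HopfAlgebraStruct.antipode k (cf (A := A) φ m) ∈ stabIdeal k A m := by
  have hst := (GLin.mem_quotInvariants_iff k A M _ m).1 (mem_stab (k := k) (A := A) m)
  have h1 := lemZ (stabIdeal k A m) (HopfRep.Comod.coact (k := k) (A := A) m)
  rw [psi_coact, hst] at h1
  simp only [LinearMap.lTensor_tmul, LinearMap.rTensor_tmul, LinearMap.comp_apply,
    AlgHom.toLinearMap_apply, map_one] at h1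
  rw [rmul_one] at h1
  have h2 := congrArg (ctr (A ⧸ stabIdeal k A m) φ) h1
  rw [ctr_tmul, ctr_nat] at h2
  simp only [LinearMap.comp_apply, AlgHom.toLinearMap_apply] at h2
  rw [← Ideal.Quotient.eq_zero_iff_mem, ← Ideal.Quotient.mkₐ_eq_mk k, cf, map_sub, map_sub,
    ← h2, Algebra.algebraMap_eq_smul_one, map_smul, map_smul, HopfAlgebra.antipode_one, map_one,
    sub_self]

lemma stab_isHopf (m : M) : (stabIdeal k A m).IsHopfIdeal k := by
  have hc : ∀ x ∈ stabIdeal k A m, CoalgebraStruct.counit (R := k) x = 0 := by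
    intro x hx
    have h : stabIdeal k A m ≤ RingHom.ker (Bialgebra.counitAlgHom k A) :=
      Ideal.span_le.2 (by
        rintro _ ⟨φ, rfl⟩
        rw [SetLike.mem_coe, RingHom.mem_ker]
        exact counit_cf φ m)
    exact (RingHom.mem_ker (f := Bialgebra.counitAlgHom k A)).1 (h hx)
  have hd : ∀ x ∈ stabIdeal k A m,
      ((Algebra.TensorProduct.map (Ideal.Quotient.mkₐ k (stabIdeal k A m))
        (Ideal.Quotient.mkₐ k (stabIdeal k A m))).comp (Bialgebra.comulAlgHom k A)) x = 0 := by
    intro x hx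
    have h : stabIdeal k A m ≤ RingHom.ker
        ((Algebra.TensorProduct.map (Ideal.Quotient.mkₐ k (stabIdeal k A m))
          (Ideal.Quotient.mkₐ k (stabIdeal k A m))).comp (Bialgebra.comulAlgHom k A)) :=
      Ideal.span_le.2 (by
        rintro _ ⟨φ, rfl⟩
        rw [SetLike.mem_coe, RingHom.mem_ker]
        exact comul_cf m φ)
    exact RingHom.mem_ker.1 (h hx)
  have hs : ∀ x ∈ stabIdeal k A m, HopfAlgebraStruct.antipode k x ∈ stabIdeal k A m := by
    intro x hx
    have h : stabIdeal k A m ≤ Ideal.comap (HopfAlgebra.antipodeAlgHom k A) (stabIdeal k A m) :=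
      Ideal.span_le.2 (by
        rintro _ ⟨φ, rfl⟩
        rw [SetLike.mem_coe, Ideal.mem_comap]
        exact antipode_cf m φ)
    exact (Ideal.mem_comap (f := HopfAlgebra.antipodeAlgHom k A)).1 (h hx)
  exact { counit_eq_zero := fun x hx => hc x hx
          map_mkQ_comul_eq_zero := fun x hx => hd x hx
          antipode_mem := fun x hx => hs x hx }

end Anti

theorem main {k : Type u} [Field k] {A : Type u} [CommRing A] [HopfAlgebra k A]
    {ι : Type u} [HopfRep.Comod k A (MvPolynomial ι k)] :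
    GLin.quotInvariants k A (MvPolynomial ι k) (GLin.genIdeal k A ι) =
      ⨅ (I : Ideal A) (_ : GLin.IsPseudoRefl k A ι I),
        GLin.quotInvariants k A (MvPolynomial ι k) I := by
  apply le_antisymm
  · refine le_iInf fun I => le_iInf fun hI => ?_
    apply quotInv_mono
    exact sSup_le fun J hJ => hJ.2 I hI
  · intro m hm
    have h1 : ∀ I, GLin.IsPseudoRefl k A ι I → m ∈ GLin.quotInvariants k A _ I := by
      intro I hI
      have := (Submodule.mem_iInf _).1 hm I
      exact (Submodule.mem_iInf _).1 this hI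
    have h2 : stabIdeal k A m ≤ GLin.genIdeal k A ι :=
      le_sSup ⟨stab_isHopf m, fun I hI => stab_le I m (h1 I hI)⟩
    exact quotInv_mono h2 (mem_stab m)

end Groth.Agent.H4.StabHopf
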