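import Mathlib
import Groth.Prelude.Def_AlgSt
import Groth.Agent.Lib.Helper3.StackFibrewise
import Groth.Agent.Lib.Helper3.StkAux
import Groth.Agent.Lib.Helper3.CatPullFib
import Groth.Agent.H4.StackComp
import Groth.Agent.H4.DescentIdx

set_option autoImplicit false

universe v₃ u₃ v₂ u₂ v₁ u₁

open CategoryTheory CategoryTheory.Functor CategoryTheory.Limits

namespace Groth.Agent.H4.StackPull

open Groth.Agent.H3.FibCatAux Groth.Agent.H3.StackDescent Groth.Agent.H4.StackComp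
  Groth.Agent.H4.DescentIdx Groth.Agent.H3.CatPullFib

section Main1

variable {C : Type u₁} [Category.{v₁} C] {D : Type u₂} [Category.{v₂} D] [HasPullbacks C]
  (u : C ⥤ D) [PreservesLimitsOfShape WalkingCospan u] {U : C} (R : Sieve U)

/-- structure morphism of an object of the sieve category, with codomain `U` -/
abbrev hm {R : Sieve U} (a : R.arrows.category) : a.obj.left ⟶ U := a.obj.hom

lemma hm_w {R : Sieve U} ⦃a a' : R.arrows.category⦄ (f : a ⟶ a') : f.hom.left ≫ hm a' = hm a :=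
  Over.w f.hom

/-- the image of a pullback square of the sieve under `u` -/
lemma isPullback_u (a a' : R.arrows.category) :
    IsPullback (u.map (pullback.fst (hm a) (hm a'))) (u.map (pullback.snd (hm a) (hm a')))
      (u.map (hm a)) (u.map (hm a')) :=
  IsPullback.map u (IsPullback.of_hasPullback (hm a) (hm a'))

/-- the index data attached to a sieve and a pullback preserving functor -/
noncomputable def idx : IdxData (R.functorPushforward u) R.arrows.category where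
  Φ := ObjectProperty.ι _ ⋙ Over.post u
  mem a := ⟨a.obj.left, a.obj.hom, 𝟙 _, a.property, (Category.id_comp _).symm⟩
  surj b hb := by
    obtain ⟨V, f, h, hf, hfac⟩ := hb
    exact ⟨⟨Over.mk f, hf⟩, ⟨Over.homMk h hfac.symm⟩⟩
  P a a' := ⟨Over.mk (pullback.fst (hm a) (hm a') ≫ hm a), R.downward_closed a.property _⟩
  π₁ a a' := ObjectProperty.homMk (Over.homMk (pullback.fst (hm a) (hm a')) rfl)
  π₂ a a' := ObjectProperty.homMk (Over.homMk (pullback.snd (hm a) (hm a'))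
    pullback.condition.symm)
  pairI {k i j} m m' := ObjectProperty.homMk (Over.homMk
    (pullback.lift m.hom.left m'.hom.left (by rw [hm_w m, hm_w m']))
    (by
      change pullback.lift m.hom.left m'.hom.left _ ≫ pullback.fst (hm i) (hm j) ≫ hm i = hm k
      rw [← Category.assoc, pullback.lift_fst]
      exact hm_w m))
  pairI_fst m m' := by
    apply ObjectProperty.hom_ext
    apply Over.OverMorphism.ext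
    exact pullback.lift_fst _ _ _
  pairI_snd m m' := by
    apply ObjectProperty.hom_ext
    apply Over.OverMorphism.ext
    exact pullback.lift_snd _ _ _
  pairΦ {b i j} h h' := Over.homMk
    ((isPullback_u u R i j).lift h.left h'.left (by
      have e1 : h.left ≫ u.map (hm i) = b.hom := Over.w h
      have e2 : h'.left ≫ u.map (hm j) = b.hom := Over.w h'
      exact e1.trans e2.symm))
    (by
      have e1 : h.left ≫ u.map (hm i) = b.hom := Over.w h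
      change (isPullback_u u R i j).lift h.left h'.left _ ≫
        u.map (pullback.fst (hm i) (hm j) ≫ hm i) = b.hom
      rw [u.map_comp, ← Category.assoc, IsPullback.lift_fst]
      exact e1)
  pairΦ_fst h h' := by
    apply Over.OverMorphism.ext
    exact IsPullback.lift_fst _ _ _ _
  pairΦ_snd h h' := by
    apply Over.OverMorphism.ext
    exact IsPullback.lift_snd _ _ _ _
  pairΦ_ext {b i j} l l' e1 e2 := by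
    apply Over.OverMorphism.ext
    exact (isPullback_u u R i j).hom_ext (congrArg (fun t => t.left) e1)
      (congrArg (fun t => t.left) e2)

variable (𝒮 : BasedCategory.{v₃, u₃} D) (h𝒮 : FibCat.IsFibGrpd 𝒮.p)

section Datum

variable {R} (D₀ : Stk.sieveCat R ⥤ᵇ BasedCategory.ofFunctor (CategoricalPullback.π₁ u 𝒮.p))

/-- objects of the datum -/
def dObj (a : R.arrows.category) : CategoricalPullback u 𝒮.p := D₀.obj a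

/-- morphisms of the datum -/
def dMap ⦃a a' : R.arrows.category⦄ (f : a ⟶ a') : dObj u 𝒮 D₀ a ⟶ dObj u 𝒮 D₀ a' := D₀.map f

lemma dObj_fst (a : R.arrows.category) : (dObj u 𝒮 D₀ a).fst = a.obj.left := D₀.w_obj a

lemma dMap_fst ⦃a a' : R.arrows.category⦄ (f : a ⟶ a') :
    (dMap u 𝒮 D₀ f).fst =
      eqToHom (dObj_fst u 𝒮 D₀ a) ≫ f.hom.left ≫ eqToHom (dObj_fst u 𝒮 D₀ a').symm :=
  Functor.congr_hom D₀.w f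

lemma dMap_id (a : R.arrows.category) : dMap u 𝒮 D₀ (𝟙 a) = 𝟙 _ := D₀.toFunctor.map_id a

lemma dMap_comp ⦃a a' a'' : R.arrows.category⦄ (f : a ⟶ a') (g : a' ⟶ a'') :
    dMap u 𝒮 D₀ (f ≫ g) = dMap u 𝒮 D₀ f ≫ dMap u 𝒮 D₀ g := D₀.toFunctor.map_comp f g

/-- the `𝒮`-component of the datum -/
abbrev GG : R.arrows.category ⥤ 𝒮.obj where
  obj a := (dObj u 𝒮 D₀ a).snd
  map f := (dMap u 𝒮 D₀ f).snd
  map_id a := by rw [dMap_id]; rfl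
  map_comp f g := by rw [dMap_comp]; rfl

/-- the comparison `u V ⟶ p (G a)` -/
def θ₀ (a : R.arrows.category) : u.obj a.obj.left ⟶ 𝒮.p.obj (dObj u 𝒮 D₀ a).snd :=
  u.map (eqToHom (dObj_fst u 𝒮 D₀ a).symm) ≫ (dObj u 𝒮 D₀ a).iso.hom

/-- its inverse -/
def θ₀inv (a : R.arrows.category) : 𝒮.p.obj (dObj u 𝒮 D₀ a).snd ⟶ u.obj a.obj.left :=
  (dObj u 𝒮 D₀ a).iso.inv ≫ u.map (eqToHom (dObj_fst u 𝒮 D₀ a))

lemma θ₀_θ₀inv (a : R.arrows.category) : θ₀ u 𝒮 D₀ a ≫ θ₀inv u 𝒮 D₀ a = 𝟙 _ := by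
  unfold θ₀ θ₀inv
  simp [← u.map_comp]

lemma θ₀inv_θ₀ (a : R.arrows.category) : θ₀inv u 𝒮 D₀ a ≫ θ₀ u 𝒮 D₀ a = 𝟙 _ := by
  unfold θ₀ θ₀inv
  simp [← u.map_comp_assoc]

lemma θ₀_isIso (a : R.arrows.category) : IsIso (θ₀ u 𝒮 D₀ a) :=
  ⟨θ₀inv u 𝒮 D₀ a, θ₀_θ₀inv u 𝒮 D₀ a, θ₀inv_θ₀ u 𝒮 D₀ a⟩

lemma inv_θ₀ (a : R.arrows.category) :
    haveI := θ₀_isIso u 𝒮 D₀ a
    inv (θ₀ u 𝒮 D₀ a) = θ₀inv u 𝒮 D₀ a := by
  haveI := θ₀_isIso u 𝒮 D₀ a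
  exact IsIso.inv_eq_of_hom_inv_id (θ₀_θ₀inv u 𝒮 D₀ a)

lemma θ₀_nat ⦃a a' : R.arrows.category⦄ (f : a ⟶ a') :
    ((idx u R).Φ ⋙ Over.forget (u.obj U)).map f ≫ θ₀ u 𝒮 D₀ a' =
      θ₀ u 𝒮 D₀ a ≫ 𝒮.p.map ((GG u 𝒮 D₀).map f) := by
  have e1 : eqToHom (dObj_fst u 𝒮 D₀ a).symm ≫ (dMap u 𝒮 D₀ f).fst =
      f.hom.left ≫ eqToHom (dObj_fst u 𝒮 D₀ a').symm := by
    rw [dMap_fst]; simp
  have e2 := (dMap u 𝒮 D₀ f).w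
  show u.map f.hom.left ≫ θ₀ u 𝒮 D₀ a' = θ₀ u 𝒮 D₀ a ≫ 𝒮.p.map (dMap u 𝒮 D₀ f).snd
  unfold θ₀
  rw [Category.assoc, ← e2, ← Category.assoc, ← Category.assoc, ← u.map_comp, ← u.map_comp, e1]

/-- the strictified `𝒮`-component -/
noncomputable def EE : R.arrows.category ⥤ 𝒮.obj :=
  sFun ((idx u R).Φ ⋙ Over.forget (u.obj U)) h𝒮 (GG u 𝒮 D₀) (θ₀ u 𝒮 D₀) (θ₀_nat u 𝒮 D₀)

lemma EE_w : EE u 𝒮 h𝒮 D₀ ⋙ 𝒮.p = (idx u R).Φ ⋙ Over.forget (u.obj U) :=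
  sFun_w ((idx u R).Φ ⋙ Over.forget (u.obj U)) h𝒮 (GG u 𝒮 D₀) (θ₀ u 𝒮 D₀) (θ₀_nat u 𝒮 D₀)

noncomputable def lamE (a : R.arrows.category) :
    (EE u 𝒮 h𝒮 D₀).obj a ⟶ (dObj u 𝒮 D₀ a).snd :=
  sLam ((idx u R).Φ ⋙ Over.forget (u.obj U)) h𝒮 (GG u 𝒮 D₀) (θ₀ u 𝒮 D₀) a

lemma lamE_lift (a : R.arrows.category) : 𝒮.p.IsHomLift (θ₀ u 𝒮 D₀ a) (lamE u 𝒮 h𝒮 D₀ a) :=
  sLam_isHomLift ((idx u R).Φ ⋙ Over.forget (u.obj U)) h𝒮 (GG u 𝒮 D₀) (θ₀ u 𝒮 D₀) a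

lemma lamE_nat ⦃a a' : R.arrows.category⦄ (f : a ⟶ a') :
    (EE u 𝒮 h𝒮 D₀).map f ≫ lamE u 𝒮 h𝒮 D₀ a' = lamE u 𝒮 h𝒮 D₀ a ≫ (dMap u 𝒮 D₀ f).snd :=
  sMap_fac ((idx u R).Φ ⋙ Over.forget (u.obj U)) h𝒮 (GG u 𝒮 D₀) (θ₀ u 𝒮 D₀) (θ₀_nat u 𝒮 D₀) f

lemma lamE_isIso (a : R.arrows.category) : IsIso (lamE u 𝒮 h𝒮 D₀ a) :=
  isIso_of_lift_iso' 𝒮.p h𝒮 (θ₀ u 𝒮 D₀ a) (θ₀_isIso u 𝒮 D₀ a) _ (lamE_lift u 𝒮 h𝒮 D₀ a)

/-- the inverse of `lamE` -/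
noncomputable def lamEinv (a : R.arrows.category) :
    (dObj u 𝒮 D₀ a).snd ⟶ (EE u 𝒮 h𝒮 D₀).obj a :=
  haveI := lamE_isIso u 𝒮 h𝒮 D₀ a
  inv (lamE u 𝒮 h𝒮 D₀ a)

lemma lamE_lamEinv (a : R.arrows.category) :
    lamE u 𝒮 h𝒮 D₀ a ≫ lamEinv u 𝒮 h𝒮 D₀ a = 𝟙 _ := by
  haveI := lamE_isIso u 𝒮 h𝒮 D₀ a
  exact IsIso.hom_inv_id _

lemma lamEinv_lamE (a : R.arrows.category) :
    lamEinv u 𝒮 h𝒮 D₀ a ≫ lamE u 𝒮 h𝒮 D₀ a = 𝟙 _ := by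
  haveI := lamE_isIso u 𝒮 h𝒮 D₀ a
  exact IsIso.inv_hom_id _

lemma lamEinv_lift (a : R.arrows.category) :
    𝒮.p.IsHomLift (θ₀inv u 𝒮 D₀ a) (lamEinv u 𝒮 h𝒮 D₀ a) := by
  haveI := lamE_isIso u 𝒮 h𝒮 D₀ a
  haveI := θ₀_isIso u 𝒮 D₀ a
  haveI := lamE_lift u 𝒮 h𝒮 D₀ a
  have h := IsHomLift.inv 𝒮.p (θ₀ u 𝒮 D₀ a) (lamE u 𝒮 h𝒮 D₀ a)
  exact lift_of_eq 𝒮.p _ h (inv_θ₀ u 𝒮 D₀ a)

lemma lamEinv_nat ⦃a a' : R.arrows.category⦄ (f : a ⟶ a') :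
    (dMap u 𝒮 D₀ f).snd ≫ lamEinv u 𝒮 h𝒮 D₀ a' =
      lamEinv u 𝒮 h𝒮 D₀ a ≫ (EE u 𝒮 h𝒮 D₀).map f := by
  have h := lamE_nat u 𝒮 h𝒮 D₀ f
  have h1 := lamE_lamEinv u 𝒮 h𝒮 D₀ a'
  have h2 := lamEinv_lamE u 𝒮 h𝒮 D₀ a
  calc (dMap u 𝒮 D₀ f).snd ≫ lamEinv u 𝒮 h𝒮 D₀ a'
      = (lamEinv u 𝒮 h𝒮 D₀ a ≫ lamE u 𝒮 h𝒮 D₀ a) ≫ (dMap u 𝒮 D₀ f).snd ≫
          lamEinv u 𝒮 h𝒮 D₀ a' := by rw [h2, Category.id_comp]
    _ = lamEinv u 𝒮 h𝒮 D₀ a ≫ (lamE u 𝒮 h𝒮 D₀ a ≫ (dMap u 𝒮 D₀ f).snd) ≫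
          lamEinv u 𝒮 h𝒮 D₀ a' := by simp only [Category.assoc]
    _ = lamEinv u 𝒮 h𝒮 D₀ a ≫ ((EE u 𝒮 h𝒮 D₀).map f ≫ lamE u 𝒮 h𝒮 D₀ a') ≫
          lamEinv u 𝒮 h𝒮 D₀ a' := by rw [h]
    _ = lamEinv u 𝒮 h𝒮 D₀ a ≫ (EE u 𝒮 h𝒮 D₀).map f ≫ (lamE u 𝒮 h𝒮 D₀ a' ≫
          lamEinv u 𝒮 h𝒮 D₀ a') := by simp only [Category.assoc]
    _ = lamEinv u 𝒮 h𝒮 D₀ a ≫ (EE u 𝒮 h𝒮 D₀).map f := by rw [h1, Category.comp_id]

omit [HasPullbacks C] [PreservesLimitsOfShape WalkingCospan u] in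
/-- the compatibility square from a lifting property -/
lemma pbHom_w {Y Y' : CategoricalPullback u 𝒮.p} (f : Y.fst ⟶ Y'.fst) (σ : Y.snd ⟶ Y'.snd)
    (h : 𝒮.p.IsHomLift (Y.iso.inv ≫ u.map f ≫ Y'.iso.hom) σ) :
    u.map f ≫ Y'.iso.hom = Y.iso.hom ≫ 𝒮.p.map σ := by
  have := IsHomLift.fac' 𝒮.p (Y.iso.inv ≫ u.map f ≫ Y'.iso.hom) σ
  rw [this]
  simp

section Exist

variable (ec : ECocone (idx u R) (EE u 𝒮 h𝒮 D₀))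

/-- the vertex of the cocone in the fibre product -/
abbrev vertexOf : CategoricalPullback u 𝒮.p := ⟨U, ec.pt, eqToIso ec.pt_proj.symm⟩

lemma legσ_lift (a : R.arrows.category) :
    𝒮.p.IsHomLift ((dObj u 𝒮 D₀ a).iso.inv ≫
      u.map (eqToHom (dObj_fst u 𝒮 D₀ a) ≫ hm a) ≫ (vertexOf u 𝒮 h𝒮 D₀ ec).iso.hom)
      (lamEinv u 𝒮 h𝒮 D₀ a ≫ ec.ℓ a) := by
  have h1 := lamEinv_lift u 𝒮 h𝒮 D₀ a
  have h2 : 𝒮.p.IsHomLift (u.map (hm a)) (ec.ℓ a) := ec.ℓ_lift a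
  have h3 := lift_comp' 𝒮.p _ _ _ _ h1 h2
  have h4 : 𝒮.p.IsHomLift ((θ₀inv u 𝒮 D₀ a ≫ u.map (hm a)) ≫ eqToHom ec.pt_proj.symm)
      (lamEinv u 𝒮 h𝒮 D₀ a ≫ ec.ℓ a) := inferInstance
  refine lift_of_eq 𝒮.p _ h4 ?_
  unfold θ₀inv
  simp only [u.map_comp, Category.assoc, eqToIso.hom]

/-- the legs of the cocone in the fibre product -/
noncomputable def legP (a : R.arrows.category) : dObj u 𝒮 D₀ a ⟶ vertexOf u 𝒮 h𝒮 D₀ ec :=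
  ⟨eqToHom (dObj_fst u 𝒮 D₀ a) ≫ hm a, lamEinv u 𝒮 h𝒮 D₀ a ≫ ec.ℓ a,
    pbHom_w u 𝒮 _ _ (legσ_lift u 𝒮 h𝒮 D₀ ec a)⟩

lemma legP_lift (a : R.arrows.category) :
    (CategoricalPullback.π₁ u 𝒮.p).IsHomLift (hm a) (legP u 𝒮 h𝒮 D₀ ec a) := by
  rw [π₁_isHomLift_iff]
  refine ⟨dObj_fst u 𝒮 D₀ a, rfl, ?_⟩
  exact ((Category.comp_id _).symm.trans (Category.assoc _ _ _) :
    eqToHom (dObj_fst u 𝒮 D₀ a) ≫ hm a = eqToHom (dObj_fst u 𝒮 D₀ a) ≫ hm a ≫ 𝟙 U)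

lemma legP_w ⦃a a' : R.arrows.category⦄ (f : a ⟶ a') :
    dMap u 𝒮 D₀ f ≫ legP u 𝒮 h𝒮 D₀ ec a' = legP u 𝒮 h𝒮 D₀ ec a := by
  apply CategoricalPullback.hom_ext
  · show (dMap u 𝒮 D₀ f).fst ≫ eqToHom (dObj_fst u 𝒮 D₀ a') ≫ hm a' =
      eqToHom (dObj_fst u 𝒮 D₀ a) ≫ hm a
    rw [dMap_fst]
    simp only [Category.assoc, eqToHom_trans_assoc, eqToHom_refl, Category.id_comp]
    rw [hm_w f]
  · show (dMap u 𝒮 D₀ f).snd ≫ lamEinv u 𝒮 h𝒮 D₀ a' ≫ ec.ℓ a' = lamEinv u 𝒮 h𝒮 D₀ a ≫ ec.ℓ a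
    rw [← Category.assoc, lamEinv_nat, Category.assoc, ec.w]

/-- the cocone of the original datum -/
noncomputable def coconeOfE : Cocone D₀ where
  pt := vertexOf u 𝒮 h𝒮 D₀ ec
  pt_proj := rfl
  ι a := legP u 𝒮 h𝒮 D₀ ec a
  ι_lift a := legP_lift u 𝒮 h𝒮 D₀ ec a
  w a a' f := legP_w u 𝒮 h𝒮 D₀ ec f

end Exist

/-- a cocone of the datum with vertex over `U` on the nose -/
structure PCocone where
  y : 𝒮.obj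
  i : u.obj U ≅ 𝒮.p.obj y
  L : ∀ a : R.arrows.category, dObj u 𝒮 D₀ a ⟶ (⟨U, y, i⟩ : CategoricalPullback u 𝒮.p)
  hL : ∀ a : R.arrows.category, (CategoricalPullback.π₁ u 𝒮.p).IsHomLift (hm a) (L a)
  hw : ∀ ⦃a a' : R.arrows.category⦄ (f : a ⟶ a'), dMap u 𝒮 D₀ f ≫ L a' = L a

end Datum

end Main1

section Unique

variable {C : Type u₁} [Category.{v₁} C] {D : Type u₂} [Category.{v₂} D] [HasPullbacks C]
  {u : C ⥤ D} [PreservesLimitsOfShape WalkingCospan u] {U : C} {R : Sieve U}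
  {𝒮 : BasedCategory.{v₃, u₃} D} (h𝒮 : FibCat.IsFibGrpd 𝒮.p)
  {D₀ : Stk.sieveCat R ⥤ᵇ BasedCategory.ofFunctor (CategoricalPullback.π₁ u 𝒮.p)}

lemma PCocone.L_fst (S : PCocone u 𝒮 D₀) (a : R.arrows.category) :
    (S.L a).fst = eqToHom (dObj_fst u 𝒮 D₀ a) ≫ hm a :=
  map_eq_of_isHomLift (CategoricalPullback.π₁ u 𝒮.p) (b := ⟨U, S.y, S.i⟩) (hm a) (S.L a) (S.hL a)
    (dObj_fst u 𝒮 D₀ a)

lemma PCocone.hw_snd (S : PCocone u 𝒮 D₀) ⦃a a' : R.arrows.category⦄ (f : a ⟶ a') :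
    (dMap u 𝒮 D₀ f).snd ≫ (S.L a').snd = (S.L a).snd :=
  congrArg (fun t => t.snd) (S.hw f)

/-- the strict cocone attached to a cocone in the fibre product and a transport of its vertex -/
noncomputable def PCocone.toE (S : PCocone u 𝒮 D₀) (ŷ : 𝒮.obj) (r : ŷ ⟶ S.y)
    (hr : 𝒮.p.IsHomLift S.i.hom r) (rinv : S.y ⟶ ŷ) (h1 : r ≫ rinv = 𝟙 _)
    (hrinv : 𝒮.p.IsHomLift S.i.inv rinv) :
    ECocone (idx u R) (EE u 𝒮 h𝒮 D₀) where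
  pt := ŷ
  pt_proj := IsHomLift.domain_eq 𝒮.p S.i.hom r
  ℓ a := lamE u 𝒮 h𝒮 D₀ a ≫ (S.L a).snd ≫ rinv
  ℓ_lift a := by
    have h2 := lift_comp' 𝒮.p _ _ _ _ (lamE_lift u 𝒮 h𝒮 D₀ a)
      (lift_comp' 𝒮.p _ _ _ _ (IsHomLift.map 𝒮.p (S.L a).snd) hrinv)
    refine lift_of_eq 𝒮.p _ h2 ?_
    rw [map_snd_eq, S.L_fst]
    unfold θ₀
    show _ = u.map (hm a)
    simp only [Category.assoc, Iso.hom_inv_id_assoc, Iso.hom_inv_id, Category.comp_id]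
    rw [← u.map_comp]
    simp only [eqToHom_trans_assoc, eqToHom_refl, Category.id_comp]
  w {a a'} f := by
    show (EE u 𝒮 h𝒮 D₀).map f ≫ lamE u 𝒮 h𝒮 D₀ a' ≫ (S.L a').snd ≫ rinv =
      lamE u 𝒮 h𝒮 D₀ a ≫ (S.L a).snd ≫ rinv
    rw [← Category.assoc, lamE_nat, Category.assoc, ← Category.assoc (dMap u 𝒮 D₀ f).snd,
      S.hw_snd]

include h𝒮 in
theorem uniq_pull (hpre : Stk.IsPrestackFor (R.functorPushforward u) 𝒮) (S T : PCocone u 𝒮 D₀) :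
    ∃! Ψ : (⟨U, S.y, S.i⟩ : CategoricalPullback u 𝒮.p) ⟶ ⟨U, T.y, T.i⟩,
      (CategoricalPullback.π₁ u 𝒮.p).IsHomLift (𝟙 U) Ψ ∧ ∀ a, S.L a ≫ Ψ = T.L a := by
  obtain ⟨ŷs, rs, hrs⟩ := h𝒮.exists_lift (x := S.y) S.i.hom
  obtain ⟨ŷt, rt, hrt⟩ := h𝒮.exists_lift (x := T.y) T.i.hom
  have his : IsIso rs := isIso_of_lift_iso' 𝒮.p h𝒮 S.i.hom inferInstance rs hrs
  have hit : IsIso rt := isIso_of_lift_iso' 𝒮.p h𝒮 T.i.hom inferInstance rt hrt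
  have hrsinv : 𝒮.p.IsHomLift S.i.inv (inv rs) :=
    lift_of_eq 𝒮.p _ (IsHomLift.inv 𝒮.p S.i.hom rs) (IsIso.Iso.inv_hom S.i)
  have hrtinv : 𝒮.p.IsHomLift T.i.inv (inv rt) :=
    lift_of_eq 𝒮.p _ (IsHomLift.inv 𝒮.p T.i.hom rt) (IsIso.Iso.inv_hom T.i)
  obtain ⟨φ, ⟨hφ, hφ₀⟩, hφu₀⟩ := ecocone_unique h𝒮 (EE_w u 𝒮 h𝒮 D₀) hpre
    (S.toE h𝒮 ŷs rs hrs (inv rs) (IsIso.hom_inv_id rs) hrsinv)
    (T.toE h𝒮 ŷt rt hrt (inv rt) (IsIso.hom_inv_id rt) hrtinv)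
  obtain ⟨φ', hφeq⟩ : ∃ φ' : ŷs ⟶ ŷt, φ' = φ := ⟨φ, rfl⟩
  have hφ1 : 𝒮.p.IsHomLift (𝟙 (u.obj U)) φ' := by rw [hφeq]; exact hφ
  have hφ2 : ∀ a : R.arrows.category,
      (lamE u 𝒮 h𝒮 D₀ a ≫ (S.L a).snd ≫ inv rs) ≫ φ' =
        lamE u 𝒮 h𝒮 D₀ a ≫ (T.L a).snd ≫ inv rt := by
    intro a; rw [hφeq]; exact hφ₀ a
  have hφ3 : ∀ φ'' : ŷs ⟶ ŷt, 𝒮.p.IsHomLift (𝟙 (u.obj U)) φ'' →
      (∀ a : R.arrows.category, (lamE u 𝒮 h𝒮 D₀ a ≫ (S.L a).snd ≫ inv rs) ≫ φ'' =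
        lamE u 𝒮 h𝒮 D₀ a ≫ (T.L a).snd ≫ inv rt) → φ'' = φ' := by
    intro φ'' h1 h2; rw [hφeq]; exact hφu₀ φ'' ⟨h1, h2⟩
  have hσ : 𝒮.p.IsHomLift (S.i.inv ≫ u.map (𝟙 U) ≫ T.i.hom) (inv rs ≫ φ' ≫ rt) := by
    refine lift_of_eq 𝒮.p _ (lift_comp' 𝒮.p _ _ _ _ hrsinv (lift_comp' 𝒮.p _ _ _ _ hφ1 hrt)) ?_
    rw [u.map_id]
  have key : ∀ a : R.arrows.category, (S.L a).snd ≫ inv rs ≫ φ' = (T.L a).snd ≫ inv rt := by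
    intro a
    have hi := lamE_isIso u 𝒮 h𝒮 D₀ a
    apply (cancel_epi (lamE u 𝒮 h𝒮 D₀ a)).mp
    simpa only [Category.assoc] using hφ2 a
  refine ⟨⟨𝟙 U, inv rs ≫ φ' ≫ rt, pbHom_w u 𝒮 (Y := ⟨U, S.y, S.i⟩) (Y' := ⟨U, T.y, T.i⟩) (𝟙 U) _ hσ⟩,
    ⟨?_, ?_⟩, ?_⟩
  · rw [π₁_isHomLift_iff]
    exact ⟨rfl, rfl, by simp⟩
  · intro a
    apply CategoricalPullback.hom_ext
    · show (S.L a).fst ≫ 𝟙 U = (T.L a).fst
      rw [S.L_fst, T.L_fst, Category.comp_id]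
    · show (S.L a).snd ≫ inv rs ≫ φ' ≫ rt = (T.L a).snd
      rw [← Category.assoc, ← Category.assoc, Category.assoc (S.L a).snd, key a, Category.assoc,
        IsIso.inv_hom_id, Category.comp_id]
  · rintro Ψ' ⟨hΨ1, hΨ2⟩
    have e1 : Ψ'.fst = 𝟙 U :=
      fst_eq_of_isHomLift u 𝒮 (X := ⟨U, S.y, S.i⟩) (Y := ⟨U, T.y, T.i⟩) (𝟙 U) Ψ' hΨ1
    have e2 : 𝒮.p.map Ψ'.snd = S.i.inv ≫ T.i.hom := by
      have := map_snd_eq u 𝒮 Ψ'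
      rw [this, e1, u.map_id]
      simp
    have e3 : rs ≫ Ψ'.snd ≫ inv rt = φ' := by
      apply hφ3
      · refine lift_of_eq 𝒮.p _ (lift_comp' 𝒮.p _ _ _ _ hrs
          (lift_comp' 𝒮.p _ _ _ _ (IsHomLift.map 𝒮.p Ψ'.snd) hrtinv)) ?_
        rw [e2]
        simp
      · intro a
        have e4 : (S.L a).snd ≫ Ψ'.snd = (T.L a).snd := congrArg (fun t => t.snd) (hΨ2 a)
        simp only [Category.assoc, IsIso.inv_hom_id_assoc]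
        rw [← Category.assoc (S.L a).snd, e4]
    apply CategoricalPullback.hom_ext
    · exact e1
    · show Ψ'.snd = inv rs ≫ φ' ≫ rt
      rw [← e3]
      simp

end Unique

section Final

variable {C : Type u₁} [Category.{v₁} C] {D : Type u₂} [Category.{v₂} D] [HasPullbacks C]
  (u : C ⥤ D) [PreservesLimitsOfShape WalkingCospan u] (𝒮 : BasedCategory.{v₃, u₃} D)

theorem isStack_pull (J : GrothendieckTopology C) (K : GrothendieckTopology D)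
    (hu : CoverPreserving J K u) (h𝒮 : Stk.IsStack K 𝒮) :
    Stk.IsStack J (BasedCategory.ofFunctor (CategoricalPullback.π₁ u 𝒮.p)) := by
  have hP : FibCat.IsFibGrpd (CategoricalPullback.π₁ u 𝒮.p) := isFibGrpd_π₁ u 𝒮 h𝒮.1
  refine ⟨hP, ?_⟩
  intro U R hR
  have hR' : R.functorPushforward u ∈ K (u.obj U) := hu.cover_preserve hR
  refine (isStackFor_iff (𝒳 := BasedCategory.ofFunctor (CategoricalPullback.π₁ u 𝒮.p)) hP).mpr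
    ⟨?_, ?_⟩
  · intro D₀
    obtain ⟨ec⟩ := ecocone_exists h𝒮.1 (EE_w u 𝒮 h𝒮.1 D₀)
      ((isStackFor_iff h𝒮.1).mp (h𝒮.2 _ hR')).1
    exact ⟨coconeOfE u 𝒮 h𝒮.1 D₀ ec⟩
  · intro D₀ s t
    obtain ⟨⟨c₁, y₁, i₁⟩, hs, Ls, hLs, hws⟩ := s
    obtain ⟨⟨c₂, y₂, i₂⟩, ht, Lt, hLt, hwt⟩ := t
    change c₁ = U at hs
    change c₂ = U at ht
    subst hs
    subst ht
    exact uniq_pull h𝒮.1 (isPrestackFor_of_isStackFor (h𝒮.2 _ hR'))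
      (⟨y₁, i₁, Ls, hLs, hws⟩ : PCocone u 𝒮 D₀) ⟨y₂, i₂, Lt, hLt, hwt⟩

end Final

end Groth.Agent.H4.StackPull
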