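import Mathlib
import Groth.Prelude.Def_AlgSt
import Groth.Agent.Lib.Helper3.StackFibrewise

set_option autoImplicit false

universe v₄ u₄ v₃ u₃ v₂ u₂ v u

open CategoryTheory CategoryTheory.Functor CategoryTheory.Limits

namespace Groth.Agent.H4.StackSlice

open Groth.Agent.H3.FibCatAux Groth.Agent.H3.FibCatYoneda Groth.Agent.H3.StackDescent
  Groth.Agent.H3.StackMore Groth.Agent.H3.StackFibrewise

variable {C : Type u} [Category.{v} C] {𝒳 : BasedCategory.{v₂, u₂} C} {𝒴 : BasedCategory.{v₃, u₃} C}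
  (j : 𝒳 ⥤ᵇ 𝒴) {U : C} (R : Sieve U) (y : FibCat.overCat U ⥤ᵇ 𝒴)

/-- the sieve on `id_U` in `C/U` corresponding to `R` -/
abbrev R₀ : Sieve (Over.mk (𝟙 U)) := (Sieve.overEquiv (Over.mk (𝟙 U))).symm R

/-- the fibre `(C/U) ×_𝒴 𝒳` as a category over `C/U` -/
abbrev PP := BasedCategory.ofFunctor (FibCat.fpFst y j).toFunctor

lemma hom_to_terminal_ext {A B : Over U} (hB : B = Over.mk (𝟙 U)) (f g : A ⟶ B) : f = g := by
  subst hB
  ext
  have h1 : f.left = A.hom := by simpa using Over.w f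
  have h2 : g.left = A.hom := by simpa using Over.w g
  rw [h1, h2]

lemma isHomLift_of_eq_terminal {𝒵 : Type u₄} [Category.{v₄} 𝒵] (p : 𝒵 ⥤ Over U) {a b : 𝒵}
    (φ : a ⟶ b) (hb : p.obj b = Over.mk (𝟙 U)) {A : Over U} (ha : p.obj a = A)
    (g : A ⟶ Over.mk (𝟙 U)) : p.IsHomLift g φ := by
  apply IsHomLift.of_fac' p g φ ha hb
  exact hom_to_terminal_ext hb _ _

lemma isHomLift_comp_map' {𝒜 : Type u₄} [Category.{v₄} 𝒜] {ℬ : Type u₃} [Category.{v₃} ℬ]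
    {𝒞 : Type u₂} [Category.{v₂} 𝒞] (F : 𝒜 ⥤ ℬ) (G : ℬ ⥤ 𝒞) {R S : ℬ} (g : R ⟶ S) {a b : 𝒜}
    (φ : a ⟶ b) (h : F.IsHomLift g φ) : (F ⋙ G).IsHomLift (G.map g) φ :=
  isHomLift_comp_map F G g φ

lemma sieve_left_mem (a₀ : (R₀ R).arrows.category) : R a₀.obj.left.hom := by
  have h1 : R a₀.obj.hom.left := a₀.property
  have h2 : a₀.obj.hom.left = a₀.obj.left.hom := by simpa using Over.w a₀.obj.hom
  rw [← h2]
  exact h1

/-- forget from the sieve over `C/U` to the sieve over `C` -/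
def piF : (R₀ R).arrows.category ⥤ R.arrows.category where
  obj a₀ := ⟨a₀.obj.left, sieve_left_mem R a₀⟩
  map w := ObjectProperty.homMk w.hom.left
  map_id _ := rfl
  map_comp _ _ := rfl

/-- section of `piF` on objects -/
def sigObj (a : R.arrows.category) : (R₀ R).arrows.category :=
  ⟨Over.mk (toId a.obj), a.property⟩

/-- section of `piF` on morphisms -/
def sigMap {a b : R.arrows.category} (f : a ⟶ b) : sigObj R a ⟶ sigObj R b :=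
  ObjectProperty.homMk (Over.homMk f.hom (toId_comp f.hom))

variable (D : Stk.sieveCat R ⥤ᵇ 𝒳)
  (ε : BasedFunctor.comp (Stk.sieveIncl R) y ≅ BasedFunctor.comp D j)

/-- the datum in the fibre, over `C` -/
abbrev D₁ : Stk.sieveCat R ⥤ᵇ FibCat.fp y j := FibCat.fpLift (Stk.sieveIncl R) D ε

/-- the datum in the fibre, over `C/U` -/
def D₀ : Stk.sieveCat (R₀ R) ⥤ᵇ PP j y where
  toFunctor := piF R ⋙ (D₁ j R y D ε).toFunctor
  w := rfl

/-- cocone over `C/U` gives cocone over `C` -/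
def coconeDown (c₀ : Cocone (D₀ j R y D ε)) : Cocone (D₁ j R y D ε) where
  pt := c₀.pt
  pt_proj := congrArg (fun A : Over U => A.left) c₀.pt_proj
  ι a := c₀.ι (sigObj R a)
  ι_lift a := by
    exact isHomLift_comp_map' (PP j y).p (Over.forget U) (sigObj R a).obj.hom (c₀.ι (sigObj R a))
      (c₀.ι_lift (sigObj R a))
  w a b f := c₀.w (sigMap R f)

/-- cocone over `C` with vertex over `id_U` gives cocone over `C/U` -/
def coconeUp (c : Cocone (D₁ j R y D ε)) (hc : c.pt.obj.fst = Over.mk (𝟙 U)) :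
    Cocone (D₀ j R y D ε) where
  pt := c.pt
  pt_proj := hc
  ι a₀ := c.ι ((piF R).obj a₀)
  ι_lift a₀ := isHomLift_of_eq_terminal (PP j y).p (c.ι ((piF R).obj a₀)) hc rfl a₀.obj.hom
  w a b f := c.w ((piF R).map f)

lemma exists_cocone_D₁ (hP : FibCat.IsFibGrpd (PP j y).p)
    (h : Stk.IsStackFor (R₀ R) (PP j y)) : Nonempty (Cocone (D₁ j R y D ε)) := by
  obtain ⟨c₀⟩ := ((isStackFor_iff hP).mp h).1 (D₀ j R y D ε)
  exact ⟨coconeDown j R y D ε c₀⟩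

lemma unique_hom_D₁ (hP : FibCat.IsFibGrpd (PP j y).p)
    (h : Stk.IsStackFor (R₀ R) (PP j y)) (c₁ c₂ : Cocone (D₁ j R y D ε))
    (h₁ : c₁.pt.obj.fst = Over.mk (𝟙 U)) (h₂ : c₂.pt.obj.fst = Over.mk (𝟙 U)) :
    ∃! Φ : c₁.pt ⟶ c₂.pt, (FibCat.fp y j).p.IsHomLift (𝟙 U) Φ ∧ ∀ a, c₁.ι a ≫ Φ = c₂.ι a := by
  obtain ⟨Φ, ⟨hΦ1, hΦ2⟩, hΦu⟩ := ((isStackFor_iff hP).mp h).2 (D₀ j R y D ε)
    (coconeUp j R y D ε c₁ h₁) (coconeUp j R y D ε c₂ h₂)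
  refine ⟨Φ, ⟨?_, fun a => hΦ2 (sigObj R a)⟩, ?_⟩
  · exact isHomLift_comp_map' (PP j y).p (Over.forget U) (𝟙 (Over.mk (𝟙 U))) Φ hΦ1
  · rintro Φ' ⟨h1', h2'⟩
    apply hΦu
    exact ⟨isHomLift_of_eq_terminal (PP j y).p Φ' h₂ h₁ (𝟙 _), fun a₀ => h2' ((piF R).obj a₀)⟩

/-- **Fibrewise criterion over the slices**: if `𝒴` satisfies descent for `R` and every fibre
`(C/U) ×_𝒴 𝒳`, viewed over `C/U`, satisfies descent for the sieve on `id_U` corresponding to `R`,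
then `𝒳` satisfies descent for `R`. -/
theorem isStackFor_of_slice (h𝒳 : FibCat.IsFibGrpd 𝒳.p) (h𝒴 : FibCat.IsFibGrpd 𝒴.p)
    (hY : Stk.IsStackFor R 𝒴)
    (hfib : ∀ y : FibCat.overCat U ⥤ᵇ 𝒴,
      FibCat.IsFibGrpd (PP j y).p ∧ Stk.IsStackFor (R₀ R) (PP j y)) :
    Stk.IsStackFor R 𝒳 := by
  have hfibY : 𝒴.p.IsFibered := isFibered_of_isFibGrpd 𝒴.p h𝒴
  rw [isStackFor_iff h𝒳]
  constructor
  · intro D
    obtain ⟨t⟩ := ((isStackFor_iff h𝒴).mp hY).1 (BasedFunctor.comp D j)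
    obtain ⟨y, e, he⟩ := exists_pb_leg t.pt t.pt_proj
    obtain ⟨s'⟩ := exists_cocone_D₁ j R y D (compIso h𝒴 t y e).symm (hfib y).1 (hfib y).2
    exact ⟨coconeOfFibre j h𝒴 D t y e s'⟩
  · intro D s t
    obtain ⟨ψ₀, ⟨hψ₀, hψ₀'⟩, hψu⟩ := ((isStackFor_iff h𝒴).mp hY).2 (BasedFunctor.comp D j)
      (mapCocone j s) (mapCocone j t)
    obtain ⟨ψ, hψeq⟩ : ∃ ψ : j.obj s.pt ⟶ j.obj t.pt, ψ = ψ₀ := ⟨ψ₀, rfl⟩
    have hψ : 𝒴.p.IsHomLift (𝟙 U) ψ := by rw [hψeq]; exact hψ₀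
    have hψ' : ∀ a, j.map (s.ι a) ≫ ψ = j.map (t.ι a) := by
      intro a; rw [hψeq]; exact hψ₀' a
    obtain ⟨y, e, he⟩ := exists_pb_leg (mapCocone j t).pt (mapCocone j t).pt_proj
    obtain ⟨Φ, ⟨hΦ, hΦ'⟩, hΦu⟩ := unique_hom_D₁ j R y D _ (hfib y).1 (hfib y).2
      (coconeS j h𝒴 D s t y e ψ hψ') (coconeT j h𝒴 D t y e) rfl rfl
    obtain ⟨φ, hφeq⟩ : ∃ φ : s.pt ⟶ t.pt, φ = Φ.hom.snd := ⟨Φ.hom.snd, rfl⟩
    refine ⟨φ, ⟨?_, ?_⟩, ?_⟩
    · rw [hφeq]; exact fp_isHomLift_snd_of' y j (𝟙 U) Φ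
    · intro a
      rw [hφeq]
      exact congrArg (fun m => m.hom.snd) (hΦ' a)
    · rintro φ' ⟨hφ', hφ''⟩
      have hjφ : j.map φ' = ψ := by
        rw [hψeq]
        apply hψu
        refine ⟨BasedFunctor.preserves_isHomLift j (𝟙 U) φ', fun a => ?_⟩
        show j.map (s.ι a) ≫ j.map φ' = j.map (t.ι a)
        rw [← j.toFunctor.map_comp, hφ'' a]
      have hw : y.map (𝟙 (Over.mk (𝟙 U))) ≫ (coconeT j h𝒴 D t y e).pt.obj.iso.hom =
          (coconeS j h𝒴 D s t y e ψ hψ').pt.obj.iso.hom ≫ j.map φ' :=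
        cat_aux3 e (ψIso j h𝒴 D s t ψ) _ _ (y.toFunctor.map_id _) hjφ
      let Φ' : (coconeS j h𝒴 D s t y e ψ hψ').pt ⟶ (coconeT j h𝒴 D t y e).pt :=
        fpHomMk (𝟙 (Over.mk (𝟙 U))) φ' hw
      have hΦ'eq : Φ' = Φ := by
        apply hΦu
        refine ⟨?_, fun a => ?_⟩
        · rw [fp_isHomLift_iff]
          show (Over.forget U).IsHomLift (𝟙 U) (𝟙 (Over.mk (𝟙 U)))
          exact IsHomLift.id rfl
        · apply fp_hom_ext
          · exact Category.comp_id _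
          · exact hφ'' a
      rw [hφeq, ← hΦ'eq]
      rfl

end Groth.Agent.H4.StackSlice
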