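import Groth.Agent.H4.Constr2
import Mathlib.Topology.LocallyClosed
import Mathlib.Data.Fintype.Powerset
import Mathlib.Data.Fintype.Sum
import Mathlib.Data.Fintype.Sigma

/-!
# Helper library: finite stratifications (helper4)
-/

namespace Groth.Agent.H4.Spec

open Topology TopologicalSpace Set

variable {X : Type*} [tX : TopologicalSpace X]

/-- The stratum attached to a subset `A` of a finite family of closed sets. -/
def stratum {κ : Type*} (Z : κ → Set X) (A : (Finset κ)ᵒᵈ) : Set X :=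
  {x | ∀ l, x ∈ Z l ↔ l ∈ OrderDual.ofDual A}

theorem mem_stratum {κ : Type*} {Z : κ → Set X} {A : (Finset κ)ᵒᵈ} {x : X} :
    x ∈ stratum Z A ↔ ∀ l, x ∈ Z l ↔ l ∈ OrderDual.ofDual A := Iff.rfl

theorem stratum_eq {κ : Type*} [Finite κ] (Z : κ → Set X) (A : (Finset κ)ᵒᵈ) :
    stratum Z A = (⋂ l ∈ OrderDual.ofDual A, Z l) ∩ (⋂ l ∈ {l | l ∉ OrderDual.ofDual A}, (Z l)ᶜ) := by
  ext x
  simp only [mem_stratum, mem_inter_iff, mem_iInter, mem_ofPred_eq, mem_compl_iff]
  constructor
  · intro h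
    exact ⟨fun l hl => (h l).2 hl, fun l hl hx => hl ((h l).1 hx)⟩
  · rintro ⟨h1, h2⟩ l
    exact ⟨fun hx => by_contra fun hl => h2 l hl hx, fun hl => h1 l hl⟩

theorem isLocallyClosed_stratum {κ : Type*} [Finite κ] (Z : κ → Set X) (hZ : ∀ l, IsClosed (Z l))
    (A : (Finset κ)ᵒᵈ) : IsLocallyClosed (stratum Z A) := by
  rw [stratum_eq, Set.inter_comm]
  refine IsLocallyClosed.inter (IsOpen.isLocallyClosed ?_) (IsClosed.isLocallyClosed ?_)
  · exact (Set.toFinite _).isOpen_biInter fun l _ => (hZ l).isOpen_compl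
  · exact isClosed_biInter fun l _ => hZ l

theorem isConstructible_stratum {κ : Type*} [Finite κ] (Z : κ → Set X)
    (hZ : ∀ l, IsConstructible (Z l)) (A : (Finset κ)ᵒᵈ) : IsConstructible (stratum Z A) := by
  rw [stratum_eq]
  refine IsConstructible.inter ?_ ?_
  · exact IsConstructible.biInter (Set.toFinite _) fun l _ => hZ l
  · exact IsConstructible.biInter (Set.toFinite _) fun l _ => (hZ l).compl

theorem iUnion_stratum {κ : Type*} [Fintype κ] (Z : κ → Set X) :
    ⋃ A, stratum Z A = Set.univ := by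
  classical
  rw [Set.eq_univ_iff_forall]
  intro x
  refine Set.mem_iUnion.2 ⟨OrderDual.toDual (Finset.univ.filter fun l => x ∈ Z l), ?_⟩
  intro l
  simp

theorem disjoint_stratum {κ : Type*} (Z : κ → Set X) {A B : (Finset κ)ᵒᵈ} (h : A ≠ B) :
    Disjoint (stratum Z A) (stratum Z B) := by
  rw [Set.disjoint_left]
  intro x hA hB
  apply h
  apply OrderDual.ofDual.injective
  ext l
  rw [← hA l, ← hB l]

theorem closure_stratum_subset {κ : Type*} [Fintype κ] (Z : κ → Set X) (hZ : ∀ l, IsClosed (Z l))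
    (B : (Finset κ)ᵒᵈ) : closure (stratum Z B) ⊆ ⋃ A ∈ Set.Iic B, stratum Z A := by
  classical
  have h1 : closure (stratum Z B) ⊆ ⋂ l ∈ OrderDual.ofDual B, Z l := by
    apply closure_minimal _ (isClosed_biInter fun l _ => hZ l)
    intro x hx
    simp only [mem_iInter]
    exact fun l hl => (hx l).2 hl
  intro x hx
  have h2 := h1 hx
  simp only [mem_iInter] at h2
  simp only [mem_iUnion, Set.mem_Iic]
  refine ⟨OrderDual.toDual (Finset.univ.filter fun l => x ∈ Z l), ?_, ?_⟩
  · change OrderDual.ofDual B ≤ Finset.univ.filter fun l => x ∈ Z l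
    intro l hl
    simp only [Finset.mem_filter, Finset.mem_univ, true_and]
    exact h2 l hl
  · intro l
    simp

theorem stratum_subset_of_measurable {κ : Type*} (Z : κ → Set X) {P : Set X}
    (hP : ∀ x y, (∀ l, x ∈ Z l ↔ y ∈ Z l) → (x ∈ P → y ∈ P)) {A : (Finset κ)ᵒᵈ}
    (h : (stratum Z A ∩ P).Nonempty) : stratum Z A ⊆ P := by
  obtain ⟨x, hxA, hxP⟩ := h
  intro y hy
  exact hP x y (fun l => by rw [hxA l, hy l]) hxP

/-- A constructible set is measurable with respect to a finite family of closed constructible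
sets. -/
theorem exists_family_of_isConstructible {E : Set X} (hE : IsConstructible E) :
    ∃ (κ : Type) (_ : Fintype κ) (Z : κ → Set X), (∀ l, IsClosed (Z l)) ∧
      (∀ l, IsConstructible (Z l)) ∧
      ∀ x y, (∀ l, x ∈ Z l ↔ y ∈ Z l) → (x ∈ E ↔ y ∈ E) := by
  induction hE using IsConstructible.empty_union_induction with
  | open_retrocompact U hUo hUr =>
    refine ⟨Unit, inferInstance, fun _ => Uᶜ, fun _ => hUo.isClosed_compl,
      fun _ => (hUr.isConstructible hUo).compl, ?_⟩
    intro x y h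
    have := h ()
    simp only [mem_compl_iff, not_iff_not] at this
    exact this
  | union s hs t ht ihs iht =>
    obtain ⟨κ1, _, Z1, h1c, h1k, h1⟩ := ihs
    obtain ⟨κ2, _, Z2, h2c, h2k, h2⟩ := iht
    refine ⟨κ1 ⊕ κ2, inferInstance, Sum.elim Z1 Z2, ?_, ?_, ?_⟩
    · rintro (l | l)
      · exact h1c l
      · exact h2c l
    · rintro (l | l)
      · exact h1k l
      · exact h2k l
    · intro x y h
      have e1 := h1 x y fun l => h (Sum.inl l)
      have e2 := h2 x y fun l => h (Sum.inr l)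
      simp only [mem_union, e1, e2]
  | compl s hs ih =>
    obtain ⟨κ1, _, Z1, h1c, h1k, h1⟩ := ih
    refine ⟨κ1, inferInstance, Z1, h1c, h1k, ?_⟩
    intro x y h
    simp only [mem_compl_iff, h1 x y h]

end Groth.Agent.H4.Spec
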