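import Groth.Agent.H4.Strat
import Mathlib.Topology.NoetherianSpace

/-!
# Helper library: good stratifications of Noetherian spaces (helper4)
-/

namespace Groth.Agent.H4.Spec

open Topology TopologicalSpace Set

variable {X : Type*} [tX : TopologicalSpace X]

/-- Stacks 09Y6 (Noetherian induction form): every closed subset of a Noetherian space admits a
finite good stratification whose strata are measurable for a given finite family of closed sets. -/
theorem exists_good_stratification [NoetherianSpace X] (Y : Closeds X) :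
    ∀ (κ : Type) [Fintype κ] (Z : κ → Set X), (∀ l, IsClosed (Z l)) →
    ∃ 𝒮 : Set (Set X), 𝒮.Finite ∧ (∀ s ∈ 𝒮, IsLocallyClosed s) ∧ (⋃₀ 𝒮 = (Y : Set X)) ∧
      (∀ s ∈ 𝒮, ∀ t ∈ 𝒮, s ≠ t → Disjoint s t) ∧
      (∀ s ∈ 𝒮, ∀ t ∈ 𝒮, (s ∩ closure t).Nonempty → s ⊆ closure t) ∧
      (∀ s ∈ 𝒮, ∀ x ∈ s, ∀ y ∈ s, ∀ l, x ∈ Z l ↔ y ∈ Z l) := by
  classical
  induction Y using WellFoundedLT.induction with
  | ind Y ih =>
  intro κ _ Z hZ
  by_cases hY : (Y : Set X) = ∅
  · refine ⟨∅, Set.finite_empty, by simp, by simp [hY], by simp, by simp, by simp⟩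
  have hYne : (Y : Set X).Nonempty := Set.nonempty_iff_ne_empty.2 hY
  let 𝒜 : Set (Finset κ)ᵒᵈ := {A | ((Y : Set X) ∩ stratum Z A).Nonempty}
  have h𝒜ne : 𝒜.Nonempty := by
    obtain ⟨x, hx⟩ := hYne
    have : x ∈ ⋃ A, stratum Z A := by rw [iUnion_stratum]; trivial
    obtain ⟨A, hA⟩ := Set.mem_iUnion.1 this
    exact ⟨A, x, hx, hA⟩
  obtain ⟨A, hA, hAmin⟩ := Set.exists_min_image 𝒜 (fun A => (OrderDual.ofDual A).card)
    (Set.toFinite 𝒜) h𝒜ne
  let O : Set X := ⋂ l ∈ {l | l ∉ OrderDual.ofDual A}, (Z l)ᶜ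
  have hO : IsOpen O := (Set.toFinite _).isOpen_biInter fun l _ => (hZ l).isOpen_compl
  let U : Set X := (Y : Set X) ∩ O
  have hUeq : U = (Y : Set X) ∩ stratum Z A := by
    apply subset_antisymm
    · rintro x ⟨hxY, hxO⟩
      refine ⟨hxY, ?_⟩
      simp only [O, mem_iInter, mem_ofPred_eq, mem_compl_iff] at hxO
      let B : (Finset κ)ᵒᵈ := OrderDual.toDual (Finset.univ.filter fun l => x ∈ Z l)
      have hxB : x ∈ stratum Z B := by
        intro l
        simp [B]
      have hBA : OrderDual.ofDual B ⊆ OrderDual.ofDual A := by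
        intro l hl
        simp only [B, OrderDual.ofDual_toDual, Finset.mem_filter, Finset.mem_univ, true_and] at hl
        by_contra hlA
        exact hxO l hlA hl
      have hB : B ∈ 𝒜 := ⟨x, hxY, hxB⟩
      have hBeq : OrderDual.ofDual B = OrderDual.ofDual A :=
        Finset.eq_of_subset_of_card_le hBA (hAmin B hB)
      have : B = A := OrderDual.ofDual.injective hBeq
      rw [← this]
      exact hxB
    · rintro x ⟨hxY, hxA⟩
      refine ⟨hxY, ?_⟩
      rw [stratum_eq] at hxA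
      exact hxA.2
  have hUne : U.Nonempty := by rw [hUeq]; exact hA
  have hUlc : IsLocallyClosed U := Y.isClosed.isLocallyClosed.inter hO.isLocallyClosed
  let Y' : Closeds X := ⟨(Y : Set X) ∩ Oᶜ, Y.isClosed.inter hO.isClosed_compl⟩
  have hY'lt : Y' < Y := by
    rw [← SetLike.coe_ssubset_coe]
    refine ⟨Set.inter_subset_left, ?_⟩
    intro hsub
    obtain ⟨x, hx⟩ := hUne
    exact (hsub hx.1).2 hx.2
  let Z' : Option κ → Set X := fun o => o.elim (closure U) Z
  have hZ' : ∀ o, IsClosed (Z' o) := by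
    rintro (_ | l)
    · exact isClosed_closure
    · exact hZ l
  obtain ⟨𝒮, hfin, hlc, hcov, hdisj, hgood, hmeas⟩ := ih Y' hY'lt (Option κ) Z' hZ'
  have hsub : ∀ s ∈ 𝒮, s ⊆ (Y : Set X) ∩ Oᶜ := by
    intro s hs
    have : s ⊆ ⋃₀ 𝒮 := Set.subset_sUnion_of_mem hs
    rw [hcov] at this
    exact this
  have hUs : ∀ s ∈ 𝒮, Disjoint U s := by
    intro s hs
    rw [Set.disjoint_left]
    intro x hxU hxs
    exact (hsub s hs hxs).2 hxU.2
  have hUnot : ∀ s ∈ 𝒮, s.Nonempty → U ≠ s := by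
    rintro s hs ⟨x, hx⟩ rfl
    exact Set.disjoint_left.1 (hUs _ hs) hx hx
  refine ⟨insert U 𝒮, hfin.insert U, ?_, ?_, ?_, ?_, ?_⟩
  · intro s hs
    rcases Set.mem_insert_iff.1 hs with rfl | hs
    · exact hUlc
    · exact hlc s hs
  · rw [Set.sUnion_insert, hcov]
    change U ∪ (Y : Set X) ∩ Oᶜ = (Y : Set X)
    ext x
    simp only [U, mem_union, mem_inter_iff, mem_compl_iff]
    tauto
  · intro s hs t ht hst
    rcases Set.mem_insert_iff.1 hs with rfl | hs <;> rcases Set.mem_insert_iff.1 ht with rfl | ht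
    · exact absurd rfl hst
    · exact hUs t ht
    · exact (hUs s hs).symm
    · exact hdisj s hs t ht hst
  · intro s hs t ht hne
    rcases Set.mem_insert_iff.1 hs with rfl | hs <;> rcases Set.mem_insert_iff.1 ht with rfl | ht
    · exact subset_closure
    · exfalso
      obtain ⟨x, hxU, hxt⟩ := hne
      have h1 : closure t ⊆ (Y : Set X) ∩ Oᶜ :=
        closure_minimal (hsub t ht) (Y.isClosed.inter hO.isClosed_compl)
      exact (h1 hxt).2 hxU.2
    · obtain ⟨x, hxs, hxU⟩ := hne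
      intro y hy
      exact (hmeas s hs x hxs y hy none).1 hxU
    · exact hgood s hs t ht hne
  · intro s hs x hx y hy l
    rcases Set.mem_insert_iff.1 hs with rfl | hs
    · rw [hUeq] at hx hy
      rw [hx.2 l, hy.2 l]
    · exact hmeas s hs x hx y hy (some l)

/-- Indexed version of `exists_good_stratification` for the whole space. -/
theorem exists_good_stratification_fin [NoetherianSpace X]
    (κ : Type) [Fintype κ] (Z : κ → Set X) (hZ : ∀ l, IsClosed (Z l)) :
    ∃ (m : ℕ) (S : Fin m → Set X), (∀ i, IsLocallyClosed (S i)) ∧ (⋃ i, S i = Set.univ) ∧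
      (∀ i j, i ≠ j → Disjoint (S i) (S j)) ∧
      (∀ i j, (S i ∩ closure (S j)).Nonempty → S i ⊆ closure (S j)) ∧
      (∀ i, ∀ x ∈ S i, ∀ y ∈ S i, ∀ l, x ∈ Z l ↔ y ∈ Z l) := by
  obtain ⟨𝒮, hfin, hlc, hcov, hdisj, hgood, hmeas⟩ := exists_good_stratification (X := X) ⊤ κ Z hZ
  have := hfin.to_subtype
  obtain ⟨m, ⟨e⟩⟩ := Finite.exists_equiv_fin 𝒮
  refine ⟨m, fun i => (e.symm i).1, fun i => hlc _ (e.symm i).2, ?_, ?_, ?_, ?_⟩
  · rw [Set.eq_univ_iff_forall]
    intro x
    have : x ∈ ⋃₀ 𝒮 := by rw [hcov]; trivial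
    obtain ⟨s, hs, hxs⟩ := this
    refine Set.mem_iUnion.2 ⟨e ⟨s, hs⟩, ?_⟩
    simpa using hxs
  · intro i j hij
    apply hdisj _ (e.symm i).2 _ (e.symm j).2
    intro h
    exact hij (e.symm.injective (Subtype.ext h))
  · intro i j h
    exact hgood _ (e.symm i).2 _ (e.symm j).2 h
  · intro i x hx y hy l
    exact hmeas _ (e.symm i).2 x hx y hy l

end Groth.Agent.H4.Spec
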