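import Mathlib

set_option autoImplicit false
universe u

namespace Groth.Agent.H4.Swindle

variable (R : Type*) [CommRing R]

/-- `(α →₀ X × Y) ≃ (α →₀ X) × (α →₀ Y)`. -/
noncomputable def finsuppProdCod (α X Y : Type*) [AddCommGroup X] [Module R X] [AddCommGroup Y]
    [Module R Y] : (α →₀ (X × Y)) ≃ₗ[R] (α →₀ X) × (α →₀ Y) :=
  LinearEquiv.ofLinearMap
    ((Finsupp.mapRange.linearMap (LinearMap.fst R X Y)).prod
      (Finsupp.mapRange.linearMap (LinearMap.snd R X Y)))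
    ((Finsupp.mapRange.linearMap (LinearMap.inl R X Y)).coprod
      (Finsupp.mapRange.linearMap (LinearMap.inr R X Y)))
    (by
      apply LinearMap.ext
      rintro ⟨a, b⟩
      apply Prod.ext
      · ext i; simp
      · ext i; simp)
    (by
      apply LinearMap.ext
      intro g
      ext i <;> simp)

/-- `(ℕ →₀ X) ≃ X × (ℕ →₀ X)`. -/
noncomputable def natShift (X : Type*) [AddCommGroup X] [Module R X] :
    (ℕ →₀ X) ≃ₗ[R] X × (ℕ →₀ X) :=
  (Finsupp.domLCongr ((Equiv.sumComm PUnit.{1} ℕ).trans Equiv.natSumPUnitEquivNat).symm).trans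
    ((Finsupp.sumFinsuppLEquivProdFinsupp R).trans
      ((Finsupp.uniqueLinearEquiv R X PUnit.unit).prodCongr (LinearEquiv.refl R _)))

theorem swindle (P Q : Type*) [AddCommGroup P] [Module R P]
    [AddCommGroup Q] [Module R Q] (ι : Type*) [Infinite ι] (e : (P × Q) ≃ₗ[R] (ι →₀ R)) :
    Nonempty ((P × (ι →₀ R)) ≃ₗ[R] (ι →₀ R)) := by
  have hcard : Nonempty (ι ≃ ℕ × ι) := by
    rw [← Cardinal.eq, Cardinal.mk_prod, Cardinal.mk_nat, Cardinal.lift_aleph0, Cardinal.lift_id']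
    rw [Cardinal.aleph0_mul_eq (by simp)]
  obtain ⟨c⟩ := hcard
  -- F ≃ ℕ →₀ F
  let eF : (ι →₀ R) ≃ₗ[R] (ℕ →₀ (ι →₀ R)) :=
    (Finsupp.domLCongr c).trans (Finsupp.curryLinearEquiv R)
  -- ℕ →₀ F ≃ (ℕ →₀ P) × (ℕ →₀ Q)
  let eS : (ℕ →₀ (ι →₀ R)) ≃ₗ[R] (ℕ →₀ P) × (ℕ →₀ Q) :=
    (Finsupp.mapRange.linearEquiv e.symm).trans (finsuppProdCod R ℕ P Q)
  let e1 : (P × (ι →₀ R)) ≃ₗ[R] P × ((ℕ →₀ P) × (ℕ →₀ Q)) :=
    (LinearEquiv.refl R P).prodCongr (eF.trans eS)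
  let e2 : (P × ((ℕ →₀ P) × (ℕ →₀ Q))) ≃ₗ[R] (P × (ℕ →₀ P)) × (ℕ →₀ Q) :=
    (LinearEquiv.prodAssoc R P (ℕ →₀ P) (ℕ →₀ Q)).symm
  let e3 : ((P × (ℕ →₀ P)) × (ℕ →₀ Q)) ≃ₗ[R] (ℕ →₀ P) × (ℕ →₀ Q) :=
    (natShift R P).symm.prodCongr (LinearEquiv.refl R _)
  exact ⟨e1.trans (e2.trans (e3.trans (eS.symm.trans eF.symm)))⟩


/-- A retract `P` of `F` splits off: `F ≃ P × ker p`. -/
noncomputable def retractProd {P F : Type*} [AddCommGroup P] [Module R P] [AddCommGroup F]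
    [Module R F] (i : P →ₗ[R] F) (p : F →ₗ[R] P) (h : p ∘ₗ i = LinearMap.id) :
    F ≃ₗ[R] P × LinearMap.ker p :=
  have h' : ∀ x, p (i x) = x := fun x => LinearMap.congr_fun h x
  LinearEquiv.ofLinearMap
    (p.prod (LinearMap.codRestrict (LinearMap.ker p) (LinearMap.id - i ∘ₗ p) (fun x => by
      simp [h'])))
    (i.coprod (LinearMap.ker p).subtype)
    (by
      apply LinearMap.ext
      rintro ⟨a, ⟨k, hk⟩⟩
      have hk' : p k = 0 := hk
      apply Prod.ext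
      · simp [h', hk']
      · apply Subtype.ext
        simp [h', hk'])
    (by
      apply LinearMap.ext
      intro x
      simp)

theorem exists_free_prod (P : Type u) [AddCommGroup P] [Module R P] [Module.Projective R P] :
    ∃ ι : Type u, Module.Free R (P × (ι →₀ R)) := by
  obtain ⟨s, hs⟩ := (Module.projective_def' (R := R) (P := P)).mp inferInstance
  let p : (P →₀ R) →ₗ[R] P := Finsupp.linearCombination R id
  let e0 : (P →₀ R) ≃ₗ[R] P × LinearMap.ker p := retractProd R s p hs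
  refine ⟨ℕ × P, ?_⟩
  let e : (P × (LinearMap.ker p × (ℕ →₀ (P →₀ R)))) ≃ₗ[R] ((ℕ × P) →₀ R) :=
    ((LinearEquiv.prodAssoc R P (LinearMap.ker p) (ℕ →₀ (P →₀ R))).symm.trans
      ((e0.symm.prodCongr (LinearEquiv.refl R _)).trans (natShift R (P →₀ R)).symm)).trans
      (Finsupp.curryLinearEquiv R).symm
  obtain ⟨E⟩ := swindle R P (LinearMap.ker p × (ℕ →₀ (P →₀ R))) (ℕ × P) e
  exact Module.Free.of_equiv E.symm

end Groth.Agent.H4.Swindle
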