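import Mathlib
import Groth.Prelude.Def_AlgGrp
import Groth.Prelude.Def_WeilRes
import Groth.Agent.H4.WSe
import Groth.Agent.Lib.Helper3.DiscSep
import Groth.Agent.Lib.Helper1.EtNhd

/-! helper4: descent of quasi-compactness along open/quasi-compact surjections, the shear pullback
square of a kernel, and quasi-compactness of the comparison morphism `G ⟶ Res(Ḡ)`. -/

set_option autoImplicit false

universe u

open CategoryTheory CategoryTheory.Limits AlgebraicGeometry Opposite

noncomputable section

namespace Groth.Agent.H4.WTa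

section Descent

variable {X' X Y' Y : Scheme.{u}} {f' : X' ⟶ Y'} {g' : X' ⟶ X} {g : Y' ⟶ Y} {f : X ⟶ Y}

/-- preimages of images of compact opens under a base change -/
lemma isCompact_preimage_of_isPullback (h : IsPullback f' g' g f) [QuasiCompact f']
    (W : Set Y') (hWo : IsOpen W) (hWc : IsCompact W) :
    IsCompact (f ⁻¹' (g '' W)) := by
  have h1 : IsCompact (f' ⁻¹' W) := QuasiCompact.isCompact_preimage W hWo hWc
  have h2 : f ⁻¹' (g '' W) = g' '' (f' ⁻¹' W) := by
    ext x
    constructor
    · rintro ⟨w, hw, hwx⟩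
      obtain ⟨z, hz1, hz2⟩ := Scheme.Pullback.exists_preimage_pullback (f := g) (g := f) w x hwx
      refine ⟨h.isoPullback.inv z, ?_, ?_⟩
      · show f' (h.isoPullback.inv z) ∈ W
        rw [← Scheme.Hom.comp_apply, IsPullback.isoPullback_inv_fst, hz1]
        exact hw
      · rw [← Scheme.Hom.comp_apply, IsPullback.isoPullback_inv_snd, hz2]
    · rintro ⟨z, hz, rfl⟩
      refine ⟨f' z, hz, ?_⟩
      rw [← Scheme.Hom.comp_apply, ← Scheme.Hom.comp_apply, h.w]
  rw [h2]
  exact h1.image g'.continuous

/-- quasi-compactness descends along surjective quasi-compact morphisms -/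
lemma quasiCompact_of_isPullback_of_quasiCompact (h : IsPullback f' g' g f) [QuasiCompact f']
    [QuasiCompact g] [Surjective g] : QuasiCompact f := by
  rw [quasiCompact_iff_forall_isAffineOpen]
  intro U hU
  have h1 := isCompact_preimage_of_isPullback h (g ⁻¹' (U : Set Y))
    (U.isOpen.preimage g.continuous) (QuasiCompact.isCompact_preimage _ U.isOpen hU.isCompact)
  rwa [Set.image_preimage_eq _ g.surjective] at h1

/-- quasi-compactness descends along surjective open morphisms -/
lemma quasiCompact_of_isPullback_of_isOpenMap (h : IsPullback f' g' g f) [QuasiCompact f']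
    (hg : IsOpenMap g) [Surjective g] : QuasiCompact f := by
  rw [quasiCompact_iff_forall_isAffineOpen]
  intro U hU
  -- cover the preimage by affine opens
  have hcov : ∀ y : ↥(g ⁻¹ᵁ U), ∃ V : Y'.Opens, IsAffineOpen V ∧ y.1 ∈ V ∧ V ≤ g ⁻¹ᵁ U := by
    intro y
    obtain ⟨V, hV, hyV, hVU⟩ := exists_isAffineOpen_mem_and_subset (x := y.1)
      (U := g ⁻¹ᵁ U) y.2
    exact ⟨V, hV, hyV, hVU⟩
  choose V hV hyV hVU using hcov
  have hUc : IsCompact (U : Set Y) := hU.isCompact
  obtain ⟨t, ht⟩ := hUc.elim_finite_subcover (fun y : ↥(g ⁻¹ᵁ U) => g '' (V y : Set Y'))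
    (fun y => hg _ (V y).isOpen) (by
      intro u hu
      obtain ⟨y, rfl⟩ := g.surjective u
      exact Set.mem_iUnion.mpr ⟨⟨y, hu⟩, y, hyV ⟨y, hu⟩, rfl⟩)
  let W : Set Y' := ⋃ y ∈ t, (V y : Set Y')
  have hWo : IsOpen W := isOpen_biUnion fun y _ => (V y).isOpen
  have hWc : IsCompact W := t.isCompact_biUnion fun y _ => (hV y).isCompact
  have hWU : g '' W = (U : Set Y) := by
    apply subset_antisymm
    · rintro _ ⟨w, hw, rfl⟩
      obtain ⟨y, hy, hwy⟩ := Set.mem_iUnion₂.mp hw
      exact hVU y hwy
    · intro u hu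
      obtain ⟨y, hy, w, hw, rfl⟩ := Set.mem_iUnion₂.mp (ht hu)
      exact ⟨w, Set.mem_iUnion₂.mpr ⟨y, hy, hw⟩, rfl⟩
  have h1 := isCompact_preimage_of_isPullback h W hWo hWc
  rwa [hWU] at h1

end Descent

section Shear

open MonoidalCategory CartesianMonoidalCategory MonObj

variable {S : Scheme.{u}} {G Q N : Over S} [GrpObj G] [GrpObj Q] (q : G ⟶ Q) [IsMonHom q]
  (i : N ⟶ G)

/-- the shear square of a kernel: `G × N` is the fibre product `G ×_Q G`. -/
theorem shear_isPullback (hN : AlgGrp.IsKernel i q) :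
    IsPullback (fst G N) (fst G N * (snd G N ≫ i)) q q := by
  have hiq : ∀ {T : Over S} (n : T ⟶ N), (n ≫ i) ≫ q = 1 := by
    intro T n
    rw [Category.assoc, hN.w, ← Category.assoc, Hom.one_def]
    congr 1
    exact toUnit_unique _ _
  have hmono : Mono i := by
    refine ⟨fun {T} a b hab => ?_⟩
    exact hN.hom_ext hab (toUnit_unique _ _)
  refine ⟨⟨?_⟩, ⟨PullbackCone.IsLimit.mk _ (fun s => lift s.fst
      (hN.lift (s.fst⁻¹ * s.snd) (toUnit _) ?_)) ?_ ?_ ?_⟩⟩
  · rw [MonObj.mul_comp, hiq, _root_.mul_one]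
  · rw [MonObj.mul_comp, GrpObj.inv_comp, s.condition, _root_.inv_mul_cancel]
    rfl
  · intro s
    exact lift_fst _ _
  · intro s
    rw [MonObj.comp_mul, lift_fst, ← Category.assoc, lift_snd, hN.lift_fst, _root_.mul_inv_cancel_left]
  · intro s m hm1 hm2
    have h3 : (m ≫ snd G N) ≫ i = s.fst⁻¹ * s.snd := by
      rw [← hm1, ← hm2, MonObj.comp_mul, _root_.inv_mul_cancel_left, Category.assoc]
    apply CartesianMonoidalCategory.hom_ext
    · rw [lift_fst, hm1]
    · rw [lift_snd, ← cancel_mono i, h3, hN.lift_fst]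

end Shear

section Main

open MonoidalCategory CartesianMonoidalCategory MonObj Groth.Agent.H4

/-- a surjective open homomorphism with quasi-compact kernel is quasi-compact -/
theorem quasiCompact_of_kernel {B : Scheme.{u}} {G Q N : Over B} [GrpObj G] [GrpObj Q]
    (q : G ⟶ Q) [IsMonHom q] (i : N ⟶ G) (hN : AlgGrp.IsKernel i q) [QuasiCompact N.hom]
    [Surjective q.left] (ho : IsOpenMap q.left) : QuasiCompact q.left := by
  have h1 : IsPullback (fst G N).left (fst G N * (snd G N ≫ i)).left q.left q.left :=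
    (shear_isPullback q i hN).map (Over.forget B)
  haveI : QuasiCompact (fst G N).left := by
    show QuasiCompact (pullback.fst G.hom N.hom)
    infer_instance
  exact quasiCompact_of_isPullback_of_isOpenMap h1 ho

/-- the comparison morphism `G ⟶ Res_{k'/k}(Ḡ)` attached to a faithfully flat homomorphism
`G_{k'} ⟶ Ḡ` with quasi-compact kernel is quasi-compact. -/
theorem quasiCompact_lift (k k' : Type u) [Field k] [Field k'] [Algebra k k']
    (G : Over (Spec (CommRingCat.of k))) [GrpObj G] [LocallyOfFiniteType G.hom]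
    (Gbar : Over (Spec (CommRingCat.of k'))) [GrpObj Gbar] [LocallyOfFiniteType Gbar.hom]
    (q : Red.bc (Spec.map (CommRingCat.ofHom (algebraMap k k'))) G ⟶ Gbar) [IsMonHom q]
    [Surjective q.left] [Flat q.left]
    (N : Over (Spec (CommRingCat.of k')))
    (iN : N ⟶ Red.bc (Spec.map (CommRingCat.ofHom (algebraMap k k'))) G)
    (hN : AlgGrp.IsKernel iN q) [CompactSpace N.left]
    (R : Over (Spec (CommRingCat.of k))) [GrpObj R]
    (qR : Red.bc (Spec.map (CommRingCat.ofHom (algebraMap k k'))) R ⟶ Gbar)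
    (hR : WeilRes.IsWeilRes (Spec.map (CommRingCat.ofHom (algebraMap k k'))) Gbar R qR) :
    QuasiCompact (hR.lift G q).left := by
  obtain ⟨φ, hφ⟩ : ∃ φ : Spec (CommRingCat.of k') ⟶ Spec (CommRingCat.of k),
    φ = Spec.map (CommRingCat.ofHom (algebraMap k k')) := ⟨_, rfl⟩
  subst hφ
  -- `q` is locally of finite presentation, hence open
  haveI : LocallyOfFiniteType (q.left ≫ Gbar.hom) := by
    rw [Over.w q]
    show LocallyOfFiniteType (pullback.snd G.hom _)
    infer_instance
  haveI : LocallyOfFiniteType q.left := locallyOfFiniteType_of_comp q.left Gbar.hom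
  haveI : IsLocallyNoetherian Gbar.left := LocallyOfFiniteType.isLocallyNoetherian Gbar.hom
  haveI : LocallyOfFinitePresentation q.left :=
    Groth.Agent.H1.EtNhd.lfp_of_lft_of_noetherian q.left
  have ho : IsOpenMap q.left := q.left.isOpenMap
  haveI : QuasiCompact N.hom := inferInstance
  haveI : QuasiCompact q.left := quasiCompact_of_kernel q iN hN ho
  -- the comparison morphism
  have hi : (Over.pullback _).map (hR.lift G q) ≫ qR = q := hR.restr_lift G q
  have hi' : ((Over.pullback _).map (hR.lift G q)).left ≫ qR.left = q.left :=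
    congrArg (fun m => m.left) hi
  haveI : IsSeparated R.hom := Groth.Agent.H3.DiscSep.main _ R
  haveI : QuasiSeparated (qR.left ≫ Gbar.hom) := by
    rw [Over.w qR]
    show QuasiSeparated (pullback.snd R.hom _)
    infer_instance
  haveI : QuasiSeparated qR.left := QuasiSeparated.of_comp qR.left Gbar.hom
  haveI : QuasiCompact (((Over.pullback _).map (hR.lift G q)).left ≫ qR.left) := by
    rw [hi']; infer_instance
  haveI : QuasiCompact ((Over.pullback _).map (hR.lift G q)).left :=
    QuasiCompact.of_comp _ qR.left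
  -- descend along `R_{k'} ⟶ R`
  haveI : Surjective (Spec.map (CommRingCat.ofHom (algebraMap k k'))) := by
    refine ⟨fun x => ⟨IsLocalRing.closedPoint k', ?_⟩⟩
    haveI : Subsingleton ↥(Spec (CommRingCat.of k)) :=
      inferInstanceAs (Subsingleton (PrimeSpectrum k))
    exact Subsingleton.elim _ _
  haveI : Surjective (pullback.fst R.hom (Spec.map (CommRingCat.ofHom (algebraMap k k')))) :=
    MorphismProperty.pullback_fst (P := @Surjective) _ _ inferInstance
  exact quasiCompact_of_isPullback_of_quasiCompact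
    (WSe.pb_isPullback (Spec.map (CommRingCat.ofHom (algebraMap k k'))) (hR.lift G q))

end Main

end Groth.Agent.H4.WTa

end
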