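import Mathlib
import Groth.Prelude.Def_AlgGrp
import Groth.Agent.H4.WTa
import Groth.Agent.H4.TbB
import Groth.Agent.H4.AbB
import Groth.Agent.Lib.Helper3.FpqcLocal3

/-!
# Closed immersions in short exact sequences of group schemes (helper4)
-/

set_option autoImplicit false
universe u
open CategoryTheory MonoidalCategory CartesianMonoidalCategory MonObj AlgebraicGeometry CategoryTheory.Limits

namespace Groth.Agent.H4.SxA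

open Groth.Agent.H4

variable {S : Scheme.{u}} {N₁ G₁ Q₁ N₂ G₂ Q₂ : Over S}
  [GrpObj N₁] [GrpObj G₁] [GrpObj Q₁] [GrpObj N₂] [GrpObj G₂] [GrpObj Q₂]
  (a₁ : N₁ ⟶ G₁) (b₁ : G₁ ⟶ Q₁) (a₂ : N₂ ⟶ G₂) (b₂ : G₂ ⟶ Q₂)
  [IsMonHom a₁] [IsMonHom b₁] [IsMonHom a₂] [IsMonHom b₂]
  (jN : N₁ ⟶ N₂) (jG : G₁ ⟶ G₂) (jQ : Q₁ ⟶ Q₂) [IsMonHom jN] [IsMonHom jG] [IsMonHom jQ]

omit [GrpObj N₂] [IsMonHom a₂] [IsMonHom b₂] in
theorem ker_comp (h₂ : AlgGrp.IsKernel a₂ b₂) {T : Over S} (n : T ⟶ N₂) : (n ≫ a₂) ≫ b₂ = 1 := by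
  rw [Category.assoc, h₂.w, ← Category.assoc, Hom.one_def]
  congr 1
  exact toUnit_unique _ _

omit [GrpObj N₂] [IsMonHom a₂] [IsMonHom b₁] [GrpObj Q₁] [IsMonHom jQ] in
theorem alpha (h₂ : AlgGrp.IsKernel a₂ b₂) (sq₂ : b₁ ≫ jQ = jG ≫ b₂)
    {K : Over S} {pK₁ : K ⟶ G₂} {pK₂ : K ⟶ Q₁} (hK : IsPullback pK₁ pK₂ b₂ jQ)
    (f : G₁ ⊗ N₂ ⟶ K) (hf1 : f ≫ pK₁ = (fst G₁ N₂ ≫ jG) * (snd G₁ N₂ ≫ a₂))
    (hf2 : f ≫ pK₂ = fst G₁ N₂ ≫ b₁) :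
    IsPullback (fst G₁ N₂) f b₁ pK₂ := by
  have hmono : Mono a₂ := ⟨fun {T} x y hxy => h₂.hom_ext hxy (toUnit_unique _ _)⟩
  refine ⟨⟨hf2.symm⟩, ⟨PullbackCone.IsLimit.mk _ (fun s => lift s.fst
      (h₂.lift ((s.fst ≫ jG)⁻¹ * (s.snd ≫ pK₁)) (toUnit _) ?_)) ?_ ?_ ?_⟩⟩
  · have e : (s.fst ≫ jG) ≫ b₂ = (s.snd ≫ pK₁) ≫ b₂ := by
      rw [Category.assoc, ← sq₂, ← Category.assoc, s.condition, Category.assoc, ← hK.w,
        Category.assoc]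
    rw [MonObj.mul_comp, GrpObj.inv_comp, e, _root_.inv_mul_cancel]
    rfl
  · intro s
    exact lift_fst _ _
  · intro s
    apply hK.hom_ext
    · rw [Category.assoc, hf1, MonObj.comp_mul, lift_fst_assoc, lift_snd_assoc, h₂.lift_fst,
        _root_.mul_inv_cancel_left]
    · rw [Category.assoc, hf2, lift_fst_assoc]
      exact s.condition
  · intro s m hm1 hm2
    have h4 : s.snd ≫ pK₁ = (s.fst ≫ jG) * ((m ≫ snd G₁ N₂) ≫ a₂) := by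
      rw [← hm2, Category.assoc, hf1, MonObj.comp_mul, ← Category.assoc m, hm1,
        ← Category.assoc m]
    have h3 : (m ≫ snd G₁ N₂) ≫ a₂ = (s.fst ≫ jG)⁻¹ * (s.snd ≫ pK₁) := by
      rw [h4, _root_.inv_mul_cancel_left]
    apply CartesianMonoidalCategory.hom_ext
    · rw [lift_fst, hm1]
    · rw [lift_snd, ← cancel_mono a₂, h3, h₂.lift_fst]

omit [GrpObj N₁] [GrpObj N₂] [IsMonHom a₁] [IsMonHom a₂] [IsMonHom jN] in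
/-- **Five-lemma for closed immersions** in short exact sequences of group schemes. -/
theorem main (h₁ : AlgGrp.IsKernel a₁ b₁) (h₂ : AlgGrp.IsKernel a₂ b₂)
    [QuasiCompact G₁.hom] [QuasiSeparated Q₁.hom]
    (hb₁ : Flat b₁.left ∧ Surjective b₁.left)
    (sq₁ : a₁ ≫ jG = jN ≫ a₂) (sq₂ : b₁ ≫ jQ = jG ≫ b₂)
    (hjN : IsClosedImmersion jN.left) (hjQ : IsClosedImmersion jQ.left) :
    IsClosedImmersion jG.left := by
  obtain ⟨K, pK₁, pK₂, hK⟩ : ∃ (K : Over S) (pK₁ : K ⟶ G₂) (pK₂ : K ⟶ Q₁),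
      IsPullback pK₁ pK₂ b₂ jQ := ⟨_, _, _, IsPullback.of_hasPullback b₂ jQ⟩
  have hfc : ((fst G₁ N₂ ≫ jG) * (snd G₁ N₂ ≫ a₂)) ≫ b₂ = (fst G₁ N₂ ≫ b₁) ≫ jQ := by
    rw [MonObj.mul_comp, ker_comp a₂ b₂ h₂, _root_.mul_one, Category.assoc, ← sq₂,
      Category.assoc]
  obtain ⟨f, hf1, hf2⟩ : ∃ f : G₁ ⊗ N₂ ⟶ K,
      f ≫ pK₁ = (fst G₁ N₂ ≫ jG) * (snd G₁ N₂ ≫ a₂) ∧ f ≫ pK₂ = fst G₁ N₂ ≫ b₁ :=
    ⟨hK.lift _ _ hfc, hK.lift_fst _ _ _, hK.lift_snd _ _ _⟩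
  obtain ⟨k, hk1, hk2⟩ : ∃ k : G₁ ⟶ K, k ≫ pK₁ = jG ∧ k ≫ pK₂ = b₁ :=
    ⟨hK.lift jG b₁ sq₂.symm, hK.lift_fst _ _ _, hK.lift_snd _ _ _⟩
  have hα := alpha b₁ a₂ b₂ jG jQ h₂ sq₂ hK f hf1 hf2
  have hshear := WTa.shear_isPullback b₁ a₁ h₁
  have hcomm : (G₁ ◁ jN) ≫ f = (fst G₁ N₁ * (snd G₁ N₁ ≫ a₁)) ≫ k := by
    apply hK.hom_ext
    · have e1 : ((G₁ ◁ jN) ≫ f) ≫ pK₁ = (fst G₁ N₁ ≫ jG) * (snd G₁ N₁ ≫ jN ≫ a₂) := by
        rw [Category.assoc, hf1, MonObj.comp_mul, whiskerLeft_fst_assoc, whiskerLeft_snd_assoc]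
      have e2 : ((fst G₁ N₁ * (snd G₁ N₁ ≫ a₁)) ≫ k) ≫ pK₁ =
          (fst G₁ N₁ ≫ jG) * (snd G₁ N₁ ≫ jN ≫ a₂) := by
        rw [Category.assoc, hk1, MonObj.mul_comp, Category.assoc, sq₁]
      rw [e1, e2]
    · have e1 : ((G₁ ◁ jN) ≫ f) ≫ pK₂ = fst G₁ N₁ ≫ b₁ := by
        rw [Category.assoc, hf2, whiskerLeft_fst_assoc]
      have e2 : ((fst G₁ N₁ * (snd G₁ N₁ ≫ a₁)) ≫ k) ≫ pK₂ = fst G₁ N₁ ≫ b₁ := by
        rw [Category.assoc, hk2, MonObj.mul_comp, ker_comp a₁ b₁ h₁, _root_.mul_one]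
      rw [e1, e2]
  have hs : IsPullback ((G₁ ◁ jN) ≫ fst G₁ N₂) (fst G₁ N₁ * (snd G₁ N₁ ≫ a₁)) b₁ (k ≫ pK₂) := by
    rw [hk2, whiskerLeft_fst]
    exact hshear
  have hβ : IsPullback (G₁ ◁ jN) (fst G₁ N₁ * (snd G₁ N₁ ≫ a₁)) f k :=
    IsPullback.of_right hs hcomm hα
  -- to schemes
  have hβL : IsPullback (G₁ ◁ jN).left (fst G₁ N₁ * (snd G₁ N₁ ≫ a₁)).left f.left k.left :=
    hβ.map (Over.forget S)
  have hαL : IsPullback (fst G₁ N₂).left f.left b₁.left pK₂.left := hα.map (Over.forget S)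
  have hKL : IsPullback pK₁.left pK₂.left b₂.left jQ.left := hK.map (Over.forget S)
  have hWL : IsPullback (G₁ ◁ jN).left (snd G₁ N₁).left (snd G₁ N₂).left jN.left :=
    (AbB.isPullback_whiskerLeft_snd jN G₁).map (Over.forget S)
  haveI : QuasiCompact b₁.left := TbB.quasiCompact_left_of b₁
  have hfQ : Groth.Agent.H3.FpqcLocal.Qfpqc f.left :=
    ⟨⟨MorphismProperty.of_isPullback (P := @Surjective) hαL hb₁.2,
      MorphismProperty.of_isPullback (P := @Flat) hαL hb₁.1⟩,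
      MorphismProperty.of_isPullback (P := @QuasiCompact) hαL inferInstance⟩
  have hW : IsClosedImmersion (G₁ ◁ jN).left :=
    MorphismProperty.of_isPullback (P := @IsClosedImmersion) hWL.flip hjN
  haveI := Groth.Agent.H3.FpqcLocal.isClosedImmersion_descendsAlong_fpqc.{u}
  haveI hk : IsClosedImmersion k.left :=
    MorphismProperty.of_isPullback_of_descendsAlong (P := @IsClosedImmersion)
      (Q := Groth.Agent.H3.FpqcLocal.Qfpqc) hβL hfQ hW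
  haveI hp : IsClosedImmersion pK₁.left :=
    MorphismProperty.of_isPullback (P := @IsClosedImmersion) hKL.flip hjQ
  have e : jG.left = k.left ≫ pK₁.left := congrArg CommaMorphism.left hk1.symm
  rw [e]
  infer_instance

end Groth.Agent.H4.SxA
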