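import Mathlib
import Groth.Agent.Lib.Helper6.SymBC
import Groth.Agent.Lib.Helper6.SymU
import Groth.Agent.H4.ProjBC2
import Groth.Agent.H4.PBundle
import Groth.Agent.H4.PBundle2

set_option autoImplicit false
set_option linter.unusedSectionVars false
set_option linter.unusedVariables false
set_option linter.style.haveILetI false
universe u
open CategoryTheory CategoryTheory.Limits AlgebraicGeometry TopologicalSpace Opposite
open scoped HomogeneousIdeal

namespace Groth.Agent.H4.SymPull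
noncomputable section

open Groth.Agent.LD.QC Groth.Agent.H6.PA Groth.Agent.H6.Sym Groth.Agent.H6 SymmetricAlgebra

variable {S S' : Scheme.{u}} (g : S' ⟶ S) (E : S.Modules)
  (B : RelSpec.QCAlg S') (j' : (Scheme.Modules.pullback g).obj E ⟶ B.toModule)

/-- the ring map `O(U) → B(g⁻¹U)`. -/
def pbStr (U : S.Opens) : Γ(S, U) →+* B.presheaf.obj (op (g ⁻¹ᵁ U)) :=
  (g.app U ≫ B.str.app (op (g ⁻¹ᵁ U))).hom

/-- the linear map `E(U) → B(g⁻¹U)`, `m ↦ j'(unit m)`. -/
def pbLin (U : S.Opens) :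
    letI := (pbStr g B U).toAlgebra
    Γ(E, U) →ₗ[Γ(S, U)] B.presheaf.obj (op (g ⁻¹ᵁ U)) :=
  letI := (pbStr g B U).toAlgebra
  { toFun := fun m => QA.sec j' (g ⁻¹ᵁ U) (unitSec g E U m)
    map_add' := fun m m' => by rw [unitSec_add, QA.sec_add]
    map_smul' := fun a m => by
      rw [unitSec_smul, QA.sec_smul, Algebra.smul_def]
      rfl }

/-- the ring map `Sym(E(U)) → B(g⁻¹U)`. -/
def pbLift (U : S.Opens) : symObj E U →+* B.presheaf.obj (op (g ⁻¹ᵁ U)) :=
  letI := (pbStr g B U).toAlgebra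
  (SymmetricAlgebra.lift (pbLin g E B j' U)).toRingHom

lemma pbLift_ι (U : S.Opens) (m : Γ(E, U)) :
    pbLift g E B j' U (ι _ _ m) = QA.sec j' (g ⁻¹ᵁ U) (unitSec g E U m) := by
  letI := (pbStr g B U).toAlgebra
  exact SymmetricAlgebra.lift_ι_apply (pbLin g E B j' U) m

lemma pbLift_algebraMap (U : S.Opens) (a : Γ(S, U)) :
    pbLift g E B j' U (algebraMap _ _ a) = (B.str.app (op (g ⁻¹ᵁ U))).hom ((g.app U).hom a) := by
  letI := (pbStr g B U).toAlgebra
  exact (SymmetricAlgebra.lift (pbLin g E B j' U)).commutes a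

/-- the map of presheaves of rings `Sym(E(-)) → g_* B`. -/
def pbPre : symPre E ⟶ g.base _* B.presheaf where
  app U := CommRingCat.ofHom (pbLift g E B j' U.unop)
  naturality {U V} i := by
    ext : 1
    apply ringHom_ext
    · intro a
      change pbLift g E B j' V.unop (symRes E i.unop.le (algebraMap _ _ a)) =
        (B.presheaf.map (homOfLE (g.preimage_mono i.unop.le)).op).hom
          (pbLift g E B j' U.unop (algebraMap _ _ a))
      rw [symRes_algebraMap, pbLift_algebraMap, pbLift_algebraMap, QA.str_res]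
      congr 1
      exact congr($(g.naturality i) a)
    · intro m
      change pbLift g E B j' V.unop (symRes E i.unop.le (ι _ _ m)) =
        (B.presheaf.map (homOfLE (g.preimage_mono i.unop.le)).op).hom
          (pbLift g E B j' U.unop (ι _ _ m))
      rw [symRes_ι, pbLift_ι, pbLift_ι, QA.sec_res j' (g.preimage_mono i.unop.le), unitSec_res]


section pull

variable [E.IsQuasicoherent] {A : RelSpec.QCAlg S} {j : E ⟶ A.toModule} (hA : RelSpec.IsSymAlg E A j)

include hA in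
lemma isIso_whisker_liftPre :
    IsIso ((Scheme.AffineZariskiSite.toOpensFunctor S).op.whiskerLeft (liftPre E A j)) := by
  haveI : ∀ U : (S.AffineZariskiSite)ᵒᵖ,
      IsIso (((Scheme.AffineZariskiSite.toOpensFunctor S).op.whiskerLeft (liftPre E A j)).app U) := by
    intro U
    exact (ConcreteCategory.isIso_iff_bijective _).mpr (liftSec_bijective hA U.unop.1 U.unop.2)
  exact NatIso.isIso_of_isIso_app _

/-- the affine-level natural transformation `A → g_* B`. -/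
def affNat : (Scheme.AffineZariskiSite.toOpensFunctor S).op ⋙ A.presheaf ⟶
    (Scheme.AffineZariskiSite.toOpensFunctor S).op ⋙ (g.base _* B.presheaf) :=
  haveI := isIso_whisker_liftPre E hA
  inv ((Scheme.AffineZariskiSite.toOpensFunctor S).op.whiskerLeft (liftPre E A j)) ≫
    (Scheme.AffineZariskiSite.toOpensFunctor S).op.whiskerLeft (pbPre g E B j')

/-- the map of presheaves of rings `Sym(E) → g_* Sym(g^* E)`. -/
def symPull : A.presheaf ⟶ g.base _* B.presheaf :=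
  Functor.IsCoverDense.restrictHomEquivHom (G := Scheme.AffineZariskiSite.toOpensFunctor S)
    (K := Opens.grothendieckTopology S) (ℱ := A.presheaf)
    (ℱ' := (⟨g.base _* B.presheaf, TopCat.Sheaf.pushforward_sheaf_of_sheaf _ B.isSheaf⟩ :
      TopCat.Sheaf CommRingCat.{u} S.carrier)) (affNat g E B j' hA)

lemma symPull_restrict :
    (Scheme.AffineZariskiSite.toOpensFunctor S).op.whiskerLeft (symPull g E B j' hA) =
      affNat g E B j' hA :=
  (Functor.IsCoverDense.restrictHomEquivHom (G := Scheme.AffineZariskiSite.toOpensFunctor S)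
    (K := Opens.grothendieckTopology S) (ℱ := A.presheaf)
    (ℱ' := (⟨g.base _* B.presheaf, TopCat.Sheaf.pushforward_sheaf_of_sheaf _ B.isSheaf⟩ :
      TopCat.Sheaf CommRingCat.{u} S.carrier))).symm_apply_apply _

lemma symPull_liftSec (U : S.Opens) (hU : IsAffineOpen U) (x : symObj E U) :
    ((symPull g E B j' hA).app (op U)).hom (liftSec E A j U x) = pbLift g E B j' U x := by
  haveI := isIso_whisker_liftPre E hA
  have h1 := NatTrans.congr_app (symPull_restrict g E B j' hA) (op ⟨U, hU⟩)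
  have h2 : ((Scheme.AffineZariskiSite.toOpensFunctor S).op.whiskerLeft (liftPre E A j)) ≫
      affNat g E B j' hA =
      (Scheme.AffineZariskiSite.toOpensFunctor S).op.whiskerLeft (pbPre g E B j') := by
    unfold affNat
    rw [IsIso.hom_inv_id_assoc]
  have h3 := NatTrans.congr_app h2 (op ⟨U, hU⟩)
  rw [NatTrans.comp_app, ← h1] at h3
  exact congr($h3 x)

end pull


section props

variable [E.IsQuasicoherent] {A : RelSpec.QCAlg S} {j : E ⟶ A.toModule} (hA : RelSpec.IsSymAlg E A j)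

lemma symPull_str_app (U : S.Opens) (hU : IsAffineOpen U) (a : Γ(S, U)) :
    ((symPull g E B j' hA).app (op U)).hom ((A.str.app (op U)).hom a) =
      (B.str.app (op (g ⁻¹ᵁ U))).hom ((g.app U).hom a) := by
  rw [← liftSec_algebraMap E A j U a, symPull_liftSec g E B j' hA U hU, pbLift_algebraMap]

lemma symPull_str :
    A.str ≫ symPull g E B j' hA =
      g.c ≫ (TopCat.Presheaf.pushforward CommRingCat.{u} g.base).map B.str := by
  apply (Functor.IsCoverDense.restrictHomEquivHom (G := Scheme.AffineZariskiSite.toOpensFunctor S)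
    (K := Opens.grothendieckTopology S) (ℱ := S.presheaf)
    (ℱ' := (⟨g.base _* B.presheaf, TopCat.Sheaf.pushforward_sheaf_of_sheaf _ B.isSheaf⟩ :
      TopCat.Sheaf CommRingCat.{u} S.carrier))).symm.injective
  ext U : 2
  ext a
  exact symPull_str_app g E B j' hA U.unop.1 U.unop.2 a

lemma symPull_sec_affine (U : S.Opens) (hU : IsAffineOpen U) (x : Γ(E, U)) :
    ((symPull g E B j' hA).app (op U)).hom (QA.sec j U x) =
      QA.sec j' (g ⁻¹ᵁ U) (unitSec g E U x) := by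
  rw [← liftSec_ι E A j U x, symPull_liftSec g E B j' hA U hU, pbLift_ι]

lemma symPull_sec (U : S.Opens) (x : Γ(E, U)) :
    ((symPull g E B j' hA).app (op U)).hom (QA.sec j U x) =
      QA.sec j' (g ⁻¹ᵁ U) (unitSec g E U x) := by
  refine TopCat.Sheaf.eq_of_locally_eq' ⟨B.presheaf, B.isSheaf⟩
    (fun V : {V : S.affineOpens // V.1 ≤ U} => g ⁻¹ᵁ V.1.1) (g ⁻¹ᵁ U)
    (fun V => homOfLE (g.preimage_mono V.2)) ?_ _ _ ?_
  · intro y hy
    obtain ⟨V, hV⟩ := Opens.mem_iSup.mp (le_iSup_affineOpens U hy)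
    exact Opens.mem_iSup.mpr ⟨V, hV⟩
  · intro V
    have hn := (symPull g E B j' hA).naturality (homOfLE V.2).op
    have h1 : (B.presheaf.map (homOfLE (g.preimage_mono V.2)).op).hom
        (((symPull g E B j' hA).app (op U)).hom (QA.sec j U x)) =
        ((symPull g E B j' hA).app (op V.1.1)).hom
          ((A.presheaf.map (homOfLE V.2).op).hom (QA.sec j U x)) := (congr($hn (QA.sec j U x))).symm
    show (B.presheaf.map (homOfLE (g.preimage_mono V.2)).op).hom _ =
      (B.presheaf.map (homOfLE (g.preimage_mono V.2)).op).hom _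
    rw [h1, QA.sec_res j V.2, symPull_sec_affine g E B j' hA V.1.1 V.1.2,
      QA.sec_res j' (g.preimage_mono V.2), unitSec_res]

end props

section graded
open Groth.Agent.H4.PBundle Groth.Agent.H4.PBundle2

variable [E.IsQuasicoherent] {𝒮 : RelProj.QCGrAlg S} {j : E ⟶ 𝒮.toModule}
  {𝒮' : RelProj.QCGrAlg S'} {k' : (Scheme.Modules.pullback g).obj E ⟶ 𝒮'.toModule}

lemma symPull_mem (hj : RelProj.IsGrSymAlg E 𝒮 j)
    (hk1 : ∀ (U' : S'.Opens) (hU' : IsAffineOpen U') (x : Γ((Scheme.Modules.pullback g).obj E, U')),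
      (k'.app U') x ∈ 𝒮'.deg U' hU' 1)
    (U : S.Opens) (hU : IsAffineOpen U) (U' : S'.Opens) (hU' : IsAffineOpen U')
    (hle : U' ≤ g ⁻¹ᵁ U) {d : ℕ} {x : 𝒮.presheaf.obj (op U)} (hx : x ∈ 𝒮.deg U hU d) :
    (𝒮'.presheaf.map (homOfLE hle).op).hom
      (((symPull g E 𝒮'.toQCAlg k' hj.1).app (op U)).hom x) ∈ 𝒮'.deg U' hU' d := by
  obtain ⟨y, rfl⟩ := (liftSec_bijective hj.1 U hU).2 x
  have hy : y ∈ gr Γ(S, U) Γ(E, U) d :=
    mem_of_map_mem (liftGr hj U hU) (liftSec_bijective hj.1 U hU).1 hx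
  rw [symPull_liftSec g E 𝒮'.toQCAlg k' hj.1 U hU]
  refine map_mem_of _ _ (𝒮'.deg U' hU')
    ((𝒮'.presheaf.map (homOfLE hle).op).hom.comp (pbLift g E 𝒮'.toQCAlg k' U)) ?_ ?_ hy
  · intro r
    show (𝒮'.presheaf.map (homOfLE hle).op).hom (pbLift g E 𝒮'.toQCAlg k' U (algebraMap _ _ r)) ∈ _
    rw [pbLift_algebraMap, QA.str_res]
    exact 𝒮'.str_mem U' hU' _
  · intro m
    show (𝒮'.presheaf.map (homOfLE hle).op).hom (pbLift g E 𝒮'.toQCAlg k' U (ι _ _ m)) ∈ _
    rw [pbLift_ι, QA.sec_res k' hle]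
    exact hk1 U' hU' _

end graded


open Groth.Agent.H4.ProjBC2 in
theorem main_S5731 {Y Y' P P' : Scheme.{u}} (ψ : Y' ⟶ Y) (E : Y.Modules)
    (hE : Coh.IsQCoh E) (𝒮 : RelProj.QCGrAlg Y) (j : E ⟶ 𝒮.toModule) (hj : RelProj.IsGrSymAlg E 𝒮 j)
    (p : P ⟶ Y)
    (chart : ∀ (U : Y.Opens) (hU : IsAffineOpen U), ((p ⁻¹ᵁ U : P.Opens) : Scheme.{u}) ≅ Proj (𝒮.deg U hU))
    (hP : RelProj.IsRelProj 𝒮 p chart)
    (𝒮' : RelProj.QCGrAlg Y') (j' : (Scheme.Modules.pullback ψ).obj E ⟶ 𝒮'.toModule)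
    (hj' : RelProj.IsGrSymAlg ((Scheme.Modules.pullback ψ).obj E) 𝒮' j') (p' : P' ⟶ Y')
    (chart' : ∀ (U' : Y'.Opens) (hU' : IsAffineOpen U'), ((p' ⁻¹ᵁ U' : P'.Opens) : Scheme.{u}) ≅ Proj (𝒮'.deg U' hU'))
    (hP' : RelProj.IsRelProj 𝒮' p' chart') :
    ∃ (uQ : RelProj.QGrHom ψ 𝒮 𝒮') (g : P' ⟶ P),
      (∀ (U : Y.Opens) (x : Γ(E, U)), (uQ.app U).hom (QA.sec j U x) =
        QA.sec j' (ψ ⁻¹ᵁ U) (unitSec ψ E U x)) ∧
      RelSpec.IsQBaseChange uQ.toQHom ∧
      RelProj.IsProjQMap uQ p chart p' chart' g ∧ IsPullback g p' p ψ := by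
  haveI : E.IsQuasicoherent := hE
  let uQ : RelProj.QGrHom ψ 𝒮 𝒮' := mkQGrHom ψ 𝒮 𝒮' (symPull ψ E 𝒮'.toQCAlg j' hj.1)
    (symPull_str ψ E 𝒮'.toQCAlg j' hj.1)
    (fun U hU U' hU' hle d x hx => symPull_mem ψ E hj hj'.2 U hU U' hU' hle hx)
  have hsec : ∀ (U : Y.Opens) (x : Γ(E, U)), (uQ.app U).hom (QA.sec j U x) =
      QA.sec j' (ψ ⁻¹ᵁ U) (unitSec ψ E U x) :=
    fun U x => symPull_sec ψ E 𝒮'.toQCAlg j' hj.1 U x
  have hbc : RelSpec.IsQBaseChange uQ.toQHom :=
    isQBaseChange_sym ψ hj.1 hj'.1 uQ.toQHom hsec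
  obtain ⟨⟨h, hh⟩, hpb⟩ := main_S12141 ψ 𝒮 𝒮' uQ hbc p chart hP p' chart' hP'
  exact ⟨uQ, h, hsec, hbc, hh, hpb h hh⟩

end
end Groth.Agent.H4.SymPull
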