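import Mathlib
import Groth.Prelude.Def_DRing2
import Groth.Prelude.Def_DRing4
import Groth.Agent.H4.TP1

/-!
# Short exact sequences of complexes with termwise flat cokernel and K-flatness (S6902)
-/

open CategoryTheory Category Limits MonoidalCategory DirectSum

universe u

namespace Groth.Agent.H4.TC12

open Groth.Agent.H4.TC4 Groth.Agent.H4.TP1 DRing

variable {R : Type u} [CommRing R]

section DF

variable {ι : Type*} [DecidableEq ι] {M N P : ι → Type*}
  [∀ i, AddCommGroup (M i)] [∀ i, Module R (M i)]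
  [∀ i, AddCommGroup (N i)] [∀ i, Module R (N i)]
  [∀ i, AddCommGroup (P i)] [∀ i, Module R (P i)]

lemma mapRange_exact (f : ∀ i, M i →ₗ[R] N i) (g : ∀ i, N i →ₗ[R] P i)
    (h : ∀ i, Function.Exact (f i) (g i)) :
    Function.Exact (DFinsupp.mapRange.linearMap f) (DFinsupp.mapRange.linearMap g) := by
  intro y
  constructor
  · intro hy
    have hy' : ∀ i, g i (y i) = 0 := fun i => by
      have := DFunLike.congr_fun hy i
      simpa using this
    choose x hx using fun i => (h i (y i)).1 (hy' i)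
    classical
    refine ⟨DFinsupp.mk y.support (fun i => x i.1), ?_⟩
    ext i
    rw [DFinsupp.mapRange.linearMap_apply, DFinsupp.mapRange_apply]
    by_cases hi : i ∈ y.support
    · rw [DFinsupp.mk_of_mem hi, hx]
    · rw [DFinsupp.mk_of_notMem hi, map_zero]
      rw [DFinsupp.notMem_support_iff] at hi
      exact hi.symm
  · rintro ⟨x, rfl⟩
    ext i
    simp only [DFinsupp.mapRange.linearMap_apply, DFinsupp.mapRange_apply, DFinsupp.zero_apply]
    exact (h i _).2 ⟨x i, rfl⟩

end DF

section Nat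

variable (L : Cx R)

open Classical in
lemma ι_tensorXIso_hom (K : Cx R) (p q n : ℤ) (h : p + q = n) :
    HomologicalComplex.ιTensorObj L K p q n h ≫ (tensorXIso L K n).hom =
      ModuleCat.ofHom (DirectSum.lof R (Idx n) (fun i : Idx n => summand L K n i) ⟨(p, q), h⟩) :=
  ModuleCat.ι_coprodIsoDirectSum_hom (fun i : Idx n => summand L K n i) ⟨(p, q), h⟩

open Classical in
/-- the degree `n` part of `L ◁ f` is the direct sum of the maps `L^p ◁ f^q`. -/
lemma tensorXIso_naturality {K₁ K₂ : Cx R} (f : K₁ ⟶ K₂) (n : ℤ) :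
    (L ◁ f).f n ≫ (tensorXIso L K₂ n).hom = (tensorXIso L K₁ n).hom ≫
      ModuleCat.ofHom (DFinsupp.mapRange.linearMap
        (fun i : Idx n => (L.X i.1.1 ◁ f.f i.1.2).hom)) := by
  refine HomologicalComplex.mapBifunctor.hom_ext (fun p q h => ?_)
  have h1 : HomologicalComplex.ιTensorObj L K₁ p q n h ≫ (L ◁ f).f n =
      (L.X p ◁ f.f q) ≫ HomologicalComplex.ιTensorObj L K₂ p q n h := by
    have := HomologicalComplex.ι_mapBifunctorMap (𝟙 L) f
      (curriedTensor (ModuleCat.{u} R)) (ComplexShape.up ℤ) p q n h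
    rw [HomologicalComplex.id_f, CategoryTheory.Functor.map_id, NatTrans.id_app, id_comp] at this
    exact this
  have h2 := ι_tensorXIso_hom L K₁ p q n h
  have h3 := ι_tensorXIso_hom L K₂ p q n h
  erw [reassoc_of% h1, h3, reassoc_of% h2]
  refine ModuleCat.hom_ext (LinearMap.ext fun x => ?_)
  change DirectSum.lof R (Idx n) (fun i : Idx n => summand L K₂ n i) ⟨(p, q), h⟩
      ((L.X p ◁ f.f q).hom x) =
    DFinsupp.mapRange.linearMap (fun i : Idx n => (L.X i.1.1 ◁ f.f i.1.2).hom)
      (DirectSum.lof R (Idx n) (fun i : Idx n => summand L K₁ n i) ⟨(p, q), h⟩ x)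
  exact (DFinsupp.mapRange_single (f := fun (i : Idx n) =>
    ((L.X i.1.1 ◁ f.f i.1.2).hom : summand L K₁ n i → summand L K₂ n i))
    (hf := fun i => map_zero _) (i := ⟨(p, q), h⟩) (b := x)).symm

lemma whiskerLeft_hom_eq (X : ModuleCat.{u} R) {M N : ModuleCat.{u} R} (f : M ⟶ N) :
    (X ◁ f).hom = f.hom.lTensor X := rfl

open Classical in
/-- tensoring a short exact sequence of complexes with termwise flat cokernel is short exact. -/
theorem shortExact_tensor (S : ShortComplex (Cx R)) (hS : S.ShortExact)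
    (h3 : ∀ i, Module.Flat R (S.X₃.X i)) : (S.map (tensorLeft L)).ShortExact := by
  apply HomologicalComplex.shortExact_of_degreewise_shortExact
  intro n
  -- pointwise facts
  have hq : ∀ q : ℤ, (S.map (HomologicalComplex.eval _ _ q)).ShortExact :=
    fun q => hS.map_of_exact (HomologicalComplex.eval _ _ q)
  have hinj : ∀ q : ℤ, Function.Injective (S.f.f q).hom := fun q => by
    have := (hq q).mono_f
    exact (ModuleCat.mono_iff_injective _).1 this
  have hsurj : ∀ q : ℤ, Function.Surjective (S.g.f q).hom := fun q => by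
    have := (hq q).epi_g
    exact (ModuleCat.epi_iff_surjective _).1 this
  have hex : ∀ q : ℤ, Function.Exact (S.f.f q).hom (S.g.f q).hom := fun q =>
    (ShortComplex.ShortExact.moduleCat_exact_iff_function_exact _).1 (hq q).exact
  -- the direct sum short complex
  let D : ShortComplex (ModuleCat.{u} R) := ShortComplex.mk
    (ModuleCat.ofHom (DFinsupp.mapRange.linearMap
        (fun i : Idx n => (L.X i.1.1 ◁ S.f.f i.1.2).hom)))
    (ModuleCat.ofHom (DFinsupp.mapRange.linearMap
        (fun i : Idx n => (L.X i.1.1 ◁ S.g.f i.1.2).hom))) (by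
      refine ModuleCat.hom_ext (LinearMap.ext fun x => ?_)
      ext i
      change (L.X i.1.1 ◁ S.g.f i.1.2).hom ((L.X i.1.1 ◁ S.f.f i.1.2).hom (x i)) = 0
      rw [← LinearMap.comp_apply, ← ModuleCat.hom_comp, ← MonoidalCategory.whiskerLeft_comp,
        ← HomologicalComplex.comp_f, S.zero, HomologicalComplex.zero_f, whiskerLeft_hom_eq]
      change (0 : S.X₁.X i.1.2 →ₗ[R] S.X₃.X i.1.2).lTensor (L.X i.1.1) (x i) = 0
      rw [LinearMap.lTensor_zero]
      rfl)
  have hD : D.ShortExact := by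
    refine ShortComplex.ShortExact.mk' ?_ ?_ ?_
    · rw [ShortComplex.ShortExact.moduleCat_exact_iff_function_exact]
      refine mapRange_exact _ _ (fun i => ?_)
      rw [whiskerLeft_hom_eq, whiskerLeft_hom_eq]
      exact lTensor_exact _ (hex i.1.2) (hsurj i.1.2)
    · rw [ModuleCat.mono_iff_injective]
      change Function.Injective (DFinsupp.mapRange
        (fun i : Idx n => ((L.X i.1.1 ◁ S.f.f i.1.2).hom : _ → _)) (fun i => map_zero _))
      rw [DFinsupp.mapRange_injective]
      intro i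
      rw [whiskerLeft_hom_eq]
      haveI := h3 i.1.2
      exact LinearMap.lTensor_injective_of_exact_of_flat (S.g.f i.1.2).hom (hsurj i.1.2)
        (S.f.f i.1.2).hom (hinj i.1.2) (hex i.1.2) (L.X i.1.1)
    · rw [ModuleCat.epi_iff_surjective]
      change Function.Surjective (DFinsupp.mapRange
        (fun i : Idx n => ((L.X i.1.1 ◁ S.g.f i.1.2).hom : _ → _)) (fun i => map_zero _))
      rw [DFinsupp.mapRange_surjective]
      intro i
      rw [whiskerLeft_hom_eq]
      exact LinearMap.lTensor_surjective _ (hsurj i.1.2)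
  refine ShortComplex.shortExact_of_iso (ShortComplex.isoMk (tensorXIso L S.X₁ n)
    (tensorXIso L S.X₂ n) (tensorXIso L S.X₃ n) ?_ ?_).symm hD
  · exact (tensorXIso_naturality L S.f n).symm
  · exact (tensorXIso_naturality L S.g n).symm

end Nat

section TwoOfThree

variable (T : ShortComplex (Cx R)) (hT : T.ShortExact)

include hT

lemma acyc₃_of_shortExact (h₁ : Acyc T.X₁) (h₂ : Acyc T.X₂) : Acyc T.X₃ := by
  intro i
  have ex := hT.homology_exact₃ i (i + 1) (by simp)
  exact ex.isZero_of_both_zeros ((h₂ i).eq_of_src _ _) ((h₁ (i + 1)).eq_of_tgt _ _)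

lemma acyc₂_of_shortExact (h₁ : Acyc T.X₁) (h₃ : Acyc T.X₃) : Acyc T.X₂ := by
  intro i
  have ex := hT.homology_exact₂ i
  exact ex.isZero_of_both_zeros ((h₁ i).eq_of_src _ _) ((h₃ i).eq_of_tgt _ _)

lemma acyc₁_of_shortExact (h₂ : Acyc T.X₂) (h₃ : Acyc T.X₃) : Acyc T.X₁ := by
  intro i
  have ex := hT.homology_exact₁ (i - 1) i (by simp)
  exact ex.isZero_of_both_zeros ((h₃ (i - 1)).eq_of_src _ _) ((h₂ i).eq_of_tgt _ _)

end TwoOfThree

/-- S6902 -/
theorem kflat_two_out_of_three (S : ShortComplex (Cx R)) (hS : S.ShortExact)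
    (h3 : ∀ i, Module.Flat R (S.X₃.X i)) :
    (KFlat S.X₁ → KFlat S.X₂ → KFlat S.X₃) ∧ (KFlat S.X₁ → KFlat S.X₃ → KFlat S.X₂) ∧
      (KFlat S.X₂ → KFlat S.X₃ → KFlat S.X₁) := by
  refine ⟨fun h₁ h₂ L hL => ?_, fun h₁ h₃ L hL => ?_, fun h₂ h₃ L hL => ?_⟩
  · exact acyc₃_of_shortExact _ (shortExact_tensor L S hS h3) (h₁ L hL) (h₂ L hL)
  · exact acyc₂_of_shortExact _ (shortExact_tensor L S hS h3) (h₁ L hL) (h₃ L hL)
  · exact acyc₁_of_shortExact _ (shortExact_tensor L S hS h3) (h₂ L hL) (h₃ L hL)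

end Groth.Agent.H4.TC12
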