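import Mathlib
import Groth.Prelude.Def_DRing2
import Groth.Prelude.Def_DRing4
import Groth.Agent.H4.TA1
import Groth.Agent.H4.TC12
import Groth.Agent.H4.LK4

/-!
# Tor amplitude `≥ a` and K-flat representatives (S12093)
-/

open CategoryTheory Category Limits MonoidalCategory

universe u

namespace Groth.Agent.H4.TA5

open Groth.Agent.H4.TC4 Groth.Agent.H4.TC5 Groth.Agent.H4.TC6 Groth.Agent.H4.TC12
open Groth.Agent.H4.LK2 Groth.Agent.H4.LK4 Groth.Agent.H4.SubCx
open Groth.Agent.H4.TP1 Groth.Agent.H4.TA1 DRing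

variable {R : Type u} [CommRing R]

section Trunc

variable (T : Cx R) (a : ℤ)

/-- the submodules defining the kernel of `T → τ_{≥ a} T`. -/
def trS (i : ℤ) : Submodule R (T.X i) :=
  if i < a then ⊤ else if i = a then LinearMap.range (T.d (i - 1) i).hom else ⊥

lemma trS_of_lt {i : ℤ} (h : i < a) : trS T a i = ⊤ := by
  rw [trS, if_pos h]

lemma trS_self : trS T a a = LinearMap.range (T.d (a - 1) a).hom := by
  rw [trS, if_neg (lt_irrefl a), if_pos rfl]

lemma trS_of_gt {i : ℤ} (h : a < i) : trS T a i = ⊥ := by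
  rw [trS, if_neg (by omega), if_neg (by omega)]

lemma trS_stable (i j : ℤ) (x : T.X i) (hx : x ∈ trS T a i) : (T.d i j).hom x ∈ trS T a j := by
  by_cases hij : i + 1 = j
  · subst hij
    rcases lt_trichotomy (i + 1) a with h | h | h
    · rw [trS_of_lt T a h]
      exact Submodule.mem_top
    · subst h
      rw [trS_self]
      have : i + 1 - 1 = i := by omega
      rw [this]
      exact ⟨x, rfl⟩
    · rw [trS_of_gt T a h, Submodule.mem_bot]
      by_cases hia : i = a
      · subst hia
        rw [trS_self] at hx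
        obtain ⟨y, rfl⟩ := hx
        rw [← ModuleCat.comp_apply, T.d_comp_d]
        rfl
      · rw [trS_of_gt T a (by omega), Submodule.mem_bot] at hx
        rw [hx, map_zero]
  · rw [T.shape i j hij]
    exact Submodule.zero_mem _

/-- the kernel of `T → τ_{≥ a} T`. -/
noncomputable abbrev trK : Cx R := sub T (trS T a) (trS_stable T a)

/-- the canonical truncation `τ_{≥ a} T`. -/
noncomputable abbrev trQ : Cx R := quot T (trS T a) (trS_stable T a)

/-- the projection. -/
noncomputable abbrev trπ : T ⟶ trQ T a := Groth.Agent.H4.SubCx.π T (trS T a) (trS_stable T a)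

lemma isZero_trQ_X {i : ℤ} (h : i < a) : IsZero ((trQ T a).X i) := by
  change IsZero (ModuleCat.of R (T.X i ⧸ trS T a i))
  haveI : Subsingleton (T.X i ⧸ trS T a i) := by
    rw [trS_of_lt T a h]
    exact Submodule.Quotient.subsingleton_iff.2 rfl
  exact ModuleCat.isZero_of_subsingleton _

lemma isZero_trK_X {i : ℤ} (h : a < i) : IsZero ((trK T a).X i) := by
  change IsZero (ModuleCat.of R (trS T a i))
  haveI : Subsingleton (trS T a i) := by
    rw [trS_of_gt T a h]
    infer_instance
  exact ModuleCat.isZero_of_subsingleton _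

section Flat

open Groth.Agent.H4.FlatAcyc Groth.Agent.H4.TorAmp Groth.Agent.H4.LDer

variable (hfl : ∀ i, Module.Flat R (T.X i))
  (hex : ∀ (M : ModuleCat.{u} R) (i : ℤ), i < a → (DRing.tensorCx T M).ExactAt i)

include hex in
lemma exactAt_of_lt {i : ℤ} (h : i < a) : T.ExactAt i :=
  (exactAt_iff_of_iso (GCUnitIso (A := R) T) i).1 (hex (𝟙_ (ModuleCat.{u} R)) i h)

include hfl hex in
lemma flat_coker_a : Module.Flat R (T.X a ⧸ LinearMap.range (T.d (a - 1) a).hom) := by
  haveI := hfl a
  refine flat_coker (T.d (a - 2) (a - 1)).hom (T.d (a - 1) a).hom ?_ ?_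
  · rw [← ModuleCat.hom_comp, T.d_comp_d]
    rfl
  · intro M _ _
    exact exact_d_of_exactAt _ (a - 2) (a - 1) a (by omega) (by omega)
      (hex (ModuleCat.of R M) (a - 1) (by omega))

include hfl hex in
lemma flat_trQ_X (i : ℤ) : Module.Flat R ((trQ T a).X i) := by
  change Module.Flat R (T.X i ⧸ trS T a i)
  rcases lt_trichotomy i a with h | h | h
  · haveI : Subsingleton (T.X i ⧸ trS T a i) := by
      rw [trS_of_lt T a h]
      exact Submodule.Quotient.subsingleton_iff.2 rfl
    infer_instance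
  · subst h
    rw [trS_self]
    exact flat_coker_a T i hfl hex
  · rw [trS_of_gt T a h]
    haveI := hfl i
    exact Module.Flat.of_linearEquiv (Submodule.quotEquivOfEqBot ⊥ rfl)

include hfl hex in
lemma flat_trK_X (i : ℤ) : Module.Flat R ((trK T a).X i) := by
  change Module.Flat R (trS T a i)
  rcases lt_trichotomy i a with h | h | h
  · rw [trS_of_lt T a h]
    haveI := hfl i
    exact Module.Flat.of_linearEquiv Submodule.topEquiv
  · subst h
    rw [trS_self]
    haveI := hfl i
    haveI := flat_coker_a T i hfl hex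
    refine (Groth.Agent.H2.CAlgA.flat_of_ses (LinearMap.range (T.d (i - 1) i).hom).subtype
      (LinearMap.range (T.d (i - 1) i).hom).mkQ (Submodule.subtype_injective _) ?_
      (Submodule.mkQ_surjective _)).2 inferInstance
    intro y
    rw [Submodule.mkQ_apply, Submodule.Quotient.mk_eq_zero]
    constructor
    · intro hy
      exact ⟨⟨y, hy⟩, rfl⟩
    · rintro ⟨z, rfl⟩
      exact z.2
  · rw [trS_of_gt T a h]
    infer_instance

include hex in
lemma acyc_trK : Acyc (trK T a) := by
  rw [acyc_iff_exactAt]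
  intro i
  rw [HomologicalComplex.exactAt_iff' _ (i - 1) i (i + 1) (by simp) (by simp),
    ShortComplex.moduleCat_exact_iff]
  intro (x : trS T a i) hx
  have hx' : (T.d i (i + 1)).hom x.1 = 0 := congrArg Subtype.val hx
  rcases lt_trichotomy i a with h | h | h
  · -- `T` is exact at `i`
    have hTi := exact_d_of_exactAt T (i - 1) i (i + 1) (by omega) (by omega)
      (exactAt_of_lt T a hex h)
    obtain ⟨y, hy⟩ := (hTi x.1).1 hx'
    have hy' : y ∈ trS T a (i - 1) := by
      rw [trS_of_lt T a (by omega)]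
      exact Submodule.mem_top
    exact ⟨⟨y, hy'⟩, Subtype.ext hy⟩
  · subst h
    have hx2 : x.1 ∈ LinearMap.range (T.d (i - 1) i).hom := (trS_self T i) ▸ x.2
    obtain ⟨y, hy⟩ := hx2
    have hy' : y ∈ trS T i (i - 1) := by
      rw [trS_of_lt T i (by omega)]
      exact Submodule.mem_top
    exact ⟨⟨y, hy'⟩, Subtype.ext hy⟩
  · have hx2 : x.1 ∈ (⊥ : Submodule R (T.X i)) := (trS_of_gt T a h) ▸ x.2
    rw [Submodule.mem_bot] at hx2
    refine ⟨0, ?_⟩
    rw [map_zero]
    exact (Subtype.ext hx2).symm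

end Flat

end Trunc

section QI

/-- in a short exact sequence of complexes with acyclic kernel the projection is a
quasi-isomorphism. -/
lemma quasiIso_g_of_acyc (S : ShortComplex (Cx R)) (hS : S.ShortExact) (h₁ : Acyc S.X₁) :
    QuasiIso S.g := by
  rw [quasiIso_iff]
  intro i
  rw [quasiIsoAt_iff_isIso_homologyMap]
  haveI : Mono (HomologicalComplex.homologyMap S.g i) :=
    (hS.homology_exact₂ i).mono_g ((h₁ i).eq_of_src _ _)
  haveI : Epi (HomologicalComplex.homologyMap S.g i) :=
    (hS.homology_exact₃ i (i + 1) (by simp)).epi_f ((h₁ (i + 1)).eq_of_tgt _ _)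
  exact isIso_of_mono_of_epi _

end QI

section Main

variable (T : Cx R) (a : ℤ) (hfl : ∀ i, Module.Flat R (T.X i))
  (hex : ∀ (M : ModuleCat.{u} R) (i : ℤ), i < a → (DRing.tensorCx T M).ExactAt i)

include hex in
lemma quasiIso_trπ : QuasiIso (trπ T a) :=
  quasiIso_g_of_acyc (sc T (trS T a) (trS_stable T a)) (Groth.Agent.H4.SubCx.shortExact _ _ _)
    (acyc_trK T a hex)

include hfl hex in
lemma kflat_trQ (hT : KFlat T) : KFlat (trQ T a) := by
  have hK : KFlat (trK T a) := kflat_of_boundedAbove (P := trK T a) a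
    (fun i hi => isZero_trK_X T a hi) (flat_trK_X T a hfl hex)
  exact (kflat_two_out_of_three (sc T (trS T a) (trS_stable T a))
    (Groth.Agent.H4.SubCx.shortExact _ _ _) (flat_trQ_X T a hfl hex)).1 hK hT

end Main

section Final

attribute [local instance] HasDerivedCategory.standard

open Groth.Agent.H4.PC Groth.Agent.H4.TC8

variable (K : Cx R) [DRing.HasLTensorCx R K]

lemma isZero_iff_subsingleton (X : ModuleCat.{u} R) : IsZero X ↔ Subsingleton X :=
  ⟨fun h => ModuleCat.subsingleton_of_isZero h, fun _ => ModuleCat.isZero_of_subsingleton X⟩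

/-- `H^i(M ⊗^L K) = 0` in terms of a K-projective resolution of `M[0]`. -/
lemma subsingleton_HD_iff (M : ModuleCat.{u} R) (N : Cx R) [N.IsKProjective] (π : N ⟶ sg M)
    (hπ : QuasiIso π) (i : ℤ) :
    Subsingleton (Dual.HD R ((DRing.LTensorCx R K).obj
      (DRing.toD ((CochainComplex.singleFunctor (ModuleCat.{u} R) 0).obj M))) i) ↔
      (N ⊗ K).ExactAt i := by
  haveI := hπ
  haveI := isIso_counit_app_of_isKProjective K N
  let e : (DRing.LTensorCx R K).obj (DRing.toD (sg M)) ≅ DRing.toD (N ⊗ K) :=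
    (DRing.LTensorCx R K).mapIso (asIso (DerivedCategory.Q.map π)).symm ≪≫
      asIso ((counit K).app N)
  change Subsingleton ((DerivedCategory.homologyFunctor (ModuleCat.{u} R) i).obj
    ((DRing.LTensorCx R K).obj (DRing.toD (sg M)))) ↔ _
  rw [← isZero_iff_subsingleton, HomologicalComplex.exactAt_iff_isZero_homology]
  exact ⟨fun h => (h.of_iso ((DerivedCategory.homologyFunctor (ModuleCat.{u} R) i).mapIso
      e.symm)).of_iso (homologyToDIso (N ⊗ K) i).symm,
    fun h => (h.of_iso (homologyToDIso (N ⊗ K) i)).of_iso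
      ((DerivedCategory.homologyFunctor (ModuleCat.{u} R) i).mapIso e)⟩

/-- S12093 -/
theorem torAmp_ge_iff (a : ℤ) :
    (∀ (M : ModuleCat.{u} R) (i : ℤ), i < a →
        Subsingleton (Dual.HD R ((DRing.LTensorCx R K).obj
          (DRing.toD ((CochainComplex.singleFunctor (ModuleCat.{u} R) 0).obj M))) i)) ↔
      ∃ E : DRing.Cx R, (∀ L : DRing.Cx R, (∀ i : ℤ, IsZero (L.homology i)) →
          ∀ i : ℤ, IsZero ((L ⊗ E).homology i)) ∧
        DRing.TermwiseFlat E ∧ (∀ i : ℤ, i < a → IsZero (E.X i)) ∧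
        Nonempty (DRing.toD E ≅ DRing.toD K) := by
  obtain ⟨T, t, hT, hTfree, hTf, ht⟩ := exists_kproj_free_kflat K
  haveI := hT
  haveI := ht
  constructor
  · intro h
    have hTfl : ∀ i, Module.Flat R (T.X i) := fun i => by
      haveI := hTfree i
      infer_instance
    -- the hypothesis in terms of `T`
    have hex : ∀ (M : ModuleCat.{u} R) (i : ℤ), i < a → (DRing.tensorCx T M).ExactAt i := by
      intro M i hi
      obtain ⟨N, π, hN, hNf, hπ, -⟩ := exists_kflat_resolution_sg M
      haveI := hN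
      have h1 := (subsingleton_HD_iff K M N π hπ i).1 (h M i hi)
      have h2 : (N ⊗ T).ExactAt i :=
        (exactAt_iff_of_quasiIso _ (quasiIso_whiskerLeft_of_kflat hNf t ht) i).2 h1
      have h3 : (sg M ⊗ T).ExactAt i :=
        (exactAt_iff_of_quasiIso _ (quasiIso_whiskerRight hTf π hπ) i).1 h2
      have h4 : (T ⊗ sg M).ExactAt i := (exactAt_iff_of_iso (DTen.braidCx T (sg M)) i).2 h3
      exact (exactAt_tensor_sg_iff T M i).1 h4
    haveI hq := quasiIso_trπ T a hex
    refine ⟨trQ T a, kflat_trQ T a hTfl hex hTf, flat_trQ_X T a hTfl hex,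
      fun i hi => isZero_trQ_X T a hi, ⟨?_⟩⟩
    exact (asIso (DerivedCategory.Q.map (trπ T a))).symm ≪≫ asIso (DerivedCategory.Q.map t)
  · rintro ⟨E, hEk, hEfl, hEa, ⟨e⟩⟩ M i hi
    obtain ⟨N, π, hN, hNf, hπ, -⟩ := exists_kflat_resolution_sg M
    haveI := hN
    rw [subsingleton_HD_iff K M N π hπ i]
    obtain ⟨g, hg⟩ := Groth.Agent.H3.PerfAux.exists_map_of_isKProjective T E
      (DerivedCategory.Q.map t ≫ e.inv)
    have hgq : QuasiIso g := by
      rw [← DerivedCategory.isIso_Q_map_iff_quasiIso, hg]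
      infer_instance
    have h1 : (sg M ⊗ E).ExactAt i := by
      apply exactAt_of_isZero_X
      exact isZero_tensor_X_of_lt (sg M) E i 0 a
        (fun j hj => isZero_sg_X M j (by omega)) hEa (by omega)
    have h2 : (N ⊗ E).ExactAt i :=
      (exactAt_iff_of_quasiIso _ (quasiIso_whiskerRight hEk π hπ) i).2 h1
    have h3 : (N ⊗ T).ExactAt i :=
      (exactAt_iff_of_quasiIso _ (quasiIso_whiskerLeft_of_kflat hNf g hgq) i).2 h2
    exact (exactAt_iff_of_quasiIso _ (quasiIso_whiskerLeft_of_kflat hNf t ht) i).1 h3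

end Final

end Groth.Agent.H4.TA5
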