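import Mathlib

set_option autoImplicit false
open CategoryTheory Category Limits HomologicalComplex CochainComplex

namespace Groth.Agent.H4.TEx1

section general

variable {C₁ C₂ D : Type*} [Category C₁] [Category C₂] [Category D]
  [Preadditive C₁] [Preadditive C₂] [Preadditive D]
  (F : C₁ ⥤ C₂ ⥤ D) [F.Additive] [∀ X₁, (F.obj X₁).Additive]

lemma isZero_obj_obj_of_isZero {Z : C₁} (hZ : IsZero Z) (Y : C₂) : IsZero ((F.obj Z).obj Y) := by
  rw [IsZero.iff_id_eq_zero]
  have h1 : 𝟙 ((F.obj Z).obj Y) = (F.map (𝟙 Z)).app Y := by simp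
  rw [h1, hZ.eq_of_src (𝟙 Z) 0, F.map_zero]
  rfl

variable (K₁ : CochainComplex C₁ ℤ) (K₂ : CochainComplex C₂ ℤ)
  [CochainComplex.HasMapBifunctor K₁ K₂ F]

/-- If `K₁` is concentrated in degree `0`, the inclusion of the `(0, q)` summand is an iso. -/
lemma isIso_ι_of_concentrated₁ (hK₁ : ∀ p, p ≠ 0 → IsZero (K₁.X p)) (q n : ℤ)
    (h : 0 + q = n) : IsIso (CochainComplex.ιMapBifunctor K₁ K₂ F 0 q n h) := by
  refine ⟨mapBifunctorDesc (fun p' q' h' => if hp : p' = 0 then
    eqToHom (by
      subst hp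
      obtain rfl : q' = q := by
        change 0 + q' = n at h'
        omega
      rfl) else 0), ?_, ?_⟩
  · rw [ι_mapBifunctorDesc]
    simp
  · refine mapBifunctor.hom_ext (fun p' q' h' => ?_)
    rw [ι_mapBifunctorDesc_assoc]
    by_cases hp : p' = 0
    · subst hp
      obtain rfl : q' = q := by
        change 0 + q' = n at h'
        omega
      simp
    · rw [dif_neg hp, zero_comp]
      exact (isZero_obj_obj_of_isZero F (hK₁ p' hp) _).eq_of_src _ _

/-- If `K₁` is concentrated in degree `0`, the differential on the `(0, q)` summand is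
induced by the differential of `K₂`. -/
lemma ι_d_of_concentrated₁ (hK₁ : ∀ p, p ≠ 0 → IsZero (K₁.X p)) (q n q' n' : ℤ)
    (h : 0 + q = n) (hq : q + 1 = q') (hn : n + 1 = n') :
    CochainComplex.ιMapBifunctor K₁ K₂ F 0 q n h ≫ (CochainComplex.mapBifunctor K₁ K₂ F).d n n' =
      (F.obj (K₁.X 0)).map (K₂.d q q') ≫
        CochainComplex.ιMapBifunctor K₁ K₂ F 0 q' n' (by omega) := by
  subst hq hn
  rw [mapBifunctor.d_eq, Preadditive.comp_add, mapBifunctor.ι_D₁, mapBifunctor.ι_D₂]
  rw [mapBifunctor.d₁_eq K₁ K₂ F (.up ℤ) (show (ComplexShape.up ℤ).Rel 0 (0 + 1) by simp) q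
      (n + 1) (by simp; omega),
    mapBifunctor.d₂_eq K₁ K₂ F (.up ℤ) 0 (show (ComplexShape.up ℤ).Rel q (q + 1) by simp)
      (n + 1) (by simp; omega)]
  have hz : K₁.d 0 (0 + 1) = 0 := (hK₁ (0 + 1) (by omega)).eq_of_tgt _ _
  rw [hz]
  simp

end general

section psi

variable {C₁ C₂ D : Type*} [Category C₁] [Category C₂] [Category D]
  [Preadditive C₁] [Preadditive C₂] [Preadditive D]
  (F : C₁ ⥤ C₂ ⥤ D) [F.Additive] [∀ X₁, (F.obj X₁).Additive]

/-- `M ↦ (F(M, K^n))_n`: applying the bifunctor termwise to a complex in the second variable -/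
@[reducible, simps]
noncomputable def Psi (K : CochainComplex C₂ ℤ) : C₁ ⥤ CochainComplex D ℤ where
  obj M := ((F.obj M).mapHomologicalComplex (ComplexShape.up ℤ)).obj K
  map f := (NatTrans.mapHomologicalComplex (F.map f) (ComplexShape.up ℤ)).app K
  map_id M := by
    ext n
    simp
  map_comp f g := by
    ext n
    simp

instance (K : CochainComplex C₂ ℤ) : (Psi F K).Additive where
  map_add {M N f g} := by
    ext n
    dsimp
    rw [F.map_add]
    rfl

/-- functoriality of `Psi` in the complex -/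
@[simps]
noncomputable def PsiMap {K L : CochainComplex C₂ ℤ} (g : K ⟶ L) : Psi F K ⟶ Psi F L where
  app M := ((F.obj M).mapHomologicalComplex (ComplexShape.up ℤ)).map g
  naturality M N f := by
    ext n
    dsimp
    exact ((F.map f).naturality (g.f n)).symm

variable [HasZeroObject C₁] [∀ (K₁ : CochainComplex C₁ ℤ) (K₂ : CochainComplex C₂ ℤ),
  CochainComplex.HasMapBifunctor K₁ K₂ F]

/-- the single complex `M[0]` -/
noncomputable abbrev sg (M : C₁) : CochainComplex C₁ ℤ :=
  (HomologicalComplex.single C₁ (ComplexShape.up ℤ) 0).obj M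

lemma isZero_sg_X (M : C₁) (p : ℤ) (hp : p ≠ 0) : IsZero ((sg M).X p) :=
  HomologicalComplex.isZero_single_obj_X _ _ _ _ hp

/-- the comparison map `(F(M, K^n))_n ⟶ M[0] ⊗ K` -/
noncomputable def singleTensorHom (M : C₁) (K : CochainComplex C₂ ℤ) :
    (Psi F K).obj M ⟶ CochainComplex.mapBifunctor (sg M) K F where
  f n := (F.map (HomologicalComplex.singleObjXSelf (ComplexShape.up ℤ) 0 M).inv).app (K.X n) ≫
    CochainComplex.ιMapBifunctor (sg M) K F 0 n n (zero_add n)
  comm' n n' h := by
    obtain rfl : n + 1 = n' := h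
    rw [assoc, ι_d_of_concentrated₁ F (sg M) K (isZero_sg_X M) n n (n + 1) (n + 1) (zero_add n)
      rfl rfl]
    dsimp
    rw [← assoc, ← assoc]
    congr 1
    exact ((F.map _).naturality _).symm

instance isIso_singleTensorHom_f (M : C₁) (K : CochainComplex C₂ ℤ) (n : ℤ) :
    IsIso ((singleTensorHom F M K).f n) := by
  haveI := isIso_ι_of_concentrated₁ F (sg M) K (isZero_sg_X M) n n (zero_add n)
  change IsIso ((F.map (HomologicalComplex.singleObjXSelf (ComplexShape.up ℤ) 0 M).inv).app (K.X n) ≫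
    CochainComplex.ιMapBifunctor (sg M) K F 0 n n (zero_add n))
  infer_instance

instance isIso_singleTensorHom (M : C₁) (K : CochainComplex C₂ ℤ) :
    IsIso (singleTensorHom F M K) :=
  HomologicalComplex.Hom.isIso_of_components _

lemma singleTensorHom_naturality {M N : C₁} (f : M ⟶ N) (K : CochainComplex C₂ ℤ) :
    (Psi F K).map f ≫ singleTensorHom F N K =
      singleTensorHom F M K ≫ HomologicalComplex.mapBifunctorMap
        ((HomologicalComplex.single C₁ (ComplexShape.up ℤ) 0).map f) (𝟙 K) F (.up ℤ) := by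
  ext n
  dsimp [singleTensorHom]
  rw [assoc, ι_mapBifunctorMap]
  change (F.map f).app (K.X n) ≫
      (F.map (singleObjXSelf (ComplexShape.up ℤ) 0 N).inv).app (K.X n) ≫
        (sg N).ιMapBifunctor K F 0 n n (zero_add n) =
    (F.map (singleObjXSelf (ComplexShape.up ℤ) 0 M).inv).app (K.X n) ≫
      (F.map (((single C₁ (ComplexShape.up ℤ) 0).map f).f 0)).app (K.X n) ≫
        (F.obj (((single C₁ (ComplexShape.up ℤ) 0).obj N).X 0)).map (𝟙 (K.X n)) ≫
          (sg N).ιMapBifunctor K F 0 n n (zero_add n)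
  rw [CategoryTheory.Functor.map_id, id_comp, ← assoc, ← assoc, ← NatTrans.comp_app,
    ← NatTrans.comp_app, ← F.map_comp, ← F.map_comp]
  congr 3
  rw [HomologicalComplex.single_map_f_self, Iso.inv_hom_id_assoc]

/-- **`M[0] ⊗ K` is `F(M, -)` applied termwise to `K`**, naturally in `M` -/
noncomputable def singleTensorNatIso (K : CochainComplex C₂ ℤ) :
    HomologicalComplex.single C₁ (ComplexShape.up ℤ) 0 ⋙ F.map₂CochainComplex.flip.obj K ≅
      Psi F K :=
  (NatIso.ofComponents (fun M => @asIso _ _ _ _ (singleTensorHom F M K)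
      (isIso_singleTensorHom F M K))
    (fun {M N} f => by
      dsimp
      exact singleTensorHom_naturality F f K)).symm

end psi

end Groth.Agent.H4.TEx1
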