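import Mathlib
import Groth.Agent.H4.TEx1

set_option autoImplicit false
open CategoryTheory Category Limits HomologicalComplex CochainComplex

namespace Groth.Agent.H4.TEx2

open Groth.Agent.H4.TEx1

section delta

variable {A B : Type*} [Category A] [Abelian A] [Category B] [Abelian B]
  (Φ : A ⥤ CochainComplex B ℤ) [Φ.Additive]

/-- `Φ` sends short exact sequences to short exact sequences of complexes -/
abbrev ExactCx : Prop := ∀ S : ShortComplex A, S.ShortExact → (S.map Φ).ShortExact

/-- the functor `H^k ∘ Φ` -/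
noncomputable abbrev HΦ (k : ℤ) : A ⥤ B := Φ ⋙ HomologicalComplex.homologyFunctor B (ComplexShape.up ℤ) k

variable {Φ}

lemma exact_map_HΦ (hΦ : ExactCx Φ) (S : ShortComplex A) (hS : S.ShortExact) (k : ℤ) :
    (S.map (HΦ Φ k)).Exact :=
  (hΦ S hS).homology_exact₂ k

lemma epi_iff_mono_succ (hΦ : ExactCx Φ) (S : ShortComplex A) (hS : S.ShortExact) (k : ℤ) :
    Epi ((HΦ Φ k).map S.g) ↔ Mono ((HΦ Φ (k + 1)).map S.f) := by
  have h1 := (hΦ S hS).homology_exact₁ k (k + 1) (by simp)
  have h3 := (hΦ S hS).homology_exact₃ k (k + 1) (by simp)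
  have e3 := h3.epi_f_iff
  have e1 := h1.mono_g_iff
  exact e3.trans e1.symm

theorem pfc_iff_epi (hΦ : ExactCx Φ) (k : ℤ) :
    PreservesFiniteColimits (HΦ Φ k) ↔
      ∀ S : ShortComplex A, S.ShortExact → Epi ((HΦ Φ k).map S.g) := by
  rw [((Functor.preservesFiniteColimits_tfae (HΦ Φ k)).out 3 0 :)]
  exact ⟨fun h S hS => (h S hS).2, fun h S hS => ⟨exact_map_HΦ hΦ S hS k, h S hS⟩⟩

theorem pfl_iff_mono (hΦ : ExactCx Φ) (k : ℤ) :
    PreservesFiniteLimits (HΦ Φ k) ↔
      ∀ S : ShortComplex A, S.ShortExact → Mono ((HΦ Φ k).map S.f) := by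
  rw [((Functor.preservesFiniteLimits_tfae (HΦ Φ k)).out 3 0 :)]
  exact ⟨fun h S hS => (h S hS).2, fun h S hS => ⟨exact_map_HΦ hΦ S hS k, h S hS⟩⟩

/-- **`H^k ∘ Φ` is right exact iff `H^{k+1} ∘ Φ` is left exact** -/
theorem pfc_iff_pfl_succ (hΦ : ExactCx Φ) (k : ℤ) :
    PreservesFiniteColimits (HΦ Φ k) ↔ PreservesFiniteLimits (HΦ Φ (k + 1)) := by
  rw [pfc_iff_epi hΦ, pfl_iff_mono hΦ]
  exact ⟨fun h S hS => (epi_iff_mono_succ hΦ S hS k).1 (h S hS),
    fun h S hS => (epi_iff_mono_succ hΦ S hS k).2 (h S hS)⟩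

theorem pfl_iff_preservesMono (hΦ : ExactCx Φ) (k : ℤ) :
    PreservesFiniteLimits (HΦ Φ k) ↔
      ∀ ⦃X Y : A⦄ (f : X ⟶ Y), Mono f → Mono ((HΦ Φ k).map f) := by
  rw [pfl_iff_mono hΦ]
  constructor
  · intro h X Y f hf
    exact h (ShortComplex.mk f (cokernel.π f) (cokernel.condition f))
      { exact := ShortComplex.exact_cokernel f }
  · intro h S hS
    haveI := hS.mono_f
    exact h S.f inferInstance

theorem pfc_iff_preservesEpi (hΦ : ExactCx Φ) (k : ℤ) :
    PreservesFiniteColimits (HΦ Φ k) ↔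
      ∀ ⦃X Y : A⦄ (f : X ⟶ Y), Epi f → Epi ((HΦ Φ k).map f) := by
  rw [pfc_iff_epi hΦ]
  constructor
  · intro h X Y f hf
    exact h (ShortComplex.mk (kernel.ι f) f (kernel.condition f))
      { exact := ShortComplex.exact_kernel f }
  · intro h S hS
    haveI := hS.epi_g
    exact h S.g inferInstance

end delta

section opc

variable {C₁ C₂ D : Type*} [Category C₁] [Category C₂] [Category D]
  [Preadditive C₁] [Abelian C₂] [Abelian D]
  (F : C₁ ⥤ C₂ ⥤ D) [F.Additive] [∀ X₁, (F.obj X₁).Additive]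
  (K : CochainComplex C₂ ℤ) (k : ℤ)

/-- the cokernel cofork of `K.d (k-1) k` -/
noncomputable abbrev opcCofork₀ : CokernelCofork (K.d (k - 1) k) :=
  CokernelCofork.ofπ (K.pOpcycles k) (K.d_pOpcycles (k - 1) k)

noncomputable def isColimitOpcCofork₀ : IsColimit (opcCofork₀ K k) :=
  K.opcyclesIsCokernel (k - 1) k (by simp)

/-- `opcycles` of `F(M, K^•)` is `F(M, opcycles K)` when `F(M, -)` is right exact -/
noncomputable def opcIso (M : C₁) [PreservesFiniteColimits (F.obj M)] :
    ((Psi F K).obj M).opcycles k ≅ (F.obj M).obj (K.opcycles k) :=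
  IsColimit.coconePointUniqueUpToIso (((Psi F K).obj M).opcyclesIsCokernel (k - 1) k (by simp))
    (CokernelCofork.mapIsColimit _ (isColimitOpcCofork₀ K k) (F.obj M))

@[reassoc]
lemma p_opcIso_hom (M : C₁) [PreservesFiniteColimits (F.obj M)] :
    ((Psi F K).obj M).pOpcycles k ≫ (opcIso F K k M).hom = (F.obj M).map (K.pOpcycles k) :=
  IsColimit.comp_coconePointUniqueUpToIso_hom
    (((Psi F K).obj M).opcyclesIsCokernel (k - 1) k (by simp))
    (CokernelCofork.mapIsColimit _ (isColimitOpcCofork₀ K k) (F.obj M)) WalkingParallelPair.one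

@[reassoc]
lemma opcIso_hom_naturality {M N : C₁} (f : M ⟶ N) [PreservesFiniteColimits (F.obj M)]
    [PreservesFiniteColimits (F.obj N)] :
    HomologicalComplex.opcyclesMap ((Psi F K).map f) k ≫ (opcIso F K k N).hom =
      (opcIso F K k M).hom ≫ (F.map f).app (K.opcycles k) := by
  rw [← cancel_epi (((Psi F K).obj M).pOpcycles k), HomologicalComplex.p_opcyclesMap_assoc,
    p_opcIso_hom, p_opcIso_hom_assoc]
  exact ((F.map f).naturality (K.pOpcycles k)).symm

@[reassoc]
lemma opcIso_hom_fromOpcycles (M : C₁) [PreservesFiniteColimits (F.obj M)] :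
    (opcIso F K k M).hom ≫ (F.obj M).map (K.fromOpcycles k (k + 1)) =
      ((Psi F K).obj M).fromOpcycles k (k + 1) := by
  rw [← cancel_epi (((Psi F K).obj M).pOpcycles k), p_opcIso_hom_assoc]
  have h1 : (F.obj M).map (K.pOpcycles k) ≫ (F.obj M).map (K.fromOpcycles k (k + 1)) =
      (F.obj M).map (K.d k (k + 1)) := by
    rw [← Functor.map_comp, HomologicalComplex.p_fromOpcycles]
  have h2 : ((Psi F K).obj M).pOpcycles k ≫ ((Psi F K).obj M).fromOpcycles k (k + 1) =
      ((Psi F K).obj M).d k (k + 1) := HomologicalComplex.p_fromOpcycles _ _ _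
  exact h1.trans h2.symm

/-- if `F(f, opcycles)` is a monomorphism, so is `H^k(F(f, K^•))` -/
lemma mono_homologyMap_of_mono_app_opcycles {M N : C₁} (f : M ⟶ N)
    [PreservesFiniteColimits (F.obj M)] [PreservesFiniteColimits (F.obj N)]
    (hf : Mono ((F.map f).app (K.opcycles k))) :
    Mono (HomologicalComplex.homologyMap ((Psi F K).map f) k) := by
  have h1 : HomologicalComplex.homologyMap ((Psi F K).map f) k ≫ ((Psi F K).obj N).homologyι k =
      ((Psi F K).obj M).homologyι k ≫ HomologicalComplex.opcyclesMap ((Psi F K).map f) k :=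
    HomologicalComplex.homologyι_naturality _ _
  have h2 : HomologicalComplex.opcyclesMap ((Psi F K).map f) k =
      (opcIso F K k M).hom ≫ (F.map f).app (K.opcycles k) ≫ (opcIso F K k N).inv := by
    rw [← assoc, ← opcIso_hom_naturality, assoc, Iso.hom_inv_id, comp_id]
  haveI : Mono (HomologicalComplex.opcyclesMap ((Psi F K).map f) k) := by
    rw [h2]
    infer_instance
  haveI : Mono (HomologicalComplex.homologyMap ((Psi F K).map f) k ≫
      ((Psi F K).obj N).homologyι k) := by
    rw [h1]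
    exact mono_comp _ _
  exact mono_of_mono _ (((Psi F K).obj N).homologyι k)

/-- if `H^k(F(f, K^•))` and `F(f, K^{k+1})` are monomorphisms, so is `F(f, opcycles)` -/
lemma mono_app_opcycles_of_mono_homologyMap {M N : C₁} (f : M ⟶ N)
    [PreservesFiniteColimits (F.obj M)] [PreservesFiniteColimits (F.obj N)]
    (hf : Mono (HomologicalComplex.homologyMap ((Psi F K).map f) k))
    (hf' : Mono ((F.map f).app (K.X (k + 1)))) :
    Mono ((F.map f).app (K.opcycles k)) := by
  have h1 : HomologicalComplex.homologyMap ((Psi F K).map f) k ≫ ((Psi F K).obj N).homologyι k =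
      ((Psi F K).obj M).homologyι k ≫ HomologicalComplex.opcyclesMap ((Psi F K).map f) k :=
    HomologicalComplex.homologyι_naturality _ _
  have h3 : HomologicalComplex.opcyclesMap ((Psi F K).map f) k ≫
      ((Psi F K).obj N).fromOpcycles k (k + 1) =
      ((Psi F K).obj M).fromOpcycles k (k + 1) ≫ ((Psi F K).map f).f (k + 1) := by
    rw [← cancel_epi (((Psi F K).obj M).pOpcycles k), HomologicalComplex.p_opcyclesMap_assoc,
      HomologicalComplex.p_fromOpcycles, HomologicalComplex.p_fromOpcycles_assoc,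
      HomologicalComplex.Hom.comm]
  haveI : Mono (((Psi F K).map f).f (k + 1)) := hf'
  haveI : Mono (HomologicalComplex.opcyclesMap ((Psi F K).map f) k) := by
    apply Preadditive.mono_of_cancel_zero
    intro P g hg
    have hg1 : g ≫ ((Psi F K).obj M).fromOpcycles k (k + 1) = 0 := by
      rw [← cancel_mono (((Psi F K).map f).f (k + 1)), assoc, ← h3, ← assoc, hg, zero_comp,
        zero_comp]
    let l : P ⟶ ((Psi F K).obj M).homology k :=
      (((Psi F K).obj M).homologyIsKernel k (k + 1) (by simp)).lift (KernelFork.ofι g hg1)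
    have hl : l ≫ ((Psi F K).obj M).homologyι k = g :=
      (((Psi F K).obj M).homologyIsKernel k (k + 1) (by simp)).fac (KernelFork.ofι g hg1)
        WalkingParallelPair.zero
    have hl1 : (l ≫ HomologicalComplex.homologyMap ((Psi F K).map f) k) ≫
        ((Psi F K).obj N).homologyι k = 0 := by
      rw [assoc, h1, ← assoc, hl, hg]
    have hl2 : l ≫ HomologicalComplex.homologyMap ((Psi F K).map f) k = 0 := by
      rw [← cancel_mono (((Psi F K).obj N).homologyι k), hl1, zero_comp]
    have hl0 : l = 0 := by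
      rw [← cancel_mono (HomologicalComplex.homologyMap ((Psi F K).map f) k), hl2, zero_comp]
    rw [← hl, hl0, zero_comp]
  have h2 : (F.map f).app (K.opcycles k) =
      (opcIso F K k M).inv ≫ HomologicalComplex.opcyclesMap ((Psi F K).map f) k ≫
        (opcIso F K k N).hom := by
    rw [opcIso_hom_naturality, Iso.inv_hom_id_assoc]
  rw [h2]
  infer_instance

end opc

section ring

universe u
variable {R : Type u} [CommRing R]
open MonoidalCategory

/-- termwise tensor product `N ↦ (N ⊗ E^n)_n` -/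
noncomputable abbrev PsiR (E : CochainComplex (ModuleCat.{u} R) ℤ) :
    ModuleCat.{u} R ⥤ CochainComplex (ModuleCat.{u} R) ℤ :=
  Psi (curriedTensor (ModuleCat.{u} R)) E

lemma exactCx_PsiR (E : CochainComplex (ModuleCat.{u} R) ℤ) (hE : ∀ i, Module.Flat R (E.X i)) :
    ExactCx (PsiR E) := by
  intro S hS
  apply HomologicalComplex.shortExact_of_degreewise_shortExact
  intro n
  haveI := hE n
  exact hS.map_of_exact (tensorRight (E.X n))

/-- **`N ↦ H^k(N ⊗ E)` is right exact iff `N ↦ H^{k+1}(N ⊗ E)` is left exact** -/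
theorem pfc_iff_pfl_succ_PsiR (E : CochainComplex (ModuleCat.{u} R) ℤ)
    (hE : ∀ i, Module.Flat R (E.X i)) (k : ℤ) :
    PreservesFiniteColimits (HΦ (PsiR E) k) ↔ PreservesFiniteLimits (HΦ (PsiR E) (k + 1)) :=
  pfc_iff_pfl_succ (exactCx_PsiR E hE) k

/-- **`N ↦ H^k(N ⊗ E)` is left exact iff `coker (E^{k-1} → E^k)` is flat** -/
theorem pfl_iff_flat_opcycles (E : CochainComplex (ModuleCat.{u} R) ℤ)
    (hE : ∀ i, Module.Flat R (E.X i)) (k : ℤ) :
    PreservesFiniteLimits (HΦ (PsiR E) k) ↔ Module.Flat R (E.opcycles k) := by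
  rw [pfl_iff_preservesMono (exactCx_PsiR E hE)]
  constructor
  · intro h
    rw [Module.Flat.iff_rTensor_injective']
    intro I
    let f : ModuleCat.of R I ⟶ ModuleCat.of R R := ModuleCat.ofHom I.subtype
    haveI : Mono f := (ModuleCat.mono_iff_injective f).2 Subtype.val_injective
    have h1 : Mono (HomologicalComplex.homologyMap ((PsiR E).map f) k) := h f inferInstance
    haveI := hE (k + 1)
    have h2 : Mono (((curriedTensor (ModuleCat.{u} R)).map f).app (E.X (k + 1))) := by
      change Mono ((tensorRight (E.X (k + 1))).map f)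
      infer_instance
    have h3 := mono_app_opcycles_of_mono_homologyMap (curriedTensor (ModuleCat.{u} R)) E k f h1 h2
    exact (ModuleCat.mono_iff_injective _).1 h3
  · intro h X Y f hf
    refine mono_homologyMap_of_mono_app_opcycles (curriedTensor (ModuleCat.{u} R)) E k f ?_
    change Mono ((tensorRight (E.opcycles k)).map f)
    infer_instance

end ring

end Groth.Agent.H4.TEx2
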