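import Mathlib
import Groth.Agent.H4.TEx2
import Groth.Agent.H4.TC13
import Groth.Agent.H4.TC8
import Groth.Agent.H4.TC9
import Groth.Agent.H4.ResP2
import Groth.Agent.H4.PC6

set_option autoImplicit false
universe u
open CategoryTheory Category Limits HomologicalComplex CochainComplex MonoidalCategory
  CategoryTheory.Pretriangulated
attribute [local instance] HasDerivedCategory.standard

namespace Groth.Agent.H4.TEx3

open Groth.Agent.H4.TEx1 Groth.Agent.H4.TEx2 Groth.Agent.H4.TC3 Groth.Agent.H4.TC4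
  Groth.Agent.H4.PC Groth.Agent.H4.ResP DRing DerivedCategory

variable {R : Type u} [CommRing R]

/-- termwise braiding `(N ⊗ C^n)_n ≅ (C^n ⊗ N)_n` -/
noncomputable def psiIsoTensorCx (C : DRing.Cx R) (N : ModuleCat.{u} R) :
    (PsiR C).obj N ≅ DRing.tensorCx C N :=
  (NatIso.mapHomologicalComplex (BraidedCategory.tensorLeftIsoTensorRight N)
    (ComplexShape.up ℤ)).app C

lemma acyc_psi_of_kflat_acyc (D : DRing.Cx R) (hD : KFlat D) (hac : Acyc D) (N : ModuleCat.{u} R) :
    Acyc ((PsiR D).obj N) :=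
  Acyc.of_iso (psiIsoTensorCx D N).symm
    (Groth.Agent.H4.TC13.acyc_tensorCx_of_kflat_acyc D hD hac N)

/-- the cone of `N ⊗ a` -/
noncomputable def psiConeIso {P C : DRing.Cx R} (a : P ⟶ C) (N : ModuleCat.{u} R) :
    (PsiR (mappingCone a)).obj N ≅
      mappingCone ((PsiMap (curriedTensor (ModuleCat.{u} R)) a).app N) :=
  CochainComplex.mappingCone.mapHomologicalComplexIso a ((curriedTensor (ModuleCat.{u} R)).obj N)

lemma quasiIso_psiMap {P C : DRing.Cx R} (a : P ⟶ C) (hP : KFlat P) (hC : KFlat C) (ha : QuasiIso a)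
    (N : ModuleCat.{u} R) :
    QuasiIso ((PsiMap (curriedTensor (ModuleCat.{u} R)) a).app N) := by
  rw [← acyc_cone_iff]
  exact Acyc.of_iso (psiConeIso a N)
    (acyc_psi_of_kflat_acyc (mappingCone a) (KFlat.cone a hP hC) ((acyc_cone_iff a).2 ha) N)

/-- **tensoring a K-flat complex in `D^{≤ b}` with a module stays in `D^{≤ b}`** -/
theorem isLE_psi (C : DRing.Cx R) (hC : KFlat C) (b : ℤ) [(Q.obj C).IsLE b] (N : ModuleCat.{u} R) :
    (Q.obj ((PsiR C).obj N)).IsLE b := by
  obtain ⟨P, a, hP, ha⟩ := exists_quasiIso_of_homology_bounded C b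
    (fun i hi => isZero_of_isLE _ b i hi)
  haveI := quasiIso_psiMap a (Groth.Agent.H4.TC8.kflat_of_isBAF hP) hC ha N
  haveI : ((PsiR P).obj N).IsStrictlyLE b := by
    rw [CochainComplex.isStrictlyLE_iff]
    intro i hi
    exact ((curriedTensor (ModuleCat.{u} R)).obj N).map_isZero (hP.1 i hi)
  exact TStructure.t.isLE_of_iso
    (asIso (Q.map ((PsiMap (curriedTensor (ModuleCat.{u} R)) a).app N))) b

/-- witnesses are preserved by tensoring with a module -/
theorem isWit_psiMap {P E : DRing.Cx R} (g : P ⟶ E) (hP : KFlat P) (hE : KFlat E) (m : ℤ)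
    (hg : IsWit m (Q.map g)) (N : ModuleCat.{u} R) :
    IsWit m (Q.map ((PsiMap (curriedTensor (ModuleCat.{u} R)) g).app N)) := by
  have hg' := (isWit_iff_isLE _ (mapTriangle_distinguished g) m).1 hg
  refine (isWit_iff_isLE _ (mapTriangle_distinguished _) m).2 ?_
  haveI : (Q.obj (mappingCone g)).IsLE (m - 1) := hg'
  haveI := isLE_psi (mappingCone g) (KFlat.cone g hP hE) (m - 1) N
  exact TStructure.t.isLE_of_iso (Q.mapIso (psiConeIso g N)) (m - 1)

/-- the comparison `H^k(N ⊗ P) ⟶ H^k(N ⊗ E)` -/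
noncomputable def psiHMap {P E : DRing.Cx R} (g : P ⟶ E) (k : ℤ) : HΦ (PsiR P) k ⟶ HΦ (PsiR E) k :=
  Functor.whiskerRight (PsiMap (curriedTensor (ModuleCat.{u} R)) g) _

theorem isIso_psiHMap {P E : DRing.Cx R} (g : P ⟶ E) (hP : KFlat P) (hE : KFlat E) (m : ℤ)
    (hg : IsWit m (Q.map g)) (k : ℤ) (hk : m < k) : IsIso (psiHMap g k) := by
  rw [NatTrans.isIso_iff_isIso_app]
  intro N
  change IsIso (HomologicalComplex.homologyMap
    ((PsiMap (curriedTensor (ModuleCat.{u} R)) g).app N) k)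
  rw [isIso_homologyMap_iff]
  exact (isWit_psiMap g hP hE m hg N).1 k hk

/-- **K0**: for a witness `g : P ⟶ E` of K-flat complexes of flat modules and `k > m`, the
cokernels of `d^{k-1}` of `P` and `E` are simultaneously flat -/
theorem flat_opcycles_iff {P E : DRing.Cx R} (g : P ⟶ E) (hP : KFlat P) (hE : KFlat E)
    (hPf : ∀ i, Module.Flat R (P.X i)) (hEf : ∀ i, Module.Flat R (E.X i)) (m : ℤ)
    (hg : IsWit m (Q.map g)) (k : ℤ) (hk : m < k) :
    Module.Flat R (P.opcycles k) ↔ Module.Flat R (E.opcycles k) := by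
  rw [← pfl_iff_flat_opcycles P hPf k, ← pfl_iff_flat_opcycles E hEf k]
  haveI := isIso_psiHMap g hP hE m hg k hk
  exact ⟨fun h => preservesFiniteLimits_of_natIso (asIso (psiHMap g k)),
    fun h => preservesFiniteLimits_of_natIso (asIso (psiHMap g k)).symm⟩

end Groth.Agent.H4.TEx3
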