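import Mathlib
import Groth.Agent.H4.TEx3
import Groth.Agent.H4.CF6
import Groth.Agent.H4.LK2

set_option autoImplicit false
universe u
open CategoryTheory Category Limits HomologicalComplex CochainComplex MonoidalCategory
attribute [local instance] HasDerivedCategory.standard

namespace Groth.Agent.H4.TEx4

open Groth.Agent.H4.TEx1 Groth.Agent.H4.TEx2 Groth.Agent.H4.TEx3 Groth.Agent.H4.TC4
  DRing DerivedCategory

attribute [local instance] Groth.Agent.H4.LK4.hasLTen

variable {R : Type u} [CommRing R]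

/-- the functor `N ↦ H^k(N ⊗^L E)` on modules -/
noncomputable abbrev TR (E : DRing.Cx R) [DRing.HasLTensorCx R E] (k : ℤ) :
    ModuleCat.{u} R ⥤ ModuleCat.{u} R :=
  DerivedCategory.singleFunctor (ModuleCat.{u} R) 0 ⋙ DRing.LTensorCx R E ⋙
    DerivedCategory.homologyFunctor (ModuleCat.{u} R) k

/-- `- ⊗^L E` only depends on `E` up to quasi-isomorphism -/
noncomputable def LTensorCxIsoOfQuasiIso {E E' : DRing.Cx R} (q : E' ⟶ E) (hq : QuasiIso q)
    [DRing.HasLTensorCx R E] [DRing.HasLTensorCx R E'] :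
    DRing.LTensorCx R E ≅ DRing.LTensorCx R E' :=
  haveI : IsIso (Q.map q) := by
    rw [DerivedCategory.isIso_Q_map_iff_quasiIso]; exact hq
  Groth.Agent.H4.CF6.LTensorCxIso' E ≪≫ ((DTen.LTen R).flip.mapIso (asIso (Q.map q))).symm ≪≫
    (Groth.Agent.H4.CF6.LTensorCxIso' E').symm

/-- the counit isomorphism for a K-flat complex -/
noncomputable def counitIso (E' : DRing.Cx R) (hE' : KFlat E') [DRing.HasLTensorCx R E'] :
    DerivedCategory.Q ⋙ DRing.LTensorCx R E' ≅ DRing.tensorCxQ R E' :=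
  haveI : IsIso (Groth.Agent.H4.LK2.counit E') := by
    rw [NatTrans.isIso_iff_isIso_app]
    intro X
    exact Groth.Agent.H4.LK2.isIso_counit_app_of_kflat_right E' hE' X
  asIso (Groth.Agent.H4.LK2.counit E')

/-- `tensorRight E` on complexes as the flipped `map₂CochainComplex` -/
noncomputable def tensorRightIso (E' : DRing.Cx R) :
    (tensorRight E' : DRing.Cx R ⥤ DRing.Cx R) ≅
      (curriedTensor (ModuleCat.{u} R)).map₂CochainComplex.flip.obj E' :=
  NatIso.ofComponents (fun K => Iso.refl _) (fun {K L} f => by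
    refine (Category.comp_id _).trans (Eq.trans ?_ (Category.id_comp _).symm)
    rfl)

/-- **`N ↦ H^k(N ⊗^L E)` is computed termwise on a K-flat resolution of `E`** -/
noncomputable def TRIso {E E' : DRing.Cx R} (q : E' ⟶ E) (hq : QuasiIso q) (hE' : KFlat E')
    [DRing.HasLTensorCx R E] (k : ℤ) : TR E k ≅ HΦ (PsiR E') k :=
  haveI : DRing.HasLTensorCx R E' := Groth.Agent.H4.LK2.hasLTensorCx E'
  Functor.isoWhiskerLeft _ (Functor.isoWhiskerRight (LTensorCxIsoOfQuasiIso q hq) _) ≪≫
  Functor.isoWhiskerRight (DerivedCategory.singleFunctorIsoCompQ (ModuleCat.{u} R) 0) _ ≪≫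
  Functor.associator _ _ _ ≪≫
  Functor.isoWhiskerLeft _ ((Functor.associator _ _ _).symm ≪≫
    Functor.isoWhiskerRight (counitIso E' hE') _ ≪≫ Functor.associator _ _ _ ≪≫
    Functor.isoWhiskerLeft _ (DerivedCategory.homologyFunctorFactors (ModuleCat.{u} R) k)) ≪≫
  (Functor.associator _ _ _).symm ≪≫
  Functor.isoWhiskerRight (Functor.isoWhiskerLeft _ (tensorRightIso E') ≪≫
    singleTensorNatIso (curriedTensor (ModuleCat.{u} R)) E') _

/-- **left exactness of `N ↦ H^k(N ⊗^L E)`** in terms of a K-flat resolution by flat modules -/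
theorem pfl_TR_iff {E E' : DRing.Cx R} (q : E' ⟶ E) (hq : QuasiIso q) (hE' : KFlat E')
    (hE'f : ∀ i, Module.Flat R (E'.X i)) [DRing.HasLTensorCx R E] (k : ℤ) :
    PreservesFiniteLimits (TR E k) ↔ Module.Flat R (E'.opcycles k) := by
  rw [← pfl_iff_flat_opcycles E' hE'f k]
  exact ⟨fun h => preservesFiniteLimits_of_natIso (TRIso q hq hE' k),
    fun h => preservesFiniteLimits_of_natIso (TRIso q hq hE' k).symm⟩

/-- **right exactness of `N ↦ H^k(N ⊗^L E)`** in terms of a K-flat resolution by flat modules -/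
theorem pfc_TR_iff {E E' : DRing.Cx R} (q : E' ⟶ E) (hq : QuasiIso q) (hE' : KFlat E')
    (hE'f : ∀ i, Module.Flat R (E'.X i)) [DRing.HasLTensorCx R E] (k : ℤ) :
    PreservesFiniteColimits (TR E k) ↔ Module.Flat R (E'.opcycles (k + 1)) := by
  rw [← pfl_iff_flat_opcycles E' hE'f (k + 1), ← pfc_iff_pfl_succ_PsiR E' hE'f k]
  exact ⟨fun h => preservesFiniteColimits_of_natIso (TRIso q hq hE' k),
    fun h => preservesFiniteColimits_of_natIso (TRIso q hq hE' k).symm⟩

end Groth.Agent.H4.TEx4
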