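import Mathlib
import Groth.Prelude.Def_DCoh4
import Groth.Agent.H4.TEx2
import Groth.Agent.H4.LTC2
import Groth.Agent.H4.LDS19

set_option autoImplicit false
universe u
open CategoryTheory Category Limits HomologicalComplex CochainComplex AlgebraicGeometry
attribute [local instance] HasDerivedCategory.standard

namespace Groth.Agent.H4.TEx5

open Groth.Agent.H4.TEx1 Groth.Agent.H4.TEx2 Groth.Agent.H4.GK1 Groth.Agent.H4.GK9
  Groth.Agent.H4.LDS6 Groth.Agent.H4.LTC2 DerivedCategory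

variable {X : Scheme.{u}}

/-- the functor `M ↦ H^k(M ⊗^L F)` on `O_X`-modules -/
noncomputable abbrev TS (F : CochainComplex X.Modules ℤ) [DCoh.HasLTensorCx F] (k : ℤ) :
    X.Modules ⥤ X.Modules :=
  DerivedCategory.singleFunctor X.Modules 0 ⋙ DCoh.LTensorCx F ⋙
    DerivedCategory.homologyFunctor X.Modules k

/-- the class of quasi-isomorphisms -/
abbrev WX (X : Scheme.{u}) : MorphismProperty (CochainComplex X.Modules ℤ) :=
  HomologicalComplex.quasiIso X.Modules (ComplexShape.up ℤ)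

lemma isInvertedBy_tensorCxQ (F' : CochainComplex X.Modules ℤ) (hF' : DCoh.IsKFlat F') :
    (WX X).IsInvertedBy (DCoh.tensorCxQ F') := by
  intro K L g hg
  haveI := quasiIso_map₁_of_kflat hF' g hg
  change IsIso (Q.map (mapBifunctorMap g (𝟙 F') (DCoh.tensorBi (X := X)) (.up ℤ)))
  infer_instance

/-- `K ↦ K ⊗ F'` on the derived category, for K-flat `F'` -/
noncomputable def GK (F' : CochainComplex X.Modules ℤ) (hF' : DCoh.IsKFlat F') : DCoh.D X ⥤ DCoh.D X :=
  Localization.lift (DCoh.tensorCxQ F') (isInvertedBy_tensorCxQ F' hF') Q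

noncomputable def GKfac (F' : CochainComplex X.Modules ℤ) (hF' : DCoh.IsKFlat F') :
    Q ⋙ GK F' hF' ≅ DCoh.tensorCxQ F' :=
  Localization.fac _ _ _

/-- the map `- ⊗ F' ⟶ - ⊗ F` induced by `q : F' ⟶ F` -/
noncomputable def βq {F F' : CochainComplex X.Modules ℤ} (q : F' ⟶ F) :
    DCoh.tensorCxQ F' ⟶ DCoh.tensorCxQ F :=
  Functor.whiskerRight ((DCoh.tensorCx (X := X)).flip.map q) Q

lemma isIso_βq_app {F F' : CochainComplex X.Modules ℤ} (q : F' ⟶ F) (hq : QuasiIso q)
    (E : CochainComplex X.Modules ℤ) (hE : DCoh.IsKFlat E) : IsIso ((βq q).app E) := by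
  have h : QuasiIso (mapBifunctorMap (𝟙 E) q (DCoh.tensorBi (X := X)) (.up ℤ)) := by
    rw [← acyc_cone_iff]
    exact Acyc.of_iso (Groth.Agent.H4.TC2.coneIso₂ (DCoh.tensorBi (X := X)) E q)
      (Acyc.of_iso (braid (DCoh.tensorBi (X := X)) braidX (mappingCone q) E)
        (hE _ ((acyc_cone_iff q).2 hq)))
  change IsIso (Q.map (mapBifunctorMap (𝟙 E) q (DCoh.tensorBi (X := X)) (.up ℤ)))
  infer_instance

variable (F : CochainComplex X.Modules ℤ) [DCoh.HasLTensorCx F]

/-- the comparison `- ⊗ F' ⟶ - ⊗^L F` -/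
noncomputable def γq {F' : CochainComplex X.Modules ℤ} (q : F' ⟶ F) (hF' : DCoh.IsKFlat F') :
    GK F' hF' ⟶ DCoh.LTensorCx F :=
  (DCoh.LTensorCx F).leftDerivedLift (counit F) (WX X) (GK F' hF') ((GKfac F' hF').hom ≫ βq q)

lemma γq_fac {F' : CochainComplex X.Modules ℤ} (q : F' ⟶ F) (hF' : DCoh.IsKFlat F')
    (K : CochainComplex X.Modules ℤ) :
    (γq F q hF').app (Q.obj K) ≫ (counit F).app K =
      (GKfac F' hF').hom.app K ≫ (βq q).app K :=
  (DCoh.LTensorCx F).leftDerived_fac_app (counit F) (WX X) (GK F' hF')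
    ((GKfac F' hF').hom ≫ βq q) K

theorem isIso_γq {F' : CochainComplex X.Modules ℤ} (q : F' ⟶ F) (hq : QuasiIso q)
    (hF' : DCoh.IsKFlat F') : IsIso (γq F q hF') := by
  rw [NatTrans.isIso_iff_isIso_app]
  intro Y
  obtain ⟨E, r, hE, hr⟩ := hresX (Q.objPreimage Y)
  haveI : IsIso (Q.map r) := by
    rw [DerivedCategory.isIso_Q_map_iff_quasiIso]; exact hr
  let e : Q.obj E ≅ Y := asIso (Q.map r) ≪≫ Q.objObjPreimageIso Y
  rw [← NatTrans.isIso_app_iff_of_iso (γq F q hF') e]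
  have h1 := γq_fac F q hF' E
  haveI := isIso_counit_app F E hE
  haveI := isIso_βq_app q hq E hE
  haveI : IsIso ((γq F q hF').app (Q.obj E) ≫ (counit F).app E) := by
    rw [h1]
    infer_instance
  exact IsIso.of_isIso_comp_right _ ((counit F).app E)

/-- **`M ↦ H^k(M ⊗^L F)` is computed termwise on a K-flat resolution of `F`** -/
noncomputable def TSIso {F' : CochainComplex X.Modules ℤ} (q : F' ⟶ F) (hq : QuasiIso q)
    (hF' : DCoh.IsKFlat F') (k : ℤ) : TS F k ≅ HΦ (Psi (DCoh.tensorBi (X := X)) F') k :=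
  haveI := isIso_γq F q hq hF'
  Functor.isoWhiskerLeft _ (Functor.isoWhiskerRight (asIso (γq F q hF')).symm _) ≪≫
  Functor.isoWhiskerRight (DerivedCategory.singleFunctorIsoCompQ X.Modules 0) _ ≪≫
  Functor.associator _ _ _ ≪≫
  Functor.isoWhiskerLeft _ ((Functor.associator _ _ _).symm ≪≫
    Functor.isoWhiskerRight (GKfac F' hF') _ ≪≫ Functor.associator _ _ _ ≪≫
    Functor.isoWhiskerLeft _ (DerivedCategory.homologyFunctorFactors X.Modules k)) ≪≫
  (Functor.associator _ _ _).symm ≪≫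
  Functor.isoWhiskerRight (singleTensorNatIso (DCoh.tensorBi (X := X)) F') _

end Groth.Agent.H4.TEx5
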