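import Mathlib
import Groth.Prelude.Def_DCoh4
import Groth.Prelude.Def_FlatMod2
import Groth.Agent.H4.TEx5
import Groth.Agent.H4.TEx4
import Groth.Agent.H4.TilD9

set_option autoImplicit false
universe u
open CategoryTheory Category Limits HomologicalComplex CochainComplex AlgebraicGeometry MonoidalCategory
attribute [local instance] HasDerivedCategory.standard

namespace Groth.Agent.H4.TEx6

open Groth.Agent.H4.TEx1 Groth.Agent.H4.TEx2 Groth.Agent.H4.TEx3 Groth.Agent.H4.TEx4
  Groth.Agent.H4.TEx5 Groth.Agent.H4.SPt6 Groth.Agent.H4.SPt8 Groth.Agent.H4.LDS14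
  Groth.Agent.H4.LDS19 Groth.Agent.H4.TilD9

variable {X : Scheme.{u}}

section detect

/-- exactness of a short complex of `O_X`-modules is detected on stalks -/
lemma exact_iff_stalk (S : ShortComplex X.Modules) :
    S.Exact ↔ ∀ y : X, (S.map (DerSch.stalkFunctor X y)).Exact := by
  rw [ShortComplex.exact_iff_isZero_homology, isZero_iff_stalk]
  refine forall_congr' fun y => ?_
  rw [ShortComplex.exact_iff_isZero_homology]
  exact (Iso.isZero_iff (S.mapHomologyIso (DerSch.stalkFunctor X y))).symm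

lemma mono_of_stalkwise {M N : X.Modules} (φ : M ⟶ N)
    (h : ∀ y, Mono ((DerSch.stalkFunctor X y).map φ)) : Mono φ := by
  have hz : IsZero (kernel φ) := by
    rw [isZero_iff_stalk]
    intro y
    haveI := h y
    exact IsZero.of_iso (isZero_kernel_of_mono _) (PreservesKernel.iso (DerSch.stalkFunctor X y) φ)
  exact Abelian.mono_of_kernel_ι_eq_zero _ (hz.eq_of_src _ _)

/-- right exactness is detected on stalks -/
theorem pfc_of_stalkwise (G : X.Modules ⥤ X.Modules) [G.Additive]
    (h : ∀ y : X, PreservesFiniteColimits (G ⋙ DerSch.stalkFunctor X y)) :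
    PreservesFiniteColimits G := by
  rw [((Functor.preservesFiniteColimits_tfae G).out 3 0 :)]
  intro S hS
  have key : ∀ y : X, ((S.map G).map (DerSch.stalkFunctor X y)).Exact ∧
      Epi ((DerSch.stalkFunctor X y).map (G.map S.g)) := fun y => by
    haveI := h y
    exact ((Functor.preservesFiniteColimits_tfae (G ⋙ DerSch.stalkFunctor X y)).out 3 0 :).1
      inferInstance S hS
  exact ⟨(exact_iff_stalk _).2 fun y => (key y).1, epi_of_stalkwise _ fun y => (key y).2⟩

/-- left exactness is detected on stalks -/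
theorem pfl_of_stalkwise (G : X.Modules ⥤ X.Modules) [G.Additive]
    (h : ∀ y : X, PreservesFiniteLimits (G ⋙ DerSch.stalkFunctor X y)) :
    PreservesFiniteLimits G := by
  rw [((Functor.preservesFiniteLimits_tfae G).out 3 0 :)]
  intro S hS
  have key : ∀ y : X, ((S.map G).map (DerSch.stalkFunctor X y)).Exact ∧
      Mono ((DerSch.stalkFunctor X y).map (G.map S.f)) := fun y => by
    haveI := h y
    exact ((Functor.preservesFiniteLimits_tfae (G ⋙ DerSch.stalkFunctor X y)).out 3 0 :).1
      inferInstance S hS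
  exact ⟨(exact_iff_stalk _).2 fun y => (key y).1, mono_of_stalkwise _ fun y => (key y).2⟩

end detect

section stalk

variable (y : X) (F' : CochainComplex X.Modules ℤ)

/-- the stalk of `M ⊗ -` -/
noncomputable def stalkTensorAppIso (M : X.Modules) :
    (DCoh.tensorBi (X := X)).obj M ⋙ DerSch.stalkFunctor X y ≅
      DerSch.stalkFunctor X y ⋙
        (curriedTensor (ModuleCat.{u} (X.presheaf.stalk y))).obj ((DerSch.stalkFunctor X y).obj M) :=
  (stalkTensorIso y).app M

/-- termwise tensoring commutes with stalks -/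
noncomputable def psiStalkIso :
    Psi (DCoh.tensorBi (X := X)) F' ⋙
        (DerSch.stalkFunctor X y).mapHomologicalComplex (ComplexShape.up ℤ) ≅
      DerSch.stalkFunctor X y ⋙ PsiR ((stalkCx y).obj F') :=
  NatIso.ofComponents
    (fun M => (NatIso.mapHomologicalComplex (stalkTensorAppIso y M) (ComplexShape.up ℤ)).app F')
    (fun {M N} f => by
      refine HomologicalComplex.hom_ext _ _ (fun n => ?_)
      exact stalkTensorObjIso_natural_left y (N := F'.X n) f)

/-- **the stalk of `H^k(M ⊗ F')` is `H^k(M_y ⊗ F'_y)`**, naturally in `M` -/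
noncomputable def hΦStalkIso (k : ℤ) :
    HΦ (Psi (DCoh.tensorBi (X := X)) F') k ⋙ DerSch.stalkFunctor X y ≅
      DerSch.stalkFunctor X y ⋙ HΦ (PsiR ((stalkCx y).obj F')) k :=
  Functor.associator _ _ _ ≪≫
  Functor.isoWhiskerLeft _ (mapHCHomologyIso (DerSch.stalkFunctor X y) k).symm ≪≫
  (Functor.associator _ _ _).symm ≪≫
  Functor.isoWhiskerRight (psiStalkIso y F') _ ≪≫ Functor.associator _ _ _

/-- `opcycles` commutes with stalks -/
noncomputable def stalkOpcyclesIso (k : ℤ) :
    ((stalkCx y).obj F').opcycles k ≅ (DerSch.stalkFunctor X y).obj (F'.opcycles k) :=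
  (F'.sc k).mapOpcyclesIso (DerSch.stalkFunctor X y)

lemma flat_opcycles_stalk_iff (k : ℤ) :
    Module.Flat (X.presheaf.stalk y) (((stalkCx y).obj F').opcycles k) ↔
      FlatMod.IsFlatAt (F'.opcycles k) y :=
  Module.Flat.equiv_iff (stalkOpcyclesIso y F' k).toLinearEquiv

end stalk

section main

variable (F' : CochainComplex X.Modules ℤ)

/-- **left exactness of `M ↦ H^k(M ⊗ F')` from stalkwise flatness of the cokernel of `d^{k-1}`** -/
theorem pfl_HΦ_of_flat (hF'f : ∀ i, FlatMod.IsFlat (F'.X i)) (k : ℤ)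
    (h : ∀ y : X, FlatMod.IsFlatAt (F'.opcycles k) y) :
    PreservesFiniteLimits (HΦ (Psi (DCoh.tensorBi (X := X)) F') k) := by
  apply pfl_of_stalkwise
  intro y
  haveI : PreservesFiniteLimits (HΦ (PsiR ((stalkCx y).obj F')) k) :=
    (pfl_iff_flat_opcycles ((stalkCx y).obj F') (fun i => hF'f i y) k).2
      ((flat_opcycles_stalk_iff y F' k).2 (h y))
  exact preservesFiniteLimits_of_natIso (hΦStalkIso y F' k).symm

/-- **right exactness of `M ↦ H^k(M ⊗ F')` from stalkwise flatness of the cokernel of `d^k`** -/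
theorem pfc_HΦ_of_flat (hF'f : ∀ i, FlatMod.IsFlat (F'.X i)) (k : ℤ)
    (h : ∀ y : X, FlatMod.IsFlatAt (F'.opcycles (k + 1)) y) :
    PreservesFiniteColimits (HΦ (Psi (DCoh.tensorBi (X := X)) F') k) := by
  apply pfc_of_stalkwise
  intro y
  haveI : PreservesFiniteColimits (HΦ (PsiR ((stalkCx y).obj F')) k) :=
    (pfc_iff_pfl_succ_PsiR ((stalkCx y).obj F') (fun i => hF'f i y) k).2
      ((pfl_iff_flat_opcycles ((stalkCx y).obj F') (fun i => hF'f i y) (k + 1)).2
        ((flat_opcycles_stalk_iff y F' (k + 1)).2 (h y)))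
  exact preservesFiniteColimits_of_natIso (hΦStalkIso y F' k).symm

variable (F : CochainComplex X.Modules ℤ) [DCoh.HasLTensorCx F] (q : F' ⟶ F) (hq : QuasiIso q)
  (hskf : SKF F') (hF'f : ∀ i, FlatMod.IsFlat (F'.X i))

include hq hskf hF'f

theorem pfl_TS_of_flat (k : ℤ) (h : ∀ y : X, FlatMod.IsFlatAt (F'.opcycles k) y) :
    PreservesFiniteLimits (TS F k) :=
  haveI := pfl_HΦ_of_flat F' hF'f k h
  preservesFiniteLimits_of_natIso (TSIso F q hq (isKFlat_of_skf F' hskf) k).symm

theorem pfc_TS_of_flat (k : ℤ) (h : ∀ y : X, FlatMod.IsFlatAt (F'.opcycles (k + 1)) y) :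
    PreservesFiniteColimits (TS F k) :=
  haveI := pfc_HΦ_of_flat F' hF'f k h
  preservesFiniteColimits_of_natIso (TSIso F q hq (isKFlat_of_skf F' hskf) k).symm

end main

section stalkHyp

variable (F' F : CochainComplex X.Modules ℤ) (q : F' ⟶ F) (hq : QuasiIso q)
  (hskf : SKF F') (hF'f : ∀ i, FlatMod.IsFlat (F'.X i))

include hq hskf hF'f

/-- the stalk hypothesis in terms of the resolution -/
theorem pfl_TR_stalk_iff (x : X) [DRing.HasLTensorCx (X.presheaf.stalk x) ((stalkCx x).obj F)]
    (k : ℤ) :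
    PreservesFiniteLimits (TR ((stalkCx x).obj F) k) ↔ FlatMod.IsFlatAt (F'.opcycles k) x := by
  haveI := hq
  rw [pfl_TR_iff ((stalkCx x).map q) inferInstance (hskf x) (fun i => hF'f i x) k]
  exact flat_opcycles_stalk_iff x F' k

theorem pfc_TR_stalk_iff (x : X) [DRing.HasLTensorCx (X.presheaf.stalk x) ((stalkCx x).obj F)]
    (k : ℤ) :
    PreservesFiniteColimits (TR ((stalkCx x).obj F) k) ↔
      FlatMod.IsFlatAt (F'.opcycles (k + 1)) x := by
  haveI := hq
  rw [pfc_TR_iff ((stalkCx x).map q) inferInstance (hskf x) (fun i => hF'f i x) k]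
  exact flat_opcycles_stalk_iff x F' (k + 1)

end stalkHyp


end Groth.Agent.H4.TEx6
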