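import Mathlib
import Groth.Agent.H4.TEx6
import Groth.Agent.H4.FAmp4
import Groth.Agent.H4.LDS20
import Groth.Agent.H4.LDS16

set_option autoImplicit false
universe u
open CategoryTheory Category Limits HomologicalComplex CochainComplex AlgebraicGeometry MonoidalCategory
attribute [local instance] HasDerivedCategory.standard

namespace Groth.Agent.H4.TEx7

open Groth.Agent.H4.TEx1 Groth.Agent.H4.TEx2 Groth.Agent.H4.TEx3 Groth.Agent.H4.TEx4
  Groth.Agent.H4.TEx5 Groth.Agent.H4.TEx6 Groth.Agent.H4.SPt6 Groth.Agent.H4.LDS14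
  Groth.Agent.H4.LDS15 Groth.Agent.H4.LDS16 Groth.Agent.H4.LDS20
  Groth.Agent.H4.TilD9 Groth.Agent.H4.TilD10 Groth.Agent.H4.PSch1 Groth.Agent.H4.FAmp3
  Groth.Agent.H4.FAmp4 Groth.Agent.LD.QC DerivedCategory

variable {X : Scheme.{u}}

/-- **K1**: for a chain-level `m`-witness `g : P ⟶ G` between stalkwise K-flat complexes of flat
modules and `k > m`, the cokernels of `d^{k-1}` are flat at the same points -/
theorem isFlatAt_opcycles_iff {P G : CochainComplex X.Modules ℤ} (g : P ⟶ G)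
    (hP : SKF P) (hG : SKF G) (hPf : ∀ i, FlatMod.IsFlat (P.X i))
    (hGf : ∀ i, FlatMod.IsFlat (G.X i)) (m : ℤ) (hg : IsWitCx m g) (k : ℤ) (hk : m < k) (w : X) :
    FlatMod.IsFlatAt (P.opcycles k) w ↔ FlatMod.IsFlatAt (G.opcycles k) w := by
  rw [← flat_opcycles_stalk_iff w P k, ← flat_opcycles_stalk_iff w G k]
  have h1 : IsWitCx m ((stalkCx w).map g) := hg.map (DerSch.stalkFunctor X w)
  have h2 : Groth.Agent.H4.PC.IsWit m (Q.map ((stalkCx w).map g)) := (isWitD_Q_map_iff _).2 h1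
  exact flat_opcycles_iff ((stalkCx w).map g) (hP w) (hG w) (fun i => hPf i w)
    (fun i => hGf i w) m h2 k hk

lemma isFlatAt_of_iso {M N : X.Modules} (e : M ≅ N) (x : X) (h : FlatMod.IsFlatAt M x) :
    FlatMod.IsFlatAt N x :=
  (Module.Flat.equiv_iff ((DerSch.stalkFunctor X x).mapIso e).toLinearEquiv).1 h

lemma isFlatAt_restrict_iff {Y : Scheme.{u}} (j : Y ⟶ X) [IsOpenImmersion j] (M : X.Modules)
    (y : Y) : FlatMod.IsFlatAt (M.restrict j) y ↔ FlatMod.IsFlatAt M (j y) :=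
  flat_iff_of_ringEquiv_semilinear (stalkRingEquiv j y) (stalkRestrictAddEquiv j M y)
    (stalkRestrictAddEquiv_smul j M y)

/-- `opcycles` commutes with restriction to an open -/
noncomputable def resOpcyclesIso {Y : Scheme.{u}} (j : Y ⟶ X) [IsOpenImmersion j]
    (K : CochainComplex X.Modules ℤ) (k : ℤ) :
    ((resCx j).obj K).opcycles k ≅ (K.opcycles k).restrict j :=
  (K.sc k).mapOpcyclesIso (Scheme.Modules.restrictFunctor j)

lemma skf_resCx {Y : Scheme.{u}} (j : Y ⟶ X) [IsOpenImmersion j] (K : CochainComplex X.Modules ℤ)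
    (hK : SKF K) : SKF ((resCx j).obj K) :=
  skf_of_iso ((NatIso.mapHomologicalComplex (Scheme.Modules.restrictFunctorIsoPullback j)
    (ComplexShape.up ℤ)).app K).symm (skf_pullCx j K hK)

/-- **Key lemma (spreading)**: for a stalkwise K-flat complex `F'` of flat modules which is
`m`-pseudo-coherent at `x` and `k > m`, flatness of `coker (d^{k-1})` at `x` spreads to a
neighbourhood of `x` -/
theorem exists_nbhd_isFlatAt_opcycles (F' : CochainComplex X.Modules ℤ) (hskf : SKF F')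
    (hF'f : ∀ i, FlatMod.IsFlat (F'.X i)) (m k : ℤ) (hk : m < k) (x : X)
    (hpc : PCAt m (Q.obj F') x) (hx : FlatMod.IsFlatAt (F'.opcycles k) x) :
    ∃ U : X.Opens, x ∈ U ∧ ∀ y ∈ U, FlatMod.IsFlatAt (F'.opcycles k) y := by
  obtain ⟨W, l, hl, ⟨w, rfl⟩, P, g, a, b, hab, hfree, hg⟩ :=
    exists_locFreeWit_of_pcAt m F' _ hpc
  have hPlf : ∀ n, FlatMod.IsFinLocFree (P.X n) := fun n => by
    obtain ⟨r, ⟨e⟩⟩ := hfree n
    exact isFinLocFree_of_iso e.symm (isFinLocFree_freeMod W r)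
  have hPf : ∀ n, FlatMod.IsFlat (P.X n) := fun n y => by
    haveI := free_stalk_of_isFinLocFree (P.X n) (hPlf n) y
    exact Module.Flat.of_free
  have hPskf : SKF P := skf_of_boundedAbove_flat P b (fun i hi => hab i (Or.inr hi)) hPf
  have hGskf : SKF ((resCx l).obj F') := skf_resCx l F' hskf
  have hGf : ∀ i, FlatMod.IsFlat (((resCx l).obj F').X i) := fun i =>
    isFlat_restrict l (F'.X i) (hF'f i)
  -- transfer between `P` and `F'`
  have key : ∀ w' : W, FlatMod.IsFlatAt (P.opcycles k) w' ↔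
      FlatMod.IsFlatAt (F'.opcycles k) (l w') := fun w' => by
    rw [isFlatAt_opcycles_iff g hPskf hGskf hPf hGf m hg k hk w', ← isFlatAt_restrict_iff l]
    exact ⟨isFlatAt_of_iso (resOpcyclesIso l F' k) w',
      isFlatAt_of_iso (resOpcyclesIso l F' k).symm w'⟩
  have hfp : (P.opcycles k).IsFinitePresentation := isFinitePresentation_opcycles P hPlf k
  obtain ⟨V, n, hwV, ⟨e⟩⟩ :=
    exists_restrict_iso_freeMod_of_flat_stalk (P.opcycles k) hfp w ((key w).2 hx)
  refine ⟨l ''ᵁ V, ⟨w, hwV, rfl⟩, ?_⟩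
  rintro _ ⟨w', hw', rfl⟩
  refine (key w').1 ?_
  haveI : (P.opcycles k).IsQuasicoherent := inferInstance
  haveI := free_stalk_of_restrict_iso_freeMod (P.opcycles k) V n e w' hw'
  exact Module.Flat.of_free

end Groth.Agent.H4.TEx7
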