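import Mathlib
import Groth.Agent.H4.TEx7
import Groth.Agent.H4.TilD11

set_option autoImplicit false
universe u
open CategoryTheory Category Limits HomologicalComplex CochainComplex AlgebraicGeometry MonoidalCategory
attribute [local instance] HasDerivedCategory.standard

namespace Groth.Agent.H4.TEx8

open Groth.Agent.H4.TEx1 Groth.Agent.H4.TEx2 Groth.Agent.H4.TEx3 Groth.Agent.H4.TEx4
  Groth.Agent.H4.TEx5 Groth.Agent.H4.TEx6 Groth.Agent.H4.TEx7 Groth.Agent.H4.SPt6
  Groth.Agent.H4.LDS14 Groth.Agent.H4.LDS15 Groth.Agent.H4.LDS16 Groth.Agent.H4.LDS20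
  Groth.Agent.H4.TilD9 Groth.Agent.H4.TilD10 Groth.Agent.H4.TilD11 Groth.Agent.H4.PSch1
  Groth.Agent.H4.FAmp3 Groth.Agent.LD.QC DerivedCategory

variable {X : Scheme.{u}}

/-- flatness of the cokernels on an open `U`, for the restricted complex -/
lemma isFlatAt_opcycles_restrict (F' : CochainComplex X.Modules ℤ) (k : ℤ) (U : X.Opens)
    (h : ∀ y ∈ U, FlatMod.IsFlatAt (F'.opcycles k) y) (u : (U : Scheme.{u})) :
    FlatMod.IsFlatAt (((DCoh.restrictCx U).obj F').opcycles k) u := by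
  refine isFlatAt_of_iso (resOpcyclesIso U.ι F' k).symm u ?_
  rw [isFlatAt_restrict_iff]
  exact h _ u.2

/-- resolution data restricted to an open -/
lemma quasiIso_restrictCx {F F' : CochainComplex X.Modules ℤ} (q : F' ⟶ F) (hq : QuasiIso q)
    (U : X.Opens) : QuasiIso ((DCoh.restrictCx U).map q) := by
  haveI := hq
  change QuasiIso (((Scheme.Modules.restrictFunctor U.ι).mapHomologicalComplex
    (ComplexShape.up ℤ)).map q)
  infer_instance

theorem S6245_main (F : CochainComplex X.Modules ℤ) (p : ℤ)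
    (hE : DCoh.IsPseudoCoherentD p (DCoh.toD X F)) (x : X)
    [DRing.HasLTensorCx (X.presheaf.stalk x) ((stalkCx x).obj F)]
    [PreservesFiniteColimits (TR ((stalkCx x).obj F) p)]
    [∀ U : X.Opens, DCoh.HasLTensorCx ((DCoh.restrictCx U).obj F)] :
    ∃ U : X.Opens, x ∈ U ∧ PreservesFiniteColimits (TS ((DCoh.restrictCx U).obj F) p) := by
  obtain ⟨F', q, hq, hskf, hF'f⟩ := exists_skf_resolution F
  haveI : IsIso (Q.map q) := by
    rw [DerivedCategory.isIso_Q_map_iff_quasiIso]; exact hq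
  have hpc : PCAt p (Q.obj F') x :=
    PCAt.of_iso (asIso (Q.map q)).symm x ((isPseudoCoherentD_iff_pcAt p _).1 hE x)
  have hx : FlatMod.IsFlatAt (F'.opcycles (p + 1)) x :=
    (pfc_TR_stalk_iff F' F q hq hskf hF'f x p).1 inferInstance
  obtain ⟨U, hxU, hU⟩ := exists_nbhd_isFlatAt_opcycles F' hskf hF'f p (p + 1) (by omega) x hpc hx
  refine ⟨U, hxU, ?_⟩
  exact pfc_TS_of_flat ((DCoh.restrictCx U).obj F') ((DCoh.restrictCx U).obj F)
    ((DCoh.restrictCx U).map q) (quasiIso_restrictCx q hq U) (skf_resCx U.ι F' hskf)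
    (fun i => isFlat_restrict U.ι (F'.X i) (hF'f i)) p
    (isFlatAt_opcycles_restrict F' (p + 1) U hU)

theorem S6246_main (F : CochainComplex X.Modules ℤ) (p : ℤ)
    (hE : DCoh.IsPseudoCoherentD (p - 1) (DCoh.toD X F)) (x : X)
    [DRing.HasLTensorCx (X.presheaf.stalk x) ((stalkCx x).obj F)]
    [PreservesFiniteLimits (TR ((stalkCx x).obj F) p)]
    [∀ U : X.Opens, DCoh.HasLTensorCx ((DCoh.restrictCx U).obj F)] :
    ∃ U : X.Opens, x ∈ U ∧ PreservesFiniteLimits (TS ((DCoh.restrictCx U).obj F) p) := by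
  obtain ⟨F', q, hq, hskf, hF'f⟩ := exists_skf_resolution F
  haveI : IsIso (Q.map q) := by
    rw [DerivedCategory.isIso_Q_map_iff_quasiIso]; exact hq
  have hpc : PCAt (p - 1) (Q.obj F') x :=
    PCAt.of_iso (asIso (Q.map q)).symm x ((isPseudoCoherentD_iff_pcAt (p - 1) _).1 hE x)
  have hx : FlatMod.IsFlatAt (F'.opcycles p) x :=
    (pfl_TR_stalk_iff F' F q hq hskf hF'f x p).1 inferInstance
  obtain ⟨U, hxU, hU⟩ := exists_nbhd_isFlatAt_opcycles F' hskf hF'f (p - 1) p (by omega) x hpc hx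
  refine ⟨U, hxU, ?_⟩
  exact pfl_TS_of_flat ((DCoh.restrictCx U).obj F') ((DCoh.restrictCx U).obj F)
    ((DCoh.restrictCx U).map q) (quasiIso_restrictCx q hq U) (skf_resCx U.ι F' hskf)
    (fun i => isFlat_restrict U.ι (F'.X i) (hF'f i)) p
    (isFlatAt_opcycles_restrict F' p U hU)

end Groth.Agent.H4.TEx8
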