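import Mathlib
import Groth.Agent.H4.TEx8
import Groth.Agent.H4.LDS19

set_option autoImplicit false
universe u
open CategoryTheory Category Limits HomologicalComplex CochainComplex AlgebraicGeometry MonoidalCategory
attribute [local instance] HasDerivedCategory.standard

namespace Groth.Agent.H4.TEx9

open Groth.Agent.H4.TEx1 Groth.Agent.H4.TEx2 Groth.Agent.H4.TEx3 Groth.Agent.H4.TEx4
  Groth.Agent.H4.TEx5 Groth.Agent.H4.TEx6 Groth.Agent.H4.TEx7 Groth.Agent.H4.TEx8 Groth.Agent.H4.SPt6 Groth.Agent.H4.SPt4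
  Groth.Agent.H4.LDS14 Groth.Agent.H4.LDS15 Groth.Agent.H4.LDS16 Groth.Agent.H4.LDS19 Groth.Agent.H4.LDS20
  Groth.Agent.H4.TilD9 Groth.Agent.H4.TilD10 Groth.Agent.H4.TilD11 Groth.Agent.H4.PSch1
  Groth.Agent.H4.FAmp3 Groth.Agent.LD.QC DerivedCategory

variable {X : Scheme.{u}}

lemma isWitCx_of_quasiIso {C : Type*} [Category C] [Abelian C] {E G : CochainComplex C ℤ}
    (g : E ⟶ G) [QuasiIso g] (m : ℤ) : IsWitCx m g :=
  ⟨fun i _ => by
    change IsIso (HomologicalComplex.homologyMap g i)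
    infer_instance, by
    change Epi (HomologicalComplex.homologyMap g m)
    infer_instance⟩

/-- **K1, derived version**: for an `m`-witness `φ : Q P ⟶ Q G` in the derived category
between stalkwise K-flat complexes of flat modules and `k > m`, the cokernels of `d^{k-1}` are flat
at the same points -/
theorem isFlatAt_opcycles_iff_D {P G : CochainComplex X.Modules ℤ} (φ : Q.obj P ⟶ Q.obj G)
    (hP : SKF P) (hG : SKF G) (hPf : ∀ i, FlatMod.IsFlat (P.X i))
    (hGf : ∀ i, FlatMod.IsFlat (G.X i)) (m : ℤ) (hφ : IsWitD m φ) (k : ℤ) (hk : m < k) (w : X) :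
    FlatMod.IsFlatAt (P.opcycles k) w ↔ FlatMod.IsFlatAt (G.opcycles k) w := by
  obtain ⟨P', s, hs, g, hfac⟩ := DerivedCategory.right_fac φ
  obtain ⟨N, c, hc, hN, hNf⟩ := exists_skf_resolution P'
  haveI := hc
  haveI : QuasiIso s := by rwa [DerivedCategory.isIso_Q_map_iff_quasiIso] at hs
  haveI : QuasiIso (c ≫ s) := inferInstance
  have h1 : IsWitCx m (c ≫ s) := isWitCx_of_quasiIso _ m
  have h2 : IsWitCx m (c ≫ g) := by
    rw [← isWitD_Q_map_iff]
    have e : Q.map (c ≫ g) = Q.map (c ≫ s) ≫ φ ≫ 𝟙 _ := by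
      rw [hfac, Q.map_comp, Q.map_comp, Category.comp_id, Category.assoc, IsIso.hom_inv_id_assoc]
    rw [e]
    haveI : IsIso (Q.map (c ≫ s)) := by rw [DerivedCategory.isIso_Q_map_iff_quasiIso]; infer_instance
    exact (isWitD_iso_comp _ φ _).2 hφ
  rw [← isFlatAt_opcycles_iff (c ≫ s) hN hP hNf hPf m h1 k hk w,
    isFlatAt_opcycles_iff (c ≫ g) hN hG hNf hGf m h2 k hk w]

section sky

variable (F' : CochainComplex X.Modules ℤ) (y : X)

/-- `H^k(sky_y N ⊗ F')_y = H^k(N ⊗ F'_y)` -/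
noncomputable def skyHΦIso (k : ℤ) :
    skyFunctor y ⋙ HΦ (Psi (DCoh.tensorBi (X := X)) F') k ⋙ DerSch.stalkFunctor X y ≅
      HΦ (PsiR ((stalkCx y).obj F')) k :=
  Functor.isoWhiskerLeft (skyFunctor y) (hΦStalkIso y F' k) ≪≫
    (Functor.associator _ _ _).symm ≪≫
    Functor.isoWhiskerRight (stalkSkyIso y) _ ≪≫ Functor.leftUnitor _

theorem isFlatAt_of_pfl_HΦ (hF'f : ∀ i, FlatMod.IsFlat (F'.X i)) (k : ℤ)
    [PreservesFiniteLimits (HΦ (Psi (DCoh.tensorBi (X := X)) F') k)] :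
    FlatMod.IsFlatAt (F'.opcycles k) y := by
  rw [← flat_opcycles_stalk_iff, ← pfl_iff_flat_opcycles ((stalkCx y).obj F') (fun i => hF'f i y)]
  haveI : PreservesFiniteLimits (skyFunctor y ⋙ HΦ (Psi (DCoh.tensorBi (X := X)) F') k ⋙
      DerSch.stalkFunctor X y) := inferInstance
  exact preservesFiniteLimits_of_natIso (skyHΦIso F' y k)

theorem isFlatAt_of_pfc_HΦ (hF'f : ∀ i, FlatMod.IsFlat (F'.X i)) (k : ℤ)
    [PreservesFiniteColimits (HΦ (Psi (DCoh.tensorBi (X := X)) F') k)] :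
    FlatMod.IsFlatAt (F'.opcycles (k + 1)) y := by
  rw [← flat_opcycles_stalk_iff, ← pfl_iff_flat_opcycles ((stalkCx y).obj F') (fun i => hF'f i y),
    ← pfc_iff_pfl_succ_PsiR ((stalkCx y).obj F') (fun i => hF'f i y)]
  haveI : PreservesFiniteColimits (skyFunctor y ⋙ HΦ (Psi (DCoh.tensorBi (X := X)) F') k ⋙
      DerSch.stalkFunctor X y) := inferInstance
  exact preservesFiniteColimits_of_natIso (skyHΦIso F' y k)

end sky

section TS

variable (F' F : CochainComplex X.Modules ℤ) [DCoh.HasLTensorCx F] (q : F' ⟶ F) (hq : QuasiIso q)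
  (hskf : SKF F') (hF'f : ∀ i, FlatMod.IsFlat (F'.X i))

include hq hskf hF'f

theorem isFlatAt_of_pfl_TS (k : ℤ) [PreservesFiniteLimits (TS F k)] (y : X) :
    FlatMod.IsFlatAt (F'.opcycles k) y := by
  haveI : PreservesFiniteLimits (HΦ (Psi (DCoh.tensorBi (X := X)) F') k) :=
    preservesFiniteLimits_of_natIso (TSIso F q hq (isKFlat_of_skf F' hskf) k)
  exact isFlatAt_of_pfl_HΦ F' y hF'f k

theorem isFlatAt_of_pfc_TS (k : ℤ) [PreservesFiniteColimits (TS F k)] (y : X) :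
    FlatMod.IsFlatAt (F'.opcycles (k + 1)) y := by
  haveI : PreservesFiniteColimits (HΦ (Psi (DCoh.tensorBi (X := X)) F') k) :=
    preservesFiniteColimits_of_natIso (TSIso F q hq (isKFlat_of_skf F' hskf) k)
  exact isFlatAt_of_pfc_HΦ F' y hF'f k

end TS

end Groth.Agent.H4.TEx9
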