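import Mathlib
import Groth.Agent.H4.TEx9
import Groth.Agent.H4.Betti4
import Groth.Agent.H4.RelTor4
import Groth.Agent.Lib.Lead.GS.TildeLF

set_option autoImplicit false
universe u
open CategoryTheory Category Limits HomologicalComplex CochainComplex AlgebraicGeometry MonoidalCategory
attribute [local instance] HasDerivedCategory.standard

namespace Groth.Agent.H4.TEx10

open Groth.Agent.H4.TEx1 Groth.Agent.H4.TEx2 Groth.Agent.H4.TEx3 Groth.Agent.H4.TEx4
  Groth.Agent.H4.TEx5 Groth.Agent.H4.TEx6 Groth.Agent.H4.TEx7 Groth.Agent.H4.TEx8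
  Groth.Agent.H4.TEx9 Groth.Agent.H4.SPt6 Groth.Agent.H4.SPt4
  Groth.Agent.H4.LDS14 Groth.Agent.H4.LDS15 Groth.Agent.H4.LDS16 Groth.Agent.H4.LDS19 Groth.Agent.H4.LDS20
  Groth.Agent.H4.TilD9 Groth.Agent.H4.TilD10 Groth.Agent.H4.TilD11 Groth.Agent.H4.TilD2
  Groth.Agent.H4.PSch1 Groth.Agent.H4.PSch2
  Groth.Agent.H4.FAmp3 Groth.Agent.LD.QC DerivedCategory

variable {X : Scheme.{u}}

section tilde

variable {R : Type u} [CommRing R]

/-- `opcycles` commutes with tilde -/
noncomputable def tildeOpcyclesIso (PR : CochainComplex (ModuleCat.{u} R) ℤ) (κ : ℤ) :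
    ((tildeCx (CommRingCat.of R)).obj PR).opcycles κ ≅
      (tilde.functor (CommRingCat.of R)).obj (PR.opcycles κ) :=
  haveI := tilde_preservesHomology (CommRingCat.of R)
  (PR.sc κ).mapOpcyclesIso (tilde.functor (CommRingCat.of R))

lemma flat_of_isFlat_tilde (M : ModuleCat.{u} (CommRingCat.of R)) (h : FlatMod.IsFlat (tilde M)) :
    Module.Flat R M := by
  refine (Groth.Agent.LD.GS.flat_tilde_top_iff (R := CommRingCat.of R) M).2 ?_
  exact (isFlat_iff_flat_sections (tilde M)).1 h ⊤ (isAffineOpen_top (Spec (CommRingCat.of R)))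

lemma flat_iff_isFlat_tilde (M : ModuleCat.{u} R) :
    Module.Flat R M ↔ FlatMod.IsFlat ((tilde.functor (CommRingCat.of R)).obj M) := by
  constructor
  · intro h
    exact Groth.Agent.H4.RelTor4.isFlat_tilde R M h
  · intro h
    exact flat_of_isFlat_tilde M h

lemma flat_opcycles_iff_tilde (PR : CochainComplex (ModuleCat.{u} R) ℤ) (κ : ℤ) :
    Module.Flat R (PR.opcycles κ) ↔
      ∀ w : Spec (CommRingCat.of R),
        FlatMod.IsFlatAt (((tildeCx (CommRingCat.of R)).obj PR).opcycles κ) w := by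
  rw [flat_iff_isFlat_tilde]
  exact ⟨fun h w => isFlatAt_of_iso (tildeOpcyclesIso PR κ).symm w (h w),
    fun h w => isFlatAt_of_iso (tildeOpcyclesIso PR κ) w (h w)⟩

end tilde

/-- **transfer**: flatness of the cokernels of the differentials of an affine-local finite
projective model of `F'` versus pointwise flatness of the cokernels of the differentials of `F'` -/
theorem flat_opcycles_iff_affine (F' : CochainComplex X.Modules ℤ) (hskf : SKF F')
    (hF'f : ∀ i, FlatMod.IsFlat (F'.X i)) {R : Type u} [CommRing R]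
    (k : Spec (CommRingCat.of R) ⟶ X) [IsOpenImmersion k]
    (PR : CochainComplex (ModuleCat.{u} R) ℤ)
    (hfp : ∀ i, Module.Finite R (PR.X i) ∧ Module.Projective R (PR.X i))
    (a b : ℤ) (hz : ∀ i, (i < a ∨ b < i) → IsZero (PR.X i)) (m : ℤ)
    (α' : Q.obj ((tildeCx (CommRingCat.of R)).obj PR) ⟶ (RD k).obj (Q.obj F'))
    (hα' : IsWitD m α') (κ : ℤ) (hκ : m < κ) :
    Module.Flat R (PR.opcycles κ) ↔
      ∀ w : Spec (CommRingCat.of R), FlatMod.IsFlatAt (F'.opcycles κ) (k.base w) := by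
  rw [flat_opcycles_iff_tilde]
  have hPskf : SKF ((tildeCx (CommRingCat.of R)).obj PR) :=
    Groth.Agent.H4.LDS22.skf_tilde PR (Groth.Agent.H4.Betti4.kflat_of_fp PR hfp a b hz)
  have hPf : ∀ i, FlatMod.IsFlat (((tildeCx (CommRingCat.of R)).obj PR).X i) := fun i => by
    have := (hfp i).2
    exact Groth.Agent.H4.RelTor4.isFlat_tilde R (PR.X i) inferInstance
  have hGskf : SKF ((resCx k).obj F') := skf_resCx k F' hskf
  have hGf : ∀ i, FlatMod.IsFlat (((resCx k).obj F').X i) := fun i =>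
    isFlat_restrict k (F'.X i) (hF'f i)
  have hφ : IsWitD m (α' ≫ (RDfac k F').hom) := by
    have := (isWitD_iso_comp (m := m) (𝟙 _) α' (RDfac k F').hom).2 hα'
    simpa using this
  have key : ∀ w : Spec (CommRingCat.of R),
      FlatMod.IsFlatAt (((tildeCx (CommRingCat.of R)).obj PR).opcycles κ) w ↔
        FlatMod.IsFlatAt (F'.opcycles κ) (k.base w) := fun w => by
    rw [isFlatAt_opcycles_iff_D (α' ≫ (RDfac k F').hom) hPskf hGskf hPf hGf m hφ κ hκ w,
      ← isFlatAt_restrict_iff k]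
    exact ⟨isFlatAt_of_iso (resOpcyclesIso k F' κ) w,
      isFlatAt_of_iso (resOpcyclesIso k F' κ).symm w⟩
  exact ⟨fun h w => (key w).1 (h w), fun h w => (key w).2 (h w)⟩

end Groth.Agent.H4.TEx10
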