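import Mathlib
import Groth.Agent.H4.Betti2
import Groth.Agent.Lib.Helper8.TFunRank

set_option autoImplicit false
universe u
open CategoryTheory Category Limits HomologicalComplex

namespace Groth.Agent.H4.TEx11

open Groth.Agent.H8.DRank Groth.Agent.H8.TFun Groth.Agent.H4.Betti2

variable {A : Type u} [CommRing A]

section modules

variable {M N : Type u} [AddCommGroup M] [Module A M] [AddCommGroup N] [Module A N]

lemma finitePresentation_quot_range (φ : M →ₗ[A] N) [Module.Finite A M]
    [Module.FinitePresentation A N] :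
    Module.FinitePresentation A (N ⧸ LinearMap.range φ) := by
  refine Module.finitePresentation_of_surjective (LinearMap.range φ).mkQ
    (Submodule.mkQ_surjective _) ?_
  rw [Submodule.ker_mkQ]
  exact Submodule.fg_range φ

lemma projective_quot_range (φ : M →ₗ[A] N) [Module.Finite A M] [Module.Finite A N]
    [Module.Projective A N] [Module.Flat A (N ⧸ LinearMap.range φ)] :
    Module.Projective A (N ⧸ LinearMap.range φ) := by
  haveI : Module.FinitePresentation A N := Module.finitePresentation_of_projective A N
  haveI := finitePresentation_quot_range φ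
  exact Module.Flat.projective_of_finitePresentation

/-- the kernel of a map with projective cokernel between finite projective modules is finite
projective -/
lemma finite_projective_ker (φ : M →ₗ[A] N) [Module.Finite A M] [Module.Projective A M]
    [Module.Projective A N] [Module.Projective A (N ⧸ LinearMap.range φ)] :
    Module.Finite A (LinearMap.ker φ) ∧ Module.Projective A (LinearMap.ker φ) := by
  -- the range is projective
  obtain ⟨s, hs⟩ := Module.projective_lifting_property (LinearMap.range φ).mkQ LinearMap.id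
    (Submodule.mkQ_surjective _)
  have hs' : ∀ z, (LinearMap.range φ).mkQ (s z) = z := fun z => LinearMap.congr_fun hs z
  have hrange : Module.Projective A (LinearMap.range φ) := by
    let r : N →ₗ[A] LinearMap.range φ :=
      (LinearMap.id - s.comp (LinearMap.range φ).mkQ).codRestrict (LinearMap.range φ) (fun x => by
        have h0 : (LinearMap.range φ).mkQ ((LinearMap.id - s.comp (LinearMap.range φ).mkQ : N →ₗ[A] N) x) = 0 := by
          simp only [LinearMap.sub_apply, LinearMap.id_coe, id_eq, LinearMap.coe_comp,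
            Function.comp_apply, map_sub, hs', sub_self]
        rwa [← LinearMap.mem_ker, Submodule.ker_mkQ] at h0)
    refine Module.Projective.of_split (LinearMap.range φ).subtype r ?_
    ext ⟨x, hx⟩
    have hx0 : (LinearMap.range φ).mkQ x = 0 := by
      rwa [← LinearMap.mem_ker, Submodule.ker_mkQ]
    simp [r, hx0]
  -- the surjection onto the range splits
  obtain ⟨t, ht⟩ := Module.projective_lifting_property φ.rangeRestrict LinearMap.id
    φ.surjective_rangeRestrict
  have ht' : ∀ z, φ.rangeRestrict (t z) = z := fun z => LinearMap.congr_fun ht z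
  have ht'' : ∀ x, φ (t (φ.rangeRestrict x)) = φ x := fun x =>
    congrArg Subtype.val (ht' (φ.rangeRestrict x))
  let ρ : M →ₗ[A] LinearMap.ker φ :=
    (LinearMap.id - t.comp φ.rangeRestrict).codRestrict (LinearMap.ker φ) (fun x => by
      rw [LinearMap.mem_ker]
      simp only [LinearMap.sub_apply, LinearMap.id_coe, id_eq, LinearMap.coe_comp,
        Function.comp_apply, map_sub, ht'', sub_self])
  have hρ : ρ.comp (LinearMap.ker φ).subtype = LinearMap.id := by
    ext ⟨x, hx⟩
    have hx0 : φ.rangeRestrict x = 0 := by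
      ext
      simpa using hx
    simp [ρ, hx0]
  refine ⟨Module.Finite.of_surjective ρ (fun y => ⟨(LinearMap.ker φ).subtype y,
    LinearMap.congr_fun hρ y⟩), Module.Projective.of_split (LinearMap.ker φ).subtype ρ hρ⟩

end modules

section chain

variable (P : ChainComplex (ModuleCat.{u} A) ℤ)

lemma rho_eventually_eq_of_flat'
    (hP : ∀ i, Module.Finite A (P.X i) ∧ Module.Projective A (P.X i)) (i j : ℤ)
    [Module.Flat A (P.X j ⧸ LinearMap.range (P.d i j).hom)] (x : PrimeSpectrum A) :
    ∀ᶠ y in nhds x, rho P i j y = rho P i j x := by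
  have := (hP j).1
  have := (hP j).2
  have := (hP i).1
  have : Module.Projective A (P.X j ⧸ LinearMap.range (P.d i j).hom) :=
    projective_quot_range _
  filter_upwards [fibDim_eventually_eq (P.X j) x,
    fibDim_eventually_eq (P.X j ⧸ LinearMap.range (P.d i j).hom) x] with y h1 h2
  have e1 := fibRank_add_fibDim (P.d i j).hom x
  have e2 := fibRank_add_fibDim (P.d i j).hom y
  unfold rho
  omega

theorem dRank_locallyConstant_of_flat
    (hP : ∀ i, Module.Finite A (P.X i) ∧ Module.Projective A (P.X i)) (p : ℤ)
    (h1 : Module.Flat A (P.X p ⧸ LinearMap.range (P.d (p + 1) p).hom))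
    (h2 : Module.Flat A (P.X (p - 1) ⧸ LinearMap.range (P.d p (p - 1)).hom)) :
    IsLocallyConstant (CohIII.dRank P p) := by
  have := fun i => (hP i).1
  have := fun i => (hP i).2
  rw [IsLocallyConstant.iff_eventually_eq]
  intro x
  filter_upwards [rho_eventually_eq_of_flat' P hP (p + 1) p x,
    rho_eventually_eq_of_flat' P hP p (p - 1) x, fibDim_eventually_eq (P.X p) x] with y h1 h2 h3
  have e1 := dRank_add P p x
  have e2 := dRank_add P p y
  omega

theorem flat_of_dRank_locallyConstant [IsReduced A]
    (hP : ∀ i, Module.Finite A (P.X i) ∧ Module.Projective A (P.X i)) (p : ℤ)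
    (h : IsLocallyConstant (CohIII.dRank P p)) :
    Module.Flat A (P.X p ⧸ LinearMap.range (P.d (p + 1) p).hom) ∧
      Module.Flat A (P.X (p - 1) ⧸ LinearMap.range (P.d p (p - 1)).hom) := by
  have hfl : ∀ i, Module.Flat A (P.X i) := fun i => by
    have := (hP i).2
    infer_instance
  obtain ⟨hm, he⟩ := exact_of_dRank_locallyConstant P hP p h
  exact ⟨(preservesMono_iff_flat P hfl (p + 1) p rfl).1 hm,
    (preservesEpi_iff_flat P hfl p (p - 1) (by ring)).1 he⟩

end chain

section cochain

/-- the cokernel of a differential as a quotient module -/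
noncomputable def opcyclesIsoQuot {ι : Type*} {c : ComplexShape ι}
    (K : HomologicalComplex (ModuleCat.{u} A) c) (i j : ι) (hij : c.Rel i j) :
    K.opcycles j ≅ ModuleCat.of A (K.X j ⧸ LinearMap.range (K.d i j).hom) :=
  (K.opcyclesIsCokernel i j (c.prev_eq' hij)).coconePointUniqueUpToIso (colimit.isColimit _) ≪≫
    ModuleCat.cokernelIsoRangeQuotient (K.d i j)

lemma flat_quot_iff_flat_opcycles {ι : Type*} {c : ComplexShape ι}
    (K : HomologicalComplex (ModuleCat.{u} A) c) (i j : ι) (hij : c.Rel i j) :
    Module.Flat A (K.X j ⧸ LinearMap.range (K.d i j).hom) ↔ Module.Flat A (K.opcycles j) :=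
  (Module.Flat.equiv_iff (opcyclesIsoQuot K i j hij).toLinearEquiv).symm

variable (PR : CochainComplex (ModuleCat.{u} A) ℤ)

lemma quot_chOf_flat_iff (i j κ : ℤ) (hκ : κ = -j) (hij : j + 1 = i) :
    Module.Flat A ((chOf PR).X j ⧸ LinearMap.range ((chOf PR).d i j).hom) ↔
      Module.Flat A (PR.opcycles κ) := by
  subst hκ hij
  exact flat_quot_iff_flat_opcycles PR (-(j + 1)) (-j) (by simp)

lemma chOf_fp (hfp : ∀ i, Module.Finite A (PR.X i) ∧ Module.Projective A (PR.X i)) :
    ∀ i, Module.Finite A ((chOf PR).X i) ∧ Module.Projective A ((chOf PR).X i) :=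
  fun i => hfp (-i)

lemma dRank_chOf' (p : ℤ) (q : PrimeSpectrum A) : CohIII.dRank (chOf PR) (-p) q = cb PR p q := by
  rw [dRank_chOf, neg_neg]

/-- **ring level**: flat cokernels of `d^{p-1}`, `d^p` give a locally constant `p`-th Betti
number -/
theorem cb_locallyConstant_of_flat
    (hfp : ∀ i, Module.Finite A (PR.X i) ∧ Module.Projective A (PR.X i)) (p : ℤ)
    (h1 : Module.Flat A (PR.opcycles p)) (h2 : Module.Flat A (PR.opcycles (p + 1))) :
    IsLocallyConstant (cb PR p) := by
  have h := dRank_locallyConstant_of_flat (chOf PR) (chOf_fp PR hfp) (-p)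
    ((quot_chOf_flat_iff PR (-p + 1) (-p) p (by simp) rfl).2 h1)
    ((quot_chOf_flat_iff PR (-p) (-p - 1) (p + 1) (by ring) (by ring)).2 h2)
  have e : cb PR p = CohIII.dRank (chOf PR) (-p) := funext fun q => (dRank_chOf' PR p q).symm
  rw [e]
  exact h

/-- **ring level, reduced case**: a locally constant `p`-th Betti number gives flat cokernels of
`d^{p-1}`, `d^p` -/
theorem flat_of_cb_locallyConstant [IsReduced A]
    (hfp : ∀ i, Module.Finite A (PR.X i) ∧ Module.Projective A (PR.X i)) (p : ℤ)
    (h : IsLocallyConstant (cb PR p)) :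
    Module.Flat A (PR.opcycles p) ∧ Module.Flat A (PR.opcycles (p + 1)) := by
  have e : cb PR p = CohIII.dRank (chOf PR) (-p) := funext fun q => (dRank_chOf' PR p q).symm
  rw [e] at h
  obtain ⟨h1, h2⟩ := flat_of_dRank_locallyConstant (chOf PR) (chOf_fp PR hfp) (-p) h
  exact ⟨(quot_chOf_flat_iff PR (-p + 1) (-p) p (by simp) rfl).1 h1,
    (quot_chOf_flat_iff PR (-p) (-p - 1) (p + 1) (by ring) (by ring)).1 h2⟩

end cochain

section homology

variable (PR : CochainComplex (ModuleCat.{u} A) ℤ)

lemma projective_opcycles (hfp : ∀ i, Module.Finite A (PR.X i) ∧ Module.Projective A (PR.X i))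
    (κ : ℤ) (h : Module.Flat A (PR.opcycles κ)) : Module.Projective A (PR.opcycles κ) := by
  have := fun i => (hfp i).1
  have := fun i => (hfp i).2
  have hrel : (ComplexShape.up ℤ).Rel (κ - 1) κ := by simp
  haveI : Module.Flat A (PR.X κ ⧸ LinearMap.range (PR.d (κ - 1) κ).hom) :=
    (flat_quot_iff_flat_opcycles PR (κ - 1) κ hrel).2 h
  haveI := projective_quot_range (PR.d (κ - 1) κ).hom
  exact Module.Projective.of_equiv (opcyclesIsoQuot PR (κ - 1) κ hrel).toLinearEquiv.symm

lemma finite_opcycles (hfp : ∀ i, Module.Finite A (PR.X i) ∧ Module.Projective A (PR.X i))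
    (κ : ℤ) : Module.Finite A (PR.opcycles κ) := by
  have := (hfp κ).1
  exact Module.Finite.of_surjective (PR.pOpcycles κ).hom
    ((ModuleCat.epi_iff_surjective _).1 inferInstance)

lemma range_fromOpcycles (p : ℤ) :
    LinearMap.range (PR.fromOpcycles p (p + 1)).hom = LinearMap.range (PR.d p (p + 1)).hom := by
  have h : PR.pOpcycles p ≫ PR.fromOpcycles p (p + 1) = PR.d p (p + 1) := PR.p_fromOpcycles p (p + 1)
  have hs : Function.Surjective (PR.pOpcycles p).hom :=
    (ModuleCat.epi_iff_surjective _).1 inferInstance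
  rw [← h, ModuleCat.hom_comp, LinearMap.range_comp, LinearMap.range_eq_top.2 hs, Submodule.map_top]

/-- **ring level**: with flat cokernels of `d^{p-1}` and `d^p`, the cohomology `H^p` is finite
projective -/
theorem finite_projective_homology
    (hfp : ∀ i, Module.Finite A (PR.X i) ∧ Module.Projective A (PR.X i)) (p : ℤ)
    (h1 : Module.Flat A (PR.opcycles p)) (h2 : Module.Flat A (PR.opcycles (p + 1))) :
    Module.Finite A (PR.homology p) ∧ Module.Projective A (PR.homology p) := by
  have := fun i => (hfp i).1
  have := fun i => (hfp i).2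
  haveI := finite_opcycles PR hfp p
  haveI := projective_opcycles PR hfp p h1
  haveI := projective_opcycles PR hfp (p + 1) h2
  have hrel : (ComplexShape.up ℤ).Rel p (p + 1) := by simp
  haveI : Module.Projective A
      (PR.X (p + 1) ⧸ LinearMap.range (PR.fromOpcycles p (p + 1)).hom) := by
    rw [range_fromOpcycles]
    exact Module.Projective.of_equiv (opcyclesIsoQuot PR p (p + 1) hrel).toLinearEquiv
  obtain ⟨hf, hpr⟩ := finite_projective_ker (PR.fromOpcycles p (p + 1)).hom
  let e : PR.homology p ≅ ModuleCat.of A (LinearMap.ker (PR.fromOpcycles p (p + 1)).hom) :=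
    (PR.homologyIsKernel p (p + 1) (by simp)).conePointUniqueUpToIso (limit.isLimit _) ≪≫
      ModuleCat.kernelIsoKer (PR.fromOpcycles p (p + 1))
  exact ⟨Module.Finite.equiv e.toLinearEquiv.symm, Module.Projective.of_equiv e.toLinearEquiv.symm⟩

end homology

end Groth.Agent.H4.TEx11
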