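import Mathlib
import Groth.Agent.H4.TEx10
import Groth.Agent.H4.TEx11
import Groth.Agent.H4.TilD4
import Groth.Agent.H4.PCS6

set_option autoImplicit false
universe u
open CategoryTheory Category Limits HomologicalComplex CochainComplex AlgebraicGeometry MonoidalCategory
attribute [local instance] HasDerivedCategory.standard

namespace Groth.Agent.H4.TEx12

open Groth.Agent.H4.TEx1 Groth.Agent.H4.TEx2 Groth.Agent.H4.TEx3 Groth.Agent.H4.TEx4
  Groth.Agent.H4.TEx5 Groth.Agent.H4.TEx6 Groth.Agent.H4.TEx7 Groth.Agent.H4.TEx8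
  Groth.Agent.H4.TEx9 Groth.Agent.H4.TEx10 Groth.Agent.H4.TEx11 Groth.Agent.H4.SPt6 Groth.Agent.H4.SPt4
  Groth.Agent.H4.LDS14 Groth.Agent.H4.LDS15 Groth.Agent.H4.LDS16 Groth.Agent.H4.LDS19 Groth.Agent.H4.LDS20
  Groth.Agent.H4.TilD9 Groth.Agent.H4.TilD10 Groth.Agent.H4.TilD11 Groth.Agent.H4.TilD2
  Groth.Agent.H4.PSch1 Groth.Agent.H4.PSch2
  Groth.Agent.H4.Betti1 Groth.Agent.H4.Betti2 Groth.Agent.H4.Betti3 Groth.Agent.H4.Betti4
  Groth.Agent.H4.FAmp3 Groth.Agent.LD.QC DerivedCategory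

variable {X : Scheme.{u}}

variable (F' F : CochainComplex X.Modules ℤ) (q : F' ⟶ F) (hq : QuasiIso q)
  (hskf : SKF F') (hF'f : ∀ i, FlatMod.IsFlat (F'.X i))

include hq hskf hF'f

/-- **affine-local finite projective model** of a `(p-1)`-pseudo-coherent complex, together with
the comparison of flatness of cokernels of differentials -/
theorem exists_affine_model (p : ℤ) (hE : DCoh.IsPseudoCoherentD (p - 1) (Q.obj F)) (x : X) :
    ∃ (R : Type u) (_ : CommRing R) (k : Spec (CommRingCat.of R) ⟶ X) (_ : IsOpenImmersion k)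
      (q₀ : Spec (CommRingCat.of R)) (PR : CochainComplex (ModuleCat.{u} R) ℤ)
      (α : Q.obj ((tildeCx (CommRingCat.of R)).obj PR) ⟶ (RD k).obj (Q.obj F)),
      k.base q₀ = x ∧ (∀ i, Module.Finite R (PR.X i) ∧ Module.Projective R (PR.X i)) ∧
      (∃ a b : ℤ, ∀ i, (i < a ∨ b < i) → IsZero (PR.X i)) ∧ IsWitD (p - 1) α ∧
      ∀ κ : ℤ, p - 1 < κ → (Module.Flat R (PR.opcycles κ) ↔
        ∀ w : Spec (CommRingCat.of R), FlatMod.IsFlatAt (F'.opcycles κ) (k.base w)) := by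
  obtain ⟨U, j, hj, P, α₀, ⟨u, rfl⟩, hP, hα₀⟩ := (isPseudoCoherentD_iff_pcAt _ (Q.obj F)).1 hE x
  obtain ⟨R, _, k, _, q₀, PR, α, hk, hfp, ⟨a, b, hz⟩, hα, -⟩ :=
    exists_affine_wit (p - 1) (Q.obj F) j P hP α₀ hα₀ u
  refine ⟨R, inferInstance, k, inferInstance, q₀, PR, α, hk, hfp, ⟨a, b, hz⟩, hα, ?_⟩
  intro κ hκ
  haveI : IsIso (Q.map q) := by rw [DerivedCategory.isIso_Q_map_iff_quasiIso]; exact hq
  haveI : IsIso ((RD k).map (Q.map q)) := inferInstance
  have hα' : IsWitD (p - 1) (α ≫ inv ((RD k).map (Q.map q))) := by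
    have := (isWitD_iso_comp (m := p - 1) (𝟙 _) α (inv ((RD k).map (Q.map q)))).2 hα
    simpa using this
  exact flat_opcycles_iff_affine F' hskf hF'f k PR hfp a b hz (p - 1) _ hα' κ hκ

variable [∀ x : X, DCoh.HasLpull (X.fromSpecResidueField x)]

/-- **local constancy of the `p`-th Betti number** from pointwise flatness of the cokernels of
`d^{p-1}` and `d^p` -/
theorem isLocallyConstant_betti_of_flat (p : ℤ)
    (hE : DCoh.IsPseudoCoherentD (p - 1) (Q.obj F))
    (h1 : ∀ y : X, FlatMod.IsFlatAt (F'.opcycles p) y)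
    (h2 : ∀ y : X, FlatMod.IsFlatAt (F'.opcycles (p + 1)) y) :
    IsLocallyConstant (fun x : X => PerfD.betti (Q.obj F) x p) := by
  rw [IsLocallyConstant.iff_eventually_eq]
  intro x
  obtain ⟨R, _, k, _, q₀, PR, α, hk, hfp, ⟨a, b, hz⟩, hα, hfl⟩ :=
    exists_affine_model F' F q hq hskf hF'f p hE x
  have hK : Groth.Agent.H4.TC4.KFlat PR := kflat_of_fp PR hfp a b hz
  have key : ∀ w : Spec (CommRingCat.of R), PerfD.betti (Q.obj F) (k.base w) p = cb PR p w :=
    fun w => betti_eq R k (Q.obj F) PR hK p α hα w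
  have hlc : IsLocallyConstant (cb PR p) :=
    cb_locallyConstant_of_flat PR hfp p ((hfl p (by omega)).2 fun w => h1 _)
      ((hfl (p + 1) (by omega)).2 fun w => h2 _)
  have hopen : IsOpen (k.base '' {w | cb PR p w = cb PR p q₀}) :=
    k.isOpenEmbedding.isOpenMap _ (hlc.isOpen_fiber _)
  have hmem : x ∈ k.base '' {w | cb PR p w = cb PR p q₀} := ⟨q₀, rfl, hk⟩
  filter_upwards [hopen.mem_nhds hmem] with y hy
  obtain ⟨w, hw, rfl⟩ := hy
  rw [← hk, key, key]
  exact hw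

omit [∀ x : X, DCoh.HasLpull (X.fromSpecResidueField x)] in
/-- **finite local freeness of `H^p`** from pointwise flatness of the cokernels of
`d^{p-1}` and `d^p` -/
theorem isFinLocFree_HD_of_flat (p : ℤ)
    (hE : DCoh.IsPseudoCoherentD (p - 1) (Q.obj F))
    (h1 : ∀ y : X, FlatMod.IsFlatAt (F'.opcycles p) y)
    (h2 : ∀ y : X, FlatMod.IsFlatAt (F'.opcycles (p + 1)) y) :
    FlatMod.IsFinLocFree (DCoh.HD (Q.obj F) p) := by
  apply Groth.Agent.H4.PCS6.isFinLocFree_of_local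
  intro x
  obtain ⟨R, _, k, _, q₀, PR, α, hk, hfp, ⟨a, b, hz⟩, hα, hfl⟩ :=
    exists_affine_model F' F q hq hskf hF'f p hE x
  refine ⟨_, k, inferInstance, ⟨q₀, hk⟩, ?_⟩
  obtain ⟨hfin, hproj⟩ := finite_projective_homology PR hfp p
    ((hfl p (by omega)).2 fun w => h1 _) ((hfl (p + 1) (by omega)).2 fun w => h2 _)
  haveI : IsIso ((homologyFunctor _ p).map α) := hα.1 p (by omega)
  let e1 : DCoh.HD ((RD k).obj (Q.obj F)) p ≅ (DCoh.HD (Q.obj F) p).restrict k :=
    (mapDerivedCategoryHomologyIso (Scheme.Modules.restrictFunctor k) p).app (Q.obj F)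
  let e2 : DCoh.HD (Q.obj ((tildeCx (CommRingCat.of R)).obj PR)) p ≅
      DCoh.HD ((RD k).obj (Q.obj F)) p := asIso ((homologyFunctor _ p).map α)
  let e3 := hdTildeIso (CommRingCat.of R) PR p
  exact isFinLocFree_of_iso (e3.symm ≪≫ e2 ≪≫ e1)
    (Groth.Agent.H4.TilD4.isFinLocFree_tilde (CommRingCat.of R) (PR.homology p))

/-- **reduced case**: a locally constant `p`-th Betti number gives pointwise flatness of the
cokernels of `d^{p-1}` and `d^p` -/
theorem isFlatAt_of_isLocallyConstant_betti [IsReduced X] (p : ℤ)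
    (hE : DCoh.IsPseudoCoherentD (p - 1) (Q.obj F))
    (hc : IsLocallyConstant (fun x : X => PerfD.betti (Q.obj F) x p)) (y : X) :
    FlatMod.IsFlatAt (F'.opcycles p) y ∧ FlatMod.IsFlatAt (F'.opcycles (p + 1)) y := by
  obtain ⟨R, _, k, _, q₀, PR, α, hk, hfp, ⟨a, b, hz⟩, hα, hfl⟩ :=
    exists_affine_model F' F q hq hskf hF'f p hE y
  have hK : Groth.Agent.H4.TC4.KFlat PR := kflat_of_fp PR hfp a b hz
  have key : ∀ w : Spec (CommRingCat.of R), PerfD.betti (Q.obj F) (k.base w) p = cb PR p w :=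
    fun w => betti_eq R k (Q.obj F) PR hK p α hα w
  have hlc : IsLocallyConstant (cb PR p) := by
    have h := hc.comp_continuous k.base.hom.continuous
    have e : cb PR p = (fun x : X => PerfD.betti (Q.obj F) x p) ∘ k.base :=
      funext fun w => (key w).symm
    rw [e]
    exact h
  haveI : IsReduced (Spec (CommRingCat.of R)) := isReduced_of_isOpenImmersion k
  haveI : _root_.IsReduced R := by
    have : _root_.IsReduced (CommRingCat.of R) := (affine_isReduced_iff _).1 inferInstance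
    exact this
  obtain ⟨f1, f2⟩ := flat_of_cb_locallyConstant PR hfp p hlc
  rw [← hk]
  exact ⟨(hfl p (by omega)).1 f1 q₀, (hfl (p + 1) (by omega)).1 f2 q₀⟩

end Groth.Agent.H4.TEx12
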