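import Mathlib
import Groth.Prelude.Def_QCohCat
import Groth.Agent.Lib.Lead.QC.Closure
import Groth.Agent.H4.TEx12

set_option autoImplicit false
universe u
open CategoryTheory Category Limits HomologicalComplex CochainComplex AlgebraicGeometry MonoidalCategory
attribute [local instance] HasDerivedCategory.standard

namespace Groth.Agent.H4.TEx13

open Groth.Agent.LD.QC

variable (X : Scheme.{u})

instance : (QCohCat.isQCoh X).IsClosedUnderIsomorphisms where
  of_iso e h := qc_of_iso e h

lemma isClosedUnderLimitsOfShape_isQCoh (J : Type) [SmallCategory J] [FinCategory J] :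
    (QCohCat.isQCoh X).IsClosedUnderLimitsOfShape J where
  limitsOfShape_le := by
    rintro M ⟨h⟩
    have h1 : (limit h.diag).IsQuasicoherent := qc_limit h.diag h.prop_diag_obj
    exact qc_of_iso (h.isLimit.conePointUniqueUpToIso (limit.isLimit _)).symm h1

lemma isClosedUnderColimitsOfShape_isQCoh (J : Type) [SmallCategory J] [FinCategory J] :
    (QCohCat.isQCoh X).IsClosedUnderColimitsOfShape J where
  colimitsOfShape_le := by
    rintro M ⟨h⟩
    have h1 : (colimit h.diag).IsQuasicoherent := qc_finColimit h.diag h.prop_diag_obj
    exact qc_of_iso (h.isColimit.coconePointUniqueUpToIso (colimit.isColimit _)).symm h1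

instance preservesFiniteLimits_ι_isQCoh : PreservesFiniteLimits (QCohCat.isQCoh X).ι where
  preservesFiniteLimits J _ _ := by
    haveI := isClosedUnderLimitsOfShape_isQCoh X J
    infer_instance

instance preservesFiniteColimits_ι_isQCoh : PreservesFiniteColimits (QCohCat.isQCoh X).ι where
  preservesFiniteColimits J _ _ := by
    haveI := isClosedUnderColimitsOfShape_isQCoh X J
    infer_instance

end Groth.Agent.H4.TEx13
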