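import Mathlib

set_option autoImplicit false
open CategoryTheory Category Limits

namespace Groth.Agent.H4.TEx14

variable {𝒜 ℬ : Type*} [Category 𝒜] [Category ℬ] [Abelian 𝒜] [Abelian ℬ]
  (st : 𝒜 ⥤ ℬ) [st.PreservesMonomorphisms] [st.PreservesEpimorphisms]
  (G : 𝒜 ⥤ 𝒜) (T : ℬ ⥤ ℬ) (σ : G ⋙ st ≅ st ⋙ T)
  (S : ℬ ⥤ 𝒜) (θ : S ⋙ st ≅ 𝟭 ℬ)
  (P : ObjectProperty 𝒜) (hS : ∀ N, P (S.obj N))
  (hI : ∀ ⦃M M' : 𝒜⦄ (φ : M ⟶ M'), P M → P M' → P (Abelian.image φ))

lemma mono_iff_of_arrow_iso {C : Type*} [Category C] {A B A' B' : C} (f : A ⟶ B) (f' : A' ⟶ B')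
    (a : A ≅ A') (b : B ≅ B') (h : f ≫ b.hom = a.hom ≫ f') : Mono f ↔ Mono f' :=
  (MorphismProperty.monomorphisms C).arrow_mk_iso_iff (Arrow.isoMk a b h.symm)

lemma epi_iff_of_arrow_iso {C : Type*} [Category C] {A B A' B' : C} (f : A ⟶ B) (f' : A' ⟶ B')
    (a : A ≅ A') (b : B ≅ B') (h : f ≫ b.hom = a.hom ≫ f') : Epi f ↔ Epi f' :=
  (MorphismProperty.epimorphisms C).arrow_mk_iso_iff (Arrow.isoMk a b h.symm)

include σ θ hS hI

/-- **transfer of mono-preservation to the stalk**: if `G` preserves monomorphisms between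
`P`-objects, every object of `ℬ` is naturally the "stalk" of a `P`-object and `P` is closed under
images, then `T` preserves monomorphisms -/
theorem mono_map_of_realization
    (hG : ∀ ⦃M M' : 𝒜⦄ (φ : M ⟶ M'), P M → P M' → Mono φ → Mono (G.map φ))
    {N₁ N₂ : ℬ} (f : N₁ ⟶ N₂) [Mono f] : Mono (T.map f) := by
  let φ := S.map f
  let e' := Abelian.factorThruImage φ
  let m := Abelian.image.ι φ
  have hfac : e' ≫ m = φ := Abelian.image.fac φ
  -- the stalk of `φ` is `f`
  have hφ : Mono (st.map φ) :=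
    (mono_iff_of_arrow_iso (st.map φ) f (θ.app N₁) (θ.app N₂) (θ.hom.naturality f)).2 inferInstance
  have hfac' : st.map e' ≫ st.map m = st.map φ := by rw [← st.map_comp, hfac]
  haveI : Mono (st.map e') := by
    haveI : Mono (st.map e' ≫ st.map m) := by rw [hfac']; exact hφ
    exact mono_of_mono (st.map e') (st.map m)
  haveI : Epi (st.map e') := inferInstance
  haveI : IsIso (st.map e') := isIso_of_mono_of_epi _
  -- `G m` is a monomorphism
  have hGm : Mono (G.map m) := hG m (hI φ (hS _) (hS _)) (hS _) inferInstance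
  haveI : Mono (st.map (G.map m)) := inferInstance
  have hTm : Mono (T.map (st.map m)) :=
    (mono_iff_of_arrow_iso (st.map (G.map m)) (T.map (st.map m)) (σ.app _) (σ.app _)
      (σ.hom.naturality m)).1 inferInstance
  have hTφ : Mono (T.map (st.map φ)) := by
    rw [← hfac', T.map_comp]
    haveI := hTm
    infer_instance
  exact (mono_iff_of_arrow_iso (T.map (st.map φ)) (T.map f) (T.mapIso (θ.app N₁))
    (T.mapIso (θ.app N₂)) (by
      simp only [Functor.mapIso_hom, ← T.map_comp]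
      congr 1
      exact θ.hom.naturality f)).1 hTφ

/-- **transfer of epi-preservation to the stalk** -/
theorem epi_map_of_realization
    (hG : ∀ ⦃M M' : 𝒜⦄ (φ : M ⟶ M'), P M → P M' → Epi φ → Epi (G.map φ))
    {N₁ N₂ : ℬ} (f : N₁ ⟶ N₂) [Epi f] : Epi (T.map f) := by
  let φ := S.map f
  let e' := Abelian.factorThruImage φ
  let m := Abelian.image.ι φ
  have hfac : e' ≫ m = φ := Abelian.image.fac φ
  have hφ : Epi (st.map φ) :=
    (epi_iff_of_arrow_iso (st.map φ) f (θ.app N₁) (θ.app N₂) (θ.hom.naturality f)).2 inferInstance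
  have hfac' : st.map e' ≫ st.map m = st.map φ := by rw [← st.map_comp, hfac]
  haveI : Epi (st.map m) := by
    haveI : Epi (st.map e' ≫ st.map m) := by rw [hfac']; exact hφ
    exact epi_of_epi (st.map e') (st.map m)
  haveI : Mono (st.map m) := inferInstance
  haveI : IsIso (st.map m) := isIso_of_mono_of_epi _
  have hGe : Epi (G.map e') := hG e' (hS _) (hI φ (hS _) (hS _)) inferInstance
  haveI : Epi (st.map (G.map e')) := inferInstance
  have hTe : Epi (T.map (st.map e')) :=
    (epi_iff_of_arrow_iso (st.map (G.map e')) (T.map (st.map e')) (σ.app _) (σ.app _)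
      (σ.hom.naturality e')).1 inferInstance
  have hTφ : Epi (T.map (st.map φ)) := by
    rw [← hfac', T.map_comp]
    haveI := hTe
    infer_instance
  exact (epi_iff_of_arrow_iso (T.map (st.map φ)) (T.map f) (T.mapIso (θ.app N₁))
    (T.mapIso (θ.app N₂)) (by
      simp only [Functor.mapIso_hom, ← T.map_comp]
      congr 1
      exact θ.hom.naturality f)).1 hTφ

end Groth.Agent.H4.TEx14
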