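import Mathlib
import Groth.Agent.H4.RelTor12
import Groth.Agent.H4.TEx14
import Groth.Agent.H4.TEx13
import Groth.Agent.H4.TEx9

set_option autoImplicit false
universe u
open CategoryTheory Category Limits AlgebraicGeometry MonoidalCategory
attribute [local instance] HasDerivedCategory.standard

namespace Groth.Agent.H4.TEx15

open Groth.Agent.H4.LDS21 Groth.Agent.H4.SPt5 Groth.Agent.H4.RelTor4 Groth.Agent.H4.RelTor8
  Groth.Agent.H4.RelTor12

section L1

variable {X : Scheme.{u}} (R : CommRingCat.{u}) (j : Spec (CommRingCat.of R) ⟶ X)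
  [IsOpenImmersion j] (u : Spec (CommRingCat.of R))

/-- the realization functor: a module over the local ring at `j u` gives a module on `X` -/
noncomputable def realize : ModuleCat.{u} (X.presheaf.stalk (j.base u)) ⥤ X.Modules :=
  (ModuleCat.restrictScalarsEquivalenceOfRingEquiv (stalkEquiv R j u)).inverse ⋙
    ModuleCat.restrictScalars.{u} (ψ R u) ⋙ tilde.functor R ⋙ Scheme.Modules.pushforward j

lemma isQuasicoherent_realize [QuasiCompact j] [QuasiSeparated j]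
    (M : ModuleCat.{u} (X.presheaf.stalk (j.base u))) :
    ((realize R j u).obj M).IsQuasicoherent :=
  Groth.Agent.LD.QC.qc_pushforward j _

/-- the counit of extension/restriction of scalars along a localization, as an isomorphism -/
noncomputable def extResIso :
    ModuleCat.restrictScalars.{u} (ψ R u) ⋙ ModuleCat.extendScalars.{u,u,u} (ψ R u) ≅ 𝟭 _ :=
  haveI : ∀ M, IsIso ((ModuleCat.extendRestrictScalarsAdj.{u,u,u} (ψ R u)).counit.app M) :=
    fun M => isIso_counit_of_isLocalization (ψ R u) _ (isLocalization_ψ R u) M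
  haveI : IsIso (ModuleCat.extendRestrictScalarsAdj.{u,u,u} (ψ R u)).counit :=
    NatIso.isIso_of_isIso_app _
  asIso (ModuleCat.extendRestrictScalarsAdj.{u,u,u} (ψ R u)).counit

/-- pushing forward then pulling back along an open immersion -/
noncomputable def pushPullIso :
    Scheme.Modules.pushforward j ⋙ Scheme.Modules.pullback j ≅ 𝟭 _ :=
  Functor.isoWhiskerLeft _ (Scheme.Modules.restrictFunctorIsoPullback j).symm ≪≫
    Scheme.Modules.restrictFunctorAdjCounitIso j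

/-- the unit of extension/restriction along the ring isomorphism of stalks -/
noncomputable def unitEIso :
    𝟭 (ModuleCat.{u} (X.presheaf.stalk (j.base u))) ≅
      ModuleCat.extendScalars.{u,u,u} (stalkEquiv R j u).toRingHom ⋙
        ModuleCat.restrictScalars.{u} (stalkEquiv R j u).toRingHom :=
  haveI : (ModuleCat.restrictScalars.{u} (stalkEquiv R j u).toRingHom).IsEquivalence :=
    ModuleCat.restrictScalars_isEquivalence_of_ringEquiv (stalkEquiv R j u)
  haveI : IsIso (ModuleCat.extendRestrictScalarsAdj.{u,u,u} (stalkEquiv R j u).toRingHom).unit :=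
    inferInstance
  asIso (ModuleCat.extendRestrictScalarsAdj.{u,u,u} (stalkEquiv R j u).toRingHom).unit

/-- **the stalk of the realization is the module one started with**, naturally -/
noncomputable def realizeStalkIso :
    realize R j u ⋙ DerSch.stalkFunctor X (j.base u) ≅ 𝟭 _ :=
  let E := (ModuleCat.restrictScalarsEquivalenceOfRingEquiv (stalkEquiv R j u)).inverse
  let Rψ := ModuleCat.restrictScalars.{u} (ψ R u)
  let Xψ := ModuleCat.extendScalars.{u,u,u} (ψ R u)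
  let Til := tilde.functor R
  let Pu := Scheme.Modules.pushforward j
  let Pb := Scheme.Modules.pullback j
  let St := DerSch.stalkFunctor X (j.base u)
  let St' := DerSch.stalkFunctor (Spec (CommRingCat.of R)) u
  let Xe := ModuleCat.extendScalars.{u,u,u} (stalkEquiv R j u).toRingHom
  let Re := ModuleCat.restrictScalars.{u} (stalkEquiv R j u).toRingHom
  let s1 : (E ⋙ Rψ ⋙ Til ⋙ Pu) ⋙ St ≅ (E ⋙ Rψ ⋙ Til ⋙ Pu) ⋙ St ⋙ Xe ⋙ Re :=
    Functor.isoWhiskerLeft (E ⋙ Rψ ⋙ Til ⋙ Pu)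
      ((Functor.rightUnitor St).symm ≪≫ Functor.isoWhiskerLeft St (unitEIso R j u))
  let s2 : St ⋙ Xe ≅ Pb ⋙ St' := (stalkPullbackIso j u).symm
  let s2' : (E ⋙ Rψ ⋙ Til ⋙ Pu) ⋙ St ⋙ Xe ⋙ Re ≅ (E ⋙ Rψ ⋙ Til ⋙ Pu) ⋙ Pb ⋙ St' ⋙ Re :=
    Functor.isoWhiskerLeft (E ⋙ Rψ ⋙ Til ⋙ Pu)
      ((Functor.associator St Xe Re).symm ≪≫ Functor.isoWhiskerRight s2 Re ≪≫
        Functor.associator Pb St' Re)
  let s3 : (E ⋙ Rψ ⋙ Til ⋙ Pu) ⋙ Pb ⋙ St' ⋙ Re ≅ (E ⋙ Rψ ⋙ Til) ⋙ St' ⋙ Re :=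
    Functor.associator (E ⋙ Rψ ⋙ Til) Pu (Pb ⋙ St' ⋙ Re) ≪≫
      Functor.isoWhiskerLeft (E ⋙ Rψ ⋙ Til)
        ((Functor.associator Pu Pb (St' ⋙ Re)).symm ≪≫
          Functor.isoWhiskerRight (pushPullIso R j) (St' ⋙ Re) ≪≫ Functor.leftUnitor _)
  let s4 : (E ⋙ Rψ ⋙ Til) ⋙ St' ⋙ Re ≅ (E ⋙ Rψ) ⋙ Xψ ⋙ Re :=
    Functor.associator (E ⋙ Rψ) Til (St' ⋙ Re) ≪≫
      Functor.isoWhiskerLeft (E ⋙ Rψ)
        ((Functor.associator Til St' Re).symm ≪≫
          Functor.isoWhiskerRight (tildeStalkIso R u) Re)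
  let s5 : (E ⋙ Rψ) ⋙ Xψ ⋙ Re ≅ E ⋙ Re :=
    Functor.associator E Rψ (Xψ ⋙ Re) ≪≫
      Functor.isoWhiskerLeft E
        ((Functor.associator Rψ Xψ Re).symm ≪≫
          Functor.isoWhiskerRight (extResIso R u) Re ≪≫ Functor.leftUnitor _)
  let s6 : E ⋙ Re ≅ 𝟭 _ :=
    (ModuleCat.restrictScalarsEquivalenceOfRingEquiv (stalkEquiv R j u)).counitIso
  s1 ≪≫ s2' ≪≫ s3 ≪≫ s4 ≪≫ s5 ≪≫ s6

end L1

section Main

open Groth.Agent.H4.TEx1 Groth.Agent.H4.TEx2 Groth.Agent.H4.TEx3 Groth.Agent.H4.TEx4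
  Groth.Agent.H4.TEx5 Groth.Agent.H4.TEx6 Groth.Agent.H4.TEx14 Groth.Agent.H4.SPt6
  Groth.Agent.H4.LDS14 Groth.Agent.H4.LDS19 Groth.Agent.LD.QC

variable {X : Scheme.{u}}

/-- `G` preserves monomorphisms between quasi-coherent modules -/
def PMqc (G : X.Modules ⥤ X.Modules) : Prop :=
  ∀ ⦃M M' : X.Modules⦄ (φ : M ⟶ M'), QCohCat.isQCoh X M → QCohCat.isQCoh X M' → Mono φ →
    Mono (G.map φ)

/-- `G` preserves epimorphisms between quasi-coherent modules -/
def PEqc (G : X.Modules ⥤ X.Modules) : Prop :=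
  ∀ ⦃M M' : X.Modules⦄ (φ : M ⟶ M'), QCohCat.isQCoh X M → QCohCat.isQCoh X M' → Epi φ →
    Epi (G.map φ)

lemma isQCoh_image {M M' : X.Modules} (φ : M ⟶ M') (hM : QCohCat.isQCoh X M)
    (hM' : QCohCat.isQCoh X M') : QCohCat.isQCoh X (Abelian.image φ) :=
  qc_kernel _ hM' (qc_cokernel φ hM hM')

lemma PMqc.of_iso {G G' : X.Modules ⥤ X.Modules} (e : G ≅ G') (h : PMqc G) : PMqc G' :=
  fun M M' φ hM hM' hφ =>
    (mono_iff_of_arrow_iso (G.map φ) (G'.map φ) (e.app M) (e.app M') (e.hom.naturality φ)).1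
      (h φ hM hM' hφ)

lemma PEqc.of_iso {G G' : X.Modules ⥤ X.Modules} (e : G ≅ G') (h : PEqc G) : PEqc G' :=
  fun M M' φ hM hM' hφ =>
    (epi_iff_of_arrow_iso (G.map φ) (G'.map φ) (e.app M) (e.app M') (e.hom.naturality φ)).1
      (h φ hM hM' hφ)

lemma pmqc_of_pfl (G : X.Modules ⥤ X.Modules)
    [PreservesFiniteLimits ((QCohCat.isQCoh X).ι ⋙ G)] : PMqc G := by
  intro M M' φ hM hM' hφ
  let φq : (⟨M, hM⟩ : (QCohCat.isQCoh X).FullSubcategory) ⟶ ⟨M', hM'⟩ :=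
    (QCohCat.isQCoh X).homMk φ
  haveI : Mono ((QCohCat.isQCoh X).ι.map φq) := hφ
  haveI : Mono φq := (QCohCat.isQCoh X).ι.mono_of_mono_map inferInstance
  have : Mono (((QCohCat.isQCoh X).ι ⋙ G).map φq) := inferInstance
  exact this

lemma peqc_of_pfc (G : X.Modules ⥤ X.Modules)
    [PreservesFiniteColimits ((QCohCat.isQCoh X).ι ⋙ G)] : PEqc G := by
  intro M M' φ hM hM' hφ
  let φq : (⟨M, hM⟩ : (QCohCat.isQCoh X).FullSubcategory) ⟶ ⟨M', hM'⟩ :=
    (QCohCat.isQCoh X).homMk φ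
  haveI : Epi ((QCohCat.isQCoh X).ι.map φq) := hφ
  haveI : Epi φq := (QCohCat.isQCoh X).ι.epi_of_epi_map inferInstance
  have : Epi (((QCohCat.isQCoh X).ι ⋙ G).map φq) := inferInstance
  exact this

variable [QuasiSeparatedSpace X] (F' : CochainComplex X.Modules ℤ)
  (hF'f : ∀ i, FlatMod.IsFlat (F'.X i)) (k : ℤ)

include hF'f

theorem isFlatAt_of_pmqc (h : PMqc (HΦ (Psi (DCoh.tensorBi (X := X)) F') k)) (x : X) :
    FlatMod.IsFlatAt (F'.opcycles k) x := by
  obtain ⟨U, hU, hxU, -⟩ := exists_isAffineOpen_mem_and_subset (X := X) (x := x) (U := ⊤) trivial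
  obtain ⟨u, rfl⟩ : ∃ u, hU.fromSpec.base u = x := by
    have h : x ∈ Set.range hU.fromSpec.base := by rw [hU.range_fromSpec]; exact hxU
    exact h
  rw [← flat_opcycles_stalk_iff,
    ← pfl_iff_flat_opcycles ((stalkCx (hU.fromSpec.base u)).obj F')
      (fun i => hF'f i (hU.fromSpec.base u)),
    pfl_iff_preservesMono (exactCx_PsiR ((stalkCx (hU.fromSpec.base u)).obj F') (fun i => hF'f i (hU.fromSpec.base u)))]
  intro N₁ N₂ f hf
  haveI := hf
  exact mono_map_of_realization (DerSch.stalkFunctor X (hU.fromSpec.base u))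
    (HΦ (Psi (DCoh.tensorBi (X := X)) F') k) _ (hΦStalkIso (hU.fromSpec.base u) F' k)
    (realize Γ(X, U) hU.fromSpec u) (realizeStalkIso Γ(X, U) hU.fromSpec u)
    (QCohCat.isQCoh X) (fun N => isQuasicoherent_realize Γ(X, U) hU.fromSpec u N)
    (fun M M' φ hM hM' => isQCoh_image φ hM hM') h f

theorem isFlatAt_of_peqc (h : PEqc (HΦ (Psi (DCoh.tensorBi (X := X)) F') k)) (x : X) :
    FlatMod.IsFlatAt (F'.opcycles (k + 1)) x := by
  obtain ⟨U, hU, hxU, -⟩ := exists_isAffineOpen_mem_and_subset (X := X) (x := x) (U := ⊤) trivial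
  obtain ⟨u, rfl⟩ : ∃ u, hU.fromSpec.base u = x := by
    have h : x ∈ Set.range hU.fromSpec.base := by rw [hU.range_fromSpec]; exact hxU
    exact h
  rw [← flat_opcycles_stalk_iff,
    ← pfl_iff_flat_opcycles ((stalkCx (hU.fromSpec.base u)).obj F')
      (fun i => hF'f i (hU.fromSpec.base u)),
    ← pfc_iff_pfl_succ_PsiR ((stalkCx (hU.fromSpec.base u)).obj F')
      (fun i => hF'f i (hU.fromSpec.base u)),
    pfc_iff_preservesEpi (exactCx_PsiR ((stalkCx (hU.fromSpec.base u)).obj F') (fun i => hF'f i (hU.fromSpec.base u)))]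
  intro N₁ N₂ f hf
  haveI := hf
  exact epi_map_of_realization (DerSch.stalkFunctor X (hU.fromSpec.base u))
    (HΦ (Psi (DCoh.tensorBi (X := X)) F') k) _ (hΦStalkIso (hU.fromSpec.base u) F' k)
    (realize Γ(X, U) hU.fromSpec u) (realizeStalkIso Γ(X, U) hU.fromSpec u)
    (QCohCat.isQCoh X) (fun N => isQuasicoherent_realize Γ(X, U) hU.fromSpec u N)
    (fun M M' φ hM hM' => isQCoh_image φ hM hM') h f

end Main

end Groth.Agent.H4.TEx15
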