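import Mathlib
set_option autoImplicit false
universe u
open TensorProduct

namespace Groth.Agent.H4.TFDual2


/-- A finite module over a domain has, up to a nonzero scalar `c`, a finite "dual basis". -/
theorem exists_dual_frame' (R : Type u) [CommRing R] [IsDomain R] (M : Type u)
    [AddCommGroup M] [Module R M] [Module.Finite R M] :
    ∃ (ι : Type u) (_ : Fintype ι) (m : ι → M) (l : ι → Module.Dual R M) (c : R), c ≠ 0 ∧
      LinearIndependent R m ∧ Fintype.card ι = Module.finrank R M ∧
      ∀ x : M, c • x = ∑ i, l i x • m i := by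
  classical
  let K := FractionRing R
  let V := LocalizedModule (nonZeroDivisors R) M
  let φ : M →ₗ[R] V := LocalizedModule.mkLinearMap (nonZeroDivisors R) M
  haveI : Module.Finite K V := Module.Finite.of_isLocalizedModule (nonZeroDivisors R) φ
  have hspan : (⊤ : Submodule K V) ≤ Submodule.span K (Set.range φ) := by
    have := span_eq_top_of_isLocalizedModule K (nonZeroDivisors R) φ
      (v := Set.univ) (by simp)
    rw [Set.image_univ] at this
    exact this.ge
  let b := Module.Basis.ofSpan hspan
  let ι := ((linearIndepOn_empty K id).extend (Set.empty_subset (Set.range φ)))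
  haveI : Fintype ι := FiniteDimensional.fintypeBasisIndex b
  have hb : ∀ i : ι, ∃ m : M, φ m = b i := fun i =>
    Module.Basis.ofSpan_subset hspan ⟨i, rfl⟩
  choose m hm using hb
  have hli : LinearIndependent R m := by
    have h1 : LinearIndependent K (φ ∘ m) := by
      have : φ ∘ m = b := funext hm
      rw [this]; exact b.linearIndependent
    have h2 : LinearIndependent R (φ ∘ m) :=
      h1.restrict_scalars (by
        intro r s h
        have : algebraMap R K r = algebraMap R K s := by
          simpa [Algebra.smul_def] using h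
        exact IsFractionRing.injective R K this)
    exact h2.of_comp φ
  let F : Submodule R M := Submodule.span R (Set.range m)
  obtain ⟨s, hs⟩ := (Module.Finite.fg_top : (⊤ : Submodule R M).FG)
  -- each generator has a nonzero multiple in F
  have hgen : ∀ g : M, ∃ c : R, c ≠ 0 ∧ c • g ∈ F := by
    intro g
    obtain ⟨d, hd⟩ := IsLocalization.exist_integer_multiples (nonZeroDivisors R)
      (Finset.univ : Finset ι) (fun i => b.coord i (φ g))
    have hd0 : (d : R) ≠ 0 := nonZeroDivisors.coe_ne_zero d
    have : ∀ i : ι, ∃ r : R, algebraMap R K r = (d : R) • b.coord i (φ g) := fun i =>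
      hd i (Finset.mem_univ i)
    choose r hr using this
    have h1 : φ ((d : R) • g) = φ (∑ i, r i • m i) := by
      rw [map_smul, map_sum]
      conv_lhs => rw [← b.sum_repr (φ g)]
      rw [Finset.smul_sum]
      refine Finset.sum_congr rfl (fun i _ => ?_)
      rw [map_smul, hm i, ← algebraMap_smul K (r i) (b i), hr i, smul_assoc]
      rfl
    obtain ⟨c', hc'⟩ := (IsLocalizedModule.eq_iff_exists (nonZeroDivisors R) φ).mp h1
    have hc0 : (c' : R) ≠ 0 := nonZeroDivisors.coe_ne_zero c'
    refine ⟨(c' : R) * (d : R), mul_ne_zero hc0 hd0, ?_⟩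
    have hc'' : (c' : R) • (d : R) • g = (c' : R) • ∑ i, r i • m i := hc'
    rw [mul_smul, hc'']
    refine Submodule.smul_mem _ _ (Submodule.sum_mem _ (fun i _ => ?_))
    exact Submodule.smul_mem _ _ (Submodule.subset_span ⟨i, rfl⟩)
  choose cg hcg0 hcg using hgen
  let c : R := ∏ g ∈ s, cg g
  have hc0 : c ≠ 0 := Finset.prod_ne_zero_iff.mpr (fun g _ => hcg0 g)
  have hcF : ∀ x : M, c • x ∈ F := by
    intro x
    have hx : x ∈ Submodule.span R (s : Set M) := by rw [hs]; trivial
    refine Submodule.span_induction (fun g hg => ?_) ?_ (fun x y _ _ hx hy => ?_)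
      (fun a x _ hx => ?_) hx
    · have : c = (∏ g' ∈ s.erase g, cg g') * cg g := by
        rw [Finset.prod_erase_mul _ _ hg]
      rw [this, mul_smul]
      exact Submodule.smul_mem _ _ (hcg g)
    · simp
    · rw [smul_add]; exact Submodule.add_mem _ hx hy
    · rw [smul_comm]; exact Submodule.smul_mem _ _ hx
  let κ : M →ₗ[R] F := (c • (LinearMap.id : M →ₗ[R] M)).codRestrict F hcF
  let l : ι → Module.Dual R M := fun i => (Finsupp.lapply i) ∘ₗ hli.repr ∘ₗ κ
  have hcard : Fintype.card ι = Module.finrank R M := by
    rw [← Module.finrank_eq_card_basis b,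
      IsLocalization.finrank_eq K (nonZeroDivisors R) le_rfl,
      IsLocalizedModule.finrank_eq (nonZeroDivisors R) φ le_rfl]
  refine ⟨ι, inferInstance, m, l, c, hc0, hli, hcard, fun x => ?_⟩
  have h1 := hli.linearCombination_repr (κ x)
  have h2 : ((κ x : F) : M) = c • x := rfl
  rw [← h2, ← h1, Finsupp.linearCombination_apply, Finsupp.sum_fintype _ _ (by simp)]
  rfl


/-- `Fin`-indexed version, with `l i (m j) = c δ_ij`. -/
theorem exists_fin_frame (R : Type u) [CommRing R] [IsDomain R] (M : Type u)
    [AddCommGroup M] [Module R M] [Module.Finite R M] :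
    ∃ (m : Fin (Module.finrank R M) → M) (l : Fin (Module.finrank R M) → Module.Dual R M) (c : R),
      c ≠ 0 ∧ LinearIndependent R m ∧ (∀ x : M, c • x = ∑ i, l i x • m i) ∧
      ∀ i j, l i (m j) = if i = j then c else 0 := by
  classical
  obtain ⟨ι, _, m, l, c, hc0, hli, hcard, hc⟩ := exists_dual_frame' R M
  let e : Fin (Module.finrank R M) ≃ ι := (Fintype.equivFinOfCardEq hcard).symm
  have hli' : LinearIndependent R (m ∘ e) := hli.comp e e.injective
  have hsum : ∀ x : M, c • x = ∑ i, l (e i) x • m (e i) := by
    intro x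
    rw [hc x]
    exact (Equiv.sum_comp e (fun i => l i x • m i)).symm
  refine ⟨m ∘ e, l ∘ e, c, hc0, hli', hsum, fun i j => ?_⟩
  have h1 := hsum (m (e j))
  have h2 : ∑ i, (l (e i) (m (e j)) - if i = j then c else 0) • m (e i) = 0 := by
    simp only [sub_smul, Finset.sum_sub_distrib, ← h1]
    simp [ite_smul]
  have h3 := (Fintype.linearIndependent_iff.mp hli') _ h2 i
  exact sub_eq_zero.mp h3

end Groth.Agent.H4.TFDual2
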