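import Mathlib
import Groth.Prelude.Def_DTen3
import Groth.Agent.H4.DZ5
import Groth.Agent.H4.UQ2
import Groth.Agent.H4.CF6

/-!
# Tensor-invertible objects over a local ring: S11182
-/

set_option autoImplicit false
universe u
open CategoryTheory Category Limits Pretriangulated

namespace Groth.Agent.H4.TI1

attribute [local instance] HasDerivedCategory.standard
attribute [local instance] Groth.Agent.H4.LK4.hasLTen Groth.Agent.H4.LK5.hasLTen₃
  Groth.Agent.H4.KI7.isSymMonoidal Groth.Agent.H4.KI6.hasRHom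

open DRing DTen DerivedCategory Groth.Agent.H4.DThick Groth.Agent.H4.DCompl1 Groth.Agent.H4.CF1
  Groth.Agent.H4.InjAmp Groth.Agent.H4.DZ1 Groth.Agent.H4.DZ2 Groth.Agent.H4.DZ3 Groth.Agent.H4.DZ4
  Groth.Agent.H4.DZ5
  Groth.Agent.H4.EV5 Groth.Agent.H4.HC6 Groth.Agent.H4.ProjAmp Groth.Agent.H4.DRing1
  Groth.Agent.H4.DComp Groth.Agent.H4.FB1

variable {A : Type u} [CommRing A]

set_option quotPrecheck false in
/-- notation for the object part of `⊗^L` -/
local notation:max "tO(" a ", " b ")" => (LTen₂ _).obj (a, b)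

set_option quotPrecheck false in
/-- notation for the map part of `⊗^L` -/
local notation:max "tM(" a ", " b ")" => (LTen₂ _).map (Prod.mkHom a b)

section lemmaH

/-- `f ↦ H^r(f)` as a linear map -/
noncomputable def homologyLin (r : ℤ) (X Y : Dual.D A) :
    (X ⟶ Y) →ₗ[A] ((homologyFunctor (ModuleCat.{u} A) r).obj X →ₗ[A]
      (homologyFunctor (ModuleCat.{u} A) r).obj Y) where
  toFun f := ((homologyFunctor (ModuleCat.{u} A) r).map f).hom
  map_add' f g := by
    rw [Functor.map_add]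
    rfl
  map_smul' a f := by
    ext x
    exact homology_map_smul_apply r a f x

/-- maps from `D^{≤ r}` to `D^{≥ r}` are detected on `H^r` -/
theorem bijective_homologyLin (r : ℤ) (X Y : Dual.D A) [X.IsLE r] [Y.IsGE r] :
    Function.Bijective (homologyLin r X Y) := by
  let Y' := ((tR A).truncLT (r + 1)).obj Y
  let ι : Y' ⟶ Y := ((tR A).truncLTι (r + 1)).app Y
  haveI : Y'.IsLE r := (tR A).isLE_truncLT_obj _ (r + 1) r
  have hι : ∀ i : ℤ, i < r + 1 → IsIso ((homologyFunctor (ModuleCat.{u} A) i).map ι) :=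
    fun i hi => isIso_homology_truncLTι (r + 1) i hi Y
  haveI : Y'.IsGE r := by
    rw [isGE_iff]
    intro i hi
    haveI := hι i (by omega)
    exact (isZero_of_isGE Y r i hi).of_iso
      (asIso ((homologyFunctor (ModuleCat.{u} A) i).map ι))
  have hT := triangleLTGE_dist (r + 1) Y
  have hpost : Function.Bijective (fun f : X ⟶ Y' => f ≫ ι) := by
    constructor
    · intro f g hfg
      have h0 : (f - g) ≫ ι = 0 := by
        rw [Preadditive.sub_comp]
        exact sub_eq_zero.2 hfg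
      obtain ⟨k, hk⟩ := Triangle.coyoneda_exact₂ _ (inv_rot_of_distTriang _ hT) (f - g) h0
      have hk0 : k = 0 := by
        have hge : (tR A).IsGE ((((tR A).truncGE (r + 1)).obj Y)⟦(-1 : ℤ)⟧) (r + 2) :=
          (tR A).isGE_shift (((tR A).truncGE (r + 1)).obj Y) (r + 1) (-1) (r + 2) (by omega)
        exact (tR A).zero_of_isLE_of_isGE k r (r + 2) (by omega) inferInstance hge
      rw [hk0, zero_comp] at hk
      exact sub_eq_zero.1 hk
    · intro ψ
      have h0 : ψ ≫ ((tR A).truncGEπ (r + 1)).app Y = 0 :=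
        (tR A).zero _ r (r + 1) (by omega)
      obtain ⟨φ, hφ⟩ := Triangle.coyoneda_exact₂ _ hT ψ h0
      exact ⟨φ, hφ.symm⟩
  have hb := bijective_homology_map r X Y'
  haveI := hι r (by omega)
  have hιb : Function.Bijective ((homologyFunctor (ModuleCat.{u} A) r).map ι).hom :=
    (ConcreteCategory.isIso_iff_bijective _).1 inferInstance
  constructor
  · intro f g hfg
    obtain ⟨f', rfl⟩ := hpost.2 f
    obtain ⟨g', rfl⟩ := hpost.2 g
    have h1 : (homologyFunctor (ModuleCat.{u} A) r).map f' =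
        (homologyFunctor (ModuleCat.{u} A) r).map g' := by
      ext x
      apply hιb.1
      have := congrArg (fun t => t x) hfg
      simpa [homologyLin, Functor.map_comp] using this
    rw [hb.1 h1]
  · intro h
    let h' : (homologyFunctor (ModuleCat.{u} A) r).obj X ⟶
        (homologyFunctor (ModuleCat.{u} A) r).obj Y' :=
      ModuleCat.ofHom h ≫ inv ((homologyFunctor (ModuleCat.{u} A) r).map ι)
    obtain ⟨f', hf'⟩ := hb.2 h'
    have hf'' : (homologyFunctor (ModuleCat.{u} A) r).map f' = h' := hf'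
    refine ⟨f' ≫ ι, ?_⟩
    change ((homologyFunctor (ModuleCat.{u} A) r).map (f' ≫ ι)).hom = h
    rw [Functor.map_comp, hf'']
    simp [h']

end lemmaH

section alg

variable [IsLocalRing A]

/-- an injective linear map from a nontrivial module to the residue field is bijective. -/
lemma bijective_of_injective_to_residue (V : Type*) [AddCommGroup V] [Module A V] [Nontrivial V]
    (j : V →ₗ[A] (A ⧸ IsLocalRing.maximalIdeal A)) (hj : Function.Injective j) :
    Function.Bijective j := by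
  refine ⟨hj, fun y => ?_⟩
  obtain ⟨v, hv⟩ := exists_ne (0 : V)
  have hjv : j v ≠ 0 := fun h => hv (hj (h.trans (map_zero j).symm))
  obtain ⟨a, ha⟩ := Ideal.Quotient.mk_surjective (j v)
  have hau : IsUnit a := by
    by_contra hnu
    apply hjv
    rw [← ha]
    exact Ideal.Quotient.eq_zero_iff_mem.2 ((IsLocalRing.mem_maximalIdeal a).2 hnu)
  obtain ⟨u, rfl⟩ := hau
  obtain ⟨b, rfl⟩ := Ideal.Quotient.mk_surjective y
  refine ⟨(b * ↑u⁻¹) • v, ?_⟩
  rw [map_smul, ← ha]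
  change Ideal.Quotient.mk _ ((b * ↑u⁻¹) * ↑u) = _
  rw [mul_assoc, Units.inv_mul, mul_one]

/-- a module killed by the maximal ideal embeds into `Hom(M, V)` for `M` finite nonzero. -/
lemma exists_injective_to_hom (M : Type u) (V : Type*) [AddCommGroup M] [Module A M]
    [Module.Finite A M] [Nontrivial M] [AddCommGroup V] [Module A V]
    (hV : ∀ x ∈ IsLocalRing.maximalIdeal A, ∀ v : V, x • v = 0) :
    ∃ ψ : V →ₗ[A] (M →ₗ[A] V), Function.Injective ψ := by
  obtain ⟨g, hg⟩ := exists_ne_zero_to_residue (A := A) M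
  obtain ⟨m₀, hm₀⟩ : ∃ m₀ : M, g m₀ ≠ 0 := by
    by_contra hcon
    apply hg
    ext m
    by_contra hm
    exact hcon ⟨m, hm⟩
  obtain ⟨a, ha⟩ := Ideal.Quotient.mk_surjective (g m₀)
  have hau : IsUnit a := by
    by_contra hnu
    apply hm₀
    rw [← ha]
    exact Ideal.Quotient.eq_zero_iff_mem.2 ((IsLocalRing.mem_maximalIdeal a).2 hnu)
  obtain ⟨u, rfl⟩ := hau
  let m₁ : M := (↑u⁻¹ : A) • m₀
  have hm₁ : g m₁ = Ideal.Quotient.mk _ 1 := by
    change g ((↑u⁻¹ : A) • m₀) = _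
    rw [map_smul, ← ha]
    change Ideal.Quotient.mk _ ((↑u⁻¹ : A) * (↑u : A)) = _
    rw [Units.inv_mul]
  let ρ : (A ⧸ IsLocalRing.maximalIdeal A) →ₗ[A] (V →ₗ[A] V) :=
    Submodule.liftQ (IsLocalRing.maximalIdeal A) (LinearMap.lsmul A V) (by
      intro x hx
      rw [LinearMap.mem_ker]
      ext v
      exact hV x hx v)
  let ψ : V →ₗ[A] (M →ₗ[A] V) := (ρ ∘ₗ g).flip
  refine ⟨ψ, fun v w hvw => ?_⟩
  have h1 := congrArg (fun t => t m₁) hvw
  have h2 : ∀ v : V, ψ v m₁ = v := by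
    intro v
    change ρ (g m₁) v = v
    rw [hm₁]
    change (LinearMap.lsmul A V) 1 v = v
    simp
  simpa [h2] using h1

end alg

section main

variable [IsLocalRing A] [IsNoetherianRing A]

omit [IsNoetherianRing A] in
/-- the maximal ideal kills `Hom(X, κ[-t])`. -/
lemma smul_hom_Sk_eq_zero (X : Dual.D A) (t : ℤ) (x : A) (hx : x ∈ IsLocalRing.maximalIdeal A)
    (f : X ⟶ Sk A t) : x • f = 0 := by
  have h0 : x • 𝟙 (kap A) = 0 := by
    apply ModuleCat.hom_ext
    apply LinearMap.ext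
    intro y
    obtain ⟨b, rfl⟩ := Ideal.Quotient.mk_surjective y
    change Ideal.Quotient.mk _ (x * b) = 0
    exact Ideal.Quotient.eq_zero_iff_mem.2 (Ideal.mul_mem_right _ _ hx)
  have h1 : x • 𝟙 (Sk A t) = 0 := by
    have : (singleFunctor (ModuleCat.{u} A) t).map (x • 𝟙 (kap A)) = x • 𝟙 (Sk A t) := by
      rw [Functor.map_smul, CategoryTheory.Functor.map_id]
    rw [← this, h0, Functor.map_zero]
  have : x • f = f ≫ (x • 𝟙 (Sk A t)) := by rw [Linear.comp_smul, comp_id]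
  rw [this, h1, comp_zero]

/-- the key injection `Hom(E, κ[-q]) ↪ H^0(κ[-(r+q)])` -/
theorem exists_injective_of_tensor_iso (L E : Dual.D A) (e : tO(L, E) ≅ unit A) (r q s : ℤ)
    (hs : r + q = s) [L.IsLE r] [E.IsLE q]
    [Module.Finite A ((homologyFunctor (ModuleCat.{u} A) r).obj L)]
    [Nontrivial ((homologyFunctor (ModuleCat.{u} A) r).obj L)] :
    ∃ J : (E ⟶ Sk A q) →ₗ[A] ((homologyFunctor (ModuleCat.{u} A) 0).obj (Sk A s)),
      Function.Injective J := by
  let Y := (RHomR A E).obj (Sk A s)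
  haveI : Y.IsGE r := by
    have := Groth.Agent.H4.AP2.isGE_RHom E (Sk A s) q s
    have h : s - q = r := by omega
    rwa [h] at this
  let M := (homologyFunctor (ModuleCat.{u} A) r).obj L
  let c1 : (L ⟶ Y) ≃ₗ[A] (M →ₗ[A] (homologyFunctor (ModuleCat.{u} A) r).obj Y) :=
    LinearEquiv.ofBijective (homologyLin r L Y) (bijective_homologyLin r L Y)
  obtain ⟨c2⟩ := nonempty_extLinEquiv E (Sk A s) r
  let c3 : (E ⟶ (Sk A s)⟦r⟧) ≃ₗ[A] (E ⟶ Sk A q) :=
    homIsoLinEquiv E (((singleFunctors (ModuleCat.{u} A)).shiftIso r q s hs).app (kap A))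
  let c4 : (tO(L, E) ⟶ Sk A s) ≃ₗ[A] (L ⟶ Y) :=
    homLinEquiv (rhomAdj A E) (good_RHomR E).lin L (Sk A s)
  let c5 : (tO(L, E) ⟶ Sk A s) ≃ₗ[A] (unit A ⟶ Sk A s) := isoHomLinEquiv e (Sk A s)
  let c6 : (G A 0 ⟶ Sk A s) ≃ₗ[A] (unit A ⟶ Sk A s) :=
    isoHomLinEquiv (Groth.Agent.H4.US4.jU A) (Sk A s)
  obtain ⟨c7⟩ := nonempty_homG_equiv 0 (Sk A s)
  obtain ⟨ψ, hψ⟩ := exists_injective_to_hom (A := A) M (E ⟶ Sk A q)
    (fun x hx f => smul_hom_Sk_eq_zero E q x hx f)
  let c8 : (M →ₗ[A] (E ⟶ Sk A q)) ≃ₗ[A]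
      (M →ₗ[A] (homologyFunctor (ModuleCat.{u} A) r).obj Y) :=
    LinearEquiv.congrRight (c2.trans c3).symm
  refine ⟨(c7.toLinearMap ∘ₗ c6.symm.toLinearMap ∘ₗ c5.toLinearMap ∘ₗ c4.symm.toLinearMap ∘ₗ
    c1.symm.toLinearMap ∘ₗ c8.toLinearMap) ∘ₗ ψ, ?_⟩
  intro v w hvw
  apply hψ
  apply c8.injective
  apply c1.symm.injective
  apply c4.symm.injective
  apply c5.injective
  apply c6.symm.injective
  apply c7.injective
  exact hvw

omit [IsNoetherianRing A] in
lemma subsingleton_homology_Sk (s i : ℤ) (h : i ≠ s) :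
    Subsingleton ((homologyFunctor (ModuleCat.{u} A) i).obj (Sk A s)) := by
  apply ModuleCat.subsingleton_of_isZero
  rcases lt_or_gt_of_ne h with h | h
  · exact isZero_of_isGE (Sk A s) s i h
  · exact isZero_of_isLE (Sk A s) s i h

/-- vanishing of `Hom(E, κ[-t])` below the top degree. -/
lemma subsingleton_hom_Sk_of_lt (L E : Dual.D A) (e : tO(L, E) ≅ unit A)
    (e' : tO(E, L) ≅ unit A) (r : ℤ) [L.IsLE r] (t : ℤ) (ht : t + r < 0) :
    Subsingleton (E ⟶ Sk A t) := by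
  haveI : (tensorRightD A L).Faithful :=
    Functor.Faithful.of_comp_iso (Groth.Agent.H4.EV3.rightCancelIso L E e)
  refine ⟨fun f g => ?_⟩
  apply (tensorRightD A L).map_injective
  have hz : ∀ φ : tO(E, L) ⟶ tO(Sk A t, L), φ = 0 := by
    intro φ
    haveI := Groth.Agent.H4.AP2.isLE_tO (Sk A t) L t r
    have h1 : (Groth.Agent.H4.US4.jU A).hom ≫ e'.inv ≫ φ = 0 :=
      homG_eq_zero_of_isLE 0 (t + r) ht _ inferInstance _
    rw [← cancel_epi e'.inv, ← cancel_epi (Groth.Agent.H4.US4.jU A).hom, h1, comp_zero, comp_zero]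
  exact (hz _).trans (hz _).symm

theorem aux (L E : Dual.D A) (e : tO(L, E) ≅ unit A) (e' : tO(E, L) ≅ unit A) (r q : ℤ)
    [L.IsLE r] [E.IsLE q]
    [Module.Finite A ((homologyFunctor (ModuleCat.{u} A) r).obj L)]
    [Nontrivial ((homologyFunctor (ModuleCat.{u} A) r).obj L)]
    [Module.Finite A ((homologyFunctor (ModuleCat.{u} A) q).obj E)]
    [Nontrivial ((homologyFunctor (ModuleCat.{u} A) q).obj E)]
    (hEfin : ∀ i : ℤ, Module.Finite A (Dual.HD A E i)) (b : ℤ)
    (hb : ∀ i : ℤ, b < i → Subsingleton (Dual.HD A E i)) :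
    r + q = 0 ∧ Nonempty (G A q ≅ E) := by
  obtain ⟨f, hf⟩ := exists_ne_zero_hom_Sk q E
  haveI : Nontrivial (E ⟶ Sk A q) := ⟨f, 0, hf⟩
  have hs : r + q = 0 := by
    by_contra hne
    obtain ⟨J, hJ⟩ := exists_injective_of_tensor_iso L E e r q (r + q) rfl
    haveI := subsingleton_homology_Sk (A := A) (r + q) 0 (fun h => hne h.symm)
    haveI := hJ.subsingleton
    exact not_subsingleton (E ⟶ Sk A q) inferInstance
  refine ⟨hs, ?_⟩
  obtain ⟨J, hJ⟩ := exists_injective_of_tensor_iso L E e r q 0 hs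
  let c : (homologyFunctor (ModuleCat.{u} A) 0).obj (Sk A 0) ≃ₗ[A]
      (A ⧸ IsLocalRing.maximalIdeal A) :=
    ((singleFunctorCompHomologyFunctorIso (ModuleCat.{u} A) 0).app (kap A)).toLinearEquiv
  have hbij := bijective_of_injective_to_residue (A := A) (E ⟶ Sk A q) (c.toLinearMap ∘ₗ J)
    (c.injective.comp hJ)
  refine nonempty_iso_G_of_hom_residue E hEfin b hb q (fun t ht => ?_)
    ⟨LinearEquiv.ofBijective _ hbij⟩
  rcases lt_or_gt_of_ne ht with h | h
  · exact subsingleton_hom_Sk_of_lt L E e e' r t (by omega)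
  · exact ⟨fun f g => ((tR A).zero f q t h).trans ((tR A).zero g q t h).symm⟩

omit [IsNoetherianRing A] in
lemma not_isZero_of_tensor_iso (L E : Dual.D A) (e : tO(L, E) ≅ unit A) : ¬ IsZero L := by
  intro hL
  have h1 : 𝟙 L = (0 : A) • 𝟙 L := by rw [zero_smul]; exact hL.eq_of_src _ _
  have h2 : 𝟙 ((tensorRightD A E).obj L) = 0 := by
    rw [← CategoryTheory.Functor.map_id, h1, Groth.Agent.H4.CF3.tensorRightD_lin, zero_smul]
  have h3 : IsZero ((tensorRightD A E).obj L) := (IsZero.iff_id_eq_zero _).2 h2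
  have h4 : IsZero (G A 0) := (h3.of_iso e.symm).of_iso (Groth.Agent.H4.US4.jU A)
  have h5 : IsZero ((homologyFunctor (ModuleCat.{u} A) 0).obj (G A 0)) :=
    (homologyFunctor (ModuleCat.{u} A) 0).map_isZero h4
  have h6 : IsZero (ModuleCat.of A A) :=
    h5.of_iso ((singleFunctorCompHomologyFunctorIso (ModuleCat.{u} A) 0).app
      (ModuleCat.of A A)).symm
  haveI := ModuleCat.subsingleton_of_isZero h6
  exact not_subsingleton A ‹Subsingleton (ModuleCat.of A A)›

/-- **tensor-invertible pseudo-coherent objects over a local ring are shifts of the unit.** -/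
theorem exists_shift_iso_of_tensor_iso (L E : Dual.D A)
    (hLfin : ∀ i : ℤ, Module.Finite A (Dual.HD A L i))
    (hLbdd : ∃ b : ℤ, ∀ i : ℤ, b < i → Subsingleton (Dual.HD A L i))
    (hEfin : ∀ i : ℤ, Module.Finite A (Dual.HD A E i))
    (hEbdd : ∃ b : ℤ, ∀ i : ℤ, b < i → Subsingleton (Dual.HD A E i))
    (e : tO(L, E) ≅ unit A) :
    ∃ n : ℤ, Nonempty (L ≅ (Dual.inD A A)⟦n⟧) ∧ Nonempty (E ≅ (Dual.inD A A)⟦(-n)⟧) := by
  let e' : tO(E, L) ≅ unit A := DTen.braiding L E ≪≫ e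
  obtain ⟨bL, hbL⟩ := hLbdd
  obtain ⟨bE, hbE⟩ := hEbdd
  obtain ⟨r, hr1, hr2⟩ := exists_top_degree L bL (fun i hi => by
    haveI := hbL i hi
    exact ModuleCat.isZero_of_subsingleton _) (not_isZero_of_tensor_iso L E e)
  obtain ⟨q, hq1, hq2⟩ := exists_top_degree E bE (fun i hi => by
    haveI := hbE i hi
    exact ModuleCat.isZero_of_subsingleton _) (not_isZero_of_tensor_iso E L e')
  haveI := hr1
  haveI := hq1
  haveI := hr2
  haveI := hq2
  haveI : Module.Finite A ((homologyFunctor (ModuleCat.{u} A) r).obj L) := hLfin r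
  haveI : Module.Finite A ((homologyFunctor (ModuleCat.{u} A) q).obj E) := hEfin q
  obtain ⟨hs, ⟨eE⟩⟩ := aux L E e e' r q hEfin bE hbE
  obtain ⟨-, ⟨eL⟩⟩ := aux E L e' e q r hLfin bL hbL
  refine ⟨-r, ⟨eL.symm ≪≫ (((singleFunctors (ModuleCat.{u} A)).shiftIso (-r) r 0
    (by omega)).app (ModuleCat.of A A)).symm⟩, ⟨eE.symm ≪≫
    (((singleFunctors (ModuleCat.{u} A)).shiftIso (-(-r)) q 0 (by omega)).app
      (ModuleCat.of A A)).symm⟩⟩

theorem S11182 (L : Dual.D A) (E : DRing.Cx A) [DRing.HasLTensorCx A E]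
    (hLfin : ∀ i : ℤ, Module.Finite A (Dual.HD A L i))
    (hLbdd : ∃ b : ℤ, ∀ i : ℤ, b < i → Subsingleton (Dual.HD A L i))
    (hEfin : ∀ i : ℤ, Module.Finite A (Dual.HD A (DRing.toD E) i))
    (hEbdd : ∃ b : ℤ, ∀ i : ℤ, b < i → Subsingleton (Dual.HD A (DRing.toD E) i))
    (h : Nonempty ((DRing.LTensorCx A E).obj L ≅ Dual.inD A A)) :
    ∃ n : ℤ, Nonempty (L ≅ (Dual.inD A A)⟦n⟧) ∧
      Nonempty (DRing.toD E ≅ (Dual.inD A A)⟦(-n)⟧) := by
  obtain ⟨h⟩ := h
  let e : tO(L, DRing.toD E) ≅ unit A :=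
    ((Groth.Agent.H4.CF6.LTensorCxIso' E).app L).symm ≪≫ h ≪≫ Groth.Agent.H4.US4.jU A
  exact exists_shift_iso_of_tensor_iso L (DRing.toD E) hLfin hLbdd hEfin hEbdd e

end main

end Groth.Agent.H4.TI1
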