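import Groth.Agent.Lib.Helper5.Tate.Expansion2

/-! Tate's trace formula (R6): for a finite free extension `E = ⊕ F bᵢ`, the abstract residue on `E`
with respect to `⊕ A bᵢ` is the residue on `F` of the trace. -/

set_option autoImplicit false

namespace Groth.Agent.H4.TateBlock

open Tate LinearMap FunFld

variable {k F E : Type*} [Field k] [Field F] [Algebra k F] [Field E] [Algebra F E] [Algebra k E]
  [IsScalarTower k F E]
variable {ι : Type*} [Fintype ι] [DecidableEq ι] (b : Module.Basis ι F E)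

variable (k) in
/-- coordinate maps as `k`-linear maps -/
noncomputable def cmap (i : ι) : E →ₗ[k] F := (b.coord i).restrictScalars k

variable (k) in
/-- inclusion maps as `k`-linear maps -/
noncomputable def imap (i : ι) : F →ₗ[k] E :=
  (LinearMap.toSpanSingleton F E (b i)).restrictScalars k

lemma cmap_apply (i : ι) (z : E) : cmap k b i z = b.repr z i := rfl

lemma imap_apply (i : ι) (f : F) : imap k b i f = f • b i := rfl

lemma cmap_imap (i j : ι) (f : F) :
    cmap k b i (imap k b j f) = if i = j then f else 0 := by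
  rw [cmap_apply, imap_apply, map_smul, Module.Basis.repr_self, Finsupp.smul_apply,
    Finsupp.single_apply, smul_eq_mul]
  split_ifs with h1 h2 h2
  · rw [mul_one]
  · exact absurd h1.symm h2
  · exact absurd h2.symm h1
  · rw [mul_zero]

lemma sum_imap_cmap (z : E) : ∑ i, imap k b i (cmap k b i z) = z := by
  simp only [cmap_apply, imap_apply]
  exact b.sum_repr z

lemma ext_cmap {z z' : E} (h : ∀ i, cmap k b i z = cmap k b i z') : z = z' :=
  b.ext_elem h

lemma cmap_algebraMap_mul (i : ι) (x : F) (z : E) :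
    cmap k b i (algebraMap F E x * z) = x * cmap k b i z := by
  rw [cmap_apply, cmap_apply, ← Algebra.smul_def, map_smul, Finsupp.smul_apply, smul_eq_mul]

lemma cmap_mul (y z : E) (i : ι) :
    cmap k b i (y * z) = ∑ j, b.repr (y * b j) i * cmap k b j z := by
  conv_lhs => rw [← b.sum_repr z]
  rw [Finset.mul_sum, map_sum]
  refine Finset.sum_congr rfl fun j _ => ?_
  rw [mul_smul_comm, cmap_apply, map_smul, Finsupp.smul_apply, smul_eq_mul, cmap_apply, mul_comm]

/-- the projection `⊕ π` -/
noncomputable def projE (π : F →ₗ[k] F) : E →ₗ[k] E :=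
  ∑ i, imap k b i ∘ₗ π ∘ₗ cmap k b i

lemma cmap_projE (π : F →ₗ[k] F) (j : ι) (z : E) :
    cmap k b j (projE b π z) = π (cmap k b j z) := by
  simp only [projE, LinearMap.sum_apply, LinearMap.comp_apply, map_sum, cmap_imap]
  rw [Finset.sum_ite_eq]
  simp

/-- `⊕ A bᵢ` -/
noncomputable def ASub (A : Submodule k F) : Submodule k E := ⨅ i, A.comap (cmap k b i)

lemma mem_ASub {A : Submodule k F} {z : E} : z ∈ ASub b A ↔ ∀ i, cmap k b i z ∈ A := by
  simp only [ASub, Submodule.mem_iInf, Submodule.mem_comap]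

lemma imap_mem_ASub {A : Submodule k F} {a : F} (ha : a ∈ A) (i : ι) : imap k b i a ∈ ASub b A := by
  rw [mem_ASub]
  intro j
  rw [cmap_imap]
  split_ifs
  · exact ha
  · exact Submodule.zero_mem _

lemma isProj_projE {A : Submodule k F} {π : F →ₗ[k] F} (hπ : IsProj A π) :
    IsProj (ASub b A) (projE b π) where
  map_mem z := by
    rw [mem_ASub]
    intro j
    rw [cmap_projE]
    exact hπ.map_mem _
  map_id z hz := by
    apply ext_cmap (k := k) b
    intro j
    rw [cmap_projE]
    exact hπ.map_id _ ((mem_ASub b).mp hz j)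

lemma block_mem_E0 {A : Submodule k F} {T : F →ₗ[k] F} (hT : T ∈ E0 A) (i j : ι) :
    imap k b i ∘ₗ T ∘ₗ cmap k b j ∈ E0 (ASub b A) := by
  obtain ⟨⟨G, hG, hr⟩, hm⟩ := hT
  refine ⟨⟨G.map (imap k b i), inferInstance, ?_⟩, ?_⟩
  · rintro _ ⟨z, rfl⟩
    have h1 : T (cmap k b j z) ∈ A ⊔ G := hr ⟨_, rfl⟩
    obtain ⟨a, ha, g, hg, hag⟩ := Submodule.mem_sup.mp h1
    show imap k b i (T (cmap k b j z)) ∈ _
    rw [← hag, map_add]
    exact Submodule.add_mem _ (Submodule.mem_sup_left (imap_mem_ASub b ha i))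
      (Submodule.mem_sup_right ⟨g, hg, rfl⟩)
  · have hle : (ASub b A).map (imap k b i ∘ₗ T ∘ₗ cmap k b j) ≤ (A.map T).map (imap k b i) := by
      rintro _ ⟨z, hz, rfl⟩
      exact ⟨T (cmap k b j z), ⟨cmap k b j z, (mem_ASub b).mp hz j, rfl⟩, rfl⟩
    exact Submodule.finiteDimensional_of_le hle

lemma fpTrace_block_off {A : Submodule k F} {T : F →ₗ[k] F} (i j : ι) (hij : j ≠ i) :
    fpTrace (imap k b i ∘ₗ T ∘ₗ cmap k b j) = 0 := by
  apply fpTrace_eq_zero_of_pow_eq_zero (n := 2)
  ext z
  rw [pow_two, Module.End.mul_apply]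
  simp only [LinearMap.comp_apply, cmap_imap, if_neg hij, map_zero, LinearMap.zero_apply]

lemma fpTrace_block_diag {A : Submodule k F} {T : F →ₗ[k] F} (hT : T ∈ E0 A) (i : ι) :
    fpTrace (imap k b i ∘ₗ T ∘ₗ cmap k b i) = fpTrace T := by
  rw [fpTrace_comp_comm (imap k b i) (T ∘ₗ cmap k b i) (isFP_of_mem_E0 (block_mem_E0 b hT i i))]
  congr 1
  ext f
  simp only [LinearMap.comp_apply, cmap_imap, if_true]

lemma comm_block_eq (π : F →ₗ[k] F) (y : E) (x : F) :
    comm (projE b π) (mulK y) (mulK (algebraMap F E x)) =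
      ∑ i, ∑ j, imap k b i ∘ₗ comm π (mulK (b.repr (y * b j) i)) (mulK x) ∘ₗ cmap k b j := by
  ext z
  apply ext_cmap (k := k) b
  intro i
  rw [comm_apply, map_sub]
  simp only [mulK_apply, cmap_projE, cmap_algebraMap_mul, cmap_mul (k := k) b y, map_sum,
    LinearMap.sum_apply, LinearMap.comp_apply, cmap_imap, comm_apply, Finset.mul_sum]
  rw [Finset.sum_comm]
  simp only [Finset.sum_ite_eq, Finset.mem_univ, if_true]
  rw [← Finset.sum_sub_distrib]

/-- Tate's trace formula. -/
theorem tres_block {A : Submodule k F} {π : F →ₗ[k] F} (hπ : IsProj A π)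
    (hns : ∀ f : F, NearStable A (mulK f)) (y : E) (x : F) :
    tres (projE b π) (mulK y) (mulK (algebraMap F E x)) =
      ∑ i, tres π (mulK (b.repr (y * b i) i)) (mulK x) := by
  have hT : ∀ i j, comm π (mulK (b.repr (y * b j) i)) (mulK x) ∈ E0 A := fun i j =>
    comm_mem_E0 hπ (mulK_comm _ _) (hns _) (hns _)
  rw [tres, comm_block_eq, fpTrace_sum_of_mem_E0 (A := ASub b A)]
  · refine Finset.sum_congr rfl fun i _ => ?_
    rw [fpTrace_sum_of_mem_E0 (A := ASub b A)]
    · rw [Finset.sum_eq_single i]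
      · rw [fpTrace_block_diag b (hT i i)]
        rfl
      · intro j _ hji
        exact fpTrace_block_off (A := A) b i j hji
      · intro h
        exact absurd (Finset.mem_univ i) h
    · intro j _
      exact block_mem_E0 b (hT i j) i j
  · intro i _
    exact Submodule.sum_mem _ fun j _ => block_mem_E0 b (hT i j) i j

lemma trace_eq_sum_repr (y : E) : Algebra.trace F E y = ∑ i, b.repr (y * b i) i := by
  rw [Algebra.trace_eq_matrix_trace b y, Matrix.trace]
  refine Finset.sum_congr rfl fun i _ => ?_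
  rw [Matrix.diag_apply, Algebra.leftMulMatrix_eq_repr_mul]

end Groth.Agent.H4.TateBlock
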