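import Groth.Agent.H4.TateLoc
import Groth.Agent.H4.TateBlock

/-! Commensurability of `⊕ O_v bᵢ` and `O_w` for a finite extension of a complete discretely
valued field (complete Nakayama), and near-stability of multiplications on valuation rings. -/

set_option autoImplicit false

namespace Groth.Agent.H4.TateComm

open Tate Tate.Laurent LaurentSeries HahnSeries WithZero LinearMap FunFld
open Groth.Agent.H4.TateLoc Groth.Agent.H4.TateBlock

section general

variable {k K F : Type*} [Field k] [Field K] [Algebra k K] [Field F] [Algebra k F]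
variable {w : Valuation K ℤᵐ⁰} {φ : K →ₐ[k] F⸨X⸩}

/-- constant coefficient functional -/
noncomputable def c0 (φ : K →ₐ[k] F⸨X⸩) : K →ₗ[k] F where
  toFun x := (φ x).coeff 0
  map_add' x y := by rw [map_add, HahnSeries.coeff_add]
  map_smul' c x := by
    show (expLin φ (c • x)).coeff 0 = c • (φ x).coeff 0
    rw [map_smul, HahnSeries.coeff_smul, expLin_apply]

lemma c0_apply (x : K) : c0 φ x = (φ x).coeff 0 := rfl

lemma v_le_of_c0_eq_zero (hφ : LocRes.IsExpansionAt w φ) {u : K} (hu : w u ≤ 1)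
    (h0 : c0 φ u = 0) : w u ≤ exp (-(1 : ℤ)) := by
  rw [← hφ.1, LaurentSeries.valuation_le_iff_coeff_lt_eq_zero F]
  intro n hn
  by_cases h : n = 0
  · rw [h]; exact h0
  · have hn' : n < 0 := by omega
    have hu' : Valued.v (φ u) ≤ (1 : ℤᵐ⁰) := by rw [hφ.1]; exact hu
    exact (mem_Lplus_iff (φ u)).mpr hu' n hn'

lemma exists_G1 [FiniteDimensional k F] (hφ : LocRes.IsExpansionAt w φ) :
    ∃ G : Submodule k K, FiniteDimensional k G ∧
      ∀ u, w u ≤ 1 → ∃ g ∈ G, w (u - g) ≤ exp (-(1 : ℤ)) := by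
  classical
  let bF := Module.finBasis k F
  choose f hf1 hf2 using fun s => hφ.2.1 (bF s)
  refine ⟨Submodule.span k (Set.range f), ?_, ?_⟩
  · exact FiniteDimensional.span_of_finite k (Set.finite_range f)
  · intro u hu
    set g := ∑ s, (bF.repr (c0 φ u) s) • f s with hg
    have hgG : g ∈ Submodule.span k (Set.range f) :=
      Submodule.sum_mem _ fun s _ => Submodule.smul_mem _ _ (Submodule.subset_span ⟨s, rfl⟩)
    have hgO : g ∈ OSub hφ :=
      Submodule.sum_mem _ fun s _ => Submodule.smul_mem _ _ (hf1 s)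
    refine ⟨g, hgG, ?_⟩
    apply v_le_of_c0_eq_zero hφ
    · exact (OSub hφ).sub_mem hu hgO
    · rw [map_sub, hg, map_sum]
      simp only [map_smul]
      have h2 : ∀ s, c0 φ (f s) = bF s := hf2
      simp only [h2]
      rw [bF.sum_repr, sub_self]

lemma exists_G [FiniteDimensional k F] (hφ : LocRes.IsExpansionAt w φ) (m : ℕ) :
    ∃ G : Submodule k K, FiniteDimensional k G ∧
      ∀ z, w z ≤ 1 → ∃ g ∈ G, w (z - g) ≤ exp (-(m : ℤ)) := by
  obtain ⟨G1, hG1, h1⟩ := exists_G1 hφ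
  obtain ⟨pp, hpp⟩ := hφ.2.2
  have hpp0 : pp ≠ 0 := by
    intro h
    rw [h, map_zero] at hpp
    exact exp_ne_zero hpp.symm
  induction m with
  | zero =>
    refine ⟨⊥, inferInstance, fun z hz => ⟨0, Submodule.zero_mem _, ?_⟩⟩
    rw [sub_zero]
    simpa using hz
  | succ m ih =>
    obtain ⟨G, hG, hGz⟩ := ih
    refine ⟨G ⊔ G1.map (mulK (pp ^ m)), inferInstance, ?_⟩
    intro z hz
    obtain ⟨g, hg, hzg⟩ := hGz z hz
    have hppm : w (pp ^ m) = exp (-(m : ℤ)) := by
      rw [map_pow, hpp, ← exp_nsmul]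
      congr 1
      simp
    set u := (z - g) * (pp ^ m)⁻¹ with hu
    have hu1 : w u ≤ 1 := by
      rw [hu, map_mul, map_inv₀, hppm, ← div_eq_mul_inv]
      exact div_le_one_of_le₀ hzg zero_le'
    obtain ⟨g1, hg1, hug1⟩ := h1 u hu1
    refine ⟨g + pp ^ m * g1, Submodule.add_mem _ (Submodule.mem_sup_left hg)
      (Submodule.mem_sup_right ⟨g1, hg1, rfl⟩), ?_⟩
    have e : z - (g + pp ^ m * g1) = pp ^ m * (u - g1) := by
      rw [hu]
      field_simp
      ring
    rw [e, map_mul, hppm]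
    calc exp (-(m : ℤ)) * w (u - g1) ≤ exp (-(m : ℤ)) * exp (-(1 : ℤ)) :=
          mul_le_mul_right hug1 _
      _ = exp (-((m + 1 : ℕ) : ℤ)) := by
          rw [← exp_add]
          congr 1
          push_cast
          ring

lemma exists_nat_le_exp (x : ℤᵐ⁰) : ∃ n : ℕ, x ≤ exp (n : ℤ) := by
  rcases eq_or_ne x 0 with rfl | hx
  · exact ⟨0, by simp⟩
  · refine ⟨(log x).toNat, ?_⟩
    have h1 : x = exp (log x) := (exp_log hx).symm
    rw [h1, exp_le_exp]
    exact Int.self_le_toNat _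

lemma nearStable_OSub [FiniteDimensional k F] (hφ : LocRes.IsExpansionAt w φ) (y : K) :
    NearStable (OSub hφ) (mulK y) := by
  obtain ⟨n, hn⟩ := exists_nat_le_exp (w y)
  obtain ⟨G, hG, hGz⟩ := exists_G hφ n
  refine ⟨G.map (mulK y), inferInstance, ?_⟩
  rintro _ ⟨z, hz, rfl⟩
  obtain ⟨g, hg, hzg⟩ := hGz z hz
  have e : mulK (k := k) y z = y * (z - g) + mulK (k := k) y g := by
    rw [mulK_apply, mulK_apply]
    ring
  rw [e]
  refine Submodule.add_mem _ (Submodule.mem_sup_left ?_) (Submodule.mem_sup_right ⟨g, hg, rfl⟩)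
  show w (y * (z - g)) ≤ 1
  rw [map_mul]
  calc w y * w (z - g) ≤ exp (n : ℤ) * exp (-(n : ℤ)) := mul_le_mul' hn hzg
    _ = 1 := by
        rw [← exp_add]
        simp

end general

section complete

lemma eq_zero_of_forall_le_pow {x q : ℤᵐ⁰} (hq : q < 1) (h : ∀ M : ℕ, x ≤ q ^ M) : x = 0 := by
  by_contra hx
  rcases eq_or_ne q 0 with rfl | hq0
  · have := h 1
    rw [pow_one] at this
    exact hx (le_zero_iff.mp this)
  · have hq' : log q < 0 := by
      have h1 : exp (log q) < exp (0 : ℤ) := by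
        rw [exp_log hq0]
        exact hq
      exact exp_lt_exp.mp h1
    have hxa : x = exp (log x) := (exp_log hx).symm
    have key : ∀ M : ℕ, log x ≤ M * log q := by
      intro M
      have h2 := h M
      have hqa : q = exp (log q) := (exp_log hq0).symm
      rw [hxa, hqa, ← exp_nsmul, exp_le_exp] at h2
      simpa using h2
    have hM := key ((-(log x)).toNat + 1)
    have h3 : (((-(log x)).toNat + 1 : ℕ) : ℤ) * log q ≤ (((-(log x)).toNat + 1 : ℕ) : ℤ) * (-1) :=
      mul_le_mul_of_nonneg_left (by omega) (by positivity)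
    have h4 := Int.self_le_toNat (-(log x))
    push_cast at hM h3
    linarith

/-- tail power series -/
noncomputable def qser {K : Type*} [Field K] (cs : ℕ → K) (M : ℕ) : PowerSeries K :=
  PowerSeries.mk fun n => cs (n + M)

lemma qser_succ {K : Type*} [Field K] (cs : ℕ → K) (M : ℕ) :
    qser cs M = PowerSeries.C (cs M) + PowerSeries.X * qser cs (M + 1) := by
  ext n
  cases n with
  | zero =>
    rw [map_add, PowerSeries.coeff_zero_X_mul, add_zero, qser, PowerSeries.coeff_mk,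
      PowerSeries.coeff_zero_C, zero_add]
  | succ n =>
    rw [map_add, PowerSeries.coeff_succ_X_mul, qser, qser, PowerSeries.coeff_mk,
      PowerSeries.coeff_mk, PowerSeries.coeff_C, if_neg (Nat.succ_ne_zero n), zero_add]
    congr 1
    omega

variable {K L F E : Type*} [Field K] [Field L] [Field F] [Field E] [Algebra K F] [Algebra F E]
  [Algebra K E] [IsScalarTower K F E] [Algebra K L]
variable {v : Valuation F ℤᵐ⁰} {w : Valuation E ℤᵐ⁰} [v.HasExtension w]
variable {φ : F →ₐ[K] K⸨X⸩}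

lemma w_algebraMap_le_one {g : F} (hg : v g ≤ 1) : w (algebraMap F E g) ≤ 1 :=
  (Valuation.HasExtension.val_map_le_one_iff v w g).mpr hg

lemma w_sum_smul_le_one {r : ℕ} {zs : Fin r → E} (hzs : ∀ i, w (zs i) ≤ 1) {g : Fin r → F}
    (hg : ∀ i, v (g i) ≤ 1) : w (∑ i, g i • zs i) ≤ 1 := by
  apply w.map_sum_le
  intro i _
  rw [Algebra.smul_def, map_mul]
  exact mul_le_one' (w_algebraMap_le_one (v := v) (hg i)) (hzs i)

/-- complete Nakayama -/
theorem nakayama (hφ : LocRes.IsExpansionAt v φ) (hφs : Function.Surjective φ)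
    {r : ℕ} (zs : Fin r → E) (hzs : ∀ i, w (zs i) ≤ 1) {t : F}
    (ht : φ t = HahnSeries.single 1 1)
    (hstep : ∀ z, w z ≤ 1 → ∃ (c : Fin r → K) (z' : E), w z' ≤ 1 ∧
      z = ∑ i, c i • zs i + algebraMap F E t * z') :
    ∀ z, w z ≤ 1 → ∃ g : Fin r → F, (∀ i, v (g i) ≤ 1) ∧ z = ∑ i, g i • zs i := by
  classical
  intro z₀ hz₀
  have hstep' : ∀ z : {z : E // w z ≤ 1}, ∃ (p : (Fin r → K) × {z : E // w z ≤ 1}),
      z.1 = ∑ i, p.1 i • zs i + algebraMap F E t * p.2.1 := by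
    rintro ⟨z, hz⟩
    obtain ⟨c, z', hz', e⟩ := hstep z hz
    exact ⟨(c, ⟨z', hz'⟩), e⟩
  choose P hP using hstep'
  obtain ⟨s, hs0, hs1⟩ : ∃ s : ℕ → {z : E // w z ≤ 1}, s 0 = ⟨z₀, hz₀⟩ ∧
      ∀ m, s (m + 1) = (P (s m)).2 :=
    ⟨fun m => (fun z => (P z).2)^[m] ⟨z₀, hz₀⟩, rfl,
      fun m => Function.iterate_succ_apply' _ m _⟩
  obtain ⟨cs, hcs⟩ : ∃ cs : Fin r → ℕ → K, ∀ i m, cs i m = (P (s m)).1 i := ⟨_, fun _ _ => rfl⟩
  have hs : ∀ m, (s m).1 = ∑ i, cs i m • zs i + algebraMap F E t * (s (m + 1)).1 := by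
    intro m
    rw [hs1 m]
    simp only [hcs]
    exact hP (s m)
  have hgex : ∀ i M, ∃ g : F, φ g = ((qser (cs i) M : PowerSeries K) : K⸨X⸩) := fun i M => hφs _
  choose g hg using hgex
  have hφinj : Function.Injective φ := φ.toRingHom.injective
  have hgrec : ∀ i M, g i M = algebraMap K F (cs i M) + t * g i (M + 1) := by
    intro i M
    apply hφinj
    rw [map_add, map_mul, hg, hg, ht, LocRes.map_algebraMap, qser_succ (cs i) M, PowerSeries.coe_add,
      PowerSeries.coe_mul, PowerSeries.coe_C, PowerSeries.coe_X]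
    rfl
  have hgv : ∀ i M, v (g i M) ≤ 1 := by
    intro i M
    rw [← hφ.1, hg, LaurentSeries.val_le_one_iff_eq_coe]
    exact ⟨_, rfl⟩
  obtain ⟨GG, hGGdef⟩ : ∃ GG : ℕ → E, ∀ M, GG M = ∑ i, g i M • zs i := ⟨_, fun _ => rfl⟩
  have hGG : ∀ M, GG M = ∑ i, cs i M • zs i + algebraMap F E t * GG (M + 1) := by
    intro M
    rw [hGGdef, hGGdef, Finset.mul_sum, ← Finset.sum_add_distrib]
    refine Finset.sum_congr rfl fun i _ => ?_
    rw [hgrec i M, add_smul, algebraMap_smul, mul_smul, Algebra.smul_def t]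
  have hdiff : ∀ M, z₀ - GG 0 = (algebraMap F E t) ^ M * ((s M).1 - GG M) := by
    intro M
    induction M with
    | zero => rw [pow_zero, one_mul, hs0]
    | succ M ih =>
      rw [ih, hs M, hGG M, pow_succ]
      ring
  have hbound : ∀ M, w ((s M).1 - GG M) ≤ 1 := by
    intro M
    refine (w.map_sub _ _).trans (max_le (s M).2 ?_)
    rw [hGGdef]
    exact w_sum_smul_le_one (v := v) hzs (fun i => hgv i M)
  have htE : w (algebraMap F E t) < 1 := by
    rw [Valuation.HasExtension.val_map_lt_one_iff v w, ← hφ.1, ht,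
      LaurentSeries.valuation_single_zpow]
    have : exp (-(1 : ℤ)) < exp (0 : ℤ) := exp_lt_exp.mpr (by norm_num)
    exact this
  have hz : w (z₀ - GG 0) = 0 := by
    apply eq_zero_of_forall_le_pow htE
    intro M
    rw [hdiff M, map_mul, map_pow]
    calc w (algebraMap F E t) ^ M * w ((s M).1 - GG M)
        ≤ w (algebraMap F E t) ^ M * 1 := mul_le_mul_right (hbound M) _
      _ = w (algebraMap F E t) ^ M := mul_one _
  refine ⟨fun i => g i 0, fun i => hgv i 0, ?_⟩
  have h0 : z₀ - GG 0 = 0 := (map_eq_zero w).mp hz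
  rw [← hGGdef]
  exact sub_eq_zero.mp h0

lemma le_exp_toNat_log (x : ℤᵐ⁰) : x ≤ exp (((log x).toNat : ℕ) : ℤ) := by
  rcases eq_or_ne x 0 with rfl | hx
  · simp
  · have h1 : x = exp (log x) := (exp_log hx).symm
    conv_lhs => rw [h1]
    rw [exp_le_exp]
    exact Int.self_le_toNat _

lemma exp_pow_mul_le_one {x : ℤᵐ⁰} {n m : ℕ} (hx : x ≤ exp (n : ℤ)) (hnm : n ≤ m) :
    exp (-(1 : ℤ)) ^ m * x ≤ 1 := by
  calc exp (-(1 : ℤ)) ^ m * x ≤ exp (-(1 : ℤ)) ^ m * exp (n : ℤ) := mul_le_mul_right hx _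
    _ = exp (-(m : ℤ) + n) := by
        rw [← exp_nsmul, ← exp_add]
        congr 1
        simp
    _ ≤ exp (0 : ℤ) := exp_le_exp.mpr (by omega)
    _ = 1 := exp_zero

variable {ψ : E →ₐ[K] L⸨X⸩}

lemma ASub_le_OSub (hφ : LocRes.IsExpansionAt v φ) (hψ : LocRes.IsExpansionAt w ψ)
    {ι : Type*} [Fintype ι] [DecidableEq ι] (b : Module.Basis ι F E) (hb : ∀ i, w (b i) ≤ 1) :
    ASub b (OSub hφ) ≤ OSub hψ := by
  intro z hz
  rw [mem_ASub] at hz
  show w z ≤ 1
  rw [← b.sum_repr z]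
  apply w.map_sum_le
  intro i _
  have hz' : v (b.repr z i) ≤ 1 := hz i
  rw [Algebra.smul_def, map_mul]
  exact mul_le_one' (w_algebraMap_le_one (v := v) hz') (hb i)

theorem exists_commensurable [FiniteDimensional K L] (hφ : LocRes.IsExpansionAt v φ)
    (hφs : Function.Surjective φ) (hψ : LocRes.IsExpansionAt w ψ)
    {ι : Type*} [Fintype ι] [DecidableEq ι] (b : Module.Basis ι F E) :
    ∃ G : Submodule K E, FiniteDimensional K G ∧ OSub hψ ≤ ASub b (OSub hφ) ⊔ G := by
  classical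
  obtain ⟨t, ht⟩ := hφs (HahnSeries.single 1 1)
  have hvt : v t = exp (-(1 : ℤ)) := by
    rw [← hφ.1, ht, LaurentSeries.valuation_single_zpow]
  obtain ⟨tE, htEdef⟩ : ∃ tE : E, tE = algebraMap F E t := ⟨_, rfl⟩
  have htE1 : w tE < 1 := by
    rw [htEdef, Valuation.HasExtension.val_map_lt_one_iff v w, hvt]
    have : exp (-(1 : ℤ)) < exp (0 : ℤ) := exp_lt_exp.mpr (by norm_num)
    exact this
  have ht0 : t ≠ 0 := by
    intro h
    rw [h, map_zero] at hvt
    exact exp_ne_zero hvt.symm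
  have htE0 : tE ≠ 0 := by
    rw [htEdef]
    exact (map_ne_zero (algebraMap F E)).mpr ht0
  have hwtE0 : w tE ≠ 0 := (Valuation.ne_zero_iff _).mpr htE0
  obtain ⟨e, he⟩ : ∃ e : ℕ, w tE = exp (-(e : ℤ)) := by
    have hlog : log (w tE) < 0 := by
      have h1 : exp (log (w tE)) < exp (0 : ℤ) := by
        rw [exp_log hwtE0]
        exact htE1
      exact exp_lt_exp.mp h1
    refine ⟨(-(log (w tE))).toNat, ?_⟩
    rw [Int.toNat_of_nonneg (by omega), neg_neg, exp_log hwtE0]
  -- step 1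
  obtain ⟨G₁, hG₁, hG₁z⟩ := exists_G hψ e
  obtain ⟨G₁', hG₁'⟩ : ∃ G₁' : Submodule K E, G₁' = G₁ ⊓ OSub hψ := ⟨_, rfl⟩
  have hfin : FiniteDimensional K G₁' := by
    rw [hG₁']
    infer_instance
  let bz := Module.finBasis K G₁'
  obtain ⟨zs, hzsdef⟩ : ∃ zs : Fin (Module.finrank K G₁') → E, ∀ i, zs i = (bz i : E) :=
    ⟨_, fun _ => rfl⟩
  have hzs : ∀ i, w (zs i) ≤ 1 := by
    intro i
    rw [hzsdef]
    have hle : G₁' ≤ OSub hψ := by
      rw [hG₁']
      exact inf_le_right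
    exact hle (bz i).2
  have hstep : ∀ z, w z ≤ 1 → ∃ (c : Fin (Module.finrank K G₁') → K) (z' : E), w z' ≤ 1 ∧
      z = ∑ i, c i • zs i + algebraMap F E t * z' := by
    intro z hz
    obtain ⟨g, hg, hzg⟩ := hG₁z z hz
    rw [← he] at hzg
    have hgO : w g ≤ 1 := by
      have e1 : g = z - (z - g) := by ring
      rw [e1]
      exact (w.map_sub _ _).trans (max_le hz (hzg.trans htE1.le))
    have hgG : g ∈ G₁' := by
      rw [hG₁']
      exact ⟨hg, hgO⟩
    refine ⟨fun i => bz.repr ⟨g, hgG⟩ i, (z - g) * tE⁻¹, ?_, ?_⟩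
    · rw [map_mul, map_inv₀, ← div_eq_mul_inv]
      exact div_le_one_of_le₀ hzg zero_le'
    · have e2 : g = ∑ i, bz.repr ⟨g, hgG⟩ i • zs i := by
        have := congrArg Subtype.val (bz.sum_repr ⟨g, hgG⟩)
        simp only [Submodule.coe_sum, Submodule.coe_smul] at this
        simp only [hzsdef]
        exact this.symm
      rw [← htEdef, ← e2, mul_comm (z - g), ← mul_assoc, mul_inv_cancel₀ htE0, one_mul]
      ring
  have hnak := nakayama hφ hφs zs hzs ht hstep
  -- step 2: bound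
  obtain ⟨N, hNdef⟩ : ∃ N : Fin (Module.finrank K G₁') × ι → ℕ,
      ∀ p, N p = (log (v (b.repr (zs p.1) p.2))).toNat := ⟨_, fun _ => rfl⟩
  obtain ⟨m, hm⟩ : ∃ m : ℕ, m = ∑ p, N p := ⟨_, rfl⟩
  have hNm : ∀ p, N p ≤ m := fun p => by
    rw [hm]
    exact Finset.single_le_sum (fun _ _ => Nat.zero_le _) (Finset.mem_univ p)
  have htm : ∀ i j, v (t ^ m * b.repr (zs i) j) ≤ 1 := by
    intro i j
    rw [map_mul, map_pow, hvt]
    refine exp_pow_mul_le_one (n := N (i, j)) ?_ (hNm (i, j))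
    rw [hNdef]
    exact le_exp_toNat_log _
  have hpow : ∀ z, w z ≤ 1 → tE ^ m * z ∈ ASub b (OSub hφ) := by
    intro z hz
    obtain ⟨gF, hgF, hzg⟩ := hnak z hz
    rw [mem_ASub]
    intro j
    show v (b.repr (tE ^ m * z) j) ≤ 1
    have e3 : b.repr (tE ^ m * z) j = ∑ i, gF i * (t ^ m * b.repr (zs i) j) := by
      have h5 : tE ^ m * z = ∑ i, (t ^ m * gF i) • zs i := by
        rw [hzg, Finset.mul_sum]
        refine Finset.sum_congr rfl fun i _ => ?_
        rw [mul_smul, Algebra.smul_def (t ^ m), map_pow, htEdef]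
      rw [h5, map_sum, Finsupp.finset_sum_apply]
      refine Finset.sum_congr rfl fun i _ => ?_
      rw [map_smul, Finsupp.smul_apply, smul_eq_mul]
      ring
    rw [e3]
    apply v.map_sum_le
    intro i _
    rw [map_mul]
    exact mul_le_one' (hgF i) (htm i j)
  -- step 3
  obtain ⟨G₂, hG₂, hG₂z⟩ := exists_G hψ (e * m)
  refine ⟨G₂, hG₂, ?_⟩
  intro z hz
  obtain ⟨g, hg, hzg⟩ := hG₂z z hz
  have hwpow : w (tE ^ m) = exp (-((e * m : ℕ) : ℤ)) := by
    rw [map_pow, he, ← exp_nsmul]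
    congr 1
    push_cast
    simp only [nsmul_eq_mul]
    ring
  have hne : tE ^ m ≠ 0 := pow_ne_zero _ htE0
  have hz'' : w ((z - g) * (tE ^ m)⁻¹) ≤ 1 := by
    rw [map_mul, map_inv₀, hwpow, ← div_eq_mul_inv]
    exact div_le_one_of_le₀ hzg zero_le'
  have e4 : tE ^ m * ((z - g) * (tE ^ m)⁻¹) + g = z := by
    rw [mul_comm (z - g), ← mul_assoc, mul_inv_cancel₀ hne, one_mul, sub_add_cancel]
  rw [← e4]
  exact Submodule.add_mem _ (Submodule.mem_sup_left (hpow _ hz'')) (Submodule.mem_sup_right hg)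

lemma le_exp_neg_one_of_lt_one {x : ℤᵐ⁰} (hx : x < 1) : x ≤ exp (-(1 : ℤ)) := by
  rcases eq_or_ne x 0 with rfl | h0
  · exact zero_le'
  · have h1 : exp (log x) < exp (0 : ℤ) := by
      rw [exp_log h0]
      exact hx
    have h2 : log x < 0 := exp_lt_exp.mp h1
    have h3 : x = exp (log x) := (exp_log h0).symm
    conv_lhs => rw [h3]
    rw [exp_le_exp]
    omega

lemma exists_basis_le_one [FiniteDimensional F E] (hφ : LocRes.IsExpansionAt v φ) :
    ∃ b : Module.Basis (Fin (Module.finrank F E)) F E, ∀ i, w (b i) ≤ 1 := by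
  obtain ⟨t, ht⟩ := hφ.2.2
  have ht0 : t ≠ 0 := by
    intro h
    rw [h, map_zero] at ht
    exact exp_ne_zero ht.symm
  have htE : w (algebraMap F E t) ≤ exp (-(1 : ℤ)) := by
    apply le_exp_neg_one_of_lt_one
    rw [Valuation.HasExtension.val_map_lt_one_iff v w, ht]
    have : exp (-(1 : ℤ)) < exp (0 : ℤ) := exp_lt_exp.mpr (by norm_num)
    exact this
  let b₀ := Module.finBasis F E
  choose n hn using fun i => exists_nat_le_exp (w (b₀ i))
  refine ⟨b₀.isUnitSMul (w := fun i => t ^ n i) (fun i => (pow_ne_zero _ ht0).isUnit),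
    fun i => ?_⟩
  rw [Module.Basis.isUnitSMul_apply, Algebra.smul_def, map_mul, map_pow, map_pow]
  calc w (algebraMap F E t) ^ n i * w (b₀ i) ≤ exp (-(1 : ℤ)) ^ n i * w (b₀ i) :=
        mul_le_mul' (pow_le_pow_left₀ zero_le' htE _) le_rfl
    _ ≤ 1 := exp_pow_mul_le_one (hn i) le_rfl

end complete

/-- the scalar tower `K → L → L⸨X⸩` for the algebra-induced scalar actions -/
theorem isScalarTower_laurent (K L : Type*) [Field K] [Field L] [Algebra K L] :
    @IsScalarTower K L (LaurentSeries L) _ (Algebra.toSMul (R := L) (A := LaurentSeries L))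
      (Algebra.toSMul (R := K) (A := LaurentSeries L)) :=
  IsScalarTower.of_algebraMap_eq' (R := K) (S := L) (A := LaurentSeries L) (by
    ext x
    simp only [RingHom.comp_apply, HahnSeries.algebraMap_apply', PowerSeries.algebraMap_apply,
      Algebra.algebraMap_self, RingHom.id_apply])

end Groth.Agent.H4.TateComm
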