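import Groth.Agent.Lib.Helper5.Tate.Expansion2

/-! Tate's local residue at a general discrete valuation equals the residue read through a
Laurent expansion (generalisation of `FunFld.local_tres_eq_locRes` to arbitrary valuations). -/

set_option autoImplicit false

namespace Groth.Agent.H4.TateLoc

open Tate Tate.Laurent LaurentSeries HahnSeries WithZero LinearMap FunFld

variable {k K F : Type*} [Field k] [Field K] [Algebra k K] [Field F] [Algebra k F]

lemma v_C_le_one (a : F) : Valued.v (HahnSeries.C a : F⸨X⸩) ≤ (1 : ℤᵐ⁰) := by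
  rw [← mem_Lplus_iff]
  intro n hn
  show (HahnSeries.single 0 a).coeff n = 0
  exact HahnSeries.coeff_single_of_ne hn.ne

variable {w : Valuation K ℤᵐ⁰} {φ : K →ₐ[k] F⸨X⸩}

lemma v_algebraMap_le_one (hφ : LocRes.IsExpansionAt w φ) (c : k) :
    w (algebraMap k K c) ≤ 1 := by
  rw [← hφ.1, LocRes.map_algebraMap]
  exact v_C_le_one _

/-- The valuation ring of `w` as a `k`-subspace. -/
def OSub (hφ : LocRes.IsExpansionAt w φ) : Submodule k K where
  carrier := {x | w x ≤ 1}
  zero_mem' := by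
    show w 0 ≤ 1
    rw [map_zero]
    exact zero_le'
  add_mem' := fun {a b} ha hb => (w.map_add a b).trans (max_le ha hb)
  smul_mem' := fun c x hx => by
    show w (c • x) ≤ 1
    rw [Algebra.smul_def, map_mul]
    exact mul_le_one' (v_algebraMap_le_one hφ c) hx

lemma mem_OSub (hφ : LocRes.IsExpansionAt w φ) {x : K} : x ∈ OSub hφ ↔ w x ≤ 1 := Iff.rfl

lemma exists_v_eq (hφ : LocRes.IsExpansionAt w φ) (n : ℤ) : ∃ t' : K, w t' = exp n := by
  obtain ⟨t, ht⟩ := hφ.2.2
  refine ⟨t ^ (-n), ?_⟩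
  rw [map_zpow₀, ht, ← exp_zsmul]
  congr 1
  simp

lemma exists_approx (hφ : LocRes.IsExpansionAt w φ) : ∀ (n : ℕ) (y : F⸨X⸩),
    Valued.v y ≤ exp (n : ℤ) → ∃ x : K, Valued.v (y - φ x) ≤ (1 : ℤᵐ⁰) := by
  intro n
  induction n with
  | zero =>
    intro y hy
    refine ⟨0, ?_⟩
    rw [map_zero, sub_zero]
    simpa using hy
  | succ n ih =>
    intro y hy
    obtain ⟨t', ht'⟩ := exists_v_eq hφ ((n : ℤ) + 1)
    have hφt' : Valued.v (φ t') = exp ((n : ℤ) + 1) := by rw [hφ.1, ht']
    have hφt'0 : φ t' ≠ 0 := by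
      intro h0
      rw [h0, map_zero] at hφt'
      exact exp_ne_zero hφt'.symm
    set z := y * (φ t')⁻¹ with hz
    have hzv : Valued.v z ≤ (1 : ℤᵐ⁰) := by
      rw [hz, map_mul, map_inv₀, hφt']
      rw [← div_eq_mul_inv]
      apply div_le_one_of_le₀ _ zero_le
      push_cast at hy
      exact hy
    obtain ⟨u, hu1, hu2⟩ := hφ.2.1 (z.coeff 0)
    have hφu : Valued.v (φ u) ≤ (1 : ℤᵐ⁰) := by rw [hφ.1]; exact hu1
    have hzu : Valued.v (z - φ u) ≤ exp (-(1 : ℤ)) := by
      rw [LaurentSeries.valuation_le_iff_coeff_lt_eq_zero F]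
      intro m hm
      rw [HahnSeries.coeff_sub]
      by_cases h0 : m = 0
      · rw [h0, hu2, sub_self]
      · have hm' : m < 0 := by omega
        rw [(mem_Lplus_iff z).mpr hzv m hm', (mem_Lplus_iff (φ u)).mpr hφu m hm', sub_zero]
    have hy' : Valued.v (y - φ (u * t')) ≤ exp (n : ℤ) := by
      have e : y - φ (u * t') = φ t' * (z - φ u) := by
        rw [hz, map_mul]
        field_simp
      rw [e, map_mul, hφt']
      calc exp ((n : ℤ) + 1) * Valued.v (z - φ u) ≤ exp ((n : ℤ) + 1) * exp (-(1 : ℤ)) :=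
            mul_le_mul_right hzu _
        _ = exp (n : ℤ) := by rw [← exp_add]; congr 1; ring
    obtain ⟨x', hx'⟩ := ih _ hy'
    refine ⟨u * t' + x', ?_⟩
    have : y - φ (u * t' + x') = y - φ (u * t') - φ x' := by rw [map_add]; ring
    rw [this]
    exact hx'

/-- Density: every Laurent series is an expansion modulo `F⟦X⟧`. -/
lemma exists_sub_mem_Lplus (hφ : LocRes.IsExpansionAt w φ) (y : F⸨X⸩) :
    ∃ x : K, y - φ x ∈ Lplus F := by
  have : ∃ n : ℕ, Valued.v y ≤ exp (n : ℤ) := by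
    rcases eq_or_ne y 0 with rfl | hy
    · exact ⟨0, by simp⟩
    · have hv : Valued.v y ≠ 0 := (Valuation.ne_zero_iff _).mpr hy
      refine ⟨(log (Valued.v y)).toNat, ?_⟩
      rw [← exp_log hv]
      rw [exp_le_exp]
      exact Int.self_le_toNat _
  obtain ⟨n, hn⟩ := this
  obtain ⟨x, hx⟩ := exists_approx hφ n y hn
  exact ⟨x, (mem_Lplus_iff _).mpr hx⟩

/-- Tate's local residue equals the residue read through an expansion (general valuation). -/
theorem local_tres_eq_locRes [FiniteDimensional k F]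
    (hφ : LocRes.IsExpansionAt w φ) {πP : K →ₗ[k] K} (hπP : IsProj (OSub hφ) πP) (f g : K) :
    tres πP (mulK f) (mulK g) = LocRes.locRes φ f g := by
  set φₗ := expLin φ with hφₗ
  set C : Submodule k K := LinearMap.ker πP with hC
  set C_L : Submodule k F⸨X⸩ := C.map φₗ with hC_L
  have hidem : ∀ x, πP (πP x) = πP x := fun x => hπP.map_id _ (hπP.map_mem x)
  have hcompl : IsCompl (Lk k F) C_L := by
    constructor
    · rw [disjoint_iff, eq_bot_iff]
      rintro y ⟨hy1, ⟨c, hc, rfl⟩⟩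
      have hc1 : w c ≤ 1 := by
        have := (mem_Lplus_iff (φ c)).mp hy1
        rwa [hφ.1] at this
      have hc0 : c = 0 := by
        have h1 := hπP.map_id c hc1
        have h2 : πP c = 0 := hc
        rw [← h1, h2]
      show φₗ c ∈ (⊥ : Submodule k F⸨X⸩)
      rw [hc0, map_zero]
      exact Submodule.zero_mem _
    · rw [codisjoint_iff, eq_top_iff]
      intro y _
      obtain ⟨x, hx⟩ := exists_sub_mem_Lplus hφ y
      have e : y = (y - φ x + φ (πP x)) + φₗ (x - πP x) := by
        rw [hφₗ, expLin_apply, map_sub]; ring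
      rw [e]
      refine Submodule.add_mem _ (Submodule.mem_sup_left ?_) (Submodule.mem_sup_right ?_)
      · refine Submodule.add_mem _ hx ?_
        show φ (πP x) ∈ Lplus F
        rw [mem_Lplus_iff, hφ.1]
        exact hπP.map_mem x
      · refine ⟨x - πP x, ?_, rfl⟩
        show πP (x - πP x) = 0
        rw [map_sub, hidem, sub_self]
  set π_L := (Lk k F).projection C_L hcompl with hπ_L
  have hπ_Lproj : IsProj (Lk k F) π_L := isProj_projection hcompl
  have hker : ∀ c ∈ C_L, π_L c = 0 := fun c hc =>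
    (Submodule.projection_apply_eq_zero_iff hcompl).mpr hc
  have hπφ : φₗ ∘ₗ πP = π_L ∘ₗ φₗ := by
    ext x
    rw [LinearMap.comp_apply, LinearMap.comp_apply]
    have e : φₗ x = φₗ (πP x) + φₗ (x - πP x) := by rw [← map_add]; congr 1; ring
    have h1 : φₗ (πP x) ∈ Lk k F := by
      show φ (πP x) ∈ Lplus F
      rw [mem_Lplus_iff, hφ.1]
      exact hπP.map_mem x
    have h2 : φₗ (x - πP x) ∈ C_L := by
      refine ⟨x - πP x, ?_, rfl⟩
      show πP (x - πP x) = 0
      rw [map_sub, hidem, sub_self]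
    rw [e, map_add, hπ_Lproj.map_id _ h1, hker _ h2, add_zero]
  have hfφ : ∀ h : K, φₗ ∘ₗ mulK h = mulLk k (φ h) ∘ₗ φₗ := by
    intro h
    ext x
    simp only [LinearMap.comp_apply, mulK_apply, mulLk_apply, hφₗ, expLin_apply, map_mul]
  have hdense : ∀ y, y - π_L y ∈ LinearMap.range φₗ := by
    intro y
    have := Submodule.sub_projection_mem hcompl y
    obtain ⟨c, _, hc⟩ := this
    exact ⟨c, hc⟩
  rw [tres_transfer φₗ (expLin_injective φ) hπ_Lproj (mulLk_comm (φ f) (φ g))
    (nearStable_mulLk (φ f)) (nearStable_mulLk (φ g)) hπφ (hfφ f) (hfφ g) hdense,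
    tres_eq_of_isProj hπ_Lproj isProj_trunc_k (mulLk_comm (φ f) (φ g))
      (nearStable_mulLk (φ f)) (nearStable_mulLk (φ g))]
  have e : comm ((trunc F).restrictScalars k) (mulLk k (φ f)) (mulLk k (φ g)) =
      (Tfg (φ f) (φ g)).restrictScalars k := rfl
  rw [tres, e, fpTrace_restrictScalars k F _ (isFP_of_mem_E0 (Tfg_mem_E0 _ _)),
    fpTrace_Tfg_eq_res]
  rfl

end Groth.Agent.H4.TateLoc
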