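import Groth.Agent.Lib.Helper5.Tate.Expansion2

/-! Tate residues on finite products and the semi-local formula
`res_{⋂ Aᵢ} = ∑ res_{Aᵢ}` under weak approximation. -/

set_option autoImplicit false

namespace Groth.Agent.H4.TateProd

open Tate LinearMap

variable {k : Type*} [Field k] {W : Type*} [AddCommGroup W] [Module k W]
variable {ι : Type*} [Fintype ι] [DecidableEq ι]

/-- componentwise application -/
def dmap (h : ι → (W →ₗ[k] W)) : (ι → W) →ₗ[k] (ι → W) :=
  LinearMap.pi (fun i => h i ∘ₗ LinearMap.proj i)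

lemma dmap_apply (h : ι → (W →ₗ[k] W)) (a : ι → W) (i : ι) : dmap h a i = h i (a i) := rfl

variable (k) in
/-- inclusion of a factor -/
def sgl (i : ι) : W →ₗ[k] (ι → W) := LinearMap.single k (fun _ => W) i

variable (k) in
/-- projection to a factor -/
def prj (i : ι) : (ι → W) →ₗ[k] W := LinearMap.proj i

lemma prj_apply (i : ι) (a : ι → W) : prj k i a = a i := rfl

lemma sgl_apply (i j : ι) (x : W) : sgl k i x j = if j = i then x else 0 := by
  show (LinearMap.single k (fun _ => W) i x) j = _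
  rw [LinearMap.single_apply, Pi.single_apply]

lemma prj_sgl (i : ι) (x : W) : prj k i (sgl k i x) = x := by
  rw [prj_apply, sgl_apply, if_pos rfl]

/-- product subspace -/
def Api (A : ι → Submodule k W) : Submodule k (ι → W) := Submodule.pi Set.univ A

lemma mem_Api {A : ι → Submodule k W} {a : ι → W} : a ∈ Api A ↔ ∀ i, a i ∈ A i := by
  simp [Api, Submodule.mem_pi]

lemma sgl_mem_Api {A : ι → Submodule k W} {i : ι} {a : W} (ha : a ∈ A i) :
    sgl k i a ∈ Api A := by
  rw [mem_Api]
  intro j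
  rw [sgl_apply]
  split_ifs with h
  · rw [h]; exact ha
  · exact Submodule.zero_mem _

lemma isProj_dmap {A : ι → Submodule k W} {π : ι → W →ₗ[k] W} (hπ : ∀ i, IsProj (A i) (π i)) :
    IsProj (Api A) (dmap π) where
  map_mem a := mem_Api.mpr fun i => (hπ i).map_mem _
  map_id a ha := funext fun i => (hπ i).map_id _ (mem_Api.mp ha i)

lemma pblock_mem_E0 {A : ι → Submodule k W} {i : ι} {T : W →ₗ[k] W} (hT : T ∈ E0 (A i)) :
    sgl k i ∘ₗ T ∘ₗ prj k i ∈ E0 (Api A) := by
  obtain ⟨⟨G, hG, hr⟩, hm⟩ := hT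
  refine ⟨⟨G.map (sgl k i), inferInstance, ?_⟩, ?_⟩
  · rintro _ ⟨z, rfl⟩
    have h1 : T (prj k i z) ∈ A i ⊔ G := hr ⟨_, rfl⟩
    obtain ⟨a, ha, g, hg, hag⟩ := Submodule.mem_sup.mp h1
    show sgl k i (T (prj k i z)) ∈ _
    rw [← hag, map_add]
    exact Submodule.add_mem _ (Submodule.mem_sup_left (sgl_mem_Api ha))
      (Submodule.mem_sup_right ⟨g, hg, rfl⟩)
  · have hle : (Api A).map (sgl k i ∘ₗ T ∘ₗ prj k i) ≤ ((A i).map T).map (sgl k i) := by
      rintro _ ⟨z, hz, rfl⟩
      exact ⟨T (prj k i z), ⟨prj k i z, mem_Api.mp hz i, rfl⟩, rfl⟩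
    exact Submodule.finiteDimensional_of_le hle

lemma fpTrace_pblock {A : ι → Submodule k W} {i : ι} {T : W →ₗ[k] W} (hT : T ∈ E0 (A i)) :
    fpTrace (sgl k i ∘ₗ T ∘ₗ prj k i) = fpTrace T := by
  rw [fpTrace_comp_comm (sgl k i) (T ∘ₗ prj k i) (isFP_of_mem_E0 (pblock_mem_E0 hT))]
  congr 1
  ext x
  simp only [LinearMap.comp_apply, prj_sgl]

lemma dmap_eq_sum (T : ι → (W →ₗ[k] W)) : dmap T = ∑ i, sgl k i ∘ₗ T i ∘ₗ prj k i := by
  apply LinearMap.ext
  intro a
  funext j
  rw [dmap_apply, LinearMap.sum_apply, Finset.sum_apply]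
  simp only [LinearMap.comp_apply, sgl_apply, prj_apply]
  rw [Finset.sum_ite_eq]
  simp

lemma comm_dmap (π : ι → W →ₗ[k] W) (f g : W →ₗ[k] W) :
    comm (dmap π) (dmap fun _ => f) (dmap fun _ => g) = dmap (fun i => comm (π i) f g) := by
  apply LinearMap.ext
  intro a
  funext i
  rfl

theorem tres_dmap {A : ι → Submodule k W} {π : ι → W →ₗ[k] W} (hπ : ∀ i, IsProj (A i) (π i))
    {f g : W →ₗ[k] W} (hfg : f ∘ₗ g = g ∘ₗ f)
    (hf : ∀ i, NearStable (A i) f) (hg : ∀ i, NearStable (A i) g) :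
    tres (dmap π) (dmap fun _ => f) (dmap fun _ => g) = ∑ i, tres (π i) f g := by
  have hT : ∀ i, comm (π i) f g ∈ E0 (A i) := fun i => comm_mem_E0 (hπ i) hfg (hf i) (hg i)
  rw [tres, comm_dmap, dmap_eq_sum, fpTrace_sum_of_mem_E0 (A := Api A)]
  · refine Finset.sum_congr rfl fun i _ => ?_
    rw [fpTrace_pblock (hT i)]
    rfl
  · intro i _
    exact pblock_mem_E0 (hT i)

lemma nearStable_dmap {A : ι → Submodule k W} {f : W →ₗ[k] W} (hf : ∀ i, NearStable (A i) f) :
    NearStable (Api A) (dmap fun _ => f) := by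
  choose G hG hGle using hf
  refine ⟨⨆ i, (G i).map (sgl k i), inferInstance, ?_⟩
  rintro _ ⟨a, ha, rfl⟩
  have h1 : ∀ i, ∃ a' ∈ A i, ∃ g' ∈ G i, a' + g' = f (a i) := fun i =>
    Submodule.mem_sup.mp (hGle i ⟨a i, mem_Api.mp ha i, rfl⟩)
  choose a' ha' g' hg' hsum using h1
  have e : dmap (fun _ => f) a = a' + ∑ i, sgl k i (g' i) := by
    funext j
    rw [dmap_apply, Pi.add_apply, Finset.sum_apply]
    simp only [sgl_apply]
    rw [Finset.sum_ite_eq]
    simp only [Finset.mem_univ, if_true]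
    exact (hsum j).symm
  rw [e]
  refine Submodule.add_mem _ (Submodule.mem_sup_left (mem_Api.mpr ha')) (Submodule.mem_sup_right ?_)
  exact Submodule.sum_mem _ fun i _ => Submodule.mem_iSup_of_mem i ⟨g' i, hg' i, rfl⟩

/-- the semi-local formula -/
theorem tres_iInf_eq_sum (A : ι → Submodule k W) (π : ι → W →ₗ[k] W)
    (hπ : ∀ i, IsProj (A i) (π i)) {π' : W →ₗ[k] W} (hπ' : IsProj (⨅ i, A i) π')
    {f g : W →ₗ[k] W} (hfg : f ∘ₗ g = g ∘ₗ f)
    (hf : ∀ i, NearStable (A i) f) (hg : ∀ i, NearStable (A i) g)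
    (happrox : ∀ a : ι → W, ∃ z : W, ∀ i, a i - z ∈ A i) :
    tres π' f g = ∑ i, tres (π i) f g := by
  rcases isEmpty_or_nonempty ι with hι | hι
  · have hπid : ∀ x, π' x = x := fun x =>
      hπ'.map_id x (by rw [iInf_of_empty]; exact Submodule.mem_top)
    rw [Finset.univ_eq_empty, Finset.sum_empty, tres]
    apply fpTrace_eq_zero_of_pow_eq_zero (n := 1)
    rw [pow_one]
    ext x
    rw [comm_apply, hπid, hπid, LinearMap.zero_apply]
    have := LinearMap.congr_fun hfg x
    simp only [LinearMap.comp_apply] at this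
    rw [this, sub_self]
  · obtain ⟨δ, hδapp⟩ : ∃ δ : W →ₗ[k] (ι → W), ∀ z i, δ z i = z :=
      ⟨LinearMap.pi (fun _ => LinearMap.id), fun _ _ => rfl⟩
    have hδinj : Function.Injective δ := by
      intro z z' h
      have := congrFun h (Classical.arbitrary ι)
      rwa [hδapp, hδapp] at this
    have hidem : ∀ x, π' (π' x) = π' x := fun x => hπ'.map_id _ (hπ'.map_mem x)
    have hBle : ∀ {z}, z ∈ (⨅ i, A i) → ∀ i, z ∈ A i := fun hz i =>
      (Submodule.mem_iInf _).mp hz i
    have hδB : ∀ {z}, z ∈ (⨅ i, A i) → δ z ∈ Api A := fun hz =>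
      mem_Api.mpr fun i => by rw [hδapp]; exact hBle hz i
    set C : Submodule k W := LinearMap.ker π' with hC
    set CV : Submodule k (ι → W) := C.map δ with hCV
    have hcompl : IsCompl (Api A) CV := by
      constructor
      · rw [disjoint_iff, eq_bot_iff]
        rintro y ⟨hy1, ⟨c, hc, rfl⟩⟩
        have hcB : c ∈ ⨅ i, A i := (Submodule.mem_iInf _).mpr fun i => by
          have := mem_Api.mp hy1 i
          rwa [hδapp] at this
        have hc0 : c = 0 := by
          have h1 := hπ'.map_id c hcB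
          have h2 : π' c = 0 := hc
          rw [← h1, h2]
        show δ c ∈ (⊥ : Submodule k (ι → W))
        rw [hc0, map_zero]
        exact Submodule.zero_mem _
      · rw [codisjoint_iff, eq_top_iff]
        intro a _
        obtain ⟨z, hz⟩ := happrox a
        have e : a = (a - δ z + δ (π' z)) + δ (z - π' z) := by
          rw [map_sub]
          abel
        rw [e]
        refine Submodule.add_mem _ (Submodule.mem_sup_left ?_) (Submodule.mem_sup_right ?_)
        · refine Submodule.add_mem _ (mem_Api.mpr fun i => ?_) (hδB (hπ'.map_mem z))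
          rw [Pi.sub_apply, hδapp]
          exact hz i
        · refine ⟨z - π' z, ?_, rfl⟩
          show π' (z - π' z) = 0
          rw [map_sub, hidem, sub_self]
    set πV := (Api A).projection CV hcompl with hπV
    have hπVproj : IsProj (Api A) πV := isProj_projection hcompl
    have hker : ∀ c ∈ CV, πV c = 0 := fun c hc =>
      (Submodule.projection_apply_eq_zero_iff hcompl).mpr hc
    have hπφ : δ ∘ₗ π' = πV ∘ₗ δ := by
      apply LinearMap.ext
      intro x
      rw [LinearMap.comp_apply, LinearMap.comp_apply]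
      have e : δ x = δ (π' x) + δ (x - π' x) := by
        rw [← map_add]
        congr 1
        abel
      have h1 : δ (π' x) ∈ Api A := hδB (hπ'.map_mem x)
      have h2 : δ (x - π' x) ∈ CV := by
        refine ⟨x - π' x, ?_, rfl⟩
        show π' (x - π' x) = 0
        rw [map_sub, hidem, sub_self]
      rw [e, map_add, hπVproj.map_id _ h1, hker _ h2, add_zero]
    have hfφ : ∀ h : W →ₗ[k] W, δ ∘ₗ h = dmap (fun _ => h) ∘ₗ δ := by
      intro h
      apply LinearMap.ext
      intro x
      funext i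
      rw [LinearMap.comp_apply, LinearMap.comp_apply, dmap_apply, hδapp, hδapp]
    have hdense : ∀ y, y - πV y ∈ LinearMap.range δ := by
      intro y
      have := Submodule.sub_projection_mem hcompl y
      obtain ⟨c, _, hc⟩ := this
      exact ⟨c, hc⟩
    have hfV := nearStable_dmap hf
    have hgV := nearStable_dmap hg
    have hfgV : dmap (fun _ : ι => f) ∘ₗ dmap (fun _ => g) =
        dmap (fun _ => g) ∘ₗ dmap (fun _ => f) := by
      apply LinearMap.ext
      intro a
      funext i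
      exact LinearMap.congr_fun hfg (a i)
    rw [tres_transfer δ hδinj hπVproj hfgV hfV hgV hπφ (hfφ f) (hfφ g) hdense,
      tres_eq_of_isProj hπVproj (isProj_dmap hπ) hfgV hfV hgV, tres_dmap hπ hfg hf hg]

end Groth.Agent.H4.TateProd
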