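import Mathlib
import Groth.Agent.H4.TbA

/-!
# Descent of a cartesian square along principal bundles (scheme-level)
-/

set_option autoImplicit false

universe u

open CategoryTheory CategoryTheory.Limits AlgebraicGeometry MorphismProperty

namespace Groth.Agent.H4.TbC

theorem isPullback_of_faces {A GX GY G QXY QX QY B : Scheme.{u}}
    (wX : A ⟶ GX) (wY : A ⟶ GY) (gX : GX ⟶ G) (gY : GY ⟶ G)
    (qXY : A ⟶ QXY) (qX : GX ⟶ QX) (qY : GY ⟶ QY) (π : G ⟶ B)
    (fX : QXY ⟶ QX) (fY : QXY ⟶ QY) (pX : QX ⟶ B) (pY : QY ⟶ B)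
    (sqW : IsPullback wY wX gY gX)
    (sqY : IsPullback gY qY π pY)
    (sqF : IsPullback wX qXY qX fX)
    (e_pX : gX ≫ π = qX ≫ pX) (e_fY : qXY ≫ fY = wY ≫ qY) (e_w : fX ≫ pX = fY ≫ pY)
    [Flat qX] [Surjective qX] [QuasiCompact qX] :
    IsPullback fX fY pX pY := by
  have sqZ : IsPullback (pullback.fst pX pY) (pullback.snd pX pY) pX pY :=
    IsPullback.of_hasPullback pX pY
  obtain ⟨Θ, hΘ1, hΘ2⟩ : ∃ Θ : QXY ⟶ pullback pX pY,
      Θ ≫ pullback.fst pX pY = fX ∧ Θ ≫ pullback.snd pX pY = fY :=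
    ⟨pullback.lift fX fY e_w, pullback.lift_fst _ _ _, pullback.lift_snd _ _ _⟩
  have outer1 : IsPullback (wY ≫ qY) wX pY (gX ≫ π) := sqW.paste_horiz sqY.flip
  have sqZ' : IsPullback (qXY ≫ Θ) wX (pullback.fst pX pY) qX := by
    refine IsPullback.of_right ?_ ?_ sqZ.flip
    · rw [Category.assoc, hΘ2, e_fY, ← e_pX]
      exact outer1
    · rw [Category.assoc, hΘ1]
      exact sqF.w.symm
  have final : IsPullback (𝟙 A) qXY (qXY ≫ Θ) Θ := by
    refine IsPullback.of_right ?_ (Category.id_comp _) sqZ'.flip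
    rw [Category.id_comp, hΘ1]
    exact sqF
  have h1 : Surjective (qXY ≫ Θ) :=
    MorphismProperty.of_isPullback (P := @Surjective) sqZ'.flip inferInstance
  have h2 : Flat (qXY ≫ Θ) :=
    MorphismProperty.of_isPullback (P := @Flat) sqZ'.flip inferInstance
  have h3 : QuasiCompact (qXY ≫ Θ) :=
    MorphismProperty.of_isPullback (P := @QuasiCompact) sqZ'.flip inferInstance
  have hiso : (isomorphisms Scheme.{u}) Θ :=
    of_isPullback_of_descendsAlong (P := isomorphisms Scheme.{u})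
      (Q := @Surjective ⊓ @Flat ⊓ @QuasiCompact) final ⟨⟨h1, h2⟩, h3⟩
      (inferInstanceAs (IsIso (𝟙 A)))
  haveI : IsIso Θ := hiso
  exact IsPullback.of_iso_pullback ⟨e_w⟩ (asIso Θ) hΘ1 hΘ2

end Groth.Agent.H4.TbC
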