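import Mathlib
import Groth.Agent.H4.WRc
import Groth.Agent.H4.HbI

/-! helper4: the closed locus of a base over which a scheme `H` lands in a closed subscheme `Y`,
when `H` carries a universally schematically dominant family of finite flat subschemes. -/

set_option autoImplicit false

universe u

namespace Groth.Agent.H4.TdA

open CategoryTheory Limits AlgebraicGeometry
open Groth.Agent.H4

section Fac

/-- factorization through a closed immersion in terms of kernels -/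
lemma fac_iff {X Z T : Scheme.{u}} (c : Z ⟶ X) [IsClosedImmersion c] (g : T ⟶ X) :
    (∃ z : T ⟶ Z, z ≫ c = g) ↔ c.ker ≤ g.ker := by
  constructor
  · rintro ⟨z, rfl⟩
    exact Scheme.Hom.le_ker_comp z c
  · intro h
    exact ⟨IsClosedImmersion.lift c g h, IsClosedImmersion.lift_fac c g h⟩

/-- scheme-theoretic intersection of a family of closed subschemes -/
lemma inter_rep {X : Scheme.{u}} {ι : Type*} (Zc : ι → Scheme.{u}) (c : ∀ i, Zc i ⟶ X)
    [∀ i, IsClosedImmersion (c i)] :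
    ∃ (T : Scheme.{u}) (t : T ⟶ X), IsClosedImmersion t ∧ t.ker = ⨆ i, (c i).ker ∧
      ∀ ⦃W : Scheme.{u}⦄ (g : W ⟶ X), (∃ g' : W ⟶ T, g' ≫ t = g) ↔ ∀ i, ∃ z : W ⟶ Zc i, z ≫ c i = g := by
  refine ⟨(⨆ i, (c i).ker).subscheme, (⨆ i, (c i).ker).subschemeι, inferInstance,
    Scheme.IdealSheafData.ker_subschemeι _, fun W g => ?_⟩
  rw [fac_iff, Scheme.IdealSheafData.ker_subschemeι, iSup_le_iff]
  exact forall_congr' fun i => (fac_iff (c i) g).symm

lemma exists_eq_iSup_of_directed {A : Type*} [CommRing A] [IsNoetherianRing A] {ι : Type*}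
    [Nonempty ι] (J : ι → Ideal A) (hJ : Directed (· ≤ ·) J) : ∃ i, ⨆ k, J k = J i := by
  have hwf : WellFounded ((· > ·) : Ideal A → Ideal A → Prop) :=
    (inferInstance : WellFoundedGT (Ideal A)).wf
  obtain ⟨_, ⟨i, rfl⟩, hmax⟩ := hwf.has_min (Set.range J) (Set.range_nonempty J)
  refine ⟨i, le_antisymm (iSup_le fun k => ?_) (le_iSup J i)⟩
  obtain ⟨l, hkl, hil⟩ := hJ k i
  have : J l = J i := by
    by_contra hne
    exact hmax (J l) ⟨l, rfl⟩ (lt_of_le_of_ne hil (Ne.symm hne))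
  exact this ▸ hkl

lemma exists_eq_iSup_idealSheaf {B : Scheme.{u}} [IsNoetherian B] {ι : Type*} [Nonempty ι]
    (I : ι → B.IdealSheafData) (hI : Directed (· ≤ ·) I) : ∃ i, ⨆ k, I k = I i := by
  classical
  obtain ⟨t, ht⟩ := (isCompact_univ (X := B)).elim_finite_subcover
    (fun U : B.affineOpens => (U.1 : Set B)) (fun U => U.1.2) (by
      intro x _
      obtain ⟨U, hU, hxU, -⟩ := exists_isAffineOpen_mem_and_subset (x := x) (U := ⊤) trivial
      exact Set.mem_iUnion.mpr ⟨⟨U, hU⟩, hxU⟩)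
  have hex : ∀ U : B.affineOpens, ∃ i, ⨆ k, (I k).ideal U = (I i).ideal U := by
    intro U
    haveI : IsNoetherianRing Γ(B, U.1) := IsLocallyNoetherian.component_noetherian U
    exact exists_eq_iSup_of_directed (fun k => (I k).ideal U) (fun k l => by
      obtain ⟨m, h1, h2⟩ := hI k l
      exact ⟨m, h1 U, h2 U⟩)
  choose f hf using hex
  obtain ⟨z, hz⟩ := hI.finset_le (t.image f)
  refine ⟨z, ?_⟩
  refine Scheme.IdealSheafData.ext_of_iSup_eq_top (fun U : t => U.1) ?_ ?_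
  · rw [eq_top_iff]
    intro x _
    obtain ⟨U, hU⟩ := Set.mem_iUnion.mp (ht (Set.mem_univ x))
    obtain ⟨hUt, hxU⟩ := Set.mem_iUnion.mp hU
    exact TopologicalSpace.Opens.mem_iSup.mpr ⟨⟨U, hUt⟩, hxU⟩
  · rintro ⟨U, hUt⟩
    apply le_antisymm
    · rw [Scheme.IdealSheafData.ideal_iSup, iSup_apply, hf U]
      exact hz (f U) (Finset.mem_image_of_mem f hUt) U
    · exact (le_iSup I z) U

end Fac

section GenL

variable {S H B Y HB : Scheme.{u}} (h : H ⟶ S) {ι : Type u} (Z : ι → Scheme.{u})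
  (j : ∀ i, Z i ⟶ H) (b : B ⟶ S) (p₁ : HB ⟶ H) (hB : HB ⟶ B) (sq : IsPullback p₁ hB h b)
  (y : Y ⟶ HB)

/-- test-point form: the `i`-th member of the family, base changed along `g`, lands in `Y` -/
def Qi (i : ι) ⦃X : Scheme.{u}⦄ (g : X ⟶ B) : Prop :=
  ∀ ⦃T : Scheme.{u}⦄ (q : T ⟶ X) (s : T ⟶ Z i) (e : (s ≫ j i) ≫ h = (q ≫ g) ≫ b),
    ∃ l : T ⟶ Y, l ≫ y = sq.lift (s ≫ j i) (q ≫ g) e

/-- test-point form: `H`, base changed along `g`, lands in `Y` -/
def Qinf ⦃X : Scheme.{u}⦄ (g : X ⟶ B) : Prop :=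
  ∀ ⦃T : Scheme.{u}⦄ (q : T ⟶ X) (s : T ⟶ H) (e : s ≫ h = (q ≫ g) ≫ b),
    ∃ l : T ⟶ Y, l ≫ y = sq.lift s (q ≫ g) e

variable {h Z j b p₁ hB sq y}

lemma qi_of_qinf {X : Scheme.{u}} {g : X ⟶ B} (hq : Qinf h b p₁ hB sq y g) (i : ι) :
    Qi h Z j b p₁ hB sq y i g :=
  fun _ q s e => hq q (s ≫ j i) e

lemma qi_mono {i i' : ι} (a : Z i ⟶ Z i') (ha : a ≫ j i' = j i) {X : Scheme.{u}} {g : X ⟶ B}
    (hq : Qi h Z j b p₁ hB sq y i' g) : Qi h Z j b p₁ hB sq y i g := by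
  intro T q s e
  have e' : ((s ≫ a) ≫ j i') ≫ h = (q ≫ g) ≫ b := by
    rw [Category.assoc s a, ha]; exact e
  obtain ⟨l, hl⟩ := hq q (s ≫ a) e'
  refine ⟨l, hl.trans ?_⟩
  apply sq.hom_ext <;> simp [ha]

variable (h Z j b p₁ hB sq y)

lemma rep_i (i : ι) [IsFinite (j i ≫ h)] [Flat (j i ≫ h)]
    [LocallyOfFinitePresentation (j i ≫ h)] [IsClosedImmersion y] :
    ∃ (Zc : Scheme.{u}) (c : Zc ⟶ B), IsClosedImmersion c ∧
      ∀ ⦃X : Scheme.{u}⦄ (g : X ⟶ B), Qi h Z j b p₁ hB sq y i g ↔ ∃ z : X ⟶ Zc, z ≫ c = g := by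
  let πB : pullback (j i ≫ h) b ⟶ B := pullback.snd (j i ≫ h) b
  let jB : pullback (j i ≫ h) b ⟶ HB := sq.lift (pullback.fst (j i ≫ h) b ≫ j i)
    (pullback.snd (j i ≫ h) b)
    (by simpa using pullback.condition (f := j i ≫ h) (g := b))
  let w : pullback y jB ⟶ pullback (j i ≫ h) b := pullback.snd y jB
  obtain ⟨Zc, c, hc, hrep⟩ := WRc.weil_rep πB w (fun x => HbI.hloc_of_flf πB x)
  refine ⟨Zc, c, hc, fun X g => ?_⟩
  rw [← hrep]
  constructor
  · intro hq T'' q s' e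
    have e1 : ((s' ≫ pullback.fst (j i ≫ h) b) ≫ j i) ≫ h = (q ≫ g) ≫ b := by
      rw [e]
      simp only [Category.assoc]
      congr 1
      exact pullback.condition (f := j i ≫ h) (g := b)
    obtain ⟨l, hl⟩ := hq q (s' ≫ pullback.fst (j i ≫ h) b) e1
    have e2 : l ≫ y = s' ≫ jB := by
      rw [hl]; apply sq.hom_ext <;> simp [jB, e, πB, pullback.lift_fst, pullback.lift_snd]
    exact ⟨pullback.lift l s' e2, pullback.lift_snd _ _ _⟩
  · intro hp T q s e
    let s' : T ⟶ pullback (j i ≫ h) b := pullback.lift s (q ≫ g) (by simpa using e)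
    obtain ⟨l', hl'⟩ := hp q s' (by simp [s', πB, pullback.lift_snd])
    refine ⟨l' ≫ pullback.fst y jB, ?_⟩
    rw [Category.assoc, pullback.condition, ← Category.assoc]
    change (l' ≫ w) ≫ jB = _
    rw [hl']
    apply sq.hom_ext <;> simp [jB, s', pullback.lift_fst_assoc, pullback.lift_snd]

/-- vanishing of a section pulled back along a map factoring through a closed subscheme on
which it vanishes -/
lemma app_eq_zero_of_fac {P Y' Zi : Scheme.{u}} (y' : Y' ⟶ P) (m : Zi ⟶ P) (σ : Zi ⟶ Y')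
    (hσ : σ ≫ y' = m) (U : P.Opens) (t : Γ(P, U)) (ht : y'.app U t = 0) : m.app U t = 0 := by
  subst hσ
  have e : (σ ≫ y').app U t = σ.app (y' ⁻¹ᵁ U) (y'.app U t) := rfl
  rw [e, ht, map_zero]
  rfl

lemma qinf_of_forall_qi [IsClosedImmersion y]
    (UD : ∀ (S' : Scheme.{u}) (g : S' ⟶ S) (V : (pullback h g).Opens) (t : Γ(pullback h g, V)),
      (∀ i, (pullback.map (j i ≫ h) g h g (j i) (𝟙 S') (𝟙 S) (Category.comp_id _)
        ((Category.comp_id _).trans (Category.id_comp _).symm)).app V t = 0) → t = 0)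
    {X : Scheme.{u}} (g : X ⟶ B) (hq : ∀ i, Qi h Z j b p₁ hB sq y i g) :
    Qinf h b p₁ hB sq y g := by
  let φ' : pullback h (g ≫ b) ⟶ HB := sq.lift (pullback.fst h (g ≫ b))
    (pullback.snd h (g ≫ b) ≫ g)
    (by simpa using pullback.condition (f := h) (g := g ≫ b))
  let y' : pullback y φ' ⟶ pullback h (g ≫ b) := pullback.snd y φ'
  have hker : y'.ker = ⊥ := by
    apply Scheme.IdealSheafData.ext
    funext U
    rw [Scheme.Hom.ker_apply]
    simp only [Scheme.IdealSheafData.ideal_bot, Pi.bot_apply]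
    rw [eq_bot_iff]
    intro t ht
    rw [RingHom.mem_ker] at ht
    refine (Submodule.mem_bot _).mpr (UD X (g ≫ b) U.1 t fun i => ?_)
    obtain ⟨l, hl⟩ := hq i (pullback.snd (j i ≫ h) (g ≫ b)) (pullback.fst (j i ≫ h) (g ≫ b))
      (by simpa using pullback.condition (f := j i ≫ h) (g := g ≫ b))
    have e2 : l ≫ y = (pullback.map (j i ≫ h) (g ≫ b) h (g ≫ b) (j i) (𝟙 X) (𝟙 S)
        (Category.comp_id _) ((Category.comp_id _).trans (Category.id_comp _).symm)) ≫ φ' := by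
      rw [hl]; apply sq.hom_ext <;> simp [φ', pullback.map, pullback.lift_fst, pullback.lift_snd_assoc]
    exact app_eq_zero_of_fac y' _ (pullback.lift l _ e2) (pullback.lift_snd _ _ _) U.1 t ht
  have hiso : IsIso y' := IsClosedImmersion.isIso_iff_ker_eq_bot.mpr hker
  intro T q s e
  let r : T ⟶ pullback h (g ≫ b) := pullback.lift s q (by simpa using e)
  refine ⟨r ≫ inv y' ≫ pullback.fst y φ', ?_⟩
  rw [Category.assoc, Category.assoc, pullback.condition]
  change r ≫ inv y' ≫ y' ≫ φ' = _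
  rw [IsIso.inv_hom_id_assoc]
  apply sq.hom_ext <;> simp [r, φ', pullback.lift_fst, pullback.lift_snd_assoc]

/-- **General lemma**, representability. -/
theorem gl1 [∀ i, IsFinite (j i ≫ h)] [∀ i, Flat (j i ≫ h)]
    [∀ i, LocallyOfFinitePresentation (j i ≫ h)] [IsClosedImmersion y]
    (UD : ∀ (S' : Scheme.{u}) (g : S' ⟶ S) (V : (pullback h g).Opens) (t : Γ(pullback h g, V)),
      (∀ i, (pullback.map (j i ≫ h) g h g (j i) (𝟙 S') (𝟙 S) (Category.comp_id _)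
        ((Category.comp_id _).trans (Category.id_comp _).symm)).app V t = 0) → t = 0) :
    ∃ (T : Scheme.{u}) (t : T ⟶ B), IsClosedImmersion t ∧
      ∀ ⦃X : Scheme.{u}⦄ (g : X ⟶ B), (∃ g' : X ⟶ T, g' ≫ t = g) ↔ Qinf h b p₁ hB sq y g := by
  choose Zc c hc hrep using fun i => rep_i h Z j b p₁ hB sq y i
  haveI : ∀ i, IsClosedImmersion (c i) := hc
  obtain ⟨T, t, ht, -, hT⟩ := inter_rep Zc c
  refine ⟨T, t, ht, fun X g => ?_⟩
  rw [hT]
  constructor
  · intro hz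
    exact qinf_of_forall_qi h Z j b p₁ hB sq y UD g (fun i => (hrep i g).mpr (hz i))
  · intro hq i
    exact (hrep i g).mp (qi_of_qinf hq i)

/-- **General lemma**, Noetherian stabilization. -/
theorem gl2 [∀ i, IsFinite (j i ≫ h)] [∀ i, Flat (j i ≫ h)]
    [∀ i, LocallyOfFinitePresentation (j i ≫ h)] [IsClosedImmersion y]
    (UD : ∀ (S' : Scheme.{u}) (g : S' ⟶ S) (V : (pullback h g).Opens) (t : Γ(pullback h g, V)),
      (∀ i, (pullback.map (j i ≫ h) g h g (j i) (𝟙 S') (𝟙 S) (Category.comp_id _)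
        ((Category.comp_id _).trans (Category.id_comp _).symm)).app V t = 0) → t = 0)
    [IsNoetherian B] [Nonempty ι]
    (hdir : ∀ i i' : ι, ∃ i'' : ι, (∃ a : Z i ⟶ Z i'', a ≫ j i'' = j i) ∧
      (∃ a : Z i' ⟶ Z i'', a ≫ j i'' = j i')) :
    ∃ i : ι, ∀ ⦃X : Scheme.{u}⦄ (g : X ⟶ B),
      Qinf h b p₁ hB sq y g ↔ Qi h Z j b p₁ hB sq y i g := by
  choose Zc c hc hrep using fun i => rep_i h Z j b p₁ hB sq y i
  haveI : ∀ i, IsClosedImmersion (c i) := hc
  have hmono : ∀ {i i' : ι} (a : Z i ⟶ Z i') (_ : a ≫ j i' = j i), (c i).ker ≤ (c i').ker := by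
    intro i i' a ha
    refine (fac_iff (c i) (c i')).mp ((hrep i (c i')).mp (qi_mono a ha ?_))
    exact (hrep i' (c i')).mpr ⟨𝟙 _, Category.id_comp _⟩
  have hD : Directed (· ≤ ·) (fun i => (c i).ker) := by
    intro i i'
    obtain ⟨i'', ⟨a, ha⟩, ⟨a', ha'⟩⟩ := hdir i i'
    exact ⟨i'', hmono a ha, hmono a' ha'⟩
  obtain ⟨i₀, hi₀⟩ := exists_eq_iSup_idealSheaf (fun i => (c i).ker) hD
  refine ⟨i₀, fun X g => ⟨fun hq => qi_of_qinf hq i₀, fun hq => ?_⟩⟩
  refine qinf_of_forall_qi h Z j b p₁ hB sq y UD g (fun i => (hrep i g).mpr ?_)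
  rw [fac_iff]
  have h0 : (c i₀).ker ≤ g.ker := (fac_iff (c i₀) g).mp ((hrep i₀ g).mp hq)
  exact (le_iSup (fun i => (c i).ker) i).trans (hi₀.le.trans h0)

end GenL

end Groth.Agent.H4.TdA
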