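import Mathlib
import Groth.Agent.H4.TdA
import Groth.Agent.S4876
import Groth.Agent.Lib.Helper1.EtNhd

/-! helper4: SGA3 IX: closed locus where a commutative group with dense torsion lands in a closed
subscheme. -/

set_option autoImplicit false

universe u

namespace Groth.Agent.H4.TdB

open CategoryTheory Limits AlgebraicGeometry MonoidalCategory CartesianMonoidalCategory MonObj GrpObj
open Groth.Agent.H4 Groth.Agent.H4.TdA

section IdSq

variable {S H Y : Scheme.{u}} (h : H ⟶ S) {κ : Type u} (Z : κ → Scheme.{u})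
  (j : ∀ i, Z i ⟶ H) (y : Y ⟶ H)

lemma qinf_id_iff {X : Scheme.{u}} (g : X ⟶ S) :
    Qinf h (𝟙 S) (𝟙 H) h (IsPullback.id_horiz h) y g ↔
      ∃ l : pullback h g ⟶ Y, l ≫ y = pullback.fst h g := by
  constructor
  · intro hq
    obtain ⟨l, hl⟩ := hq (pullback.snd h g) (pullback.fst h g)
      (by simpa using pullback.condition (f := h) (g := g))
    refine ⟨l, hl.trans ?_⟩
    simpa using (IsPullback.id_horiz h).lift_fst (pullback.fst h g) (pullback.snd h g ≫ g)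
      (by simpa using pullback.condition (f := h) (g := g))
  · rintro ⟨l, hl⟩ T q s e
    refine ⟨pullback.lift s q (by simpa using e) ≫ l, ?_⟩
    rw [Category.assoc, hl, pullback.lift_fst]
    symm
    simpa using (IsPullback.id_horiz h).lift_fst s (q ≫ g) e

lemma qi_id_iff (i : κ) {X : Scheme.{u}} (g : X ⟶ S) :
    Qi h Z j (𝟙 S) (𝟙 H) h (IsPullback.id_horiz h) y i g ↔
      ∃ l : pullback (j i ≫ h) g ⟶ Y, l ≫ y = pullback.fst (j i ≫ h) g ≫ j i := by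
  constructor
  · intro hq
    obtain ⟨l, hl⟩ := hq (pullback.snd (j i ≫ h) g) (pullback.fst (j i ≫ h) g)
      (by simpa using pullback.condition (f := j i ≫ h) (g := g))
    refine ⟨l, hl.trans ?_⟩
    simpa using (IsPullback.id_horiz h).lift_fst (pullback.fst (j i ≫ h) g ≫ j i)
      (pullback.snd (j i ≫ h) g ≫ g)
      (by simpa using pullback.condition (f := j i ≫ h) (g := g))
  · rintro ⟨l, hl⟩ T q s e
    refine ⟨pullback.lift s q (by simpa using e) ≫ l, ?_⟩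
    rw [Category.assoc, hl, pullback.lift_fst_assoc]
    symm
    simpa using (IsPullback.id_horiz h).lift_fst (s ≫ j i) (q ≫ g) e

end IdSq

section Tors

variable {S : Scheme.{u}} (H : Over S) [GrpObj H]

lemma pow_mul_comp (m n : ℕ) :
    ((𝟙 H : H ⟶ H) ^ (m * n)) = ((𝟙 H : H ⟶ H) ^ m) ≫ ((𝟙 H : H ⟶ H) ^ n) := by
  rw [MonObj.comp_pow, Category.comp_id, pow_mul]

lemma unit_pow (n : ℕ) : η[H] ≫ ((𝟙 H : H ⟶ H) ^ n) = η[H] := by
  rw [MonObj.comp_pow, Category.comp_id, MonObj.one_eq_one, one_pow]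

/-- the `m`-torsion is contained in the `m * n`-torsion -/
lemma ker_le (m n : ℕ) :
    ∃ a : pullback η[H].left ((𝟙 H : H ⟶ H) ^ m).left ⟶
        pullback η[H].left ((𝟙 H : H ⟶ H) ^ (m * n)).left,
      a ≫ pullback.snd _ _ = pullback.snd _ _ := by
  refine ⟨pullback.lift (pullback.fst _ _) (pullback.snd _ _) ?_, pullback.lift_snd _ _ _⟩
  have c₀ := pullback.condition (f := η[H].left) (g := ((𝟙 H : H ⟶ H) ^ m).left)
  rw [pow_mul_comp, Over.comp_left, ← Category.assoc, ← c₀, Category.assoc, ← Over.comp_left,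
    unit_pow]

lemma ker_le' (m n : ℕ) :
    ∃ a : pullback η[H].left ((𝟙 H : H ⟶ H) ^ n).left ⟶
        pullback η[H].left ((𝟙 H : H ⟶ H) ^ (m * n)).left,
      a ≫ pullback.snd _ _ = pullback.snd _ _ := by
  rw [mul_comm]
  exact ker_le H n m

end Tors

section Main

open CategoryTheory.Limits in
theorem main6065 {S : Scheme.{u}} [IsLocallyNoetherian S]
    (H : Over S) [GrpObj H] [LocallyOfFiniteType H.hom]
    (E : Set ℕ) (hE : E.Nonempty) (hEmul : ∀ m ∈ E, ∀ n ∈ E, m * n ∈ E)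
    (ha : ∀ n ∈ E, IsFinite ((pullback.snd η[H].left (𝟙 H ^ n : H ⟶ H).left) ≫ H.hom) ∧ Flat ((pullback.snd η[H].left (𝟙 H ^ n : H ⟶ H).left) ≫ H.hom))
    (hb : ∀ (s : S) (V : (H.hom.fiber s).Opens) (t : Γ(H.hom.fiber s, V)),
      (∀ n ∈ E, (MoreMor.fiberMap (pullback.snd η[H].left (𝟙 H ^ n : H ⟶ H).left) H.hom s).app V t = 0) → t = 0)
    (Y : Scheme.{u}) (y : Y ⟶ H.left) [IsClosedImmersion y] :
    (∃ (T : Scheme.{u}) (t : T ⟶ S), IsClosedImmersion t ∧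
      ∀ (S' : Scheme.{u}) (g : S' ⟶ S), (∃ g' : S' ⟶ T, g' ≫ t = g) ↔
        ∃ l : pullback H.hom g ⟶ Y, l ≫ y = pullback.fst H.hom g) ∧
    (AlgebraicGeometry.IsNoetherian S → ∃ n ∈ E, ∀ (S' : Scheme.{u}) (g : S' ⟶ S),
      (∃ l : pullback H.hom g ⟶ Y, l ≫ y = pullback.fst H.hom g) ↔
        ∃ l : pullback ((pullback.snd η[H].left (𝟙 H ^ n : H ⟶ H).left) ≫ H.hom) g ⟶ Y,
          l ≫ y = pullback.fst ((pullback.snd η[H].left (𝟙 H ^ n : H ⟶ H).left) ≫ H.hom) g ≫ (pullback.snd η[H].left (𝟙 H ^ n : H ⟶ H).left)) := by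
  let κ : Type u := ULift.{u} {n : ℕ // n ∈ E}
  let Z : κ → Scheme.{u} := fun i => pullback η[H].left ((𝟙 H : H ⟶ H) ^ (i.down.1)).left
  let j : ∀ i, Z i ⟶ H.left := fun i => pullback.snd _ _
  haveI hfin : ∀ i, IsFinite (j i ≫ H.hom) := fun i => (ha i.down.1 i.down.2).1
  haveI hflat : ∀ i, Flat (j i ≫ H.hom) := fun i => (ha i.down.1 i.down.2).2
  haveI hlfp : ∀ i, LocallyOfFinitePresentation (j i ≫ H.hom) := fun i =>
    Groth.Agent.H1.EtNhd.lfp_of_lft_of_noetherian _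
  haveI : IsLocallyNoetherian H.left := LocallyOfFiniteType.isLocallyNoetherian H.hom
  have UD := (Groth.Agent.S4876.result H.hom Z j).mpr
    (fun s V t ht => hb s V t (fun n hn => ht ⟨⟨n, hn⟩⟩))
  obtain ⟨T, t, ht, hT⟩ := gl1 H.hom Z j (𝟙 S) (𝟙 H.left) H.hom (IsPullback.id_horiz H.hom) y UD
  refine ⟨⟨T, t, ht, fun S' g => (hT g).trans (qinf_id_iff H.hom y g)⟩, fun hS => ?_⟩
  haveI := hS
  haveI : Nonempty κ := ⟨⟨⟨hE.some, hE.some_mem⟩⟩⟩
  have hdir : ∀ i i' : κ, ∃ i'' : κ, (∃ a : Z i ⟶ Z i'', a ≫ j i'' = j i) ∧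
      (∃ a : Z i' ⟶ Z i'', a ≫ j i'' = j i') := by
    rintro ⟨⟨m, hm⟩⟩ ⟨⟨n, hn⟩⟩
    exact ⟨⟨⟨m * n, hEmul m hm n hn⟩⟩, ker_le H m n, ker_le' H m n⟩
  obtain ⟨i, hi⟩ := gl2 H.hom Z j (𝟙 S) (𝟙 H.left) H.hom (IsPullback.id_horiz H.hom) y UD hdir
  refine ⟨i.down.1, i.down.2, fun S' g => ?_⟩
  exact ((qinf_id_iff H.hom y g).symm.trans (hi g)).trans (qi_id_iff H.hom Z j y i g)

end Main

end Groth.Agent.H4.TdB
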