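import Mathlib
import Groth.Agent.H4.TdB
import Groth.Agent.H4.WRe

/-! helper4: SGA3 IX: transporter of a commutative group with dense torsion into a closed
subgroup is a closed subscheme. -/

set_option autoImplicit false

universe u

namespace Groth.Agent.H4.TdC

open CategoryTheory Limits AlgebraicGeometry MonoidalCategory CartesianMonoidalCategory MonObj GrpObj
open Groth.Agent.H4 Groth.Agent.H4.TdA Groth.Agent.H4.TdB

section Pts

variable {S : Scheme.{u}} (H G K : Over S) [GrpObj H] [GrpObj G] (u : H ⟶ G) (k : K ⟶ G)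

/-- conjugation `(g, h) ↦ g u(h) g⁻¹` -/
noncomputable def conj : G ⊗ H ⟶ G := (fst G H) * (snd G H ≫ u) * (fst G H)⁻¹

lemma lift_conj {X' : Over S} (a : X' ⟶ G) (h : X' ⟶ H) :
    lift a h ≫ conj H G u = a * (h ≫ u) * a⁻¹ := by
  unfold conj
  rw [MonObj.comp_mul, MonObj.comp_mul, GrpObj.comp_inv, lift_fst, ← Category.assoc, lift_snd]

lemma sq : IsPullback (snd G H).left (fst G H).left H.hom G.hom :=
  (show IsPullback (fst G H).left (snd G H).left G.hom H.hom from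
    IsPullback.of_hasPullback G.hom H.hom).flip

lemma sqlift {X' : Over S} (a : X' ⟶ G) (h : X' ⟶ H) (A : X'.left ⟶ H.left)
    (B : X'.left ⟶ G.left) (hA : A = h.left) (hB : B = a.left) (e : A ≫ H.hom = B ≫ G.hom) :
    (sq H G).lift A B e = (lift a h).left := by
  subst hA hB
  apply (sq H G).hom_ext
  · rw [IsPullback.lift_fst, ← Over.comp_left, lift_snd]
  · rw [IsPullback.lift_snd, ← Over.comp_left, lift_fst]

/-- a point of `G ⊗ H` lies in the preimage of `K` under conjugation -/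
lemma pt_iff {X' : Over S} (a : X' ⟶ G) (h : X' ⟶ H) :
    (∃ l : X'.left ⟶ pullback k.left (conj H G u).left,
        l ≫ pullback.snd k.left (conj H G u).left = (lift a h).left) ↔
      ∃ κ : X' ⟶ K, a * (h ≫ u) * a⁻¹ = κ ≫ k := by
  rw [← lift_conj]
  constructor
  · rintro ⟨l, hl⟩
    have h1 : (l ≫ pullback.fst k.left (conj H G u).left) ≫ k.left =
        (lift a h ≫ conj H G u).left := by
      rw [Category.assoc, pullback.condition, ← Category.assoc, hl, Over.comp_left]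
    have hw : (l ≫ pullback.fst k.left (conj H G u).left) ≫ K.hom = X'.hom := by
      rw [← Over.w k, ← Category.assoc, h1, Over.w]
    refine ⟨Over.homMk (l ≫ pullback.fst k.left (conj H G u).left) hw, ?_⟩
    ext
    exact h1.symm
  · rintro ⟨κ, hκ⟩
    have h1 : κ.left ≫ k.left = (lift a h).left ≫ (conj H G u).left := by
      rw [← Over.comp_left, ← Over.comp_left, hκ]
    exact ⟨pullback.lift κ.left (lift a h).left h1, pullback.lift_snd _ _ _⟩

/-- torsion points as points of the kernel of the `n`-th power map -/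
lemma tors_iff {X' : Over S} (h : X' ⟶ H) (n : ℕ) :
    h ^ n = 1 ↔ ∃ s : X'.left ⟶ pullback η[H].left ((𝟙 H : H ⟶ H) ^ n).left,
      s ≫ pullback.snd _ _ = h.left := by
  have e0 : h ^ n = h ≫ ((𝟙 H : H ⟶ H) ^ n) := by
    rw [MonObj.comp_pow, Category.comp_id]
  constructor
  · intro hh
    have c : X'.hom ≫ η[H].left = h.left ≫ ((𝟙 H : H ⟶ H) ^ n).left := by
      have := congrArg (fun m => Over.Hom.left m) (e0.symm.trans hh)
      simp only [Over.comp_left, Hom.one_def, Over.toUnit_left] at this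
      exact this.symm
    exact ⟨pullback.lift X'.hom h.left c, pullback.lift_snd _ _ _⟩
  · rintro ⟨s, hs⟩
    rw [e0]
    ext
    have c := pullback.condition (f := η[H].left) (g := ((𝟙 H : H ⟶ H) ^ n).left)
    have h1 : h.left ≫ ((𝟙 H : H ⟶ H) ^ n).left =
        (s ≫ pullback.fst _ _) ≫ η[H].left := by
      rw [← hs, Category.assoc, ← c, Category.assoc]
    have h2 : s ≫ pullback.fst η[H].left ((𝟙 H : H ⟶ H) ^ n).left = X'.hom := by
      have h3 : (h.left ≫ ((𝟙 H : H ⟶ H) ^ n).left) ≫ H.hom = X'.hom := by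
        rw [Category.assoc, Over.w, Over.w]
      rw [h1, Category.assoc, Over.w] at h3
      simpa using h3
    rw [Over.comp_left, h1, h2]
    rfl

end Pts

section Main

variable {S : Scheme.{u}} (H G K : Over S) [GrpObj H] [GrpObj G] (u : H ⟶ G) (k : K ⟶ G)
  {κι : Type u}

lemma key1 {X : Over S} (g : X ⟶ G) :
    Qinf H.hom G.hom (snd G H).left (fst G H).left (sq H G)
        (pullback.snd k.left (conj H G u).left) g.left ↔
      ∀ (X' : Over S) (x : X' ⟶ X) (h : X' ⟶ H),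
        ∃ κ : X' ⟶ K, (x ≫ g) * (h ≫ u) * (x ≫ g)⁻¹ = κ ≫ k := by
  constructor
  · intro hq X' x h
    rw [← pt_iff]
    obtain ⟨l, hl⟩ := hq x.left h.left (by rw [Over.w, Category.assoc, Over.w, Over.w])
    exact ⟨l, hl.trans (sqlift H G (x ≫ g) h _ _ rfl rfl _)⟩
  · intro ht T q s e
    have e' : s ≫ H.hom = q ≫ X.hom := by
      rw [e, Category.assoc, Over.w]
    obtain ⟨l, hl⟩ := (pt_iff H G K u k
      ((Over.homMk q rfl : Over.mk (q ≫ X.hom) ⟶ X) ≫ g)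
      (Over.homMk s e' : Over.mk (q ≫ X.hom) ⟶ H)).mpr (ht _ _ _)
    exact ⟨l, hl.trans (sqlift H G _ _ _ _ rfl rfl _).symm⟩

lemma key2 (ν : κι → ℕ) (i : κι) {X : Over S} (g : X ⟶ G) :
    Qi H.hom (fun i => pullback η[H].left ((𝟙 H : H ⟶ H) ^ (ν i)).left)
        (fun i => pullback.snd η[H].left ((𝟙 H : H ⟶ H) ^ (ν i)).left)
        G.hom (snd G H).left (fst G H).left (sq H G)
        (pullback.snd k.left (conj H G u).left) i g.left ↔
      ∀ (X' : Over S) (x : X' ⟶ X) (h : X' ⟶ H), h ^ (ν i) = 1 →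
        ∃ κ : X' ⟶ K, (x ≫ g) * (h ≫ u) * (x ≫ g)⁻¹ = κ ≫ k := by
  constructor
  · intro hq X' x h hh
    obtain ⟨s, hs⟩ := (tors_iff H h (ν i)).mp hh
    rw [← pt_iff]
    obtain ⟨l, hl⟩ := hq x.left s (by
      rw [hs, Over.w, Category.assoc, Over.w, Over.w])
    exact ⟨l, hl.trans (sqlift H G (x ≫ g) h _ _ hs rfl _)⟩
  · intro ht T q s e
    have e' : (s ≫ pullback.snd η[H].left ((𝟙 H : H ⟶ H) ^ (ν i)).left) ≫ H.hom = q ≫ X.hom := by
      rw [e, Category.assoc, Over.w]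
    have hh : (Over.homMk (s ≫ pullback.snd η[H].left ((𝟙 H : H ⟶ H) ^ (ν i)).left) e' :
        Over.mk (q ≫ X.hom) ⟶ H) ^ (ν i) = 1 := (tors_iff H _ (ν i)).mpr ⟨s, rfl⟩
    obtain ⟨l, hl⟩ := (pt_iff H G K u k
      ((Over.homMk q rfl : Over.mk (q ≫ X.hom) ⟶ X) ≫ g)
      (Over.homMk (s ≫ pullback.snd η[H].left ((𝟙 H : H ⟶ H) ^ (ν i)).left) e' :
        Over.mk (q ≫ X.hom) ⟶ H)).mpr (ht _ _ _ hh)
    exact ⟨l, hl.trans (sqlift H G _ _ _ _ rfl rfl _).symm⟩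


open CategoryTheory.Limits in
theorem main6066 {S : Scheme.{u}} [IsLocallyNoetherian S]
    (H : Over S) [GrpObj H] [LocallyOfFiniteType H.hom]
    (E : Set ℕ) (hE : E.Nonempty) (hEmul : ∀ m ∈ E, ∀ n ∈ E, m * n ∈ E)
    (ha : ∀ n ∈ E, IsFinite ((pullback.snd η[H].left (𝟙 H ^ n : H ⟶ H).left) ≫ H.hom) ∧ Flat ((pullback.snd η[H].left (𝟙 H ^ n : H ⟶ H).left) ≫ H.hom))
    (hb : ∀ (s : S) (V : (H.hom.fiber s).Opens) (t : Γ(H.hom.fiber s, V)),
      (∀ n ∈ E, (MoreMor.fiberMap (pullback.snd η[H].left (𝟙 H ^ n : H ⟶ H).left) H.hom s).app V t = 0) → t = 0)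
    (G K : Over S) [GrpObj G] (u : H ⟶ G) (k : K ⟶ G) [IsClosedImmersion k.left] :
    (∃ (T : Over S) (j : T ⟶ G), IsClosedImmersion j.left ∧
      ∀ (X : Over S) (g : X ⟶ G), (∃ t : X ⟶ T, t ≫ j = g) ↔
        ∀ (X' : Over S) (x : X' ⟶ X) (h : X' ⟶ H), ∃ κ : X' ⟶ K, (x ≫ g) * (h ≫ u) * (x ≫ g)⁻¹ = κ ≫ k) ∧
    (AlgebraicGeometry.IsNoetherian G.left → ∃ n ∈ E, ∀ (X : Over S) (g : X ⟶ G),
      (∀ (X' : Over S) (x : X' ⟶ X) (h : X' ⟶ H), ∃ κ : X' ⟶ K, (x ≫ g) * (h ≫ u) * (x ≫ g)⁻¹ = κ ≫ k) ↔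
        ∀ (X' : Over S) (x : X' ⟶ X) (h : X' ⟶ H), h ^ n = 1 → ∃ κ : X' ⟶ K, (x ≫ g) * (h ≫ u) * (x ≫ g)⁻¹ = κ ≫ k) := by
  let κι : Type u := ULift.{u} {n : ℕ // n ∈ E}
  let ν : κι → ℕ := fun i => i.down.1
  let Z : κι → Scheme.{u} := fun i => pullback η[H].left ((𝟙 H : H ⟶ H) ^ (ν i)).left
  let j : ∀ i, Z i ⟶ H.left := fun i => pullback.snd η[H].left ((𝟙 H : H ⟶ H) ^ (ν i)).left
  haveI hfin : ∀ i, IsFinite (j i ≫ H.hom) := fun i => (ha i.down.1 i.down.2).1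
  haveI hflat : ∀ i, Flat (j i ≫ H.hom) := fun i => (ha i.down.1 i.down.2).2
  haveI hlfp : ∀ i, LocallyOfFinitePresentation (j i ≫ H.hom) := fun i =>
    Groth.Agent.H1.EtNhd.lfp_of_lft_of_noetherian _
  haveI : IsLocallyNoetherian H.left := LocallyOfFiniteType.isLocallyNoetherian H.hom
  have UD := (Groth.Agent.S4876.result H.hom Z j).mpr
    (fun s V t ht => hb s V t (fun n hn => ht ⟨⟨n, hn⟩⟩))
  obtain ⟨T₀, t₀, ht₀, hT₀⟩ := gl1 H.hom Z j G.hom (snd G H).left (fst G H).left (sq H G)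
    (pullback.snd k.left (conj H G u).left) UD
  refine ⟨⟨Over.mk (t₀ ≫ G.hom), Over.homMk t₀ rfl, ht₀, fun X g => ?_⟩, fun hG => ?_⟩
  · rw [WRe.over_rep t₀ g, hT₀ g.left, key1]
  · haveI := hG
    haveI : Nonempty κι := ⟨⟨⟨hE.some, hE.some_mem⟩⟩⟩
    have hdir : ∀ i i' : κι, ∃ i'' : κι, (∃ a : Z i ⟶ Z i'', a ≫ j i'' = j i) ∧
        (∃ a : Z i' ⟶ Z i'', a ≫ j i'' = j i') := by
      rintro ⟨⟨m, hm⟩⟩ ⟨⟨n, hn⟩⟩
      exact ⟨⟨⟨m * n, hEmul m hm n hn⟩⟩, ker_le H m n, ker_le' H m n⟩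
    obtain ⟨i, hi⟩ := gl2 H.hom Z j G.hom (snd G H).left (fst G H).left (sq H G)
      (pullback.snd k.left (conj H G u).left) UD hdir
    refine ⟨i.down.1, i.down.2, fun X g => ?_⟩
    rw [← key1, hi g.left]
    exact key2 H G K u k ν i g
end Main

end Groth.Agent.H4.TdC
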