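import Mathlib
import Groth.Agent.H4.TensVA
import Groth.Agent.Lib.Helper5.Glue.F
import Groth.Agent.Lib.Lead.QC.TwistBack
import Groth.Agent.Lib.Lead.QC.PullInv

set_option autoImplicit false
set_option linter.unusedSectionVars false
set_option linter.unusedVariables false
set_option linter.style.haveILetI false
universe u
open CategoryTheory CategoryTheory.Limits AlgebraicGeometry TopologicalSpace Opposite
open Groth.Agent.LD.QC

namespace Groth.Agent.H4.TensVAInv

theorem veryAmple_of_tensor_pullback {X Y : Scheme.{u}} (q : X ⟶ Y) (L : X.Modules)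
    (hL : PicF.IsInvertible L) (K : Y.Modules) (hK : PicF.IsInvertible K)
    (hva : RelProj.IsRelVeryAmple q (CohB1.tensorMod L ((Scheme.Modules.pullback q).obj K))) :
    RelProj.IsRelVeryAmple q L := by
  obtain ⟨K', hK', ⟨e₀⟩⟩ := Groth.Agent.H5.Glue.exists_inverse K hK
  have hqK := isInvertible_pullback q hK
  have hqK' := isInvertible_pullback q hK'
  have h1 := Groth.Agent.H4.TensVA.veryAmple_tensor_pullback q
    (CohB1.tensorMod L ((Scheme.Modules.pullback q).obj K)) (isInvertible_tensorMod hL hqK) K' hK' hva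
  haveI := qc_of_isInvertible L hL
  haveI := qc_of_isInvertible _ hqK
  haveI := qc_of_isInvertible _ hqK'
  let e : CohB1.tensorMod ((Scheme.Modules.pullback q).obj K) ((Scheme.Modules.pullback q).obj K') ≅
      unitMod X :=
    (pbTensorIso q K K' hK hK').symm ≪≫ (Scheme.Modules.pullback q).mapIso e₀ ≪≫ pbUnitIso q
  exact Groth.Agent.H4.TensVA.isRelVeryAmple_of_iso q (backIso _ _ e L) h1

theorem main {X Y : Scheme.{u}} (q : X ⟶ Y) (L : X.Modules)
    (hL : PicF.IsInvertible L) (K : Y.Modules) (hK : PicF.IsInvertible K) :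
    RelProj.IsRelVeryAmple q L ↔
      RelProj.IsRelVeryAmple q (CohB1.tensorMod L ((Scheme.Modules.pullback q).obj K)) :=
  ⟨fun h => Groth.Agent.H4.TensVA.veryAmple_tensor_pullback q L hL K hK h,
   fun h => veryAmple_of_tensor_pullback q L hL K hK h⟩

end Groth.Agent.H4.TensVAInv
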