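import Mathlib

set_option autoImplicit false
universe u v
open CategoryTheory CategoryTheory.Limits CategoryTheory.Pretriangulated CategoryTheory.Triangulated

namespace Groth.Agent.H4.ThreeByThree

theorem main {D : Type u} [Category.{v} D] [Preadditive D] [Limits.HasZeroObject D] [HasShift D ℤ]
    [∀ n : ℤ, (shiftFunctor D n).Additive] [Pretriangulated D] [IsTriangulated D]
    {X Y X' Y' : D} (f : X ⟶ Y) (f' : X' ⟶ Y') (u : X ⟶ X') (v : Y ⟶ Y') (comm : f ≫ v = u ≫ f') :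
    ∃ (Z Z' X'' Y'' Z'' : D) (g : Y ⟶ Z) (h : Z ⟶ (shiftFunctor D (1 : ℤ)).obj X)
      (g' : Y' ⟶ Z') (h' : Z' ⟶ (shiftFunctor D (1 : ℤ)).obj X')
      (f'' : X'' ⟶ Y'') (g'' : Y'' ⟶ Z'') (h'' : Z'' ⟶ (shiftFunctor D (1 : ℤ)).obj X'')
      (u' : X' ⟶ X'') (u'' : X'' ⟶ (shiftFunctor D (1 : ℤ)).obj X)
      (v' : Y' ⟶ Y'') (v'' : Y'' ⟶ (shiftFunctor D (1 : ℤ)).obj Y)
      (w : Z ⟶ Z') (w' : Z' ⟶ Z'') (w'' : Z'' ⟶ (shiftFunctor D (1 : ℤ)).obj Z),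
      Triangle.mk f g h ∈ distinguishedTriangles ∧ Triangle.mk f' g' h' ∈ distinguishedTriangles ∧
      Triangle.mk f'' g'' h'' ∈ distinguishedTriangles ∧
      Triangle.mk u u' u'' ∈ distinguishedTriangles ∧ Triangle.mk v v' v'' ∈ distinguishedTriangles ∧
      Triangle.mk w w' w'' ∈ distinguishedTriangles ∧
      g ≫ w = v ≫ g' ∧ h ≫ (shiftFunctor D (1 : ℤ)).map u = w ≫ h' ∧
      f' ≫ v' = u' ≫ f'' ∧ g' ≫ w' = v' ≫ g'' ∧ h' ≫ (shiftFunctor D (1 : ℤ)).map u' = w' ≫ h'' ∧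
      f'' ≫ v'' = u'' ≫ (shiftFunctor D (1 : ℤ)).map f ∧ g'' ≫ w'' = v'' ≫ (shiftFunctor D (1 : ℤ)).map g ∧
      h'' ≫ (shiftFunctor D (1 : ℤ)).map u'' = -(w'' ≫ (shiftFunctor D (1 : ℤ)).map h) := by
  obtain ⟨Z, g, h, hR1⟩ := distinguished_cocone_triangle f
  obtain ⟨Z', g', h', hR2⟩ := distinguished_cocone_triangle f'
  obtain ⟨X'', u', u'', hC1⟩ := distinguished_cocone_triangle u
  obtain ⟨Y'', v', v'', hC2⟩ := distinguished_cocone_triangle v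
  obtain ⟨A, p, q, hA⟩ := distinguished_cocone_triangle (f ≫ v)
  obtain ⟨α, β, a1, a2, a3, a4, amem⟩ := someOctahedron (rfl : f ≫ v = f ≫ v) hR1 hC2 hA
  obtain ⟨α', β', b1, b2, b3, b4, bmem⟩ := someOctahedron comm.symm hC1 hR2 hA
  obtain ⟨Z'', g'', h'', hR3⟩ := distinguished_cocone_triangle (α' ≫ β)
  have hβ : Triangle.mk β (v'' ≫ g⟦(1 : ℤ)⟧') (-α⟦(1 : ℤ)⟧') ∈ distTriang D :=
    rot_of_distTriang _ amem
  obtain ⟨w', w'', c1, c2, c3, c4, cmem⟩ :=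
    someOctahedron (rfl : α' ≫ β = α' ≫ β) bmem hβ hR3
  have hw : Triangle.mk (α ≫ β') w' w'' ∈ distTriang D := by
    rw [rotate_distinguished_triangle]
    have e : (Triangle.mk (α ≫ β') w' w'').rotate =
        Triangle.mk w' w'' ((-α⟦(1 : ℤ)⟧') ≫ β'⟦(1 : ℤ)⟧') := by
      change Triangle.mk w' w'' (-(shiftFunctor D (1 : ℤ)).map (α ≫ β')) = _
      rw [Functor.map_comp, Preadditive.neg_comp]
    rw [e]
    exact cmem
  refine ⟨Z, Z', X'', Y'', Z'', g, h, g', h', α' ≫ β, g'', h'', u', u'', v', v'',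
    α ≫ β', w', w'', hR1, hR2, hR3, hC1, hC2, hw, ?_, ?_, ?_, ?_, ?_, ?_, ?_, ?_⟩
  · -- g ≫ w = v ≫ g'
    rw [← Category.assoc, a1, Category.assoc, b3]
  · -- h ≫ u[1] = w ≫ h'
    rw [Category.assoc, ← b4, ← Category.assoc, a2]
  · -- f' ≫ v' = u' ≫ f''
    rw [← Category.assoc, b1, Category.assoc, a3]
  · -- g' ≫ w' = v' ≫ g''
    rw [← b3, Category.assoc, c1, ← Category.assoc, a3]
  · -- h' ≫ u'[1] = w' ≫ h''
    exact c2.symm
  · -- f'' ≫ v'' = u'' ≫ f[1]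
    rw [Category.assoc, ← a4, ← Category.assoc, b2]
  · -- g'' ≫ w'' = v'' ≫ g[1]
    exact c3
  · -- h'' ≫ u''[1] = -(w'' ≫ h[1])
    rw [← b2, Functor.map_comp, ← Category.assoc, c4, ← a2, Functor.map_comp,
      Preadditive.comp_neg, Preadditive.neg_comp, Category.assoc]

end Groth.Agent.H4.ThreeByThree
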