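import Mathlib
import Groth.Agent.H4.TilD5

set_option autoImplicit false
universe u
attribute [local instance] HasDerivedCategory.standard
open CategoryTheory CategoryTheory.Limits AlgebraicGeometry DerivedCategory

namespace Groth.Agent.H4.TilD6

lemma K0tr_congr {X : Scheme.{u}} (P P' : DCoh.D X → Prop) (h : P = P') :
    ∃ φ : KZero.K0tr P ≃+ KZero.K0tr P', ∀ K, φ (KZero.clTr P K) = KZero.clTr P' K := by
  subst h
  exact ⟨AddEquiv.refl _, fun _ => rfl⟩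

theorem S1111 (X : Scheme.{u}) [IsNoetherian X]
    (hreg : ∀ x : X, IsRegularLocalRing (X.presheaf.stalk x)) :
    ∃ φ : KZero.K0tr (fun K : DCoh.D X => DCoh.IsPerfect K) ≃+
        KZero.K0tr (fun K : DCoh.D X => DCoh.IsCohD K ∧ ∃ a b : ℤ, K.IsGE a ∧ K.IsLE b),
      ∀ K : DCoh.D X, DCoh.IsPerfect K →
        φ (KZero.clTr (fun K : DCoh.D X => DCoh.IsPerfect K) K) =
          KZero.clTr (fun K : DCoh.D X => DCoh.IsCohD K ∧ ∃ a b : ℤ, K.IsGE a ∧ K.IsLE b) K := by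
  obtain ⟨φ, hφ⟩ := K0tr_congr (fun K : DCoh.D X => DCoh.IsPerfect K)
    (fun K : DCoh.D X => DCoh.IsCohD K ∧ ∃ a b : ℤ, K.IsGE a ∧ K.IsLE b)
    (funext fun K => propext ⟨fun h => Groth.Agent.H4.PSch4.S1006 X K h,
      fun ⟨h, a, b, ha, hb⟩ => Groth.Agent.H4.TilD5.S1005 X hreg K a b h⟩)
  exact ⟨φ, fun K _ => hφ K⟩

end Groth.Agent.H4.TilD6
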