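import Mathlib
import Groth.Agent.H4.TilD5
import Groth.Agent.H4.KosPerf
import Groth.Agent.H4.DRing3
import Groth.Agent.Lib.Lead.QC.Push
import Groth.Prelude.Def_RegImm

set_option autoImplicit false
universe u
attribute [local instance] HasDerivedCategory.standard
open CategoryTheory CategoryTheory.Limits AlgebraicGeometry Groth.Agent.LD.QC DerivedCategory
open Groth.Agent.H4.PSch1 Groth.Agent.H4.PSch2 Groth.Agent.H4.PSch3 Groth.Agent.H4.PSch4
open Groth.Agent.H4.PSch5 Groth.Agent.H4.PSch6
open Groth.Agent.H4.TilD1 Groth.Agent.H4.TilD2 Groth.Agent.H4.TilD3 Groth.Agent.H4.TilD4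
open Groth.Agent.H4.TilD5

namespace Groth.Agent.H4.TilD7

variable {X : Scheme.{u}}

/-- a quasi-coherent module whose sections over an affine open `U` form a perfect module is perfect
at the points of `U` -/
theorem perfAt_inD_of_isPerfectModule (G : X.Modules) [G.IsQuasicoherent] {U : X.Opens}
    (hU : IsAffineOpen U) (x : X) (hxU : x ∈ U)
    (h : DRing.IsPerfectModule Γ(X, U) Γ(G, U)) : PerfAt (DCoh.inD X G) x := by
  let N : ModuleCat.{u} Γ(X, U) := (moduleSpecΓFunctor (R := Γ(X, U))).obj (G.restrict hU.fromSpec)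
  have hperf : DRing.IsPerfectModule Γ(X, U) N :=
    Groth.Agent.H4.DRing1.isPerfectModule_of_linearEquiv (affineΓEquiv G hU).symm h
  obtain ⟨E', hE', ⟨e'⟩⟩ := exists_isStrictlyPerfect_iso_tilde Γ(X, U) N hperf
  haveI : (G.restrict hU.fromSpec).IsQuasicoherent := qc_restrict _ _
  have e1 : G.restrict hU.fromSpec ≅ (tilde.functor Γ(X, U)).obj N :=
    (asIso (G.restrict hU.fromSpec).fromTildeΓ).symm
  refine ⟨Spec Γ(X, U), hU.fromSpec, inferInstance, E', ?_, hE', ⟨?_⟩⟩
  · rw [hU.range_fromSpec]; exact hxU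
  · exact ((Scheme.Modules.restrictFunctor hU.fromSpec).mapDerivedCategorySingleFunctor 0).app G ≪≫
      (DerivedCategory.singleFunctor _ 0).mapIso e1 ≪≫ e'

section Koszul

variable {Z : Scheme.{u}} (i : Z ⟶ X)

/-- the sections of `i_* O_Z` over `U` as a `Γ(X, U)`-module: the canonical linear map from the
ring -/
noncomputable def pushUnitLin (U : X.Opens) :
    Γ(X, U) →ₗ[Γ(X, U)] Γ((Scheme.Modules.pushforward i).obj (Coh.structureModule Z), U) where
  toFun a := (show Γ((Scheme.Modules.pushforward i).obj (Coh.structureModule Z), U) from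
    (show Γ(Z, i ⁻¹ᵁ U) from i.app U a))
  map_add' a b := map_add (i.app U).hom a b
  map_smul' a b := by
    dsimp only [RingHom.id_apply]
    refine Eq.trans ?_ (pushforward_smul i (Coh.structureModule Z) U a
      (show Γ(Z, i ⁻¹ᵁ U) from i.app U b)).symm
    exact map_mul (i.app U).hom a b

lemma pushUnitLin_apply (U : X.Opens) (a : Γ(X, U)) :
    (pushUnitLin i U a : Γ(Z, i ⁻¹ᵁ U)) = i.app U a := rfl

lemma ker_pushUnitLin (U : X.Opens) :
    LinearMap.ker (pushUnitLin i U) = RingHom.ker (i.app U).hom := by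
  ext a
  rfl

lemma pushUnitLin_surjective [IsClosedImmersion i] {U : X.Opens} (hU : IsAffineOpen U) :
    Function.Surjective (pushUnitLin i U) := by
  intro s
  obtain ⟨a, ha⟩ := i.app_surjective U hU (show Γ(Z, i ⁻¹ᵁ U) from s)
  exact ⟨a, ha⟩

end Koszul

section Main

variable {Z : Scheme.{u}} (i : Z ⟶ X)

/-- if `Γ(X, U) → Γ(Z, i⁻¹U)` is surjective with kernel generated by a Koszul-regular sequence,
the module of sections of `i_* O_Z` over `U` is perfect -/
lemma isPerfectModule_push_of_koszul [IsClosedImmersion i] {U : X.Opens} (hU : IsAffineOpen U)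
    (rs : List Γ(X, U)) (hrs : LCI.IsKoszulRegularSeq Γ(X, U) rs)
    (hker : RingHom.ker (i.app U).hom = Ideal.ofList rs) :
    DRing.IsPerfectModule Γ(X, U)
      Γ((Scheme.Modules.pushforward i).obj (Coh.structureModule Z), U) := by
  obtain ⟨e⟩ := Groth.Agent.H4.KosPerf.nonempty_koszul_iso rs hrs
  have h1 : DRing.IsPerfectModule Γ(X, U) (Γ(X, U) ⧸ Ideal.ofList rs) :=
    Groth.Agent.H4.DRing1.isPerfect_of_iso e (Groth.Agent.H4.KosPerf.isPerfect_koszul rs)
  have hk : LinearMap.ker (pushUnitLin i U) = Ideal.ofList rs := (ker_pushUnitLin i U).trans hker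
  let ℓ := (Submodule.quotEquivOfEq _ _ hk).symm ≪≫ₗ
    (pushUnitLin i U).quotKerEquivOfSurjective (pushUnitLin_surjective i hU)
  exact Groth.Agent.H4.DRing1.isPerfectModule_of_linearEquiv ℓ h1

theorem S6237 [IsClosedImmersion i] (hi : RegImm.IsRegularImmersion RegImm.Kind.koszul i) :
    DCoh.IsPerfect (DCoh.inD X ((Scheme.Modules.pushforward i).obj (Coh.structureModule Z))) := by
  haveI : ((Scheme.Modules.pushforward i).obj (Coh.structureModule Z)).IsQuasicoherent :=
    qc_pushforward i _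
  rw [isPerfect_iff_perfAt]
  intro x
  by_cases hx : x ∈ Set.range i
  · obtain ⟨z, rfl⟩ := hx
    obtain ⟨U, hzU, -, rs, hrs, hker⟩ := hi.2 z
    exact perfAt_inD_of_isPerfectModule _ U.2 (i z) hzU
      (isPerfectModule_push_of_koszul i U.2 rs hrs hker)
  · have hopen : IsOpen (Set.range i)ᶜ := i.isClosedEmbedding.isClosed_range.isOpen_compl
    obtain ⟨U, hU, hxU, hUc⟩ := exists_isAffineOpen_mem_and_subset (x := x)
      (U := ⟨(Set.range i)ᶜ, hopen⟩) hx
    have hempty : i ⁻¹ᵁ U = ⊥ := by
      ext z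
      simp only [TopologicalSpace.Opens.coe_bot, Set.mem_empty_iff_false, iff_false]
      intro hz
      exact hUc hz ⟨z, rfl⟩
    haveI : Subsingleton Γ((Scheme.Modules.pushforward i).obj (Coh.structureModule Z), U) := by
      change Subsingleton Γ(Z, i ⁻¹ᵁ U)
      rw [hempty]
      infer_instance
    exact perfAt_inD_of_isPerfectModule _ hU x hxU
      (Groth.Agent.H4.DRing1.isPerfectModule_of_subsingleton _)

end Main

end Groth.Agent.H4.TilD7
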