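import Mathlib
import Groth.Agent.H4.TilD7
import Groth.Agent.H4.Perf1
import Groth.Agent.H4.PCHom
import Groth.Agent.S6946
import Groth.Prelude.Def_MoreMor

set_option autoImplicit false
universe u
attribute [local instance] HasDerivedCategory.standard
open CategoryTheory CategoryTheory.Limits AlgebraicGeometry Groth.Agent.LD.QC DerivedCategory
open DRing Groth.Agent.H4.PC Groth.Agent.H4.PCHom Groth.Agent.H4.Perf Groth.Agent.H4.PCDesc

namespace Groth.Agent.H4.TilD8

section Ring

variable {A B : Type u} [CommRing A] [CommRing B]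

/-- a surjective pseudo-coherent ring map makes the target a pseudo-coherent module -/
theorem isPCHom_of_surjective_of_presentation (f : A →+* B) (hf : Function.Surjective f) (n : ℕ)
    (φ : MvPolynomial (Fin n) A →+* B) (hφC : φ.comp MvPolynomial.C = f) (hφ : IsPCHom φ) :
    IsPCHom f := by
  choose a ha using fun i : Fin n => hf (φ (MvPolynomial.X i))
  have hcomp : f.comp (MvPolynomial.eval a : MvPolynomial (Fin n) A →+* A) = φ := by
    apply MvPolynomial.ringHom_ext
    · intro r
      simp only [RingHom.comp_apply, MvPolynomial.eval_C]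
      rw [← hφC]; rfl
    · intro i
      simp only [RingHom.comp_apply, MvPolynomial.eval_X]
      exact ha i
  have hev := isPCHom_eval A n a
  intro m
  rw [← hev.isPC_iff m]
  refine isPC_of_iso (restrictDSingle _ _).symm ?_
  have h1 := hφ m
  rw [← hcomp] at h1
  exact isPC_single_of_iso ((ModuleCat.restrictScalarsComp'.{u} _ _ _ rfl).app _) h1

lemma isPCHom_of_isPCModule' (f : A →+* B)
    (h : letI := f.toAlgebra
      DRing.IsPseudoCoherentModule' A B) : IsPCHom f := by
  letI := f.toAlgebra
  intro m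
  exact isPC_single_of_iso Groth.Agent.H4.RestrPC.ofIsoRestrict (isPC_of_isPC' _ h m)

theorem isPerfectModule_of_isPerfectHom_of_surjective [Algebra A B]
    (hs : Function.Surjective (algebraMap A B)) (h : MoreMor.IsPerfectHom A B) :
    DRing.IsPerfectModule A B := by
  obtain ⟨⟨n, φ, -, hpc⟩, ⟨d, htor⟩⟩ := h
  have hφ : IsPCHom φ.toRingHom := isPCHom_of_isPCModule' φ.toRingHom hpc
  have hC : φ.toRingHom.comp MvPolynomial.C = algebraMap A B := by
    ext r
    exact φ.commutes r
  have hf : IsPCHom (algebraMap A B) :=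
    isPCHom_of_surjective_of_presentation (algebraMap A B) hs n φ.toRingHom hC hφ
  have hpc' : DRing.IsPseudoCoherent' A (Dual.inD A B) :=
    isPC'_of_forall_isPC _ (fun m =>
      isPC_single_of_iso Groth.Agent.H4.RestrPC.ofIsoRestrict.symm (hf m))
  exact isPerfect_of_isPC'_of_hasTorAmp hpc' ((Groth.Agent.S6946.result A B d).1.1 htor)

end Ring

section Main

open Groth.Agent.H4.PSch3 Groth.Agent.H4.TilD7

variable {Z X : Scheme.{u}} (i : Z ⟶ X)

theorem S7175 [IsClosedImmersion i] (hi : MoreMor.IsPerfectMor i) :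
    DCoh.IsPerfect (DCoh.inD X ((Coh.push i).obj (Coh.structureModule Z))) := by
  haveI : ((Scheme.Modules.pushforward i).obj (Coh.structureModule Z)).IsQuasicoherent :=
    qc_pushforward i _
  rw [isPerfect_iff_perfAt]
  intro x
  obtain ⟨U, hU, hxU, -⟩ := exists_isAffineOpen_mem_and_subset (x := x) (U := ⊤) trivial
  have hV : IsAffineOpen (i ⁻¹ᵁ U) := hU.preimage i
  have h := hi (i ⁻¹ᵁ U) U hV hU le_rfl
  letI := (i.appLE U (i ⁻¹ᵁ U) le_rfl).hom.toAlgebra
  have happ : ∀ a : Γ(X, U), algebraMap Γ(X, U) Γ(Z, i ⁻¹ᵁ U) a = i.app U a := by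
    intro a
    change (i.appLE U (i ⁻¹ᵁ U) le_rfl) a = _
    rw [Scheme.Hom.appLE_eq_app]
  have hs : Function.Surjective (algebraMap Γ(X, U) Γ(Z, i ⁻¹ᵁ U)) := by
    intro b
    obtain ⟨a, ha⟩ := i.app_surjective U hU b
    exact ⟨a, (happ a).trans ha⟩
  have hperf := isPerfectModule_of_isPerfectHom_of_surjective hs h
  let ℓ : Γ(Z, i ⁻¹ᵁ U) ≃ₗ[Γ(X, U)]
      Γ((Scheme.Modules.pushforward i).obj (Coh.structureModule Z), U) :=
    { toFun := fun b => b
      invFun := fun b => b
      left_inv := fun _ => rfl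
      right_inv := fun _ => rfl
      map_add' := fun _ _ => rfl
      map_smul' := fun a b => by
        dsimp only [RingHom.id_apply]
        refine Eq.trans ?_ (pushforward_smul i (Coh.structureModule Z) U a
          (show Γ(Z, i ⁻¹ᵁ U) from b)).symm
        rw [Algebra.smul_def, happ]
        rfl }
  exact perfAt_inD_of_isPerfectModule _ hU x hxU
    (Groth.Agent.H4.DRing1.isPerfectModule_of_linearEquiv ℓ hperf)

end Main

end Groth.Agent.H4.TilD8
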