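import Mathlib
import Groth.Prelude.Def_RelProj3
import Groth.Agent.H4.TwGlue
import Groth.Agent.Lib.Lead.QC.Affine
import Groth.Agent.Lib.Helper8.ProjTilde.Comap

set_option autoImplicit false
universe u
open CategoryTheory CategoryTheory.Limits AlgebraicGeometry Opposite TopologicalSpace
open scoped HomogeneousIdeal

namespace Groth.Agent.H4.TildeGlue
open Groth.Agent.H4.TwGlue (IsLocAt rs rs_irr emb_rs emb_comap isOpenImmersion_projMap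
  isLocAt_res rs_id_apply rs_comp_apply comap_eq_of psi_c_pow_notMem exists_homog_lift)

section gen
variable {A σ : Type u} [CommRing A] [SetLike σ A] [AddSubgroupClass σ A] {𝒜 : ℕ → σ} [GradedRing 𝒜]
variable {M τ : Type u} [AddCommGroup M] [Module A M] [SetLike τ M] [AddSubgroupClass τ M]
  {ℳ : ℕ → τ} [SetLike.GradedSMul 𝒜 ℳ]

lemma zero_pow_smul_mem (c₁ : A) (hc₁ : c₁ ∈ 𝒜 0) (k : ℕ) {i : ℕ} {m : M} (hm : m ∈ ℳ i) :
    c₁ ^ k • m ∈ ℳ i := by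
  have h1 : c₁ ^ k ∈ 𝒜 (k • 0) := SetLike.pow_mem_graded k hc₁
  have h2 := SetLike.GradedSMul.smul_mem h1 hm
  simpa using h2

lemma sect_ext' {n : ℤ} {U : (Opens (ProjectiveSpectrum.top 𝒜))ᵒᵖ} {s t : GrMod.sect 𝒜 ℳ n U}
    (h : ∀ x : U.unop, ((s.1 x : GrMod.tildeAt 𝒜 ℳ n x.1) : GrMod.LocMod 𝒜 (M := M) x.1) =
      ((t.1 x : GrMod.tildeAt 𝒜 ℳ n x.1) : GrMod.LocMod 𝒜 (M := M) x.1)) : s = t :=
  Subtype.ext (funext fun x => Subtype.ext (h x))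

lemma mk_congr {S : Submonoid A} {m m' : M} {s s' : S} (hm : m = m') (hs : (s : A) = s') :
    LocalizedModule.mk m s = LocalizedModule.mk m' s' := by
  subst hm
  congr 1
  exact Subtype.ext hs

lemma mk_eq_zero_of {S : Submonoid A} {m : M} (s : S) (u : S) (h : (u : A) • m = 0) :
    LocalizedModule.mk m s = 0 := by
  rw [← LocalizedModule.zero_mk s, LocalizedModule.mk_eq]
  refine ⟨u, ?_⟩
  simp only [Submonoid.smul_def, smul_zero]
  rw [smul_comm, h, smul_zero]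

lemma valM_transport {n : ℤ} {V : Opens (ProjectiveSpectrum.top 𝒜)}
    (t : GrMod.sect 𝒜 ℳ n (op V)) {R : Type u} (x x' : ProjectiveSpectrum 𝒜) (hx : x ∈ V)
    (hx' : x' ∈ V) (e : x = x')
    (f : GrMod.LocMod 𝒜 (M := M) x → R) (f' : GrMod.LocMod 𝒜 (M := M) x' → R)
    (hf : ∀ (m : M) (s : A) (hs : s ∉ x.asHomogeneousIdeal) (hs' : s ∉ x'.asHomogeneousIdeal),
      f (LocalizedModule.mk m ⟨s, hs⟩) = f' (LocalizedModule.mk m ⟨s, hs'⟩)) :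
    f ((t.1 ⟨x, hx⟩ : GrMod.tildeAt 𝒜 ℳ n x) : GrMod.LocMod 𝒜 (M := M) x) =
      f' ((t.1 ⟨x', hx'⟩ : GrMod.tildeAt 𝒜 ℳ n x') : GrMod.LocMod 𝒜 (M := M) x') := by
  subst e
  have : f = f' := by
    funext q
    induction q using LocalizedModule.induction_on with
    | h m s => exact hf m s.1 s.2 s.2
  rw [this]

end gen

section ringmod
variable {A σ : Type u} [CommRing A] [SetLike σ A] [AddSubgroupClass σ A] {𝒜 : ℕ → σ} [GradedRing 𝒜]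
variable {M τ : Type u} [AddCommGroup M] [Module A M] [SetLike τ M] [AddSubgroupClass τ M]
  {ℳ : ℕ → τ} [SetLike.GradedSMul 𝒜 ℳ] [DirectSum.Decomposition ℳ]
variable {B σ' : Type u} [CommRing B] [SetLike σ' B] [AddSubgroupClass σ' B] {ℬ : ℕ → σ'}
  [GradedRing ℬ]
variable {N τ' : Type u} [AddCommGroup N] [Module B N] [SetLike τ' N] [AddSubgroupClass τ' N]
  {𝒩 : ℕ → τ'} [SetLike.GradedSMul ℬ 𝒩] [DirectSum.Decomposition 𝒩]
variable (ψ : 𝒜 →+*ᵍ ℬ) (hψ : ℬ₊ ≤ (𝒜₊).map ψ) (v : M →ₛₗ[ψ.toRingHom] N)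
  (hv : ∀ (i : ℕ) (m : M), m ∈ ℳ i → v m ∈ 𝒩 i)

lemma mem_of {x : ProjectiveSpectrum 𝒜} {y : ProjectiveSpectrum ℬ}
    (h : x.asHomogeneousIdeal.toIdeal = Ideal.comap ψ.toRingHom y.asHomogeneousIdeal.toIdeal)
    (s : x.asHomogeneousIdeal.toIdeal.primeCompl) :
    ψ (s : A) ∈ y.asHomogeneousIdeal.toIdeal.primeCompl :=
  fun hmem => s.2 ((SetLike.ext_iff.mp h _).mpr hmem)

noncomputable def gFun (x : ProjectiveSpectrum 𝒜) (y : ProjectiveSpectrum ℬ)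
    (h : x.asHomogeneousIdeal.toIdeal = Ideal.comap ψ.toRingHom y.asHomogeneousIdeal.toIdeal)
    (q : M × x.asHomogeneousIdeal.toIdeal.primeCompl) : GrMod.LocMod ℬ (M := N) y :=
  LocalizedModule.mk (v q.1) ⟨ψ (q.2 : A), mem_of ψ h q.2⟩

theorem gFun_wd (x : ProjectiveSpectrum 𝒜) (y : ProjectiveSpectrum ℬ)
    (h : x.asHomogeneousIdeal.toIdeal = Ideal.comap ψ.toRingHom y.asHomogeneousIdeal.toIdeal)
    (q q' : M × x.asHomogeneousIdeal.toIdeal.primeCompl) (hqq : q ≈ q') :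
    gFun ψ v x y h q = gFun ψ v x y h q' := by
  obtain ⟨m, s⟩ := q
  obtain ⟨m', s'⟩ := q'
  obtain ⟨w, hw⟩ := hqq
  refine LocalizedModule.mk_eq.mpr ⟨⟨ψ (w : A), mem_of ψ h w⟩, ?_⟩
  have hw' := congrArg v hw
  simp only [Submonoid.smul_def, LinearMap.map_smulₛₗ] at hw' ⊢
  exact hw'

/-- the generalized local map of localized modules. -/
noncomputable def gLocM (x : ProjectiveSpectrum 𝒜) (y : ProjectiveSpectrum ℬ)
    (h : x.asHomogeneousIdeal.toIdeal = Ideal.comap ψ.toRingHom y.asHomogeneousIdeal.toIdeal) :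
    GrMod.LocMod 𝒜 (M := M) x → GrMod.LocMod ℬ (M := N) y :=
  fun q => q.liftOn (gFun ψ v x y h) (gFun_wd ψ v x y h)

lemma gLocM_mk (x : ProjectiveSpectrum 𝒜) (y : ProjectiveSpectrum ℬ)
    (h : x.asHomogeneousIdeal.toIdeal = Ideal.comap ψ.toRingHom y.asHomogeneousIdeal.toIdeal)
    (m : M) (s : x.asHomogeneousIdeal.toIdeal.primeCompl)
    (hs : ψ (s : A) ∈ y.asHomogeneousIdeal.toIdeal.primeCompl) :
    gLocM ψ v x y h (LocalizedModule.mk m s) = LocalizedModule.mk (v m) ⟨ψ (s : A), hs⟩ := rfl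

lemma gLocM_zero (x : ProjectiveSpectrum 𝒜) (y : ProjectiveSpectrum ℬ)
    (h : x.asHomogeneousIdeal.toIdeal = Ideal.comap ψ.toRingHom y.asHomogeneousIdeal.toIdeal) :
    gLocM ψ v x y h 0 = 0 := by
  rw [← LocalizedModule.zero_mk 1, gLocM_mk ψ v x y h 0 1 (mem_of ψ h 1), map_zero,
    LocalizedModule.zero_mk]

lemma locModMap_eq_gLocM (y : ProjectiveSpectrum ℬ)
    (q : GrMod.LocMod 𝒜 (M := M) (ProjectiveSpectrum.comap ψ hψ y)) :
    GrMod.locModMap ψ hψ v y q = gLocM ψ v (ProjectiveSpectrum.comap ψ hψ y) y rfl q := by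
  induction q using LocalizedModule.induction_on with
  | h m s => rfl

/-- `v` is a localization of modules at `c`, in elementary terms. -/
structure IsLocAtM (c : A) : Prop where
  msurj : ∀ n' : N, ∃ (m : M) (k : ℕ), ψ c ^ k • n' = v m
  mker : ∀ m : M, v m = 0 → ∃ k : ℕ, c ^ k • m = 0

variable {ψ v} {c : A} (hc : IsLocAt ψ c) (hm : IsLocAtM ψ v c)

include hc hm hv in
lemma exists_homog_liftM {i : ℕ} {n' : N} (hn' : n' ∈ 𝒩 i) :
    ∃ (m : M) (k : ℕ), m ∈ ℳ i ∧ v m = ψ c ^ k • n' := by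
  classical
  obtain ⟨m₀, k, hk⟩ := hm.msurj n'
  refine ⟨(DirectSum.decompose ℳ m₀ i : M), k, SetLike.coe_mem _, ?_⟩
  have hmem : ψ c ^ k • n' ∈ 𝒩 i := zero_pow_smul_mem (ψ c) (ψ.map_mem hc.c_mem) k hn'
  rw [Groth.Agent.H8.ProjTilde.semilin_decompose ψ v hv, ← hk,
    DirectSum.decompose_of_mem_same 𝒩 hmem]

include hc hm in
lemma gLocM_injective (x : ProjectiveSpectrum 𝒜) (y : ProjectiveSpectrum ℬ)
    (h : x.asHomogeneousIdeal.toIdeal = Ideal.comap ψ.toRingHom y.asHomogeneousIdeal.toIdeal) :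
    Function.Injective (gLocM ψ v x y h) := by
  intro q q' hqq
  induction q using LocalizedModule.induction_on with
  | h m s =>
  induction q' using LocalizedModule.induction_on with
  | h m' s' =>
  have hqq' : LocalizedModule.mk (v m)
      (⟨ψ (s : A), mem_of ψ h s⟩ : y.asHomogeneousIdeal.toIdeal.primeCompl) =
      LocalizedModule.mk (v m') ⟨ψ (s' : A), mem_of ψ h s'⟩ := hqq
  obtain ⟨⟨w, hw⟩, hw'⟩ := LocalizedModule.mk_eq.mp hqq'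
  simp only [Submonoid.smul_def] at hw'
  obtain ⟨a', k, hk⟩ := hc.surj w
  have ha' : a' ∉ x.asHomogeneousIdeal.toIdeal := by
    intro hmem
    have hmem' : ψ a' ∈ y.asHomogeneousIdeal.toIdeal := (SetLike.ext_iff.mp h a').mp hmem
    rw [← hk] at hmem'
    rcases y.isPrime.mem_or_mem hmem' with h1 | h1
    · exact psi_c_pow_notMem hc y k h1
    · exact hw h1
  have hc' : c ∉ x.asHomogeneousIdeal.toIdeal := by
    intro hmem
    have hmem' : ψ c ∈ y.asHomogeneousIdeal.toIdeal := (SetLike.ext_iff.mp h c).mp hmem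
    have := psi_c_pow_notMem hc y 1
    rw [pow_one] at this
    exact this hmem'
  have e1 : ψ (a' * (s' : A)) • v m = ψ c ^ k • (w • ψ (s' : A) • v m) := by
    rw [map_mul, ← hk, mul_smul, mul_smul]
  have e2 : ψ (a' * (s : A)) • v m' = ψ c ^ k • (w • ψ (s : A) • v m') := by
    rw [map_mul, ← hk, mul_smul, mul_smul]
  have hz : v ((a' * (s' : A)) • m - (a' * (s : A)) • m') = 0 := by
    rw [map_sub, LinearMap.map_smulₛₗ, LinearMap.map_smulₛₗ]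
    change ψ (a' * (s' : A)) • v m - ψ (a' * (s : A)) • v m' = 0
    rw [e1, e2, hw', sub_self]
  obtain ⟨l, hl⟩ := hm.mker _ hz
  rw [smul_sub, sub_eq_zero] at hl
  refine LocalizedModule.mk_eq.mpr ⟨⟨c ^ l * a', ?_⟩, ?_⟩
  · intro hmem
    rcases x.isPrime.mem_or_mem hmem with h1 | h1
    · exact hc' (x.isPrime.mem_of_pow_mem l h1)
    · exact ha' h1
  · simp only [Submonoid.smul_def]
    calc (c ^ l * a') • (s' : A) • m = c ^ l • ((a' * (s' : A)) • m) := by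
          rw [mul_smul, mul_smul]
      _ = c ^ l • ((a' * (s : A)) • m') := hl
      _ = (c ^ l * a') • (s : A) • m' := by rw [mul_smul, mul_smul]

include hc hm hv in
lemma exists_frac_liftM {i j : ℕ} {n' : N} {s' : B} (hn' : n' ∈ 𝒩 i) (hs' : s' ∈ ℬ j) :
    ∃ (m : M) (s : A), m ∈ ℳ i ∧ s ∈ 𝒜 j ∧
      (∀ y : ProjectiveSpectrum ℬ, s' ∉ y.asHomogeneousIdeal → ψ s ∉ y.asHomogeneousIdeal) ∧
      s' • v m = ψ s • n' := by
  obtain ⟨m₁, k, hm₁, hkm⟩ := exists_homog_liftM hv hc hm hn'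
  obtain ⟨s₁, l, hs₁, hls⟩ := exists_homog_lift hc hs'
  refine ⟨c ^ l • m₁, c ^ k * s₁, zero_pow_smul_mem c hc.c_mem l hm₁,
    Groth.Agent.H4.RelProjEx.zero_pow_mul_mem (⟨c, hc.c_mem⟩ : 𝒜 0) k hs₁, ?_, ?_⟩
  · intro y hy hmem
    rw [map_mul, map_pow, hls] at hmem
    rcases y.isPrime.mem_or_mem hmem with h1 | h1
    · exact psi_c_pow_notMem hc y k h1
    · rcases y.isPrime.mem_or_mem h1 with h2 | h2
      · exact psi_c_pow_notMem hc y l h2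
      · exact hy h2
  · rw [LinearMap.map_smulₛₗ]
    change s' • ψ (c ^ l) • v m₁ = _
    rw [hkm, map_mul, map_pow, map_pow, hls, smul_smul, smul_smul]
    congr 1
    ring

include hc hm in
theorem comapAppM_bijective (n : ℤ) (V : Opens (ProjectiveSpectrum.top 𝒜))
    (V' : Opens (ProjectiveSpectrum.top ℬ))
    (hUV : V'.1 ⊆ ProjectiveSpectrum.comap ψ hψ ⁻¹' V.1)
    (hV' : ∀ y : ProjectiveSpectrum ℬ, ProjectiveSpectrum.comap ψ hψ y ∈ V → y ∈ V')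
    (hpts : ∀ x : ProjectiveSpectrum 𝒜, x ∈ V → ∃ y, ProjectiveSpectrum.comap ψ hψ y = x)
    (hinj : Function.Injective (ProjectiveSpectrum.comap ψ hψ))
    (hopen : IsOpenMap (ProjectiveSpectrum.comap ψ hψ)) :
    Function.Bijective (GrMod.comapApp ψ hψ v hv n V V' hUV) := by
  constructor
  · rw [injective_iff_map_eq_zero]
    intro s hs
    refine sect_ext' fun x => ?_
    obtain ⟨x, hx⟩ := x
    obtain ⟨y, rfl⟩ := hpts x hx
    have h2 := GrMod.comapApp_apply_coe ψ hψ v hv n V V' hUV s ⟨y, hV' y hx⟩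
    rw [hs] at h2
    have h3 : GrMod.locModMap ψ hψ v y ((s.1 ⟨ProjectiveSpectrum.comap ψ hψ y, hx⟩ :
        GrMod.tildeAt 𝒜 ℳ n _) : GrMod.LocMod 𝒜 (M := M) _) = 0 := h2.symm
    apply gLocM_injective hc hm _ y rfl
    rw [← locModMap_eq_gLocM ψ hψ v, ← locModMap_eq_gLocM ψ hψ v, h3]
    exact (map_zero _).symm
  · intro t
    classical
    have hq : ∀ x : V, ∃ q : GrMod.tildeAt 𝒜 ℳ n x.1, ∀ (y : ProjectiveSpectrum ℬ) (hy : y ∈ V')
        (h : ProjectiveSpectrum.comap ψ hψ y = x.1),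
        gLocM ψ v x.1 y (congrArg (fun z => z.asHomogeneousIdeal.toIdeal) h.symm) q.1 =
          ((t.1 ⟨y, hy⟩ : GrMod.tildeAt ℬ 𝒩 n y) : GrMod.LocMod ℬ (M := N) y) := by
      rintro ⟨x, hx⟩
      obtain ⟨y₀, rfl⟩ := hpts x hx
      have hy₀ : y₀ ∈ V' := hV' y₀ hx
      obtain ⟨N₀, hyN, iN, i, j, b, s', hs', hij, hfrac⟩ := t.2 ⟨y₀, hy₀⟩
      have hval := hfrac ⟨y₀, hyN⟩
      obtain ⟨a, s, ha, hs, hns, hab⟩ := exists_frac_liftM hv hc hm b.2 s'.2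
      have hsx : s ∉ (ProjectiveSpectrum.comap ψ hψ y₀).asHomogeneousIdeal :=
        fun hmem => hns y₀ (hs' ⟨y₀, hyN⟩) hmem
      rcases hij with hij | hb0
      · refine ⟨⟨LocalizedModule.mk a ⟨s, hsx⟩,
          Submodule.subset_span ⟨i, j, ⟨a, ha⟩, ⟨s, hs⟩, hsx, hij, rfl⟩⟩, ?_⟩
        intro y hy h
        obtain rfl : y = y₀ := hinj h
        rw [gLocM_mk ψ v _ _ _ a ⟨s, hsx⟩ (hns y (hs' ⟨y, hyN⟩))]
        refine Eq.trans ?_ hval.symm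
        refine LocalizedModule.mk_eq.mpr ⟨1, ?_⟩
        simp only [Submonoid.smul_def, one_smul]
        exact hab
      · refine ⟨0, ?_⟩
        intro y hy h
        obtain rfl : y = y₀ := hinj h
        refine Eq.trans ?_ hval.symm
        rw [hb0, LocalizedModule.zero_mk, ZeroMemClass.coe_zero, gLocM_zero]
    choose q hq using hq
    have hloc : (GrMod.isLocFrac 𝒜 ℳ n).pred (fun x : V => q x) := by
      rintro ⟨x, hx⟩
      obtain ⟨y₀, rfl⟩ := hpts x hx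
      have hy₀ : y₀ ∈ V' := hV' y₀ hx
      obtain ⟨N₀, hyN, iN, i, j, b, s', hs', hij, hfrac⟩ := t.2 ⟨y₀, hy₀⟩
      obtain ⟨a, s, ha, hs, hns, hab⟩ := exists_frac_liftM hv hc hm b.2 s'.2
      let N₁ : Opens (ProjectiveSpectrum.top 𝒜) :=
        ⟨ProjectiveSpectrum.comap ψ hψ '' N₀.1, hopen _ N₀.2⟩
      have hN₁V : N₁ ≤ V := by
        rintro _ ⟨z, hz, rfl⟩
        exact hUV (leOfHom iN hz)
      have hs_nin : ∀ x' : N₁, s ∉ x'.1.asHomogeneousIdeal := by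
        rintro ⟨_, z, hz, rfl⟩ hmem
        exact hns z (hs' ⟨z, hz⟩) hmem
      refine ⟨N₁, ⟨y₀, hyN, rfl⟩, homOfLE hN₁V, ?_⟩
      rcases hij with hij | hb0
      · refine ⟨i, j, ⟨a, ha⟩, ⟨s, hs⟩, hs_nin, Or.inl hij, ?_⟩
        rintro ⟨_, z, hz, rfl⟩
        apply gLocM_injective hc hm _ z rfl
        refine (hq ⟨_, hN₁V ⟨z, hz, rfl⟩⟩ z (leOfHom iN hz) rfl).trans ?_
        rw [gLocM_mk ψ v _ _ _ a ⟨s, hs_nin ⟨_, z, hz, rfl⟩⟩ (hns z (hs' ⟨z, hz⟩))]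
        refine (hfrac ⟨z, hz⟩).trans ?_
        refine (LocalizedModule.mk_eq.mpr ⟨1, ?_⟩).symm
        simp only [Submonoid.smul_def, one_smul]
        exact hab
      · refine ⟨0, 0, 0, ⟨1, SetLike.GradedOne.one_mem⟩,
          fun x' h => x'.1.isPrime.ne_top ((Ideal.eq_top_iff_one _).mpr h), Or.inr rfl, ?_⟩
        rintro ⟨_, z, hz, rfl⟩
        apply gLocM_injective hc hm _ z rfl
        refine (hq ⟨_, hN₁V ⟨z, hz, rfl⟩⟩ z (leOfHom iN hz) rfl).trans ?_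
        refine (hfrac ⟨z, hz⟩).trans ?_
        rw [hb0, LocalizedModule.zero_mk, ZeroMemClass.coe_zero, LocalizedModule.zero_mk,
          gLocM_zero]
    refine ⟨⟨fun x => q x, hloc⟩, ?_⟩
    refine sect_ext' fun y => ?_
    exact hq ⟨_, hUV y.2⟩ y.1 y.2 rfl

end ringmod

section geom
variable {Y P : Scheme.{u}} {𝒮 : RelProj.QCGrAlg Y} {p : P ⟶ Y}
  {chart : ∀ (U : Y.Opens) (hU : IsAffineOpen U),
    (((p ⁻¹ᵁ U : P.Opens) : Scheme.{u}) ≅ Proj (𝒮.deg U hU))}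
  (ℳ : RelProj.GrModule 𝒮)

/-- the restriction map of the module attached to a morphism of the affine Zariski site. -/
noncomputable def ms {V U : Y.AffineZariskiSite} (i : V ⟶ U) :
    ℳ.mod.val.obj (op U.1) →ₛₗ[(rs (𝒮 := 𝒮) i).toRingHom] ℳ.mod.val.obj (op V.1) :=
  ℳ.res U.2 V.2 (Scheme.AffineZariskiSite.toOpens_mono i.le)

lemma ms_mem {V U : Y.AffineZariskiSite} (i : V ⟶ U) (d : ℕ) (m : ℳ.mod.val.obj (op U.1))
    (hm : m ∈ ℳ.deg U.1 U.2 d) : ms ℳ i m ∈ ℳ.deg V.1 V.2 d :=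
  ℳ.res_mem U.2 V.2 _ d m hm

lemma ms_id_apply (U : Y.AffineZariskiSite) (m : ℳ.mod.val.obj (op U.1)) :
    ms ℳ (𝟙 U) m = m := by
  change (ℳ.mod.val.presheaf.map (𝟙 (op U.1))) m = m
  rw [ℳ.mod.val.presheaf.map_id]; rfl

lemma ms_comp_apply {V' V U : Y.AffineZariskiSite} (c : V' ⟶ V) (b : V ⟶ U)
    (m : ℳ.mod.val.obj (op U.1)) : ms ℳ (c ≫ b) m = ms ℳ c (ms ℳ b m) := by
  have hb' : V.1 ≤ U.1 := Scheme.AffineZariskiSite.toOpens_mono b.le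
  have hc' : V'.1 ≤ V.1 := Scheme.AffineZariskiSite.toOpens_mono c.le
  change ℳ.mod.val.presheaf.map (homOfLE (hc'.trans hb')).op m =
    ℳ.mod.val.presheaf.map (homOfLE hc').op (ℳ.mod.val.presheaf.map (homOfLE hb').op m)
  have h : (homOfLE (hc'.trans hb')).op = (homOfLE hb').op ≫ (homOfLE hc').op := rfl
  rw [h, ℳ.mod.val.presheaf.map_comp]; rfl

lemma isLocAtM_res (hℳ : Coh.IsQCoh ((AMod.toOS 𝒮.toQCAlg).obj ℳ.mod))
    (U : Y.Opens) (hU : IsAffineOpen U) (r : Γ(Y, U)) :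
    IsLocAtM (𝒮.res hU (hU.basicOpen r) (Y.basicOpen_le r))
      (ℳ.res hU (hU.basicOpen r) (Y.basicOpen_le r)) ((𝒮.str.app (op U)).hom r) := by
  haveI : ((AMod.toOS 𝒮.toQCAlg).obj ℳ.mod).IsQuasicoherent := hℳ
  have hnat : (𝒮.res hU (hU.basicOpen r) (Y.basicOpen_le r)) ((𝒮.str.app (op U)).hom r) =
      (𝒮.str.app (op (Y.basicOpen r))).hom (Y.presheaf.map (homOfLE (Y.basicOpen_le r)).op r) := by
    have := congrArg (fun f => f.hom r) (𝒮.str.naturality (homOfLE (Y.basicOpen_le r)).op)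
    exact this.symm
  refine ⟨?_, ?_⟩
  · intro n'
    obtain ⟨k, s, hs⟩ := Groth.Agent.LD.QC.affine_surj ((AMod.toOS 𝒮.toQCAlg).obj ℳ.mod) hU r n'
    refine ⟨s, k, ?_⟩
    rw [hnat, ← map_pow]
    exact hs.symm
  · intro m hm0
    obtain ⟨k, hk⟩ := Groth.Agent.LD.QC.affine_inj ((AMod.toOS 𝒮.toQCAlg).obj ℳ.mod) hU r m hm0
    refine ⟨k, ?_⟩
    rw [← map_pow]
    exact hk

lemma exists_isLocAtM (hℳ : Coh.IsQCoh ((AMod.toOS 𝒮.toQCAlg).obj ℳ.mod))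
    {V U : Y.AffineZariskiSite} (i : V ⟶ U) :
    ∃ c, IsLocAt (rs (𝒮 := 𝒮) i) c ∧ IsLocAtM (rs (𝒮 := 𝒮) i) (ms ℳ i) c := by
  obtain ⟨V1, hV⟩ := V
  obtain ⟨U1, hU⟩ := U
  obtain ⟨r, rfl⟩ := i.le
  exact ⟨_, isLocAt_res U1 hU r, isLocAtM_res ℳ hℳ U1 hU r⟩

variable (hP : RelProj.IsRelProj 𝒮 p chart) (n : ℤ)

/-- the transition morphisms. -/
noncomputable def βM {V U : Y.AffineZariskiSite} (i : V ⟶ U) :
    (Scheme.Modules.pushforward (RelProj.emb p chart U.1 U.2)).obj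
        (GrMod.tilde (𝒮.deg U.1 U.2) (ℳ.deg U.1 U.2) n) ⟶
      (Scheme.Modules.pushforward (RelProj.emb p chart V.1 V.2)).obj
        (GrMod.tilde (𝒮.deg V.1 V.2) (ℳ.deg V.1 V.2) n) :=
  (Scheme.Modules.pushforward (RelProj.emb p chart U.1 U.2)).map
      (GrMod.comap (rs (𝒮 := 𝒮) i) (rs_irr i) (ms ℳ i) (ms_mem ℳ i) n) ≫
    (Scheme.Modules.pushforwardComp (Proj.map (rs (𝒮 := 𝒮) i) (rs_irr i))
      (RelProj.emb p chart U.1 U.2)).hom.app _ ≫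
    (Scheme.Modules.pushforwardCongr (emb_rs hP i)).hom.app _

lemma βM_val {V U : Y.AffineZariskiSite} (i : V ⟶ U) (W : P.Opens)
    (t : Γ((Scheme.Modules.pushforward (RelProj.emb p chart U.1 U.2)).obj
        (GrMod.tilde (𝒮.deg U.1 U.2) (ℳ.deg U.1 U.2) n), W))
    (y : ProjectiveSpectrum (𝒮.deg V.1 V.2))
    (hy : (RelProj.emb p chart V.1 V.2).base y ∈ W)
    (hy' : (RelProj.emb p chart U.1 U.2).base
      (ProjectiveSpectrum.comap (rs (𝒮 := 𝒮) i) (rs_irr i) y) ∈ W) :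
    GrMod.val (V := RelProj.emb p chart V.1 V.2 ⁻¹ᵁ W) ((βM ℳ hP n i).app W t) ⟨y, hy⟩ =
      GrMod.locModMap (rs (𝒮 := 𝒮) i) (rs_irr i) (ms ℳ i) y
        (GrMod.val (V := RelProj.emb p chart U.1 U.2 ⁻¹ᵁ W) t ⟨_, hy'⟩) := rfl

lemma βM_id (U : Y.AffineZariskiSite) : βM ℳ hP n (𝟙 U) = 𝟙 _ := by
  refine Scheme.Modules.hom_ext _ _ fun W => ?_
  ext t
  refine sect_ext' (𝒜 := 𝒮.deg U.1 U.2) (ℳ := ℳ.deg U.1 U.2) (n := n)
    (U := op (RelProj.emb p chart U.1 U.2 ⁻¹ᵁ W)) fun y => ?_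
  obtain ⟨y, hy⟩ := y
  have hy' : (RelProj.emb p chart U.1 U.2).base
      (ProjectiveSpectrum.comap (rs (𝒮 := 𝒮) (𝟙 U)) (rs_irr (𝟙 U)) y) ∈ W := by
    rw [emb_comap hP]; exact hy
  refine (βM_val ℳ hP n (𝟙 U) W t y hy hy').trans ?_
  refine valM_transport (n := n) (V := RelProj.emb p chart U.1 U.2 ⁻¹ᵁ W) t _ y hy' hy
    (comap_eq_of _ _ _ _ fun a => by rw [rs_id_apply]) _ id ?_
  intro m s hs hs'
  exact mk_congr (ms_id_apply ℳ U m) (rs_id_apply U s)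

lemma βM_comp {V' V U : Y.AffineZariskiSite} (c : V' ⟶ V) (b : V ⟶ U) :
    βM ℳ hP n (c ≫ b) = βM ℳ hP n b ≫ βM ℳ hP n c := by
  refine Scheme.Modules.hom_ext _ _ fun W => ?_
  ext t
  refine sect_ext' (𝒜 := 𝒮.deg V'.1 V'.2) (ℳ := ℳ.deg V'.1 V'.2) (n := n)
    (U := op (RelProj.emb p chart V'.1 V'.2 ⁻¹ᵁ W)) fun y => ?_
  obtain ⟨y, hy⟩ := y
  have hy1 : (RelProj.emb p chart U.1 U.2).base
      (ProjectiveSpectrum.comap (rs (𝒮 := 𝒮) (c ≫ b)) (rs_irr (c ≫ b)) y) ∈ W := by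
    rw [emb_comap hP]; exact hy
  have hy2 : (RelProj.emb p chart V.1 V.2).base
      (ProjectiveSpectrum.comap (rs (𝒮 := 𝒮) c) (rs_irr c) y) ∈ W := by
    rw [emb_comap hP]; exact hy
  have hy3 : (RelProj.emb p chart U.1 U.2).base
      (ProjectiveSpectrum.comap (rs (𝒮 := 𝒮) b) (rs_irr b)
        (ProjectiveSpectrum.comap (rs (𝒮 := 𝒮) c) (rs_irr c) y)) ∈ W := by
    rw [emb_comap hP]; exact hy2
  refine (βM_val ℳ hP n (c ≫ b) W t y hy hy1).trans ?_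
  refine Eq.trans ?_ (βM_val ℳ hP n c W ((βM ℳ hP n b).app W t) y hy hy2).symm
  refine Eq.trans ?_ (congrArg (GrMod.locModMap (rs (𝒮 := 𝒮) c) (rs_irr c) (ms ℳ c) y)
    (βM_val ℳ hP n b W t _ hy2 hy3)).symm
  refine valM_transport (n := n) (V := RelProj.emb p chart U.1 U.2 ⁻¹ᵁ W) t _ _ hy1 hy3
    ((comap_eq_of _ _ _ _ fun a => by rw [rs_comp_apply]; exact Iff.rfl)) _
    (fun q => GrMod.locModMap (rs (𝒮 := 𝒮) c) (rs_irr c) (ms ℳ c) y
      (GrMod.locModMap (rs (𝒮 := 𝒮) b) (rs_irr b) (ms ℳ b) _ q)) ?_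
  intro m s hs hs'
  exact mk_congr (ms_comp_apply ℳ c b m) (rs_comp_apply c b s)

/-- the diagram of pushed-forward modules. -/
noncomputable def DM : (Y.AffineZariskiSite)ᵒᵖ ⥤ P.Modules where
  obj U := (Scheme.Modules.pushforward (RelProj.emb p chart U.unop.1 U.unop.2)).obj
    (GrMod.tilde (𝒮.deg U.unop.1 U.unop.2) (ℳ.deg U.unop.1 U.unop.2) n)
  map f := βM ℳ hP n f.unop
  map_id U := βM_id ℳ hP n U.unop
  map_comp f g := βM_comp ℳ hP n g.unop f.unop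

lemma DM_ext (U : Y.AffineZariskiSite) (W W' : P.Opens) (h : W' ≤ W)
    (hle : W ⊓ p ⁻¹ᵁ U.1 ≤ W') :
    Function.Bijective (((DM ℳ hP n).obj (op U)).presheaf.map (homOfLE h).op) := by
  have h1 : RelProj.emb p chart U.1 U.2 ⁻¹ᵁ W ≤ RelProj.emb p chart U.1 U.2 ⁻¹ᵁ W' := by
    intro z hz
    refine hle ⟨hz, ?_⟩
    have : (RelProj.emb p chart U.1 U.2).base z ∈ (RelProj.emb p chart U.1 U.2).opensRange :=
      ⟨z, rfl⟩
    rwa [Groth.Agent.H8.RelTilde.opensRange_emb] at this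
  exact Groth.Agent.H4.LimGlue.res_bijective_of_le_of_le
    (GrMod.tilde (𝒮.deg U.1 U.2) (ℳ.deg U.1 U.2) n)
    ((RelProj.emb p chart U.1 U.2).preimage_mono h) h1

lemma βM_app_bijective (hℳ : Coh.IsQCoh ((AMod.toOS 𝒮.toQCAlg).obj ℳ.mod))
    {V U : Y.AffineZariskiSite} (i : V ⟶ U) (W : P.Opens)
    (hW : W ≤ p ⁻¹ᵁ V.1) : Function.Bijective ((βM ℳ hP n i).app W) := by
  obtain ⟨c, hc, hm⟩ := exists_isLocAtM ℳ hℳ i
  haveI := isOpenImmersion_projMap hP i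
  have hpts : ∀ x : ProjectiveSpectrum (𝒮.deg U.1 U.2),
      x ∈ (RelProj.emb p chart U.1 U.2 ⁻¹ᵁ W) →
      ∃ y, ProjectiveSpectrum.comap (rs (𝒮 := 𝒮) i) (rs_irr i) y = x := by
    intro x hx
    have hx' : (RelProj.emb p chart U.1 U.2).base x ∈ (RelProj.emb p chart V.1 V.2).opensRange := by
      rw [Groth.Agent.H8.RelTilde.opensRange_emb]; exact hW hx
    obtain ⟨y, hy⟩ := hx'
    refine ⟨y, (RelProj.emb p chart U.1 U.2).isOpenEmbedding.injective ?_⟩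
    rw [emb_comap hP]; exact hy
  have hb := comapAppM_bijective (rs_irr i) (ms_mem ℳ i) hc hm n
    (RelProj.emb p chart U.1 U.2 ⁻¹ᵁ W)
    (Proj.map (rs (𝒮 := 𝒮) i) (rs_irr i) ⁻¹ᵁ (RelProj.emb p chart U.1 U.2 ⁻¹ᵁ W))
    Set.Subset.rfl (fun y hy => hy) hpts
    (Proj.map (rs (𝒮 := 𝒮) i) (rs_irr i)).isOpenEmbedding.injective
    (Proj.map (rs (𝒮 := 𝒮) i) (rs_irr i)).isOpenEmbedding.isOpenMap
  have hmem : ∀ y : ProjectiveSpectrum (𝒮.deg V.1 V.2),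
      (RelProj.emb p chart V.1 V.2).base y ∈ W ↔
      (RelProj.emb p chart U.1 U.2).base
        (ProjectiveSpectrum.comap (rs (𝒮 := 𝒮) i) (rs_irr i) y) ∈ W := by
    intro y; rw [emb_comap hP]
  constructor
  · intro t t' htt
    apply hb.1
    refine sect_ext' fun y => ?_
    obtain ⟨y, hy⟩ := y
    have := congrArg (fun s : Γ((Scheme.Modules.pushforward (RelProj.emb p chart V.1 V.2)).obj
        (GrMod.tilde (𝒮.deg V.1 V.2) (ℳ.deg V.1 V.2) n), W) =>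
      GrMod.val (V := RelProj.emb p chart V.1 V.2 ⁻¹ᵁ W) s ⟨y, (hmem y).mpr hy⟩) htt
    exact this
  · intro t₁
    have hle : Proj.map (rs (𝒮 := 𝒮) i) (rs_irr i) ⁻¹ᵁ (RelProj.emb p chart U.1 U.2 ⁻¹ᵁ W) ≤
        RelProj.emb p chart V.1 V.2 ⁻¹ᵁ W := fun y hy => (hmem y).mpr hy
    obtain ⟨t, ht⟩ := hb.2
      ((GrMod.tilde (𝒮.deg V.1 V.2) (ℳ.deg V.1 V.2) n).presheaf.map (homOfLE hle).op t₁)
    refine ⟨t, ?_⟩
    refine sect_ext' (𝒜 := 𝒮.deg V.1 V.2) (ℳ := ℳ.deg V.1 V.2) (n := n)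
      (U := op (RelProj.emb p chart V.1 V.2 ⁻¹ᵁ W)) fun y => ?_
    obtain ⟨y, hy⟩ := y
    have := congrArg (fun s : GrMod.sect (𝒮.deg V.1 V.2) (ℳ.deg V.1 V.2) n
        (op (Proj.map (rs (𝒮 := 𝒮) i) (rs_irr i) ⁻¹ᵁ (RelProj.emb p chart U.1 U.2 ⁻¹ᵁ W))) =>
      ((s.1 ⟨y, (hmem y).mp hy⟩ : GrMod.tildeAt (𝒮.deg V.1 V.2) (ℳ.deg V.1 V.2) n y) :
        GrMod.LocMod (𝒮.deg V.1 V.2) (M := ℳ.mod.val.obj (op V.1)) y)) ht
    exact this

theorem main_S8321 {Y P : Scheme.{u}} (𝒮 : RelProj.QCGrAlg Y) (p : P ⟶ Y)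
    (chart : ∀ (U : Y.Opens) (hU : IsAffineOpen U), (((p ⁻¹ᵁ U : P.Opens) : Scheme.{u}) ≅ Proj (𝒮.deg U hU)))
    (hP : RelProj.IsRelProj 𝒮 p chart) (ℳ : RelProj.GrModule 𝒮)
    (hℳ : Coh.IsQCoh ((AMod.toOS 𝒮.toQCAlg).obj ℳ.mod)) (n : ℤ) :
    ∃ (F : P.Modules) (lam : ∀ (U : Y.Opens) (hU : IsAffineOpen U),
      F ⟶ (Scheme.Modules.pushforward (RelProj.emb p chart U hU)).obj (GrMod.tilde (𝒮.deg U hU) (ℳ.deg U hU) n)),
      RelProj.IsRelTilde 𝒮 p chart ℳ n F lam := by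
  refine ⟨limit (DM ℳ hP n), fun U hU => limit.π (DM ℳ hP n) (op ⟨U, hU⟩), ⟨?_, ?_⟩⟩
  · intro U hU W hW
    exact Groth.Agent.H4.LimGlue.limit_π_bijective p (DM ℳ hP n)
      (fun i W hW => βM_app_bijective ℳ hP n hℳ i W hW) (DM_ext ℳ hP n) ⟨U, hU⟩ W hW
  · intro U hU r W s y hy hy'
    have h := Groth.Agent.H4.LimGlue.π_map (DM ℳ hP n) W
      (homOfLE (Scheme.AffineZariskiSite.basicOpen_le (⟨U, hU⟩ : Y.AffineZariskiSite) r)).op s
    refine Eq.trans (congrArg (fun s' : Γ((Scheme.Modules.pushforward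
      (RelProj.emb p chart (Y.basicOpen r) (hU.basicOpen r))).obj
        (GrMod.tilde (𝒮.deg (Y.basicOpen r) (hU.basicOpen r))
          (ℳ.deg (Y.basicOpen r) (hU.basicOpen r)) n), W) =>
      GrMod.val (V := RelProj.emb p chart (Y.basicOpen r) (hU.basicOpen r) ⁻¹ᵁ W) s' ⟨y, hy⟩)
      h.symm) ?_
    exact βM_val ℳ hP n
      (homOfLE (Scheme.AffineZariskiSite.basicOpen_le (⟨U, hU⟩ : Y.AffineZariskiSite) r)) W _ y hy hy'

end geom

end Groth.Agent.H4.TildeGlue
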