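import Mathlib.Topology.Category.TopCommRingCat
import Mathlib.Topology.Algebra.Ring.Basic
import Mathlib.Algebra.Category.Ring.Colimits
import Mathlib.CategoryTheory.Limits.Preserves.Basic

/-!
# Colimits in the category of topological commutative rings (helper4)
-/

open CategoryTheory CategoryTheory.Limits Topology

namespace Groth.Agent.H4.TopRing

universe u v

variable {J : Type u} [Category.{v} J] {F : J ⥤ TopCommRingCat.{u}}
  (c : Cocone (F ⋙ forget₂ TopCommRingCat CommRingCat))

/-- the finest ring topology making all the cocone maps continuous -/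
def colimTop : RingTopology c.pt :=
  sInf {t | ∀ j, Continuous[(F.obj j).isTopologicalSpace, t.toTopologicalSpace] (c.ι.app j).hom}

theorem continuous_colimTop (j : J) :
    Continuous[(F.obj j).isTopologicalSpace, (colimTop c).toTopologicalSpace] (c.ι.app j).hom :=
  continuous_sInf_rng.2 <| Set.forall_mem_image.2 fun _ ht => ht j

/-- the colimit object -/
def colimPt : TopCommRingCat.{u} :=
  @TopCommRingCat.of c.pt _ (colimTop c).toTopologicalSpace (colimTop c).toIsTopologicalRing

/-- the colimit cocone -/
def colimCocone : Cocone F where
  pt := colimPt c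
  ι :=
    { app := fun j => ⟨(c.ι.app j).hom, continuous_colimTop c j⟩
      naturality := fun i j f => by
        apply Subtype.ext
        exact congrArg CommRingCat.Hom.hom (c.w f) }

/-- ring topology induced by a ring hom to a topological ring -/
def inducedRingTopology {R S : Type*} [Ring R] [Ring S] [TopologicalSpace S] [IsTopologicalRing S]
    (φ : R →+* S) : RingTopology R :=
  letI : TopologicalSpace R := TopologicalSpace.induced φ ‹_›
  { toContinuousAdd := continuousAdd_induced φ
    toContinuousMul := continuousMul_induced φ
    toContinuousNeg := (topologicalAddGroup_induced φ).toContinuousNeg }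

variable {c} in
theorem continuous_desc (hc : IsColimit c) (s : Cocone F) :
    Continuous[(colimTop c).toTopologicalSpace, s.pt.isTopologicalSpace]
      (hc.desc ((forget₂ TopCommRingCat CommRingCat).mapCocone s)).hom := by
  let φ : c.pt →+* s.pt := (hc.desc ((forget₂ TopCommRingCat CommRingCat).mapCocone s)).hom
  show Continuous[(colimTop c).toTopologicalSpace, s.pt.isTopologicalSpace] φ
  rw [continuous_iff_le_induced]
  have hmem : inducedRingTopology φ ∈
      {t : RingTopology c.pt | ∀ j, Continuous[(F.obj j).isTopologicalSpace, t.toTopologicalSpace]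
        (c.ι.app j).hom} := by
    intro j
    apply continuous_induced_rng.2
    have := hc.fac ((forget₂ TopCommRingCat CommRingCat).mapCocone s) j
    have h2 : Continuous (s.ι.app j).1 := (s.ι.app j).2
    exact h2.congr (fun x => (ConcreteCategory.congr_hom this x).symm)
  have h : colimTop c ≤ inducedRingTopology φ := sInf_le hmem
  exact h

/-- the colimit cocone is a colimit -/
def colimIsColimit (hc : IsColimit c) : IsColimit (colimCocone c) where
  desc s := ⟨(hc.desc ((forget₂ TopCommRingCat CommRingCat).mapCocone s)).hom,
    continuous_desc hc s⟩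
  fac s j := by
    apply Subtype.ext
    exact congrArg CommRingCat.Hom.hom
      (hc.fac ((forget₂ TopCommRingCat CommRingCat).mapCocone s) j)
  uniq s m h := by
    apply Subtype.ext
    have := hc.uniq ((forget₂ TopCommRingCat CommRingCat).mapCocone s) (CommRingCat.ofHom m.1)
      (fun j => by
        ext x
        exact congrArg (fun g => g.1 x) (h j))
    exact congrArg CommRingCat.Hom.hom this

/-- its image in `CommRingCat` is a colimit -/
def isColimitRing (hc : IsColimit c) :
    IsColimit ((forget₂ TopCommRingCat CommRingCat).mapCocone (colimCocone c)) :=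
  IsColimit.ofIsoColimit hc (Cocone.ext (Iso.refl _) (fun j => by
    ext x
    rfl))

theorem hasColimitsOfSize : HasColimitsOfSize.{u, u} TopCommRingCat.{u} :=
  ⟨fun _ _ => ⟨fun F => HasColimit.mk ⟨colimCocone (colimit.cocone _),
    colimIsColimit _ (colimit.isColimit (F ⋙ forget₂ TopCommRingCat CommRingCat))⟩⟩⟩

theorem preservesColimitsOfSize_ring :
    PreservesColimitsOfSize.{u, u} (forget₂ TopCommRingCat.{u} CommRingCat.{u}) :=
  ⟨fun {_} _ => ⟨fun {F} => preservesColimit_of_preserves_colimit_cocone
    (colimIsColimit _ (colimit.isColimit (F ⋙ forget₂ TopCommRingCat CommRingCat)))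
    (isColimitRing _ (colimit.isColimit (F ⋙ forget₂ TopCommRingCat CommRingCat)))⟩⟩

end Groth.Agent.H4.TopRing
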