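import Mathlib.Topology.Category.TopCommRingCat
import Mathlib.Topology.Algebra.Ring.Basic
import Mathlib.Topology.Category.TopCat.Limits.Basic
import Mathlib.Algebra.Category.Ring.Limits
import Mathlib.CategoryTheory.Limits.Preserves.Basic

/-!
# Limits in the category of topological commutative rings (helper4)
-/

open CategoryTheory CategoryTheory.Limits

namespace Groth.Agent.H4.TopRing

universe u v

variable {J : Type u} [Category.{v} J] (F : J ⥤ TopCommRingCat.{u})

/-- compatible families as a subring of the product -/
def secSubring : Subring (∀ j, F.obj j) where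
  carrier := {x | ∀ ⦃i j : J⦄ (f : i ⟶ j), (F.map f).1 (x i) = x j}
  mul_mem' := by
    intro a b ha hb i j f
    simp only [Pi.mul_apply, map_mul, ha f, hb f]
  one_mem' := by
    intro i j f
    simp only [Pi.one_apply, map_one]
  add_mem' := by
    intro a b ha hb i j f
    simp only [Pi.add_apply, map_add, ha f, hb f]
  zero_mem' := by
    intro i j f
    simp only [Pi.zero_apply, map_zero]
  neg_mem' := by
    intro a ha i j f
    simp only [Pi.neg_apply, map_neg, ha f]

/-- the limit object -/
def limPt : TopCommRingCat.{u} := TopCommRingCat.of (secSubring F)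

/-- the limit cone -/
def limCone : Cone F where
  pt := limPt F
  π :=
    { app := fun j => ⟨(Pi.evalRingHom _ j).comp (secSubring F).subtype,
        (continuous_apply j).comp continuous_subtype_val⟩
      naturality := fun i j f => by
        apply Subtype.ext
        ext x
        exact (x.2 f).symm }

/-- the limit cone is a limit -/
def limConeIsLimit : IsLimit (limCone F) where
  lift s := ⟨RingHom.codRestrict (RingHom.pi fun j => (s.π.app j).1) (secSubring F)
      (fun x i j f => congrArg (fun g => g.1 x) (s.w f)),
    Continuous.subtype_mk (continuous_pi fun j => (s.π.app j).2) _⟩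
  fac s j := by
    apply Subtype.ext
    ext x
    rfl
  uniq s m h := by
    apply Subtype.ext
    ext x
    apply Subtype.ext
    funext j
    exact congrArg (fun g => g.1 x) (h j)

/-- the image of the limit cone in `TopCat` is a limit -/
def isLimitTop : IsLimit ((forget₂ TopCommRingCat TopCat).mapCone (limCone F)) where
  lift s := TopCat.ofHom ⟨fun x => ⟨fun j => s.π.app j x, fun i j f =>
      ConcreteCategory.congr_hom (s.w f) x⟩,
    Continuous.subtype_mk (continuous_pi fun j => (s.π.app j).hom.2) _⟩
  fac s j := by
    ext x
    rfl
  uniq s m h := by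
    ext x
    apply Subtype.ext
    funext j
    exact ConcreteCategory.congr_hom (h j) x

/-- the image of the limit cone in `CommRingCat` is a limit -/
def isLimitRing : IsLimit ((forget₂ TopCommRingCat CommRingCat).mapCone (limCone F)) where
  lift s := CommRingCat.ofHom (RingHom.codRestrict (RingHom.pi fun j => (s.π.app j).hom)
      (secSubring F) (fun x i j f => by exact ConcreteCategory.congr_hom (s.w f) x))
  fac s j := by
    ext x
    rfl
  uniq s m h := by
    ext x
    apply Subtype.ext
    funext j
    exact ConcreteCategory.congr_hom (h j) x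

theorem hasLimitsOfSize : HasLimitsOfSize.{v, u} TopCommRingCat.{u} :=
  ⟨fun _ _ => ⟨fun F => HasLimit.mk ⟨limCone F, limConeIsLimit F⟩⟩⟩

theorem preservesLimitsOfSize_top :
    PreservesLimitsOfSize.{v, u} (forget₂ TopCommRingCat.{u} TopCat.{u}) :=
  ⟨fun {_} _ => ⟨fun {F} => preservesLimit_of_preserves_limit_cone (limConeIsLimit F)
    (isLimitTop F)⟩⟩

theorem preservesLimitsOfSize_ring :
    PreservesLimitsOfSize.{v, u} (forget₂ TopCommRingCat.{u} CommRingCat.{u}) :=
  ⟨fun {_} _ => ⟨fun {F} => preservesLimit_of_preserves_limit_cone (limConeIsLimit F)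
    (isLimitRing F)⟩⟩

end Groth.Agent.H4.TopRing
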