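import Mathlib
import Groth.Agent.H4.Strat

/-!
# A topological divisibility lemma for commutative algebraic groups

Abstract form of: for a connected commutative algebraic group `G` over an algebraically closed field
and `n ≥ 1`, the images of `[n^r]` on `G(k)` stabilise to an `n`-divisible subgroup.
-/

set_option autoImplicit false

open Topology TopologicalSpace Set

namespace Groth.Agent.H4.TorA

variable {X : Type*} [TopologicalSpace X]

theorem exists_open_subset_of_constructible {E Z : Set X} (hE : IsConstructible E) (hEZ : E ⊆ Z)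
    (ξ : X) (hξ : IsGenericPoint ξ Z) (hdense : Z ⊆ closure E) :
    ∃ O : Set X, IsOpen O ∧ ξ ∈ O ∧ O ∩ Z ⊆ E := by
  classical
  obtain ⟨κ, _, W, hWc, -, hW⟩ := Groth.Agent.H4.Spec.exists_family_of_isConstructible hE
  obtain ⟨O, hOdef⟩ : ∃ O : Set X, O = ⋂ l ∈ (Finset.univ.filter fun l => ξ ∉ W l), (W l)ᶜ :=
    ⟨_, rfl⟩
  have hmem : ∀ x, x ∈ O ↔ ∀ l, ξ ∉ W l → x ∉ W l := by
    intro x
    rw [hOdef]
    simp only [mem_iInter, Finset.mem_filter, Finset.mem_univ, true_and, mem_compl_iff]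
  have hOo : IsOpen O := by
    rw [hOdef]
    exact isOpen_biInter_finset fun l _ => (hWc l).isOpen_compl
  have hξO : ξ ∈ O := (hmem ξ).mpr fun l hl => hl
  have hξZ : ξ ∈ Z := by
    rw [← hξ.def]
    exact subset_closure rfl
  have hpat : ∀ x ∈ O ∩ Z, ∀ l, x ∈ W l ↔ ξ ∈ W l := by
    rintro x ⟨hxO, hxZ⟩ l
    constructor
    · intro hx
      by_contra hl
      exact (hmem x).mp hxO l hl hx
    · intro hl
      have hZW : Z ⊆ W l := by
        rw [← hξ.def]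
        exact (hWc l).closure_subset_iff.mpr (singleton_subset_iff.mpr hl)
      exact hZW hxZ
  have hξE : ξ ∈ E := by
    have h1 : ξ ∈ closure E := hdense hξZ
    obtain ⟨e, heO, heE⟩ := mem_closure_iff.mp h1 O hOo hξO
    exact (hW e ξ (hpat e ⟨heO, hEZ heE⟩)).mp heE
  exact ⟨O, hOo, hξO, fun x hx => (hW x ξ (hpat x hx)).mpr hξE⟩

theorem exists_pow_eq_pow [NoetherianSpace X] [JacobsonSpace X] [QuasiSober X]
    [IrreducibleSpace X]
    {B : Type*} [CommGroup B] (pt : B → X) (hinj : Function.Injective pt)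
    (hrange : Set.range pt = closedPoints X)
    (n : ℕ) (P : ℕ → X → X) (hPc : ∀ r, Continuous (P r))
    (hPpt : ∀ r b, P r (pt b) = pt (b ^ (n ^ r)))
    (hPE : ∀ r, IsConstructible (Set.range (P r)))
    (hPanti : ∀ r, Set.range (P (r + 1)) ⊆ Set.range (P r))
    (θ : B → X → X) (hθc : ∀ c, Continuous (θ c)) (hθpt : ∀ c b, θ c (pt b) = pt (c * b⁻¹))
    (hθP : ∀ r c x, θ (c ^ (n ^ r)) (P r x) = P r (θ c x)) (hθinv : ∀ c x, θ c (θ c x) = x)
    (h : B) : ∃ (r : ℕ) (d : B), d ^ (n ^ (r + 1)) = h ^ (n ^ r) := by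
  classical
  obtain ⟨Z, hZdef⟩ : ∃ Z : ℕ → Closeds X,
      Z = fun r => ⟨closure (Set.range (P r)), isClosed_closure⟩ := ⟨_, rfl⟩
  have hZcoe : ∀ r, (Z r : Set X) = closure (Set.range (P r)) := by
    intro r
    rw [hZdef]
    rfl
  have hZanti : ∀ r, Z (r + 1) ≤ Z r := by
    intro r
    show (Z (r + 1) : Set X) ⊆ (Z r : Set X)
    rw [hZcoe, hZcoe]
    exact closure_mono (hPanti r)
  haveI : WellFoundedLT (Closeds X) := ((noetherianSpace_TFAE X).out 0 1).mp ‹NoetherianSpace X›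
  obtain ⟨_, ⟨r, rfl⟩, hmin⟩ :=
    (wellFounded_lt (α := Closeds X)).has_min (Set.range Z) ⟨Z 0, 0, rfl⟩
  have hst : Z (r + 1) = Z r := eq_of_le_of_not_lt (hZanti r) (hmin _ ⟨r + 1, rfl⟩)
  have hst' : closure (Set.range (P (r + 1))) = closure (Set.range (P r)) := by
    rw [← hZcoe, ← hZcoe, hst]
  have hirr : ∀ s, IsIrreducible (Set.range (P s)) := fun s => by
    rw [← Set.image_univ]
    exact (IrreducibleSpace.isIrreducible_univ X).image (P s) (hPc s).continuousOn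
  obtain ⟨Zr, hZr⟩ : ∃ Zr : Set X, Zr = closure (Set.range (P r)) := ⟨_, rfl⟩
  have hZr' : Zr = closure (Set.range (P (r + 1))) := hZr.trans hst'.symm
  have hZirr : IsIrreducible Zr := by
    rw [hZr]
    exact (hirr r).closure
  obtain ⟨ξ, hξ⟩ : ∃ ξ, IsGenericPoint ξ Zr := by
    refine ⟨(hirr (r + 1)).genericPoint, ?_⟩
    rw [hZr']
    exact (hirr (r + 1)).isGenericPoint_genericPoint_closure
  obtain ⟨O, hOo, hξO, hOE⟩ := exists_open_subset_of_constructible (hPE (r + 1))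
    (by rw [hZr']; exact subset_closure) ξ hξ hZr'.subset
  obtain ⟨c, hc⟩ : ∃ c : B, c = h ^ (n ^ r) := ⟨_, rfl⟩
  have hξZ : ξ ∈ Zr := by
    rw [← hξ.def]
    exact subset_closure rfl
  have hθrange : θ c '' Set.range (P r) ⊆ Set.range (P r) := by
    rintro _ ⟨_, ⟨x, rfl⟩, rfl⟩
    refine ⟨θ h x, ?_⟩
    rw [hc]
    exact (hθP r h x).symm
  have hθZ : ∀ z ∈ Zr, θ c z ∈ Zr := by
    intro z hz
    rw [hZr] at hz ⊢
    have h1 : θ c z ∈ θ c '' closure (Set.range (P r)) := ⟨z, hz, rfl⟩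
    exact closure_mono hθrange (image_closure_subset_closure_image (hθc c) h1)
  have hne : (Zr ∩ (O ∩ θ c ⁻¹' O)).Nonempty :=
    hZirr.isPreirreducible O (θ c ⁻¹' O) hOo (hOo.preimage (hθc c)) ⟨ξ, hξZ, hξO⟩
      ⟨θ c ξ, hθZ ξ hξZ, by
        show θ c (θ c ξ) ∈ O
        rw [hθinv]
        exact hξO⟩
  have hZrc : IsClosed Zr := by
    rw [hZr]
    exact isClosed_closure
  have hlc : IsLocallyClosed (Zr ∩ (O ∩ θ c ⁻¹' O)) :=
    hZrc.isLocallyClosed.inter (hOo.inter (hOo.preimage (hθc c))).isLocallyClosed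
  obtain ⟨y, ⟨hyZ, hyO, hyθ⟩, hycl⟩ := nonempty_inter_closedPoints hne hlc
  obtain ⟨b, rfl⟩ : y ∈ Set.range pt := by
    rw [hrange]
    exact hycl
  have key : ∀ b' : B, pt b' ∈ Set.range (P (r + 1)) → ∃ d : B, b' = d ^ (n ^ (r + 1)) := by
    rintro b' ⟨x, hx⟩
    have hb'cl : IsClosed ({pt b'} : Set X) := by
      have h1 : pt b' ∈ closedPoints X := by
        rw [← hrange]
        exact ⟨b', rfl⟩
      exact mem_closedPoints_iff.mp h1
    have hcl : IsClosed (P (r + 1) ⁻¹' {pt b'}) := hb'cl.preimage (hPc (r + 1))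
    obtain ⟨x', hx', hx'cl⟩ := nonempty_inter_closedPoints
      (⟨x, hx⟩ : (P (r + 1) ⁻¹' {pt b'}).Nonempty) hcl.isLocallyClosed
    obtain ⟨d, rfl⟩ : x' ∈ Set.range pt := by
      rw [hrange]
      exact hx'cl
    refine ⟨d, hinj ?_⟩
    rw [← hPpt]
    exact hx'.symm
  obtain ⟨d₁, hd₁⟩ := key b (hOE ⟨hyO, hyZ⟩)
  have h2 : pt (c * b⁻¹) ∈ Set.range (P (r + 1)) := by
    rw [← hθpt]
    exact hOE ⟨hyθ, hθZ _ hyZ⟩
  obtain ⟨d₂, hd₂⟩ := key (c * b⁻¹) h2
  refine ⟨r, d₂ * d₁, ?_⟩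
  rw [mul_pow, ← hd₁, ← hd₂, inv_mul_cancel_right, hc]

end Groth.Agent.H4.TorA
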