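import Mathlib
import Groth.Prelude.Def_AutSch
import Groth.Agent.Lib.Helper9.Misc.GZB2
import Groth.Agent.Lib.Helper9.Misc.GSD2
import Groth.Agent.H4.TorA

/-!
# Torsion points modulo the identity component of a commutative group scheme
-/

set_option autoImplicit false

universe u

open CategoryTheory MonoidalCategory CartesianMonoidalCategory MonObj GrpObj AlgebraicGeometry
  Topology TopologicalSpace

namespace Groth.Agent.H4.TorB

section General

variable {C : Type*} [Category C] [CartesianMonoidalCategory C] [BraidedCategory C]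

lemma isCommMonObj_of_mono {H G : C} [GrpObj H] [GrpObj G] [IsCommMonObj G] (i : H ⟶ G)
    [IsMonHom i] [Mono i] : IsCommMonObj H := by
  rw [isCommMonObj_iff_isMulCommutative]
  intro X
  refine ⟨⟨fun f g => ?_⟩⟩
  rw [← cancel_mono i, MonObj.mul_comp, MonObj.mul_comp, mul_comm]

variable {G0 : C} [GrpObj G0] [IsCommMonObj G0]

/-- `x ↦ x ^ m`. -/
noncomputable def pw (G0 : C) [GrpObj G0] (m : ℕ) : G0 ⟶ G0 := (𝟙 G0) ^ m

/-- `x ↦ c * x⁻¹`. -/
noncomputable def th (c : 𝟙_ C ⟶ G0) : G0 ⟶ G0 := (toUnit G0 ≫ c) * (𝟙 G0)⁻¹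

lemma pow_eq_comp {T : C} (b : T ⟶ G0) (m : ℕ) : b ^ m = b ≫ pw G0 m := by
  unfold pw
  rw [MonObj.comp_pow, Category.comp_id]

lemma comp_th {T : C} (f : T ⟶ G0) (c : 𝟙_ C ⟶ G0) : f ≫ th c = (toUnit T ≫ c) * f⁻¹ := by
  unfold th
  rw [MonObj.comp_mul, GrpObj.comp_inv, Category.comp_id, ← Category.assoc,
    toUnit_unique (f ≫ toUnit G0) (toUnit T)]

lemma comp_th_pt (b c : 𝟙_ C ⟶ G0) : b ≫ th c = c * b⁻¹ := by
  rw [comp_th, toUnit_unique (toUnit (𝟙_ C)) (𝟙 _), Category.id_comp]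

lemma pw_th (c : 𝟙_ C ⟶ G0) (m : ℕ) : pw G0 m ≫ th (c ^ m) = th c ≫ pw G0 m := by
  have hL : pw G0 m ≫ th (c ^ m) = (toUnit G0 ≫ c ^ m) * ((𝟙 G0) ^ m)⁻¹ := by
    rw [comp_th]
    rfl
  have hR : th c ≫ pw G0 m = (toUnit G0 ≫ c ^ m) * ((𝟙 G0) ^ m)⁻¹ := by
    rw [← pow_eq_comp]
    unfold th
    rw [_root_.mul_pow, _root_.inv_pow, ← MonObj.comp_pow]
  rw [hL, hR]

lemma th_th (c : 𝟙_ C ⟶ G0) : th c ≫ th c = 𝟙 G0 := by
  rw [comp_th]
  unfold th
  rw [_root_.mul_inv_rev, _root_.inv_inv, _root_.mul_comm (𝟙 G0), _root_.mul_inv_cancel_left]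

end General

section Sch

variable (k : Type u) [Field k] [IsAlgClosed k]
variable {G0 : Over (Spec (CommRingCat.of k))} [GrpObj G0]

/-- underlying point of a `k`-point -/
noncomputable def pt (b : 𝟙_ (Over (Spec (CommRingCat.of k))) ⟶ G0) : ↥G0.left :=
  b.left.base (IsLocalRing.closedPoint k)

lemma pt_comp (b : 𝟙_ (Over (Spec (CommRingCat.of k))) ⟶ G0) (f : G0 ⟶ G0) :
    pt k (b ≫ f) = f.left.base (pt k b) := rfl

variable [LocallyOfFiniteType G0.hom]

lemma pt_injective : Function.Injective (pt k (G0 := G0)) := by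
  intro b b' hbb
  have h1 : b.left ≫ G0.hom = 𝟙 _ := Over.w b
  have h2 : b'.left ≫ G0.hom = 𝟙 _ := Over.w b'
  have h3 := ext_of_apply_closedPoint_eq G0.hom h1 h2 hbb
  exact Over.OverMorphism.ext h3

lemma range_pt : Set.range (pt k (G0 := G0)) = closedPoints ↥G0.left := by
  ext x
  constructor
  · rintro ⟨b, rfl⟩
    exact (pointEquivClosedPoint G0.hom ⟨b.left, Over.w b⟩).2
  · intro hx
    refine ⟨Over.homMk (pointOfClosedPoint G0.hom x hx) (by simp), ?_⟩
    exact pointOfClosedPoint_apply G0.hom x hx _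

theorem key [IsCommMonObj G0] [ConnectedSpace ↥G0.left] (n : ℕ)
    (h : 𝟙_ (Over (Spec (CommRingCat.of k))) ⟶ G0) :
    ∃ (r : ℕ) (d : 𝟙_ (Over (Spec (CommRingCat.of k))) ⟶ G0), d ^ (n ^ (r + 1)) = h ^ (n ^ r) := by
  haveI : IrreducibleSpace ↥G0.left := Groth.Agent.H9.GZB.S0348_main G0
  haveI : CompactSpace ↥G0.left := Groth.Agent.H9.GSD.S0349_main G0
  haveI : IsLocallyNoetherian G0.left := LocallyOfFiniteType.isLocallyNoetherian G0.hom
  haveI : IsNoetherian G0.left := (isNoetherian_iff G0.left).mpr ⟨inferInstance, inferInstance⟩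
  haveI : JacobsonSpace ↥G0.left := LocallyOfFiniteType.jacobsonSpace G0.hom
  have hlft : ∀ f : G0 ⟶ G0, LocallyOfFiniteType f.left := by
    intro f
    haveI : LocallyOfFiniteType (f.left ≫ G0.hom) := by
      rw [Over.w f]
      infer_instance
    exact locallyOfFiniteType_of_comp f.left G0.hom
  refine Groth.Agent.H4.TorA.exists_pow_eq_pow (pt k (G0 := G0)) (pt_injective k) (range_pt k) n
    (fun r => (pw G0 (n ^ r)).left.base) (fun r => (pw G0 (n ^ r)).left.continuous) ?_ ?_ ?_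
    (fun c => (th c).left.base) (fun c => (th c).left.continuous) ?_ ?_ ?_ h
  · intro r b
    rw [pow_eq_comp]
    rfl
  · intro r
    haveI := hlft (pw G0 (n ^ r))
    have h1 := (pw G0 (n ^ r)).left.isConstructible_image IsConstructible.univ
    rw [Set.image_univ] at h1
    exact h1
  · intro r
    rintro _ ⟨x, rfl⟩
    refine ⟨(pw G0 n).left.base x, ?_⟩
    have e : pw G0 (n ^ (r + 1)) = pw G0 n ≫ pw G0 (n ^ r) := by
      rw [← pow_eq_comp]
      unfold pw
      rw [← pow_mul, ← pow_succ']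
    rw [e]
    rfl
  · intro c b
    rw [← comp_th_pt]
    rfl
  · intro r c x
    have e := pw_th c (n ^ r)
    exact congrArg (fun f : G0 ⟶ G0 => f.left.base x) e
  · intro c x
    have e := th_th c
    exact congrArg (fun f : G0 ⟶ G0 => f.left.base x) e

end Sch

section Final

variable (k : Type u) [Field k] [IsAlgClosed k]
variable {G G0 : Over (Spec (CommRingCat.of k))} [GrpObj G] [GrpObj G0]

lemma connectedSpace_of_isIdComp (i : G0 ⟶ G) (hi : AutSch.IsIdComp i) :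
    ConnectedSpace ↥G0.left := by
  obtain ⟨_, hopen, hrange⟩ := (AutSch.isIdComp_iff_of_field i).mp hi
  have hemb : Topology.IsOpenEmbedding (i.left.base : ↥G0.left → ↥G.left) :=
    i.left.isOpenEmbedding
  have hpre : _root_.IsPreconnected (Set.univ : Set ↥G0.left) := by
    rw [← hemb.isInducing.isPreconnected_image, Set.image_univ, hrange]
    exact isPreconnected_connectedComponent
  exact { toPreconnectedSpace := ⟨hpre⟩
          toNonempty := ⟨η[G0].left.base (IsLocalRing.closedPoint k)⟩ }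

theorem exists_torsion [IsCommMonObj G] [LocallyOfFiniteType G.hom] (i : G0 ⟶ G) [IsMonHom i]
    (hi : AutSch.IsIdComp i)
    (g : 𝟙_ (Over (Spec (CommRingCat.of k))) ⟶ G) (n : ℕ) (hn : 0 < n)
    (hg : g ^ n ∈ AutSch.ptsRange i) :
    ∃ t : 𝟙_ (Over (Spec (CommRingCat.of k))) ⟶ G,
      IsOfFinOrder t ∧ t⁻¹ * g ∈ AutSch.ptsRange i := by
  haveI : ConnectedSpace ↥G0.left := connectedSpace_of_isIdComp k i hi
  obtain ⟨_, hopen, -⟩ := hi
  haveI := hopen
  haveI : Mono i := (Over.forget _).mono_of_mono_map (inferInstanceAs (Mono i.left))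
  haveI : IsCommMonObj G0 := isCommMonObj_of_mono i
  haveI : LocallyOfFiniteType G0.hom := by
    rw [← Over.w i]
    infer_instance
  obtain ⟨h, hh⟩ := (AutSch.mem_ptsRange_iff i _).mp hg
  obtain ⟨r, d, hd⟩ := key k n h
  refine ⟨g * (d ≫ i)⁻¹, ?_, ?_⟩
  · rw [isOfFinOrder_iff_pow_eq_one]
    refine ⟨n ^ (r + 1), pow_pos hn _, ?_⟩
    have e1 : g ^ (n ^ (r + 1)) = (h ^ (n ^ r)) ≫ i := by
      rw [MonObj.pow_comp, hh, ← pow_mul, ← pow_succ']
    have e2 : (d ≫ i) ^ (n ^ (r + 1)) = (h ^ (n ^ r)) ≫ i := by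
      rw [← MonObj.pow_comp, hd]
    rw [_root_.mul_pow, _root_.inv_pow, e1, e2, _root_.mul_inv_cancel]
  · rw [AutSch.mem_ptsRange_iff]
    refine ⟨d, ?_⟩
    rw [_root_.mul_inv_rev, _root_.inv_inv, _root_.inv_mul_cancel_right]

end Final

end Groth.Agent.H4.TorB
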