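import Mathlib
set_option autoImplicit false

namespace Groth.Agent.H4.TorFlat

open TensorProduct

/-- Lemma X: a right-exact piece `E₂ → E₁ → E₀ → F → 0` with `F` flat stays exact at `E₁`
after tensoring with any module. -/
theorem exact_lTensor_of_flat_coker {A : Type*} [CommRing A] {E₂ E₁ E₀ F : Type*}
    [AddCommGroup E₂] [AddCommGroup E₁] [AddCommGroup E₀] [AddCommGroup F]
    [Module A E₂] [Module A E₁] [Module A E₀] [Module A F] [Module.Flat A F]
    (d₂ : E₂ →ₗ[A] E₁) (d₁ : E₁ →ₗ[A] E₀) (ε : E₀ →ₗ[A] F)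
    (h₁ : Function.Exact d₂ d₁) (h₀ : Function.Exact d₁ ε) (hε : Function.Surjective ε)
    (N : Type*) [AddCommGroup N] [Module A N] :
    Function.Exact (d₂.lTensor N) (d₁.lTensor N) := by
  let Z := LinearMap.ker ε
  let d₁' : E₁ →ₗ[A] Z := d₁.codRestrict Z (fun x => (h₀ (d₁ x)).2 ⟨x, rfl⟩)
  have hd₁' : Function.Surjective d₁' := by
    rintro ⟨z, hz⟩
    obtain ⟨x, hx⟩ := (h₀ z).1 hz
    exact ⟨x, Subtype.ext hx⟩
  have hex' : Function.Exact d₂ d₁' := by
    intro x
    rw [← h₁ x]
    constructor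
    · intro h; exact congrArg Subtype.val h
    · intro h; exact Subtype.ext h
  have hex'' := lTensor_exact N hex' hd₁'
  have hinj : Function.Injective (Z.subtype.lTensor N) :=
    LinearMap.lTensor_injective_of_exact_of_flat ε hε Z.subtype Z.subtype_injective
      (LinearMap.exact_subtype_ker_map ε) N
  have hcomp : d₁.lTensor N = (Z.subtype.lTensor N) ∘ₗ (d₁'.lTensor N) := by
    rw [← LinearMap.lTensor_comp]
    rfl
  intro x
  rw [← hex'' x, hcomp, LinearMap.comp_apply]
  constructor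
  · intro h
    exact hinj (h.trans (map_zero _).symm)
  · intro h
    rw [h, map_zero]

/-- Lemma Y: if `N` is an `A`-module (`A` an `R`-algebra), `Q₂ → Q₁ → Q₀ → M → 0` right exact over `R`,
exact at `A ⊗ Q₁` after base change, and `A ⊗ M` is `A`-flat, then `N ⊗_R Q₂ → N ⊗_R Q₁ → N ⊗_R Q₀`
is exact. -/
theorem exact_lTensor_of_baseChange {R A : Type*} [CommRing R] [CommRing A] [Algebra R A]
    {Q₂ Q₁ Q₀ M : Type*}
    [AddCommGroup Q₂] [AddCommGroup Q₁] [AddCommGroup Q₀] [AddCommGroup M]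
    [Module R Q₂] [Module R Q₁] [Module R Q₀] [Module R M] [Module.Flat A (A ⊗[R] M)]
    (d₂ : Q₂ →ₗ[R] Q₁) (d₁ : Q₁ →ₗ[R] Q₀) (ε : Q₀ →ₗ[R] M)
    (h₁ : Function.Exact (d₂.lTensor A) (d₁.lTensor A)) (h₀ : Function.Exact d₁ ε)
    (hε : Function.Surjective ε)
    (N : Type*) [AddCommGroup N] [Module R N] [Module A N] [IsScalarTower R A N] :
    Function.Exact (d₂.lTensor N) (d₁.lTensor N) := by
  have hA := exact_lTensor_of_flat_coker (A := A) (d₂.baseChange A) (d₁.baseChange A) (ε.baseChange A)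
    (by
      intro x
      simpa only [LinearMap.baseChange_eq_ltensor] using h₁ x)
    (by
      have := lTensor_exact A h₀ hε
      intro x
      simpa only [LinearMap.baseChange_eq_ltensor] using this x)
    (by
      have := LinearMap.lTensor_surjective A hε
      intro y
      obtain ⟨x, hx⟩ := this y
      exact ⟨x, by simpa only [LinearMap.baseChange_eq_ltensor] using hx⟩) N
  -- transfer along cancelBaseChange
  let e₂ := AlgebraTensorModule.cancelBaseChange R A A N Q₂
  let e₁ := AlgebraTensorModule.cancelBaseChange R A A N Q₁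
  let e₀ := AlgebraTensorModule.cancelBaseChange R A A N Q₀
  have c₂ : ∀ x, d₂.lTensor N (e₂ x) = e₁ ((d₂.baseChange A).lTensor N x) := by
    intro x
    have := LinearMap.congr_fun (AlgebraTensorModule.lTensor_comp_cancelBaseChange R A A (M := N) d₂) x
    exact this
  have c₁ : ∀ x, d₁.lTensor N (e₁ x) = e₀ ((d₁.baseChange A).lTensor N x) := by
    intro x
    have := LinearMap.congr_fun (AlgebraTensorModule.lTensor_comp_cancelBaseChange R A A (M := N) d₁) x
    exact this
  intro y
  obtain ⟨x, rfl⟩ := e₁.surjective y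
  rw [c₁]
  constructor
  · intro h
    have h' : (d₁.baseChange A).lTensor N x = 0 := e₀.injective (h.trans (map_zero _).symm)
    obtain ⟨w, hw⟩ := (hA x).1 h'
    exact ⟨e₂ w, by rw [c₂, hw]⟩
  · rintro ⟨w, hw⟩
    obtain ⟨w', rfl⟩ := e₂.surjective w
    rw [c₂] at hw
    have := e₁.injective hw
    rw [← this, (hA _).2 ⟨w', rfl⟩, map_zero]

end Groth.Agent.H4.TorFlat
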