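import Mathlib
import Groth.Prelude.Def_DerCA
import Groth.Agent.H4.RelBC2
import Groth.Agent.H4.FlatFPPC

set_option autoImplicit false
universe u
open CategoryTheory CategoryTheory.Limits TensorProduct
attribute [local instance] HasDerivedCategory.standard
open DRing

namespace Groth.Agent.H4.TorInd1
open Groth.Agent.H4.PCHom Groth.Agent.H4.PC Groth.Agent.H4.RelPC DerivedCategory
open Groth.Agent.H4.LDer Groth.Agent.H4.BC Groth.Agent.H4.BCSq Groth.Agent.H4.PCDesc
open Groth.Agent.H4.FlatFam Groth.Agent.H4.TorAmp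

section FTD

variable (k k' R R' A A' : Type u) [CommRing k] [CommRing k'] [CommRing R] [CommRing R']
  [CommRing A] [CommRing A']
  [Algebra k k'] [Algebra k R] [Algebra k R'] [Algebra k' R'] [Algebra R R']
  [IsScalarTower k k' R'] [IsScalarTower k R R'] [Algebra.IsPushout k R k' R']
  [Algebra R A] [Algebra R' A'] [Algebra A A'] [Algebra R A']
  [IsScalarTower R R' A'] [IsScalarTower R A A'] [Algebra.IsPushout R R' A A']
  [Algebra k A] [IsScalarTower k R A] [Module.Flat k R] [Module.Flat k A]

include k k' in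
/-- Tor-independent base change of an algebra: the derived base change of `A` along `R → R'`
is `A'`, when `R` and `A` are flat over `k` and `R' = R ⊗_k k'`. -/
theorem nonempty_lbcAlgIso_torInd [DRing.HasLBaseChange (algebraMap R R')] :
    Nonempty ((DRing.LBaseChange (algebraMap R R')).obj (Dual.inD R A) ≅ Dual.inD R' A') := by
  obtain ⟨i⟩ := Groth.Agent.H4.TorIndBC.nonempty_LBC_single_iso (algebraMap R R')
    (ModuleCat.of R A) (Groth.Agent.H4.FlatFPPC.isZero_tor_of_isPushout k R k' R' A)
  refine ⟨i ≪≫ (singleFunctor (ModuleCat.{u} R') 0).mapIso ?_⟩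
  exact (ModuleCat.extendScalars.{u, u, u} (algebraMap R R')).mapIso
      (Groth.Agent.H4.RestrPC.ofIsoRestrict (A := R) (B := A)) ≪≫
    (tauIso R R' A A').app (ModuleCat.of A A) ≪≫
    (ModuleCat.restrictScalars.{u} (algebraMap R' A')).mapIso extSelfIso ≪≫
    (Groth.Agent.H4.RestrPC.ofIsoRestrict (A := R') (B := A')).symm

include k k' in
/-- Tor-independent base change of tor dimension of an algebra -/
theorem hasTorDimLE_of_torInd (n : ℕ) (h : DRing.HasTorDimLE R n A) :
    DRing.HasTorDimLE R' n A' := by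
  haveI : DRing.HasLBaseChange (algebraMap R R') := Groth.Agent.H4.KProj.hasLBaseChange _
  rw [(Groth.Agent.S6946.result R' A' n).1]
  rw [(Groth.Agent.S6946.result R A n).1] at h
  obtain ⟨e⟩ := nonempty_lbcAlgIso_torInd k k' R R' A A'
  exact hasTorAmp_of_iso e (Groth.Agent.S6948.result (algebraMap R R') _ _ _ h)

open MvPolynomial Groth.Agent.H4.RelBC1 in
include k k' in
attribute [local instance] MvPolynomial.algebraMvPolynomial in
/-- Tor-independent base change: the derived base change of `A` over `R[x]` is `A'` over `R'[x]` -/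
theorem nonempty_lbc_iso_torInd {n : ℕ} (α : MvPolynomial (Fin n) R →ₐ[R] A)
    (hα : Function.Surjective α)
    [DRing.HasLBaseChange (MvPolynomial.map (algebraMap R R') :
      MvPolynomial (Fin n) R →+* MvPolynomial (Fin n) R')] :
    Nonempty ((DRing.LBaseChange (MvPolynomial.map (algebraMap R R') :
        MvPolynomial (Fin n) R →+* MvPolynomial (Fin n) R')).obj
        ((DRing.restrictD (α : MvPolynomial (Fin n) R →+* A)).obj (Dual.inD A A)) ≅
      (DRing.restrictD (bcPres R' A' α : MvPolynomial (Fin n) R' →+* A')).obj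
        (Dual.inD A' A')) := by
  haveI hpoRA : Algebra.IsPushout R A R' A' := Algebra.IsPushout.symm inferInstance
  set ψ := bcPres R' A' α with hψdef
  have hψ : Function.Surjective ψ := bcPres_surjective R R' A A' α hα
  letI algPA : Algebra (MvPolynomial (Fin n) R) A := α.toRingHom.toAlgebra
  letI algP'A' : Algebra (MvPolynomial (Fin n) R') A' := ψ.toRingHom.toAlgebra
  letI algPA' : Algebra (MvPolynomial (Fin n) R) A' :=
    ((algebraMap A A').comp α.toRingHom).toAlgebra
  haveI t1 : IsScalarTower R (MvPolynomial (Fin n) R) A := IsScalarTower.of_algebraMap_eq (fun r => by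
    change algebraMap R A r = α (algebraMap R _ r)
    rw [α.commutes])
  haveI t2 : IsScalarTower (MvPolynomial (Fin n) R) A A' := IsScalarTower.of_algebraMap_eq (fun _ => rfl)
  have hcomp : (ψ.toRingHom).comp (MvPolynomial.map (algebraMap R R')) =
      (algebraMap A A').comp α.toRingHom := by
    apply MvPolynomial.ringHom_ext
    · intro r
      simp only [RingHom.comp_apply, MvPolynomial.map_C]
      change ψ (MvPolynomial.C (algebraMap R R' r)) = algebraMap A A' (α (MvPolynomial.C r))
      have h1 : ψ (MvPolynomial.C (algebraMap R R' r)) = algebraMap R' A' (algebraMap R R' r) := by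
        simp [ψ]
      have h2 : α (MvPolynomial.C r) = algebraMap R A r := by
        rw [← MvPolynomial.algebraMap_eq, α.commutes]
      rw [h1, h2, ← IsScalarTower.algebraMap_apply, ← IsScalarTower.algebraMap_apply]
    · intro i
      simp only [RingHom.comp_apply, MvPolynomial.map_X]
      change ψ (MvPolynomial.X i) = _
      simp [ψ]
  haveI t3 : IsScalarTower (MvPolynomial (Fin n) R) (MvPolynomial (Fin n) R') A' :=
    IsScalarTower.of_algebraMap_eq (fun p => (congr($hcomp p)).symm)
  haveI t4 : IsScalarTower R (MvPolynomial (Fin n) R') A' := IsScalarTower.of_algebraMap_eq (fun r => by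
    rw [IsScalarTower.algebraMap_apply R R' A', IsScalarTower.algebraMap_apply R R' (MvPolynomial (Fin n) R')]
    exact (ψ.commutes _).symm)
  haveI t5 : IsScalarTower R' (MvPolynomial (Fin n) R') A' := IsScalarTower.of_algebraMap_eq (fun r =>
    (ψ.commutes r).symm)
  have hpo : Algebra.IsPushout (MvPolynomial (Fin n) R) A (MvPolynomial (Fin n) R') A' :=
    (Algebra.IsPushout.comp_iff R (MvPolynomial (Fin n) R) R' (MvPolynomial (Fin n) R') (T := A) (T' := A')).1 inferInstance
  haveI hpo' : Algebra.IsPushout (MvPolynomial (Fin n) R) (MvPolynomial (Fin n) R') A A' := hpo.symm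
  -- structures over `k`
  haveI tk1 : IsScalarTower k (MvPolynomial (Fin n) R) (MvPolynomial (Fin n) R') :=
    IsScalarTower.of_algebraMap_eq (fun x => by
      rw [MvPolynomial.algebraMap_apply, MvPolynomial.algebraMap_apply, MvPolynomial.algebraMap_def,
        MvPolynomial.map_C, ← IsScalarTower.algebraMap_apply])
  haveI hpok : Algebra.IsPushout k (MvPolynomial (Fin n) R) k' (MvPolynomial (Fin n) R') :=
    (Algebra.IsPushout.comp_iff k R k' R' (T := MvPolynomial (Fin n) R)
      (T' := MvPolynomial (Fin n) R')).2 inferInstance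
  haveI : Module.Flat k (MvPolynomial (Fin n) R) := Module.Flat.trans k R (MvPolynomial (Fin n) R)
  haveI tk3 : IsScalarTower k (MvPolynomial (Fin n) R) A := IsScalarTower.of_algebraMap_eq (fun x => by
    change algebraMap k A x = α (algebraMap k _ x)
    rw [IsScalarTower.algebraMap_apply k R (MvPolynomial (Fin n) R), α.commutes,
      ← IsScalarTower.algebraMap_apply])
  have htor := Groth.Agent.H4.FlatFPPC.isZero_tor_of_isPushout k (MvPolynomial (Fin n) R) k'
    (MvPolynomial (Fin n) R') A
  have htor' : ∀ p : ℕ, 1 ≤ p → IsZero (((Tor (ModuleCat.{u} (MvPolynomial (Fin n) R)) p).obj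
      ((ModuleCat.restrictScalars.{u} (algebraMap (MvPolynomial (Fin n) R) A)).obj (ModuleCat.of A A))).obj
      ((ModuleCat.restrictScalars.{u} (algebraMap (MvPolynomial (Fin n) R) (MvPolynomial (Fin n) R'))).obj
        (ModuleCat.of (MvPolynomial (Fin n) R') (MvPolynomial (Fin n) R')))) := fun p hp =>
    (htor p hp).of_iso (((Tor (ModuleCat.{u} (MvPolynomial (Fin n) R)) p).mapIso
      (Groth.Agent.H4.RestrPC.ofIsoRestrict (A := MvPolynomial (Fin n) R) (B := A)).symm).app _)
  have e1 := (DRing.LBaseChange (MvPolynomial.map (algebraMap R R') :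
      MvPolynomial (Fin n) R →+* MvPolynomial (Fin n) R')).mapIso
    (restrictDSingle (algebraMap (MvPolynomial (Fin n) R) A) (ModuleCat.of A A))
  obtain ⟨e2⟩ := Groth.Agent.H4.TorIndBC.nonempty_LBC_single_iso (MvPolynomial.map (algebraMap R R') :
      MvPolynomial (Fin n) R →+* MvPolynomial (Fin n) R')
    ((ModuleCat.restrictScalars.{u} (algebraMap (MvPolynomial (Fin n) R) A)).obj (ModuleCat.of A A))
    htor'
  have e3 := (singleFunctor (ModuleCat.{u} (MvPolynomial (Fin n) R')) 0).mapIso
    ((tauIso (MvPolynomial (Fin n) R) (MvPolynomial (Fin n) R') A A').app (ModuleCat.of A A) ≪≫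
      (ModuleCat.restrictScalars.{u} (algebraMap (MvPolynomial (Fin n) R') A')).mapIso extSelfIso)
  have e4 := (restrictDSingle (algebraMap (MvPolynomial (Fin n) R') A') (ModuleCat.of A' A')).symm
  exact ⟨e1 ≪≫ e2 ≪≫ e3 ≪≫ e4⟩

open Groth.Agent.H4.RelBC1 in
include k k' in
/-- Tor-independent base change of relative pseudo-coherence of the algebra itself -/
theorem relPC_unit_of_torInd (j : ℤ)
    (h : DerCA.IsRelPseudoCoherent R A j (Dual.inD A A)) :
    DerCA.IsRelPseudoCoherent R' A' j (Dual.inD A' A') := by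
  haveI hpoRA : Algebra.IsPushout R A R' A' := Algebra.IsPushout.symm inferInstance
  obtain ⟨n, α, hα, hpc⟩ := h
  haveI : DRing.HasLBaseChange (MvPolynomial.map (algebraMap R R') :
      MvPolynomial (Fin n) R →+* MvPolynomial (Fin n) R') :=
    Groth.Agent.H4.KProj.hasLBaseChange _
  obtain ⟨e⟩ := nonempty_lbc_iso_torInd k k' R R' A A' α hα
  exact ⟨n, bcPres R' A' α, bcPres_surjective R R' A A' α hα,
    isPC_of_iso e (isPC_LBaseChange _ j _ hpc)⟩

end FTD

section Cat

/-- Tor-independent base change of tor dimension, for pushout squares of commutative rings -/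
theorem hasTorDimLE_torInd_cat {k k' R R' A A' : CommRingCat.{u}} (r : k ⟶ R) (a : R ⟶ A)
    (c : k ⟶ k') (r' : k' ⟶ R') (cr : R ⟶ R') (a' : R' ⟶ A') (ca : A ⟶ A')
    (po1 : IsPushout r c cr r') (po2 : IsPushout a cr ca a')
    (hR : r.hom.Flat) (hA : (r ≫ a).hom.Flat) (n : ℕ)
    (h : letI := a.hom.toAlgebra
      DRing.HasTorDimLE R n A) :
    letI := a'.hom.toAlgebra
    DRing.HasTorDimLE R' n A' := by
  letI : Algebra k k' := c.hom.toAlgebra
  letI : Algebra k R := r.hom.toAlgebra
  letI : Algebra k' R' := r'.hom.toAlgebra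
  letI : Algebra R R' := cr.hom.toAlgebra
  letI : Algebra k R' := (cr.hom.comp r.hom).toAlgebra
  haveI : IsScalarTower k R R' := .of_algebraMap_eq' rfl
  haveI : IsScalarTower k k' R' := .of_algebraMap_eq' (congr($(po1.1.1).hom))
  haveI : Algebra.IsPushout k R k' R' := CommRingCat.isPushout_iff_isPushout.mp po1
  letI : Algebra R A := a.hom.toAlgebra
  letI : Algebra R' A' := a'.hom.toAlgebra
  letI : Algebra A A' := ca.hom.toAlgebra
  letI : Algebra R A' := (ca.hom.comp a.hom).toAlgebra
  haveI : IsScalarTower R A A' := .of_algebraMap_eq' rfl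
  haveI : IsScalarTower R R' A' := .of_algebraMap_eq' (congr($(po2.1.1).hom))
  haveI : Algebra.IsPushout R A R' A' := CommRingCat.isPushout_iff_isPushout.mp po2
  haveI : Algebra.IsPushout R R' A A' := Algebra.IsPushout.symm inferInstance
  letI : Algebra k A := (a.hom.comp r.hom).toAlgebra
  haveI : IsScalarTower k R A := .of_algebraMap_eq' rfl
  haveI : Module.Flat k R := RingHom.flat_algebraMap_iff.mp hR
  haveI : Module.Flat k A := RingHom.flat_algebraMap_iff.mp hA
  exact hasTorDimLE_of_torInd k k' R R' A A' n h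

/-- Tor-independent base change of relative pseudo-coherence, for pushout squares of commutative
rings -/
theorem relPC_torInd_cat {k k' R R' A A' : CommRingCat.{u}} (r : k ⟶ R) (a : R ⟶ A)
    (c : k ⟶ k') (r' : k' ⟶ R') (cr : R ⟶ R') (a' : R' ⟶ A') (ca : A ⟶ A')
    (po1 : IsPushout r c cr r') (po2 : IsPushout a cr ca a')
    (hR : r.hom.Flat) (hA : (r ≫ a).hom.Flat) (j : ℤ)
    (h : letI := a.hom.toAlgebra
      DerCA.IsRelPseudoCoherent R A j (Dual.inD A A)) :
    letI := a'.hom.toAlgebra
    DerCA.IsRelPseudoCoherent R' A' j (Dual.inD A' A') := by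
  letI : Algebra k k' := c.hom.toAlgebra
  letI : Algebra k R := r.hom.toAlgebra
  letI : Algebra k' R' := r'.hom.toAlgebra
  letI : Algebra R R' := cr.hom.toAlgebra
  letI : Algebra k R' := (cr.hom.comp r.hom).toAlgebra
  haveI : IsScalarTower k R R' := .of_algebraMap_eq' rfl
  haveI : IsScalarTower k k' R' := .of_algebraMap_eq' (congr($(po1.1.1).hom))
  haveI : Algebra.IsPushout k R k' R' := CommRingCat.isPushout_iff_isPushout.mp po1
  letI : Algebra R A := a.hom.toAlgebra
  letI : Algebra R' A' := a'.hom.toAlgebra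
  letI : Algebra A A' := ca.hom.toAlgebra
  letI : Algebra R A' := (ca.hom.comp a.hom).toAlgebra
  haveI : IsScalarTower R A A' := .of_algebraMap_eq' rfl
  haveI : IsScalarTower R R' A' := .of_algebraMap_eq' (congr($(po2.1.1).hom))
  haveI : Algebra.IsPushout R A R' A' := CommRingCat.isPushout_iff_isPushout.mp po2
  haveI : Algebra.IsPushout R R' A A' := Algebra.IsPushout.symm inferInstance
  letI : Algebra k A := (a.hom.comp r.hom).toAlgebra
  haveI : IsScalarTower k R A := .of_algebraMap_eq' rfl
  haveI : Module.Flat k R := RingHom.flat_algebraMap_iff.mp hR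
  haveI : Module.Flat k A := RingHom.flat_algebraMap_iff.mp hA
  exact relPC_unit_of_torInd k k' R R' A A' j h

end Cat

end Groth.Agent.H4.TorInd1
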