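import Mathlib
import Groth.Prelude.Def_DerSch2
import Groth.Prelude.Def_MoreMor
import Groth.Agent.H4.PMor5
import Groth.Agent.H4.TorInd1

set_option autoImplicit false
universe u
attribute [local instance] HasDerivedCategory.standard
open CategoryTheory CategoryTheory.Limits AlgebraicGeometry DerivedCategory Opposite TopologicalSpace
open Groth.Agent.H4.PC Groth.Agent.H4.RelPC Groth.Agent.H4.PCHom Groth.Agent.H4.PMor2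
open Groth.Agent.H4.TorAmp Groth.Agent.H4.RelTor7 Groth.Agent.H4.RelTor8 Groth.Agent.H4.RelTor9
open Groth.Agent.H4.LDS15 Groth.Agent.H4.PMor4 Groth.Agent.H4.PMor5 Groth.Agent.H4.RPC28
open Groth.Agent.LD.QC
open DRing

namespace Groth.Agent.H4.TorInd2

section Fact

variable {S X₁ Y₁ X₂ Y₂ X Y : Scheme.{u}} (f₁ : X₁ ⟶ Y₁) (q₁ : Y₁ ⟶ S) (f₂ : X₂ ⟶ Y₂) (q₂ : Y₂ ⟶ S)
  (pX₁ : X ⟶ X₁) (pX₂ : X ⟶ X₂) (hX : IsPullback pX₁ pX₂ (f₁ ≫ q₁) (f₂ ≫ q₂))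
  (pY₁ : Y ⟶ Y₁) (pY₂ : Y ⟶ Y₂) (hY : IsPullback pY₁ pY₂ q₁ q₂)
  (f : X ⟶ Y) (hf₁ : f ≫ pY₁ = pX₁ ≫ f₁) (hf₂ : f ≫ pY₂ = pX₂ ≫ f₂)

include hX hY hf₁ hf₂ in
/-- `f₁ ×_S f₂` factors as a base change of `f₁` followed by a base change of `f₂` -/
theorem exists_factorization :
    ∃ (Z : Scheme.{u}) (zY₁ : Z ⟶ Y₁) (zX₂ : Z ⟶ X₂) (g₁ : X ⟶ Z) (g₂ : Z ⟶ Y),
      g₁ ≫ g₂ = f ∧ IsPullback zY₁ zX₂ q₁ (f₂ ≫ q₂) ∧ IsPullback pX₁ g₁ f₁ zY₁ ∧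
        IsPullback zX₂ g₂ f₂ pY₂ := by
  let Z := pullback q₁ (f₂ ≫ q₂)
  let zY₁ : Z ⟶ Y₁ := pullback.fst _ _
  let zX₂ : Z ⟶ X₂ := pullback.snd _ _
  have hZ : IsPullback zY₁ zX₂ q₁ (f₂ ≫ q₂) := IsPullback.of_hasPullback _ _
  have w1 : (pX₁ ≫ f₁) ≫ q₁ = pX₂ ≫ (f₂ ≫ q₂) := by simpa using hX.w
  let g₁ : X ⟶ Z := hZ.lift (pX₁ ≫ f₁) pX₂ w1
  have w2 : zY₁ ≫ q₁ = (zX₂ ≫ f₂) ≫ q₂ := by simpa using hZ.w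
  let g₂ : Z ⟶ Y := hY.lift zY₁ (zX₂ ≫ f₂) w2
  have hg₁1 : g₁ ≫ zY₁ = pX₁ ≫ f₁ := hZ.lift_fst _ _ _
  have hg₁2 : g₁ ≫ zX₂ = pX₂ := hZ.lift_snd _ _ _
  have hg₂1 : g₂ ≫ pY₁ = zY₁ := hY.lift_fst _ _ _
  have hg₂2 : g₂ ≫ pY₂ = zX₂ ≫ f₂ := hY.lift_snd _ _ _
  refine ⟨Z, zY₁, zX₂, g₁, g₂, ?_, hZ, ?_, ?_⟩
  · apply hY.hom_ext
    · rw [Category.assoc, hg₂1, hg₁1, hf₁]
    · rw [Category.assoc, hg₂2, ← Category.assoc, hg₁2, hf₂]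
  · refine IsPullback.of_bot ?_ hg₁1.symm hZ
    rw [hg₁2]; exact hX
  · refine IsPullback.of_bot ?_ hg₂2.symm hY.flip
    rw [hg₂1]; exact hZ.flip

end Fact

section BC

variable {X S X' S' : Scheme.{u}} (f : X ⟶ S) (f' : X' ⟶ S') (g' : X' ⟶ X) (g : S' ⟶ S)

/-- flat base change of tor dimension of a morphism -/
theorem hasTorDimLE_baseChange [Flat g] (hc : IsPullback g' f' f g) (n : ℕ)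
    (hf : DerSch.HasTorDimLE f n) : DerSch.HasTorDimLE f' n := by
  intro x'
  obtain ⟨U, V, hU, hV, hxU, hUV⟩ := exists_affine_nhds_le_preimage f (g'.base x')
  have hx1 : f'.base x' ∈ g ⁻¹ᵁ V := by
    change g.base (f'.base x') ∈ V
    have e : g.base (f'.base x') = f.base (g'.base x') := by
      rw [← Scheme.Hom.comp_apply, ← Scheme.Hom.comp_apply, hc.w]
    rw [e]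
    exact hUV hxU
  obtain ⟨V', hV', hxV', hV'V⟩ :=
    exists_isAffineOpen_mem_and_subset (x := f'.base x') (U := g ⁻¹ᵁ V) hx1
  have hU' := isAffineOpen_inf_of_isPullback f f' g' g hc hV'V hUV hV hV' hU
  refine (torDimLE_iff f' hU' hV' inf_le_right n).1 ?_ x' ⟨hxU, hxV'⟩
  exact hasTorDimLE_baseChange_cat (f.appLE V U hUV) (g.appLE V V' hV'V)
    (f'.appLE V' _ inf_le_right) (g'.appLE U _ inf_le_left)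
    ((isIso_pushoutSection_iff hc hV'V hUV rfl).1
      (isIso_pushoutSection_of_isAffineOpen hc hV'V hUV rfl hV hV' hU))
    (Flat.flat_appLE g hV hV' hV'V) n ((torDimLE_iff f hU hV hUV n).2 (fun x _ => hf x))

end BC

section TI

variable {X₂ Y₂ T Y₁ Y Z : Scheme.{u}} (f₂ : X₂ ⟶ Y₂) (q₂ : Y₂ ⟶ T) (q₁ : Y₁ ⟶ T)
  (pY₁ : Y ⟶ Y₁) (pY₂ : Y ⟶ Y₂) (hY : IsPullback pY₁ pY₂ q₁ q₂) (zX₂ : Z ⟶ X₂) (g₂ : Z ⟶ Y)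
  (hZ : IsPullback zX₂ g₂ f₂ pY₂)

include hY hZ in
/-- affine charts adapted to a Tor-independent base change -/
theorem exists_torInd_chart (z : Z) :
    ∃ (W : T.Opens) (V₂ : Y₂.Opens) (U₂ : X₂.Opens) (V₁ : Y₁.Opens) (hV₂W : V₂ ≤ q₂ ⁻¹ᵁ W)
      (hU₂V₂ : U₂ ≤ f₂ ⁻¹ᵁ V₂) (hV₁W : V₁ ≤ q₁ ⁻¹ᵁ W),
      IsAffineOpen W ∧ IsAffineOpen V₂ ∧ IsAffineOpen U₂ ∧ IsAffineOpen V₁ ∧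
      IsAffineOpen (pY₁ ⁻¹ᵁ V₁ ⊓ pY₂ ⁻¹ᵁ V₂) ∧
      IsAffineOpen (zX₂ ⁻¹ᵁ U₂ ⊓ g₂ ⁻¹ᵁ (pY₁ ⁻¹ᵁ V₁ ⊓ pY₂ ⁻¹ᵁ V₂)) ∧
      z ∈ zX₂ ⁻¹ᵁ U₂ ⊓ g₂ ⁻¹ᵁ (pY₁ ⁻¹ᵁ V₁ ⊓ pY₂ ⁻¹ᵁ V₂) ∧
      IsPushout (q₂.appLE W V₂ hV₂W) (q₁.appLE W V₁ hV₁W)
        (pY₂.appLE V₂ (pY₁ ⁻¹ᵁ V₁ ⊓ pY₂ ⁻¹ᵁ V₂) inf_le_right)
        (pY₁.appLE V₁ (pY₁ ⁻¹ᵁ V₁ ⊓ pY₂ ⁻¹ᵁ V₂) inf_le_left) ∧
      IsPushout (f₂.appLE V₂ U₂ hU₂V₂)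
        (pY₂.appLE V₂ (pY₁ ⁻¹ᵁ V₁ ⊓ pY₂ ⁻¹ᵁ V₂) inf_le_right)
        (zX₂.appLE U₂ (zX₂ ⁻¹ᵁ U₂ ⊓ g₂ ⁻¹ᵁ (pY₁ ⁻¹ᵁ V₁ ⊓ pY₂ ⁻¹ᵁ V₂)) inf_le_left)
        (g₂.appLE (pY₁ ⁻¹ᵁ V₁ ⊓ pY₂ ⁻¹ᵁ V₂) (zX₂ ⁻¹ᵁ U₂ ⊓ g₂ ⁻¹ᵁ (pY₁ ⁻¹ᵁ V₁ ⊓ pY₂ ⁻¹ᵁ V₂))
          inf_le_right) := by
  obtain ⟨W, hW, hzW, -⟩ := exists_isAffineOpen_mem_and_subset
    (x := q₂.base (f₂.base (zX₂.base z))) (U := ⊤) trivial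
  obtain ⟨V₂, hV₂, hzV₂, hV₂W⟩ := exists_isAffineOpen_mem_and_subset
    (x := f₂.base (zX₂.base z)) (U := q₂ ⁻¹ᵁ W) hzW
  obtain ⟨U₂, hU₂, hzU₂, hU₂V₂⟩ := exists_isAffineOpen_mem_and_subset
    (x := zX₂.base z) (U := f₂ ⁻¹ᵁ V₂) hzV₂
  have e1 : pY₂.base (g₂.base z) = f₂.base (zX₂.base z) := by
    rw [← Scheme.Hom.comp_apply, ← Scheme.Hom.comp_apply, hZ.w]
  have e2 : q₁.base (pY₁.base (g₂.base z)) = q₂.base (pY₂.base (g₂.base z)) := by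
    have h1 : (pY₁ ≫ q₁).base (g₂.base z) = (pY₂ ≫ q₂).base (g₂.base z) := by rw [hY.w]
    exact h1
  have hz1 : pY₁.base (g₂.base z) ∈ q₁ ⁻¹ᵁ W := by
    change q₁.base (pY₁.base (g₂.base z)) ∈ W
    rw [e2, e1]; exact hzW
  obtain ⟨V₁, hV₁, hzV₁, hV₁W⟩ := exists_isAffineOpen_mem_and_subset
    (x := pY₁.base (g₂.base z)) (U := q₁ ⁻¹ᵁ W) hz1
  have hV : IsAffineOpen (pY₁ ⁻¹ᵁ V₁ ⊓ pY₂ ⁻¹ᵁ V₂) :=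
    isAffineOpen_inf_of_isPullback q₁ pY₂ pY₁ q₂ hY hV₂W hV₁W hW hV₂ hV₁
  have po1 := (isIso_pushoutSection_iff hY hV₂W hV₁W rfl).1
    (isIso_pushoutSection_of_isAffineOpen hY hV₂W hV₁W rfl hW hV₂ hV₁)
  have hVV₂ : pY₁ ⁻¹ᵁ V₁ ⊓ pY₂ ⁻¹ᵁ V₂ ≤ pY₂ ⁻¹ᵁ V₂ := inf_le_right
  have hU : IsAffineOpen (zX₂ ⁻¹ᵁ U₂ ⊓ g₂ ⁻¹ᵁ (pY₁ ⁻¹ᵁ V₁ ⊓ pY₂ ⁻¹ᵁ V₂)) :=
    isAffineOpen_inf_of_isPullback f₂ g₂ zX₂ pY₂ hZ hVV₂ hU₂V₂ hV₂ hV hU₂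
  have po2 := (isIso_pushoutSection_iff hZ hVV₂ hU₂V₂ rfl).1
    (isIso_pushoutSection_of_isAffineOpen hZ hVV₂ hU₂V₂ rfl hV₂ hV hU₂)
  refine ⟨W, V₂, U₂, V₁, hV₂W, hU₂V₂, hV₁W, hW, hV₂, hU₂, hV₁, hV, hU, ⟨hzU₂, hzV₁, ?_⟩,
    po1.flip, po2⟩
  change pY₂.base (g₂.base z) ∈ V₂
  rw [e1]; exact hzV₂

include hY hZ in
/-- Tor-independent base change of tor dimension of a morphism: `f₂ : X₂ ⟶ Y₂` with `X₂`, `Y₂` flat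
over `T`, base changed along `Y₁ ×_T Y₂ ⟶ Y₂`. -/
theorem hasTorDimLE_baseChange_torInd [Flat q₂] [Flat (f₂ ≫ q₂)] (n : ℕ)
    (h : DerSch.HasTorDimLE f₂ n) : DerSch.HasTorDimLE g₂ n := by
  intro z
  obtain ⟨W, V₂, U₂, V₁, hV₂W, hU₂V₂, hV₁W, hW, hV₂, hU₂, hV₁, hV, hU, hz, po1, po2⟩ :=
    exists_torInd_chart f₂ q₂ q₁ pY₁ pY₂ hY zX₂ g₂ hZ z
  refine (torDimLE_iff g₂ hU hV inf_le_right n).1 ?_ z hz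
  refine Groth.Agent.H4.TorInd1.hasTorDimLE_torInd_cat _ _ _ _ _ _ _ po1 po2
    (Flat.flat_appLE q₂ hW hV₂ hV₂W) ?_ n ((torDimLE_iff f₂ hU₂ hV₂ hU₂V₂ n).2 (fun x _ => h x))
  rw [Scheme.Hom.appLE_comp_appLE]
  exact Flat.flat_appLE (f₂ ≫ q₂) hW hU₂ _

end TI

section Main

variable {S X₁ Y₁ X₂ Y₂ X Y : Scheme.{u}}

theorem S6242 (f₁ : X₁ ⟶ Y₁) (q₁ : Y₁ ⟶ S)
    (f₂ : X₂ ⟶ Y₂) (q₂ : Y₂ ⟶ S) [Flat q₂] [Flat (f₂ ≫ q₂)]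
    (pX₁ : X ⟶ X₁) (pX₂ : X ⟶ X₂) (hX : IsPullback pX₁ pX₂ (f₁ ≫ q₁) (f₂ ≫ q₂))
    (pY₁ : Y ⟶ Y₁) (pY₂ : Y ⟶ Y₂) (hY : IsPullback pY₁ pY₂ q₁ q₂)
    (f : X ⟶ Y) (hf₁ : f ≫ pY₁ = pX₁ ≫ f₁) (hf₂ : f ≫ pY₂ = pX₂ ≫ f₂)
    (n₁ n₂ : ℕ) (h₁ : DerSch.HasTorDimLE f₁ n₁) (h₂ : DerSch.HasTorDimLE f₂ n₂) :
    DerSch.HasTorDimLE f (n₁ + n₂) := by
  obtain ⟨Z, zY₁, zX₂, g₁, g₂, hfac, hZ, hsq1, hsq2⟩ :=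
    exists_factorization f₁ q₁ f₂ q₂ pX₁ pX₂ hX pY₁ pY₂ hY f hf₁ hf₂
  haveI : Flat zY₁ := MorphismProperty.of_isPullback hZ.flip inferInstance
  have h1 : DerSch.HasTorDimLE g₁ n₁ := hasTorDimLE_baseChange f₁ g₁ pX₁ zY₁ hsq1 n₁ h₁
  have h2 : DerSch.HasTorDimLE g₂ n₂ :=
    hasTorDimLE_baseChange_torInd f₂ q₂ q₁ pY₁ pY₂ hY zX₂ g₂ hsq2 n₂ h₂
  intro x
  have h := hasTorAmplitudeAt_comp g₁ g₂ n₂ (DerSch.unitCx X) (-(n₁ : ℤ)) 0 x (h2 _) (h1 x)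
  rw [show -(n₁ : ℤ) - (n₂ : ℤ) = -((n₁ + n₂ : ℕ) : ℤ) by push_cast; ring] at h
  subst hfac
  exact h

end Main

end Groth.Agent.H4.TorInd2
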