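import Mathlib
import Groth.Prelude.Def_DerSch2
import Groth.Prelude.Def_MoreMor
import Groth.Agent.H4.TorInd2

set_option autoImplicit false
universe u
attribute [local instance] HasDerivedCategory.standard
open CategoryTheory CategoryTheory.Limits AlgebraicGeometry DerivedCategory Opposite TopologicalSpace
open Groth.Agent.H4.PC Groth.Agent.H4.RelPC Groth.Agent.H4.PCHom Groth.Agent.H4.PMor2
open Groth.Agent.H4.TorAmp Groth.Agent.H4.RelTor7 Groth.Agent.H4.RelTor8 Groth.Agent.H4.RelTor9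
open Groth.Agent.H4.LDS15 Groth.Agent.H4.PMor4 Groth.Agent.H4.PMor5 Groth.Agent.H4.RPC28
open Groth.Agent.H4.TorInd2
open Groth.Agent.LD.QC
open DRing

namespace Groth.Agent.H4.TorInd3

section TI

variable {X₂ Y₂ T Y₁ Y Z : Scheme.{u}} (f₂ : X₂ ⟶ Y₂) (q₂ : Y₂ ⟶ T) (q₁ : Y₁ ⟶ T)
  (pY₁ : Y ⟶ Y₁) (pY₂ : Y ⟶ Y₂) (hY : IsPullback pY₁ pY₂ q₁ q₂) (zX₂ : Z ⟶ X₂) (g₂ : Z ⟶ Y)
  (hZ : IsPullback zX₂ g₂ f₂ pY₂)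

include hY hZ in
/-- Tor-independent base change of `n`-pseudo-coherent morphisms: `f₂ : X₂ ⟶ Y₂` with `X₂`, `Y₂`
flat over `T`, base changed along `Y₁ ×_T Y₂ ⟶ Y₂`. -/
theorem isNPC_baseChange_torInd [Flat q₂] [Flat (f₂ ≫ q₂)] [LocallyOfFiniteType f₂]
    [LocallyOfFiniteType g₂] (j : ℤ)
    (h : DerSch.IsNPseudoCoherent f₂ j) : DerSch.IsNPseudoCoherent g₂ j := by
  refine isNPC_of_local g₂ j (fun z => ?_)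
  obtain ⟨W, V₂, U₂, V₁, hV₂W, hU₂V₂, hV₁W, hW, hV₂, hU₂, hV₁, hV, hU, hz, po1, po2⟩ :=
    exists_torInd_chart f₂ q₂ q₁ pY₁ pY₂ hY zX₂ g₂ hZ z
  refine ⟨_, _, inf_le_right, hU, hV, hz, ?_⟩
  refine Groth.Agent.H4.TorInd1.relPC_torInd_cat _ _ _ _ _ _ _ po1 po2
    (Flat.flat_appLE q₂ hW hV₂ hV₂W) ?_ j ((isNPC_iff_forall f₂ j).1 h U₂ V₂ hU₂V₂ hU₂ hV₂)
  rw [Scheme.Hom.appLE_comp_appLE]
  exact Flat.flat_appLE (f₂ ≫ q₂) hW hU₂ _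

end TI

section Main

variable {S X₁ Y₁ X₂ Y₂ X Y : Scheme.{u}}

theorem S6260 (f₁ : X₁ ⟶ Y₁) (q₁ : Y₁ ⟶ S)
    (f₂ : X₂ ⟶ Y₂) (q₂ : Y₂ ⟶ S) [Flat q₂] [Flat (f₂ ≫ q₂)]
    (pX₁ : X ⟶ X₁) (pX₂ : X ⟶ X₂) (hX : IsPullback pX₁ pX₂ (f₁ ≫ q₁) (f₂ ≫ q₂))
    (pY₁ : Y ⟶ Y₁) (pY₂ : Y ⟶ Y₂) (hY : IsPullback pY₁ pY₂ q₁ q₂)
    (f : X ⟶ Y) (hf₁ : f ≫ pY₁ = pX₁ ≫ f₁) (hf₂ : f ≫ pY₂ = pX₂ ≫ f₂)
    [LocallyOfFiniteType f₁] [LocallyOfFiniteType f₂]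
    (h₁ : ∀ n : ℤ, DerSch.IsNPseudoCoherent f₁ n) (h₂ : ∀ n : ℤ, DerSch.IsNPseudoCoherent f₂ n)
    (n : ℤ) : DerSch.IsNPseudoCoherent f n := by
  obtain ⟨Z, zY₁, zX₂, g₁, g₂, hfac, hZ, hsq1, hsq2⟩ :=
    exists_factorization f₁ q₁ f₂ q₂ pX₁ pX₂ hX pY₁ pY₂ hY f hf₁ hf₂
  haveI : Flat zY₁ := MorphismProperty.of_isPullback hZ.flip inferInstance
  haveI : LocallyOfFiniteType g₁ := MorphismProperty.of_isPullback hsq1 inferInstance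
  haveI : LocallyOfFiniteType g₂ := MorphismProperty.of_isPullback hsq2 inferInstance
  have h1 : ∀ n, DerSch.IsNPseudoCoherent g₁ n := fun n =>
    isNPC_baseChange f₁ g₁ pX₁ zY₁ hsq1 n (h₁ n)
  have h2 : ∀ n, DerSch.IsNPseudoCoherent g₂ n := fun n =>
    isNPC_baseChange_torInd f₂ q₂ q₁ pY₁ pY₂ hY zX₂ g₂ hsq2 n (h₂ n)
  have hc := S1504 g₁ g₂ ((isPseudoCoherentMor_iff g₁).2 ⟨inferInstance, h1⟩)
    ((isPseudoCoherentMor_iff g₂).2 ⟨inferInstance, h2⟩)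
  subst hfac
  exact ((isPseudoCoherentMor_iff _).1 hc).2 n

end Main

end Groth.Agent.H4.TorInd3
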