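import Mathlib
import Groth.Prelude
import Groth.Agent.Lib.Helper1.TorKos2
import Groth.Agent.Lib.Helper2.TorBalLES
import Groth.Agent.Lib.Helper2.TorBalLin
import Groth.Agent.Lib.Helper2.TorBalApps
import Groth.Agent.H4.KE3
import Groth.Agent.H4.KosLow
import Groth.Agent.H4.KosTorPow

set_option autoImplicit false
universe u
attribute [local instance] HasDerivedCategory.standard
open CategoryTheory CategoryTheory.Limits CochainComplex MonoidalCategory

namespace Groth.Agent.H4.TorKosz1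

open CohIII Groth.Agent.H2.Kos Groth.Agent.H2.TorBal Groth.Agent.Lib.Helper1.TorKos
  Groth.Agent.H4.KosTorPow

variable {A : Type u} [CommRing A]

/-! ### A. Tor against the quotient by a Koszul-regular sequence is Koszul homology -/

theorem nonempty_tor_koszul (l : List A) (hl : LCI.IsKoszulRegularSeq A l) (N : ModuleCat.{u} A)
    (m : ℕ) :
    Nonempty (torObj (m + 1) (ModuleCat.of A (A ⧸ Ideal.span {x | x ∈ l})) N ≅
      (koszulCx N l).homology (-((m + 1 : ℕ) : ℤ))) := by
  obtain ⟨P, hP⟩ := exists_projRes' l (toChain_exactAt_succ' l hl)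
  have hI2 : (Ideal.ofList l • (⊤ : Submodule A A)) = Ideal.span {x | x ∈ l} := by
    rw [smul_eq_mul, Ideal.mul_top]
  let e0 : ModuleCat.of A (A ⧸ Ideal.span {x | x ∈ l}) ≅
      ModuleCat.of A (A ⧸ (Ideal.ofList l • (⊤ : Submodule A A))) :=
    (Submodule.quotEquivOfEq _ _ hI2.symm).toModuleIso
  let e1 := ((Tor (ModuleCat.{u} A) (m + 1)).mapIso e0).app N
  obtain ⟨e2⟩ := nonempty_tor_iso _ N P (m + 1)
  rw [hP] at e2
  let e3 := (HomologicalComplex.homologyFunctor _ _ (m + 1)).mapIso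
    (toChainMapIso (tensorRight N) (koszulCx (ModuleCat.of A A) l))
  let e4 := toChainHomologyIso (((tensorRight N).mapHomologicalComplex
    (ComplexShape.up ℤ)).obj (koszulCx (ModuleCat.of A A) l)) m
  have e5 : (((tensorRight N).mapHomologicalComplex
      (ComplexShape.up ℤ)).obj (koszulCx (ModuleCat.of A A) l)).homology (-((m + 1 : ℕ) : ℤ)) ≅
      (koszulCx N l).homology (-((m + 1 : ℕ) : ℤ)) := by
    rw [← koszul_eq]
    exact (HomologicalComplex.homologyFunctor (ModuleCat.{u} A) (ComplexShape.up ℤ)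
      (-((m + 1 : ℕ) : ℤ))).mapIso (Groth.Agent.H4.KE3.bridge N l)
  exact ⟨e1 ≪≫ e2 ≪≫ e3 ≪≫ e4 ≪≫ e5⟩

/-! ### B. elements killing `M` act by zero on the Koszul complex -/

lemma smul_id_eq_zero_of_iso {X M : ModuleCat.{u} A} (e : X ≅ M) (a : A)
    (h : ∀ x : M, a • x = 0) : a • 𝟙 X = 0 := by
  refine ModuleCat.hom_ext (LinearMap.ext fun x => ?_)
  have h1 : e.inv.hom (e.hom.hom x) = x := congrArg (fun φ => φ.hom x) e.hom_inv_id
  show a • x = 0
  rw [← h1, ← _root_.map_smul, h, _root_.map_zero]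

lemma smul_comp_eq_zero {X Y : ModuleCat.{u} A} (a : A) (g : X ⟶ Y) (h : a • 𝟙 X = 0) :
    a • g = 0 := by
  have : a • g = (a • 𝟙 X) ≫ g := by rw [Linear.smul_comp, Category.id_comp]
  rw [this, h, Limits.zero_comp]

lemma smul_id_koszulCx_eq_zero (M : ModuleCat.{u} A) (a : A) (h : ∀ x : M, a • x = 0)
    (l : List A) : a • 𝟙 (koszulCx M l) = 0 := by
  induction l with
  | nil =>
    change a • 𝟙 ((HomologicalComplex.single (ModuleCat.{u} A) (ComplexShape.up ℤ) 0).obj M) = 0
    apply HomologicalComplex.from_single_hom_ext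
    rw [HomologicalComplex.smul_f_apply, HomologicalComplex.id_f, HomologicalComplex.zero_f]
    exact smul_id_eq_zero_of_iso (HomologicalComplex.singleObjXSelf (ComplexShape.up ℤ) 0 M) a h
  | cons b l ih =>
    have hq : ∀ q, a • 𝟙 ((koszulCx M l).X q) = 0 := fun q => by
      have := congrArg (fun ψ => ψ.f q) ih
      simpa [HomologicalComplex.smul_f_apply] using this
    change a • 𝟙 (mappingCone (b • 𝟙 (koszulCx M l))) = 0
    apply HomologicalComplex.hom_ext
    intro n
    rw [HomologicalComplex.smul_f_apply, HomologicalComplex.id_f, HomologicalComplex.zero_f,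
      ← mappingCone.id_X (b • 𝟙 (koszulCx M l)) n (n + 1) rfl, smul_add, ← Linear.comp_smul,
      ← Linear.comp_smul, smul_comp_eq_zero a _ (hq _), smul_comp_eq_zero a _ (hq _),
      Limits.comp_zero, Limits.comp_zero, add_zero]

/-! ### C. the cone of the zero map -/

lemma nonempty_homology_cone_zero (Z : CochainComplex (ModuleCat.{u} A) ℤ) (φ : Z ⟶ Z)
    (hφ : φ = 0) (k : ℤ) :
    Nonempty ((mappingCone φ).homology k ≃ₗ[A] (Z.homology k × Z.homology (k + 1))) := by
  have hT := DerivedCategory.mappingCone_triangle_distinguished φ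
  have hT' := Pretriangulated.rot_of_distTriang _ hT
  have hz : (DerivedCategory.Q.mapTriangle.obj (mappingCone.triangle φ)).rotate.mor₃ = 0 := by
    subst hφ
    change -(CategoryTheory.shiftFunctor (DerivedCategory (ModuleCat.{u} A)) (1 : ℤ)).map
      (DerivedCategory.Q.map 0) = 0
    rw [Functor.map_zero, Functor.map_zero, neg_zero]
  obtain ⟨e, -, -⟩ := Pretriangulated.exists_iso_binaryBiproduct_of_distTriang _ hT' hz
  let QZ := DerivedCategory.Q.obj Z
  have e' : DerivedCategory.Q.obj (mappingCone φ) ≅ QZ ⊞ QZ⟦(1 : ℤ)⟧ := e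
  let e1 := (DerivedCategory.homologyFunctor (ModuleCat.{u} A) k).mapIso e'
  haveI : PreservesBinaryBiproducts (DerivedCategory.homologyFunctor (ModuleCat.{u} A) k) :=
    preservesBinaryBiproducts_of_preservesBiproducts _
  let e2 := (DerivedCategory.homologyFunctor (ModuleCat.{u} A) k).mapBiprod QZ (QZ⟦(1 : ℤ)⟧)
  let e3 : (DerivedCategory.homologyFunctor (ModuleCat.{u} A) k).obj (QZ⟦(1 : ℤ)⟧) ≅
      (DerivedCategory.homologyFunctor (ModuleCat.{u} A) (k + 1)).obj QZ :=
    ((DerivedCategory.homologyFunctor (ModuleCat.{u} A) 0).shiftIso 1 k (k + 1) (by omega)).app QZ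
  let i0 := (DerivedCategory.homologyFunctorFactors (ModuleCat.{u} A) k).app (mappingCone φ)
  let i1 := (DerivedCategory.homologyFunctorFactors (ModuleCat.{u} A) k).app Z
  let i2 := (DerivedCategory.homologyFunctorFactors (ModuleCat.{u} A) (k + 1)).app Z
  let tot : (mappingCone φ).homology k ≅ Z.homology k ⊞ Z.homology (k + 1) :=
    i0.symm ≪≫ e1 ≪≫ e2 ≪≫ biprod.mapIso i1 (e3 ≪≫ i2)
  exact ⟨(tot ≪≫ ModuleCat.biprodIsoProd _ _).toLinearEquiv⟩

/-! ### D. the induction -/

lemma nonempty_prod_equiv {X Y C : Type u} [AddCommGroup X] [Module A X] [AddCommGroup Y]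
    [Module A Y] [AddCommGroup C] [Module A C] {a b : ℕ} (c : ℕ)
    (eX : X ≃ₗ[A] (Fin a → C)) (eY : Y ≃ₗ[A] (Fin b → C)) (h : c = a + b) :
    Nonempty ((X × Y) ≃ₗ[A] (Fin c → C)) :=
  ⟨(LinearEquiv.prodCongr eX eY) ≪≫ₗ
    (LinearEquiv.sumArrowLequivProdArrow (Fin a) (Fin b) A C).symm ≪≫ₗ
    LinearEquiv.funCongrLeft A C ((finCongr h).trans finSumFinEquiv.symm)⟩

theorem homology_koszulCx_append (M : ModuleCat.{u} A) (h : List A)
    (hvan : ∀ k : ℤ, k ≠ 0 → IsZero ((koszulCx M h).homology k))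
    (z : List A) (hz : ∀ a ∈ z, ∀ x : M, a • x = 0) : ∀ k : ℤ,
      (0 < k → IsZero ((koszulCx M (z ++ h)).homology k)) ∧
      (∀ n : ℕ, k = -(n : ℤ) → Nonempty ((koszulCx M (z ++ h)).homology k ≃ₗ[A]
        (Fin (z.length.choose n) → (koszulCx M h).homology 0))) := by
  induction z with
  | nil =>
    intro k
    refine ⟨fun hk => hvan k (ne_of_gt hk), fun n hn => ?_⟩
    change Nonempty ((koszulCx M h).homology k ≃ₗ[A]
      (Fin (Nat.choose 0 n) → (koszulCx M h).homology 0))
    rcases n with _ | n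
    · obtain rfl : k = 0 := by omega
      exact ⟨(LinearEquiv.funUnique (Fin 1) A _).symm⟩
    · have hz' := hvan k (by omega)
      haveI := ModuleCat.subsingleton_of_isZero hz'
      rw [Nat.choose_zero_succ]
      exact ⟨LinearEquiv.ofSubsingleton _ _⟩
  | cons a z ih =>
    have ih' := ih (fun b hb => hz b (List.mem_cons_of_mem a hb))
    have h0 : a • 𝟙 (koszulCx M (z ++ h)) = 0 :=
      smul_id_koszulCx_eq_zero M a (hz a List.mem_cons_self) (z ++ h)
    intro k
    obtain ⟨E⟩ := nonempty_homology_cone_zero (koszulCx M (z ++ h)) (a • 𝟙 _) h0 k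
    change (0 < k → IsZero ((mappingCone (a • 𝟙 (koszulCx M (z ++ h)))).homology k)) ∧
      (∀ n : ℕ, k = -(n : ℤ) → Nonempty
        ((mappingCone (a • 𝟙 (koszulCx M (z ++ h)))).homology k ≃ₗ[A]
        (Fin ((z.length + 1).choose n) → (koszulCx M h).homology 0)))
    refine ⟨fun hk => ?_, fun n hn => ?_⟩
    · haveI := ModuleCat.subsingleton_of_isZero ((ih' k).1 hk)
      haveI := ModuleCat.subsingleton_of_isZero ((ih' (k + 1)).1 (by omega))
      haveI : Subsingleton ((mappingCone (a • 𝟙 (koszulCx M (z ++ h)))).homology k) :=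
        E.toEquiv.subsingleton
      exact ModuleCat.isZero_of_subsingleton _
    · rcases n with _ | n
      · obtain ⟨eX⟩ := (ih' k).2 0 hn
        haveI := ModuleCat.subsingleton_of_isZero ((ih' (k + 1)).1 (by omega))
        let eY : (koszulCx M (z ++ h)).homology (k + 1) ≃ₗ[A]
            (Fin 0 → (koszulCx M h).homology 0) := LinearEquiv.ofSubsingleton _ _
        obtain ⟨F⟩ := nonempty_prod_equiv ((z.length + 1).choose 0) eX eY (by simp)
        exact ⟨E ≪≫ₗ F⟩
      · obtain ⟨eX⟩ := (ih' k).2 (n + 1) hn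
        obtain ⟨eY⟩ := (ih' (k + 1)).2 n (by omega)
        obtain ⟨F⟩ := nonempty_prod_equiv ((z.length + 1).choose (n + 1)) eX eY
          (by rw [Nat.choose_succ_succ', Nat.add_comm])
        exact ⟨E ≪≫ₗ F⟩

end Groth.Agent.H4.TorKosz1
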