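import Mathlib
import Groth.Prelude
import Groth.Agent.H4.TorKosz1
import Groth.Agent.H4.TorKosz2
import Groth.Agent.H4.ExtPowQuot

set_option autoImplicit false
universe u
attribute [local instance] HasDerivedCategory.standard
open CategoryTheory CategoryTheory.Limits CochainComplex MonoidalCategory

namespace Groth.Agent.H4.TorKosz3

open CohIII Groth.Agent.H2.TorBal Groth.Agent.H4.TorKosz1 Groth.Agent.H4.TorKosz2
  Groth.Agent.H4.ExtPowQuot

variable {A : Type u} [CommRing A]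

lemma low_koszulCx (M : ModuleCat.{u} A) (h : List A) :
    (∀ i : ℤ, 0 < i → IsZero ((koszulCx M h).X i)) ∧ ∃ s : M ⟶ (koszulCx M h).X 0, Epi s := by
  induction h with
  | nil =>
    exact ⟨fun i hi => HomologicalComplex.isZero_single_obj_X (ComplexShape.up ℤ) 0 M i (ne_of_gt hi),
      (HomologicalComplex.singleObjXSelf (ComplexShape.up ℤ) 0 M).inv, inferInstance⟩
  | cons a h ih =>
    obtain ⟨h1, s, hs⟩ := ih
    change (∀ i : ℤ, 0 < i → IsZero ((mappingCone (a • 𝟙 (koszulCx M h))).X i)) ∧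
      ∃ s : M ⟶ (mappingCone (a • 𝟙 (koszulCx M h))).X 0, Epi s
    refine ⟨fun i hi => Groth.Agent.H3.PerfAux.mappingCone_X_isZero _ i (h1 _ (by omega)) (h1 _ hi),
      s ≫ (mappingCone.inr (a • 𝟙 (koszulCx M h))).f 0, ?_⟩
    have hsplit : (mappingCone.snd (a • 𝟙 (koszulCx M h))).v 0 0 (add_zero 0) ≫
        (mappingCone.inr (a • 𝟙 (koszulCx M h))).f 0 = 𝟙 _ := by
      have := mappingCone.id_X (a • 𝟙 (koszulCx M h)) 0 1 rfl
      have hz : (mappingCone.fst (a • 𝟙 (koszulCx M h))).1.v 0 1 rfl = 0 :=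
        (h1 1 (by omega)).eq_of_tgt _ _
      rw [hz, Limits.zero_comp, zero_add] at this
      exact this
    haveI : Epi ((mappingCone.inr (a • 𝟙 (koszulCx M h))).f 0) := epi_of_epi_fac hsplit
    exact epi_comp _ _

lemma exists_cyclic (M : ModuleCat.{u} A) (π : A →ₗ[A] M) (hπ : Function.Surjective π)
    (h : List A) :
    ∃ K : Ideal A, Nonempty (((koszulCx M h).homology 0) ≃ₗ[A] (A ⧸ K)) := by
  obtain ⟨h1, s, hs⟩ := low_koszulCx M h
  have hd : (koszulCx M h).d 0 (0 + 1) = 0 := (h1 1 (by omega)).eq_of_tgt _ _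
  have e1 : (koszulCx M h).homology 0 ≅ (koszulCx M h).opcycles 0 :=
    (koszulCx M h).isoHomologyι 0 (0 + 1) (by simp) hd
  let p : M ⟶ (koszulCx M h).homology 0 := s ≫ (koszulCx M h).pOpcycles 0 ≫ e1.inv
  haveI : Epi p := epi_comp _ _
  have hp : Function.Surjective p.hom := (ModuleCat.epi_iff_surjective p).1 inferInstance
  let q : A →ₗ[A] (koszulCx M h).homology 0 := p.hom ∘ₗ π
  have hq : Function.Surjective q := hp.comp hπ
  exact ⟨LinearMap.ker q, ⟨(q.quotKerEquivOfSurjective hq).symm⟩⟩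

theorem main (f g h : List A)
    (hfg : LCI.IsKoszulRegularSeq A (f ++ g)) (hfh : LCI.IsKoszulRegularSeq A (f ++ h))
    (hfgh : LCI.IsKoszulRegularSeq A (f ++ g ++ h)) (i : ℕ) (hi : 1 ≤ i) :
    Nonempty (((CategoryTheory.Tor (ModuleCat.{u} A) i).obj
        (ModuleCat.of A (A ⧸ Ideal.span {x | x ∈ f ++ g}))).obj
        (ModuleCat.of A (A ⧸ Ideal.span {x | x ∈ f ++ h})) ≅
      ModuleCat.of A (⋀[A]^i (((CategoryTheory.Tor (ModuleCat.{u} A) 1).obj
        (ModuleCat.of A (A ⧸ Ideal.span {x | x ∈ f ++ g}))).obj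
        (ModuleCat.of A (A ⧸ Ideal.span {x | x ∈ f ++ h}))))) := by
  obtain ⟨m, rfl⟩ : ∃ m, i = m + 1 := ⟨i - 1, by omega⟩
  let M : ModuleCat.{u} A := ModuleCat.of A (A ⧸ Ideal.span {x | x ∈ f ++ g})
  let N : ModuleCat.{u} A := ModuleCat.of A (A ⧸ Ideal.span {x | x ∈ f ++ h})
  have hvan : ∀ k : ℤ, k ≠ 0 → IsZero ((koszulCx M h).homology k) := fun k hk =>
    isZero_homology_koszulCx_quot (f ++ g) h hfg hfgh k hk
  have hkill : ∀ a ∈ f, ∀ x : M, a • x = 0 := by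
    intro a ha x
    obtain ⟨y, rfl⟩ := Submodule.Quotient.mk_surjective _ x
    rw [← Submodule.Quotient.mk_smul]
    apply (Submodule.Quotient.mk_eq_zero _).2
    rw [smul_eq_mul]
    exact Ideal.mul_mem_right _ _ (Ideal.subset_span (List.mem_append_left g ha))
  have key : ∀ n : ℕ, Nonempty (torObj (n + 1) M N ≃ₗ[A]
      (Fin (f.length.choose (n + 1)) → (koszulCx M h).homology 0)) := by
    intro n
    obtain ⟨e1⟩ := nonempty_tor_symm M N (n + 1)
    obtain ⟨e2⟩ := nonempty_tor_koszul (f ++ h) hfh M n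
    obtain ⟨e3⟩ := (homology_koszulCx_append M h hvan f hkill (-((n + 1 : ℕ) : ℤ))).2 (n + 1) rfl
    exact ⟨(e1 ≪≫ e2).toLinearEquiv ≪≫ₗ e3⟩
  obtain ⟨K, ⟨eC⟩⟩ := exists_cyclic M (Submodule.mkQ _) (Submodule.mkQ_surjective _) h
  obtain ⟨t1⟩ := key 0
  obtain ⟨tm⟩ := key m
  obtain ⟨w⟩ := nonempty_extPow_pi K (f.length.choose (0 + 1)) m
  let u1 := extPowCongr (m + 1) (t1 ≪≫ₗ LinearEquiv.piCongrRight (fun _ => eC))
  let u2 : (Fin (f.length.choose (m + 1)) → (koszulCx M h).homology 0) ≃ₗ[A]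
      (Fin ((f.length.choose (0 + 1)).choose (m + 1)) → A ⧸ K) :=
    LinearEquiv.piCongrRight (fun _ => eC) ≪≫ₗ
      LinearEquiv.funCongrLeft A (A ⧸ K) (finCongr (by rw [zero_add, Nat.choose_one_right]))
  exact ⟨(tm ≪≫ₗ u2 ≪≫ₗ w.symm ≪≫ₗ u1.symm).toModuleIso⟩

end Groth.Agent.H4.TorKosz3
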