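import Mathlib
import Groth.Prelude.Def_Tors
import Groth.Agent.H4.NonAbSeq

set_option autoImplicit false
universe u

open CategoryTheory Limits Opposite Abelian

namespace Groth.Agent.H4.TorsH1

open Groth.Agent.H4.NonAbSeq (glue_const glue_inj)

variable {C : Type u} [SmallCategory C] {J : GrothendieckTopology C}

/-! ### Part A : sections -/

theorem isSheaf_forget (F : Sheaf J AddCommGrpCat.{u}) :
    Presieve.IsSheaf J (F.obj ⋙ forget AddCommGrpCat.{u}) :=
  Presieve.isSheaf_iso J (Functor.isoWhiskerLeft F.obj AddCommGrpCat.coyonedaObjIsoForget)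
    (F.property (AddCommGrpCat.of (ULift.{u} ℤ)))

theorem A_sep (F : Sheaf J AddCommGrpCat.{u}) {V : C} (S : Sieve V) (hS : S ∈ J V)
    (x y : F.obj.obj (op V))
    (h : ∀ ⦃W : C⦄ (g : W ⟶ V), S g → F.obj.map g.op x = F.obj.map g.op y) : x = y :=
  ((isSheaf_forget F).isSeparated S hS).ext (t₁ := x) (t₂ := y) (fun _ g hg => h g hg)

/-- global sections of an abelian sheaf, as compatible families -/
structure GSec (F : Sheaf J AddCommGrpCat.{u}) where
  val : ∀ U : Cᵒᵖ, F.obj.obj U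
  nat : ∀ {U V : Cᵒᵖ} (f : U ⟶ V), F.obj.map f (val U) = val V

/-- the constant sheaf `ℤ` -/
noncomputable abbrev ZZ (J : GrothendieckTopology C) : Sheaf J AddCommGrpCat.{u} :=
  (constantSheaf J AddCommGrpCat.{u}).obj (AddCommGrpCat.of (ULift.{u} ℤ))

/-- the homomorphism `ℤ → A` with `1 ↦ a` -/
def zHom (A : AddCommGrpCat.{u}) (a : A) : AddCommGrpCat.of (ULift.{u} ℤ) ⟶ A :=
  AddCommGrpCat.ofHom ((zmultiplesHom A a).comp AddEquiv.ulift.toAddMonoidHom)

theorem zHom_one (A : AddCommGrpCat.{u}) (a : A) : zHom A a (ULift.up 1) = a := by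
  show (zmultiplesHom A a) (1 : ℤ) = a
  simp

theorem zHom_ext {A : AddCommGrpCat.{u}} (f g : AddCommGrpCat.of (ULift.{u} ℤ) ⟶ A)
    (h : f (ULift.up 1) = g (ULift.up 1)) : f = g := by
  ext ⟨n⟩
  have e : (ULift.up n : ULift.{u} ℤ) = n • ULift.up 1 := by
    apply ULift.ext
    simp
  show f (ULift.up n) = g (ULift.up n)
  rw [e, map_zsmul, map_zsmul, h]

/-- adjunction bijection for maps out of the constant sheaf -/
noncomputable def adjEquiv (F : Sheaf J AddCommGrpCat.{u}) :
    (ZZ J ⟶ F) ≃ ((Functor.const Cᵒᵖ).obj (AddCommGrpCat.of (ULift.{u} ℤ)) ⟶ F.obj) :=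
  (sheafificationAdjunction J AddCommGrpCat.{u}).homEquiv _ F

/-- the global section attached to a map from `ℤ` -/
noncomputable def toSec {F : Sheaf J AddCommGrpCat.{u}} (f : ZZ J ⟶ F) : GSec F where
  val U := (adjEquiv F f).app U (ULift.up 1)
  nat {U V} k := by
    have := NatTrans.naturality_apply (adjEquiv F f) k (ULift.up (1 : ℤ))
    exact this.symm

/-- the natural transformation attached to a global section -/
noncomputable def secNat {F : Sheaf J AddCommGrpCat.{u}} (s : GSec F) :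
    (Functor.const Cᵒᵖ).obj (AddCommGrpCat.of (ULift.{u} ℤ)) ⟶ F.obj where
  app U := zHom (F.obj.obj U) (s.val U)
  naturality U V k := by
    apply zHom_ext
    have e1 : (ConcreteCategory.hom (((Functor.const Cᵒᵖ).obj
        (AddCommGrpCat.of (ULift.{u} ℤ))).map k ≫ zHom (F.obj.obj V) (s.val V))) (ULift.up 1) =
        s.val V := zHom_one _ _
    have e2 : (ConcreteCategory.hom (zHom (F.obj.obj U) (s.val U) ≫ F.obj.map k)) (ULift.up 1) =
        F.obj.map k (s.val U) := congrArg (F.obj.map k) (zHom_one _ _)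
    exact e1.trans ((s.nat k).symm.trans e2.symm)

/-- the map from `ℤ` attached to a global section -/
noncomputable def ofSec {F : Sheaf J AddCommGrpCat.{u}} (s : GSec F) : ZZ J ⟶ F :=
  (adjEquiv F).symm (secNat s)

theorem toSec_ofSec {F : Sheaf J AddCommGrpCat.{u}} (s : GSec F) (U : Cᵒᵖ) :
    (toSec (ofSec s)).val U = s.val U := by
  show (adjEquiv F ((adjEquiv F).symm (secNat s))).app U (ULift.up 1) = s.val U
  rw [Equiv.apply_symm_apply]
  exact zHom_one _ _

theorem toSec_comp {F F' : Sheaf J AddCommGrpCat.{u}} (f : ZZ J ⟶ F) (g : F ⟶ F') (U : Cᵒᵖ) :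
    (toSec (f ≫ g)).val U = g.hom.app U ((toSec f).val U) := by
  show (adjEquiv F' (f ≫ g)).app U (ULift.up 1) = g.hom.app U ((adjEquiv F f).app U (ULift.up 1))
  have : adjEquiv F' (f ≫ g) = adjEquiv F f ≫ g.hom :=
    (sheafificationAdjunction J AddCommGrpCat.{u}).homEquiv_naturality_right f g
  rw [this]
  rfl

theorem hom_ext_Z {F : Sheaf J AddCommGrpCat.{u}} (f g : ZZ J ⟶ F)
    (h : ∀ U, (toSec f).val U = (toSec g).val U) : f = g := by
  apply (adjEquiv F).injective
  ext U : 2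
  exact zHom_ext _ _ (h U)

/-- the terminal sheaf of sets, concretely -/
noncomputable def One (J : GrothendieckTopology C) : Sheaf J (Type u) :=
  ⟨(Functor.const Cᵒᵖ).obj PUnit.{u + 1}, Presheaf.isSheaf_of_isTerminal J Types.isTerminalPUnit⟩

theorem exists_family_of_hasSection {P : Sheaf J (Type u)}
    (τ : (⊤_ (Sheaf J (Type u))) ⟶ P) :
    ∃ t : ∀ U : Cᵒᵖ, P.obj.obj U, ∀ {U V : Cᵒᵖ} (f : U ⟶ V), P.obj.map f (t U) = t V := by
  obtain ⟨σ, -⟩ : ∃ σ : One J ⟶ P, σ = terminal.from (One J) ≫ τ := ⟨_, rfl⟩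
  refine ⟨fun U => σ.hom.app U PUnit.unit, fun {U V} f => ?_⟩
  exact (NatTrans.naturality_apply σ.hom f PUnit.unit).symm

theorem hasSection_of_family {P X : Sheaf J (Type u)} (t : ∀ U : Cᵒᵖ, P.obj.obj U)
    (ht : ∀ {U V : Cᵒᵖ} (f : U ⟶ V), P.obj.map f (t U) = t V) : Nonempty (X ⟶ P) :=
  ⟨ObjectProperty.homMk
    { app := fun U => TypeCat.ofHom (fun _ => t U)
      naturality := by
        intro U V f
        ext x
        exact (ht f).symm }⟩

/-! ### Part B : sectionwise facts on short exact sequences -/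

section SES

variable {S : ShortComplex (Sheaf J AddCommGrpCat.{u})} (hS : S.ShortExact)

/-- evaluation at `U` -/
noncomputable abbrev ev (J : GrothendieckTopology C) (U : Cᵒᵖ) :
    Sheaf J AddCommGrpCat.{u} ⥤ AddCommGrpCat.{u} :=
  sheafToPresheaf J AddCommGrpCat.{u} ⋙ (evaluation _ _).obj U

include hS in
theorem sec_inj (U : Cᵒᵖ) : Function.Injective (S.f.hom.app U) := by
  have := hS.mono_f
  have h : Mono ((ev J U).map S.f) := inferInstance
  exact (AddCommGrpCat.mono_iff_injective _).1 h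

theorem sec_zero (U : Cᵒᵖ) (g : S.X₁.obj.obj U) : S.g.hom.app U (S.f.hom.app U g) = 0 := by
  have h : (ev J U).map S.f ≫ (ev J U).map S.g = 0 := by
    rw [← Functor.map_comp, S.zero, Functor.map_zero]
  have := congrArg (fun φ => (ConcreteCategory.hom φ) g) h
  exact this

include hS in
theorem sec_exact (U : Cᵒᵖ) (s : S.X₂.obj.obj U) (h : S.g.hom.app U s = 0) :
    ∃ g : S.X₁.obj.obj U, S.f.hom.app U g = s := by
  have hm := hS.mono_f
  have hex : (S.map (ev J U)).Exact :=
    hS.exact.map_of_mono_of_preservesKernel (ev J U) hm inferInstance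
  rw [ShortComplex.ab_exact_iff] at hex
  exact hex s h

include hS in
theorem sec_locsurj (U : C) (x : S.X₃.obj.obj (op U)) :
    ∃ R ∈ J U, ∀ ⦃V : C⦄ (f : V ⟶ U), R f →
      ∃ s : S.X₂.obj.obj (op V), S.g.hom.app (op V) s = S.X₃.obj.map f.op x := by
  have he := hS.epi_g
  have hl : Sheaf.IsLocallySurjective S.g := (Sheaf.isLocallySurjective_iff_epi' _ S.g).2 he
  exact ⟨Presheaf.imageSieve S.g.hom x, Presheaf.imageSieve_mem J S.g.hom x, fun V f hf => hf⟩

end SES


theorem A_glue (F : Sheaf J AddCommGrpCat.{u}) {V : C} (S : Sieve V) (hS : S ∈ J V)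
    (y : ∀ ⦃W : C⦄ (g : W ⟶ V), S g → F.obj.obj (op W))
    (hy : ∀ ⦃W W' : C⦄ (k : W' ⟶ W) (g : W ⟶ V) (hg : S g) (hkg : S (k ≫ g)),
      y (k ≫ g) hkg = F.obj.map k.op (y g hg)) :
    ∃ z : F.obj.obj (op V), ∀ ⦃W : C⦄ (g : W ⟶ V) (hg : S g), F.obj.map g.op z = y g hg := by
  let x : Presieve.FamilyOfElements (F.obj ⋙ forget AddCommGrpCat.{u}) S.arrows :=
    fun W g hg => y g hg
  have hx : x.Compatible := by
    rw [Presieve.compatible_iff_sieveCompatible]
    intro W W' g k hg
    exact hy k g hg _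
  exact ⟨(isSheaf_forget F S hS).amalgamate x hx,
    fun W g hg => Presieve.IsSheafFor.valid_glue (isSheaf_forget F S hS) hx g hg⟩

/-! ### Part C : the torsor of liftings -/

section Lift

variable (S : ShortComplex (Sheaf J AddCommGrpCat.{u})) (qs : GSec S.X₃)

/-- the presheaf of liftings of `qs` -/
def liftPresheaf : Cᵒᵖ ⥤ Type u where
  obj U := {x : S.X₂.obj.obj U // S.g.hom.app U x = qs.val U}
  map {U V} f := TypeCat.ofHom (fun x => ⟨S.X₂.obj.map f x.1, by
    rw [NatTrans.naturality_apply S.g.hom f x.1, x.2]; exact qs.nat f⟩)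
  map_id U := by
    ext x
    show S.X₂.obj.map (𝟙 U) x.1 = x.1
    rw [S.X₂.obj.map_id]; rfl
  map_comp f f' := by
    ext x
    show S.X₂.obj.map (f ≫ f') x.1 = S.X₂.obj.map f' (S.X₂.obj.map f x.1)
    rw [S.X₂.obj.map_comp]; rfl

theorem liftPresheaf_isSheaf : Presheaf.IsSheaf J (liftPresheaf S qs) := by
  rw [isSheaf_iff_isSheaf_of_type]
  intro X R hR x hx
  have hx' := (Presieve.compatible_iff_sieveCompatible x).1 hx
  obtain ⟨z, hz⟩ := A_glue S.X₂ R hR (fun V f hf => (x f hf).1) (by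
    intro W W' k g hg hkg
    have := congrArg Subtype.val (hx' g k hg)
    exact this)
  have hzc : S.g.hom.app (op X) z = qs.val (op X) := by
    apply A_sep S.X₃ R hR
    intro V f hf
    rw [← NatTrans.naturality_apply S.g.hom f.op z, hz f hf, (x f hf).2]
    exact (qs.nat f.op).symm
  refine ⟨⟨z, hzc⟩, ?_, ?_⟩
  · intro V f hf
    apply Subtype.ext
    exact hz f hf
  · intro t ht
    apply Subtype.ext
    apply A_sep S.X₂ R hR
    intro V f hf
    rw [hz f hf]
    exact congrArg Subtype.val (ht f hf)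

variable {S} (hS : S.ShortExact)

/-- the torsor of liftings -/
def liftTorsor : Tors.Torsor S.X₁ where
  P := ⟨liftPresheaf S qs, liftPresheaf_isSheaf S qs⟩
  vadd {U} g x := ⟨S.f.hom.app U g + x.1, by
    rw [map_add, sec_zero, zero_add]; exact x.2⟩
  zero_vadd {U} p := by
    apply Subtype.ext
    show S.f.hom.app U 0 + p.1 = p.1
    rw [map_zero, zero_add]
  add_vadd {U} g h p := by
    apply Subtype.ext
    show S.f.hom.app U (g + h) + p.1 = S.f.hom.app U g + (S.f.hom.app U h + p.1)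
    rw [map_add, add_assoc]
  map_vadd {U V} f g p := by
    apply Subtype.ext
    show S.X₂.obj.map f (S.f.hom.app U g + p.1) =
      S.f.hom.app V (S.X₁.obj.map f g) + S.X₂.obj.map f p.1
    rw [map_add, NatTrans.naturality_apply S.f.hom f g]
  free_transitive {U} p q := by
    obtain ⟨g, hg⟩ := sec_exact hS U (q.1 - p.1) (by rw [map_sub, q.2, p.2, sub_self])
    refine ⟨g, ?_, ?_⟩
    · apply Subtype.ext
      show S.f.hom.app U g + p.1 = q.1
      rw [hg, sub_add_cancel]
    · intro g' hg'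
      apply sec_inj hS U
      have e : S.f.hom.app U g' + p.1 = q.1 := congrArg Subtype.val hg'
      rw [hg]
      exact eq_sub_of_add_eq e
  locally_nonempty U := by
    obtain ⟨R, hR, h⟩ := sec_locsurj hS U (qs.val (op U))
    refine ⟨R, hR, fun V f hf => ?_⟩
    obtain ⟨s, hs⟩ := h f hf
    exact ⟨⟨s, hs.trans (qs.nat f.op)⟩⟩

include hS in
theorem exists_lift_of_torsors (h : ∀ T : Tors.Torsor S.X₁, T.HasSection) (q : ZZ J ⟶ S.X₃) :
    ∃ q' : ZZ J ⟶ S.X₂, q' ≫ S.g = q := by
  obtain ⟨τ⟩ := h (liftTorsor (toSec q) hS)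
  obtain ⟨t, ht⟩ := exists_family_of_hasSection τ
  refine ⟨ofSec ⟨fun U =>
      (t U : {x : S.X₂.obj.obj U // S.g.hom.app U x = (toSec q).val U}).1,
    fun {U V} f => congrArg Subtype.val (ht f)⟩, hom_ext_Z _ _ (fun U => ?_)⟩
  rw [toSec_comp, toSec_ofSec]
  exact (t U : {x : S.X₂.obj.obj U // S.g.hom.app U x = (toSec q).val U}).2

end Lift

/-- embedding into an injective with its cokernel -/
noncomputable abbrev injSES (G : Sheaf J AddCommGrpCat.{u}) :
    ShortComplex (Sheaf J AddCommGrpCat.{u}) :=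
  ShortComplex.mk (Injective.ι G) (cokernel.π (Injective.ι G)) (cokernel.condition _)

theorem injSES_shortExact (G : Sheaf J AddCommGrpCat.{u}) : (injSES G).ShortExact :=
  { exact := ShortComplex.exact_cokernel _
    mono_f := by dsimp; infer_instance
    epi_g := by dsimp; infer_instance }

section Ext

variable [HasExt.{u} (Sheaf J AddCommGrpCat.{u})]

theorem subsingleton_H1 (G : Sheaf J AddCommGrpCat.{u})
    (h : ∀ T : Tors.Torsor G, T.HasSection) : Subsingleton (Ext (ZZ J) G 1) := by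
  have hS : (injSES G).ShortExact := injSES_shortExact G
  refine subsingleton_of_forall_eq 0 (fun x => ?_)
  have h1 : x.comp (Ext.mk₀ (injSES G).f) (add_zero 1) = 0 := Ext.eq_zero_of_injective _
  obtain ⟨x₃, hx₃⟩ := Ext.covariant_sequence_exact₁ (ZZ J) hS x h1 (n₀ := 0) rfl
  obtain ⟨q, rfl⟩ := (Ext.mk₀_bijective _ _).2 x₃
  obtain ⟨q', rfl⟩ := exists_lift_of_torsors hS h q
  rw [← hx₃, ← Ext.mk₀_comp_mk₀_assoc, hS.comp_extClass, Ext.comp_zero]

theorem lift_of_ext_zero {S : ShortComplex (Sheaf J AddCommGrpCat.{u})} (hS : S.ShortExact)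
    (hsub : Subsingleton (Ext (ZZ J) S.X₁ 1)) (q : ZZ J ⟶ S.X₃) :
    ∃ q' : ZZ J ⟶ S.X₂, q' ≫ S.g = q := by
  have h0 : (Ext.mk₀ q).comp hS.extClass (zero_add 1) = 0 := Subsingleton.elim _ _
  obtain ⟨x₂, hx₂⟩ := Ext.covariant_sequence_exact₃ (ZZ J) hS (Ext.mk₀ q) (zero_add 1) h0
  obtain ⟨q', rfl⟩ := (Ext.mk₀_bijective _ _).2 x₂
  rw [Ext.mk₀_comp_mk₀] at hx₂
  exact ⟨q', (Ext.mk₀_bijective _ _).1 hx₂⟩

end Ext


/-! ### Part D : the presheaf of families of maps and the equivariant embedding -/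

section Hom

variable {G : Sheaf J AddCommGrpCat.{u}} (T : Tors.Torsor G)

/-- the difference of two sections of a torsor -/
noncomputable def diff {U : Cᵒᵖ} (a b : T.P.obj.obj U) : G.obj.obj U :=
  (T.free_transitive b a).choose

theorem diff_vadd {U : Cᵒᵖ} (a b : T.P.obj.obj U) : T.vadd (diff T a b) b = a :=
  (T.free_transitive b a).choose_spec.1

theorem diff_uniq {U : Cᵒᵖ} {a b : T.P.obj.obj U} {g : G.obj.obj U} (h : T.vadd g b = a) :
    g = diff T a b :=
  (T.free_transitive b a).choose_spec.2 g h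

theorem diff_map {U V : Cᵒᵖ} (f : U ⟶ V) (a b : T.P.obj.obj U) :
    G.obj.map f (diff T a b) = diff T (T.P.obj.map f a) (T.P.obj.map f b) := by
  apply diff_uniq
  rw [← T.map_vadd, diff_vadd]

theorem diff_vadd_right {U : Cᵒᵖ} (a b : T.P.obj.obj U) (h : G.obj.obj U) :
    diff T a (T.vadd h b) = diff T a b - h := by
  symm
  apply diff_uniq
  rw [← T.add_vadd, sub_add_cancel, diff_vadd]

/-- presheaf of all families of maps `P(V) → G(V)` over `U` -/
def EPre : Cᵒᵖ ⥤ AddCommGrpCat.{u} where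
  obj U := AddCommGrpCat.of (∀ (V : C) (_ : V ⟶ U.unop), T.P.obj.obj (op V) → G.obj.obj (op V))
  map {U U'} h := AddCommGrpCat.ofHom
    { toFun := fun φ V f p => φ V (f ≫ h.unop) p
      map_zero' := rfl
      map_add' := fun _ _ => rfl }
  map_id U := by
    ext φ V f p
    show φ V (f ≫ 𝟙 _) p = φ V f p
    rw [Category.comp_id]
  map_comp h h' := by
    ext φ V f p
    show φ V (f ≫ (h'.unop ≫ h.unop)) p = φ V ((f ≫ h'.unop) ≫ h.unop) p
    rw [Category.assoc]

/-- minus the constant-family embedding -/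
def negConst : G.obj ⟶ EPre T where
  app U := AddCommGrpCat.ofHom
    { toFun := fun g V f _ => -(G.obj.map f.op g)
      map_zero' := by
        funext V f p
        show -(G.obj.map f.op 0) = 0
        rw [map_zero, neg_zero]
      map_add' := fun g h => by
        funext V f p
        show -(G.obj.map f.op (g + h)) = -(G.obj.map f.op g) + -(G.obj.map f.op h)
        rw [map_add, neg_add] }
  naturality U U' h := by
    ext g
    funext V f p
    show -(G.obj.map f.op (G.obj.map h g)) = -(G.obj.map (f ≫ h.unop).op g)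
    rw [op_comp, Quiver.Hom.op_unop, Functor.map_comp]
    rfl

theorem negConst_apply {U : Cᵒᵖ} (g : G.obj.obj U) (V : C) (f : V ⟶ U.unop)
    (p : T.P.obj.obj (op V)) : ((negConst T).app U g) V f p = -(G.obj.map f.op g) := rfl

theorem negConst_mono : Mono (negConst T) := by
  haveI : ∀ U, Mono ((negConst T).app U) := fun U => by
    obtain ⟨U⟩ := U
    rw [AddCommGrpCat.mono_iff_injective, injective_iff_map_eq_zero]
    intro g hg
    obtain ⟨R, hR, hne⟩ := T.locally_nonempty U
    apply A_sep G R hR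
    intro W k hk
    obtain ⟨p⟩ := hne k hk
    have := congrFun (congrFun (congrFun hg W) k) p
    rw [map_zero]
    exact neg_eq_zero.1 this
  exact NatTrans.mono_of_mono_app _

/-- the canonical equivariant map to `EPre` -/
noncomputable def jj (U : Cᵒᵖ) (p : T.P.obj.obj U) : (EPre T).obj U :=
  fun V f p' => diff T p' (T.P.obj.map f.op p)

theorem jj_map {U U' : Cᵒᵖ} (h : U ⟶ U') (p : T.P.obj.obj U) :
    (EPre T).map h (jj T U p) = jj T U' (T.P.obj.map h p) := by
  funext V f p'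
  show diff T p' (T.P.obj.map (f ≫ h.unop).op p) = diff T p' (T.P.obj.map f.op (T.P.obj.map h p))
  have e : T.P.obj.map (f ≫ h.unop).op p = T.P.obj.map f.op (T.P.obj.map h p) :=
    Groth.Agent.H4.NonAbSeq.map_comp_op' T.P.obj f h.unop p
  rw [e]

theorem jj_vadd {U : Cᵒᵖ} (g : G.obj.obj U) (p : T.P.obj.obj U) :
    jj T U (T.vadd g p) = jj T U p + (negConst T).app U g := by
  funext V f p'
  show diff T p' (T.P.obj.map f.op (T.vadd g p)) =
    diff T p' (T.P.obj.map f.op p) + -(G.obj.map f.op g)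
  rw [T.map_vadd, diff_vadd_right, sub_eq_add_neg]

variable {I : Sheaf J AddCommGrpCat.{u}} (ι : G ⟶ I) (ρ : EPre T ⟶ I.obj)
  (hρ : negConst T ≫ ρ = ι.hom)

/-- the equivariant map `P → I` -/
noncomputable def j' (V : Cᵒᵖ) (p : T.P.obj.obj V) : I.obj.obj V := ρ.app V (jj T V p)

theorem j'_map {V W : Cᵒᵖ} (f : V ⟶ W) (p : T.P.obj.obj V) :
    I.obj.map f (j' T ρ V p) = j' T ρ W (T.P.obj.map f p) := by
  unfold j'
  rw [← jj_map]
  exact (NatTrans.naturality_apply ρ f (jj T V p)).symm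

include hρ in
theorem j'_vadd {V : Cᵒᵖ} (g : G.obj.obj V) (p : T.P.obj.obj V) :
    j' T ρ V (T.vadd g p) = j' T ρ V p + ι.hom.app V g := by
  unfold j'
  rw [jj_vadd, map_add]
  congr 1
  exact congrArg (fun φ => (ConcreteCategory.hom (φ.app V)) g) hρ

include hρ in
theorem j'_inj (hι : ∀ V, Function.Injective (ι.hom.app V)) (V : Cᵒᵖ) :
    Function.Injective (j' T ρ V) := by
  intro p p' h
  have e1 : j' T ρ V (T.vadd (diff T p' p) p) = j' T ρ V p' := by rw [diff_vadd]
  rw [j'_vadd T ι ρ hρ, ← h] at e1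
  have e2 : ι.hom.app V (diff T p' p) = 0 := by
    have := add_eq_left.1 e1
    exact this
  have e3 : diff T p' p = 0 := by
    apply hι V
    rw [e2, map_zero]
  have e4 := diff_vadd T p' p
  rw [e3, T.zero_vadd] at e4
  exact e4

/-- `j'` as a natural transformation -/
noncomputable def j'Nat : T.P.obj ⟶ I.obj ⋙ forget AddCommGrpCat.{u} where
  app V := TypeCat.ofHom (j' T ρ V)
  naturality V W f := by
    ext p
    exact (j'_map T ρ f p).symm

end Hom

/-! ### Part E : vanishing of `H^1` gives sections -/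

section Main

variable [HasExt.{u} (Sheaf J AddCommGrpCat.{u})]

theorem hasSection_of_H1 (G : Sheaf J AddCommGrpCat.{u})
    (hG : Subsingleton (Ext (ZZ J) G 1)) (T : Tors.Torsor G) : T.HasSection := by
  have hS : (injSES G).ShortExact := injSES_shortExact G
  haveI : Injective (injSES G).X₂.obj :=
    Injective.injective_of_adjoint (sheafificationAdjunction J AddCommGrpCat.{u}) _
  haveI := negConst_mono T
  obtain ⟨ρ, hρ⟩ : ∃ ρ : EPre T ⟶ (injSES G).X₂.obj, negConst T ≫ ρ = (injSES G).f.hom :=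
    ⟨Injective.factorThru (injSES G).f.hom (negConst T), Injective.comp_factorThru _ _⟩
  have hinj := sec_inj hS
  -- the global section of the quotient
  obtain ⟨ρs, hρs⟩ := glue_const (J := J) T.P.obj ((injSES G).X₃.obj ⋙ forget AddCommGrpCat.{u})
    (isSheaf_forget _) T.locally_nonempty
    (fun V p => ((injSES G).g.hom.app V (j' T ρ V p) : (injSES G).X₃.obj.obj V))
    (by
      intro V W f t
      show (injSES G).X₃.obj.map f ((injSES G).g.hom.app V (j' T ρ V t)) =
        (injSES G).g.hom.app W (j' T ρ W (T.P.obj.map f t))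
      rw [← j'_map, NatTrans.naturality_apply (injSES G).g.hom f])
    (by
      intro V t t'
      show (injSES G).g.hom.app V (j' T ρ V t) = (injSES G).g.hom.app V (j' T ρ V t')
      rw [← diff_vadd T t' t, j'_vadd T (injSES G).f ρ hρ, map_add, sec_zero, add_zero])
  have hρs' : ∀ (V : Cᵒᵖ) (t : T.P.obj.obj V),
      (ρs.1 V : (injSES G).X₃.obj.obj V) = (injSES G).g.hom.app V (j' T ρ V t) := hρs
  obtain ⟨qs, hqs⟩ : ∃ qs : GSec (injSES G).X₃, ∀ V, qs.val V = ρs.1 V :=
    ⟨⟨fun V => ρs.1 V, fun {U V} f => ρs.2 f⟩, fun _ => rfl⟩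
  obtain ⟨q', hq'⟩ := lift_of_ext_zero hS hG (ofSec qs)
  have hs : ∀ V : Cᵒᵖ, (injSES G).g.hom.app V ((toSec q').val V) = qs.val V := by
    intro V
    rw [← toSec_comp, hq', toSec_ofSec]
  -- local liftings
  have key : ∀ (V : Cᵒᵖ) (p : T.P.obj.obj V), ∃ t : T.P.obj.obj V,
      j' T ρ V t = (toSec q').val V := by
    intro V p
    obtain ⟨g, hg⟩ := sec_exact hS V ((toSec q').val V - j' T ρ V p) (by
      rw [map_sub, hs, hqs, hρs' V p, sub_self])
    refine ⟨T.vadd g p, ?_⟩
    rw [j'_vadd T (injSES G).f ρ hρ, hg, add_sub_cancel]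
  have hP : Presieve.IsSheaf J T.P.obj := (isSheaf_iff_isSheaf_of_type _ _).1 T.P.property
  have glob : ∀ U : C, ∃ t : T.P.obj.obj (op U), j' T ρ (op U) t = (toSec q').val (op U) := by
    intro U
    obtain ⟨R, hR, hne⟩ := T.locally_nonempty U
    refine glue_inj (J := J) T.P.obj ((injSES G).X₂.obj ⋙ forget AddCommGrpCat.{u}) hP
      (isSheaf_forget _) (j'Nat T ρ) (fun V => j'_inj T (injSES G).f ρ hρ hinj V)
      ((toSec q').val (op U)) R hR ?_
    intro V a ha
    obtain ⟨p⟩ := hne a ha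
    obtain ⟨t, ht⟩ := key (op V) p
    refine ⟨t, ?_⟩
    show j' T ρ (op V) t = (injSES G).X₂.obj.map a.op ((toSec q').val (op U))
    rw [ht, (toSec q').nat a.op]
  choose t ht using glob
  refine hasSection_of_family (fun U => t U.unop) ?_
  intro U V f
  apply j'_inj T (injSES G).f ρ hρ hinj V
  rw [← j'_map, ht, ht]
  exact (toSec q').nat f

theorem main (G : Sheaf J AddCommGrpCat.{u}) :
    Subsingleton (Ext (ZZ J) G 1) ↔ ∀ T : Tors.Torsor G, T.HasSection :=
  ⟨fun h T => hasSection_of_H1 G h T, fun h => subsingleton_H1 G h⟩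

end Main

end Groth.Agent.H4.TorsH1
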