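import Mathlib

set_option autoImplicit false
open CategoryTheory CategoryTheory.Limits

universe v u

namespace Groth.Agent.H4.TotQis

local notation "cℤ" => ComplexShape.up ℤ

variable {A : Type u} [Category.{v} A] [Abelian A]

section TotAPI

variable (K : HomologicalComplex₂ A cℤ cℤ) [K.HasTotal cℤ]

/-- inclusion of a summand -/
noncomputable def inc (p q n : ℤ) (h : p + q = n) : (K.X p).X q ⟶ (K.total cℤ).X n :=
  K.ιTotal cℤ p q n h

/-- projection to a summand -/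
noncomputable def pr (p q n : ℤ) : (K.total cℤ).X n ⟶ (K.X p).X q :=
  K.totalDesc (fun p' q' _ =>
    if h : p' = p ∧ q' = q then (K.XXIsoOfEq _ _ _ h.1 h.2).hom else 0)

lemma tot_hom_ext {n : ℤ} {Z : A} {f g : (K.total cℤ).X n ⟶ Z}
    (h : ∀ (p q : ℤ) (hpq : p + q = n), inc K p q n hpq ≫ f = inc K p q n hpq ≫ g) : f = g :=
  HomologicalComplex₂.total.hom_ext _ (fun p q hpq => h p q hpq)

@[reassoc]
lemma inc_pr_self (p q n : ℤ) (h : p + q = n) :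
    inc K p q n h ≫ pr K p q n = 𝟙 _ := by
  rw [pr, inc, HomologicalComplex₂.ι_totalDesc, dif_pos ⟨rfl, rfl⟩]
  simp

@[reassoc]
lemma inc_pr_ne' (p q p' q' n : ℤ) (h : p + q = n) (hne : ¬ (p = p' ∧ q = q')) :
    inc K p q n h ≫ pr K p' q' n = 0 := by
  rw [pr, inc, HomologicalComplex₂.ι_totalDesc, dif_neg hne]

@[reassoc]
lemma inc_pr_ne (p q p' q' n : ℤ) (h : p + q = n) (hne : q ≠ q') :
    inc K p q n h ≫ pr K p' q' n = 0 :=
  inc_pr_ne' K p q p' q' n h (fun h2 => hne h2.2)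

lemma inc_d (p p' q q' n n' : ℤ) (hp : p + 1 = p') (hq : q + 1 = q') (hn : n + 1 = n')
    (h : p + q = n) :
    inc K p q n h ≫ (K.total cℤ).d n n' =
      (K.d p p').f q ≫ inc K p' q n' (by lia) +
      p.negOnePow • ((K.X p).d q q' ≫ inc K p q' n' (by lia)) := by
  have h1 : p' + q = n' := by lia
  have h2 : p + q' = n' := by lia
  rw [inc, HomologicalComplex₂.total_d, Preadditive.comp_add, HomologicalComplex₂.ι_D₁,
    HomologicalComplex₂.ι_D₂, K.d₁_eq cℤ (show (ComplexShape.up ℤ).Rel p p' from hp) q n' h1,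
    K.d₂_eq cℤ p (show (ComplexShape.up ℤ).Rel q q' from hq) n' h2]
  simp [inc]

@[reassoc]
lemma inc_d_pr_same (p p' q n n' : ℤ) (hp : p + 1 = p') (hn : n + 1 = n') (h : p + q = n) :
    inc K p q n h ≫ (K.total cℤ).d n n' ≫ pr K p' q n' = (K.d p p').f q := by
  rw [← Category.assoc, inc_d K p p' q (q+1) n n' hp rfl hn h, Preadditive.add_comp,
    Category.assoc, inc_pr_self, Category.comp_id, Linear.units_smul_comp, Category.assoc,
    inc_pr_ne K _ _ _ _ _ _ (by lia), comp_zero, smul_zero, add_zero]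

@[reassoc]
lemma inc_d_pr_succ (p q q' n n' : ℤ) (hq : q + 1 = q') (hn : n + 1 = n') (h : p + q = n) :
    inc K p q n h ≫ (K.total cℤ).d n n' ≫ pr K p q' n' =
      p.negOnePow • (K.X p).d q q' := by
  rw [← Category.assoc, inc_d K p (p+1) q q' n n' rfl hq hn h, Preadditive.add_comp,
    Category.assoc, inc_pr_ne K _ _ _ _ _ _ (by lia), comp_zero, zero_add,
    Linear.units_smul_comp, Category.assoc, inc_pr_self, Category.comp_id]

@[reassoc]
lemma inc_d_pr_ne (p q p'' q'' n n' : ℤ) (hn : n + 1 = n') (h : p + q = n)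
    (hq1 : q'' ≠ q) (hq2 : q'' ≠ q + 1) :
    inc K p q n h ≫ (K.total cℤ).d n n' ≫ pr K p'' q'' n' = 0 := by
  rw [← Category.assoc, inc_d K p (p+1) q (q+1) n n' rfl rfl hn h, Preadditive.add_comp,
    Category.assoc, inc_pr_ne K _ _ _ _ _ _ (Ne.symm hq1), comp_zero, zero_add,
    Linear.units_smul_comp, Category.assoc, inc_pr_ne K _ _ _ _ _ _ (Ne.symm hq2), comp_zero,
    smul_zero]

lemma d_pr (p₀ p' q₀ q' n n' : ℤ) (hp : p₀ + 1 = p') (hq : q₀ + 1 = q') (hn : n + 1 = n')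
    (hpq : p' + q' = n') :
    (K.total cℤ).d n n' ≫ pr K p' q' n' =
      pr K p₀ q' n ≫ (K.d p₀ p').f q' +
        p'.negOnePow • (pr K p' q₀ n ≫ (K.X p').d q₀ q') := by
  apply tot_hom_ext
  intro p q h
  rw [Preadditive.comp_add, Linear.comp_units_smul]
  by_cases h1 : q = q'
  · subst h1
    obtain rfl : p = p₀ := by lia
    rw [inc_d_pr_same K p p' q n n' hp hn h, inc_pr_self_assoc,
      inc_pr_ne_assoc K _ _ _ _ _ _ (by lia), zero_comp, smul_zero, add_zero]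
  · by_cases h2 : q = q₀
    · subst h2
      obtain rfl : p = p' := by lia
      rw [inc_d_pr_succ K p q q' n n' hq hn h, inc_pr_self_assoc,
        inc_pr_ne_assoc K _ _ _ _ _ _ (by lia), zero_comp, zero_add]
    · rw [inc_d_pr_ne K p q p' q' n n' hn h (Ne.symm h1) (by lia),
        inc_pr_ne_assoc K _ _ _ _ _ _ h1, zero_comp,
        inc_pr_ne_assoc K _ _ _ _ _ _ h2, zero_comp, smul_zero, add_zero]

lemma id_eq_sum (a b : ℤ) (hK : ∀ p q : ℤ, p < a ∨ q < b → IsZero ((K.X p).X q)) (n : ℤ) :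
    𝟙 ((K.total cℤ).X n) =
      ∑ q ∈ Finset.Icc b (n - a), pr K (n - q) q n ≫ inc K (n - q) q n (by lia) := by
  apply tot_hom_ext
  intro p q h
  obtain rfl : p = n - q := by lia
  rw [Category.comp_id, Preadditive.comp_sum]
  by_cases hq : q ∈ Finset.Icc b (n - a)
  · rw [Finset.sum_eq_single_of_mem q hq]
    · rw [inc_pr_self_assoc]
    · intro q' _ hne
      rw [inc_pr_ne_assoc K _ _ _ _ _ _ (Ne.symm hne), zero_comp]
  · have hz : IsZero ((K.X (n - q)).X q) := by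
      apply hK
      simp only [Finset.mem_Icc, not_and_or, not_le] at hq
      rcases hq with hq | hq
      · right; exact hq
      · left; lia
    exact hz.eq_of_src _ _

lemma eq_zero_of_pr (a b : ℤ) (hK : ∀ p q : ℤ, p < a ∨ q < b → IsZero ((K.X p).X q)) (n : ℤ)
    {T : A} (X : T ⟶ (K.total cℤ).X n) (N : ℤ) (hN : n - a < N)
    (hX : ∀ p q : ℤ, q < N → p + q = n → X ≫ pr K p q n = 0) : X = 0 := by
  rw [← Category.comp_id X, id_eq_sum K a b hK n, Preadditive.comp_sum]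
  apply Finset.sum_eq_zero
  intro q hq
  rw [Finset.mem_Icc] at hq
  rw [← Category.assoc, hX _ q (by lia) (by lia), zero_comp]

end TotAPI

section Main

variable {K L : HomologicalComplex₂ A cℤ cℤ} [K.HasTotal cℤ] [L.HasTotal cℤ] (φ : K ⟶ L)

@[reassoc]
lemma inc_map (p q n : ℤ) (h : p + q = n) :
    inc K p q n h ≫ (HomologicalComplex₂.total.map φ cℤ).f n =
      (φ.f p).f q ≫ inc L p q n h := by
  rw [inc, inc, HomologicalComplex₂.ιTotal_map]

lemma map_pr (p q n : ℤ) :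
    (HomologicalComplex₂.total.map φ cℤ).f n ≫ pr L p q n = pr K p q n ≫ (φ.f p).f q := by
  apply tot_hom_ext
  intro p' q' h
  rw [inc_map_assoc]
  by_cases h1 : p' = p ∧ q' = q
  · obtain ⟨rfl, rfl⟩ := h1
    rw [inc_pr_self, inc_pr_self_assoc, Category.comp_id]
  · rw [inc_pr_ne' L _ _ _ _ _ _ h1, inc_pr_ne'_assoc K _ _ _ _ _ _ h1, comp_zero, zero_comp]


lemma row [QuasiIso φ] (q p₀ p₁ p₂ p₃ : ℤ) (h01 : p₀ + 1 = p₁) (h12 : p₁ + 1 = p₂)
    (h23 : p₂ + 1 = p₃) {T : A} (x : T ⟶ (K.X p₂).X q) (y : T ⟶ (L.X p₁).X q)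
    (hx : x ≫ (K.d p₂ p₃).f q = 0) (hxy : x ≫ (φ.f p₂).f q = y ≫ (L.d p₁ p₂).f q) :
    ∃ (T' : A) (π : T' ⟶ T) (_ : Epi π) (w : T' ⟶ (K.X p₁).X q) (z : T' ⟶ (L.X p₀).X q),
      π ≫ x = w ≫ (K.d p₁ p₂).f q ∧
        π ≫ y = w ≫ (φ.f p₁).f q + z ≫ (L.d p₀ p₁).f q := by
  have hψ : QuasiIso (((HomologicalComplex.eval A cℤ q).mapHomologicalComplex cℤ).map φ) :=
    inferInstance
  have hiso : ∀ p, IsIso (HomologicalComplex.homologyMap
      (((HomologicalComplex.eval A cℤ q).mapHomologicalComplex cℤ).map φ) p) := by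
    intro p
    rw [← quasiIsoAt_iff_isIso_homologyMap]
    infer_instance
  have hm : Mono (HomologicalComplex.homologyMap
      (((HomologicalComplex.eval A cℤ q).mapHomologicalComplex cℤ).map φ) p₂) := by
    have := hiso p₂
    infer_instance
  have he : Epi (HomologicalComplex.homologyMap
      (((HomologicalComplex.eval A cℤ q).mapHomologicalComplex cℤ).map φ) p₁) := by
    have := hiso p₁
    infer_instance
  rw [HomologicalComplex.mono_homologyMap_iff_up_to_refinements _ p₁ p₂ p₃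
    (by simp; lia) (by simp; lia)] at hm
  rw [HomologicalComplex.epi_homologyMap_iff_up_to_refinements _ p₀ p₁ p₂
    (by simp; lia) (by simp; lia)] at he
  obtain ⟨T₁, π₁, hπ₁, w₀, hw₀'⟩ : ∃ (T₁ : A) (π₁ : T₁ ⟶ T) (_ : Epi π₁)
      (w₀ : T₁ ⟶ (K.X p₁).X q), π₁ ≫ x = w₀ ≫ (K.d p₁ p₂).f q := hm x hx y hxy
  have hnat : (φ.f p₁).f q ≫ (L.d p₁ p₂).f q = (K.d p₁ p₂).f q ≫ (φ.f p₂).f q := by
    have := HomologicalComplex.congr_hom (φ.comm p₁ p₂) q
    simpa using this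
  have hy' : (π₁ ≫ y - w₀ ≫ (φ.f p₁).f q) ≫ (L.d p₁ p₂).f q = 0 := by
    rw [Preadditive.sub_comp, Category.assoc, Category.assoc, ← hxy, hnat, ← Category.assoc,
      ← Category.assoc, hw₀', sub_self]
  obtain ⟨T₂, π₂, hπ₂, x', hx'', z, hz'⟩ : ∃ (T₂ : A) (π₂ : T₂ ⟶ T₁) (_ : Epi π₂)
      (x' : T₂ ⟶ (K.X p₁).X q) (_ : x' ≫ (K.d p₁ p₂).f q = 0) (z : T₂ ⟶ (L.X p₀).X q),
      π₂ ≫ (π₁ ≫ y - w₀ ≫ (φ.f p₁).f q) = x' ≫ (φ.f p₁).f q + z ≫ (L.d p₀ p₁).f q :=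
    he (π₁ ≫ y - w₀ ≫ (φ.f p₁).f q) hy'
  refine ⟨T₂, π₂ ≫ π₁, epi_comp _ _, π₂ ≫ w₀ + x', z, ?_, ?_⟩
  · rw [Category.assoc, hw₀', Preadditive.add_comp, hx'', add_zero, Category.assoc]
  · rw [Preadditive.comp_sub] at hz'
    rw [Category.assoc, Preadditive.add_comp, Category.assoc, add_assoc, ← hz']
    abel

lemma chase [QuasiIso φ] (a b : ℤ)
    (hK : ∀ p q : ℤ, p < a ∨ q < b → IsZero ((K.X p).X q))
    (hL : ∀ p q : ℤ, p < a ∨ q < b → IsZero ((L.X p).X q))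
    (n₀ n₁ n₂ n₃ : ℤ) (h01 : n₀ + 1 = n₁) (h12 : n₁ + 1 = n₂) (h23 : n₂ + 1 = n₃) (k : ℕ) :
    ∀ (m : ℤ), m + (k : ℤ) = n₂ - a + 1 → ∀ (T : A) (X : T ⟶ (K.total cℤ).X n₂)
      (Y : T ⟶ (L.total cℤ).X n₁),
      X ≫ (K.total cℤ).d n₂ n₃ = 0 →
      X ≫ (HomologicalComplex₂.total.map φ cℤ).f n₂ = Y ≫ (L.total cℤ).d n₁ n₂ →
      (∀ p q : ℤ, q < m → p + q = n₂ → X ≫ pr K p q n₂ = 0) →
      (∀ p q : ℤ, q < m → p + q = n₁ → Y ≫ pr L p q n₁ = 0) →
      ∃ (T' : A) (π : T' ⟶ T) (_ : Epi π) (W : T' ⟶ (K.total cℤ).X n₁)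
        (Z : T' ⟶ (L.total cℤ).X n₀),
        π ≫ X = W ≫ (K.total cℤ).d n₁ n₂ ∧
          π ≫ Y = W ≫ (HomologicalComplex₂.total.map φ cℤ).f n₁ + Z ≫ (L.total cℤ).d n₀ n₁ := by
  induction k with
  | zero =>
    intro m hm T X Y hX hXY hXv hYv
    have hX0 : X = 0 := eq_zero_of_pr K a b hK n₂ X m (by lia) hXv
    have hY0 : Y = 0 := eq_zero_of_pr L a b hL n₁ Y m (by lia) hYv
    exact ⟨T, 𝟙 T, inferInstance, 0, 0, by simp [hX0], by simp [hY0]⟩
  | succ k ih =>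
    intro m hm T X Y hX hXY hXv hYv
    have hstep := ih (m + 1) (by push_cast at hm ⊢; lia)
    obtain ⟨p₀, hp₀⟩ : ∃ p₀ : ℤ, p₀ + m = n₀ := ⟨n₀ - m, by lia⟩
    obtain ⟨p₁, hp₁⟩ : ∃ p₁ : ℤ, p₁ + m = n₁ := ⟨n₁ - m, by lia⟩
    obtain ⟨p₂, hp₂⟩ : ∃ p₂ : ℤ, p₂ + m = n₂ := ⟨n₂ - m, by lia⟩
    obtain ⟨p₃, hp₃⟩ : ∃ p₃ : ℤ, p₃ + m = n₃ := ⟨n₃ - m, by lia⟩
    have hx : (X ≫ pr K p₂ m n₂) ≫ (K.d p₂ p₃).f m = 0 := by
      have h1 := congrArg (fun f => f ≫ pr K p₃ m n₃) hX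
      simp only [Category.assoc, zero_comp] at h1
      rw [d_pr K p₂ p₃ (m - 1) m n₂ n₃ (by lia) (by lia) h23 hp₃, Preadditive.comp_add,
        Linear.comp_units_smul, ← Category.assoc X (pr K p₃ (m - 1) n₂),
        hXv p₃ (m - 1) (by lia) (by lia), zero_comp, smul_zero, add_zero] at h1
      rw [Category.assoc]
      exact h1
    have hxy : (X ≫ pr K p₂ m n₂) ≫ (φ.f p₂).f m = (Y ≫ pr L p₁ m n₁) ≫ (L.d p₁ p₂).f m := by
      have h1 := congrArg (fun f => f ≫ pr L p₂ m n₂) hXY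
      simp only [Category.assoc] at h1
      rw [map_pr, d_pr L p₁ p₂ (m - 1) m n₁ n₂ (by lia) (by lia) h12 hp₂, Preadditive.comp_add,
        Linear.comp_units_smul, ← Category.assoc Y (pr L p₂ (m - 1) n₁),
        hYv p₂ (m - 1) (by lia) (by lia), zero_comp, smul_zero, add_zero] at h1
      rw [Category.assoc, Category.assoc]
      exact h1
    obtain ⟨T₁, π₁, hπ₁, w, z, hw, hz⟩ := row φ m p₀ p₁ p₂ p₃ (by lia) (by lia) (by lia)
      (X ≫ pr K p₂ m n₂) (Y ≫ pr L p₁ m n₁) hx hxy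
    have hX' : (π₁ ≫ X - (w ≫ inc K p₁ m n₁ hp₁) ≫ (K.total cℤ).d n₁ n₂) ≫
        (K.total cℤ).d n₂ n₃ = 0 := by
      rw [Preadditive.sub_comp, Category.assoc, hX, comp_zero, Category.assoc,
        HomologicalComplex.d_comp_d, comp_zero, sub_zero]
    have hXY' : (π₁ ≫ X - (w ≫ inc K p₁ m n₁ hp₁) ≫ (K.total cℤ).d n₁ n₂) ≫
        (HomologicalComplex₂.total.map φ cℤ).f n₂ =
        (π₁ ≫ Y - (w ≫ inc K p₁ m n₁ hp₁) ≫ (HomologicalComplex₂.total.map φ cℤ).f n₁ -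
          (z ≫ inc L p₀ m n₀ hp₀) ≫ (L.total cℤ).d n₀ n₁) ≫ (L.total cℤ).d n₁ n₂ := by
      rw [Preadditive.sub_comp, Preadditive.sub_comp, Preadditive.sub_comp]
      simp only [Category.assoc, HomologicalComplex.d_comp_d, comp_zero, sub_zero,
        HomologicalComplex.Hom.comm, hXY]
    have hXv' : ∀ p q : ℤ, q < m + 1 → p + q = n₂ →
        (π₁ ≫ X - (w ≫ inc K p₁ m n₁ hp₁) ≫ (K.total cℤ).d n₁ n₂) ≫ pr K p q n₂ = 0 := by
      intro p q hq hpq
      rw [Preadditive.sub_comp, Category.assoc, Category.assoc, Category.assoc]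
      by_cases hqm : q = m
      · subst hqm
        obtain rfl : p = p₂ := by lia
        rw [inc_d_pr_same K p₁ p q n₁ n₂ (by lia) h12 hp₁, hw, sub_self]
      · rw [hXv p q (by lia) hpq, comp_zero,
          inc_d_pr_ne K p₁ m p q n₁ n₂ h12 hp₁ hqm (by lia), comp_zero, sub_zero]
    have hYv' : ∀ p q : ℤ, q < m + 1 → p + q = n₁ →
        (π₁ ≫ Y - (w ≫ inc K p₁ m n₁ hp₁) ≫ (HomologicalComplex₂.total.map φ cℤ).f n₁ -
          (z ≫ inc L p₀ m n₀ hp₀) ≫ (L.total cℤ).d n₀ n₁) ≫ pr L p q n₁ = 0 := by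
      intro p q hq hpq
      rw [Preadditive.sub_comp, Preadditive.sub_comp]
      simp only [Category.assoc]
      rw [inc_map_assoc]
      by_cases hqm : q = m
      · subst hqm
        obtain rfl : p = p₁ := by lia
        rw [inc_pr_self, Category.comp_id, inc_d_pr_same L p₀ p q n₀ n₁ (by lia) h01 hp₀]
        rw [hz]
        abel
      · rw [hYv p q (by lia) hpq, comp_zero, inc_pr_ne L _ _ _ _ _ _ (Ne.symm hqm), comp_zero,
          comp_zero, inc_d_pr_ne L p₀ m p q n₀ n₁ h01 hp₀ hqm (by lia), comp_zero, sub_zero,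
          sub_zero]
    obtain ⟨T₂, π₂, hπ₂, W', Z', hW', hZ'⟩ := hstep T₁ _ _ hX' hXY' hXv' hYv'
    refine ⟨T₂, π₂ ≫ π₁, epi_comp _ _, W' + π₂ ≫ w ≫ inc K p₁ m n₁ hp₁,
      Z' + π₂ ≫ z ≫ inc L p₀ m n₀ hp₀, ?_, ?_⟩
    · rw [Preadditive.add_comp, ← hW', Preadditive.comp_sub]
      simp only [Category.assoc]
      abel
    · rw [Preadditive.add_comp, Preadditive.add_comp]
      have : W' ≫ (HomologicalComplex₂.total.map φ cℤ).f n₁ + Z' ≫ (L.total cℤ).d n₀ n₁ = _ :=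
        hZ'.symm
      rw [Preadditive.comp_sub, Preadditive.comp_sub] at this
      simp only [Category.assoc] at this ⊢
      rw [add_add_add_comm, this]
      abel

theorem main (K L : HomologicalComplex₂ A (ComplexShape.up ℤ) (ComplexShape.up ℤ)) (φ : K ⟶ L)
    (a b : ℤ)
    (hK : ∀ p q : ℤ, p < a ∨ q < b → IsZero ((K.X p).X q))
    (hL : ∀ p q : ℤ, p < a ∨ q < b → IsZero ((L.X p).X q))
    [K.HasTotal (ComplexShape.up ℤ)] [L.HasTotal (ComplexShape.up ℤ)] [QuasiIso φ] :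
    QuasiIso (HomologicalComplex₂.total.map φ (ComplexShape.up ℤ)) := by
  rw [quasiIso_iff]
  intro n
  rw [quasiIsoAt_iff_isIso_homologyMap]
  have hmono : Mono (HomologicalComplex.homologyMap
      (HomologicalComplex₂.total.map φ (ComplexShape.up ℤ)) n) := by
    rw [HomologicalComplex.mono_homologyMap_iff_up_to_refinements _ (n - 1) n (n + 1)
      (by simp) (by simp)]
    intro T x₂ hx₂ y₁ hxy
    obtain ⟨k, hk⟩ : ∃ k : ℕ, min b (n - a + 1) + (k : ℤ) = n - a + 1 :=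
      ⟨(n - a + 1 - min b (n - a + 1)).toNat, by lia⟩
    obtain ⟨T', π, hπ, W, Z, h1, h2⟩ := chase φ a b hK hL (n - 1 - 1) (n - 1) n (n + 1)
      (by lia) (by lia) rfl k (min b (n - a + 1)) hk T x₂ y₁ hx₂ hxy
      (fun p q hq _ => (hK p q (Or.inr (by lia))).eq_of_tgt _ _)
      (fun p q hq _ => (hL p q (Or.inr (by lia))).eq_of_tgt _ _)
    exact ⟨T', π, hπ, W, h1⟩
  have hepi : Epi (HomologicalComplex.homologyMap
      (HomologicalComplex₂.total.map φ (ComplexShape.up ℤ)) n) := by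
    rw [HomologicalComplex.epi_homologyMap_iff_up_to_refinements _ (n - 1) n (n + 1)
      (by simp) (by simp)]
    intro T y₂ hy₂
    obtain ⟨k, hk⟩ : ∃ k : ℕ, min b (n + 1 - a + 1) + (k : ℤ) = n + 1 - a + 1 :=
      ⟨(n + 1 - a + 1 - min b (n + 1 - a + 1)).toNat, by lia⟩
    obtain ⟨T', π, hπ, W, Z, h1, h2⟩ := chase φ a b hK hL (n - 1) n (n + 1) (n + 1 + 1)
      (by lia) rfl rfl k (min b (n + 1 - a + 1)) hk T (0 : T ⟶ _) y₂ (by rw [zero_comp])
      (by rw [zero_comp, hy₂])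
      (fun p q hq _ => (hK p q (Or.inr (by lia))).eq_of_tgt _ _)
      (fun p q hq _ => (hL p q (Or.inr (by lia))).eq_of_tgt _ _)
    rw [comp_zero] at h1
    exact ⟨T', π, hπ, W, h1.symm, Z, h2⟩
  exact isIso_of_mono_of_epi _

end Main

end Groth.Agent.H4.TotQis
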