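import Mathlib

/-! Finite flat modules over a Noetherian ring: a linear map which is an isomorphism at all primes
of height `≤ 1` is an isomorphism (determinant + Krull's Hauptidealsatz). -/

set_option autoImplicit false
universe u

namespace Groth.Agent.H4.TqA

open TensorProduct

/-- surjectivity of a base change from surjectivity "up to units of `k`". -/
theorem baseChange_surj {R : Type*} [CommRing R] {M N : Type*} [AddCommGroup M] [Module R M]
    [AddCommGroup N] [Module R N] (k : Type*) [CommRing k] [Algebra R k] (g : M →ₗ[R] N)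
    (h : ∀ n : N, ∃ (u : R) (m : M), IsUnit (algebraMap R k u) ∧ g m = u • n) :
    Function.Surjective (g.baseChange k) := by
  intro x
  induction x using TensorProduct.induction_on with
  | zero => exact ⟨0, map_zero _⟩
  | tmul a n =>
    obtain ⟨u, m, hu, hm⟩ := h n
    obtain ⟨v, hv⟩ := hu.exists_left_inv
    refine ⟨(a * v) ⊗ₜ m, ?_⟩
    rw [LinearMap.baseChange_tmul, hm, TensorProduct.tmul_smul, TensorProduct.smul_tmul',
      Algebra.smul_def]
    congr 1
    calc algebraMap R k u * (a * v) = a * (v * algebraMap R k u) := by ring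
      _ = a := by rw [hv, mul_one]
  | add x y hx hy =>
    obtain ⟨x', hx'⟩ := hx
    obtain ⟨y', hy'⟩ := hy
    exact ⟨x' + y', by rw [map_add, hx', hy']⟩

/-- over a field: an endomorphism of a finite free module whose base change is surjective has a
determinant with non-zero image. -/
theorem det_ne_zero_of_surj {R : Type*} [CommRing R] {M : Type*} [AddCommGroup M] [Module R M]
    [Module.Free R M] [Module.Finite R M] (k : Type*) [Field k] [Algebra R k] (φ : M →ₗ[R] M)
    (h : Function.Surjective (φ.baseChange k)) : algebraMap R k (LinearMap.det φ) ≠ 0 := by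
  rw [← LinearMap.det_baseChange]
  have hinj : Function.Injective (φ.baseChange k) := LinearMap.injective_iff_surjective.mpr h
  let e := LinearEquiv.ofBijective (φ.baseChange k) ⟨hinj, h⟩
  have h1 := LinearEquiv.isUnit_det' e
  have he : (e : k ⊗[R] M →ₗ[k] k ⊗[R] M) = φ.baseChange k := LinearMap.ext fun _ => rfl
  rw [he] at h1
  exact h1.ne_zero

section

variable {A : Type u} [CommRing A] {M N : Type u} [AddCommGroup M] [Module A M]
  [AddCommGroup N] [Module A N] (ψ : M →ₗ[A] N)

/-- a map whose kernel and cokernel are `a`-power torsion is bijective at the primes not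
containing `a`. -/
theorem loc_bij_of (q : Ideal A) [q.IsPrime] (a : A) (ha : a ∉ q)
    (H1 : ∀ c, ψ c = 0 → ∃ n : ℕ, a ^ n • c = 0)
    (H2 : ∀ d, ∃ (n : ℕ) (c : M), ψ c = a ^ n • d) :
    Function.Bijective (LocalizedModule.map q.primeCompl ψ) := by
  have hpow : ∀ n : ℕ, a ^ n ∈ q.primeCompl := fun n hn =>
    ha (Ideal.IsPrime.mem_of_pow_mem inferInstance n hn)
  constructor
  · rw [injective_iff_map_eq_zero]
    intro x hx
    induction x using LocalizedModule.induction_on with
    | _ m s =>
      rw [LocalizedModule.map_mk, ← LocalizedModule.zero_mk 1, LocalizedModule.mk_eq] at hx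
      obtain ⟨u, hu⟩ := hx
      rw [smul_zero, smul_zero, one_smul] at hu
      have h0 : ψ ((u : A) • m) = 0 := by rw [map_smul]; exact hu
      obtain ⟨n, hn⟩ := H1 _ h0
      rw [← LocalizedModule.zero_mk 1, LocalizedModule.mk_eq]
      refine ⟨⟨a ^ n, hpow n⟩ * u, ?_⟩
      rw [smul_zero, smul_zero, one_smul]
      show (a ^ n * (u : A)) • m = 0
      rw [mul_smul]; exact hn
  · intro y
    induction y using LocalizedModule.induction_on with
    | _ d s =>
      obtain ⟨n, c, hc⟩ := H2 d
      refine ⟨LocalizedModule.mk c (⟨a ^ n, hpow n⟩ * s), ?_⟩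
      rw [LocalizedModule.map_mk, hc]
      exact LocalizedModule.mk_cancel_common_left ⟨a ^ n, hpow n⟩ s d

variable [IsNoetherianRing A] [Module.Finite A M] [Module.Flat A M] [Module.Finite A N]
  [Module.Flat A N]

/-- the local determinant argument. -/
theorem local_bij
    (H : ∀ q : Ideal A, q.IsPrime → q.height ≤ 1 → ∃ a, a ∉ q ∧
      (∀ c, ψ c = 0 → ∃ n : ℕ, a ^ n • c = 0) ∧ (∀ d, ∃ (n : ℕ) (c : M), ψ c = a ^ n • d))
    (hrank : ∀ p : PrimeSpectrum A, Module.rankAtStalk M p = Module.rankAtStalk N p)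
    (J : Ideal A) [hJ : J.IsPrime] :
    Function.Bijective (LocalizedModule.map J.primeCompl ψ) := by
  let R := Localization.AtPrime J
  let M' := LocalizedModule J.primeCompl M
  let N' := LocalizedModule J.primeCompl N
  haveI : IsNoetherianRing R := IsLocalization.isNoetherianRing J.primeCompl R inferInstance
  haveI : Module.Free R M' := Module.free_of_flat_of_isLocalRing
  haveI : Module.Free R N' := Module.free_of_flat_of_isLocalRing
  have hfr : Module.finrank R N' = Module.finrank R M' := (hrank ⟨J, hJ⟩).symm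
  let θ : N' ≃ₗ[R] M' := LinearEquiv.ofFinrankEq N' M' hfr
  let ψ' : M' →ₗ[R] N' := LocalizedModule.map J.primeCompl ψ
  let φ : M' →ₗ[R] M' := θ.toLinearMap ∘ₗ ψ'
  have hφ : ∀ x, φ x = θ (ψ' x) := fun _ => rfl
  suffices hb : Function.Bijective φ by
    have : (φ : M' → M') = θ ∘ ψ' := rfl
    rw [this] at hb
    exact (Function.Bijective.of_comp_iff' θ.bijective ψ').1 hb
  by_cases hδ : IsUnit (LinearMap.det φ)
  · exact (Module.End.isUnit_iff φ).1 ((LinearMap.isUnit_iff_isUnit_det φ).2 hδ)
  · exfalso
    set δ := LinearMap.det φ with hδdef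
    have hI : Ideal.span {δ} ≠ ⊤ := by
      rw [Ne, Ideal.span_singleton_eq_top]; exact hδ
    obtain ⟨⟨Q, hQ⟩⟩ := Ideal.nonempty_minimalPrimes hI
    haveI hQp : Q.IsPrime := hQ.1.1
    have hQh : Q.height ≤ 1 :=
      Ideal.height_le_one_of_isPrincipal_of_mem_minimalPrimes (Ideal.span {δ}) Q hQ
    have hδQ : δ ∈ Q := hQ.1.2 (Ideal.mem_span_singleton_self δ)
    let q : Ideal A := Q.under A
    haveI hqp : q.IsPrime := inferInstance
    have hqh : q.height ≤ 1 := by
      rw [show q.height = Q.height from IsLocalization.height_under J.primeCompl Q]; exact hQh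
    obtain ⟨a, haq, -, H2⟩ := H q hqp hqh
    let k := Q.ResidueField
    have hu : ∀ n : ℕ, IsUnit (algebraMap R k (algebraMap A R (a ^ n))) := by
      intro n
      rw [isUnit_iff_ne_zero, Ne, Ideal.algebraMap_residueField_eq_zero]
      intro hmem
      have : a ^ n ∈ q := hmem
      exact haq (Ideal.IsPrime.mem_of_pow_mem hqp n this)
    have hsurj : Function.Surjective (φ.baseChange k) := by
      apply baseChange_surj
      intro m''
      obtain ⟨n', hn'⟩ : ∃ n' : N', θ n' = m'' := ⟨θ.symm m'', θ.apply_symm_apply m''⟩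
      subst hn'
      induction n' using LocalizedModule.induction_on with
      | _ d s =>
        obtain ⟨n, c, hc⟩ := H2 d
        refine ⟨algebraMap A R (a ^ n), LocalizedModule.mk c s, hu n, ?_⟩
        rw [hφ]
        show θ (LocalizedModule.map J.primeCompl ψ (LocalizedModule.mk c s)) = _
        rw [LocalizedModule.map_mk, hc, ← map_smul, algebraMap_smul, LocalizedModule.smul'_mk]
    exact det_ne_zero_of_surj k φ hsurj (Ideal.algebraMap_residueField_eq_zero.2 hδQ)

/-- **Main algebraic statement**. -/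
theorem alg
    (H : ∀ q : Ideal A, q.IsPrime → q.height ≤ 1 → ∃ a, a ∉ q ∧
      (∀ c, ψ c = 0 → ∃ n : ℕ, a ^ n • c = 0) ∧ (∀ d, ∃ (n : ℕ) (c : M), ψ c = a ^ n • d)) :
    Function.Bijective ψ := by
  have hr1 : ∀ (q : Ideal A) (hq : q.IsPrime), q.height ≤ 1 →
      Module.rankAtStalk M ⟨q, hq⟩ = Module.rankAtStalk N ⟨q, hq⟩ := by
    intro q hq hqh
    obtain ⟨a, ha, H1, H2⟩ := H q hq hqh
    have hb := loc_bij_of ψ q a ha H1 H2
    exact (LinearEquiv.ofBijective _ hb).finrank_eq
  have hrank : ∀ p : PrimeSpectrum A, Module.rankAtStalk M p = Module.rankAtStalk N p := by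
    intro p
    obtain ⟨q₀, hq₀, hle⟩ := Ideal.exists_minimalPrimes_le (I := ⊥) (J := p.asIdeal) bot_le
    have hq₀p : q₀.IsPrime := hq₀.1.1
    have h0 : q₀.height = 0 := Ideal.height_eq_zero_iff.2 hq₀
    have h1 := hr1 q₀ hq₀p (by rw [h0]; exact zero_le)
    have hle' : (⟨q₀, hq₀p⟩ : PrimeSpectrum A) ≤ p := hle
    rw [← Module.rankAtStalk_eq_of_le_of_finite_of_flat M hle',
      ← Module.rankAtStalk_eq_of_le_of_finite_of_flat N hle', h1]
  exact bijective_of_localized_maximal ψ fun J hJ =>
    local_bij ψ H hrank J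

end

end Groth.Agent.H4.TqA
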