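import Mathlib
import Groth.Agent.H4.TqA
import Groth.Agent.Lib.Helper6.FibIso2
import Groth.Agent.Lib.Helper1.EtNhd
import Groth.Agent.Lib.Helper1.GenPts

/-! A morphism between finite flat schemes over a Noetherian base which is an isomorphism on the
fibres at the points of codimension `≤ 1` is an isomorphism. -/

set_option autoImplicit false
universe u

namespace Groth.Agent.H4.TqB

open CategoryTheory CategoryTheory.Limits AlgebraicGeometry TopologicalSpace

section Local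

variable {X Y : Scheme.{u}} (f : X ⟶ Y)

theorem res_eq_zero_of_eq {X : Scheme.{u}} {U O O' : X.Opens} (h : O = O') (hle : O ≤ U)
    (hle' : O' ≤ U) (x : Γ(X, U)) (hx : (X.presheaf.map (homOfLE hle).op).hom x = 0) :
    (X.presheaf.map (homOfLE hle').op).hom x = 0 := by
  subst h; exact hx

/-- naturality of `f.app` with respect to the restriction to a basic open. -/
theorem app_res {U : Y.Opens} (r : Γ(Y, U)) (c : Γ(Y, U)) :
    (f.app (Y.basicOpen r)).hom ((Y.presheaf.map (homOfLE (Y.basicOpen_le r)).op).hom c) =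
      (X.presheaf.map (homOfLE (f.preimage_mono (Y.basicOpen_le r))).op).hom ((f.app U).hom c) := by
  have nat := f.naturality (homOfLE (Y.basicOpen_le r)).op
  have h := congrArg (fun φ => φ.hom c) nat
  simp only [CommRingCat.hom_comp, RingHom.comp_apply] at h
  exact h

theorem loc_ker {U : Y.Opens} (hU : IsAffineOpen U) (r : Γ(Y, U))
    (hinj : Function.Injective (f.app (Y.basicOpen r)).hom) (c : Γ(Y, U))
    (hc : (f.app U).hom c = 0) : ∃ n : ℕ, r ^ n * c = 0 := by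
  apply exists_pow_mul_eq_zero_of_res_basicOpen_eq_zero_of_isAffineOpen Y hU c r
  apply hinj
  rw [map_zero]
  have h := app_res f r c
  rw [hc, map_zero] at h
  exact h

theorem loc_range {U : Y.Opens} (hU : IsAffineOpen U) (hfU : IsAffineOpen (f ⁻¹ᵁ U)) (r : Γ(Y, U))
    (hsurj : Function.Surjective (f.app (Y.basicOpen r)).hom) (d : Γ(X, f ⁻¹ᵁ U)) :
    ∃ (n : ℕ) (c : Γ(Y, U)), (f.app U).hom c = (f.app U).hom r ^ n * d := by
  have hle : f ⁻¹ᵁ Y.basicOpen r ≤ f ⁻¹ᵁ U := f.preimage_mono (Y.basicOpen_le r)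
  obtain ⟨γ, hγ⟩ := hsurj ((X.presheaf.map (homOfLE hle).op).hom d)
  obtain ⟨n, c, hc⟩ := exists_eq_pow_mul_of_isAffineOpen Y U hU r γ
  have hc' : (Y.presheaf.map (homOfLE (Y.basicOpen_le r)).op).hom c =
      ((Y.presheaf.map (homOfLE (Y.basicOpen_le r)).op).hom r) ^ n * γ := hc
  have h1 : (X.presheaf.map (homOfLE hle).op).hom
      ((f.app U).hom c - (f.app U).hom r ^ n * d) = 0 := by
    rw [map_sub, map_mul, map_pow, ← app_res f r c, ← app_res f r r, hc', map_mul, map_pow, hγ,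
      sub_self]
  have hO : f ⁻¹ᵁ Y.basicOpen r = X.basicOpen ((f.app U).hom r) := Scheme.preimage_basicOpen f r
  have h2 := res_eq_zero_of_eq hO hle (X.basicOpen_le _) _ h1
  obtain ⟨m, hm⟩ := exists_pow_mul_eq_zero_of_res_basicOpen_eq_zero_of_isAffineOpen X hfU _ _ h2
  refine ⟨m + n, r ^ m * c, ?_⟩
  rw [map_mul, map_pow]
  linear_combination hm

end Local

section Main

variable {S X X' : Scheme.{u}} [IsNoetherian S] (p' : X' ⟶ S) (f : X ⟶ X')
  [IsFinite p'] [Flat p'] [IsFinite (f ≫ p')] [Flat (f ≫ p')]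

/-- the key local statement over an affine open of the base. -/
theorem key (U : S.Opens) (hmem : ∀ s : S, ringKrullDim (S.presheaf.stalk s) ≤ 1 → s ∈ U)
    [hiso : IsIso (f ∣_ (p' ⁻¹ᵁ U))] [IsAffineHom f]
    (V : S.Opens) (hV : IsAffineOpen V) : IsIso (f.app (p' ⁻¹ᵁ V)) := by
  have hV' : IsAffineOpen (p' ⁻¹ᵁ V) := hV.preimage p'
  have hV'' : IsAffineOpen (f ⁻¹ᵁ p' ⁻¹ᵁ V) := hV'.preimage f
  let A := Γ(S, V)
  let C := Γ(X', p' ⁻¹ᵁ V)
  let D := Γ(X, f ⁻¹ᵁ p' ⁻¹ᵁ V)
  letI : Algebra A C := (p'.app V).hom.toAlgebra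
  letI : Algebra A D := ((f ≫ p').app V).hom.toAlgebra
  have hcomp : ∀ a : A, ((f ≫ p').app V).hom a =
      (f.app (p' ⁻¹ᵁ V)).hom ((p'.app V).hom a) := fun _ => rfl
  haveI : IsNoetherianRing A := IsLocallyNoetherian.component_noetherian ⟨V, hV⟩
  haveI : Module.Finite A C := IsFinite.finite_app p' V hV
  haveI : Module.Finite A D := IsFinite.finite_app (f ≫ p') V hV
  haveI : Module.Flat A C := by
    have h := Scheme.Hom.flat_appLE p' hV hV' le_rfl
    rw [← Scheme.Hom.app_eq_appLE] at h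
    exact h
  haveI : Module.Flat A D := by
    have h := Scheme.Hom.flat_appLE (f ≫ p') hV (V := (f ≫ p') ⁻¹ᵁ V) hV'' le_rfl
    rw [← Scheme.Hom.app_eq_appLE] at h
    exact h
  let ψ : C →ₗ[A] D :=
    { toFun := (f.app (p' ⁻¹ᵁ V)).hom
      map_add' := map_add _
      map_smul' := fun a c => by
        rw [Algebra.smul_def, Algebra.smul_def, map_mul]
        rfl }
  have hψ : ∀ c, ψ c = (f.app (p' ⁻¹ᵁ V)).hom c := fun _ => rfl
  have hsmC : ∀ (a : A) (n : ℕ) (c : C), a ^ n • c = ((p'.app V).hom a) ^ n * c := by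
    intro a n c
    rw [Algebra.smul_def, map_pow]; rfl
  have hsmD : ∀ (a : A) (n : ℕ) (d : D),
      a ^ n • d = ((f.app (p' ⁻¹ᵁ V)).hom ((p'.app V).hom a)) ^ n * d := by
    intro a n d
    rw [Algebra.smul_def, map_pow, ← hcomp]; rfl
  suffices hb : Function.Bijective ψ from
    (ConcreteCategory.isIso_iff_bijective (f.app (p' ⁻¹ᵁ V))).2 hb
  refine Groth.Agent.H4.TqA.alg ψ ?_
  intro q hq hqh
  let P : Spec Γ(S, V) := ⟨q, hq⟩
  have hxV : hV.fromSpec P ∈ V := by
    rw [← SetLike.mem_coe, ← hV.range_fromSpec]; exact ⟨P, rfl⟩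
  have hprime := Groth.Agent.H1.DimIneq.primeIdealOf_fromSpec hV P hxV
  have hdim : ringKrullDim (S.presheaf.stalk (hV.fromSpec P)) ≤ 1 := by
    rw [Groth.Agent.H1.DimIneq.ringKrullDim_stalk_eq_height hV _ hxV, hprime]
    have : (q.height : WithBot ℕ∞) ≤ ((1 : ℕ∞) : WithBot ℕ∞) := WithBot.coe_le_coe.2 hqh
    exact this
  have hxU : hV.fromSpec P ∈ U := hmem _ hdim
  obtain ⟨a, haU, hxa⟩ := hV.exists_basicOpen_le (V := U) ⟨hV.fromSpec P, hxU⟩ hxV
  have haq : a ∉ q := by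
    letI := S.presheaf.algebra_section_stalk ⟨hV.fromSpec P, hxV⟩
    haveI := hV.isLocalization_stalk ⟨hV.fromSpec P, hxV⟩
    have h1 : IsUnit ((S.presheaf.germ V (hV.fromSpec P) hxV).hom a) :=
      (Scheme.mem_basicOpen S a (hV.fromSpec P) hxV).1 hxa
    have h2 := (IsLocalization.AtPrime.isUnit_to_map_iff (S.presheaf.stalk (hV.fromSpec P))
      (hV.primeIdealOf ⟨hV.fromSpec P, hxV⟩).asIdeal a).1 h1
    rw [hprime] at h2
    exact h2
  -- the basic open upstairs
  let r : Γ(X', p' ⁻¹ᵁ V) := (p'.app V).hom a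
  have hO : p' ⁻¹ᵁ S.basicOpen a = X'.basicOpen r := Scheme.preimage_basicOpen p' a
  have hle : X'.basicOpen r ≤ p' ⁻¹ᵁ U := by
    rw [← hO]; exact p'.preimage_mono haU
  have hisoO : IsIso (f ∣_ X'.basicOpen r) :=
    Groth.Agent.H6.FibIso.restrict_of_le (MorphismProperty.isomorphisms Scheme.{u}) f hle hiso
  have hisoapp : IsIso (f.app (X'.basicOpen r)) :=
    (isIso_morphismRestrict_iff_isIso_app f (hV'.basicOpen r)).1 hisoO
  have hbij : Function.Bijective (f.app (X'.basicOpen r)).hom :=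
    (ConcreteCategory.isIso_iff_bijective (f.app (X'.basicOpen r))).1 hisoapp
  refine ⟨a, haq, ?_, ?_⟩
  · intro c hc
    obtain ⟨n, hn⟩ := loc_ker f hV' r hbij.1 c hc
    exact ⟨n, by rw [hsmC]; exact hn⟩
  · intro d
    obtain ⟨n, c, hc⟩ := loc_range f hV' hV'' r hbij.2 d
    exact ⟨n, c, by rw [hsmD, hψ]; exact hc⟩

/-- **Main geometric statement**: `f` is an isomorphism as soon as it induces isomorphisms of
the fibres over the points of codimension `≤ 1`. -/
theorem main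
    (hfib : ∀ s : S, ringKrullDim (S.presheaf.stalk s) ≤ 1 →
      ∃ e : (f ≫ p').fiber s ≅ p'.fiber s, e.hom ≫ p'.fiberι s = (f ≫ p').fiberι s ≫ f) :
    IsIso f := by
  haveI : LocallyOfFinitePresentation p' := Groth.Agent.H1.EtNhd.lfp_of_lft_of_noetherian p'
  haveI : LocallyOfFinitePresentation (f ≫ p') :=
    Groth.Agent.H1.EtNhd.lfp_of_lft_of_noetherian (f ≫ p')
  obtain ⟨U, hU, hiso⟩ := Groth.Agent.H6.FibIso2.s10888 (f ≫ p') p' f rfl
  have hmem : ∀ s : S, ringKrullDim (S.presheaf.stalk s) ≤ 1 → s ∈ U :=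
    fun s hs => (hU s).2 (hfib s hs)
  haveI : IsAffineHom f := IsAffineHom.of_comp f p'
  have hcov : (⨆ V : S.affineOpens, p' ⁻¹ᵁ (V : S.Opens)) = ⊤ := by
    rw [← Scheme.Hom.preimage_iSup, iSup_affineOpens_eq_top]; rfl
  show (MorphismProperty.isomorphisms Scheme.{u}) f
  rw [IsZariskiLocalAtTarget.iff_of_iSup_eq_top (P := MorphismProperty.isomorphisms Scheme.{u})
    _ hcov]
  intro V
  exact (isIso_morphismRestrict_iff_isIso_app f (V.2.preimage p')).2
    (key p' f U hmem V.1 V.2)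

end Main

/-- variant with an explicit structure morphism of the source. -/
theorem main' {S X X' : Scheme.{u}} [IsNoetherian S] (p' : X' ⟶ S) (f : X ⟶ X')
    [IsFinite p'] [Flat p'] (p : X ⟶ S) (w : f ≫ p' = p) [IsFinite p] [Flat p]
    (hfib : ∀ s : S, ringKrullDim (S.presheaf.stalk s) ≤ 1 →
      ∃ e : p.fiber s ≅ p'.fiber s, e.hom ≫ p'.fiberι s = p.fiberι s ≫ f) :
    IsIso f := by
  subst w
  exact main p' f hfib

end Groth.Agent.H4.TqB
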