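import Mathlib

set_option autoImplicit false
set_option linter.unusedSectionVars false
set_option linter.unusedVariables false

open Polynomial TensorProduct

namespace Groth.Agent.H4.TrDiffP

universe u

/-! ### Part 1: the left ideal `E·δ` of the exterior algebra -/
section ExtPart
variable {R : Type u} [CommRing R] {M : Type u} [AddCommGroup M] [Module R M]

theorem comm_aux (m₀ : M) (e : ExteriorAlgebra R M) :
    ∃ e' : ExteriorAlgebra R M, e * ExteriorAlgebra.ι R m₀ = ExteriorAlgebra.ι R m₀ * e' := by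
  refine ExteriorAlgebra.induction (C := fun e => ∃ e' : ExteriorAlgebra R M,
    e * ExteriorAlgebra.ι R m₀ = ExteriorAlgebra.ι R m₀ * e') ?_ ?_ ?_ ?_ e
  · intro r
    exact ⟨algebraMap R _ r, Algebra.commutes r _⟩
  · intro x
    refine ⟨-ExteriorAlgebra.ι R x, ?_⟩
    have h := ExteriorAlgebra.ι_add_mul_swap (R := R) x m₀
    rw [mul_neg]
    exact eq_neg_of_add_eq_zero_left h
  · rintro a b ⟨a', ha⟩ ⟨b', hb⟩
    exact ⟨a' * b', by rw [mul_assoc, hb, ← mul_assoc, ha, mul_assoc]⟩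
  · rintro a b ⟨a', ha⟩ ⟨b', hb⟩
    exact ⟨a' + b', by rw [add_mul, ha, hb, mul_add]⟩

theorem mul_mul_zero (m₀ : M) (e : ExteriorAlgebra R M) :
    ExteriorAlgebra.ι R m₀ * (e * ExteriorAlgebra.ι R m₀) = 0 := by
  obtain ⟨e', he⟩ := comm_aux m₀ e
  rw [he, ← mul_assoc, ExteriorAlgebra.ι_sq_zero, zero_mul]

variable (m₀ : M)

/-- the left ideal `E·δ` as a submodule -/
def Y : Submodule R (ExteriorAlgebra R M) :=
  LinearMap.range (LinearMap.mulRight R (ExteriorAlgebra.ι R m₀))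

theorem mem_Y (y : ExteriorAlgebra R M) :
    y ∈ Y m₀ ↔ ∃ e, e * ExteriorAlgebra.ι R m₀ = y := by
  simp [Y, LinearMap.mem_range]

def δY : Y (R := R) m₀ := ⟨ExteriorAlgebra.ι R m₀, (mem_Y m₀ _).2 ⟨1, one_mul _⟩⟩

/-- left multiplication by `ι m` on `Y` -/
def ell (m : M) : Y (R := R) m₀ →ₗ[R] Y (R := R) m₀ where
  toFun y := ⟨ExteriorAlgebra.ι R m * y.1, by
    obtain ⟨e, he⟩ := (mem_Y m₀ _).1 y.2
    exact (mem_Y m₀ _).2 ⟨ExteriorAlgebra.ι R m * e, by rw [mul_assoc, he]⟩⟩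
  map_add' y y' := by
    apply Subtype.ext
    simp [mul_add]
  map_smul' r y := by
    apply Subtype.ext
    simp

theorem ell_coe (m : M) (y : Y (R := R) m₀) :
    ((ell m₀ m y : Y m₀) : ExteriorAlgebra R M) = ExteriorAlgebra.ι R m * y.1 := rfl

def ellHom : M →ₗ[R] Module.End R (Y (R := R) m₀) where
  toFun := ell m₀
  map_add' m m' := by
    refine LinearMap.ext fun y => Subtype.ext ?_
    simp [ell_coe, add_mul]
  map_smul' r m := by
    refine LinearMap.ext fun y => Subtype.ext ?_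
    simp [ell_coe]

theorem ellHom_coe (m : M) (y : Y (R := R) m₀) :
    ((ellHom m₀ m y : Y m₀) : ExteriorAlgebra R M) = ExteriorAlgebra.ι R m * y.1 := rfl

theorem ell_anti (m m' : M) :
    ellHom (R := R) m₀ m * ellHom (R := R) m₀ m' + ellHom (R := R) m₀ m' * ellHom (R := R) m₀ m = 0 := by
  refine LinearMap.ext fun y => Subtype.ext ?_
  have h := ExteriorAlgebra.ι_add_mul_swap (R := R) m m'
  show ExteriorAlgebra.ι R m * (ExteriorAlgebra.ι R m' * y.1) +
    ExteriorAlgebra.ι R m' * (ExteriorAlgebra.ι R m * y.1) = 0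
  rw [← mul_assoc, ← mul_assoc, ← add_mul, h, zero_mul]

theorem ell_sq (m : M) : ellHom (R := R) m₀ m * ellHom (R := R) m₀ m = 0 := by
  refine LinearMap.ext fun y => Subtype.ext ?_
  show ExteriorAlgebra.ι R m * (ExteriorAlgebra.ι R m * y.1) = 0
  rw [← mul_assoc, ExteriorAlgebra.ι_sq_zero, zero_mul]

theorem ell_m₀ : ellHom (R := R) m₀ m₀ = 0 := by
  refine LinearMap.ext fun y => Subtype.ext ?_
  obtain ⟨e, he⟩ := (mem_Y m₀ _).1 y.2
  show ExteriorAlgebra.ι R m₀ * y.1 = 0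
  rw [← he]
  exact mul_mul_zero m₀ e

theorem ellprod_coe (ms : List M) (y : Y (R := R) m₀) :
    ((((ms.map (ellHom m₀)).prod) y : Y m₀) : ExteriorAlgebra R M) =
      (ms.map (ExteriorAlgebra.ι R)).prod * y.1 := by
  induction ms with
  | nil => simp
  | cons m ms ih =>
    simp only [List.map_cons, List.prod_cons, Module.End.mul_apply, mul_assoc]
    rw [← ih]
    rfl

end ExtPart

/-! ### Part 2: operators on `V = W × W`, `W = S ⊗ Yt` -/
section VPart
variable {R S : Type u} [CommRing R] [CommRing S] [Algebra R S] {M Yt : Type u}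
  [AddCommGroup M] [Module R M] [AddCommGroup Yt] [Module R Yt]
  (ℓ : M →ₗ[R] Module.End R Yt)

/-- base-changed operators on `W = S ⊗ Yt` -/
noncomputable def bb : M →ₗ[R] Module.End S (S ⊗[R] Yt) :=
  (Module.End.baseChangeHom R S Yt).toLinearMap ∘ₗ ℓ

theorem bb_tmul (m : M) (s : S) (y : Yt) :
    bb (S := S) ℓ m (s ⊗ₜ[R] y) = s ⊗ₜ[R] (ℓ m y) := rfl

theorem bb_anti (h : ∀ m m', ℓ m * ℓ m' + ℓ m' * ℓ m = 0) (m m' : M) (w : S ⊗[R] Yt) :
    bb (S := S) ℓ m (bb (S := S) ℓ m' w) + bb (S := S) ℓ m' (bb (S := S) ℓ m w) = 0 := by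
  have h1 : bb (S := S) ℓ m * bb (S := S) ℓ m' + bb (S := S) ℓ m' * bb (S := S) ℓ m = 0 := by
    simp only [bb, LinearMap.comp_apply, AlgHom.toLinearMap_apply, ← map_mul, ← map_add, h,
      map_zero]
  simpa [Module.End.mul_apply] using LinearMap.congr_fun h1 w

theorem bb_sq (h : ∀ m, ℓ m * ℓ m = 0) (m : M) (w : S ⊗[R] Yt) :
    bb (S := S) ℓ m (bb (S := S) ℓ m w) = 0 := by
  have h1 : bb (S := S) ℓ m * bb (S := S) ℓ m = 0 := by
    simp only [bb, LinearMap.comp_apply, AlgHom.toLinearMap_apply, ← map_mul, h, map_zero]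
  simpa [Module.End.mul_apply] using LinearMap.congr_fun h1 w

theorem bb_zero_of (m : M) (h : ℓ m = 0) : bb (S := S) ℓ m = 0 := by
  simp [bb, h]

theorem bbprod_tmul (ms : List M) (s : S) (y : Yt) :
    ((ms.map (bb (S := S) ℓ)).prod) (s ⊗ₜ[R] y) = s ⊗ₜ[R] (((ms.map ℓ).prod) y) := by
  induction ms with
  | nil => simp
  | cons m ms ih =>
    simp only [List.map_cons, List.prod_cons, Module.End.mul_apply, ih, bb_tmul]

noncomputable def Lp : M →ₗ[R] Module.End S ((S ⊗[R] Yt) × (S ⊗[R] Yt)) where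
  toFun m := LinearMap.prodMap (-(bb (S := S) ℓ m)) (bb (S := S) ℓ m)
  map_add' m m' := by
    refine LinearMap.ext fun v => Prod.ext ?_ ?_
    · show -(bb (S := S) ℓ (m + m') v.1) = -(bb (S := S) ℓ m v.1) + -(bb (S := S) ℓ m' v.1)
      rw [map_add, LinearMap.add_apply, neg_add]
    · show bb (S := S) ℓ (m + m') v.2 = bb (S := S) ℓ m v.2 + bb (S := S) ℓ m' v.2
      rw [map_add, LinearMap.add_apply]
  map_smul' r m := by
    refine LinearMap.ext fun v => Prod.ext ?_ ?_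
    · show -(bb (S := S) ℓ (r • m) v.1) = r • -(bb (S := S) ℓ m v.1)
      rw [map_smul, LinearMap.smul_apply, smul_neg]
    · show bb (S := S) ℓ (r • m) v.2 = r • bb (S := S) ℓ m v.2
      rw [map_smul, LinearMap.smul_apply]

noncomputable def eps : Module.End S ((S ⊗[R] Yt) × (S ⊗[R] Yt)) :=
  (LinearMap.inr S (S ⊗[R] Yt) (S ⊗[R] Yt)) ∘ₗ (LinearMap.fst S (S ⊗[R] Yt) (S ⊗[R] Yt))

theorem Lp_apply (m : M) (v : (S ⊗[R] Yt) × (S ⊗[R] Yt)) :
    Lp (S := S) ℓ m v = (-(bb (S := S) ℓ m v.1), bb (S := S) ℓ m v.2) := rfl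

theorem eps_apply (v : (S ⊗[R] Yt) × (S ⊗[R] Yt)) :
    eps (R := R) (S := S) (Yt := Yt) v = (0, v.1) := rfl

theorem Lp_anti (h : ∀ m m', ℓ m * ℓ m' + ℓ m' * ℓ m = 0) (m m' : M) :
    Lp (S := S) ℓ m * Lp (S := S) ℓ m' + Lp (S := S) ℓ m' * Lp (S := S) ℓ m = 0 := by
  refine LinearMap.ext fun v => Prod.ext ?_ ?_
  · simpa [Lp_apply, Module.End.mul_apply] using bb_anti (S := S) ℓ h m m' v.1
  · simpa [Lp_apply, Module.End.mul_apply] using bb_anti (S := S) ℓ h m m' v.2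

theorem Lp_sq (h : ∀ m, ℓ m * ℓ m = 0) (m : M) :
    Lp (S := S) ℓ m * Lp (S := S) ℓ m = 0 := by
  refine LinearMap.ext fun v => Prod.ext ?_ ?_
  · simpa [Lp_apply, Module.End.mul_apply] using bb_sq (S := S) ℓ h m v.1
  · simpa [Lp_apply, Module.End.mul_apply] using bb_sq (S := S) ℓ h m v.2

theorem eps_sq : eps (R := R) (S := S) (Yt := Yt) * eps (R := R) (S := S) (Yt := Yt) = 0 := by
  refine LinearMap.ext fun v => ?_
  simp [Module.End.mul_apply, eps_apply]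

theorem Lp_eps (m : M) :
    Lp (S := S) ℓ m * eps (R := R) (S := S) (Yt := Yt) +
      eps (R := R) (S := S) (Yt := Yt) * Lp (S := S) ℓ m = 0 := by
  refine LinearMap.ext fun v => ?_
  simp [Module.End.mul_apply, eps_apply, Lp_apply]

theorem Lp_zero_of (m : M) (h : ℓ m = 0) : Lp (S := S) ℓ m = 0 := by
  refine LinearMap.ext fun v => Prod.ext ?_ ?_ <;> simp [Lp_apply, bb_zero_of ℓ m h]

theorem snd_prod_Lp (ms : List M) (v : (S ⊗[R] Yt) × (S ⊗[R] Yt)) :
    (((ms.map (Lp (S := S) ℓ)).prod) v).2 = ((ms.map (bb (S := S) ℓ)).prod) v.2 := by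
  induction ms generalizing v with
  | nil => simp
  | cons m ms ih =>
    simp only [List.map_cons, List.prod_cons, Module.End.mul_apply, Lp_apply, ih]

end VPart

/-! ### Part 3: derivations of `AdjoinRoot g` -/
section AdjDer
variable {Λ R : Type u} [CommRing Λ] [CommRing R] [Algebra Λ R] (g : R[X])
  {A₀ : Type u} [AddCommGroup A₀] [Module (AdjoinRoot g) A₀] [Module R A₀]
  [IsScalarTower R (AdjoinRoot g) A₀] [Module Λ A₀] [IsScalarTower Λ (AdjoinRoot g) A₀]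
  (d₀ : Derivation Λ R A₀) (mx : A₀)

noncomputable def E1 (P : R[X]) : A₀ := P.sum (fun i r => (AdjoinRoot.root g) ^ i • d₀ r)

noncomputable def Dt (P : R[X]) : A₀ :=
  E1 g d₀ P + (AdjoinRoot.mk g (derivative P)) • mx

theorem E1_add (P Q : R[X]) : E1 g d₀ (P + Q) = E1 g d₀ P + E1 g d₀ Q := by
  unfold E1
  rw [Polynomial.sum_add_index]
  · intro i; simp
  · intro i r r'; simp [smul_add]

theorem E1_monomial (n : ℕ) (r : R) :
    E1 g d₀ (monomial n r) = (AdjoinRoot.root g) ^ n • d₀ r := by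
  unfold E1
  rw [Polynomial.sum_monomial_index]
  simp

theorem mk_monomial (n : ℕ) (r : R) :
    AdjoinRoot.mk g (monomial n r) = AdjoinRoot.of g r * (AdjoinRoot.root g) ^ n := by
  rw [← C_mul_X_pow_eq_monomial, map_mul, map_pow, AdjoinRoot.mk_C, AdjoinRoot.mk_X]

theorem of_smul (r : R) (y : A₀) : (AdjoinRoot.of g r) • y = r • y := by
  rw [← AdjoinRoot.algebraMap_eq, algebraMap_smul]

theorem E1_mul (P Q : R[X]) :
    E1 g d₀ (P * Q) = AdjoinRoot.mk g P • E1 g d₀ Q + AdjoinRoot.mk g Q • E1 g d₀ P := by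
  induction P using Polynomial.induction_on' with
  | add P₁ P₂ h₁ h₂ =>
    rw [add_mul, E1_add, h₁, h₂, map_add, add_smul, E1_add, smul_add]; abel
  | monomial n r =>
    induction Q using Polynomial.induction_on' with
    | add Q₁ Q₂ h₁ h₂ =>
      rw [mul_add, E1_add, h₁, h₂, map_add, add_smul, E1_add, smul_add]; abel
    | monomial k r' =>
      rw [monomial_mul_monomial, E1_monomial, E1_monomial, E1_monomial, mk_monomial, mk_monomial,
        Derivation.leibniz, smul_add, ← of_smul g r, ← of_smul g r']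
      simp only [smul_smul]
      congr 1 <;> congr 1 <;> ring

theorem E2_mul (P Q : R[X]) :
    AdjoinRoot.mk g (derivative (P * Q)) • mx =
      AdjoinRoot.mk g P • (AdjoinRoot.mk g (derivative Q) • mx) +
        AdjoinRoot.mk g Q • (AdjoinRoot.mk g (derivative P) • mx) := by
  simp only [derivative_mul, map_add, map_mul, add_smul, smul_smul]
  rw [add_comm, mul_comm (AdjoinRoot.mk g Q)]

theorem Dt_add (P Q : R[X]) : Dt g d₀ mx (P + Q) = Dt g d₀ mx P + Dt g d₀ mx Q := by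
  unfold Dt
  rw [E1_add, derivative_add, map_add, add_smul]; abel

theorem Dt_mul (P Q : R[X]) :
    Dt g d₀ mx (P * Q) = AdjoinRoot.mk g P • Dt g d₀ mx Q + AdjoinRoot.mk g Q • Dt g d₀ mx P := by
  unfold Dt
  rw [E1_mul, E2_mul, smul_add, smul_add]; abel

theorem Dt_C (r : R) : Dt g d₀ mx (C r) = d₀ r := by
  unfold Dt E1
  rw [Polynomial.sum_C_index, derivative_C]
  · simp
  · simp

theorem Dt_X : Dt g d₀ mx X = mx := by
  unfold Dt E1
  rw [Polynomial.sum_X_index, derivative_X]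
  · simp
  · simp

theorem Dt_X_pow (n : ℕ) (hn : (n : R) = 0) : Dt g d₀ mx (X ^ n) = 0 := by
  unfold Dt
  rw [← monomial_one_right_eq_X_pow, E1_monomial, Derivation.map_one_eq_zero, smul_zero, zero_add,
    monomial_one_right_eq_X_pow, derivative_X_pow, hn, C_0, zero_mul, map_zero, zero_smul]

theorem Dt_wd (hg : Dt g d₀ mx g = 0) {P Q : R[X]} (h : AdjoinRoot.mk g P = AdjoinRoot.mk g Q) :
    Dt g d₀ mx P = Dt g d₀ mx Q := by
  rw [AdjoinRoot.mk_eq_mk] at h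
  obtain ⟨H, hH⟩ := h
  have hP : P = Q + g * H := by rw [← hH]; ring
  rw [hP, Dt_add, Dt_mul, hg, AdjoinRoot.mk_self, smul_zero, zero_smul, add_zero, add_zero]

noncomputable def Dfun (s : AdjoinRoot g) : A₀ :=
  Dt g d₀ mx (Function.surjInv (AdjoinRoot.mk_surjective : Function.Surjective (AdjoinRoot.mk g)) s)

theorem Dfun_mk (hg : Dt g d₀ mx g = 0) (P : R[X]) :
    Dfun g d₀ mx (AdjoinRoot.mk g P) = Dt g d₀ mx P :=
  Dt_wd g d₀ mx hg (Function.surjInv_eq _ _)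

theorem Dfun_add (hg : Dt g d₀ mx g = 0) (s s' : AdjoinRoot g) :
    Dfun g d₀ mx (s + s') = Dfun g d₀ mx s + Dfun g d₀ mx s' := by
  obtain ⟨P, rfl⟩ := AdjoinRoot.mk_surjective s
  obtain ⟨Q, rfl⟩ := AdjoinRoot.mk_surjective s'
  rw [← map_add, Dfun_mk g d₀ mx hg, Dfun_mk g d₀ mx hg, Dfun_mk g d₀ mx hg, Dt_add]

theorem Dfun_mul (hg : Dt g d₀ mx g = 0) (s s' : AdjoinRoot g) :
    Dfun g d₀ mx (s * s') = s • Dfun g d₀ mx s' + s' • Dfun g d₀ mx s := by
  obtain ⟨P, rfl⟩ := AdjoinRoot.mk_surjective s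
  obtain ⟨Q, rfl⟩ := AdjoinRoot.mk_surjective s'
  rw [← map_mul, Dfun_mk g d₀ mx hg, Dfun_mk g d₀ mx hg, Dfun_mk g d₀ mx hg, Dt_mul]

theorem Dfun_of (hg : Dt g d₀ mx g = 0) (r : R) :
    Dfun g d₀ mx (AdjoinRoot.of g r) = d₀ r := by
  rw [← AdjoinRoot.mk_C, Dfun_mk g d₀ mx hg, Dt_C]

theorem Dfun_root (hg : Dt g d₀ mx g = 0) :
    Dfun g d₀ mx (AdjoinRoot.root g) = mx := by
  rw [← AdjoinRoot.mk_X, Dfun_mk g d₀ mx hg, Dt_X]

theorem Dfun_algebraMap (hg : Dt g d₀ mx g = 0) (c : Λ) :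
    Dfun g d₀ mx (algebraMap Λ (AdjoinRoot g) c) = 0 := by
  rw [IsScalarTower.algebraMap_apply Λ R (AdjoinRoot g) c, AdjoinRoot.algebraMap_eq,
    Dfun_of g d₀ mx hg, Derivation.map_algebraMap]

noncomputable def Dder (hg : Dt g d₀ mx g = 0) : Derivation Λ (AdjoinRoot g) A₀ where
  toLinearMap :=
    { toFun := Dfun g d₀ mx
      map_add' := Dfun_add g d₀ mx hg
      map_smul' := fun c s => by
        rw [RingHom.id_apply, Algebra.smul_def, Dfun_mul g d₀ mx hg, Dfun_algebraMap g d₀ mx hg,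
          smul_zero, add_zero, algebraMap_smul] }
  map_one_eq_zero' := by
    show Dfun g d₀ mx 1 = 0
    rw [show (1 : AdjoinRoot g) = AdjoinRoot.of g 1 by rw [map_one], Dfun_of g d₀ mx hg,
      Derivation.map_one_eq_zero]
  leibniz' := fun s s' => Dfun_mul g d₀ mx hg s s'

theorem Dder_apply (hg : Dt g d₀ mx g = 0) (s : AdjoinRoot g) :
    Dder g d₀ mx hg s = Dfun g d₀ mx s := rfl

end AdjDer

/-! ### Part 4: span of anticommuting square-zero elements -/
section SpanPart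

theorem sq_zero_of_span {S A : Type u} [CommRing S] [Ring A] [Algebra S A] (G : Set A)
    (h1 : ∀ T ∈ G, T * T = 0) (h2 : ∀ T ∈ G, ∀ T' ∈ G, T * T' + T' * T = 0) :
    ∀ T ∈ Submodule.span S G, T * T = 0 := by
  have a1 : ∀ T ∈ Submodule.span S G, ∀ T' ∈ G, T * T' + T' * T = 0 := by
    intro T hT T' hT'
    induction hT using Submodule.span_induction with
    | mem x hx => exact h2 x hx T' hT'
    | zero => simp
    | add x y _ _ hx hy =>
      calc (x + y) * T' + T' * (x + y) = (x * T' + T' * x) + (y * T' + T' * y) := by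
            noncomm_ring
        _ = 0 := by rw [hx, hy, add_zero]
    | smul s x _ hx =>
      rw [smul_mul_assoc, mul_smul_comm, ← smul_add, hx, smul_zero]
  have a2 : ∀ T ∈ Submodule.span S G, ∀ T' ∈ Submodule.span S G, T * T' + T' * T = 0 := by
    intro T hT T' hT'
    induction hT' using Submodule.span_induction with
    | mem x hx => exact a1 T hT x hx
    | zero => simp
    | add x y _ _ hx hy =>
      calc T * (x + y) + (x + y) * T = (T * x + x * T) + (T * y + y * T) := by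
            noncomm_ring
        _ = 0 := by rw [hx, hy, add_zero]
    | smul s x _ hx =>
      rw [smul_mul_assoc, mul_smul_comm, ← smul_add, hx, smul_zero]
  intro T hT
  induction hT using Submodule.span_induction with
  | mem x hx => exact h1 x hx
  | zero => simp
  | add x y hx hy ihx ihy =>
    have h := a2 x hx y hy
    calc (x + y) * (x + y) = x * x + y * y + (x * y + y * x) := by noncomm_ring
      _ = 0 := by rw [ihx, ihy, h]; simp
  | smul s x hx ih =>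
    rw [smul_mul_assoc, mul_smul_comm, ih, smul_zero, smul_zero]

end SpanPart

/-! ### Part 5: assembly -/
section GenSnoc
variable {R : Type u} [CommRing R] {M : Type u} [AddCommGroup M] [Module R M]

theorem ιMulti_snoc_coe (t : ℕ) (η : Fin t → M) (m : M) :
    ((exteriorPower.ιMulti R (t + 1) (Fin.snoc η m) : ⋀[R]^(t + 1) M) : ExteriorAlgebra R M) =
      ((List.ofFn η).map (ExteriorAlgebra.ι R)).prod * ExteriorAlgebra.ι R m := by
  rw [exteriorPower.ιMulti_apply_coe, ExteriorAlgebra.ιMulti_apply, List.ofFn_succ',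
    List.concat_eq_append, List.prod_append, List.prod_singleton]
  simp only [Fin.snoc_castSucc, Fin.snoc_last]
  rw [List.ofFn_comp' η (ExteriorAlgebra.ι R)]

end GenSnoc

section Main
variable (p : ℕ) [Fact p.Prime] (Λ R : Type u) [CommRing Λ] [CommRing R] [Algebra Λ R]
  [CharP R p] (a : R)

noncomputable abbrev gp : R[X] := X ^ p - C a
abbrev Sa : Type u := AdjoinRoot (gp p R a)
noncomputable abbrev m0 : Ω[R⁄Λ] := KaehlerDifferential.D Λ R a
abbrev YY : Type u := ↥(Y (R := R) (m0 Λ R a))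
abbrev WW : Type u := (Sa p R a) ⊗[R] (YY Λ R a)
abbrev AA : Type u := Module.End (Sa p R a) (WW p Λ R a × WW p Λ R a)

noncomputable abbrev ellM : Ω[R⁄Λ] →ₗ[R] Module.End R (YY Λ R a) :=
  ellHom (R := R) (m0 Λ R a)

noncomputable abbrev LpM : Ω[R⁄Λ] →ₗ[R] AA p Λ R a := Lp (S := Sa p R a) (ellM Λ R a)

noncomputable abbrev epsM : AA p Λ R a := eps (R := R) (S := Sa p R a) (Yt := YY Λ R a)

noncomputable def d0 : Derivation Λ R (AA p Λ R a) :=
  (LpM p Λ R a).compDer (KaehlerDifferential.D Λ R)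

theorem d0_apply (r : R) : d0 p Λ R a r = LpM p Λ R a (KaehlerDifferential.D Λ R r) := rfl

theorem hg_main : Dt (gp p R a) (d0 p Λ R a) (epsM p Λ R a) (gp p R a) = 0 := by
  have h1 : Dt (gp p R a) (d0 p Λ R a) (epsM p Λ R a) (X ^ p - C a) +
      Dt (gp p R a) (d0 p Λ R a) (epsM p Λ R a) (C a) =
      Dt (gp p R a) (d0 p Λ R a) (epsM p Λ R a) (X ^ p) := by
    rw [← Dt_add, sub_add_cancel]
  rw [Dt_X_pow _ _ _ p (CharP.cast_eq_zero R p), Dt_C, d0_apply] at h1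
  have h2 : LpM p Λ R a (KaehlerDifferential.D Λ R a) = 0 := Lp_zero_of _ _ (ell_m₀ _)
  rw [h2, add_zero] at h1
  exact h1

set_option maxHeartbeats 1600000 in
noncomputable def Dtot : Derivation Λ (Sa p R a) (AA p Λ R a) :=
  Dder (Λ := Λ) (R := R) (A₀ := AA p Λ R a) (gp p R a) (d0 p Λ R a) (epsM p Λ R a) (hg_main p Λ R a)

noncomputable def ff : Ω[Sa p R a⁄Λ] →ₗ[Sa p R a] AA p Λ R a :=
  Derivation.liftKaehlerDifferential (R := Λ) (S := Sa p R a) (M := AA p Λ R a) (Dtot p Λ R a)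

theorem ff_D (s : Sa p R a) :
    ff p Λ R a (KaehlerDifferential.D Λ (Sa p R a) s) =
      Dfun (gp p R a) (d0 p Λ R a) (epsM p Λ R a) s := by
  unfold ff
  rw [Derivation.liftKaehlerDifferential_comp_D]
  rfl

def GG : Set (AA p Λ R a) := Set.range (LpM p Λ R a) ∪ {epsM p Λ R a}

theorem GG_sq : ∀ T ∈ GG p Λ R a, T * T = 0 := by
  rintro T (⟨m, rfl⟩ | rfl)
  · exact Lp_sq _ (ell_sq _) m
  · exact eps_sq

theorem GG_anti : ∀ T ∈ GG p Λ R a, ∀ T' ∈ GG p Λ R a, T * T' + T' * T = 0 := by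
  rintro T (⟨m, rfl⟩ | rfl) T' (⟨m', rfl⟩ | rfl)
  · exact Lp_anti _ (ell_anti _) m m'
  · exact Lp_eps _ m
  · rw [add_comm]; exact Lp_eps _ m'
  · rw [show epsM p Λ R a * epsM p Λ R a = 0 from eps_sq, add_zero]

theorem Dfun_mem (s : Sa p R a) :
    Dfun (gp p R a) (d0 p Λ R a) (epsM p Λ R a) s ∈
      Submodule.span (Sa p R a) (GG p Λ R a) := by
  obtain ⟨P, rfl⟩ := AdjoinRoot.mk_surjective s
  rw [Dfun_mk _ _ _ (hg_main p Λ R a)]
  unfold Dt E1
  rw [Polynomial.sum_def]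
  refine Submodule.add_mem _ (Submodule.sum_mem _ fun i _ => Submodule.smul_mem _ _
    (Submodule.subset_span (Or.inl ⟨KaehlerDifferential.D Λ R (P.coeff i), rfl⟩)))
    (Submodule.smul_mem _ _ (Submodule.subset_span (Or.inr rfl)))

theorem ff_mem (ω : Ω[Sa p R a⁄Λ]) :
    ff p Λ R a ω ∈ Submodule.span (Sa p R a) (GG p Λ R a) := by
  have h : (⊤ : Submodule (Sa p R a) Ω[Sa p R a⁄Λ]) ≤
      (Submodule.span (Sa p R a) (GG p Λ R a)).comap (ff p Λ R a) := by
    rw [← KaehlerDifferential.span_range_derivation Λ (Sa p R a), Submodule.span_le]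
    rintro _ ⟨s, rfl⟩
    show ff p Λ R a (KaehlerDifferential.D Λ (Sa p R a) s) ∈
      Submodule.span (Sa p R a) (GG p Λ R a)
    rw [ff_D]
    exact Dfun_mem p Λ R a s
  exact h Submodule.mem_top

theorem ff_sq (ω : Ω[Sa p R a⁄Λ]) : ff p Λ R a ω * ff p Λ R a ω = 0 :=
  sq_zero_of_span (GG p Λ R a) (GG_sq p Λ R a) (GG_anti p Λ R a) _ (ff_mem p Λ R a ω)

noncomputable def FF : ExteriorAlgebra (Sa p R a) Ω[Sa p R a⁄Λ] →ₐ[Sa p R a] AA p Λ R a :=
  ExteriorAlgebra.lift (Sa p R a) ⟨ff p Λ R a, ff_sq p Λ R a⟩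

theorem FF_ι (ω : Ω[Sa p R a⁄Λ]) :
    FF p Λ R a (ExteriorAlgebra.ι (Sa p R a) ω) = ff p Λ R a ω := by
  unfold FF
  simp

theorem FF_ιMulti (n : ℕ) (v : Fin n → Ω[Sa p R a⁄Λ]) :
    FF p Λ R a (ExteriorAlgebra.ιMulti (Sa p R a) n v) =
      (List.ofFn fun i => ff p Λ R a (v i)).prod := by
  rw [ExteriorAlgebra.ιMulti_apply, map_list_prod, List.map_ofFn]
  refine congrArg List.prod (congrArg List.ofFn (funext fun i => ?_))
  exact FF_ι p Λ R a (v i)

theorem ff_map (η : Ω[R⁄Λ]) :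
    ff p Λ R a (KaehlerDifferential.map Λ Λ R (Sa p R a) η) = LpM p Λ R a η := by
  have h : ((ff p Λ R a).restrictScalars R) ∘ₗ (KaehlerDifferential.map Λ Λ R (Sa p R a)) =
      LpM p Λ R a := by
    apply LinearMap.ext_on (KaehlerDifferential.span_range_derivation Λ R)
    rintro _ ⟨r, rfl⟩
    rw [LinearMap.comp_apply, LinearMap.restrictScalars_apply, KaehlerDifferential.map_D, ff_D,
      AdjoinRoot.algebraMap_eq, Dfun_of _ _ _ (hg_main p Λ R a), d0_apply]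
  exact LinearMap.congr_fun h η

theorem ff_last (i : ℕ) :
    ff p Λ R a ((AdjoinRoot.root (gp p R a)) ^ i •
      KaehlerDifferential.D Λ (Sa p R a) (AdjoinRoot.root (gp p R a))) =
      (AdjoinRoot.root (gp p R a)) ^ i • epsM p Λ R a := by
  rw [map_smul, ff_D, Dfun_root _ _ _ (hg_main p Λ R a)]

theorem gp_monic : (gp p R a).Monic := monic_X_pow_sub_C a (Fact.out : p.Prime).ne_zero

noncomputable def cc : Sa p R a →ₗ[R] R :=
  (Polynomial.lcoeff R (p - 1)) ∘ₗ (AdjoinRoot.modByMonicHom (gp_monic p R a))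

theorem cc_root_pow (i : ℕ) (hi : i < p) :
    cc p R a ((AdjoinRoot.root (gp p R a)) ^ i) = if p - 1 = i then 1 else 0 := by
  haveI : Nontrivial R := CharP.nontrivial_of_char_ne_one (R := R) (Fact.out : p.Prime).ne_one
  have h : (AdjoinRoot.root (gp p R a)) ^ i = AdjoinRoot.mk (gp p R a) (X ^ i) := by
    rw [map_pow, AdjoinRoot.mk_X]
  have hdeg : (X ^ i : R[X]).degree < (gp p R a).degree := by
    rw [degree_X_pow_sub_C (Fact.out : p.Prime).pos a, degree_X_pow]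
    exact_mod_cast hi
  rw [h, cc, LinearMap.comp_apply, AdjoinRoot.modByMonicHom_mk,
    (Polynomial.modByMonic_eq_self_iff (gp_monic p R a)).2 hdeg, lcoeff_apply, coeff_X_pow]

noncomputable def lam1 : WW p Λ R a →ₗ[R] ExteriorAlgebra R Ω[R⁄Λ] :=
  (TensorProduct.lid R (ExteriorAlgebra R Ω[R⁄Λ])).toLinearMap ∘ₗ
    TensorProduct.map (cc p R a) (Y (R := R) (m0 Λ R a)).subtype

theorem lam1_tmul (s : Sa p R a) (y : YY Λ R a) :
    lam1 p Λ R a (s ⊗ₜ[R] y) = cc p R a s • (y : ExteriorAlgebra R Ω[R⁄Λ]) := by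
  simp [lam1]

noncomputable def proj (t : ℕ) : ExteriorAlgebra R Ω[R⁄Λ] →ₗ[R] ⋀[R]^(t + 1) Ω[R⁄Λ] :=
  (DirectSum.component R ℕ (fun i => ↥(⋀[R]^i Ω[R⁄Λ])) (t + 1)) ∘ₗ
    (ExteriorAlgebra.GradedAlgebra.liftι R Ω[R⁄Λ]).toLinearMap

theorem proj_coe (t : ℕ) (z : ⋀[R]^(t + 1) Ω[R⁄Λ]) :
    proj Λ R t (z : ExteriorAlgebra R Ω[R⁄Λ]) = z := by
  unfold proj
  rw [LinearMap.comp_apply, AlgHom.toLinearMap_apply, ExteriorAlgebra.GradedAlgebra.liftι_eq]
  exact DirectSum.of_eq_same _ _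

noncomputable def v0 : WW p Λ R a × WW p Λ R a :=
  ((1 : Sa p R a) ⊗ₜ[R] (δY (R := R) (m0 Λ R a)), 0)

noncomputable def TrFun (t : ℕ) (z : ⋀[Sa p R a]^(t + 1) Ω[Sa p R a⁄Λ]) :
    ⋀[R]^(t + 1) Ω[R⁄Λ] :=
  proj Λ R t (lam1 p Λ R a
    ((FF p Λ R a (z : ExteriorAlgebra (Sa p R a) Ω[Sa p R a⁄Λ])) (v0 p Λ R a)).2)

noncomputable def Tr (t : ℕ) : ⋀[Sa p R a]^(t + 1) Ω[Sa p R a⁄Λ] →+ ⋀[R]^(t + 1) Ω[R⁄Λ] :=
  AddMonoidHom.mk' (TrFun p Λ R a t) (by
    intro z z'
    simp only [TrFun, Submodule.coe_add, map_add, LinearMap.add_apply, Prod.snd_add])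

theorem Tr_apply (t : ℕ) (z : ⋀[Sa p R a]^(t + 1) Ω[Sa p R a⁄Λ]) :
    Tr p Λ R a t z = TrFun p Λ R a t z := rfl

theorem Tr_smul (t : ℕ) (r : R) (z : ⋀[Sa p R a]^(t + 1) Ω[Sa p R a⁄Λ]) :
    Tr p Λ R a t (algebraMap R (Sa p R a) r • z) = r • Tr p Λ R a t z := by
  rw [Tr_apply, Tr_apply]
  simp only [TrFun, Submodule.coe_smul, map_smul, LinearMap.smul_apply, Prod.smul_snd]
  rw [algebraMap_smul, map_smul, map_smul]

theorem Tr_snoc (t : ℕ) (η : Fin t → Ω[R⁄Λ]) (i : ℕ) :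
    Tr p Λ R a t (exteriorPower.ιMulti (Sa p R a) (t + 1)
      (Fin.snoc (fun j => KaehlerDifferential.map Λ Λ R (Sa p R a) (η j))
        ((AdjoinRoot.root (gp p R a)) ^ i •
          KaehlerDifferential.D Λ (Sa p R a) (AdjoinRoot.root (gp p R a))))) =
    proj Λ R t (cc p R a ((AdjoinRoot.root (gp p R a)) ^ i) •
      (((List.ofFn η).map (ExteriorAlgebra.ι R)).prod * ExteriorAlgebra.ι R (m0 Λ R a))) := by
  rw [Tr_apply]
  unfold TrFun
  rw [exteriorPower.ιMulti_apply_coe, FF_ιMulti, List.ofFn_succ', List.concat_eq_append,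
    List.prod_append, List.prod_singleton]
  simp only [Fin.snoc_castSucc, Fin.snoc_last, ff_map, ff_last]
  rw [List.ofFn_comp' η (LpM p Λ R a), Module.End.mul_apply, snd_prod_Lp]
  have e1 : (((AdjoinRoot.root (gp p R a)) ^ i • epsM p Λ R a) (v0 p Λ R a)).2 =
      ((AdjoinRoot.root (gp p R a)) ^ i) ⊗ₜ[R] (δY (R := R) (m0 Λ R a)) := by
    rw [LinearMap.smul_apply, eps_apply, Prod.smul_snd]
    show (AdjoinRoot.root (gp p R a)) ^ i • ((1 : Sa p R a) ⊗ₜ[R] (δY (R := R) (m0 Λ R a))) = _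
    rw [TensorProduct.smul_tmul', smul_eq_mul, mul_one]
  rw [e1, bbprod_tmul, lam1_tmul, ellprod_coe]
  rfl

theorem Tr_map (t : ℕ) (s : Sa p R a) (η : Fin (t + 1) → Ω[R⁄Λ]) :
    Tr p Λ R a t (s • exteriorPower.ιMulti (Sa p R a) (t + 1)
      (fun j => KaehlerDifferential.map Λ Λ R (Sa p R a) (η j))) = 0 := by
  rw [Tr_apply]
  unfold TrFun
  rw [Submodule.coe_smul, exteriorPower.ιMulti_apply_coe, map_smul, FF_ιMulti]
  simp only [ff_map]
  rw [List.ofFn_comp' η (LpM p Λ R a), LinearMap.smul_apply, Prod.smul_snd, snd_prod_Lp]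
  have e1 : (v0 p Λ R a).2 = 0 := rfl
  rw [e1, map_zero, smul_zero, map_zero, map_zero]

theorem main (t : ℕ) :
    ∃ Tr : (⋀[AdjoinRoot (X ^ p - C a : R[X])]^(t + 1) (Ω[AdjoinRoot (X ^ p - C a : R[X])⁄Λ])) →+ (⋀[R]^(t + 1) (Ω[R⁄Λ])),
      (∀ (r : R) (ω : ⋀[AdjoinRoot (X ^ p - C a : R[X])]^(t + 1) (Ω[AdjoinRoot (X ^ p - C a : R[X])⁄Λ])),
        Tr (algebraMap R (AdjoinRoot (X ^ p - C a : R[X])) r • ω) = r • Tr ω) ∧
      (∀ (η : Fin t → Ω[R⁄Λ]) (i : ℕ), i + 2 ≤ p →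
        Tr (exteriorPower.ιMulti _ (t + 1) (Fin.snoc (fun j => KaehlerDifferential.map Λ Λ R (AdjoinRoot (X ^ p - C a : R[X])) (η j))
          (AdjoinRoot.root (X ^ p - C a) ^ i • KaehlerDifferential.D Λ _ (AdjoinRoot.root (X ^ p - C a))))) = 0) ∧
      (∀ (η : Fin t → Ω[R⁄Λ]),
        Tr (exteriorPower.ιMulti _ (t + 1) (Fin.snoc (fun j => KaehlerDifferential.map Λ Λ R (AdjoinRoot (X ^ p - C a : R[X])) (η j))
          (AdjoinRoot.root (X ^ p - C a) ^ (p - 1) • KaehlerDifferential.D Λ _ (AdjoinRoot.root (X ^ p - C a))))) =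
          exteriorPower.ιMulti R (t + 1) (Fin.snoc η (KaehlerDifferential.D Λ R a))) ∧
      (∀ (s : AdjoinRoot (X ^ p - C a : R[X])) (η : Fin (t + 1) → Ω[R⁄Λ]),
        Tr (s • exteriorPower.ιMulti _ (t + 1) (fun j => KaehlerDifferential.map Λ Λ R (AdjoinRoot (X ^ p - C a : R[X])) (η j))) = 0) := by
  refine ⟨Tr p Λ R a t, Tr_smul p Λ R a t, ?_, ?_, Tr_map p Λ R a t⟩
  · intro η i hi
    have h := Tr_snoc p Λ R a t η i
    rw [cc_root_pow p R a i (by omega), if_neg (by omega), zero_smul, map_zero] at h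
    exact h
  · intro η
    have hp := (Fact.out : p.Prime).pos
    have h := Tr_snoc p Λ R a t η (p - 1)
    rw [cc_root_pow p R a (p - 1) (by omega), if_pos rfl, one_smul, ← ιMulti_snoc_coe,
      proj_coe] at h
    exact h

end Main

end Groth.Agent.H4.TrDiffP
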