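import Mathlib
import Groth.Prelude.Def_DRing2
import Groth.Agent.H4.ExtBr
import Groth.Agent.H4.Spread4
import Groth.Agent.H4.PC1

set_option autoImplicit false
universe u
open CategoryTheory CategoryTheory.Limits

namespace Groth.Agent.H4.TrPerf

attribute [local instance] HasDerivedCategory.standard
open DerivedCategory DRing Groth

variable {Λ : Type u} [CommRing Λ]

/-- alternating trace -/
noncomputable def altTr (P : Cx Λ) (a b : ℤ) (f : P ⟶ P) : Λ :=
  ∑ i ∈ Finset.Icc a b, ((i.negOnePow : ℤˣ) : ℤ) • LinearMap.trace Λ (P.X i) (f.f i).hom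

/-- cyclicity -/
lemma altTr_comm (P Q : Cx Λ) (a b : ℤ) (hPf : TermwiseFiniteFree P) (hQf : TermwiseFiniteFree Q)
    (u : P ⟶ Q) (v : Q ⟶ P) : altTr P a b (u ≫ v) = altTr Q a b (v ≫ u) := by
  unfold altTr
  refine Finset.sum_congr rfl (fun i _ => ?_)
  congr 1
  haveI := (hPf i).1
  haveI := (hPf i).2
  haveI := (hQf i).1
  haveI := (hQf i).2
  have := LinearMap.trace_comp_comm' (R := Λ) (u.f i).hom (v.f i).hom
  simpa using this

/-- the "boundary" trace -/
noncomputable def bT (P : Cx Λ) {f g : P ⟶ P} (h : Homotopy f g) (i : ℤ) : Λ :=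
  LinearMap.trace Λ (P.X i) (h.hom i (i - 1) ≫ P.d (i - 1) i).hom

lemma bT_eq (P : Cx Λ) {f g : P ⟶ P} (h : Homotopy f g) (j k : ℤ) (hk : k = j - 1) :
    bT P h j = LinearMap.trace Λ (P.X j) (h.hom j k ≫ P.d k j).hom := by
  subst hk; rfl

lemma hom_eq_zero_of_isZero_src {M N : ModuleCat.{u} Λ} (hM : IsZero M) (φ : M ⟶ N) : φ = 0 :=
  hM.eq_of_src _ _

lemma bT_eq_zero_of_le (P : Cx Λ) (a b : ℤ) (hP : VanishesOutside P a b) {f g : P ⟶ P}
    (h : Homotopy f g) (i : ℤ) (hi : i ≤ a) : bT P h i = 0 := by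
  unfold bT
  have hz : IsZero (P.X (i - 1)) := hP _ (Or.inl (by omega))
  have : h.hom i (i - 1) ≫ P.d (i - 1) i = 0 := by
    rw [hz.eq_of_tgt (h.hom i (i - 1)) 0, zero_comp]
  rw [this]; simp

lemma bT_eq_zero_of_gt (P : Cx Λ) (a b : ℤ) (hP : VanishesOutside P a b) {f g : P ⟶ P}
    (h : Homotopy f g) (i : ℤ) (hi : b < i) : bT P h i = 0 := by
  unfold bT
  have hz : IsZero (P.X i) := hP _ (Or.inr hi)
  have : h.hom i (i - 1) ≫ P.d (i - 1) i = 0 := hz.eq_of_src _ _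
  rw [this]; simp

lemma trace_sub (P : Cx Λ) (hPf : TermwiseFiniteFree P) {f g : P ⟶ P}
    (h : Homotopy f g) (i : ℤ) :
    LinearMap.trace Λ (P.X i) (f.f i).hom =
      bT P h (i + 1) + bT P h i + LinearMap.trace Λ (P.X i) (g.f i).hom := by
  have hc := h.comm i
  rw [dNext_eq h.hom (show (ComplexShape.up ℤ).Rel i (i + 1) from rfl),
    prevD_eq h.hom (show (ComplexShape.up ℤ).Rel (i - 1) i by simp)] at hc
  rw [hc]
  haveI := (hPf i).1
  haveI := (hPf i).2
  haveI := (hPf (i + 1)).1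
  haveI := (hPf (i + 1)).2
  have h1 : LinearMap.trace Λ (P.X i) (P.d i (i + 1) ≫ h.hom (i + 1) i).hom = bT P h (i + 1) := by
    have := LinearMap.trace_comp_comm' (R := Λ) (P.d i (i + 1)).hom (h.hom (i + 1) i).hom
    rw [ModuleCat.hom_comp, this, bT_eq P h (i + 1) i (by omega)]
    rfl
  simp only [ModuleCat.hom_add, map_add]
  rw [h1]
  rfl


lemma altTr_eq_of_homotopy (P : Cx Λ) (a b : ℤ) (hP : VanishesOutside P a b)
    (hPf : TermwiseFiniteFree P) {f g : P ⟶ P} (h : Homotopy f g) :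
    altTr P a b f = altTr P a b g := by
  unfold altTr
  set F : ℤ → Λ := fun i => ((i.negOnePow : ℤˣ) : ℤ) • bT P h i with hF
  have hF0 : ∀ i, i ≤ a → F i = 0 := fun i hi => by
    simp only [hF, bT_eq_zero_of_le P a b hP h i hi, smul_zero]
  have hF1 : ∀ i, b < i → F i = 0 := fun i hi => by
    simp only [hF, bT_eq_zero_of_gt P a b hP h i hi, smul_zero]
  have key : ∀ i, ((i.negOnePow : ℤˣ) : ℤ) • LinearMap.trace Λ (P.X i) (f.f i).hom =
      (F i - F (i + 1)) + ((i.negOnePow : ℤˣ) : ℤ) • LinearMap.trace Λ (P.X i) (g.f i).hom := by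
    intro i
    rw [trace_sub P hPf h i]
    simp only [hF, smul_add, Int.negOnePow_succ, Units.val_neg, neg_smul]
    abel
  rw [Finset.sum_congr rfl (fun i _ => key i), Finset.sum_add_distrib, Finset.sum_sub_distrib]
  have s1 : ∑ i ∈ Finset.Icc a b, F i = ∑ i ∈ Finset.Icc a (b + 1), F i := by
    apply Finset.sum_subset
    · intro i hi
      simp only [Finset.mem_Icc] at hi ⊢
      omega
    · intro i hi hi'
      simp only [Finset.mem_Icc] at hi hi'
      exact hF1 i (by omega)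
  have s2 : ∑ i ∈ Finset.Icc a b, F (i + 1) = ∑ i ∈ Finset.Icc a (b + 1), F i := by
    have : ∑ i ∈ Finset.Icc a b, F (i + 1) = ∑ i ∈ Finset.Icc (a + 1) (b + 1), F i := by
      rw [← Finset.map_add_right_Icc, Finset.sum_map]
      rfl
    rw [this]
    apply Finset.sum_subset
    · intro i hi
      simp only [Finset.mem_Icc] at hi ⊢
      omega
    · intro i hi hi'
      simp only [Finset.mem_Icc] at hi hi'
      exact hF0 i (by omega)
  rw [s1, s2, sub_self, zero_add]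

lemma homotopy_of_Q_map_eq {P L : Cx Λ} [P.IsKProjective] (φ ψ : P ⟶ L)
    (h : Q.map φ = Q.map ψ) : Nonempty (Homotopy φ ψ) := by
  have h0 : Q.map (φ - ψ) = 0 := by rw [Functor.map_sub, h, sub_self]
  have h1 := (Groth.Agent.H4.ExtBr.Q_map_eq_zero_iff (φ - ψ)).1 h0
  rw [Functor.map_sub, sub_eq_zero] at h1
  exact ⟨HomotopyCategory.homotopyOfEq _ _ h1⟩

lemma altTr_eq_of_Q_map_eq (P : Cx Λ) (a b : ℤ) (hP : VanishesOutside P a b)
    (hPf : TermwiseFiniteFree P) (f g : P ⟶ P) (h : Q.map f = Q.map g) :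
    altTr P a b f = altTr P a b g := by
  haveI : P.IsKProjective := Groth.Agent.H4.PC.IsBFF.isKProjective ⟨a, b, hP, hPf⟩
  obtain ⟨ht⟩ := homotopy_of_Q_map_eq f g h
  exact altTr_eq_of_homotopy P a b hP hPf ht

theorem main (P Q' : Cx Λ) (a b : ℤ) (hP : VanishesOutside P a b)
    (hQ : VanishesOutside Q' a b) (hPf : TermwiseFiniteFree P) (hQf : TermwiseFiniteFree Q')
    (f : P ⟶ P) (g : Q' ⟶ Q') (α : toD P ≅ toD Q')
    (h : α.hom ≫ Q.map g = Q.map f ≫ α.hom) :
    altTr P a b f = altTr Q' a b g := by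
  haveI : P.IsKProjective := Groth.Agent.H4.PC.IsBFF.isKProjective ⟨a, b, hP, hPf⟩
  haveI : Q'.IsKProjective := Groth.Agent.H4.PC.IsBFF.isKProjective ⟨a, b, hQ, hQf⟩
  obtain ⟨u, hu⟩ := Groth.Agent.H4.Spread4.exists_chainMap_of_kproj P Q' α.hom
  obtain ⟨v, hv⟩ := Groth.Agent.H4.Spread4.exists_chainMap_of_kproj Q' P α.inv
  have e1 : altTr P a b f = altTr P a b ((f ≫ u) ≫ v) := by
    apply altTr_eq_of_Q_map_eq P a b hP hPf
    rw [Functor.map_comp, Functor.map_comp, hu, hv, Category.assoc]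
    erw [α.hom_inv_id]
    rw [Category.comp_id]
  have e2 : altTr Q' a b g = altTr Q' a b (v ≫ (f ≫ u)) := by
    apply altTr_eq_of_Q_map_eq Q' a b hQ hQf
    rw [Functor.map_comp, Functor.map_comp, hu, hv, ← h]
    erw [α.inv_hom_id_assoc]
  rw [e1, e2]
  exact altTr_comm P Q' a b hPf hQf (f ≫ u) v

end Groth.Agent.H4.TrPerf
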