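import Mathlib

namespace Groth.Agent.H4.TraceLA

open Module

variable {U V W : Type*} [AddCommGroup U] [Module ℂ U] [AddCommGroup V] [Module ℂ V]
  [AddCommGroup W] [Module ℂ W]

/-- boundedness package for an endomorphism of a complex vector space -/
structure Bd0 (φ : V →ₗ[ℂ] V) (C : ℝ) (n : ℕ) : Prop where
  fin : Module.Finite ℂ V
  eig : ∀ μ : ℂ, Module.End.HasEigenvalue φ μ → ‖μ‖ ≤ C
  rk : Module.finrank ℂ V ≤ n

lemma hasEigenvalue_of_injective (φ : V →ₗ[ℂ] V) (ψ : W →ₗ[ℂ] W) (f : W →ₗ[ℂ] V)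
    (hf : Function.Injective f) (h : ∀ w, f (ψ w) = φ (f w)) {μ : ℂ}
    (hμ : Module.End.HasEigenvalue ψ μ) : Module.End.HasEigenvalue φ μ := by
  obtain ⟨w, hw⟩ := hμ.exists_hasEigenvector
  have hw1 : ψ w = μ • w := Module.End.mem_eigenspace_iff.1 hw.1
  refine Module.End.hasEigenvalue_of_hasEigenvector (x := f w)
    ⟨Module.End.mem_eigenspace_iff.2 ?_, ?_⟩
  · rw [← h, hw1, map_smul]
  · intro h0
    exact hw.2 (hf (by rw [h0, map_zero]))

lemma hasEigenvalue_of_surjective [Module.Finite ℂ V] (φ : V →ₗ[ℂ] V) (ψ : W →ₗ[ℂ] W)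
    (f : V →ₗ[ℂ] W) (hf : Function.Surjective f) (h : ∀ v, f (φ v) = ψ (f v)) {μ : ℂ}
    (hμ : Module.End.HasEigenvalue ψ μ) : Module.End.HasEigenvalue φ μ := by
  by_contra hno
  haveI : Module.Finite ℂ W := Module.Finite.of_surjective f hf
  obtain ⟨w, hw⟩ := hμ.exists_hasEigenvector
  have hw1 : ψ w = μ • w := Module.End.mem_eigenspace_iff.1 hw.1
  have hinj : Function.Injective (φ - μ • LinearMap.id : V →ₗ[ℂ] V) := by
    rw [← LinearMap.ker_eq_bot, LinearMap.ker_eq_bot']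
    intro x hx
    by_contra hx0
    apply hno
    refine Module.End.hasEigenvalue_of_hasEigenvector (x := x)
      ⟨Module.End.mem_eigenspace_iff.2 ?_, hx0⟩
    have : φ x - μ • x = 0 := by simpa using hx
    exact sub_eq_zero.1 this
  have hsurj : Function.Surjective (φ - μ • LinearMap.id : V →ₗ[ℂ] V) :=
    LinearMap.injective_iff_surjective.1 hinj
  have hsurj' : Function.Surjective (ψ - μ • LinearMap.id : W →ₗ[ℂ] W) := by
    intro y
    obtain ⟨x, rfl⟩ := hf y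
    obtain ⟨x', rfl⟩ := hsurj x
    refine ⟨f x', ?_⟩
    simp [h, map_sub]
  have hinj' := LinearMap.injective_iff_surjective.2 hsurj'
  apply hw.2
  apply hinj'
  simp [hw1]

lemma Bd0.of_injective {φ : V →ₗ[ℂ] V} {ψ : W →ₗ[ℂ] W} {C : ℝ} {n : ℕ} (hb : Bd0 φ C n)
    (f : W →ₗ[ℂ] V) (hf : Function.Injective f) (h : ∀ w, f (ψ w) = φ (f w)) : Bd0 ψ C n := by
  haveI := hb.fin
  haveI : Module.Finite ℂ W := Module.Finite.of_injective f hf
  exact ⟨inferInstance, fun μ hμ => hb.eig μ (hasEigenvalue_of_injective φ ψ f hf h hμ),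
    (LinearMap.finrank_le_finrank_of_injective hf).trans hb.rk⟩

lemma Bd0.of_surjective {φ : V →ₗ[ℂ] V} {ψ : W →ₗ[ℂ] W} {C : ℝ} {n : ℕ} (hb : Bd0 φ C n)
    (f : V →ₗ[ℂ] W) (hf : Function.Surjective f) (h : ∀ v, f (φ v) = ψ (f v)) : Bd0 ψ C n := by
  haveI := hb.fin
  haveI : Module.Finite ℂ W := Module.Finite.of_surjective f hf
  exact ⟨inferInstance, fun μ hμ => hb.eig μ (hasEigenvalue_of_surjective φ ψ f hf h hμ),
    (LinearMap.finrank_le_finrank_of_surjective hf).trans hb.rk⟩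

lemma Bd0.norm_trace_le {φ : V →ₗ[ℂ] V} {C : ℝ} {n : ℕ} (hb : Bd0 φ C n) (hC : 0 ≤ C) :
    ‖LinearMap.trace ℂ V φ‖ ≤ n * C := by
  haveI := hb.fin
  rw [Module.End.trace_eq_sum_roots_charpoly_of_splits (IsAlgClosed.splits _)]
  have h1 : ‖φ.charpoly.roots.sum‖ ≤ (φ.charpoly.roots.map fun x => ‖x‖).sum :=
    norm_multiset_sum_le _
  have h2 : (φ.charpoly.roots.map fun x => ‖x‖).sum ≤
      Multiset.card (φ.charpoly.roots.map fun x => ‖x‖) • C := by
    apply Multiset.sum_le_card_nsmul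
    intro y hy
    obtain ⟨x, hx, rfl⟩ := Multiset.mem_map.1 hy
    apply hb.eig
    rw [Module.End.hasEigenvalue_iff_isRoot_charpoly]
    exact (Polynomial.mem_roots'.1 hx).2
  have h3 : Multiset.card (φ.charpoly.roots) ≤ n :=
    (Polynomial.card_roots' _).trans ((LinearMap.charpoly_natDegree φ).le.trans hb.rk)
  calc ‖φ.charpoly.roots.sum‖ ≤ _ := h1
    _ ≤ _ := h2
    _ = (Multiset.card φ.charpoly.roots : ℝ) * C := by rw [Multiset.card_map, nsmul_eq_mul]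
    _ ≤ n * C := mul_le_mul_of_nonneg_right (by exact_mod_cast h3) hC

lemma Bd0.of_subsingleton [Subsingleton V] (φ : V →ₗ[ℂ] V) (C : ℝ) : Bd0 φ C 0 := by
  refine ⟨inferInstance, fun μ hμ => ?_, ?_⟩
  · obtain ⟨w, hw⟩ := hμ.exists_hasEigenvector
    exact absurd (Subsingleton.elim w 0) hw.2
  · rw [Module.finrank_zero_of_subsingleton]

lemma Bd0.subsingleton {φ : V →ₗ[ℂ] V} {C : ℝ} (hb : Bd0 φ C 0) : Subsingleton V := by
  haveI := hb.fin
  have h : Module.finrank ℂ V = 0 := Nat.le_zero.1 hb.rk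
  exact Module.finrank_zero_iff.1 h

lemma Bd0.trace_eq_zero {φ : V →ₗ[ℂ] V} {C : ℝ} (hb : Bd0 φ C 0) :
    LinearMap.trace ℂ V φ = 0 := by
  haveI := hb.subsingleton
  have : φ = 0 := Subsingleton.elim _ _
  rw [this, map_zero]

lemma trace_eq_of_bijective (φ : V →ₗ[ℂ] V) (ψ : W →ₗ[ℂ] W) (f : V →ₗ[ℂ] W)
    (hf : Function.Bijective f) (h : ∀ v, f (φ v) = ψ (f v)) :
    LinearMap.trace ℂ V φ = LinearMap.trace ℂ W ψ := by
  have hψ : ψ = (LinearEquiv.ofBijective f hf).conj φ := by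
    apply LinearMap.ext
    intro y
    obtain ⟨x, rfl⟩ := hf.2 y
    rw [LinearEquiv.conj_apply_apply]
    have : (LinearEquiv.ofBijective f hf).symm (f x) = x :=
      (LinearEquiv.ofBijective f hf).symm_apply_apply x
    rw [this, LinearEquiv.ofBijective_apply, h]
  rw [hψ, LinearMap.trace_conj']

lemma trace_add_of_exact [Module.Finite ℂ V] (φU : U →ₗ[ℂ] U) (φ : V →ₗ[ℂ] V) (φW : W →ₗ[ℂ] W)
    (i : U →ₗ[ℂ] V) (π : V →ₗ[ℂ] W) (hi : Function.Injective i) (hπ : Function.Surjective π)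
    (hπi : ∀ u, π (i u) = 0) (hex : ∀ x, π x = 0 → ∃ u, i u = x)
    (hiφ : ∀ u, i (φU u) = φ (i u)) (hπφ : ∀ x, π (φ x) = φW (π x)) :
    LinearMap.trace ℂ V φ = LinearMap.trace ℂ U φU + LinearMap.trace ℂ W φW := by
  haveI : Module.Finite ℂ U := Module.Finite.of_injective i hi
  haveI : Module.Finite ℂ W := Module.Finite.of_surjective π hπ
  obtain ⟨s, hs⟩ := LinearMap.exists_rightInverse_of_surjective π (LinearMap.range_eq_top.2 hπ)
  have hs' : ∀ w, π (s w) = w := fun w => by simpa using LinearMap.congr_fun hs w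
  let P : V →ₗ[ℂ] V := LinearMap.id - s ∘ₗ π
  have hPr : ∀ x, P x ∈ LinearMap.range i := fun x => by
    obtain ⟨u, hu⟩ := hex (x - s (π x)) (by rw [map_sub, hs', sub_self])
    exact ⟨u, by simpa [P] using hu⟩
  let ρ : V →ₗ[ℂ] U :=
    (LinearEquiv.ofInjective i hi).symm.toLinearMap ∘ₗ (P.codRestrict (LinearMap.range i) hPr)
  have hρ : ∀ x, i (ρ x) = x - s (π x) := by
    intro x
    have h1 := LinearEquiv.apply_symm_apply (LinearEquiv.ofInjective i hi)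
      (P.codRestrict (LinearMap.range i) hPr x)
    have h2 := congrArg Subtype.val h1
    simpa [ρ, P] using h2
  have hρi : ∀ u, ρ (i u) = u := fun u => hi (by rw [hρ, hπi, map_zero, sub_zero])
  have hdec : φ = i ∘ₗ (φU ∘ₗ ρ) + (φ ∘ₗ s) ∘ₗ π := by
    apply LinearMap.ext
    intro x
    simp only [LinearMap.add_apply, LinearMap.comp_apply]
    rw [hiφ, hρ, map_sub]
    abel
  have e1 : LinearMap.trace ℂ V (i ∘ₗ (φU ∘ₗ ρ)) = LinearMap.trace ℂ U φU := by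
    rw [LinearMap.trace_comp_comm']
    congr 1
    apply LinearMap.ext
    intro u
    simp only [LinearMap.comp_apply]
    rw [hρi]
  have e2 : LinearMap.trace ℂ V ((φ ∘ₗ s) ∘ₗ π) = LinearMap.trace ℂ W φW := by
    rw [LinearMap.trace_comp_comm']
    congr 1
    apply LinearMap.ext
    intro w
    simp only [LinearMap.comp_apply]
    rw [hπφ, hs']
  conv_lhs => rw [hdec]
  rw [map_add, e1, e2]

lemma finite_of_exact [Module.Finite ℂ U] [Module.Finite ℂ W] (i : U →ₗ[ℂ] V) (π : V →ₗ[ℂ] W)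
    (hπ : Function.Surjective π) (hπi : ∀ u, π (i u) = 0) (hex : ∀ x, π x = 0 → ∃ u, i u = x) :
    Module.Finite ℂ V := by
  refine Module.Finite.of_exact (f := i) (g := π) ?_ hπ
  intro y
  constructor
  · intro hy
    obtain ⟨u, hu⟩ := hex y hy
    exact ⟨u, hu⟩
  · rintro ⟨u, rfl⟩
    exact hπi u

lemma range_inv {φ : V →ₗ[ℂ] V} {ψ : W →ₗ[ℂ] W} {f : V →ₗ[ℂ] W} (h : ∀ v, f (φ v) = ψ (f v)) :
    ∀ w ∈ LinearMap.range f, ψ w ∈ LinearMap.range f := by
  rintro _ ⟨v, rfl⟩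
  exact ⟨φ v, h v⟩

lemma Bd0.range_sub {ψ : W →ₗ[ℂ] W} {C : ℝ} {n : ℕ} (hb : Bd0 ψ C n) (f : V →ₗ[ℂ] W)
    (h : ∀ w ∈ LinearMap.range f, ψ w ∈ LinearMap.range f) :
    Bd0 (ψ.restrict h) C n :=
  hb.of_injective (LinearMap.range f).subtype Subtype.val_injective (fun _ => rfl)

lemma Bd0.range_quot {φ : V →ₗ[ℂ] V} {C : ℝ} {n : ℕ} (hb : Bd0 φ C n) (ψ : W →ₗ[ℂ] W)
    (f : V →ₗ[ℂ] W) (hc : ∀ v, f (φ v) = ψ (f v)) :
    Bd0 (ψ.restrict (range_inv hc)) C n :=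
  hb.of_surjective f.rangeRestrict f.surjective_rangeRestrict (fun v => Subtype.ext (hc v))

section Hom

variable {A B C Z H : Type*} [AddCommGroup A] [Module ℂ A] [AddCommGroup B] [Module ℂ B]
  [AddCommGroup C] [Module ℂ C] [AddCommGroup Z] [Module ℂ Z] [AddCommGroup H] [Module ℂ H]

lemma trace_homology [Module.Finite ℂ B]
    (α : A →ₗ[ℂ] A) (β : B →ₗ[ℂ] B) (γ : C →ₗ[ℂ] C) (ζ : Z →ₗ[ℂ] Z) (η : H →ₗ[ℂ] H)
    (f : A →ₗ[ℂ] B) (g : B →ₗ[ℂ] C) (i : Z →ₗ[ℂ] B) (π : Z →ₗ[ℂ] H) (t : A →ₗ[ℂ] Z)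
    (hfα : ∀ a, f (α a) = β (f a)) (hgβ : ∀ b, g (β b) = γ (g b))
    (hiζ : ∀ z, i (ζ z) = β (i z)) (hπζ : ∀ z, π (ζ z) = η (π z)) (htα : ∀ a, t (α a) = ζ (t a))
    (hi : Function.Injective i) (hgi : ∀ z, g (i z) = 0) (hig : ∀ b, g b = 0 → ∃ z, i z = b)
    (hπ : Function.Surjective π) (hπt : ∀ a, π (t a) = 0) (htπ : ∀ z, π z = 0 → ∃ a, t a = z)
    (hit : ∀ a, i (t a) = f a) :
    LinearMap.trace ℂ B β = LinearMap.trace ℂ H η +
      LinearMap.trace ℂ (LinearMap.range f) (β.restrict (range_inv hfα)) +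
      LinearMap.trace ℂ (LinearMap.range g) (γ.restrict (range_inv hgβ)) := by
  haveI : Module.Finite ℂ Z := Module.Finite.of_injective i hi
  -- step 1
  have s1 : LinearMap.trace ℂ B β = LinearMap.trace ℂ Z ζ +
      LinearMap.trace ℂ (LinearMap.range g) (γ.restrict (range_inv hgβ)) := by
    refine trace_add_of_exact ζ β (γ.restrict (range_inv hgβ)) i g.rangeRestrict hi
      g.surjective_rangeRestrict (fun z => Subtype.ext (hgi z)) (fun b hb => ?_) hiζ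
      (fun b => Subtype.ext (hgβ b))
    exact hig b (congrArg Subtype.val hb)
  -- step 2
  have s2 : LinearMap.trace ℂ Z ζ =
      LinearMap.trace ℂ (LinearMap.range t) (ζ.restrict (range_inv htα)) +
        LinearMap.trace ℂ H η := by
    refine trace_add_of_exact (ζ.restrict (range_inv htα)) ζ η (LinearMap.range t).subtype π
      Subtype.val_injective hπ ?_ ?_ (fun _ => rfl) hπζ
    · rintro ⟨_, a, rfl⟩
      exact hπt a
    · intro z hz
      obtain ⟨a, ha⟩ := htπ z hz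
      exact ⟨⟨z, a, ha⟩, rfl⟩
  -- step 3
  have hmap : ∀ x ∈ LinearMap.range t, i x ∈ LinearMap.range f := by
    rintro _ ⟨a, rfl⟩
    exact ⟨a, (hit a).symm⟩
  have s3 : LinearMap.trace ℂ (LinearMap.range t) (ζ.restrict (range_inv htα)) =
      LinearMap.trace ℂ (LinearMap.range f) (β.restrict (range_inv hfα)) := by
    refine trace_eq_of_bijective _ _ (i.restrict hmap) ⟨?_, ?_⟩ ?_
    · intro x y hxy
      have := congrArg Subtype.val hxy
      exact Subtype.ext (hi this)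
    · rintro ⟨_, a, rfl⟩
      exact ⟨⟨t a, a, rfl⟩, Subtype.ext (hit a)⟩
    · intro x
      exact Subtype.ext (hiζ x.1)
  rw [s1, s2, s3]
  ring

end Hom

end Groth.Agent.H4.TraceLA
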