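import Mathlib
import Groth.Agent.H4.TraceLA

universe u
open CategoryTheory CategoryTheory.Limits
open Groth.Agent.H4.TraceLA

namespace Groth.Agent.H4.TraceModCat

noncomputable abbrev V (M : ModuleCat.{u} (Polynomial ℂ)) : ModuleCat.{u} ℂ :=
  (ModuleCat.restrictScalars (algebraMap ℂ (Polynomial ℂ))).obj M

noncomputable abbrev Φ (M : ModuleCat.{u} (Polynomial ℂ)) : V M →ₗ[ℂ] V M :=
  ((ModuleCat.restrictScalars (algebraMap ℂ (Polynomial ℂ))).map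
    ((Polynomial.X : Polynomial ℂ) • 𝟙 M)).hom

noncomputable abbrev vm {M N : ModuleCat.{u} (Polynomial ℂ)} (f : M ⟶ N) : V M →ₗ[ℂ] V N :=
  ((ModuleCat.restrictScalars (algebraMap ℂ (Polynomial ℂ))).map f).hom

noncomputable abbrev tr (M : ModuleCat.{u} (Polynomial ℂ)) : ℂ := LinearMap.trace ℂ (V M) (Φ M)

abbrev Bd (M : ModuleCat.{u} (Polynomial ℂ)) (C : ℝ) (n : ℕ) : Prop := Bd0 (Φ M) C n

lemma vm_Φ {M N : ModuleCat.{u} (Polynomial ℂ)} (f : M ⟶ N) (x : V M) :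
    vm f (Φ M x) = Φ N (vm f x) := by
  have h : ((Polynomial.X : Polynomial ℂ) • 𝟙 M) ≫ f = f ≫ ((Polynomial.X : Polynomial ℂ) • 𝟙 N) := by
    rw [Linear.smul_comp, Linear.comp_smul, Category.id_comp, Category.comp_id]
  have h2 : (ModuleCat.restrictScalars (algebraMap ℂ (Polynomial ℂ))).map
      (((Polynomial.X : Polynomial ℂ) • 𝟙 M) ≫ f) =
      (ModuleCat.restrictScalars (algebraMap ℂ (Polynomial ℂ))).map
      (f ≫ ((Polynomial.X : Polynomial ℂ) • 𝟙 N)) := by rw [h]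
  rw [Functor.map_comp, Functor.map_comp] at h2
  exact congrArg (fun g => g.hom x) h2

lemma vm_injective {M N : ModuleCat.{u} (Polynomial ℂ)} (f : M ⟶ N) [Mono f] :
    Function.Injective (vm f) := by
  have h := (ModuleCat.mono_iff_injective f).1 inferInstance
  intro x y hxy
  exact h hxy

lemma vm_surjective {M N : ModuleCat.{u} (Polynomial ℂ)} (f : M ⟶ N) [Epi f] :
    Function.Surjective (vm f) := by
  have h := (ModuleCat.epi_iff_surjective f).1 inferInstance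
  intro y
  obtain ⟨x, hx⟩ := h y
  exact ⟨x, hx⟩

lemma Bd.of_mono {M N : ModuleCat.{u} (Polynomial ℂ)} (f : M ⟶ N) [Mono f] {C : ℝ} {n : ℕ}
    (h : Bd N C n) : Bd M C n :=
  Bd0.of_injective h (vm f) (vm_injective f) (vm_Φ f)

lemma Bd.of_epi {M N : ModuleCat.{u} (Polynomial ℂ)} (f : M ⟶ N) [Epi f] {C : ℝ} {n : ℕ}
    (h : Bd M C n) : Bd N C n :=
  Bd0.of_surjective h (vm f) (vm_surjective f) (vm_Φ f)

lemma Bd.of_iso {M N : ModuleCat.{u} (Polynomial ℂ)} (e : M ≅ N) {C : ℝ} {n : ℕ}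
    (h : Bd M C n) : Bd N C n := Bd.of_mono e.inv h

lemma tr_eq_of_iso {M N : ModuleCat.{u} (Polynomial ℂ)} (e : M ≅ N) : tr M = tr N :=
  trace_eq_of_bijective (Φ M) (Φ N) (vm e.hom) ⟨vm_injective e.hom, vm_surjective e.hom⟩
    (vm_Φ e.hom)

lemma finite_of_iso {M N : ModuleCat.{u} (Polynomial ℂ)} (e : M ≅ N)
    (h : Module.Finite ℂ (V M)) : Module.Finite ℂ (V N) :=
  Module.Finite.of_surjective (vm e.hom) (vm_surjective e.hom)

lemma Bd.of_isZero {M : ModuleCat.{u} (Polynomial ℂ)} (h : IsZero M) (C : ℝ) : Bd M C 0 := by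
  haveI : Subsingleton M := ModuleCat.subsingleton_of_isZero h
  haveI : Subsingleton (V M) := ‹Subsingleton M›
  exact Bd0.of_subsingleton _ _

lemma Bd.isZero {M : ModuleCat.{u} (Polynomial ℂ)} {C : ℝ} (h : Bd M C 0) : IsZero M := by
  haveI : Subsingleton (V M) := Bd0.subsingleton h
  haveI : Subsingleton M := ‹Subsingleton (V M)›
  exact ModuleCat.isZero_of_subsingleton M

lemma Bd.tr_eq_zero {M : ModuleCat.{u} (Polynomial ℂ)} {C : ℝ} (h : Bd M C 0) : tr M = 0 :=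
  Bd0.trace_eq_zero h

lemma Bd.norm_tr_le {M : ModuleCat.{u} (Polynomial ℂ)} {C : ℝ} {n : ℕ} (h : Bd M C n)
    (hC : 0 ≤ C) : ‖tr M‖ ≤ n * C :=
  Bd0.norm_trace_le h hC

lemma shortExact_data (S : ShortComplex (ModuleCat.{u} (Polynomial ℂ))) (hS : S.ShortExact) :
    Function.Injective (vm S.f) ∧ Function.Surjective (vm S.g) ∧
      (∀ x, vm S.g (vm S.f x) = 0) ∧ (∀ y, vm S.g y = 0 → ∃ x, vm S.f x = y) := by
  haveI := hS.mono_f
  haveI := hS.epi_g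
  refine ⟨vm_injective _, vm_surjective _, fun x => S.moduleCat_zero_apply x, fun y hy => ?_⟩
  exact (S.moduleCat_exact_iff.1 hS.exact) y hy

lemma tr_add_of_shortExact (S : ShortComplex (ModuleCat.{u} (Polynomial ℂ))) (hS : S.ShortExact)
    (h2 : Module.Finite ℂ (V S.X₂)) : tr S.X₂ = tr S.X₁ + tr S.X₃ := by
  obtain ⟨h1, h2', h3, h4⟩ := shortExact_data S hS
  exact trace_add_of_exact (Φ S.X₁) (Φ S.X₂) (Φ S.X₃) (vm S.f) (vm S.g) h1 h2' h3 h4
    (vm_Φ S.f) (vm_Φ S.g)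

lemma finite_of_shortExact (S : ShortComplex (ModuleCat.{u} (Polynomial ℂ))) (hS : S.ShortExact)
    (h1 : Module.Finite ℂ (V S.X₁)) (h3 : Module.Finite ℂ (V S.X₃)) :
    Module.Finite ℂ (V S.X₂) := by
  obtain ⟨_, h2', h3', h4⟩ := shortExact_data S hS
  exact finite_of_exact (vm S.f) (vm S.g) h2' h3' h4

/-- trace of `Φ` on the range of a morphism -/
noncomputable def rt {M N : ModuleCat.{u} (Polynomial ℂ)} (f : M ⟶ N) : ℂ :=
  LinearMap.trace ℂ (LinearMap.range (vm f)) ((Φ N).restrict (range_inv (vm_Φ f)))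

lemma rt_bound_sub {M N : ModuleCat.{u} (Polynomial ℂ)} (f : M ⟶ N) {C : ℝ} {n : ℕ}
    (h : Bd N C n) (hC : 0 ≤ C) : ‖rt f‖ ≤ n * C :=
  (Bd0.range_sub h (vm f) _).norm_trace_le hC

lemma rt_bound_quot {M N : ModuleCat.{u} (Polynomial ℂ)} (f : M ⟶ N) {C : ℝ} {n : ℕ}
    (h : Bd M C n) (hC : 0 ≤ C) : ‖rt f‖ ≤ n * C :=
  (Bd0.range_quot h (Φ N) (vm f) (vm_Φ f)).norm_trace_le hC

lemma tr_sc (S : ShortComplex (ModuleCat.{u} (Polynomial ℂ))) (hfin : Module.Finite ℂ (V S.X₂)) :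
    tr S.X₂ = tr S.homology + rt S.f + rt S.g := by
  have e1 : (ShortComplex.mk S.iCycles S.g S.iCycles_g).Exact :=
    ShortComplex.exact_of_f_is_kernel _ S.cyclesIsKernel
  have e2 : (ShortComplex.mk S.toCycles S.homologyπ S.toCycles_comp_homologyπ).Exact :=
    ShortComplex.exact_of_g_is_cokernel _ S.homologyIsCokernel
  rw [ShortComplex.moduleCat_exact_iff] at e1 e2
  exact trace_homology (Φ S.X₁) (Φ S.X₂) (Φ S.X₃) (Φ S.cycles) (Φ S.homology) (vm S.f) (vm S.g)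
    (vm S.iCycles) (vm S.homologyπ) (vm S.toCycles)
    (vm_Φ _) (vm_Φ _) (vm_Φ _) (vm_Φ _) (vm_Φ _) (vm_injective _)
    (fun z => (ShortComplex.mk S.iCycles S.g S.iCycles_g).moduleCat_zero_apply z) e1
    (vm_surjective _)
    (fun a => (ShortComplex.mk S.toCycles S.homologyπ
      S.toCycles_comp_homologyπ).moduleCat_zero_apply a) e2
    (fun a => congrArg (fun g => g.hom a) S.toCycles_i)

lemma Bd.homology (S : ShortComplex (ModuleCat.{u} (Polynomial ℂ))) {C : ℝ} {n : ℕ}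
    (h : Bd S.X₂ C n) : Bd S.homology C n :=
  Bd.of_epi S.homologyπ (Bd.of_mono S.iCycles h)

section Complex

variable {v : ℤ × ℤ} (K : HomologicalComplex (ModuleCat.{u} (Polynomial ℂ)) (ComplexShape.up' v))

lemma rt_d_congr {i i' j j' : ℤ × ℤ} (hi : i = i') (hj : j = j') :
    rt (K.d i j) = rt (K.d i' j') := by
  subst hi hj
  rfl

noncomputable def bIn (pq : ℤ × ℤ) : ℂ := rt (K.d (pq - v) pq)

noncomputable def bOut (pq : ℤ × ℤ) : ℂ := rt (K.d pq (pq + v))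

lemma bIn_add (pq : ℤ × ℤ) : bIn K (pq + v) = bOut K pq :=
  rt_d_congr K (add_sub_cancel_right pq v) rfl

lemma tr_X_eq (pq : ℤ × ℤ) (hfin : Module.Finite ℂ (V (K.X pq))) :
    tr (K.X pq) = tr (K.homology pq) + bIn K pq + bOut K pq := by
  have h := tr_sc (K.sc pq) hfin
  have h1 : (ComplexShape.up' v).prev pq = pq - v :=
    (ComplexShape.up' v).prev_eq' (sub_add_cancel pq v)
  have h2 : (ComplexShape.up' v).next pq = pq + v := (ComplexShape.up' v).next_eq' rfl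
  rw [show rt (K.sc pq).f = bIn K pq from rt_d_congr K h1 rfl,
    show rt (K.sc pq).g = bOut K pq from rt_d_congr K rfl h2] at h
  exact h

abbrev iot (x : ℕ × ℕ) : ℤ × ℤ := ((x.1 : ℤ), (x.2 : ℤ))

lemma iot_injective : Function.Injective iot := by
  intro x y h
  have h1 : (x.1 : ℤ) = y.1 := congrArg Prod.fst h
  have h2 : (x.2 : ℤ) = y.2 := congrArg Prod.snd h
  exact Prod.ext (by exact_mod_cast h1) (by exact_mod_cast h2)

noncomputable def sg (pq : ℤ × ℤ) : ℂ := (-1 : ℂ) ^ (pq.1 + pq.2)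

lemma sg_iot (x : ℕ × ℕ) : (-1 : ℂ) ^ (x.1 + x.2) = sg (iot x) := by
  show (-1 : ℂ) ^ (x.1 + x.2) = (-1 : ℂ) ^ ((x.1 : ℤ) + (x.2 : ℤ))
  rw [← Nat.cast_add, zpow_natCast]

lemma sg_add (hv : v.1 + v.2 = 1) (pq : ℤ × ℤ) : sg (pq + v) = - sg pq := by
  show (-1 : ℂ) ^ ((pq + v).1 + (pq + v).2) = - (-1 : ℂ) ^ (pq.1 + pq.2)
  rw [Prod.fst_add, Prod.snd_add, show pq.1 + v.1 + (pq.2 + v.2) = (pq.1 + pq.2) + 1 by omega,
    zpow_add₀ (by norm_num : (-1 : ℂ) ≠ 0), zpow_one, mul_neg_one]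

lemma norm_sg (pq : ℤ × ℤ) : ‖sg pq‖ = 1 := by
  show ‖(-1 : ℂ) ^ (pq.1 + pq.2)‖ = 1
  rw [norm_zpow, norm_neg, norm_one, one_zpow]

noncomputable def Tf (pq : ℤ × ℤ) : ℂ := sg pq * bIn K pq

theorem page_step (hv : v.1 + v.2 = 1) (nB : ℤ × ℤ → ℕ) (CB : ℤ × ℤ → ℝ) (hC : ∀ pq, 0 ≤ CB pq)
    (hq : ∀ pq : ℤ × ℤ, (pq.1 < 0 ∨ pq.2 < 0) → nB pq = 0)
    (hs : Summable fun x : ℕ × ℕ => (nB (iot x) : ℝ) * CB (iot x))
    (hK : ∀ pq, Bd (K.X pq) (CB pq) (nB pq)) :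
    (∀ pq, Bd (K.homology pq) (CB pq) (nB pq)) ∧
    ∑' x : ℕ × ℕ, (-1 : ℂ) ^ (x.1 + x.2) * tr (K.homology (iot x)) =
      ∑' x : ℕ × ℕ, (-1 : ℂ) ^ (x.1 + x.2) * tr (K.X (iot x)) := by
  have hH : ∀ pq, Bd (K.homology pq) (CB pq) (nB pq) := fun pq => Bd.homology (K.sc pq) (hK pq)
  refine ⟨hH, ?_⟩
  have hbIn : ∀ pq, ‖bIn K pq‖ ≤ nB pq * CB pq := fun pq => rt_bound_sub _ (hK pq) (hC pq)
  have hbOut : ∀ pq, ‖bOut K pq‖ ≤ nB pq * CB pq := fun pq => rt_bound_quot _ (hK pq) (hC pq)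
  have hbH : ∀ pq, ‖tr (K.homology pq)‖ ≤ nB pq * CB pq := fun pq => (hH pq).norm_tr_le (hC pq)
  have hterm : ∀ x : ℕ × ℕ, (-1 : ℂ) ^ (x.1 + x.2) * tr (K.X (iot x)) =
      (-1 : ℂ) ^ (x.1 + x.2) * tr (K.homology (iot x)) + Tf K (iot x) - Tf K (iot x + v) := by
    intro x
    rw [tr_X_eq K (iot x) (hK (iot x)).fin, sg_iot x]
    show _ = _ + sg (iot x) * bIn K (iot x) - sg (iot x + v) * bIn K (iot x + v)
    rw [sg_add hv, bIn_add]
    ring
  have s1 : Summable fun x : ℕ × ℕ => (-1 : ℂ) ^ (x.1 + x.2) * tr (K.homology (iot x)) :=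
    Summable.of_norm_bounded hs (fun x => by
      rw [norm_mul, sg_iot x, norm_sg, one_mul]; exact hbH _)
  have s2 : Summable fun x : ℕ × ℕ => Tf K (iot x) :=
    Summable.of_norm_bounded hs (fun x => by
      show ‖sg _ * _‖ ≤ _
      rw [norm_mul, norm_sg, one_mul]; exact hbIn _)
  have s3 : Summable fun x : ℕ × ℕ => Tf K (iot x + v) :=
    Summable.of_norm_bounded hs (fun x => by
      show ‖sg _ * _‖ ≤ _
      rw [norm_mul, norm_sg, one_mul, bIn_add]; exact hbOut _)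
  have hquad : ∀ pq : ℤ × ℤ, nB pq ≠ 0 → pq ∈ Set.range iot := by
    intro pq h
    have h' : ¬ (pq.1 < 0 ∨ pq.2 < 0) := fun hh => h (hq pq hh)
    push_neg at h'
    refine ⟨(pq.1.toNat, pq.2.toNat), ?_⟩
    show ((pq.1.toNat : ℤ), (pq.2.toNat : ℤ)) = pq
    rw [Int.toNat_of_nonneg h'.1, Int.toNat_of_nonneg h'.2]
  have hzero : ∀ (pq : ℤ × ℤ) (z : ℂ), ‖z‖ ≤ nB pq * CB pq → z ≠ 0 → nB pq ≠ 0 := by
    intro pq z hz hz0 h0
    rw [h0] at hz
    simp at hz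
    exact hz0 hz
  have sup1 : Function.support (Tf K) ⊆ Set.range iot := by
    intro pq hpq
    apply hquad
    apply hzero pq (bIn K pq) (hbIn pq)
    intro h0
    apply hpq
    show sg pq * bIn K pq = 0
    rw [h0, mul_zero]
  have sup2 : Function.support (fun pq => Tf K (pq + v)) ⊆ Set.range iot := by
    intro pq hpq
    apply hquad
    apply hzero pq (bOut K pq) (hbOut pq)
    intro h0
    apply hpq
    show sg (pq + v) * bIn K (pq + v) = 0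
    rw [bIn_add, h0, mul_zero]
  have t2 : ∑' x : ℕ × ℕ, Tf K (iot x) = ∑' pq, Tf K pq := iot_injective.tsum_eq sup1
  have t3 : ∑' x : ℕ × ℕ, Tf K (iot x + v) = ∑' pq, Tf K pq := by
    rw [iot_injective.tsum_eq (f := fun pq => Tf K (pq + v)) sup2]
    exact (Equiv.addRight v).tsum_eq (Tf K)
  symm
  calc ∑' x : ℕ × ℕ, (-1 : ℂ) ^ (x.1 + x.2) * tr (K.X (iot x))
      = ∑' x : ℕ × ℕ, ((-1 : ℂ) ^ (x.1 + x.2) * tr (K.homology (iot x)) + Tf K (iot x)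
          - Tf K (iot x + v)) := tsum_congr hterm
    _ = (∑' x : ℕ × ℕ, (-1 : ℂ) ^ (x.1 + x.2) * tr (K.homology (iot x))
          + ∑' x : ℕ × ℕ, Tf K (iot x)) - ∑' x : ℕ × ℕ, Tf K (iot x + v) := by
        rw [Summable.tsum_sub (s1.add s2) s3, Summable.tsum_add s1 s2]
    _ = _ := by rw [t2, t3, add_sub_cancel_right]

end Complex

end Groth.Agent.H4.TraceModCat
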