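import Mathlib
import Groth.Prelude.Def_SpSeq
import Groth.Agent.H4.TraceModCat

universe u
open CategoryTheory CategoryTheory.Limits
open Groth.Agent.H4.TraceLA Groth.Agent.H4.TraceModCat

namespace Groth.Agent.H4.TraceSpSeq

variable (E : E₂CohomologicalSpectralSequence (ModuleCat.{u} (Polynomial ℂ)))

/-- all terms of page `r` are bounded by `(CB, nB)` -/
def PB (nB : ℤ × ℤ → ℕ) (CB : ℤ × ℤ → ℝ) (r : ℤ) (hr : 2 ≤ r) : Prop :=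
  ∀ pq, Bd ((E.page r hr).X pq) (CB pq) (nB pq)

/-- alternating sum of traces of page `r` -/
noncomputable def SS (r : ℤ) (hr : 2 ≤ r) : ℂ :=
  ∑' x : ℕ × ℕ, (-1 : ℂ) ^ (x.1 + x.2) * tr ((E.page r hr).X ((x.1 : ℤ), (x.2 : ℤ)))

theorem E_step (r r' : ℤ) (hrr' : r + 1 = r') (hr : 2 ≤ r) (hr' : 2 ≤ r')
    (nB : ℤ × ℤ → ℕ) (CB : ℤ × ℤ → ℝ) (hC : ∀ pq, 0 ≤ CB pq)
    (hq : ∀ pq : ℤ × ℤ, (pq.1 < 0 ∨ pq.2 < 0) → nB pq = 0)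
    (hs : Summable fun x : ℕ × ℕ => (nB (iot x) : ℝ) * CB (iot x))
    (h : PB E nB CB r hr) :
    PB E nB CB r' hr' ∧ SS E r' hr' = SS E r hr := by
  obtain ⟨h1, h2⟩ := page_step (E.page r hr) (by simp) nB CB hC hq hs h
  refine ⟨fun pq => (h1 pq).of_iso (E.iso r r' pq hrr' hr), ?_⟩
  rw [SS, SS, ← h2]
  exact tsum_congr (fun x => congrArg _ (tr_eq_of_iso (E.iso r r' (iot x) hrr' hr)).symm)

noncomputable def nBf (N : ℕ) (b d : ℕ → ℕ) (pq : ℤ × ℤ) : ℕ :=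
  if 0 ≤ pq.1 ∧ 0 ≤ pq.2 ∧ pq.2 ≤ N then b pq.2.toNat * d pq.1.toNat else 0

noncomputable def CBf (a c : ℕ → ℝ) (pq : ℤ × ℤ) : ℝ := a pq.2.toNat * c pq.1.toNat

lemma CBf_nonneg {a c : ℕ → ℝ} (ha : ∀ q, 0 ≤ a q) (hc : ∀ p, 0 ≤ c p) (pq : ℤ × ℤ) :
    0 ≤ CBf a c pq := mul_nonneg (ha _) (hc _)

lemma nBf_quad (N : ℕ) (b d : ℕ → ℕ) (pq : ℤ × ℤ) (h : pq.1 < 0 ∨ pq.2 < 0) :
    nBf N b d pq = 0 := by
  unfold nBf
  rw [if_neg]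
  omega

lemma nBf_nat (N : ℕ) (b d : ℕ → ℕ) (p q : ℕ) :
    nBf N b d ((p : ℤ), (q : ℤ)) = if q ≤ N then b q * d p else 0 := by
  unfold nBf
  simp

lemma CBf_nat (a c : ℕ → ℝ) (p q : ℕ) : CBf a c ((p : ℤ), (q : ℤ)) = a q * c p := by
  unfold CBf
  simp

lemma summable_major (N : ℕ) (a c : ℕ → ℝ) (b d : ℕ → ℕ) (ha : ∀ q, 0 ≤ a q) (hc : ∀ p, 0 ≤ c p)
    (hsum : Summable fun p : ℕ => c p * (d p : ℝ)) :
    Summable fun x : ℕ × ℕ => (nBf N b d (iot x) : ℝ) * CBf a c (iot x) := by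
  have hfin : Summable fun q : ℕ => if q ≤ N then a q * (b q : ℝ) else 0 := by
    apply summable_of_ne_finset_zero (s := Finset.range (N + 1))
    intro q hq
    rw [if_neg]
    intro h
    exact hq (Finset.mem_range.2 (by omega))
  have h := Summable.mul_of_nonneg hsum hfin
    (fun p => mul_nonneg (hc p) (Nat.cast_nonneg _))
    (fun q => by
      show 0 ≤ if q ≤ N then a q * (b q : ℝ) else 0
      split_ifs
      · exact mul_nonneg (ha q) (Nat.cast_nonneg _)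
      · exact le_rfl)
  refine h.congr (fun x => ?_)
  show _ = ((nBf N b d ((x.1 : ℤ), (x.2 : ℤ)) : ℕ) : ℝ) * CBf a c ((x.1 : ℤ), (x.2 : ℤ))
  rw [nBf_nat, CBf_nat]
  split_ifs
  · push_cast
    ring
  · simp

lemma PB_of_hyps (X : ℤ × ℤ → ModuleCat.{u} (Polynomial ℂ)) (N : ℕ) (a c : ℕ → ℝ) (b d : ℕ → ℕ)
    (h0 : ∀ pq : ℤ × ℤ, pq.1 < 0 ∨ pq.2 < 0 → IsZero (X pq))
    (h1 : ∀ pq, Module.Finite ℂ (V (X pq)))
    (h2 : ∀ p q : ℕ, N < q → IsZero (X ((p : ℤ), (q : ℤ))))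
    (h3 : ∀ (p q : ℕ) (μ : ℂ), Module.End.HasEigenvalue (Φ (X ((p : ℤ), (q : ℤ)))) μ →
      ‖μ‖ ≤ a q * c p)
    (h4 : ∀ p q : ℕ, Module.finrank ℂ (V (X ((p : ℤ), (q : ℤ)))) ≤ b q * d p) :
    ∀ pq, Bd (X pq) (CBf a c pq) (nBf N b d pq) := by
  intro pq
  by_cases hq : pq.1 < 0 ∨ pq.2 < 0
  · rw [nBf_quad _ _ _ _ hq]
    exact Bd.of_isZero (h0 pq hq) _
  · push_neg at hq
    obtain ⟨p, q⟩ := pq
    dsimp only at hq
    obtain ⟨p, rfl⟩ := Int.eq_ofNat_of_zero_le hq.1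
    obtain ⟨q, rfl⟩ := Int.eq_ofNat_of_zero_le hq.2
    rw [nBf_nat, CBf_nat]
    split_ifs with hN
    · exact ⟨h1 _, h3 p q, h4 p q⟩
    · exact Bd.of_isZero (h2 p q (by omega)) _

lemma hyps_of_PB (X : ℤ × ℤ → ModuleCat.{u} (Polynomial ℂ)) (N : ℕ) (a c : ℕ → ℝ) (b d : ℕ → ℕ)
    (h : ∀ pq, Bd (X pq) (CBf a c pq) (nBf N b d pq)) :
    (∀ pq : ℤ × ℤ, pq.1 < 0 ∨ pq.2 < 0 → IsZero (X pq)) ∧
    (∀ pq, Module.Finite ℂ (V (X pq))) ∧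
    (∀ p q : ℕ, N < q → IsZero (X ((p : ℤ), (q : ℤ)))) ∧
    (∀ (p q : ℕ) (μ : ℂ), Module.End.HasEigenvalue (Φ (X ((p : ℤ), (q : ℤ)))) μ →
      ‖μ‖ ≤ a q * c p) ∧
    (∀ p q : ℕ, Module.finrank ℂ (V (X ((p : ℤ), (q : ℤ)))) ≤ b q * d p) := by
  refine ⟨fun pq hq => ?_, fun pq => (h pq).fin, fun p q hN => ?_, fun p q μ hμ => ?_,
    fun p q => ?_⟩
  · have := h pq
    rw [nBf_quad _ _ _ _ hq] at this
    exact this.isZero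
  · have := h ((p : ℤ), (q : ℤ))
    rw [nBf_nat, if_neg (by omega)] at this
    exact this.isZero
  · have := (h ((p : ℤ), (q : ℤ))).eig μ hμ
    rwa [CBf_nat] at this
  · have := (h ((p : ℤ), (q : ℤ))).rk
    rw [nBf_nat] at this
    split_ifs at this
    · exact this
    · exact this.trans (Nat.zero_le _)

end Groth.Agent.H4.TraceSpSeq
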