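import Mathlib
import Groth.Prelude.Def_SpSeq
import Groth.Agent.H4.TraceSpSeq

universe u
open CategoryTheory CategoryTheory.Limits
open Groth.Agent.H4.TraceLA Groth.Agent.H4.TraceModCat Groth.Agent.H4.TraceSpSeq
open Filter Topology

namespace Groth.Agent.H4.TraceAbut

section General

lemma summable_antidiag {G : Type*} [NormedAddCommGroup G] (F : ℕ × ℕ → G) (h : Summable F) :
    Summable fun n => ∑ x ∈ Finset.HasAntidiagonal.antidiagonal n, F x := by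
  have h' : Summable fun x : Σ n : ℕ, Finset.HasAntidiagonal.antidiagonal n => F (x.2 : ℕ × ℕ) :=
    (Finset.HasAntidiagonal.sigmaAntidiagonalEquivProd.summable_iff (f := F)).2 h
  conv => congr; ext; rw [← Finset.sum_finset_coe, ← tsum_fintype (L := .unconditional _)]
  exact h'.sigma' fun n => (hasSum_fintype _).summable

lemma tsum_antidiag {G : Type*} [NormedAddCommGroup G] (F : ℕ × ℕ → G) (h : Summable F) :
    ∑' x, F x = ∑' n, ∑ x ∈ Finset.HasAntidiagonal.antidiagonal n, F x := by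
  have h' : Summable fun x : Σ n : ℕ, Finset.HasAntidiagonal.antidiagonal n => F (x.2 : ℕ × ℕ) :=
    (Finset.HasAntidiagonal.sigmaAntidiagonalEquivProd.summable_iff (f := F)).2 h
  conv_rhs => congr; ext; rw [← Finset.sum_finset_coe, ← tsum_fintype (L := .unconditional _)]
  rw [← Finset.HasAntidiagonal.sigmaAntidiagonalEquivProd.tsum_eq F]
  exact h'.tsum_sigma' (fun n => (hasSum_fintype _).summable)

lemma sum_shift (g : ℤ → ℂ) (n A B : ℕ) (hz : ∀ p : ℤ, (p < 0 ∨ (n : ℤ) < p) → g p = 0) :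
    ∑ j ∈ Finset.range (A + (n + 1 + B)), g (-(A : ℤ) + j) = ∑ j ∈ Finset.range (n + 1), g j := by
  rw [Finset.sum_range_add, Finset.sum_range_add]
  have h1 : ∑ x ∈ Finset.range A, g (-(A : ℤ) + x) = 0 :=
    Finset.sum_eq_zero (fun x hx => hz _ (Or.inl (by have := Finset.mem_range.1 hx; omega)))
  have h3 : ∑ x ∈ Finset.range B, g (-(A : ℤ) + ((A + (n + 1 + x) : ℕ) : ℤ)) = 0 :=
    Finset.sum_eq_zero (fun x _ => hz _ (Or.inr (by push_cast; omega)))
  rw [h1, h3, zero_add, add_zero]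
  refine Finset.sum_congr rfl (fun x _ => ?_)
  rw [show -(A : ℤ) + ((A + x : ℕ) : ℤ) = (x : ℤ) by push_cast; ring]

lemma homology_iso_of_d_zero {v : ℤ × ℤ}
    (K : HomologicalComplex (ModuleCat.{u} (Polynomial ℂ)) (ComplexShape.up' v)) (pq : ℤ × ℤ)
    (h1 : K.d (pq - v) pq = 0) (h2 : K.d pq (pq + v) = 0) : Nonempty (K.homology pq ≅ K.X pq) := by
  have e1 : (ComplexShape.up' v).prev pq = pq - v :=
    (ComplexShape.up' v).prev_eq' (sub_add_cancel pq v)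
  have e2 : (ComplexShape.up' v).next pq = pq + v := (ComplexShape.up' v).next_eq' rfl
  exact ⟨(K.isoHomologyπ (pq - v) pq e1 h1).symm ≪≫ K.iCyclesIso pq (pq + v) e2 h2⟩

lemma fil_step {X : ModuleCat.{u} (Polynomial ℂ)} (F : ℤ → Subobject X) (hF : Antitone F) (p : ℤ) :
    (ShortComplex.mk ((F (p + 1)).ofLE (F p) (hF (Int.le_add_one le_rfl)))
      (cokernel.π ((F (p + 1)).ofLE (F p) (hF (Int.le_add_one le_rfl))))
      (cokernel.condition _)).ShortExact :=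
  ShortComplex.ShortExact.mk' (ShortComplex.exact_cokernel _) inferInstance inferInstance

lemma fil_trace {X : ModuleCat.{u} (Polynomial ℂ)} (F : ℤ → Subobject X) (hF : Antitone F)
    (hgr : ∀ p, Module.Finite ℂ (V (SpSeq.grPiece F hF p))) :
    ∀ (k : ℕ) (p : ℤ), F (p + k) = ⊥ →
      Module.Finite ℂ (V (F p : ModuleCat.{u} (Polynomial ℂ))) ∧
      tr (F p : ModuleCat.{u} (Polynomial ℂ)) =
        ∑ j ∈ Finset.range k, tr (SpSeq.grPiece F hF (p + j)) := by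
  intro k
  induction k with
  | zero =>
    intro p hp
    have hp' : F p = ⊥ := by simpa using hp
    have hz : IsZero (F p : ModuleCat.{u} (Polynomial ℂ)) :=
      IsZero.of_iso (isZero_zero _) (Subobject.isoOfEq _ _ hp' ≪≫ Subobject.botCoeIsoZero)
    have hb := Bd.of_isZero hz 0
    refine ⟨hb.fin, ?_⟩
    rw [Finset.sum_range_zero]
    exact hb.tr_eq_zero
  | succ k ih =>
    intro p hp
    have hp' : F (p + 1 + (k : ℤ)) = ⊥ := by
      rw [← hp]
      congr 1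
      push_cast
      ring
    obtain ⟨hf, ht⟩ := ih (p + 1) hp'
    have hS := fil_step F hF p
    have hfin2 := finite_of_shortExact _ hS hf (hgr p)
    refine ⟨hfin2, ?_⟩
    have h := tr_add_of_shortExact _ hS hfin2
    rw [Finset.sum_range_succ']
    have h5 : ∀ j : ℕ, tr (SpSeq.grPiece F hF (p + ((j + 1 : ℕ) : ℤ))) =
        tr (SpSeq.grPiece F hF (p + 1 + (j : ℤ))) := by
      intro j
      rw [show p + ((j + 1 : ℕ) : ℤ) = p + 1 + (j : ℤ) by push_cast; ring]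
    simp only [h5]
    rw [← ht]
    have h6 : tr (SpSeq.grPiece F hF (p + ((0 : ℕ) : ℤ))) = tr (SpSeq.grPiece F hF p) := by
      rw [show p + ((0 : ℕ) : ℤ) = p by simp]
    rw [h6]
    exact h

end General

variable (E : E₂CohomologicalSpectralSequence (ModuleCat.{u} (Polynomial ℂ)))

theorem all_pages (nB : ℤ × ℤ → ℕ) (CB : ℤ × ℤ → ℝ) (hC : ∀ pq, 0 ≤ CB pq)
    (hq : ∀ pq : ℤ × ℤ, (pq.1 < 0 ∨ pq.2 < 0) → nB pq = 0)
    (hs : Summable fun x : ℕ × ℕ => (nB (iot x) : ℝ) * CB (iot x))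
    (h2 : PB E nB CB 2 le_rfl) :
    ∀ (r : ℤ) (hr : 2 ≤ r), PB E nB CB r hr ∧ SS E r hr = SS E 2 le_rfl := by
  refine Int.leInduction
    (motive := fun r hr => PB E nB CB r hr ∧ SS E r hr = SS E 2 le_rfl) ⟨h2, rfl⟩ ?_
  intro r hr ih
  obtain ⟨h1, h3⟩ := E_step E r (r + 1) rfl hr (by omega) nB CB hC hq hs ih.1
  exact ⟨h1, h3.trans ih.2⟩

variable {H : ℤ → ModuleCat.{u} (Polynomial ℂ)} (abut : SpSeq.Abutment E H)

noncomputable abbrev Einf (pq : ℤ × ℤ) : ModuleCat.{u} (Polynomial ℂ) :=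
  (E.page (abut.rk pq) (abut.stat pq).1).X pq

lemma stab (pq : ℤ × ℤ) : ∀ (r : ℤ) (_ : abut.rk pq ≤ r) (hr : 2 ≤ r),
    Nonempty ((E.page r hr).X pq ≅ Einf E abut pq) := by
  refine Int.leInduction
    (motive := fun r _ => ∀ hr : 2 ≤ r, Nonempty ((E.page r hr).X pq ≅ Einf E abut pq)) ?_ ?_
  · intro hr
    exact ⟨Iso.refl _⟩
  · intro r hrk ih hr'
    have hr : 2 ≤ r := (abut.stat pq).1.trans hrk
    obtain ⟨e⟩ := ih hr
    obtain ⟨d1, d2⟩ := (abut.stat pq).2 r hr hrk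
    obtain ⟨e2⟩ := homology_iso_of_d_zero (E.page r hr) pq d1 d2
    exact ⟨(E.iso r (r + 1) pq rfl hr).symm ≪≫ e2 ≪≫ e⟩

lemma gr_transport (p : ℤ) {m n : ℤ} (h : m = n) :
    Nonempty (SpSeq.grPiece (abut.fil m) (abut.anti m) p ≅
      SpSeq.grPiece (abut.fil n) (abut.anti n) p) := by
  subst h
  exact ⟨Iso.refl _⟩

lemma gr_iso (n p : ℤ) :
    Nonempty (Einf E abut (p, n - p) ≅ SpSeq.grPiece (abut.fil n) (abut.anti n) p) := by
  obtain ⟨e⟩ := gr_transport E abut p (show p + (n - p) = n by ring)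
  exact ⟨abut.β (p, n - p) ≪≫ e⟩

theorem trace_H (nB : ℤ × ℤ → ℕ) (CB : ℤ × ℤ → ℝ)
    (hq : ∀ pq : ℤ × ℤ, (pq.1 < 0 ∨ pq.2 < 0) → nB pq = 0)
    (hBd : ∀ pq, Bd (Einf E abut pq) (CB pq) (nB pq)) (n : ℕ) (hfin : abut.IsFinite n) :
    tr (H n) = ∑ j ∈ Finset.range (n + 1), tr (Einf E abut ((j : ℤ), (n : ℤ) - j)) := by
  have hgrBd : ∀ p : ℤ, Bd (SpSeq.grPiece (abut.fil n) (abut.anti n) p)
      (CB (p, n - p)) (nB (p, n - p)) := by
    intro p
    obtain ⟨e⟩ := gr_iso E abut n p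
    exact (hBd (p, n - p)).of_iso e
  have hgr_tr : ∀ p : ℤ, tr (SpSeq.grPiece (abut.fil n) (abut.anti n) p) =
      tr (Einf E abut (p, n - p)) := by
    intro p
    obtain ⟨e⟩ := gr_iso E abut n p
    exact (tr_eq_of_iso e).symm
  have gzero : ∀ p : ℤ, (p < 0 ∨ (n : ℤ) < p) →
      tr (SpSeq.grPiece (abut.fil n) (abut.anti n) p) = 0 := by
    intro p hp
    have h0 : nB (p, (n : ℤ) - p) = 0 := by
      apply hq
      rcases hp with hp | hp
      · exact Or.inl hp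
      · exact Or.inr (by show (n : ℤ) - p < 0; omega)
    have := hgrBd p
    rw [h0] at this
    exact this.tr_eq_zero
  obtain ⟨⟨a, ha⟩, ⟨b, hb⟩⟩ := hfin
  change abut.fil n a = ⊤ at ha
  change abut.fil n b = ⊥ at hb
  obtain ⟨A, hA'⟩ : ∃ A : ℕ, -(A : ℤ) ≤ a := ⟨(-a).toNat, by omega⟩
  obtain ⟨B, hB'⟩ : ∃ B : ℕ, b ≤ (n : ℤ) + 1 + B := ⟨(b - (n + 1)).toNat, by omega⟩
  have hA : abut.fil n (-(A : ℤ)) = ⊤ := by
    have : abut.fil n a ≤ abut.fil n (-(A : ℤ)) := abut.anti n hA'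
    rw [ha] at this
    exact top_le_iff.1 this
  have hB : abut.fil n (-(A : ℤ) + ((A + (n + 1 + B) : ℕ) : ℤ)) = ⊥ := by
    have : abut.fil n (-(A : ℤ) + ((A + (n + 1 + B) : ℕ) : ℤ)) ≤ abut.fil n b :=
      abut.anti n (by push_cast; omega)
    rw [hb] at this
    exact le_bot_iff.1 this
  obtain ⟨hf, ht⟩ := fil_trace (abut.fil n) (abut.anti n) (fun p => (hgrBd p).fin)
    (A + (n + 1 + B)) (-(A : ℤ)) hB
  have eT : ((abut.fil n (-(A : ℤ)) : ModuleCat.{u} (Polynomial ℂ))) ≅ H n :=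
    Subobject.isoOfEq _ _ hA ≪≫ asIso (⊤ : Subobject (H n)).arrow
  have hsh := sum_shift (fun p => tr (SpSeq.grPiece (abut.fil n) (abut.anti n) p)) n A B gzero
  rw [← tr_eq_of_iso eT, ht]
  exact hsh.trans (Finset.sum_congr rfl (fun j _ => hgr_tr j))

noncomputable def uf (x : ℕ × ℕ) : ℂ := (-1 : ℂ) ^ (x.1 + x.2) * tr (Einf E abut (iot x))

theorem main_abut (hfin : ∀ n, abut.IsFinite n)
    (hquad : ∀ pq : ℤ × ℤ, pq.1 < 0 ∨ pq.2 < 0 → IsZero ((E.page 2 le_rfl).X pq))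
    (hfd : ∀ pq : ℤ × ℤ, Module.Finite ℂ (V ((E.page 2 le_rfl).X pq)))
    (N : ℕ) (a c : ℕ → ℝ) (b d : ℕ → ℕ) (ha : ∀ q, 0 ≤ a q) (hc : ∀ p, 0 ≤ c p)
    (h1 : ∀ p q : ℕ, N < q → IsZero ((E.page 2 le_rfl).X ((p : ℤ), (q : ℤ))))
    (h2 : ∀ (p q : ℕ) (μ : ℂ), Module.End.HasEigenvalue
        (Φ ((E.page 2 le_rfl).X ((p : ℤ), (q : ℤ)))) μ → ‖μ‖ ≤ a q * c p)
    (h3 : ∀ p q : ℕ, Module.finrank ℂ (V ((E.page 2 le_rfl).X ((p : ℤ), (q : ℤ)))) ≤ b q * d p)
    (hsum : Summable fun p : ℕ => c p * (d p : ℝ)) :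
    Summable (fun n : ℕ => ‖tr (H n)‖) ∧
    ∑' n : ℕ, (-1 : ℂ) ^ n * tr (H n) =
      ∑' x : ℕ × ℕ, (-1 : ℂ) ^ (x.1 + x.2) *
        tr ((E.page 2 le_rfl).X ((x.1 : ℤ), (x.2 : ℤ))) := by
  have hC := CBf_nonneg (a := a) (c := c) ha hc
  have hq := nBf_quad N b d
  have hs := summable_major N a c b d ha hc hsum
  have hPB2 : PB E (nBf N b d) (CBf a c) 2 le_rfl :=
    PB_of_hyps (fun pq => (E.page 2 le_rfl).X pq) N a c b d hquad hfd h1 h2 h3
  have hall := all_pages E (nBf N b d) (CBf a c) hC hq hs hPB2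
  have hBd : ∀ pq, Bd (Einf E abut pq) (CBf a c pq) (nBf N b d pq) :=
    fun pq => (hall _ _).1 pq
  have he : ∀ pq, ‖tr (Einf E abut pq)‖ ≤ nBf N b d pq * CBf a c pq :=
    fun pq => (hBd pq).norm_tr_le (hC pq)
  have hH : ∀ n : ℕ, tr (H n) = ∑ x ∈ Finset.HasAntidiagonal.antidiagonal n, tr (Einf E abut (iot x)) := by
    intro n
    rw [trace_H E abut _ _ hq hBd n (hfin n)]
    refine Eq.trans ?_ (Finset.Nat.sum_antidiagonal_eq_sum_range_succ
      (fun i j => tr (Einf E abut ((i : ℤ), (j : ℤ)))) n).symm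
    refine Finset.sum_congr rfl (fun j hj => ?_)
    have : j ≤ n := Nat.lt_succ_iff.1 (Finset.mem_range.1 hj)
    show tr (Einf E abut ((j : ℤ), (n : ℤ) - j)) = tr (Einf E abut ((j : ℤ), ((n - j : ℕ) : ℤ)))
    rw [Nat.cast_sub this]
  have hu : ∀ x, ‖uf E abut x‖ ≤ (nBf N b d (iot x) : ℝ) * CBf a c (iot x) := by
    intro x
    show ‖(-1 : ℂ) ^ (x.1 + x.2) * _‖ ≤ _
    rw [norm_mul, norm_pow, norm_neg, norm_one, one_pow, one_mul]
    exact he _
  have hus : Summable (uf E abut) := Summable.of_norm_bounded hs hu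
  have hlim : Tendsto (fun k : ℕ => ∑' x : ℕ × ℕ, (-1 : ℂ) ^ (x.1 + x.2) *
      tr ((E.page (2 + (k : ℤ)) (by omega)).X (iot x))) atTop (𝓝 (∑' x, uf E abut x)) := by
    refine tendsto_tsum_of_dominated_convergence
      (bound := fun x : ℕ × ℕ => (nBf N b d (iot x) : ℝ) * CBf a c (iot x)) hs ?_ ?_
    · intro x
      apply tendsto_atTop_of_eventually_const (i₀ := (abut.rk (iot x) - 2).toNat)
      intro k hk
      have hk' := Int.toNat_le.1 hk
      obtain ⟨e⟩ := stab E abut (iot x) (2 + (k : ℤ)) (by omega) (by omega)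
      show _ * _ = _ * _
      rw [tr_eq_of_iso e]
    · refine Filter.Eventually.of_forall (fun k x => ?_)
      rw [norm_mul, norm_pow, norm_neg, norm_one, one_pow, one_mul]
      exact ((hall _ _).1 (iot x)).norm_tr_le (hC _)
  have hconst : ∀ k : ℕ, ∑' x : ℕ × ℕ, (-1 : ℂ) ^ (x.1 + x.2) *
      tr ((E.page (2 + (k : ℤ)) (by omega)).X (iot x)) = SS E 2 le_rfl :=
    fun k => (hall (2 + k) (by omega)).2
  have husum : ∑' x, uf E abut x = SS E 2 le_rfl := by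
    refine tendsto_nhds_unique hlim ?_
    simp_rw [hconst]
    exact tendsto_const_nhds
  have hanti : ∀ n : ℕ, ∑ x ∈ Finset.HasAntidiagonal.antidiagonal n, uf E abut x = (-1 : ℂ) ^ n * tr (H n) := by
    intro n
    rw [hH n, Finset.mul_sum]
    refine Finset.sum_congr rfl (fun x hx => ?_)
    have : x.1 + x.2 = n := Finset.HasAntidiagonal.mem_antidiagonal.1 hx
    show (-1 : ℂ) ^ (x.1 + x.2) * _ = _
    rw [this]
  refine ⟨?_, ?_⟩
  · have hM := summable_antidiag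
      (fun x : ℕ × ℕ => (nBf N b d (iot x) : ℝ) * CBf a c (iot x)) hs
    refine Summable.of_nonneg_of_le (fun n => norm_nonneg _) (fun n => ?_) hM
    rw [hH n]
    exact (norm_sum_le _ _).trans (Finset.sum_le_sum (fun x _ => he _))
  · show _ = SS E 2 le_rfl
    rw [← husum, tsum_antidiag (uf E abut) hus]
    exact tsum_congr (fun n => (hanti n).symm)

end Groth.Agent.H4.TraceAbut
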