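import Mathlib
import Groth.Agent.H4.Nilp2
import Groth.Agent.H4.FlatFam
import Groth.Agent.H4.Perf1
import Groth.Agent.H4.FibPerf

set_option autoImplicit false
universe u
open CategoryTheory CategoryTheory.Limits MonoidalCategory

namespace Groth.Agent.H4.TwoIdeal

attribute [local instance] HasDerivedCategory.standard

open DerivedCategory DRing Groth.Agent.H4.LDer Groth.Agent.H4.PC Groth.Agent.H4.BC Groth.Agent.H4.TV
  Groth.Agent.H4.PCDesc Groth.Agent.H4.NilInd Groth.Agent.H4.FlatFam Groth.Agent.H4.Perf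
  Groth.Agent.H4.TorAmp

attribute [local instance] Groth.Agent.H4.FibPerf.instHasLBC

variable {A : Type u} [CommRing A] {B : Bool → Type u} [∀ i, CommRing (B i)] (φ : ∀ i, A →+* B i)
  (hs : ∀ i, Function.Surjective (φ i))
  (h0 : RingHom.ker (φ true) * RingHom.ker (φ false) = ⊥)

include h0 in
theorem induction₂ (P : ModuleCat.{u} A → Prop)
    (h_killed : ∀ (i : Bool) (M : ModuleCat.{u} A),
      (∀ a ∈ RingHom.ker (φ i), ∀ m : M, a • m = 0) → P M)
    (h_ses : ∀ S : ShortComplex (ModuleCat.{u} A), S.ShortExact → P S.X₁ → P S.X₃ → P S.X₂)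
    (M : ModuleCat.{u} A) : P M := by
  refine h_ses (ses (RingHom.ker (φ true)) M) (ses_shortExact _ M) (h_killed false _ ?_)
    (h_killed true _ ?_)
  · intro a ha m
    let m' : ↥(RingHom.ker (φ true) • (⊤ : Submodule A M)) := m
    apply Subtype.ext
    change a • (m' : M) = 0
    have hm := m'.2
    refine Submodule.smul_induction_on hm (fun b hb x _ => ?_) (fun x y hx hy => ?_)
    · rw [← mul_smul]
      have : a * b ∈ RingHom.ker (φ true) * RingHom.ker (φ false) := by
        rw [mul_comm a b]; exact Ideal.mul_mem_mul hb ha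
      rw [h0] at this
      rw [(Submodule.mem_bot A).1 this, zero_smul]
    · rw [smul_add, hx, hy, add_zero]
  · intro a ha m
    obtain ⟨m, rfl⟩ := Submodule.mkQ_surjective _ m
    change (RingHom.ker (φ true) • (⊤ : Submodule A M)).mkQ (a • m) = 0
    rw [Submodule.mkQ_apply, Submodule.Quotient.mk_eq_zero]
    exact Submodule.smul_mem_smul ha Submodule.mem_top

include hs h0 in
theorem HV_of_HV₂
    [∀ M : ModuleCat.{u} A, (Gh (tensorRight M)).HasLeftDerivedFunctor (WA A)]
    [∀ (i : Bool) (M : ModuleCat.{u} (B i)), (Gh (tensorRight M)).HasLeftDerivedFunctor (WA (B i))]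
    (K : Dual.D A) (j : ℤ)
    (h : ∀ (i : Bool) (N : ModuleCat.{u} (B i)),
      HV (tensorRight N) ((DRing.LBaseChange (φ i)).obj K) j)
    (M : ModuleCat.{u} A) : HV (tensorRight M) K j := by
  obtain ⟨X, hX, hf, ⟨e⟩⟩ := Groth.Agent.H4.KProj.exists_kproj_free_iso K
  have hfl : ∀ i, Module.Flat A (X.X i) := fun i => by haveI := hf i; infer_instance
  rw [HV_iff_TV X e]
  refine induction₂ φ h0 (fun M => TV X M j) ?_ ?_ M
  · intro i M hM
    obtain ⟨N, ⟨eN⟩⟩ := exists_iso_restrictScalars_of_killed (φ i) (hs i) M hM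
    refine TV_of_iso X eN j ?_
    rw [← TV_restrict_iff]
    have e' : toD ((GC (ModuleCat.extendScalars.{u, u, u} (φ i))).obj X) ≅
        (DRing.LBaseChange (φ i)).obj K :=
      (isoOfIso (ModuleCat.extendScalars.{u, u, u} (φ i)) X e).symm
    exact (HV_iff_TV _ e' N j).1 (h i N)
  · intro S hS h₁ h₃
    exact TV_of_shortExact X hfl S hS j h₁ h₃

include hs h0 in
theorem isLE₂ (K : Dual.D A) (b : ℤ) (h : ∀ i, ((DRing.LBaseChange (φ i)).obj K).IsLE b) :
    K.IsLE b := by
  haveI : ∀ M : ModuleCat.{u} A, (Gh (tensorRight M)).HasLeftDerivedFunctor (WA A) :=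
    fun M => Groth.Agent.H4.KProj.hasLeftDerivedFunctor _
  haveI : ∀ (i : Bool) (M : ModuleCat.{u} (B i)),
      (Gh (tensorRight M)).HasLeftDerivedFunctor (WA (B i)) :=
    fun i M => Groth.Agent.H4.KProj.hasLeftDerivedFunctor _
  refine isLE_of_forall_isZero K b (fun j hj => ?_)
  have h1 : ∀ (i : Bool) (N : ModuleCat.{u} (B i)),
      HV (tensorRight N) ((DRing.LBaseChange (φ i)).obj K) j := by
    intro i N
    haveI := h i
    haveI := isLE_LG (tensorRight N) ((DRing.LBaseChange (φ i)).obj K) b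
    exact isZero_of_isLE _ b j hj
  have h2 := HV_of_HV₂ φ hs h0 K j h1 (𝟙_ (ModuleCat.{u} A))
  exact h2.of_iso ((homologyFunctor (ModuleCat.{u} A) j).mapIso (LGUnitIso A K).symm)

include hs h0 in
theorem refl₂ (Q : ModuleCat.{u} A)
    (h : ∀ i, IsZero ((ModuleCat.extendScalars.{u, u, u} (φ i)).obj Q)) : IsZero Q := by
  refine induction₂ φ h0
    (fun M => (∀ i, IsZero ((ModuleCat.extendScalars.{u, u, u} (φ i)).obj M)) → IsZero M) ?_ ?_ Q h
  · intro i M hM hz
    obtain ⟨N, ⟨eN⟩⟩ := exists_iso_restrictScalars_of_killed (φ i) (hs i) M hM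
    have h0 : eN.inv = 0 := by
      apply ((ModuleCat.extendRestrictScalarsAdj.{u} (φ i)).homEquiv M N).symm.injective
      exact (hz i).eq_of_src _ _
    rw [IsZero.iff_id_eq_zero, ← eN.inv_hom_id, h0, zero_comp]
  · intro S hS h₁ h₃ hz
    haveI := hS.epi_g
    haveI := hS.mono_f
    have hz3 : IsZero S.X₃ := h₃ (fun i => by
      haveI : Epi ((ModuleCat.extendScalars.{u, u, u} (φ i)).map S.g) :=
        epi_extendScalars_map (φ i) S.g
      exact IsZero.of_epi ((ModuleCat.extendScalars.{u, u, u} (φ i)).map S.g) (hz i))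
    haveI : IsIso S.f := hS.isIso_f_iff.2 hz3
    have hz1 : IsZero S.X₁ := h₁ (fun i =>
      (hz i).of_iso (asIso ((ModuleCat.extendScalars.{u, u, u} (φ i)).map S.f)))
    exact hz1.of_iso (asIso S.f).symm

include hs h0 in
theorem finite₂ (M : ModuleCat.{u} A)
    (h : ∀ i, Module.Finite (B i) ((ModuleCat.extendScalars.{u, u, u} (φ i)).obj M)) :
    Module.Finite A M := by
  obtain ⟨F, hF, _, f, hf⟩ := exists_map_epi_family M h
  have hQ : IsZero (cokernel f) := refl₂ φ hs h0 _ (fun i => by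
    set G := ModuleCat.extendScalars.{u, u, u} (φ i) with hG
    haveI : Epi (G.map (cokernel.π f)) := epi_extendScalars_map (φ i) _
    haveI := hf i
    have h0 : G.map (cokernel.π f) = 0 := by
      rw [← cancel_epi (G.map f), ← G.map_comp, cokernel.condition, G.map_zero, comp_zero]
    rw [IsZero.iff_id_eq_zero, ← cancel_epi (G.map (cokernel.π f)), h0, zero_comp, comp_zero])
  haveI : Epi f := Preadditive.epi_of_isZero_cokernel f hQ
  exact finite_of_epi f hF

include hs h0 in
theorem detects₂ : Detects (fun i => (DRing.LBaseChange (φ i)).obj) where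
  tri := fun i T hT => exists_distTriang_LG' (ModuleCat.extendScalars.{u, u, u} (φ i)) T hT
  sgl := fun i k b j => isPC_LBaseChange (φ i) j _ (isPC_toD j _ (isBFF_sgl _ b))
  isLE := fun i K b hK => by
    haveI := hK
    exact isLE_LG (ModuleCat.extendScalars.{u, u, u} (φ i)) K b
  bdd := fun K h => by
    choose b hb using h
    refine ⟨max (b true) (b false), isLE₂ φ hs h0 K _ (fun i => ?_)⟩
    haveI := hb i
    refine TStructure.t.isLE_of_le _ (b i) _ ?_
    cases i
    · exact le_max_right _ _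
    · exact le_max_left _ _
  fin := fun K b hK h => finite₂ φ hs h0 _ (fun i => finite_ext_top (φ i) K b hK (h i))

include hs h0 in
theorem isPerfect₂ (K : Dual.D A) (h : ∀ i, IsPerfect (B i) ((DRing.LBaseChange (φ i)).obj K)) :
    IsPerfect A K := by
  haveI : ∀ M : ModuleCat.{u} A, (Gh (tensorRight M)).HasLeftDerivedFunctor (WA A) :=
    fun M => Groth.Agent.H4.KProj.hasLeftDerivedFunctor _
  haveI : ∀ (i : Bool) (M : ModuleCat.{u} (B i)),
      (Gh (tensorRight M)).HasLeftDerivedFunctor (WA (B i)) :=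
    fun i M => Groth.Agent.H4.KProj.hasLeftDerivedFunctor _
  have hpc : IsPseudoCoherent' A K :=
    (detects₂ φ hs h0).isPC' K (fun i => isPC'_of_isPerfect (h i))
  choose a b hab using fun i => hasTorAmp_of_isPerfect (h i)
  refine isPerfect_of_isPC'_of_hasTorAmp hpc (a := min (a true) (a false))
    (b := max (b true) (b false)) ?_
  rw [hasTorAmp_iff]
  intro M j hj
  refine HV_of_HV₂ φ hs h0 K j (fun i N => ?_) M
  have := (hasTorAmp_iff _ _ _).1 (hab i) N j
  refine this ?_
  cases i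
  · rcases hj with hj | hj
    · exact Or.inl (lt_of_lt_of_le hj (min_le_right _ _))
    · exact Or.inr (lt_of_le_of_lt (le_max_right _ _) hj)
  · rcases hj with hj | hj
    · exact Or.inl (lt_of_lt_of_le hj (min_le_left _ _))
    · exact Or.inr (lt_of_le_of_lt (le_max_left _ _) hj)

section Pair
variable {A B₁ B₂ : Type u} [CommRing A] [CommRing B₁] [CommRing B₂] (φ₁ : A →+* B₁) (φ₂ : A →+* B₂)

/-- the two-member family of rings. -/
@[reducible] def BB (B₁ B₂ : Type u) : Bool → Type u := fun i => Bool.rec B₂ B₁ i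

instance instBB (i : Bool) : CommRing (BB B₁ B₂ i) :=
  Bool.rec (motive := fun i => CommRing (BB B₁ B₂ i)) (inferInstanceAs (CommRing B₂))
    (inferInstanceAs (CommRing B₁)) i

/-- the two-member family of ring maps. -/
def φφ : ∀ i, A →+* BB B₁ B₂ i :=
  fun i => Bool.rec (motive := fun i => A →+* BB B₁ B₂ i) φ₂ φ₁ i

theorem isPerfect_pair (hs₁ : Function.Surjective φ₁) (hs₂ : Function.Surjective φ₂)
    (h0 : RingHom.ker φ₁ * RingHom.ker φ₂ = ⊥) (K : Dual.D A)
    (h₁ : IsPerfect B₁ ((DRing.LBaseChange φ₁).obj K))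
    (h₂ : IsPerfect B₂ ((DRing.LBaseChange φ₂).obj K)) : IsPerfect A K :=
  isPerfect₂ (φφ φ₁ φ₂) (fun i => by cases i; exact hs₂; exact hs₁) h0 K
    (fun i => by cases i; exact h₂; exact h₁)

end Pair

end Groth.Agent.H4.TwoIdeal
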