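import Groth.Agent.H4.BddFibLib8
import Groth.Prelude.Def_W4decUnivBdd
import Groth.Agent.Lib.Helper5.AlgSp.Points
import Mathlib
set_option linter.style.haveILetI false
universe u
open CategoryTheory AlgebraicGeometry Limits TensorProduct

namespace Groth.Agent.H4.UBF
open Groth.Agent.H4.BddFibLib

lemma finiteOfDegLE_mono {K : CommRingCat.{u}} {T : Scheme.{u}} (p : T ⟶ Spec K) {n m : ℕ}
    (hnm : n ≤ m) (h : BddFib.FiniteOfDegLE K p n) : BddFib.FiniteOfDegLE K p m :=
  ⟨h.1, h.2.1, le_trans h.2.2 hnm⟩

lemma flat_of_field_of_isAffine {K : Type u} [Field K] {T : Scheme.{u}} [IsAffine T]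
    (c : T ⟶ Spec (CommRingCat.of K)) : Flat c := by
  rw [eq_isoSpec_comp c]
  have : Flat (Spec.map ((Scheme.ΓSpecIso (CommRingCat.of K)).inv ≫ c.appTop)) := by
    rw [Flat.SpecMap_iff]
    letI := ((Scheme.ΓSpecIso (CommRingCat.of K)).inv ≫ c.appTop).hom.toAlgebra
    change Module.Flat K _
    infer_instance
  infer_instance

/-- translation between the two notions of "finite of degree ≤ n over a field" -/
lemma finiteOfDegLE_iff_isFinite_finrank {K : Type u} [Field K] {T : Scheme.{u}}
    (c : T ⟶ Spec (CommRingCat.of K)) (n : ℕ) :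
    BddFib.FiniteOfDegLE (CommRingCat.of K) c n ↔ IsFinite c ∧ ∀ s, c.finrank s ≤ n := by
  constructor
  · intro h
    have haff : IsAffine T := h.1
    have hflat := flat_of_field_of_isAffine c
    rw [finiteOfDegLE_iff] at h
    obtain ⟨-, hfin, hle⟩ := h
    set ψ := (Scheme.ΓSpecIso (CommRingCat.of K)).inv ≫ c.appTop with hψ
    have hpe : c = T.isoSpec.hom ≫ Spec.map ψ := eq_isoSpec_comp c
    have h1 : IsFinite (Spec.map ψ) := (IsFinite.SpecMap_iff _).mpr hfin
    have hc : IsFinite c := by rw [hpe]; infer_instance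
    refine ⟨hc, fun s => ?_⟩
    have h2 : Flat (Spec.map ψ) :=
      (MorphismProperty.cancel_left_of_respectsIso (P := @Flat) T.isoSpec.hom (Spec.map ψ)).mp
        (hpe ▸ hflat)
    have h3 : (Spec.map ψ).finrank = c.finrank := by
      conv_rhs => rw [hpe]
      exact (Scheme.Hom.finrank_comp_left_of_isIso _ _).symm
    rw [Scheme.Hom.finrank_SpecMap_eq_finrank hfin (Flat.SpecMap_iff.mp h2)] at h3
    rw [← h3]
    letI := ψ.hom.toAlgebra
    change Module.rankAtStalk _ _ ≤ n
    rw [Module.rankAtStalk_eq_finrank_of_free]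
    exact hle
  · rintro ⟨hfin, hle⟩
    have haff : IsAffine T := isAffine_of_isAffineHom c
    have hflat := flat_of_field_of_isAffine c
    refine finiteOfDegLE_mono c (hle default) (finiteOfDegLE_of_finrank c _ (fun x => ?_))
    rw [Subsingleton.elim x default]

open AlgSp

variable {S : Scheme.{u}}

lemma isPullback_yon_map_iff {P X Y Z : Over S} (fst : P ⟶ X) (snd : P ⟶ Y) (f : X ⟶ Z) (g : Y ⟶ Z) :
    IsPullback ((yon S).map fst) ((yon S).map snd) ((yon S).map f) ((yon S).map g) ↔
      IsPullback fst snd f g := by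
  constructor
  · intro h
    have w : fst ≫ f = snd ≫ g := (yon S).map_injective (by
      rw [Functor.map_comp, Functor.map_comp]; exact h.w)
    exact IsPullback.of_map (yon S) w h
  · intro h
    exact h.map (yon S)

lemma isPullback_left_iff {P X Y Z : Over S} (fst : P ⟶ X) (snd : P ⟶ Y) (f : X ⟶ Z) (g : Y ⟶ Z) :
    IsPullback fst.left snd.left f.left g.left ↔ IsPullback fst snd f g := by
  constructor
  · intro h
    have w : fst ≫ f = snd ≫ g := Over.OverMorphism.ext (by simpa using h.w)
    exact IsPullback.of_map (Over.forget S) w h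
  · intro h
    exact h.map (Over.forget S)


lemma toHom_yon {U : Over S} (q : FieldPt ((yon S).obj U)) :
    q.toHom = (yon S).map q.val.down := by
  apply (J S).uliftYonedaEquiv.injective
  rw [FieldPt.uliftYonedaEquiv_toHom, GrothendieckTopology.uliftYonedaEquiv_uliftYoneda_map]
  rfl

/-- the field point of `h_U` attached to `g : Spec k ⟶ U.left`. -/
noncomputable def fieldPtOfHom {U : Over S} {k : Type u} [Field k] (g : Spec (CommRingCat.of k) ⟶ U.left) :
    FieldPt ((yon S).obj U) where
  K := k
  str := g ≫ U.hom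
  val := ⟨Over.homMk g rfl⟩

lemma toHom_fieldPtOfHom {U : Over S} {k : Type u} [Field k]
    (g : Spec (CommRingCat.of k) ⟶ U.left) :
    (fieldPtOfHom g).toHom = (yon S).map (Over.homMk g rfl : Over.mk (g ≫ U.hom) ⟶ U) :=
  toHom_yon _


theorem degFibresLE_yon_map_iff {U V : Over S} (f : V ⟶ U) (n : ℕ) :
    W4dec.DegFibresLE n ((yon S).map f) ↔ BddFib.FibreDegLE f.left n := by
  constructor
  · intro h
    rw [fibreDegLE_iff_forall_field_points]
    intro k _ g
    let q := fieldPtOfHom (U := U) g
    let T : Over S := Over.mk (pullback.snd f.left g ≫ q.str)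
    let c : T ⟶ q.pt := Over.homMk (pullback.snd f.left g) rfl
    let s : T ⟶ V := Over.homMk (pullback.fst f.left g) (by
      change pullback.fst f.left g ≫ V.hom = pullback.snd f.left g ≫ g ≫ U.hom
      rw [← Over.w f, ← Category.assoc, pullback.condition, Category.assoc])
    have sq : IsPullback c s (Over.homMk g rfl : q.pt ⟶ U) f := by
      rw [← isPullback_left_iff]
      exact (IsPullback.of_hasPullback f.left g).flip
    have sq' := (isPullback_yon_map_iff _ _ _ _).mpr sq
    have sq'' : IsPullback ((yon S).map c) ((yon S).map s) q.toHom ((yon S).map f) := by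
      rw [toHom_fieldPtOfHom]; exact sq'
    obtain ⟨h1, h2⟩ := h q T c ((yon S).map s) sq''
    exact (finiteOfDegLE_iff_isFinite_finrank _ n).mpr ⟨h1, h2⟩
  · intro h q T c snd sq
    obtain ⟨s, rfl⟩ := (yon S).map_surjective snd
    rw [toHom_yon, isPullback_yon_map_iff, ← isPullback_left_iff] at sq
    refine (finiteOfDegLE_iff_isFinite_finrank (K := q.K) c.left n).mp ?_
    rw [finiteOfDegLE_iff_fiber f.left q.val.down.left s.left c.left sq.flip n]
    exact h _

end Groth.Agent.H4.UBF
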