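import Groth.Agent.H4.UBF1
import Mathlib
set_option linter.style.haveILetI false
universe u
open CategoryTheory AlgebraicGeometry Limits TensorProduct

namespace Groth.Agent.H4.UBF
open AlgSp Groth.Agent.H4.BddFibLib

variable {S : Scheme.{u}}

/-- Given a pullback `T = pt ×_F V` along `h_V → h_U → F` and a pullback `T' = pt ×_F U`,
the induced map `T → T'` is a base change of `V → U`. -/
lemma exists_map_of_isPullback_comp {F : Sp S} {U V : Over S} (f : V ⟶ U)
    (g : (yon S).obj U ⟶ F) {P : Over S} (a : (yon S).obj P ⟶ F) {T T' : Over S} (c : T ⟶ P)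
    (s : T ⟶ V) (sq : IsPullback ((yon S).map c) ((yon S).map s) a ((yon S).map f ≫ g))
    (c' : T' ⟶ P) (u : T' ⟶ U) (sq' : IsPullback ((yon S).map u) ((yon S).map c') g a) :
    ∃ r : T ⟶ T', r ≫ c' = c ∧ IsPullback s.left r.left f.left u.left := by
  let ρ := sq'.lift ((yon S).map s ≫ (yon S).map f) ((yon S).map c)
    (by rw [Category.assoc]; exact sq.w.symm)
  obtain ⟨r, hr⟩ := (yon S).map_surjective ρ
  have hρ1 : ρ ≫ (yon S).map u = (yon S).map s ≫ (yon S).map f := sq'.lift_fst _ _ _
  have hρ2 : ρ ≫ (yon S).map c' = (yon S).map c := sq'.lift_snd _ _ _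
  have hr2 : r ≫ c' = c := (yon S).map_injective (by rw [Functor.map_comp, hr, hρ2])
  refine ⟨r, hr2, ?_⟩
  have sqL : IsPullback ρ ((yon S).map s) ((yon S).map u) ((yon S).map f) := by
    refine IsPullback.of_right (h₁₂ := (yon S).map c') (h₂₂ := g) (v₁₃ := a) ?_ hρ1 sq'.flip
    rw [hρ2]
    exact sq
  rw [← hr, isPullback_yon_map_iff, ← isPullback_left_iff] at sqL
  exact sqL.flip

theorem degFibresLE_comp {F : Sp S} {U V : Over S} (f : V ⟶ U) (g : (yon S).obj U ⟶ F)
    (hgr : Representable g) (n m : ℕ) (hf : BddFib.FibreDegLE f.left n)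
    (hg : W4dec.DegFibresLE m g) : W4dec.DegFibresLE (n * m) ((yon S).map f ≫ g) := by
  intro q T c snd sq
  obtain ⟨T', c', fst', sq'⟩ := hgr q.toHom
  obtain ⟨h1, h2⟩ := hg q T' c' fst' sq'.flip
  obtain ⟨s, rfl⟩ := (yon S).map_surjective snd
  obtain ⟨u, rfl⟩ := (yon S).map_surjective fst'
  obtain ⟨r, hr2, sqL⟩ := exists_map_of_isPullback_comp f g q.toHom c s sq c' u sq'
  have hr : BddFib.FibreDegLE r.left n :=
    fibreDegLE_of_isPullback f.left u.left r.left s.left sqL n hf
  have hc' : BddFib.FiniteOfDegLE (CommRingCat.of q.K) c'.left m :=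
    (finiteOfDegLE_iff_isFinite_finrank (K := q.K) c'.left m).mpr ⟨h1, h2⟩
  have hc := finiteOfDegLE_comp_mul (K := q.K) r.left c'.left n m hr hc'
  have e : r.left ≫ c'.left = c.left := by rw [← Over.comp_left, hr2]
  rw [e] at hc
  exact (finiteOfDegLE_iff_isFinite_finrank (K := q.K) c.left (n * m)).mp hc


theorem degFibresLE_of_flat_surjective {F : Sp S} {U V : Over S} (f : U ⟶ V)
    [Surjective f.left] [Flat f.left] (h : (yon S).obj V ⟶ F) (n : ℕ)
    (hg : W4dec.DegFibresLE n ((yon S).map f ≫ h)) : W4dec.DegFibresLE n h := by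
  intro q T' c' snd' sq'
  obtain ⟨u, rfl⟩ := (yon S).map_surjective snd'
  let r : pullback u f ⟶ T' := pullback.fst u f
  let s : pullback u f ⟶ U := pullback.snd u f
  have sqL : IsPullback r s u f := IsPullback.of_hasPullback u f
  have big : IsPullback ((yon S).map (r ≫ c')) ((yon S).map s) q.toHom ((yon S).map f ≫ h) := by
    rw [Functor.map_comp]
    exact IsPullback.paste_horiz (sqL.map (yon S)) sq'
  obtain ⟨h1, h2⟩ := hg q (pullback u f) (r ≫ c') ((yon S).map s) big
  have sqL' : IsPullback s.left r.left f.left u.left := ((isPullback_left_iff _ _ _ _).mpr sqL).flip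
  have hfl : Flat r.left := MorphismProperty.of_isPullback sqL' inferInstance
  have hsu : Surjective r.left := MorphismProperty.of_isPullback sqL' inferInstance
  have hc : BddFib.FiniteOfDegLE (CommRingCat.of q.K) (r.left ≫ c'.left) n := by
    rw [← Over.comp_left]
    exact (finiteOfDegLE_iff_isFinite_finrank (K := q.K) (r ≫ c').left n).mpr ⟨h1, h2⟩
  have hc' := finiteOfDegLE_of_flat_surjective (K := q.K) r.left c'.left n hc
  exact (finiteOfDegLE_iff_isFinite_finrank (K := q.K) c'.left n).mp hc'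

end Groth.Agent.H4.UBF
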