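import Groth.Agent.H4.UBF2
import Mathlib
set_option linter.style.haveILetI false
universe u
open CategoryTheory AlgebraicGeometry Limits TensorProduct

namespace Groth.Agent.H4.UBF
open AlgSp Groth.Agent.H4.BddFibLib Groth.Agent.H5.AlgSp

variable {S : Scheme.{u}}

lemma finiteOfDegLE_of_isEmpty {K : CommRingCat.{u}} [Nontrivial K] {T : Scheme.{u}} [IsEmpty T]
    (p : T ⟶ Spec K) (n : ℕ) : BddFib.FiniteOfDegLE K p n := by
  have haff : IsAffine T := isAffine_of_isEmpty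
  rw [finiteOfDegLE_iff]
  refine ⟨haff, ?_⟩
  have : IsEmpty (PrimeSpectrum Γ(T, ⊤)) :=
    (T.isoSpec.hom.homeomorph.toEquiv.symm).isEmpty
  have hsub : Subsingleton Γ(T, ⊤) := by
    by_contra hne
    rw [not_subsingleton_iff_nontrivial] at hne
    exact (PrimeSpectrum.nonempty_iff_nontrivial.mpr hne).elim (fun x => this.elim x)
  letI := ((Scheme.ΓSpecIso K).inv ≫ p.appTop).hom.toAlgebra
  refine ⟨inferInstance, ?_⟩
  rw [Module.finrank_zero_of_subsingleton]
  exact Nat.zero_le _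


lemma fpHom_eq_toHom {F : Sp S} (q : FieldPt F) : fpHom q = q.toHom := rfl

theorem degFibresLE_of_baseChange_of_image_subset {F G : Sp S} (g : G ⟶ F) {U V : Over S}
    (f : (yon S).obj U ⟶ F) (fst : (yon S).obj V ⟶ (yon S).obj U) (f' : (yon S).obj V ⟶ G)
    (h : IsPullback fst f' f g)
    (him : Set.range (Points.ofPt f) ⊆ Set.range (Points.map g)) (n : ℕ)
    (hf' : W4dec.DegFibresLE n f') : W4dec.DegFibresLE n f := by
  intro q T c snd sq
  refine (finiteOfDegLE_iff_isFinite_finrank (K := q.K) c.left n).mp ?_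
  by_cases hT : IsEmpty T.left
  · exact finiteOfDegLE_of_isEmpty _ n
  rw [not_isEmpty_iff] at hT
  obtain ⟨t⟩ := hT
  obtain ⟨s, rfl⟩ := (yon S).map_surjective snd
  have hpt : Points.ofPt f (s.left t) = Points.mk q := by
    rw [← ofPt_yon_map_comp, ← sq.w, ofPt_yon_map_comp, Points.ofPt_toHom]
  obtain ⟨y, hy⟩ := him ⟨s.left t, rfl⟩
  obtain ⟨L, _, str', η, rfl⟩ := exists_fpOfHom y
  rw [hpt, map_mk_fpOfHom] at hy
  have hq : q = fpOfHom q.str q.toHom := (fpOfHom_fpHom q).symm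
  rw [hq, mk_fpOfHom_eq_iff] at hy
  obtain ⟨Ω, _, w, b, a, hab⟩ := hy
  let q'' : FieldPt G := fpOfHom w ((yon S).map b ≫ η)
  have hq'' : q''.toHom = (yon S).map b ≫ η := fpHom_fpOfHom w _
  let a' : Over.mk w ⟶ q.pt := a
  let pr : pullback c a' ⟶ T := pullback.fst c a'
  let cΩ : pullback c a' ⟶ q''.pt := pullback.snd c a'
  have sqT : IsPullback pr cΩ c a' := IsPullback.of_hasPullback c a'
  have hab' : (yon S).map a' ≫ q.toHom = q''.toHom ≫ g := by
    have e1 : q''.toHom ≫ g = ((yon S).map b ≫ η) ≫ g := congrArg (· ≫ g) hq''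
    rw [e1]
    exact hab.symm.trans (Category.assoc _ _ _).symm
  have big : IsPullback ((yon S).map pr ≫ (yon S).map s) ((yon S).map cΩ) f
      (q''.toHom ≫ g) := by
    rw [← hab']
    exact IsPullback.paste_horiz (sqT.map (yon S)) sq.flip
  let σ := h.lift ((yon S).map pr ≫ (yon S).map s) ((yon S).map cΩ ≫ q''.toHom)
    (by rw [Category.assoc, Category.assoc]; exact big.w)
  have hσ1 : σ ≫ fst = (yon S).map pr ≫ (yon S).map s := h.lift_fst _ _ _
  have hσ2 : σ ≫ f' = (yon S).map cΩ ≫ q''.toHom := h.lift_snd _ _ _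
  have sqΩ : IsPullback σ ((yon S).map cΩ) f' q''.toHom := by
    refine IsPullback.of_right (h₁₂ := fst) (h₂₂ := g) (v₁₃ := f) ?_ hσ2 h
    rw [hσ1]
    exact big
  obtain ⟨h1, h2⟩ := hf' q'' (pullback c a') cΩ σ sqΩ.flip
  have hcΩ : BddFib.FiniteOfDegLE (CommRingCat.of Ω) cΩ.left n :=
    (finiteOfDegLE_iff_isFinite_finrank (K := Ω) cΩ.left n).mpr ⟨h1, h2⟩
  have sqS : IsPullback pr.left cΩ.left c.left a'.left := (isPullback_left_iff _ _ _ _).mpr sqT
  obtain ⟨φ, hφ⟩ := Spec.map_surjective a'.left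
  rw [← hφ] at sqS
  exact (finiteOfDegLE_baseChange_iff (K := q.K) (L := Ω) φ c.left cΩ.left pr.left sqS n).mp hcΩ

end Groth.Agent.H4.UBF
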