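import Groth.Agent.H4.UBF3
import Mathlib
set_option linter.style.haveILetI false
universe u
open CategoryTheory AlgebraicGeometry Limits TensorProduct

namespace Groth.Agent.H4.UBF
open AlgSp Groth.Agent.H4.BddFibLib Groth.Agent.H5.AlgSp

variable {S : Scheme.{u}}

lemma finiteOfDegLE_of_flat_family {K : Type u} [Field K] {S' : Scheme.{u}}
    (pS : S' ⟶ Spec (CommRingCat.of K)) {ι : Type} [Fintype ι] (Tk : ι → Scheme.{u})
    (r : ∀ k, Tk k ⟶ S') [∀ k, Flat (r k)] (hsurj : ∀ x : S', ∃ k y, r k y = x) (n : ι → ℕ)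
    (h : ∀ k, BddFib.FiniteOfDegLE (CommRingCat.of K) (r k ≫ pS) (n k)) :
    BddFib.FiniteOfDegLE (CommRingCat.of K) pS (∑ k, n k) := by
  let ρ : ∐ Tk ⟶ S' := Sigma.desc r
  have hρ : ∀ k, Sigma.ι Tk k ≫ ρ = r k := fun k => Sigma.ι_desc _ _
  have hcov : ∀ x : (∐ Tk : Scheme.{u}), ∃ k y, Sigma.ι Tk k y = x := fun x =>
    ⟨(sigmaOpenCover Tk).idx x, (sigmaOpenCover Tk).covers x⟩
  have h1 : BddFib.FiniteOfDegLE (CommRingCat.of K) (ρ ≫ pS) (∑ k, n k) := by
    refine finiteOfDegLE_of_finite_openCover (ρ ≫ pS) Tk (fun k => Sigma.ι Tk k) hcov n ?_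
    intro k
    rw [← Category.assoc, hρ]
    exact h k
  have hfl : Flat ρ := by
    rw [IsZariskiLocalAtSource.iff_of_openCover (P := @Flat) (sigmaOpenCover Tk)]
    intro k
    change Flat (Sigma.ι Tk k ≫ ρ)
    rw [hρ]
    infer_instance
  have hsu : Surjective ρ := by
    refine ⟨fun x => ?_⟩
    obtain ⟨k, y, hy⟩ := hsurj x
    refine ⟨Sigma.ι Tk k y, ?_⟩
    rw [← Scheme.Hom.comp_apply, hρ, hy]
  exact finiteOfDegLE_of_flat_surjective ρ pS _ h1


theorem degFibresLE_of_flat_family {F : Sp S} {V : Over S} (h : (yon S).obj V ⟶ F)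
    {ι : Type} [Fintype ι] (W : ι → Over S) (f : ∀ k, W k ⟶ V) [∀ k, Flat (f k).left]
    (hsurj : ∀ v : V.left, ∃ k w, (f k).left w = v) (n : ι → ℕ)
    (hg : ∀ k, W4dec.DegFibresLE (n k) ((yon S).map (f k) ≫ h)) :
    W4dec.DegFibresLE (∑ k, n k) h := by
  intro q T' c' snd' sq'
  obtain ⟨u, rfl⟩ := (yon S).map_surjective snd'
  let r : ∀ k, pullback u (f k) ⟶ T' := fun k => pullback.fst u (f k)
  let s : ∀ k, pullback u (f k) ⟶ W k := fun k => pullback.snd u (f k)
  have sqL : ∀ k, IsPullback (r k) (s k) u (f k) := fun k => IsPullback.of_hasPullback u (f k)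
  have big : ∀ k, IsPullback ((yon S).map (r k ≫ c')) ((yon S).map (s k)) q.toHom
      ((yon S).map (f k) ≫ h) := by
    intro k
    rw [Functor.map_comp]
    exact IsPullback.paste_horiz ((sqL k).map (yon S)) sq'
  have sqL' : ∀ k, IsPullback (s k).left (r k).left (f k).left u.left := fun k =>
    ((isPullback_left_iff _ _ _ _).mpr (sqL k)).flip
  have hfl : ∀ k, Flat (r k).left := fun k => MorphismProperty.of_isPullback (sqL' k) inferInstance
  have hc : ∀ k, BddFib.FiniteOfDegLE (CommRingCat.of q.K) ((r k).left ≫ c'.left) (n k) := by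
    intro k
    obtain ⟨h1, h2⟩ := hg k q (pullback u (f k)) (r k ≫ c') ((yon S).map (s k)) (big k)
    rw [← Over.comp_left]
    exact (finiteOfDegLE_iff_isFinite_finrank (K := q.K) (r k ≫ c').left (n k)).mpr ⟨h1, h2⟩
  have hcov : ∀ x : T'.left, ∃ k y, (r k).left y = x := by
    intro x
    obtain ⟨k, w, hw⟩ := hsurj (u.left x)
    obtain ⟨z, -, hz⟩ := exists_preimage_of_isPullback (sqL' k) w x hw
    exact ⟨k, z, hz⟩
  have := finiteOfDegLE_of_flat_family (K := q.K) c'.left (fun k => (pullback u (f k)).left)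
    (fun k => (r k).left) hcov n hc
  exact (finiteOfDegLE_iff_isFinite_finrank (K := q.K) c'.left _).mp this


theorem hasUnivBddFibres_affine_etale_of_etale_cover (X : AlgSp.Space S) {ι : Type u}
    (U : ι → Over S) (φ : ∀ i, (yon S).obj (U i) ⟶ X.obj) (hφ : ∀ i, RepWith @Etale (φ i))
    (hsurj : ∀ x : Points X.obj, ∃ (i : ι) (v : ↥(U i).left), Points.ofPt (φ i) v = x)
    (hb : ∀ i, W4dec.HasUnivBddFibres (φ i)) {V : Over S} [IsAffine V.left]
    (ψ : (yon S).obj V ⟶ X.obj) (hψ : RepWith @Etale ψ) : W4dec.HasUnivBddFibres ψ := by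
  have hrep : ∀ i, ∃ (W : Over S) (a : W ⟶ V) (b : W ⟶ U i),
      IsPullback ((yon S).map b) ((yon S).map a) (φ i) ψ := by
    intro i
    obtain ⟨W, a, fst, sq⟩ := (hφ i).1 ψ
    obtain ⟨b, rfl⟩ := (yon S).map_surjective fst
    exact ⟨W, a, b, sq⟩
  choose W a b sq using hrep
  have ha : ∀ i, Etale (a i).left := fun i => (hφ i).2 ψ _ _ (sq i)
  have hbet : ∀ i, Etale (b i).left := fun i => hψ.2 (φ i) _ _ (sq i).flip
  have hpt : ∀ v : V.left, ∃ (i : ι) (O : (W i).left.Opens), IsAffineOpen O ∧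
      v ∈ (a i).left '' (O : Set (W i).left) := by
    intro v
    obtain ⟨i, u, hu⟩ := hsurj (Points.ofPt ψ v)
    have hx : Points.map (φ i) (Points.ofScheme (U i) u) = Points.ofPt ψ v := by
      rw [← Points.ofPt_eq_map_ofScheme, hu]
    obtain ⟨w, hw, -⟩ := exists_point_of_isPullback (sq i) _ v hx
    obtain ⟨_, ⟨O, hO : IsAffineOpen O, rfl⟩, hwO, -⟩ :=
      (W i).left.isBasis_affineOpens.exists_subset_of_mem_open (Set.mem_univ w) isOpen_univ
    exact ⟨i, O, hO, w, hwO, hw⟩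
  choose iv Ov hOaff hvO using hpt
  have hopen : ∀ v, IsOpen ((a (iv v)).left '' (Ov v : Set (W (iv v)).left)) := fun v =>
    (a (iv v)).left.isOpenMap _ (Ov v).isOpen
  obtain ⟨t, ht⟩ := isCompact_univ.elim_finite_subcover
    (fun v => (a (iv v)).left '' (Ov v : Set (W (iv v)).left)) hopen
    (fun v _ => Set.mem_iUnion.mpr ⟨v, hvO v⟩)
  classical
  let e := (Fintype.equivFin t).symm
  let W' : Fin (Fintype.card t) → Over S := fun k =>
    Over.mk ((Ov (e k)).ι ≫ (W (iv (e k))).hom)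
  let j : ∀ k, W' k ⟶ W (iv (e k)) := fun k => Over.homMk (Ov (e k)).ι rfl
  let f : ∀ k, W' k ⟶ V := fun k => j k ≫ a (iv (e k))
  have hfl : ∀ k, Flat (f k).left := by
    intro k
    change Flat ((Ov (e k)).ι ≫ (a (iv (e k))).left)
    infer_instance
  have hcov : ∀ v : V.left, ∃ k w, (f k).left w = v := by
    intro v
    have hv := ht (Set.mem_univ v)
    simp only [Set.mem_iUnion] at hv
    obtain ⟨v', hv't, o, ho, hov⟩ := hv
    have key : ∀ x : t, ∀ o ∈ (Ov x : Set (W (iv x)).left), ∃ k w,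
        (f k).left w = (a (iv x)).left o := by
      intro x
      obtain ⟨k, rfl⟩ := e.surjective x
      intro o ho
      exact ⟨k, ⟨o, ho⟩, rfl⟩
    obtain ⟨k, w, hw⟩ := key ⟨v', hv't⟩ o ho
    exact ⟨k, w, hw.trans hov⟩
  have hk : ∀ k, ∃ nm, W4dec.DegFibresLE nm ((yon S).map (f k) ≫ ψ) := by
    intro k
    let g : W' k ⟶ U (iv (e k)) := j k ≫ b (iv (e k))
    have hg_et : Etale g.left := by
      change Etale ((Ov (e k)).ι ≫ (b (iv (e k))).left)
      infer_instance
    have hlqf := locallyQuasiFinite_of_etale g.left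
    have hcpt : CompactSpace (W' k).left :=
      isCompact_iff_compactSpace.mp (hOaff (e k)).isCompact
    obtain ⟨n, hn⟩ := univBounded_of_locallyQuasiFinite_of_compactSpace g.left
    obtain ⟨m, hm⟩ := hb (iv (e k))
    refine ⟨n * m, ?_⟩
    have heq : (yon S).map (f k) ≫ ψ = (yon S).map g ≫ φ (iv (e k)) := by
      simp only [f, g, Functor.map_comp, Category.assoc]
      rw [(sq (iv (e k))).w]
    rw [heq]
    exact degFibresLE_comp g (φ (iv (e k))) (hφ (iv (e k))).1 n m hn hm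
  choose nm hnm using hk
  exact ⟨_, degFibresLE_of_flat_family ψ W' f hcov nm hnm⟩

end Groth.Agent.H4.UBF
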