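import Mathlib
import Groth.Prelude.Def_Flat
import Groth.Agent.H4.UHTower
import Groth.Agent.H4.FPColim

set_option autoImplicit false
universe u
open CategoryTheory CategoryTheory.Limits AlgebraicGeometry TensorProduct

namespace Groth.Agent.H4.UHApprox

open Groth.Agent.S7405 Groth.Agent.H4.UHCrit Groth.Agent.H4.SemiNormal
  Groth.Agent.H4.SemiNormalTower Groth.Agent.H4.UHTower Groth.Agent.H4.FPColim

section Gen
variable {A Q : Type u} [CommRing A] [CommRing Q] [Algebra A Q]

/-- universal injectivity can be checked on algebra generators -/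
lemma ui_of_generators (G : Set Q) (hG : Algebra.adjoin A G = ⊤)
    (h : ∀ g ∈ G, IsNilpotent ((1 : Q) ⊗ₜ[A] g - g ⊗ₜ[A] (1 : Q))) : UI A Q := by
  let N : Ideal (Q ⊗[A] Q) := nilradical (Q ⊗[A] Q)
  let p₁ : Q →ₐ[A] (Q ⊗[A] Q) ⧸ N := (Ideal.Quotient.mkₐ A N).comp Algebra.TensorProduct.includeLeft
  let p₂ : Q →ₐ[A] (Q ⊗[A] Q) ⧸ N := (Ideal.Quotient.mkₐ A N).comp Algebra.TensorProduct.includeRight
  have h12 : p₂ = p₁ := by
    apply AlgHom.ext_of_adjoin_eq_top hG
    intro g hg
    simp only [p₁, p₂, AlgHom.comp_apply, Ideal.Quotient.mkₐ_eq_mk,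
      Algebra.TensorProduct.includeLeft_apply, Algebra.TensorProduct.includeRight_apply]
    rw [Ideal.Quotient.eq]
    exact (mem_nilradical).mpr (h g hg)
  have hall : ∀ x : Q, (1 : Q) ⊗ₜ[A] x - x ⊗ₜ[A] (1 : Q) ∈ N := by
    intro x
    have := congrArg (fun φ => φ x) h12
    simp only [p₁, p₂, AlgHom.comp_apply, Ideal.Quotient.mkₐ_eq_mk,
      Algebra.TensorProduct.includeLeft_apply, Algebra.TensorProduct.includeRight_apply] at this
    rwa [Ideal.Quotient.eq] at this
  intro z hz
  have hz' : z ∈ KaehlerDifferential.ideal A Q := hz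
  rw [← KaehlerDifferential.span_range_eq_ideal] at hz'
  have hle : Ideal.span (Set.range fun s : Q => (1 : Q) ⊗ₜ[A] s - s ⊗ₜ[A] (1 : Q)) ≤ N := by
    rw [Ideal.span_le]
    rintro _ ⟨x, rfl⟩
    exact hall x
  exact (mem_nilradical).mp (hle hz')

end Gen

section Extract
variable {R T : Type*} [CommRing R] [CommRing T]

lemma exists_finset_of_mem_map (f : R →+* T) (K : Ideal R) (z : T) (hz : z ∈ K.map f) :
    ∃ R₀ : Finset R, (↑R₀ : Set R) ⊆ K ∧ z ∈ (Ideal.span (↑R₀ : Set R)).map f := by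
  classical
  rw [Ideal.map, Ideal.span] at hz
  obtain ⟨T₀, hT₀, hzT⟩ := Submodule.mem_span_finite_of_mem_span hz
  choose k hk hfk using fun t : T₀ => hT₀ t.2
  refine ⟨T₀.attach.image k, ?_, ?_⟩
  · intro x hx
    rw [Finset.coe_image] at hx
    obtain ⟨t, -, rfl⟩ := hx
    exact hk t
  · have hle : Submodule.span T (↑T₀ : Set T) ≤
        (Ideal.span (↑(T₀.attach.image k) : Set R)).map f := by
      rw [Submodule.span_le]
      intro t ht
      have : t = f (k ⟨t, ht⟩) := (hfk ⟨t, ht⟩).symm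
      rw [this]
      apply Ideal.mem_map_of_mem
      apply Ideal.subset_span
      rw [Finset.coe_image]
      exact ⟨⟨t, ht⟩, by simp, rfl⟩
    exact hle hzT

lemma exists_finset_of_mem_map_sup {T' : Type*} [CommRing T'] (f g : R →+* T') (K : Ideal R)
    (z : T') (hz : z ∈ K.map f ⊔ K.map g) :
    ∃ R₀ : Finset R, (↑R₀ : Set R) ⊆ K ∧
      z ∈ (Ideal.span (↑R₀ : Set R)).map f ⊔ (Ideal.span (↑R₀ : Set R)).map g := by
  classical
  obtain ⟨z₁, hz₁, z₂, hz₂, rfl⟩ := Submodule.mem_sup.mp hz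
  obtain ⟨R₁, hR₁, h1⟩ := exists_finset_of_mem_map f K z₁ hz₁
  obtain ⟨R₂, hR₂, h2⟩ := exists_finset_of_mem_map g K z₂ hz₂
  refine ⟨R₁ ∪ R₂, ?_, ?_⟩
  · rw [Finset.coe_union]
    exact Set.union_subset hR₁ hR₂
  · refine Submodule.add_mem_sup ?_ ?_
    · refine Ideal.map_mono (Ideal.span_mono ?_) h1
      rw [Finset.coe_union]; exact Set.subset_union_left
    · refine Ideal.map_mono (Ideal.span_mono ?_) h2
      rw [Finset.coe_union]; exact Set.subset_union_right

end Extract


section Lift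
variable {A B : Type u} [CommRing A] [CommRing B] [Algebra A B]

open Polynomial in
theorem lift_uh (hB : UHC A B) (b : B) :
    ∃ (C : Type u) (_ : CommRing C) (_ : Algebra A C) (_ : Algebra.FinitePresentation A C)
      (_ : (algebraMap A C).IsIntegral ∧ UI A C) (g : C →ₐ[A] B) (c : C), g c = b := by
  classical
  let π₀ : A[X] →ₐ[A] B := Polynomial.aeval b
  let E : Subalgebra A B := π₀.range
  let π : A[X] →ₐ[A] E := π₀.rangeRestrict
  have hπ : Function.Surjective π := π₀.rangeRestrict_surjective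
  have hE : UHC A E := uhc_sub hB E
  have hUI_E : UI A E := ((uh_alg_iff A E).mp ((uhc_iff A E).mpr hE)).2.1
  let K : Ideal A[X] := RingHom.ker π
  -- a monic polynomial in `K`
  obtain ⟨P, hPm, hP⟩ := hB.1 b
  have hPK : P ∈ K := by
    apply Subtype.ext
    show π₀ P = 0
    exact hP
  -- the diagonal element
  let D : A[X] ⊗[A] A[X] := (1 : A[X]) ⊗ₜ[A] X - X ⊗ₜ[A] (1 : A[X])
  have hDE : Algebra.TensorProduct.lmul' A (S := E) (Algebra.TensorProduct.map π π D) = 0 := by
    simp only [D, map_sub, Algebra.TensorProduct.map_tmul, map_one,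
      Algebra.TensorProduct.lmul'_apply_tmul, one_mul, mul_one, sub_self]
  obtain ⟨N, hN⟩ := hUI_E _ hDE
  have hDK : D ^ N ∈ K.map (Algebra.TensorProduct.includeLeft : A[X] →ₐ[A] A[X] ⊗[A] A[X]) ⊔
      K.map (Algebra.TensorProduct.includeRight : A[X] →ₐ[A] A[X] ⊗[A] A[X]) := by
    rw [← Algebra.TensorProduct.map_ker π π hπ hπ, RingHom.mem_ker, map_pow]
    exact hN
  obtain ⟨R₀, hR₀, hDR⟩ := exists_finset_of_mem_map_sup
    (Algebra.TensorProduct.includeLeft : A[X] →ₐ[A] A[X] ⊗[A] A[X]).toRingHom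
    (Algebra.TensorProduct.includeRight : A[X] →ₐ[A] A[X] ⊗[A] A[X]).toRingHom K (D ^ N) hDK
  let I : Ideal A[X] := Ideal.span (↑(insert P R₀) : Set A[X])
  have hIK : I ≤ K := by
    rw [Ideal.span_le, Finset.coe_insert]
    exact Set.insert_subset hPK hR₀
  have hIfg : I.FG := ⟨insert P R₀, rfl⟩
  have hPI : P ∈ I := Ideal.subset_span (by simp)
  have hR₀I : Ideal.span (↑R₀ : Set A[X]) ≤ I := Ideal.span_mono (by simp)
  let C := A[X] ⧸ I
  let ρ : A[X] →ₐ[A] C := Ideal.Quotient.mkₐ A I
  have hρ : Function.Surjective ρ := Ideal.Quotient.mkₐ_surjective A I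
  have hkerρ : RingHom.ker ρ = I := Ideal.Quotient.mkₐ_ker A I
  haveI : Algebra.FinitePresentation A C := Algebra.FinitePresentation.quotient hIfg
  -- generator
  have hgen : Algebra.adjoin A {ρ X} = ⊤ := by
    have h1 : (Algebra.adjoin A {(X : A[X])}).map ρ = ⊤ := by
      rw [Polynomial.adjoin_X, Algebra.map_top]
      exact (AlgHom.range_eq_top ρ).mpr hρ
    rw [← h1, AlgHom.map_adjoin, Set.image_singleton]
  -- integrality
  have hint : (algebraMap A C).IsIntegral := by
    have hX : IsIntegral A (ρ X) := by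
      refine ⟨P, hPm, ?_⟩
      have : Polynomial.aeval (ρ X) P = ρ (Polynomial.aeval X P) := (Polynomial.aeval_algHom_apply ρ X P)
      rw [← Polynomial.aeval_def, this, Polynomial.aeval_X_left_apply]
      exact (Ideal.Quotient.eq_zero_iff_mem).mpr hPI
    have hle : Algebra.adjoin A {ρ X} ≤ integralClosure A C := by
      apply Algebra.adjoin_le
      intro x hx
      rw [Set.mem_singleton_iff] at hx
      rw [hx]
      exact hX
    intro c
    have : c ∈ Algebra.adjoin A {ρ X} := by rw [hgen]; trivial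
    exact hle this
  -- universal injectivity
  have hui : UI A C := by
    apply ui_of_generators {ρ X} hgen
    intro g hg
    rw [Set.mem_singleton_iff] at hg
    subst hg
    have hD : (1 : C) ⊗ₜ[A] ρ X - ρ X ⊗ₜ[A] (1 : C) = Algebra.TensorProduct.map ρ ρ D := by
      simp only [D, map_sub, Algebra.TensorProduct.map_tmul, map_one]
    rw [hD]
    refine ⟨N, ?_⟩
    rw [← map_pow, ← RingHom.mem_ker, Algebra.TensorProduct.map_ker ρ ρ hρ hρ, hkerρ]
    have hle : (Ideal.span (↑R₀ : Set A[X])).map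
          (Algebra.TensorProduct.includeLeft : A[X] →ₐ[A] A[X] ⊗[A] A[X]).toRingHom ⊔
        (Ideal.span (↑R₀ : Set A[X])).map
          (Algebra.TensorProduct.includeRight : A[X] →ₐ[A] A[X] ⊗[A] A[X]).toRingHom ≤
        I.map (Algebra.TensorProduct.includeLeft : A[X] →ₐ[A] A[X] ⊗[A] A[X]) ⊔
        I.map (Algebra.TensorProduct.includeRight : A[X] →ₐ[A] A[X] ⊗[A] A[X]) :=
      sup_le (le_sup_of_le_left (Ideal.map_mono hR₀I)) (le_sup_of_le_right (Ideal.map_mono hR₀I))
    exact hle hDR
  -- the map to `B`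
  have hI0 : ∀ x ∈ I, π₀ x = 0 := by
    intro x hx
    have := hIK hx
    exact congrArg Subtype.val this
  refine ⟨C, inferInstance, inferInstance, inferInstance, ⟨hint, hui⟩,
    Ideal.Quotient.liftₐ I π₀ hI0, ρ X, ?_⟩
  show π₀ X = b
  exact Polynomial.aeval_X b

end Lift


section ClsUH
variable {A B : Type u} [CommRing A] [CommRing B] [Algebra A B]

/-- the ring-level form of "universal homeomorphism" -/
def PUH (A : Type u) [CommRing A] (C : Type u) [CommRing C] [Algebra A C] : Prop :=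
  (algebraMap A C).IsIntegral ∧ UI A C ∧
    Function.Surjective (PrimeSpectrum.comap (algebraMap A C))

lemma spec_surj_of_algHom {C C' : Type u} [CommRing C] [CommRing C'] [Algebra A C] [Algebra A C']
    (g : C' →ₐ[A] C) (h : Function.Surjective (PrimeSpectrum.comap (algebraMap A C))) :
    Function.Surjective (PrimeSpectrum.comap (algebraMap A C')) := by
  intro p
  obtain ⟨q, hq⟩ := h p
  refine ⟨PrimeSpectrum.comap g.toRingHom q, ?_⟩
  rw [← hq]
  apply PrimeSpectrum.ext
  show (q.asIdeal.comap g.toRingHom).comap (algebraMap A C') = q.asIdeal.comap (algebraMap A C)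
  rw [Ideal.comap_comap]
  congr 1
  ext a
  exact g.commutes a

lemma spec_inj_of_ui {C : Type u} [CommRing C] [Algebra A C] (h : UI A C) :
    Function.Injective (PrimeSpectrum.comap (algebraMap A C)) := by
  haveI : UniversallyInjective (Spec.map (CommRingCat.ofHom (algebraMap A C))) :=
    (univInj_alg_iff A C).mpr h
  exact (Spec.map (CommRingCat.ofHom (algebraMap A C))).injective

/-- algebras in the class mapping to an `SN` algebra have trivial residue field extensions -/
lemma res_of_map {C : Type u} [CommRing C] [Algebra A C] (hC : UI A C) (g : C →ₐ[A] B)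
    (hBsurj : Function.Surjective (PrimeSpectrum.comap (algebraMap A B))) (hB : Res A B) :
    Res A C := by
  intro q hq x
  obtain ⟨Q, hQ⟩ := hBsurj (PrimeSpectrum.comap (algebraMap A C) ⟨q, hq⟩)
  have hqQ : PrimeSpectrum.comap g.toRingHom Q = ⟨q, hq⟩ := by
    apply spec_inj_of_ui hC
    rw [← hQ]
    apply PrimeSpectrum.ext
    show (Q.asIdeal.comap g.toRingHom).comap (algebraMap A C) = Q.asIdeal.comap (algebraMap A B)
    rw [Ideal.comap_comap]
    congr 1
    ext a
    exact g.commutes a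
  have hq' : Q.asIdeal.comap g.toRingHom = q := congrArg PrimeSpectrum.asIdeal hqQ
  haveI := Q.isPrime
  obtain ⟨a, s, hs, hsa⟩ := hB Q.asIdeal (g x)
  refine ⟨a, s, ?_, ?_⟩
  · intro hmem
    rw [← hq', Ideal.mem_comap] at hmem
    apply hs
    have : g.toRingHom (algebraMap A C s) = algebraMap A B s := g.commutes s
    rwa [this] at hmem
  · rw [← hq', Ideal.mem_comap]
    have : g.toRingHom (algebraMap A C s * x - algebraMap A C a) =
        algebraMap A B s * g x - algebraMap A B a := by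
      rw [map_sub, map_mul]
      show g (algebraMap A C s) * g x - g (algebraMap A C a) = _
      rw [g.commutes, g.commutes]
    rw [this]
    exact hsa

lemma puh_iff (C : Type u) [CommRing C] [Algebra A C] :
    FlatMor.IsUnivHomeo (Spec.map (CommRingCat.ofHom (algebraMap A C))) ↔ PUH A C :=
  uh_alg_iff A C

lemma puh_self : PUH A A := by
  refine ⟨fun a => isIntegral_algebraMap, ui_self A, ?_⟩
  intro p
  exact ⟨p, by rw [Algebra.algebraMap_self, PrimeSpectrum.comap_id]⟩

lemma puh_quot {C : Type u} [CommRing C] [Algebra A C] (hBsurj : Function.Surjective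
    (PrimeSpectrum.comap (algebraMap A B))) (g : C →ₐ[A] B) (J : Ideal C)
    (hker : ∀ x ∈ J, g x = 0) (hC : PUH A C) : PUH A (C ⧸ J) :=
  ⟨integral_of_surjective (Ideal.Quotient.mkₐ A J) (Ideal.Quotient.mkₐ_surjective A J) hC.1,
    ui_of_surjective (Ideal.Quotient.mkₐ A J) (Ideal.Quotient.mkₐ_surjective A J) hC.2.1,
    spec_surj_of_algHom (Ideal.Quotient.liftₐ J g hker) hBsurj⟩

/-- the class of universal homeomorphisms -/
def clsUH (hB : UHC A B) : Cls A B where
  P C _ _ := PUH A C
  of_equiv e h := ⟨integral_of_surjective e.toAlgHom e.surjective h.1,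
    ui_of_surjective e.toAlgHom e.surjective h.2.1,
    spec_surj_of_algHom e.symm.toAlgHom h.2.2⟩
  tensor {C C'} _ _ _ _ _ _ g g' h h' :=
    (puh_iff _).mp (uh_tensor A C C' ((puh_iff C).mpr h) ((puh_iff C').mpr h'))
  quot g J _ hker h := puh_quot hB.2.1.2 g J hker h
  base := puh_self

/-- the class of universal homeomorphisms with trivial residue field extensions -/
def clsSN (hB : SN A B) : Cls A B where
  P C _ _ := PUH A C ∧ Res A C
  of_equiv e h := ⟨⟨integral_of_surjective e.toAlgHom e.surjective h.1.1,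
    ui_of_surjective e.toAlgHom e.surjective h.1.2.1,
    spec_surj_of_algHom e.symm.toAlgHom h.1.2.2⟩, res_of_surjective e.toAlgHom e.surjective h.2⟩
  tensor {C C'} _ _ _ _ _ _ g g' h h' := by
    have hT : PUH A (C ⊗[A] C') :=
      (puh_iff _).mp (uh_tensor A C C' ((puh_iff C).mpr h.1) ((puh_iff C').mpr h'.1))
    exact ⟨hT, res_of_map hT.2.1 (Algebra.TensorProduct.lift g g' (fun _ _ => Commute.all _ _))
      hB.2.1.2 hB.2.2⟩
  quot g J _ hker h := ⟨puh_quot hB.2.1.2 g J hker h.1,
    res_of_surjective (Ideal.Quotient.mkₐ A J) (Ideal.Quotient.mkₐ_surjective A J) h.2⟩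
  base := ⟨puh_self, res_self A⟩

lemma uhc_of_sn (h : SN A B) : UHC A B :=
  (uhc_iff A B).mp ((sn_iff A B).mpr h).1

end ClsUH

end Groth.Agent.H4.UHApprox
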