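import Mathlib
import Groth.Prelude.Def_Flat
import Groth.Agent.H4.UHPow2
import Groth.Agent.S0418

set_option autoImplicit false
universe u
open CategoryTheory CategoryTheory.Limits AlgebraicGeometry TensorProduct

namespace Groth.Agent.H4.UHCharP

section CharP
variable {A B : Type u} [CommRing A] [CommRing B]

/-- universal homeomorphisms in characteristic `p` -/
lemma uh_charP_iff (p : ℕ) [hp : Fact p.Prime] [CharP A p] [CharP B p] (φ : A →+* B) :
    FlatMor.IsUnivHomeo (Spec.map (CommRingCat.ofHom φ)) ↔
      (∀ a ∈ RingHom.ker φ, IsNilpotent a) ∧ ∀ b : B, ∃ n : ℕ, b ^ (p ^ n) ∈ φ.range := by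
  have hbij : Function.Bijective (Localization.awayMap φ (p : A)) := by
    have h0 : (p : A) = 0 := CharP.cast_eq_zero A p
    have h0' : φ (p : A) = 0 := by rw [h0, map_zero]
    haveI : Subsingleton (Localization.Away (p : A)) :=
      IsLocalization.subsingleton (M := Submonoid.powers (p : A)) ⟨1, by show (p : A) ^ 1 = 0; rw [pow_one, h0]⟩
    haveI : Subsingleton (Localization.Away (φ (p : A))) :=
      IsLocalization.subsingleton (M := Submonoid.powers (φ (p : A))) ⟨1, by show φ (p : A) ^ 1 = 0; rw [pow_one, h0']⟩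
    exact ⟨Function.injective_of_subsingleton _, fun y => ⟨0, Subsingleton.elim _ _⟩⟩
  rw [Groth.Agent.S0418.result φ p hp.out hbij]
  refine and_congr Iff.rfl (forall_congr' fun b => ?_)
  constructor
  · rintro ⟨n, -, h⟩
    exact ⟨n, h⟩
  · rintro ⟨n, h⟩
    refine ⟨n + 1, ?_, ?_⟩
    · have : (p : B) ^ (n + 1) * b = 0 := by
        rw [pow_succ, CharP.cast_eq_zero B p, mul_zero, zero_mul]
      rw [this]; exact Subring.zero_mem _
    · rw [pow_succ, pow_mul]; exact Subring.pow_mem _ h _

end CharP


end Groth.Agent.H4.UHCharP
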