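import Mathlib
import Groth.Agent.H4.US21
import Groth.Agent.H4.RAdj

set_option autoImplicit false
universe u
open CategoryTheory Category Limits Pretriangulated

namespace Groth.Agent.H4.US22

attribute [local instance] HasDerivedCategory.standard
attribute [local instance] Groth.Agent.H4.LK4.hasLTen Groth.Agent.H4.LK5.hasLTen₃
  Groth.Agent.H4.KI7.isSymMonoidal Groth.Agent.H4.KI6.hasRHom

open DRing DTen DerivedCategory Groth.Agent.H4.DThick Groth.Agent.H4.DCompl1 Groth.Agent.H4.CF1
  Groth.Agent.H4.InjAmp Groth.Agent.H4.DZ1 Groth.Agent.H4.DZ2 Groth.Agent.H4.DZ3 Groth.Agent.H4.DZ4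
  Groth.Agent.H4.DZ5 Groth.Agent.H4.DZ6 Groth.Agent.H4.ProjAmp
  Groth.Agent.H4.FB1 Groth.Agent.H4.FB2 Groth.Agent.H4.FB3 Groth.Agent.H4.US20 Groth.Agent.H4.US21
  Groth.Agent.H4.RAdj

open scoped Pointwise TensorProduct Polynomial

/-- a finite type algebra over a ring with a dualizing complex has a dualizing complex. -/
theorem exists_dualizing_of_finiteType (A : Type u) [CommRing A] [IsNoetherianRing A]
    (ω : Dual.D A) (hω : Dual.IsDualizing A ω) (B₀ : Type u) [CommRing B₀] [Algebra A B₀]
    [Algebra.FiniteType A B₀] : ∃ ω' : Dual.D B₀, Dual.IsDualizing B₀ ω' := by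
  obtain ⟨n, ψ, hψ⟩ := Algebra.FiniteType.iff_quotient_mvPolynomial''.1
    (inferInstance : Algebra.FiniteType A B₀)
  haveI : IsNoetherianRing B₀ := Algebra.FiniteType.isNoetherianRing A B₀
  letI : Algebra (MvPolynomial (Fin n) A) B₀ := ψ.toRingHom.toAlgebra
  haveI : Module.Finite (MvPolynomial (Fin n) A) B₀ :=
    Module.Finite.of_surjective (Algebra.linearMap (MvPolynomial (Fin n) A) B₀) hψ
  exact ⟨_, Groth.Agent.H4.US4.S1772 (R₀ ψ.toRingHom) (adjR₀ ψ.toRingHom) _
    (isDualizing_E_mvPolynomial A n ω hω)⟩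

/-- a localization of a ring with a dualizing complex has a dualizing complex. -/
theorem exists_dualizing_of_isLocalization (B₀ : Type u) [CommRing B₀] [IsNoetherianRing B₀]
    (M : Submonoid B₀) (B : Type u) [CommRing B] [Algebra B₀ B] [IsLocalization M B]
    (η : Dual.D B₀) (hη : Dual.IsDualizing B₀ η) : ∃ ω' : Dual.D B, Dual.IsDualizing B ω' := by
  have h1 := isDualizing_E_localization B₀ M η hη
  let e := IsLocalization.algEquiv M (Localization M) B
  letI : Algebra (Localization M) B := e.toRingEquiv.toRingHom.toAlgebra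
  have hbij : Function.Bijective (algebraMap (Localization M) B) := e.bijective
  haveI : IsNoetherianRing (Localization M) := IsLocalization.isNoetherianRing M _ inferInstance
  haveI : Module.Flat (Localization M) B := flat_of_bijective hbij
  haveI : IsNoetherianRing B := isNoetherianRing_of_bijective hbij
  exact ⟨_, isDualizing_E_of_bijective hbij _ h1⟩

theorem S0377 (A : Type u) [CommRing A] [IsNoetherianRing A] (ω : Dual.D A)
    (hω : Dual.IsDualizing A ω) (B : Type u) [CommRing B] [Algebra A B]
    [Algebra.EssFiniteType A B] : ∃ ω' : Dual.D B, Dual.IsDualizing B ω' := by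
  obtain ⟨η, hη⟩ := exists_dualizing_of_finiteType A ω hω (Algebra.EssFiniteType.subalgebra A B)
  haveI : IsNoetherianRing (Algebra.EssFiniteType.subalgebra A B) :=
    Algebra.FiniteType.isNoetherianRing A _
  exact exists_dualizing_of_isLocalization (Algebra.EssFiniteType.subalgebra A B)
    (Algebra.EssFiniteType.submonoid A B) B η hη

end Groth.Agent.H4.US22
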