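import Mathlib
import Groth.Agent.H4.US22
import Groth.Agent.H4.US12
import Groth.Agent.H4.Caten2
import Groth.Prelude.Def_Found

set_option autoImplicit false
universe u
open CategoryTheory Category Limits Pretriangulated

namespace Groth.Agent.H4.US23

attribute [local instance] HasDerivedCategory.standard
attribute [local instance] Groth.Agent.H4.LK4.hasLTen Groth.Agent.H4.LK5.hasLTen₃
  Groth.Agent.H4.KI7.isSymMonoidal Groth.Agent.H4.KI6.hasRHom

open DRing DTen DerivedCategory Groth.Agent.H4.US12 Groth.Agent.H4.US22

/-- a Noetherian ring with a dualizing complex is catenary. -/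
theorem isCatenary_of_dualizing (A : Type u) [CommRing A] [IsNoetherianRing A] (ω : Dual.D A)
    (hω : Dual.IsDualizing A ω) : CAlg.IsCatenary A := by
  choose n hn using fun p : PrimeSpectrum A => exists_degree p ω hω
  have hmono : ∀ p q : PrimeSpectrum A, p < q → n p < n q := by
    intro p q hpq
    haveI := q.isPrime
    obtain ⟨h, hh⟩ : ∃ h : ℕ, q.asIdeal.height = h :=
      ⟨_, (ENat.natCast_toNat (Ideal.height_ne_top (by exact q.isPrime.ne_top))).symm⟩
    exact degree_strictMono ω hω n hn h q hh p hpq
  have hcov : ∀ p q : PrimeSpectrum A, p ⋖ q → n q = n p + 1 := by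
    intro p q hpq
    have := degree_of_covBy ω hω n hn p q hpq
    omega
  have hsm : StrictMono n := fun a b h => hmono a b h
  constructor
  · intro p q _
    refine ⟨(n q - n p).toNat, fun s hs1 hs2 => ?_⟩
    have := LTSeries.head_add_length_le_int (s.map n hsm)
    simp only [LTSeries.head_map, LTSeries.map_length, LTSeries.last_map] at this
    rw [hs1, hs2] at this
    omega
  · intro s t h1 h2 hs ht
    have e1 := Groth.Agent.H4.Caten.delta_eq_of_saturated n hcov s hs
    have e2 := Groth.Agent.H4.Caten.delta_eq_of_saturated n hcov t ht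
    rw [h1, h2] at e1
    omega

theorem S1721 (A : Type u) [CommRing A] [IsNoetherianRing A] (ω : Dual.D A)
    (hω : Dual.IsDualizing A ω) : CAlg.IsUniversallyCatenary A := by
  refine ⟨inferInstance, fun S _ _ hS => ?_⟩
  haveI := hS
  obtain ⟨η, hη⟩ := exists_dualizing_of_finiteType A ω hω S
  haveI : IsNoetherianRing S := Algebra.FiniteType.isNoetherianRing A S
  exact isCatenary_of_dualizing S η hη

end Groth.Agent.H4.US23
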