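import Mathlib
import Groth.Agent.H4.US24
import Groth.Agent.H4.US20

set_option autoImplicit false
universe u
open CategoryTheory Category Limits Pretriangulated

namespace Groth.Agent.H4.US26

attribute [local instance] HasDerivedCategory.standard
attribute [local instance] Groth.Agent.H4.LK4.hasLTen Groth.Agent.H4.LK5.hasLTen₃
  Groth.Agent.H4.KI7.isSymMonoidal Groth.Agent.H4.KI6.hasRHom

open DRing DTen DerivedCategory Groth.Agent.H4.DThick Groth.Agent.H4.DCompl1 Groth.Agent.H4.CF1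
  Groth.Agent.H4.InjAmp Groth.Agent.H4.DZ1 Groth.Agent.H4.DZ2 Groth.Agent.H4.DZ3 Groth.Agent.H4.DZ4
  Groth.Agent.H4.DZ5 Groth.Agent.H4.DZ6 Groth.Agent.H4.ProjAmp
  Groth.Agent.H4.FB1 Groth.Agent.H4.FB2 Groth.Agent.H4.FB3 Groth.Agent.H4.US20 Groth.Agent.H4.US24

open scoped Pointwise TensorProduct Polynomial

theorem S1748 (A : Type u) [CommRing A] [IsNoetherianRing A] (E : Type u) [AddCommGroup E]
    [Module A E] [Module.Injective A E] :
    DRing.HasInjAmplitudeIn A[X] 0 1 (Dual.inD A[X] (A[X] ⊗[A] E)) := by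
  -- `inD (A[X] ⊗ E) ≅ E (inD E)`
  let e : Dual.inD A[X] (A[X] ⊗[A] E) ≅ (Groth.Agent.H4.FB2.E A A[X]).obj (Dual.inD A E) :=
    ((singleFunctor (ModuleCat.{u} A[X]) 0).mapIso
      (Groth.Agent.H8.ExtBridge.extEquiv (A := A) (B := A[X]) (ModuleCat.of A E)).toModuleIso).symm ≪≫
      (ESingleIso (ModuleCat.of A E) 0).symm
  have hω : ∀ (I : Ideal A) (i : ℤ), (i < 0 ∨ 0 < i) →
      Subsingleton (Dual.inD A (A ⧸ I) ⟶ (Dual.inD A E)⟦i⟧) := fun I i hi =>
    subsingleton_ext_injective (B := A) E (ModuleCat.of A (A ⧸ I)) i (by omega)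
  haveI : ((Groth.Agent.H4.FB2.E A A[X]).obj (Dual.inD A E)).IsGE 0 := Groth.Agent.H4.FB7.isGE_E _ 0
  refine Groth.Agent.H4.InjAmp.exists_injective_rep 2 0 1 _ (by norm_num) ?_
  refine P_of_iso 0 1 e.symm ?_
  intro J i hi
  rw [subsingleton_sgl_iff]
  rcases hi with hi | hi
  · haveI : (((Groth.Agent.H4.FB2.E A A[X]).obj (Dual.inD A E))⟦i⟧).IsGE (0 - i) :=
      TStructure.t.isGE_shift _ 0 i (0 - i) (by ring)
    exact ⟨fun f g => (DerivedCategory.TStructure.t.zero_of_isLE_of_isGE f 0 (0 - i) (by omega)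
      inferInstance inferInstance).trans (DerivedCategory.TStructure.t.zero_of_isLE_of_isGE g 0
      (0 - i) (by omega) inferInstance inferInstance).symm⟩
  · exact subsingleton_ext_poly (Dual.inD A E) 0 0 0 (by omega) hω (A[X] ⧸ J) i (by omega)

end Groth.Agent.H4.US26
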