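import Mathlib
import Groth.Agent.H4.US21
import Groth.Agent.H4.US12
import Groth.Agent.H4.FB7

set_option autoImplicit false
universe u
open CategoryTheory Category Limits Pretriangulated

namespace Groth.Agent.H4.US27

attribute [local instance] HasDerivedCategory.standard
attribute [local instance] Groth.Agent.H4.LK4.hasLTen Groth.Agent.H4.LK5.hasLTen₃
  Groth.Agent.H4.KI7.isSymMonoidal Groth.Agent.H4.KI6.hasRHom

open DRing DTen DerivedCategory Groth.Agent.H4.DThick Groth.Agent.H4.DCompl1 Groth.Agent.H4.CF1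
  Groth.Agent.H4.InjAmp Groth.Agent.H4.DZ1 Groth.Agent.H4.DZ2 Groth.Agent.H4.DZ3 Groth.Agent.H4.DZ4
  Groth.Agent.H4.DZ5 Groth.Agent.H4.DZ6 Groth.Agent.H4.ProjAmp
  Groth.Agent.H4.FB1 Groth.Agent.H4.FB2 Groth.Agent.H4.FB3 Groth.Agent.H4.US20 Groth.Agent.H4.US21

open scoped Pointwise TensorProduct Polynomial

section support

variable {A : Type u} [CommRing A]

/-- a module killed by a maximal ideal `m` with `m ∉ Supp` is zero. -/
lemma subsingleton_of_not_mem_support (m : PrimeSpectrum A) (hm : m.asIdeal.IsMaximal)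
    (M : Type*) [AddCommGroup M] [Module A M] (hk : ∀ a ∈ m.asIdeal, ∀ x : M, a • x = 0)
    (h : m ∉ Module.support A M) : Subsingleton M := by
  by_contra hcon
  rw [not_subsingleton_iff_nontrivial] at hcon
  have hne : Module.support A M ≠ ∅ := by
    rw [Ne, Module.support_eq_empty_iff]
    exact not_subsingleton M
  obtain ⟨p, hp⟩ := Set.nonempty_iff_ne_empty.2 hne
  have h1 : Module.annihilator A M ≤ p.asIdeal := Module.annihilator_le_of_mem_support hp
  have h2 : m.asIdeal ≤ Module.annihilator A M := by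
    intro a ha
    rw [Module.mem_annihilator]
    exact hk a ha
  have h3 : m.asIdeal = p.asIdeal := hm.eq_of_le p.isPrime.ne_top (h2.trans h1)
  have h4 : m = p := PrimeSpectrum.ext h3
  exact h (h4 ▸ hp)

end support

section covby

variable {B : Type u} [CommRing B]

/-- `𝔮 B[X] ⋖ 𝔫` for `𝔮` maximal and `𝔫` a maximal ideal of `B[X]` over `𝔮`. -/
lemma covBy_map_C (q : Ideal B) [hq : q.IsMaximal] (N : Ideal B[X]) [hN : N.IsMaximal]
    (hNq : N.comap (algebraMap B B[X]) = q) (P Q : PrimeSpectrum B[X])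
    (hP : P.asIdeal = q.map (algebraMap B B[X])) (hQ : Q.asIdeal = N) : P ⋖ Q := by
  haveI hPprime : (q.map (algebraMap B B[X])).IsPrime := hP ▸ P.isPrime
  letI : Field (B ⧸ q) := Ideal.Quotient.field q
  let e : (B ⧸ q)[X] ≃+* B[X] ⧸ q.map (Polynomial.C) :=
    Ideal.polynomialQuotientEquivQuotientPolynomial q
  have hCeq : q.map (algebraMap B B[X]) = q.map (Polynomial.C) := by
    rw [Polynomial.algebraMap_eq]
  have hnotfield : ¬ IsField (B[X] ⧸ q.map (Polynomial.C)) := fun hf =>
    Polynomial.not_isField (B ⧸ q) (e.toMulEquiv.isField hf)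
  haveI hPprime' : (q.map (Polynomial.C : B →+* B[X])).IsPrime := hCeq ▸ hPprime
  haveI : IsPrincipalIdealRing (B[X] ⧸ q.map (Polynomial.C)) :=
    IsPrincipalIdealRing.of_surjective e.toRingHom e.surjective
  have hle : q.map (algebraMap B B[X]) ≤ N := by
    rw [Ideal.map_le_iff_le_comap, hNq]
  have hne : q.map (algebraMap B B[X]) ≠ N := by
    intro h
    apply hnotfield
    rw [← hCeq, h]
    exact (Ideal.Quotient.maximal_ideal_iff_isField_quotient N).1 hN
  constructor
  · change P.asIdeal < Q.asIdeal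
    rw [hP, hQ]
    exact lt_of_le_of_ne hle hne
  · intro Z hPZ hZQ
    have hPZ' : q.map (Polynomial.C) < Z.asIdeal := by
      rw [← hCeq, ← hP]; exact hPZ
    have hZQ' : Z.asIdeal < N := by rw [← hQ]; exact hZQ
    let π := Ideal.Quotient.mk (q.map (Polynomial.C : B →+* B[X]))
    have hπ : Function.Surjective π := Ideal.Quotient.mk_surjective
    have hker : RingHom.ker π ≤ Z.asIdeal := by
      rw [Ideal.mk_ker]; exact hPZ'.le
    haveI hZ'prime : (Z.asIdeal.map π).IsPrime := Ideal.map_isPrime_of_surjective hπ hker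
    have hZ'ne : Z.asIdeal.map π ≠ ⊥ := by
      intro h0
      have : Z.asIdeal ≤ q.map (Polynomial.C) := by
        intro x hx
        have : π x ∈ Z.asIdeal.map π := Ideal.mem_map_of_mem π hx
        rw [h0, Ideal.mem_bot] at this
        exact Ideal.Quotient.eq_zero_iff_mem.1 this
      exact absurd hPZ' (not_lt_of_ge this)
    have hZ'max : (Z.asIdeal.map π).IsMaximal := hZ'prime.isMaximal hZ'ne
    have hZmax : Z.asIdeal.IsMaximal := by
      have := Ideal.comap_isMaximal_of_surjective π hπ (K := Z.asIdeal.map π)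
      rwa [Ideal.comap_map_of_surjective π hπ, sup_eq_left.2 (by
        rw [← RingHom.ker_eq_comap_bot]; exact hker)] at this
    exact absurd (hZmax.eq_of_le hN.ne_top hZQ'.le) hZQ'.ne

end covby

section step

variable (B : Type u) [CommRing B] [IsNoetherianRing B]

omit [IsNoetherianRing B] in
lemma support_congr_of_eq (Y : Dual.D B) (I J : Ideal B) (h : I = J) (p : PrimeSpectrum B) :
    p ∈ Module.support B (Dual.inD B (B ⧸ I) ⟶ Y) ↔
      p ∈ Module.support B (Dual.inD B (B ⧸ J) ⟶ Y) := by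
  subst h
  rfl

omit [IsNoetherianRing B] in
lemma subsingleton_congr_of_eq (Y : Dual.D B) (I J : Ideal B) (h : I = J) :
    Subsingleton (Dual.inD B (B ⧸ I) ⟶ Y) ↔ Subsingleton (Dual.inD B (B ⧸ J) ⟶ Y) := by
  subst h
  rfl

omit [IsNoetherianRing B] in
lemma smul_quot_hom_eq_zero (Y : Dual.D B) (I : Ideal B) (a : B) (ha : a ∈ I)
    (φ : Dual.inD B (B ⧸ I) ⟶ Y) : a • φ = 0 := by
  refine Groth.Agent.H4.US9.smul_hom_eq_zero Y (B ⧸ I) a (fun y => ?_) φ
  obtain ⟨z, rfl⟩ := Ideal.Quotient.mk_surjective y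
  rw [← Ideal.Quotient.mk_eq_mk, ← Submodule.Quotient.mk_smul, Ideal.Quotient.mk_eq_mk,
    Ideal.Quotient.eq_zero_iff_mem]
  exact I.mul_mem_right z ha

/-- **one-variable step**: the degree of a closed point of `B[X]` over a closed point of `B`
goes up by one. -/
theorem step (η : Dual.D B) (hη : Dual.IsDualizing B η)
    (q : Ideal B) [hq : q.IsMaximal] (c : ℤ)
    (hc : ∀ j : ℤ, j ≠ c → Subsingleton (Dual.inD B (B ⧸ q) ⟶ η⟦j⟧))
    (N : Ideal B[X]) [hN : N.IsMaximal] (hNq : N.comap (algebraMap B B[X]) = q) :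
    ∀ j : ℤ, j ≠ c + 1 →
      Subsingleton (Dual.inD B[X] (B[X] ⧸ N) ⟶ ((E B B[X]).obj η)⟦j⟧) := by
  have hD := isDualizing_E_polynomial η hη
  choose n hn using fun p : PrimeSpectrum B[X] => Groth.Agent.H4.US12.exists_degree p _ hD
  have hprime : (q.map (algebraMap B B[X])).IsPrime := by
    rw [Polynomial.algebraMap_eq]
    exact Ideal.isPrime_map_C_of_isPrime
  obtain ⟨P, hP⟩ : ∃ P : PrimeSpectrum B[X], P.asIdeal = q.map (algebraMap B B[X]) :=
    ⟨⟨_, hprime⟩, rfl⟩
  obtain ⟨Q, hQ⟩ : ∃ Q : PrimeSpectrum B[X], Q.asIdeal = N := ⟨⟨N, hN.isPrime⟩, rfl⟩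
  have hcov : P ⋖ Q := covBy_map_C q N hNq P Q hP hQ
  have h1 := Groth.Agent.H4.US12.degree_of_covBy _ hD n hn P Q hcov
  have h2 : n P = c := by
    by_contra hne
    have h3 := (hn P (n P)).2 rfl
    obtain ⟨a₀, b₀, ha₀, -, -⟩ := exists_bounds_of_isDualizing η hη
    haveI := ha₀
    have h4 := subsingleton_quot_E (B := B[X]) η a₀ q (n P) (hc _ hne)
    rw [support_congr_of_eq _ _ _ _ hP] at h3
    haveI := h4
    have h5 : Module.support B[X] (Dual.inD B[X] (B[X] ⧸ q.map (algebraMap B B[X])) ⟶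
        ((E B B[X]).obj η)⟦n P⟧) = ∅ := Module.support_eq_empty
    rw [h5] at h3
    exact h3
  intro j hj
  have h3 : Q ∉ Module.support B[X]
      (Dual.inD B[X] (B[X] ⧸ N) ⟶ ((E B B[X]).obj η)⟦j⟧) := by
    rw [← support_congr_of_eq _ _ _ _ hQ, hn Q j]
    omega
  have hQmax : Q.asIdeal.IsMaximal := hQ ▸ hN
  exact subsingleton_of_not_mem_support Q hQmax _
    (fun a ha x => smul_quot_hom_eq_zero B[X] _ N a (hQ ▸ ha) x) h3

end step

section zariski

/-- **Zariski's lemma, contraction form**: a maximal ideal of a finite type `B`-algebra `C`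
lying over a maximal ideal of `B` contracts to a maximal ideal of any intermediate ring. -/
lemma isMaximal_comap_of_finiteType (B C D : Type u) [CommRing B] [CommRing C] [CommRing D]
    [Algebra B C] [Algebra B D] [Algebra D C] [IsScalarTower B D C] [Algebra.FiniteType B C]
    (q : Ideal B) [hq : q.IsMaximal] (N : Ideal C) [hN : N.IsMaximal]
    (hNq : N.comap (algebraMap B C) = q) : (N.comap (algebraMap D C)).IsMaximal := by
  haveI : N.LiesOver q := ⟨hNq.symm⟩
  letI : Field (B ⧸ q) := Ideal.Quotient.field q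
  letI : Field (C ⧸ N) := Ideal.Quotient.field N
  haveI : Algebra.FiniteType B (C ⧸ N) :=
    Algebra.FiniteType.of_surjective (Ideal.Quotient.mkₐ B N) (Ideal.Quotient.mkₐ_surjective B N)
  haveI : Algebra.FiniteType (B ⧸ q) (C ⧸ N) :=
    Algebra.FiniteType.of_restrictScalars_finiteType B (B ⧸ q) (C ⧸ N)
  haveI : Module.Finite (B ⧸ q) (C ⧸ N) := finite_of_finite_type_of_isJacobsonRing _ _
  haveI : Module.Finite B (C ⧸ N) := Module.Finite.trans (B ⧸ q) (C ⧸ N)
  haveI : Algebra.IsIntegral B (C ⧸ N) := Algebra.IsIntegral.of_finite B (C ⧸ N)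
  haveI : Algebra.IsIntegral D (C ⧸ N) := Algebra.IsIntegral.tower_top (R := B)
  have h1 := Ideal.isMaximal_comap_of_isIntegral_of_isMaximal (R := D) (S := C ⧸ N) ⊥
  have h2 : (⊥ : Ideal (C ⧸ N)).comap (algebraMap D (C ⧸ N)) = N.comap (algebraMap D C) := by
    rw [IsScalarTower.algebraMap_eq D C (C ⧸ N), ← Ideal.comap_comap]
    congr 1
    rw [Ideal.Quotient.algebraMap_eq, ← RingHom.ker_eq_comap_bot, Ideal.mk_ker]
  rwa [h2] at h1

end zariski

section claim

variable (B : Type u) [CommRing B] [IsNoetherianRing B]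

/-- the degree of a closed point of `B[x₁,…,xₙ]` over a closed point of `B` goes up by `n`. -/
theorem claim (η : Dual.D B) (hη : Dual.IsDualizing B η)
    (c : ℤ) : ∀ (n : ℕ) (q : Ideal B) [q.IsMaximal],
    (∀ j : ℤ, j ≠ c → Subsingleton (Dual.inD B (B ⧸ q) ⟶ η⟦j⟧)) →
    ∀ (N : Ideal (MvPolynomial (Fin n) B)) [N.IsMaximal],
      N.comap (algebraMap B (MvPolynomial (Fin n) B)) = q → ∀ j : ℤ, j ≠ c + n →
      Subsingleton (Dual.inD (MvPolynomial (Fin n) B) (MvPolynomial (Fin n) B ⧸ N) ⟶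
        ((E B (MvPolynomial (Fin n) B)).obj η)⟦j⟧) := by
  obtain ⟨a₀, b₀, ha₀, -, -⟩ := exists_bounds_of_isDualizing η hη
  haveI := ha₀
  intro n
  induction n with
  | zero =>
    intro q _ hc N _ hNq j hj
    have hbij : Function.Bijective (algebraMap B (MvPolynomial (Fin 0) B)) :=
      ⟨MvPolynomial.C_injective _ _, MvPolynomial.C_surjective _⟩
    have hN : q.map (algebraMap B (MvPolynomial (Fin 0) B)) = N := by
      rw [← hNq]
      exact Ideal.map_comap_of_surjective _ hbij.2 N
    have h1 := subsingleton_quot_E (B := MvPolynomial (Fin 0) B) η a₀ q j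
      (hc j (by simpa using hj))
    exact (subsingleton_congr_of_eq _ _ _ _ hN).1 h1
  | succ n ih =>
    intro q _ hc N _ hNq j hj
    let φ : (MvPolynomial (Fin n) B)[X] →+* MvPolynomial (Fin (n + 1)) B :=
      (MvPolynomial.finSuccEquiv B n).symm.toRingEquiv.toRingHom
    letI : Algebra (MvPolynomial (Fin n) B)[X] (MvPolynomial (Fin (n + 1)) B) := φ.toAlgebra
    haveI : IsScalarTower B (MvPolynomial (Fin n) B)[X] (MvPolynomial (Fin (n + 1)) B) :=
      IsScalarTower.of_algebraMap_eq (fun r => ((MvPolynomial.finSuccEquiv B n).symm.commutes r).symm)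
    have hbij : Function.Bijective
        (algebraMap (MvPolynomial (Fin n) B)[X] (MvPolynomial (Fin (n + 1)) B)) :=
      (MvPolynomial.finSuccEquiv B n).symm.bijective
    haveI : Module.Flat (MvPolynomial (Fin n) B)[X] (MvPolynomial (Fin (n + 1)) B) :=
      flat_of_bijective hbij
    haveI : Module.Flat B (MvPolynomial (Fin n) B)[X] :=
      Module.Flat.trans B (MvPolynomial (Fin n) B) (MvPolynomial (Fin n) B)[X]
    -- the contracted ideals
    let N' : Ideal (MvPolynomial (Fin n) B)[X] :=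
      N.comap (algebraMap (MvPolynomial (Fin n) B)[X] (MvPolynomial (Fin (n + 1)) B))
    haveI hN'max : N'.IsMaximal := Ideal.comap_isMaximal_of_surjective _ hbij.2
    have hN'q : N'.comap (algebraMap B (MvPolynomial (Fin n) B)[X]) = q := by
      rw [Ideal.comap_comap, ← IsScalarTower.algebraMap_eq]
      exact hNq
    let q' : Ideal (MvPolynomial (Fin n) B) :=
      N'.comap (algebraMap (MvPolynomial (Fin n) B) (MvPolynomial (Fin n) B)[X])
    haveI hq'max : q'.IsMaximal :=
      isMaximal_comap_of_finiteType B (MvPolynomial (Fin n) B)[X] (MvPolynomial (Fin n) B) q N' hN'q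
    have hq'q : q'.comap (algebraMap B (MvPolynomial (Fin n) B)) = q := by
      rw [Ideal.comap_comap, ← IsScalarTower.algebraMap_eq]
      exact hN'q
    have h1 := ih q hc q' hq'q
    have hD := isDualizing_E_mvPolynomial B n η hη
    have h2 := step (MvPolynomial (Fin n) B) _ hD q' (c + n) h1 N' rfl j
      (by push_cast at hj; omega)
    haveI := h2
    have h3 : Subsingleton (Dual.inD (MvPolynomial (Fin n) B)[X] ((MvPolynomial (Fin n) B)[X] ⧸ N') ⟶
        ((E B (MvPolynomial (Fin n) B)[X]).obj η)⟦j⟧) :=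
      ((Iso.refl _).homCongr ((shiftFunctor _ j).mapIso
        (ETowerIso B (MvPolynomial (Fin n) B) (MvPolynomial (Fin n) B)[X] η))).subsingleton
    haveI : ((E B (MvPolynomial (Fin n) B)[X]).obj η).IsGE a₀ := Groth.Agent.H4.FB7.isGE_E η a₀
    haveI : IsNoetherianRing (MvPolynomial (Fin n) B)[X] := inferInstance
    have h4 := subsingleton_quot_E (B := MvPolynomial (Fin (n + 1)) B)
      ((E B (MvPolynomial (Fin n) B)[X]).obj η) a₀ N' j h3
    have hN : N'.map (algebraMap (MvPolynomial (Fin n) B)[X] (MvPolynomial (Fin (n + 1)) B)) = N :=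
      Ideal.map_comap_of_surjective _ hbij.2 N
    haveI := (subsingleton_congr_of_eq _ _ _ _ hN).1 h4
    exact ((Iso.refl _).homCongr ((shiftFunctor _ j).mapIso
      (ETowerIso B (MvPolynomial (Fin n) B)[X] (MvPolynomial (Fin (n + 1)) B) η))).subsingleton

end claim

section S1789

/-- `P/ψ⁻¹(m) ≅ A/m` as `P`-modules. -/
noncomputable def quotResEquiv {P A : Type u} [CommRing P] [CommRing A] [Algebra P A]
    (hs : Function.Surjective (algebraMap P A)) (m : Ideal A) :
    (P ⧸ m.comap (algebraMap P A)) ≃ₗ[P]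
      ((ModuleCat.restrictScalars.{u} (algebraMap P A)).obj (ModuleCat.of A (A ⧸ m))) := by
  let g : P →ₗ[P] ((ModuleCat.restrictScalars.{u} (algebraMap P A)).obj (ModuleCat.of A (A ⧸ m))) :=
    { toFun := fun p => (Ideal.Quotient.mk m (algebraMap P A p) : A ⧸ m)
      map_add' := fun x y => by
        change Ideal.Quotient.mk m (algebraMap P A (x + y)) = _
        rw [map_add, map_add]; rfl
      map_smul' := fun x y => by
        change Ideal.Quotient.mk m (algebraMap P A (x • y)) =
          algebraMap P A x • (Ideal.Quotient.mk m (algebraMap P A y) : A ⧸ m)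
        rw [smul_eq_mul, map_mul, map_mul]
        rfl }
  have hg : Function.Surjective g := by
    intro y
    obtain ⟨a, rfl⟩ := Ideal.Quotient.mk_surjective (I := m) y
    obtain ⟨p, rfl⟩ := hs a
    exact ⟨p, rfl⟩
  have hker : LinearMap.ker g = m.comap (algebraMap P A) := by
    ext p
    rw [LinearMap.mem_ker, Ideal.mem_comap]
    change Ideal.Quotient.mk m (algebraMap P A p) = 0 ↔ _
    exact Ideal.Quotient.eq_zero_iff_mem
  exact (Submodule.quotEquivOfEq _ _ hker.symm).trans (g.quotKerEquivOfSurjective hg)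

variable (R A : Type u) [CommRing R] [CommRing A] [IsNoetherianRing R] [IsNoetherianRing A]
  [Algebra R A] (n : ℕ) (ψ : MvPolynomial (Fin n) R →ₐ[R] A) (hψ : Function.Surjective ψ)
  [DRing.HasLBaseChange (algebraMap R (MvPolynomial (Fin n) R))]
  (Rψ : Dual.D (MvPolynomial (Fin n) R) ⥤ Dual.D A) (adj : DRing.restrictD ψ.toRingHom ⊣ Rψ)

include hψ adj in
/-- vanishing of `Ext^i(A/m, φ^! ω)` for `i ≠ 0`. -/
theorem subsingleton_ext_shriek [IsLocalRing R] (m : Ideal A) [m.IsMaximal]
    (hm : m.comap (algebraMap R A) = IsLocalRing.maximalIdeal R) (ω : Dual.D R)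
    (hω : Dual.IsDualizing R ω) (hn : Dual.IsNormalized R ω) (i : ℤ) (hi : i ≠ 0) :
    Subsingleton (Dual.inD A (A ⧸ m) ⟶ (Dual2.shriekVia n Rψ ω)⟦i⟧) := by
  letI : Algebra (MvPolynomial (Fin n) R) A := ψ.toRingHom.toAlgebra
  have hs : Function.Surjective (algebraMap (MvPolynomial (Fin n) R) A) := hψ
  haveI hNmax : (m.comap (algebraMap (MvPolynomial (Fin n) R) A)).IsMaximal :=
    Ideal.comap_isMaximal_of_surjective _ hs
  have hNq : (m.comap (algebraMap (MvPolynomial (Fin n) R) A)).comap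
      (algebraMap R (MvPolynomial (Fin n) R)) = IsLocalRing.maximalIdeal R := by
    rw [Ideal.comap_comap, ← hm]
    congr 1
    exact ψ.comp_algebraMap
  have h1 := claim R ω hω 0 n (IsLocalRing.maximalIdeal R) hn _ hNq ((n : ℤ) + i) (by omega)
  haveI := h1
  have h2 : Subsingleton (Dual.inD (MvPolynomial (Fin n) R)
      (MvPolynomial (Fin n) R ⧸ m.comap (algebraMap (MvPolynomial (Fin n) R) A)) ⟶
      ((DRing.LBaseChange (algebraMap R (MvPolynomial (Fin n) R))).obj ω)⟦(n : ℤ) + i⟧) :=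
    ((Iso.refl _).homCongr ((shiftFunctor _ ((n : ℤ) + i)).mapIso (LBCIso ω))).subsingleton
  haveI := h2
  have h3 : Subsingleton ((singleFunctor (ModuleCat.{u} (MvPolynomial (Fin n) R)) 0).obj
      ((ModuleCat.restrictScalars.{u} (algebraMap (MvPolynomial (Fin n) R) A)).obj
        (ModuleCat.of A (A ⧸ m))) ⟶
      ((DRing.LBaseChange (algebraMap R (MvPolynomial (Fin n) R))).obj ω)⟦(n : ℤ) + i⟧) :=
    (((singleFunctor (ModuleCat.{u} (MvPolynomial (Fin n) R)) 0).mapIso
      (quotResEquiv hs m).toModuleIso).symm.homCongr (Iso.refl _)).subsingleton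
  haveI := h3
  have h4 : Subsingleton (Dual.inD A (A ⧸ m) ⟶
      (Rψ.obj ((DRing.LBaseChange (algebraMap R (MvPolynomial (Fin n) R))).obj ω))⟦(n : ℤ) + i⟧) :=
    (Groth.Agent.H4.US1.extAddEquiv Rψ adj (ModuleCat.of A (A ⧸ m)) _ ((n : ℤ) + i)).toEquiv.subsingleton
  haveI := h4
  exact ((Iso.refl _).homCongr ((shiftFunctorAdd' (Dual.D A) (n : ℤ) i ((n : ℤ) + i) rfl).app
    (Rψ.obj ((DRing.LBaseChange (algebraMap R (MvPolynomial (Fin n) R))).obj ω)))).symm.subsingleton

include hψ adj in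
theorem S1789 [IsLocalRing R] (m : Ideal A) [m.IsMaximal]
    (hm : m.comap (algebraMap R A) = IsLocalRing.maximalIdeal R) (ω : Dual.D R)
    (hω : Dual.IsDualizing R ω) (hn : Dual.IsNormalized R ω)
    [DRing.HasLBaseChange (algebraMap A (Localization.AtPrime m))] :
    Dual.IsDualizing (Localization.AtPrime m)
        ((DRing.LBaseChange (algebraMap A (Localization.AtPrime m))).obj
          (Dual2.shriekVia n Rψ ω)) ∧
      Dual.IsNormalized (Localization.AtPrime m)
        ((DRing.LBaseChange (algebraMap A (Localization.AtPrime m))).obj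
          (Dual2.shriekVia n Rψ ω)) := by
  have hdual : Dual.IsDualizing A (Dual2.shriekVia n Rψ ω) := S1782 R A n ψ hψ Rψ adj ω hω
  obtain ⟨a₀, b₀, ha₀, -, -⟩ := exists_bounds_of_isDualizing _ hdual
  haveI := ha₀
  haveI : IsNoetherianRing (Localization.AtPrime m) :=
    IsLocalization.isNoetherianRing m.primeCompl _ inferInstance
  have h1 : Dual.IsDualizing (Localization.AtPrime m)
      ((E A (Localization.AtPrime m)).obj (Dual2.shriekVia n Rψ ω)) :=
    isDualizing_E_localization A m.primeCompl _ hdual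
  refine ⟨isDualizing_of_iso (LBCIso _).symm h1, ?_⟩
  intro i hi
  have key := subsingleton_ext_shriek R A n ψ hψ Rψ adj m hm ω hω hn i hi
  have h2 := subsingleton_quot_E (B := Localization.AtPrime m) (Dual2.shriekVia n Rψ ω) a₀ m i key
  rw [Localization.AtPrime.map_eq_maximalIdeal] at h2
  haveI : Subsingleton (Dual.inD (Localization.AtPrime m)
      (IsLocalRing.ResidueField (Localization.AtPrime m)) ⟶
      ((E A (Localization.AtPrime m)).obj (Dual2.shriekVia n Rψ ω))⟦i⟧) := h2
  exact ((Iso.refl _).homCongr ((shiftFunctor (Dual.D (Localization.AtPrime m)) i).mapIso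
    (LBCIso _))).subsingleton

end S1789

end Groth.Agent.H4.US27
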