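import Mathlib
import Groth.Agent.H4.US1

set_option autoImplicit false
universe u
open CategoryTheory Category Limits Pretriangulated TensorProduct

namespace Groth.Agent.H4.US8970

attribute [local instance] HasDerivedCategory.standard

open DRing DerivedCategory Groth.Agent.H4.DCompl1 Groth.Agent.H4.DZ5 Groth.Agent.H4.FB1
  Groth.Agent.H4.FB2 Groth.Agent.H4.US1

variable {A : Type u} [CommRing A] {B : Type u} [CommRing B] [Algebra A B]
  (R : Dual.D A ⥤ Dual.D B) (adj : Res A B ⊣ R)

/-- transfer of nontriviality of localizations along a semilinear additive equivalence, for a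
surjective ring map. -/
theorem nontrivial_localizedModule_iff (hs : Function.Surjective (algebraMap A B))
    (q : Ideal B) [q.IsPrime]
    {M : Type*} [AddCommGroup M] [Module B M] {N : Type*} [AddCommGroup N] [Module A N]
    (e : M ≃+ N) (he : ∀ (a : A) (m : M), e (algebraMap A B a • m) = a • e m) :
    Nontrivial (LocalizedModule q.primeCompl M) ↔
      Nontrivial (LocalizedModule (q.comap (algebraMap A B)).primeCompl N) := by
  rw [← not_subsingleton_iff_nontrivial, ← not_subsingleton_iff_nontrivial,
    LocalizedModule.subsingleton_iff, LocalizedModule.subsingleton_iff]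
  apply not_congr
  constructor
  · intro h n
    obtain ⟨r, hr, hrm⟩ := h (e.symm n)
    obtain ⟨a, rfl⟩ := hs r
    refine ⟨a, fun ha => hr ha, ?_⟩
    have := he a (e.symm n)
    rw [hrm, map_zero, e.apply_symm_apply] at this
    exact this.symm
  · intro h m
    obtain ⟨a, ha, ham⟩ := h (e m)
    refine ⟨algebraMap A B a, fun hq => ha hq, ?_⟩
    apply e.injective
    rw [he, ham, map_zero]

/-- `A/p ≃ B/q` as `A`-modules when `A → B` is surjective and `p` is the preimage of `q`. -/
noncomputable def quotIso (hs : Function.Surjective (algebraMap A B)) (q : Ideal B) :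
    (ModuleCat.restrictScalars.{u} (algebraMap A B)).obj (ModuleCat.of B (B ⧸ q)) ≅
      ModuleCat.of A (A ⧸ q.comap (algebraMap A B)) := by
  let f : (A ⧸ q.comap (algebraMap A B)) →+* (B ⧸ q) :=
    Ideal.quotientMap q (algebraMap A B) le_rfl
  have hf : Function.Bijective f :=
    ⟨Ideal.quotientMap_injective, Ideal.quotientMap_surjective hs⟩
  refine (LinearEquiv.toModuleIso
    (show (ModuleCat.of A (A ⧸ q.comap (algebraMap A B))) ≃ₗ[A]
        ((ModuleCat.restrictScalars.{u} (algebraMap A B)).obj (ModuleCat.of B (B ⧸ q))) from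
      { toFun := fun x => f x
        invFun := fun y => (Equiv.ofBijective f hf).symm y
        left_inv := fun x => (Equiv.ofBijective f hf).symm_apply_apply x
        right_inv := fun y => (Equiv.ofBijective f hf).apply_symm_apply y
        map_add' := fun x y => map_add f x y
        map_smul' := fun a x => ?_ })).symm
  obtain ⟨x, rfl⟩ := Ideal.Quotient.mk_surjective x
  change f (a • Ideal.Quotient.mk _ x) = algebraMap A B a • f (Ideal.Quotient.mk _ x)
  rw [show a • (Ideal.Quotient.mk (q.comap (algebraMap A B)) x) =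
    Ideal.Quotient.mk _ (a * x) from rfl]
  simp only [f, Ideal.quotientMap_mk, map_mul]
  rfl

include adj in
theorem S8970 (hs : Function.Surjective (algebraMap A B)) (ω : Dual.D A)
    (q : PrimeSpectrum B) (i : ℤ) :
    Nontrivial (LocalizedModule q.asIdeal.primeCompl
      (Dual.inD B (B ⧸ q.asIdeal) ⟶ (R.obj ω)⟦i⟧)) ↔
    Nontrivial (LocalizedModule (q.asIdeal.comap (algebraMap A B)).primeCompl
      (Dual.inD A (A ⧸ q.asIdeal.comap (algebraMap A B)) ⟶ ω⟦i⟧)) := by
  let e1 := extAddEquiv R adj (ModuleCat.of B (B ⧸ q.asIdeal)) ω i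
  let e2 := Groth.Agent.H4.DZ2.isoHomLinEquiv
    ((singleFunctor (ModuleCat.{u} A) 0).mapIso (quotIso hs q.asIdeal)) (ω⟦i⟧)
  refine nontrivial_localizedModule_iff hs q.asIdeal (e1.trans e2.toAddEquiv) ?_
  intro a m
  change e2 (e1 (algebraMap A B a • m)) = a • e2 (e1 m)
  rw [extAddEquiv_smul, LinearEquiv.map_smul]

end Groth.Agent.H4.US8970
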