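import Mathlib
import Groth.Prelude
import Groth.Agent.Lib.Helper9.Kolchin
import Groth.Agent.Lib.Helper9.CocommDiag.Semisimple
import Groth.Agent.Lib.Helper9.DensePoints
import Groth.Agent.S7987

set_option autoImplicit false
universe u
open TensorProduct WithConv

namespace Groth.Agent.H4.UnipPts

variable (k : Type u) [Field k] [IsAlgClosed k] (A : Type u) [CommRing A] [HopfAlgebra k A]
  [Algebra.FiniteType k A] [IsReduced A]

section
variable (V : Type u) [AddCommGroup V] [Module k V] [HopfRep.Comod k A V]

/-- the points act multiplicatively. -/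
noncomputable def Phi : WithConv (A →ₐ[k] k) →* Module.End k V where
  toFun g := Groth.Agent.H9.CocommDiag.Tact k A V (toConv g.ofConv.toLinearMap)
  map_one' := by
    rw [AlgHom.toLinearMap_convOne, map_one]
  map_mul' g h := by
    rw [AlgHom.toLinearMap_convMul, map_mul]

lemma Phi_apply (g : WithConv (A →ₐ[k] k)) :
    Phi k A V g = HopfRep.Comod.act k A V g.ofConv := rfl

lemma mem_fixedPts_of_forall_act (v : V)
    (h : ∀ g : A →ₐ[k] k, HopfRep.Comod.act k A V g v = v) :
    v ∈ HopfRep.fixedPts k A V := by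
  show HopfRep.Comod.coact (k := k) (A := A) v = v ⊗ₜ[k] (1 : A)
  rw [← sub_eq_zero]
  apply Groth.Agent.H9.Dense.eq_zero_of_forall_lTensor_eq_zero (K := k)
    (Set.univ : Set (A →ₐ[k] k))
    (fun a ha => Groth.Agent.H9.CocommDiag.eq_zero_of_forall_point (k := k) a
      (fun g => ha g trivial))
  intro g _
  rw [map_sub, sub_eq_zero, LinearMap.lTensor_tmul]
  apply (TensorProduct.rid k V).injective
  have h1 := h g
  have h2 : (TensorProduct.rid k V) (LinearMap.lTensor V g.toLinearMap
      (HopfRep.Comod.coact (k := k) (A := A) v)) = v := h1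
  rw [h2, TensorProduct.rid_tmul]
  simp
end

theorem unip_of_points
    (H : ∀ (g : A →ₐ[k] k) (V : Type u) [AddCommGroup V] [Module k V] [HopfRep.Comod k A V],
      Module.Finite k V → IsNilpotent (HopfRep.Comod.act k A V g - LinearMap.id)) :
    HopfRep.IsUnipotent k A := by
  intro V _ _ _ hfin hnt
  have : FiniteDimensional k V := hfin
  obtain ⟨v, hv, hfix⟩ := Groth.Agent.H9.Kolchin.kolchin_algClosed (k := k)
    (Module.finrank k V) V rfl (MonoidHom.mrange (Phi k A V)) (by
      rintro _ ⟨g, rfl⟩
      exact H g.ofConv V hfin)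
  intro hbot
  have hmem : v ∈ HopfRep.fixedPts k A V :=
    mem_fixedPts_of_forall_act k A V v (fun g => hfix _ ⟨toConv g, rfl⟩)
  rw [hbot] at hmem
  exact hv ((Submodule.mem_bot k).1 hmem)

theorem main :
    HopfRep.IsUnipotent k A ↔
      ∀ (g : A →ₐ[k] k) (V : Type u) [AddCommGroup V] [Module k V] [HopfRep.Comod k A V],
        Module.Finite k V → IsNilpotent (HopfRep.Comod.act k A V g - LinearMap.id) :=
  ⟨fun hU g V _ _ _ hfin => by
    haveI := hfin
    exact Groth.Agent.S7987.result k A hU g V, unip_of_points k A⟩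

end Groth.Agent.H4.UnipPts
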