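import Groth.Agent.Lib.Helper1.UnivHomeo

set_option autoImplicit false

namespace Groth.Agent.H4.UnivHomeoSub

open CategoryTheory CategoryTheory.Limits AlgebraicGeometry MorphismProperty

universe u

section scheme

variable {X X' Y : Scheme.{u}} (i : X ⟶ X') (f' : X' ⟶ Y)

/-- universal injectivity descends along a surjection at the source -/
theorem universallyInjective_of_comp_of_surjective [Surjective i]
    [UniversallyInjective (i ≫ f')] : UniversallyInjective f' := by
  rw [UniversallyInjective.iff_diagonal]
  have h1 : Surjective (pullback.diagonal (i ≫ f')) :=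
    (UniversallyInjective.iff_diagonal _).mp inferInstance
  have h2 : Surjective (pullback.map (i ≫ f') (i ≫ f') f' f' i i (𝟙 _)
      ((Category.comp_id _).trans rfl) ((Category.comp_id _).trans rfl)) :=
    MorphismProperty.pullbackMap (P := @Surjective) (inferInstanceAs (Surjective i))
      (inferInstanceAs (Surjective i)) rfl rfl
  have h3 : pullback.diagonal (i ≫ f') ≫ pullback.map (i ≫ f') (i ≫ f') f' f' i i (𝟙 _)
      ((Category.comp_id _).trans rfl) ((Category.comp_id _).trans rfl) =
      i ≫ pullback.diagonal f' := by
    have e1 : pullback.map (i ≫ f') (i ≫ f') f' f' i i (𝟙 _)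
        ((Category.comp_id _).trans rfl) ((Category.comp_id _).trans rfl) ≫ pullback.fst f' f' =
        pullback.fst _ _ ≫ i := pullback.lift_fst _ _ _
    have e2 : pullback.map (i ≫ f') (i ≫ f') f' f' i i (𝟙 _)
        ((Category.comp_id _).trans rfl) ((Category.comp_id _).trans rfl) ≫ pullback.snd f' f' =
        pullback.snd _ _ ≫ i := pullback.lift_snd _ _ _
    apply pullback.hom_ext
    · calc (pullback.diagonal (i ≫ f') ≫ _) ≫ pullback.fst f' f'
          = pullback.diagonal (i ≫ f') ≫ (_ ≫ pullback.fst f' f') := Category.assoc _ _ _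
        _ = pullback.diagonal (i ≫ f') ≫ (pullback.fst _ _ ≫ i) := by rw [e1]
        _ = i := by rw [pullback.diagonal_fst_assoc]
        _ = (i ≫ pullback.diagonal f') ≫ pullback.fst f' f' := by
          rw [Category.assoc, pullback.diagonal_fst, Category.comp_id]
    · calc (pullback.diagonal (i ≫ f') ≫ _) ≫ pullback.snd f' f'
          = pullback.diagonal (i ≫ f') ≫ (_ ≫ pullback.snd f' f') := Category.assoc _ _ _
        _ = pullback.diagonal (i ≫ f') ≫ (pullback.snd _ _ ≫ i) := by rw [e2]
        _ = i := by rw [pullback.diagonal_snd_assoc]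
        _ = (i ≫ pullback.diagonal f') ≫ pullback.snd f' f' := by
          rw [Category.assoc, pullback.diagonal_snd, Category.comp_id]
  have h4 : Surjective (i ≫ pullback.diagonal f') := by
    rw [← h3]; infer_instance
  exact Surjective.of_comp i (pullback.diagonal f')

theorem residueFieldMap_surjective_of_comp (x : X)
    (h : Function.Surjective ((i ≫ f').residueFieldMap x)) :
    Function.Surjective (f'.residueFieldMap (i x)) := by
  rw [Scheme.residueFieldMap_comp] at h
  intro b
  obtain ⟨a, ha⟩ := h ((i.residueFieldMap x) b)
  refine ⟨a, ?_⟩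
  have hinj : Function.Injective (i.residueFieldMap x) := (i.residueFieldMap x).hom.injective
  exact hinj ha

end scheme

end Groth.Agent.H4.UnivHomeoSub
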