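import Groth.Agent.Lib.Helper1.UnivHomeo
import Groth.Agent.H4.Seminormal2

set_option autoImplicit false

namespace Groth.Agent.H4.UnivHomeoSub

open CategoryTheory CategoryTheory.Limits AlgebraicGeometry MorphismProperty Polynomial

universe u

section affine

variable {A B : Type u} [CommRing A] [CommRing B] (φ : A →+* B)

/-- criterion for universal injectivity of `Spec φ` on field valued points -/
theorem universallyInjective_spec_of_field_points
    (h : ∀ (K : Type u) [Field K] (ψ₁ ψ₂ : B →+* K), ψ₁.comp φ = ψ₂.comp φ → ψ₁ = ψ₂) :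
    UniversallyInjective (Spec.map (CommRingCat.ofHom φ)) := by
  refine ((tfae_universallyInjective (Spec.map (CommRingCat.ofHom φ))).out 0 1).mpr ?_
  intro K _ g₁ g₂ hg
  dsimp only at hg
  rw [← Spec.map_preimage g₁, ← Spec.map_preimage g₂] at hg ⊢
  rw [← Spec.map_comp, ← Spec.map_comp, Spec.map_inj] at hg
  congr 1
  apply CommRingCat.hom_ext
  apply h K
  have := congrArg CommRingCat.Hom.hom hg
  simpa using this

/-- criterion for surjectivity of `Spec φ`: every residue field point of `A` lifts to a field point of `B`-/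
theorem surjective_spec_of_field_points
    (h : ∀ (K : Type u) [Field K] (χ : A →+* K), ∃ ψ : B →+* K, ψ.comp φ = χ) :
    Surjective (Spec.map (CommRingCat.ofHom φ)) := by
  refine ⟨fun (p : PrimeSpectrum A) => ?_⟩
  obtain ⟨ψ, hψ⟩ := h p.asIdeal.ResidueField (algebraMap A p.asIdeal.ResidueField)
  refine ⟨(⟨RingHom.ker ψ, RingHom.ker_isPrime ψ⟩ : PrimeSpectrum B), ?_⟩
  apply PrimeSpectrum.ext
  change (RingHom.ker ψ).comap φ = p.asIdeal
  rw [RingHom.comap_ker, hψ, Ideal.ker_algebraMap_residueField]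

end affine

section polyQuot

variable {A : Type u} [CommRing A] (S : Set A[X])

local notation "BB" => A[X] ⧸ Ideal.span S

theorem algebraMap_polyQuot (a : A) :
    algebraMap A (A[X] ⧸ Ideal.span S) a = Ideal.Quotient.mk (Ideal.span S) (C a) := rfl

theorem polyQuot_hom_ext {K : Type u} [CommRing K] (ψ₁ ψ₂ : (A[X] ⧸ Ideal.span S) →+* K)
    (h : ψ₁.comp (algebraMap A (A[X] ⧸ Ideal.span S)) = ψ₂.comp (algebraMap A (A[X] ⧸ Ideal.span S)))
    (hX : ψ₁ (Ideal.Quotient.mk _ X) = ψ₂ (Ideal.Quotient.mk _ X)) : ψ₁ = ψ₂ := by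
  apply Ideal.Quotient.ringHom_ext
  apply Polynomial.ringHom_ext
  · intro a
    exact congrArg (fun f : A →+* K => f a) h
  · exact hX

/-- lift a ring hom to the quotient given a root -/
noncomputable def polyQuotLift {K : Type u} [CommRing K] (χ : A →+* K) (τ : K)
    (h : ∀ g ∈ S, eval₂ χ τ g = 0) : (A[X] ⧸ Ideal.span S) →+* K :=
  Ideal.Quotient.lift (Ideal.span S) (eval₂RingHom χ τ) (by
    intro g hg
    have hle : Ideal.span S ≤ RingHom.ker (eval₂RingHom χ τ) := by
      rw [Ideal.span_le]
      intro g hg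
      exact h g hg
    exact hle hg)

theorem polyQuotLift_comp {K : Type u} [CommRing K] (χ : A →+* K) (τ : K)
    (h : ∀ g ∈ S, eval₂ χ τ g = 0) :
    (polyQuotLift S χ τ h).comp (algebraMap A (A[X] ⧸ Ideal.span S)) = χ := by
  ext a
  simp [polyQuotLift, algebraMap_polyQuot]

theorem polyQuotLift_X {K : Type u} [CommRing K] (χ : A →+* K) (τ : K)
    (h : ∀ g ∈ S, eval₂ χ τ g = 0) :
    polyQuotLift S χ τ h (Ideal.Quotient.mk _ X) = τ := by
  simp [polyQuotLift]

theorem isIntegral_polyQuot (g : A[X]) (hg : g ∈ S) (hmonic : g.Monic) :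
    (algebraMap A (A[X] ⧸ Ideal.span S)).IsIntegral := by
  have hX : IsIntegral A (Ideal.Quotient.mk (Ideal.span S) X) := by
    refine ⟨g, hmonic, ?_⟩
    have : eval₂ (algebraMap A (A[X] ⧸ Ideal.span S)) (Ideal.Quotient.mk (Ideal.span S) X) g =
        Ideal.Quotient.mk (Ideal.span S) g := by
      have h1 : (algebraMap A (A[X] ⧸ Ideal.span S)) = (Ideal.Quotient.mk (Ideal.span S)).comp C := rfl
      rw [h1, ← Polynomial.hom_eval₂, eval₂_C_X]
    rw [this, Ideal.Quotient.eq_zero_iff_mem]
    exact Ideal.subset_span hg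
  intro b
  obtain ⟨p, rfl⟩ := Ideal.Quotient.mk_surjective b
  have : Ideal.Quotient.mk (Ideal.span S) p = aeval (Ideal.Quotient.mk (Ideal.span S) X) p := by
    rw [aeval_def]
    have h1 : (algebraMap A (A[X] ⧸ Ideal.span S)) = (Ideal.Quotient.mk (Ideal.span S)).comp C := rfl
    rw [h1, ← Polynomial.hom_eval₂, eval₂_C_X]
  change IsIntegral A _
  rw [this]
  rw [← aeval_subalgebra_coe p (integralClosure A _) ⟨_, hX⟩]
  exact (aeval (⟨_, hX⟩ : integralClosure A (A[X] ⧸ Ideal.span S)) p).2

end polyQuot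

section resfield

variable {A B : Type u} [CommRing A] [CommRing B] (φ : A →+* B)

/-- evaluation of elements of `B` in the residue field at `q` -/
noncomputable def evAt (q : Spec (CommRingCat.of B)) : B →+* (Spec (CommRingCat.of B)).residueField q :=
  ((Scheme.ΓSpecIso (CommRingCat.of B)).inv ≫ (Spec (CommRingCat.of B)).Γevaluation q).hom

theorem evAt_eq (q : Spec (CommRingCat.of B)) (b : B) :
    evAt q b = (Scheme.Spec.residueFieldIso (CommRingCat.of B) q).inv
      (algebraMap B q.asIdeal.ResidueField b) := by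
  have := Scheme.Spec.algebraMap_residueFieldIso_inv (CommRingCat.of B) q
  have h2 := congrArg (fun f => f.hom b) this
  simp only [CommRingCat.hom_comp, RingHom.comp_apply, CommRingCat.hom_ofHom] at h2
  rw [h2]
  rfl

theorem surjective_of_evAt_mem_range {K : Type u} [Field K] (q : Spec (CommRingCat.of B))
    (g : K →+* (Spec (CommRingCat.of B)).residueField q)
    (h : ∀ b : B, evAt q b ∈ g.range) : Function.Surjective g := by
  intro z
  set e := Scheme.Spec.residueFieldIso (CommRingCat.of B) q with he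
  obtain ⟨a, s, hs, hz⟩ := IsFractionRing.div_surjective (A := B ⧸ q.asIdeal) (e.hom z)
  obtain ⟨a, rfl⟩ := Ideal.Quotient.mk_surjective a
  obtain ⟨s, rfl⟩ := Ideal.Quotient.mk_surjective s
  obtain ⟨u, hu⟩ := h a
  obtain ⟨v, hv⟩ := h s
  refine ⟨u / v, ?_⟩
  rw [map_div₀, hu, hv, evAt_eq, evAt_eq, ← map_div₀]
  have : (algebraMap B q.asIdeal.ResidueField a) / (algebraMap B q.asIdeal.ResidueField s) = e.hom z := by
    rw [← hz]
    rfl
  rw [this]
  exact congrArg (fun f => f.hom z) e.hom_inv_id

theorem evAt_comp (q : Spec (CommRingCat.of B)) (a : A) :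
    evAt q (φ a) = (Spec.map (CommRingCat.ofHom φ)).residueFieldMap q
      (evAt (Spec.map (CommRingCat.ofHom φ) q) a) := by
  unfold evAt
  simp only [CommRingCat.hom_comp, RingHom.comp_apply]
  erw [Scheme.Γevaluation_naturality_apply]
  congr 1
  have := Scheme.ΓSpecIso_inv_naturality (CommRingCat.ofHom φ)
  exact congrArg (fun f => f.hom a) this

end resfield

section polyQuotRes

variable {A : Type u} [CommRing A] (S : Set A[X])

theorem residueFieldMap_surjective_polyQuot
    (q : Spec (CommRingCat.of (A[X] ⧸ Ideal.span S)))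
    (h : evAt q (Ideal.Quotient.mk (Ideal.span S) X) ∈
      ((Spec.map (CommRingCat.ofHom (algebraMap A (A[X] ⧸ Ideal.span S)))).residueFieldMap q).hom.range) :
    Function.Surjective
      ((Spec.map (CommRingCat.ofHom (algebraMap A (A[X] ⧸ Ideal.span S)))).residueFieldMap q) := by
  set f := Spec.map (CommRingCat.ofHom (algebraMap A (A[X] ⧸ Ideal.span S))) with hf
  change Function.Surjective (f.residueFieldMap q).hom
  apply surjective_of_evAt_mem_range q
  intro b
  obtain ⟨P, rfl⟩ := Ideal.Quotient.mk_surjective b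
  induction P using Polynomial.induction_on' with
  | add P Q hP hQ =>
    rw [map_add, map_add]
    exact add_mem hP hQ
  | monomial n a =>
    rw [← C_mul_X_pow_eq_monomial, map_mul, map_pow, map_mul, map_pow]
    refine mul_mem ?_ (pow_mem h n)
    refine ⟨evAt (f q) a, ?_⟩
    exact (evAt_comp (algebraMap A (A[X] ⧸ Ideal.span S)) q a).symm

end polyQuotRes

end Groth.Agent.H4.UnivHomeoSub
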