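import Groth.Agent.H4.UnivHomeoSub2

set_option autoImplicit false

namespace Groth.Agent.H4.UnivHomeoSub

open CategoryTheory CategoryTheory.Limits AlgebraicGeometry MorphismProperty Polynomial

universe u

variable {A B : Type u} [CommRing A] [CommRing B] (φ : A →+* B)

/-- criterion for surjectivity of `Spec φ`: every field point of `A` lifts to a point of `B`
with values in a field extension. -/
theorem surjective_spec_of_field_points' 
    (h : ∀ (K : Type u) [Field K] (χ : A →+* K), ∃ (K' : Type u) (_ : Field K') (i : K →+* K')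
      (ψ : B →+* K'), ψ.comp φ = i.comp χ) :
    Surjective (Spec.map (CommRingCat.ofHom φ)) := by
  refine ⟨fun (p : PrimeSpectrum A) => ?_⟩
  obtain ⟨K', _, i, ψ, hψ⟩ := h p.asIdeal.ResidueField (algebraMap A p.asIdeal.ResidueField)
  refine ⟨(⟨RingHom.ker ψ, RingHom.ker_isPrime ψ⟩ : PrimeSpectrum B), ?_⟩
  apply PrimeSpectrum.ext
  change (RingHom.ker ψ).comap φ = p.asIdeal
  rw [RingHom.comap_ker, hψ, ← RingHom.comap_ker, (RingHom.injective_iff_ker_eq_bot i).mp i.injective,
    ← RingHom.ker_eq_comap_bot, Ideal.ker_algebraMap_residueField]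

end Groth.Agent.H4.UnivHomeoSub
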