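import Mathlib
import Groth.Prelude.Def_W4bk4git07Quot

set_option autoImplicit false
universe u
open CategoryTheory MonoidalCategory CartesianMonoidalCategory MonObj AlgebraicGeometry CategoryTheory.Limits
open Topology

namespace Groth.Agent.H4.UoA

theorem lfp_of_lft {X S : Scheme.{u}} (f : X ⟶ S) [LocallyOfFiniteType f]
    [IsLocallyNoetherian S] : LocallyOfFinitePresentation f := by
  rw [HasRingHomProperty.iff_appLE (P := @LocallyOfFinitePresentation)]
  intro U V e
  have h1 : (f.appLE U.1 V.1 e).hom.FiniteType :=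
    HasRingHomProperty.appLE (P := @LocallyOfFiniteType) f inferInstance U V e
  haveI : IsNoetherianRing Γ(S, U.1) := IsLocallyNoetherian.component_noetherian U
  exact RingHom.FinitePresentation.of_finiteType.mp h1

theorem universallyOpen_over_field (k : Type u) [Field k] {X : Scheme.{u}}
    (f : X ⟶ Spec (CommRingCat.of k)) [LocallyOfFiniteType f] : UniversallyOpen f := by
  haveI : LocallyOfFinitePresentation f := lfp_of_lft f
  haveI : Flat f := inferInstance
  infer_instance

/-- A geometric quotient by a universally open group scheme is universally open. -/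
theorem universallyOpen_of_isGeomQuot {S : Scheme.{u}} {G X Y : Over S} [GrpObj G]
    [UniversallyOpen G.hom] (a : AlgGrp.Action G X) (φ : X ⟶ Y) (h : GIT.IsGeomQuot a φ) :
    UniversallyOpen φ.left := by
  refine ⟨fun X' Y' pr g φ' hsq => ?_⟩
  have hQ : IsQuotientMap φ'.base := h.subm pr g φ' hsq
  show IsOpenMap φ'.base
  -- the map `P' ⟶ P`
  obtain ⟨pmap, hp1, hp2⟩ : ∃ pmap : pullback φ' φ' ⟶ pullback φ.left φ.left,
      pmap ≫ pullback.fst φ.left φ.left = pullback.fst φ' φ' ≫ pr ∧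
      pmap ≫ pullback.snd φ.left φ.left = pullback.snd φ' φ' ≫ pr :=
    ⟨pullback.lift (pullback.fst φ' φ' ≫ pr) (pullback.snd φ' φ' ≫ pr)
      (by rw [Category.assoc, Category.assoc, ← hsq.w, pullback.condition_assoc]),
      pullback.lift_fst _ _ _, pullback.lift_snd _ _ _⟩
  have hbig : IsPullback (pmap ≫ pullback.fst φ.left φ.left) (pullback.snd φ' φ') φ.left
      (pr ≫ φ.left) := by
    rw [hp1, ← hsq.w]
    exact (IsPullback.of_hasPullback φ' φ').paste_horiz hsq.flip
  have hR : IsPullback pmap (pullback.snd φ' φ') (pullback.snd φ.left φ.left) pr :=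
    IsPullback.of_right hbig hp2 (IsPullback.of_hasPullback φ.left φ.left)
  obtain ⟨Ψ, hΨ⟩ : ∃ Ψ, Ψ = GIT.PsiY a φ h.inv := ⟨_, rfl⟩
  have hΨ2 : Ψ ≫ pullback.snd φ.left φ.left = (snd G X).left := by
    rw [hΨ]; exact pullback.lift_snd _ _ _
  haveI : Surjective Ψ := ⟨by rw [hΨ]; exact h.orbit⟩
  have hW : IsPullback (pullback.fst Ψ pmap) (pullback.snd Ψ pmap ≫ pullback.snd φ' φ')
      (snd G X).left pr := by
    have := (IsPullback.of_hasPullback Ψ pmap).paste_vert hR
    rwa [hΨ2] at this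
  haveI : UniversallyOpen (snd G X).left :=
    show UniversallyOpen (pullback.snd G.hom X.hom) from inferInstance
  haveI hm2 : UniversallyOpen (pullback.snd Ψ pmap ≫ pullback.snd φ' φ') :=
    MorphismProperty.of_isPullback (P := @UniversallyOpen) hW inferInstance
  obtain ⟨m₁, hm₁⟩ : ∃ m₁, m₁ = pullback.snd Ψ pmap ≫ pullback.fst φ' φ' := ⟨_, rfl⟩
  obtain ⟨m₂, hm₂⟩ : ∃ m₂, m₂ = pullback.snd Ψ pmap ≫ pullback.snd φ' φ' := ⟨_, rfl⟩
  rw [← hm₂] at hm2
  have e12 : m₁ ≫ φ' = m₂ ≫ φ' := by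
    rw [hm₁, hm₂, Category.assoc, Category.assoc, pullback.condition]
  have h1 : ∀ w, m₁.base w = (pullback.fst φ' φ').base ((pullback.snd Ψ pmap).base w) := by
    intro w; rw [hm₁]; rfl
  have h2 : ∀ w, m₂.base w = (pullback.snd φ' φ').base ((pullback.snd Ψ pmap).base w) := by
    intro w; rw [hm₂]; rfl
  intro U' hU'
  rw [← hQ.isOpen_preimage]
  have key : φ'.base ⁻¹' (φ'.base '' U') = m₂.base '' (m₁.base ⁻¹' U') := by
    ext x
    constructor
    · rintro ⟨u, hu, hux⟩
      obtain ⟨z, hz1, hz2⟩ := Scheme.Pullback.exists_preimage_pullback (f := φ') (g := φ') u x hux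
      obtain ⟨w, hw⟩ := (inferInstance : Surjective (pullback.snd Ψ pmap)).surj z
      refine ⟨w, ?_, ?_⟩
      · show m₁.base w ∈ U'
        rw [h1, hw, hz1]; exact hu
      · rw [h2, hw, hz2]
    · rintro ⟨w, hw, rfl⟩
      refine ⟨m₁.base w, hw, ?_⟩
      exact congrArg (fun f : _ ⟶ Y' => f.base w) e12
  rw [key]
  exact m₂.isOpenMap _ (hU'.preimage m₁.continuous)

end Groth.Agent.H4.UoA
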