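import Mathlib
import Groth.Prelude.Def_W4stkalgstUpp

set_option autoImplicit false

universe v₃ u₃ v₂ u₂ v u

open CategoryTheory CategoryTheory.Functor CategoryTheory.Limits

namespace Groth.Agent.H4.UppFrac

variable {C : Type u} [Category.{v} C] {D : Type u₂} [Category.{v₂} D] (u : C ⥤ D)
  (𝒮 : BasedCategory.{v₃, u₃} C)

lemma isMult : (Stk.uppR u 𝒮).IsMultiplicative where
  id_mem a := by
    refine ⟨?_, ?_⟩
    · show 𝒮.p.IsStronglyCartesian (𝒮.p.map (𝟙 a.x)) (𝟙 a.x)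
      exact IsStronglyCartesian.of_isIso 𝒮.p _ _
    · show IsIso (𝟙 a.V)
      infer_instance
  comp_mem f g hf hg := by
    refine ⟨?_, ?_⟩
    · show 𝒮.p.IsStronglyCartesian (𝒮.p.map (f.top ≫ g.top)) (f.top ≫ g.top)
      rw [𝒮.p.map_comp]
      haveI := hf.1
      haveI := hg.1
      infer_instance
    · show IsIso (f.bot ≫ g.bot)
      haveI := hf.2
      haveI := hg.2
      infer_instance

lemma map_eq_of_lift {x' x : 𝒮.obj} (e : 𝒮.p.obj x' ⟶ 𝒮.p.obj x) (t : x' ⟶ x)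
    [𝒮.p.IsHomLift e t] : 𝒮.p.map t = e := by
  have h := IsHomLift.fac 𝒮.p e t
  simp only [eqToHom_refl, Category.id_comp, Category.comp_id] at h
  exact h.symm

lemma ore_core [𝒮.p.IsFibered] {X Y Y' : Stk.UppObj u 𝒮} (f : X ⟶ Y') (s : Y ⟶ Y')
    (hs : Stk.uppR u 𝒮 s) {P : C} (pr1 : P ⟶ 𝒮.p.obj X.x) (pr2 : P ⟶ 𝒮.p.obj Y.x)
    (hpr : pr1 ≫ 𝒮.p.map f.top = pr2 ≫ 𝒮.p.map s.top)
    (sbinv : Y'.V ⟶ Y.V) (hsb' : sbinv ≫ s.bot = 𝟙 _)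
    (ψ : X.V ⟶ u.obj P) (hψ1 : ψ ≫ u.map pr1 = X.φ)
    (hψ2 : ψ ≫ u.map pr2 = f.bot ≫ sbinv ≫ Y.φ) :
    ∃ (X' : Stk.UppObj u 𝒮) (t : X' ⟶ X) (g : X' ⟶ Y), Stk.uppR u 𝒮 t ∧ t ≫ f = g ≫ s := by
  obtain ⟨x', tt, htt⟩ := IsPreFibered.exists_isCartesian' (p := 𝒮.p) (a := X.x) pr1
  have hsc : 𝒮.p.IsStronglyCartesian pr1 tt := IsFibered.isStronglyCartesian_of_isCartesian 𝒮.p pr1 tt
  obtain rfl : 𝒮.p.obj x' = P := IsHomLift.domain_eq 𝒮.p pr1 tt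
  obtain rfl : 𝒮.p.map tt = pr1 := map_eq_of_lift 𝒮 pr1 tt
  haveI := hs.1
  have hlift : 𝒮.p.IsHomLift (pr2 ≫ 𝒮.p.map s.top) (tt ≫ f.top) := by
    rw [← hpr, ← 𝒮.p.map_comp]; infer_instance
  obtain ⟨gt, hgt1, hgt2⟩ : ∃ gt : x' ⟶ Y.x, gt ≫ s.top = tt ≫ f.top ∧ 𝒮.p.IsHomLift pr2 gt :=
    ⟨IsStronglyCartesian.map 𝒮.p (𝒮.p.map s.top) s.top (f' := pr2 ≫ 𝒮.p.map s.top) rfl (tt ≫ f.top),
      IsStronglyCartesian.fac 𝒮.p (𝒮.p.map s.top) s.top rfl (tt ≫ f.top),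
      IsStronglyCartesian.map_isHomLift 𝒮.p (𝒮.p.map s.top) s.top rfl (tt ≫ f.top)⟩
  obtain rfl : 𝒮.p.map gt = pr2 := map_eq_of_lift 𝒮 pr2 gt
  refine ⟨⟨x', X.V, ψ⟩, ⟨tt, 𝟙 _, ?_⟩, ⟨gt, f.bot ≫ sbinv, ?_⟩, ⟨?_, ?_⟩, ?_⟩
  · rw [hψ1, Category.id_comp]
  · rw [hψ2, Category.assoc]
  · exact hsc
  · show IsIso (𝟙 X.V)
    infer_instance
  · apply Stk.UppObj.hom_ext
    · exact hgt1.symm
    · show 𝟙 _ ≫ f.bot = (f.bot ≫ sbinv) ≫ s.bot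
      rw [Category.id_comp, Category.assoc, hsb', Category.comp_id]

lemma ext_core [𝒮.p.IsFibered] {X Y Z : Stk.UppObj u 𝒮} (f₁ f₂ : X ⟶ Y) (s : Y ⟶ Z)
    (hs : Stk.uppR u 𝒮 s) (h : f₁ ≫ s = f₂ ≫ s) {Q : C} (e : Q ⟶ 𝒮.p.obj X.x)
    (he : e ≫ 𝒮.p.map f₁.top = e ≫ 𝒮.p.map f₂.top)
    (ψ : X.V ⟶ u.obj Q) (hψ : ψ ≫ u.map e = X.φ) :
    ∃ (X' : Stk.UppObj u 𝒮) (t : X' ⟶ X) (_ : Stk.uppR u 𝒮 t), t ≫ f₁ = t ≫ f₂ := by
  obtain ⟨x', tt, htt⟩ := IsPreFibered.exists_isCartesian' (p := 𝒮.p) (a := X.x) e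
  have hsc : 𝒮.p.IsStronglyCartesian e tt := IsFibered.isStronglyCartesian_of_isCartesian 𝒮.p e tt
  obtain rfl : 𝒮.p.obj x' = Q := IsHomLift.domain_eq 𝒮.p e tt
  obtain rfl : 𝒮.p.map tt = e := map_eq_of_lift 𝒮 e tt
  haveI := hs.1
  haveI := hs.2
  have hb : f₁.bot = f₂.bot := by
    have h1 : f₁.bot ≫ s.bot = f₂.bot ≫ s.bot := congrArg (fun m => m.bot) h
    exact (cancel_mono s.bot).mp h1
  have ht : f₁.top ≫ s.top = f₂.top ≫ s.top := congrArg (fun m => m.top) h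
  have key : tt ≫ f₁.top = tt ≫ f₂.top := by
    have l1 : 𝒮.p.IsHomLift (𝒮.p.map tt ≫ 𝒮.p.map f₁.top) (tt ≫ f₁.top) := by
      rw [← 𝒮.p.map_comp]; infer_instance
    have l2 : 𝒮.p.IsHomLift (𝒮.p.map tt ≫ 𝒮.p.map f₁.top) (tt ≫ f₂.top) := by
      rw [he, ← 𝒮.p.map_comp]; infer_instance
    apply IsStronglyCartesian.ext 𝒮.p (𝒮.p.map s.top) s.top (𝒮.p.map tt ≫ 𝒮.p.map f₁.top)
    rw [Category.assoc, Category.assoc, ht]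
  refine ⟨⟨x', X.V, ψ⟩, ⟨tt, 𝟙 _, ?_⟩, ⟨?_, ?_⟩, ?_⟩
  · rw [hψ, Category.id_comp]
  · exact hsc
  · show IsIso (𝟙 X.V)
    infer_instance
  · apply Stk.UppObj.hom_ext
    · exact key
    · show 𝟙 _ ≫ f₁.bot = 𝟙 _ ≫ f₂.bot
      rw [hb]

theorem main [𝒮.p.IsFibered]
    (hC : ∀ (I : Type) [SmallCategory I] [FinCategory I], Nonempty I → HasLimitsOfShape I C)
    (hu : ∀ (I : Type) [SmallCategory I] [FinCategory I], Nonempty I → PreservesLimitsOfShape I u) :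
    (Stk.uppR u 𝒮).HasRightCalculusOfFractions := by
  haveI : HasLimitsOfShape WalkingCospan C := hC WalkingCospan ⟨WalkingCospan.one⟩
  haveI : HasLimitsOfShape WalkingParallelPair C :=
    hC WalkingParallelPair ⟨WalkingParallelPair.zero⟩
  haveI : PreservesLimitsOfShape WalkingCospan u := hu WalkingCospan ⟨WalkingCospan.one⟩
  haveI : PreservesLimitsOfShape WalkingParallelPair u :=
    hu WalkingParallelPair ⟨WalkingParallelPair.zero⟩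
  refine { toIsMultiplicative := isMult u 𝒮, exists_rightFraction := ?_, ext := ?_ }
  · intro X Y φ
    haveI : IsIso φ.s.bot := φ.hs.2
    have hP := IsPullback.map u
      (IsPullback.of_hasPullback (𝒮.p.map φ.f.top) (𝒮.p.map φ.s.top))
    have hcompat : X.φ ≫ u.map (𝒮.p.map φ.f.top) =
        (φ.f.bot ≫ inv φ.s.bot ≫ Y.φ) ≫ u.map (𝒮.p.map φ.s.top) := by
      rw [φ.f.w, Category.assoc, Category.assoc, φ.s.w, IsIso.inv_hom_id_assoc]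
    obtain ⟨X', t, g, ht, htg⟩ := ore_core u 𝒮 φ.f φ.s φ.hs
      (pullback.fst (𝒮.p.map φ.f.top) (𝒮.p.map φ.s.top))
      (pullback.snd (𝒮.p.map φ.f.top) (𝒮.p.map φ.s.top)) pullback.condition
      (inv φ.s.bot) (IsIso.inv_hom_id _)
      (hP.lift X.φ (φ.f.bot ≫ inv φ.s.bot ≫ Y.φ) hcompat) (hP.lift_fst _ _ _) (hP.lift_snd _ _ _)
    exact ⟨⟨t, ht, g⟩, htg⟩
  · intro X Y Z f₁ f₂ s hs h
    haveI : IsIso s.bot := hs.2
    have hb : f₁.bot = f₂.bot := by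
      have h1 : f₁.bot ≫ s.bot = f₂.bot ≫ s.bot := congrArg (fun m => m.bot) h
      exact (cancel_mono s.bot).mp h1
    have hlim := isLimitForkMapOfIsLimit u
      (equalizer.condition (𝒮.p.map f₁.top) (𝒮.p.map f₂.top))
      (equalizerIsEqualizer (𝒮.p.map f₁.top) (𝒮.p.map f₂.top))
    have hcompat : X.φ ≫ u.map (𝒮.p.map f₁.top) = X.φ ≫ u.map (𝒮.p.map f₂.top) := by
      rw [f₁.w, f₂.w, hb]
    obtain ⟨ψ, hψ⟩ := Fork.IsLimit.lift' hlim X.φ hcompat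
    exact ext_core u 𝒮 f₁ f₂ s hs h (equalizer.ι (𝒮.p.map f₁.top) (𝒮.p.map f₂.top))
      (equalizer.condition _ _) ψ hψ

end Groth.Agent.H4.UppFrac
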