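import Mathlib
import Groth.Prelude.Def_W4stkalgstUpp
import Groth.Prelude.Def_FibCat2
import Groth.Agent.Lib.Helper3.FibCatAux
import Groth.Agent.H4.UppFrac

set_option autoImplicit false

universe v₃ u₃ v₂ u₂ v u

open CategoryTheory CategoryTheory.Functor CategoryTheory.Limits

namespace Groth.Agent.H4.UppFib

section Gen

variable {𝒳 : Type u} [Category.{v} 𝒳] {ℬ : Type u₂} [Category.{v₂} ℬ] (p : 𝒳 ⥤ ℬ)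

lemma lift_of_map_eq {a b : 𝒳} (φ : a ⟶ b) (f : p.obj a ⟶ p.obj b) (h : p.map φ = f) :
    p.IsHomLift f φ := h ▸ IsHomLift.map p φ

lemma sc_of_iso_comp {a b c : 𝒳} (ι : a ⟶ b) [IsIso ι] (γ : b ⟶ c) {R S : ℬ} (g : R ⟶ S)
    [p.IsStronglyCartesian g γ] : p.IsStronglyCartesian (p.map (ι ≫ γ)) (ι ≫ γ) := by
  have h1 : p.IsStronglyCartesian (p.map ι) ι := IsStronglyCartesian.of_isIso p _ _
  have h2 : p.IsStronglyCartesian (p.map γ) γ :=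
    Groth.Agent.H3.FibCatAux.isStronglyCartesian_map_of p g γ
  rw [p.map_comp]
  infer_instance

end Gen

variable {C : Type u} [Category.{v} C] {D : Type u₂} [Category.{v₂} D] (u : C ⥤ D)
  (𝒮 : BasedCategory.{v₃, u₃} C)

/-- the localisation functor -/
abbrev LL : Stk.UppObj u 𝒮 ⥤ (Stk.uppR u 𝒮).Localization := (Stk.uppR u 𝒮).Q

/-- the structure functor of the localisation -/
noncomputable abbrev ππ : (Stk.uppR u 𝒮).Localization ⥤ D :=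
  Localization.Construction.lift (Stk.UppObj.forget u 𝒮) (Stk.uppR_isInvertedBy u 𝒮)

lemma π_map {X Y : Stk.UppObj u 𝒮} (f : X ⟶ Y) : (ππ u 𝒮).map ((LL u 𝒮).map f) = f.bot := by
  have h := Functor.congr_hom
    (Localization.Construction.fac (Stk.UppObj.forget u 𝒮) (Stk.uppR_isInvertedBy u 𝒮)) f
  have h' : (ππ u 𝒮).map ((LL u 𝒮).map f) =
      eqToHom (rfl : X.V = X.V) ≫ f.bot ≫ eqToHom (rfl : Y.V = Y.V) := h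
  rw [eqToHom_refl, eqToHom_refl, Category.id_comp, Category.comp_id] at h'
  exact h'

lemma lift_L {X Y : Stk.UppObj u 𝒮} (f : X ⟶ Y) :
    (ππ u 𝒮).IsHomLift f.bot ((LL u 𝒮).map f) :=
  lift_of_map_eq (ππ u 𝒮) ((LL u 𝒮).map f) f.bot (π_map u 𝒮 f)

lemma map_eq_of_lift_π {Z X : Stk.UppObj u 𝒮} (f : Z.V ⟶ X.V)
    (φ : (LL u 𝒮).obj Z ⟶ (LL u 𝒮).obj X) (h : (ππ u 𝒮).IsHomLift f φ) :
    (ππ u 𝒮).map φ = f :=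
  (@IsHomLift.eq_of_isHomLift _ _ _ _ (ππ u 𝒮) ((LL u 𝒮).obj Z) ((LL u 𝒮).obj X) f φ h).symm

lemma lift_of_map_eq_π {Z X : Stk.UppObj u 𝒮} (f : Z.V ⟶ X.V)
    (φ : (LL u 𝒮).obj Z ⟶ (LL u 𝒮).obj X) (h : (ππ u 𝒮).map φ = f) :
    (ππ u 𝒮).IsHomLift f φ :=
  lift_of_map_eq (ππ u 𝒮) (a := (LL u 𝒮).obj Z) (b := (LL u 𝒮).obj X) φ f h

variable {u 𝒮}

/-- reindexing an object along a morphism of `D` -/
abbrev gObj (X : Stk.UppObj u 𝒮) {V' : D} (g : V' ⟶ X.V) : Stk.UppObj u 𝒮 := ⟨X.x, V', g ≫ X.φ⟩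

/-- the canonical morphism from the reindexed object -/
def gHom (X : Stk.UppObj u 𝒮) {V' : D} (g : V' ⟶ X.V) : gObj X g ⟶ X :=
  ⟨𝟙 X.x, g, by simp⟩

lemma L_eq_of [(Stk.uppR u 𝒮).HasRightCalculusOfFractions] {Z₁ X : Stk.UppObj u 𝒮} {V' : D}
    (g : V' ⟶ X.V) (f₁ f₂ : Z₁ ⟶ gObj X g) (hb : f₁.bot = f₂.bot)
    (h : (LL u 𝒮).map (f₁ ≫ gHom X g) = (LL u 𝒮).map (f₂ ≫ gHom X g)) :
    (LL u 𝒮).map f₁ = (LL u 𝒮).map f₂ := by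
  rw [MorphismProperty.map_eq_iff_precomp (LL u 𝒮) (Stk.uppR u 𝒮)] at h ⊢
  obtain ⟨Z₃, t, ht, e⟩ := h
  refine ⟨Z₃, t, ht, ?_⟩
  apply Stk.UppObj.hom_ext
  · have e' : t.top ≫ f₁.top ≫ 𝟙 X.x = t.top ≫ f₂.top ≫ 𝟙 X.x := congrArg (fun m => m.top) e
    rw [Category.comp_id, Category.comp_id] at e'
    exact e'
  · show t.bot ≫ f₁.bot = t.bot ≫ f₂.bot
    rw [hb]

lemma uniq_lift [(Stk.uppR u 𝒮).HasRightCalculusOfFractions] (X : Stk.UppObj u 𝒮) {V' : D}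
    (g : V' ⟶ X.V) {Z : Stk.UppObj u 𝒮} (β β' : (LL u 𝒮).obj Z ⟶ (LL u 𝒮).obj (gObj X g))
    (h1 : (ππ u 𝒮).map β = (ππ u 𝒮).map β')
    (h2 : β ≫ (LL u 𝒮).map (gHom X g) = β' ≫ (LL u 𝒮).map (gHom X g)) : β = β' := by
  obtain ⟨ρ₁, hρ₁⟩ := Localization.exists_rightFraction (LL u 𝒮) (Stk.uppR u 𝒮) β
  obtain ⟨ρ₂, hρ₂⟩ := Localization.exists_rightFraction (LL u 𝒮) (Stk.uppR u 𝒮) β'
  have e1 : (LL u 𝒮).map ρ₁.s ≫ β = (LL u 𝒮).map ρ₁.f := by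
    rw [hρ₁]; exact ρ₁.map_s_comp_map (LL u 𝒮) _
  have e2 : (LL u 𝒮).map ρ₂.s ≫ β' = (LL u 𝒮).map ρ₂.f := by
    rw [hρ₂]; exact ρ₂.map_s_comp_map (LL u 𝒮) _
  obtain ⟨ψ, hψ⟩ := MorphismProperty.HasRightCalculusOfFractions.exists_rightFraction
    (MorphismProperty.LeftFraction.mk ρ₁.s ρ₂.s ρ₂.hs : (Stk.uppR u 𝒮).LeftFraction ρ₁.X' ρ₂.X')
  have hψ' : ψ.s ≫ ρ₁.s = ψ.f ≫ ρ₂.s := hψ
  have hs : Stk.uppR u 𝒮 (ψ.s ≫ ρ₁.s) :=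
    (Stk.uppR u 𝒮).comp_mem _ _ ψ.hs ρ₁.hs
  have hsi : IsIso ((LL u 𝒮).map (ψ.s ≫ ρ₁.s)) :=
    Localization.inverts (LL u 𝒮) (Stk.uppR u 𝒮) _ hs
  have e3 : (LL u 𝒮).map (ψ.s ≫ ρ₁.s) ≫ β = (LL u 𝒮).map (ψ.s ≫ ρ₁.f) := by
    rw [(LL u 𝒮).map_comp, Category.assoc, e1, ← (LL u 𝒮).map_comp]
  have e4 : (LL u 𝒮).map (ψ.s ≫ ρ₁.s) ≫ β' = (LL u 𝒮).map (ψ.f ≫ ρ₂.f) := by
    rw [hψ', (LL u 𝒮).map_comp, Category.assoc, e2, ← (LL u 𝒮).map_comp]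
  have hb : (ψ.s ≫ ρ₁.f).bot = (ψ.f ≫ ρ₂.f).bot := by
    have h3 : (ππ u 𝒮).map ((LL u 𝒮).map (ψ.s ≫ ρ₁.s)) ≫ (ππ u 𝒮).map β =
        (ππ u 𝒮).map ((LL u 𝒮).map (ψ.s ≫ ρ₁.f)) := by rw [← Functor.map_comp, e3]
    have h4 : (ππ u 𝒮).map ((LL u 𝒮).map (ψ.s ≫ ρ₁.s)) ≫ (ππ u 𝒮).map β' =
        (ππ u 𝒮).map ((LL u 𝒮).map (ψ.f ≫ ρ₂.f)) := by rw [← Functor.map_comp, e4]
    rw [π_map u 𝒮 (ψ.s ≫ ρ₁.f)] at h3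
    rw [π_map u 𝒮 (ψ.f ≫ ρ₂.f)] at h4
    rw [← h3, ← h4, h1]
  have e5 : (LL u 𝒮).map ((ψ.s ≫ ρ₁.f) ≫ gHom X g) = (LL u 𝒮).map ((ψ.f ≫ ρ₂.f) ≫ gHom X g) := by
    rw [(LL u 𝒮).map_comp, (LL u 𝒮).map_comp (ψ.f ≫ ρ₂.f), ← e3, ← e4, Category.assoc,
      Category.assoc, h2]
  have e6 := L_eq_of g _ _ hb e5
  have e7 : (LL u 𝒮).map (ψ.s ≫ ρ₁.s) ≫ β = (LL u 𝒮).map (ψ.s ≫ ρ₁.s) ≫ β' := by
    rw [e3, e4, e6]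
  exact (cancel_epi ((LL u 𝒮).map (ψ.s ≫ ρ₁.s))).mp e7

lemma gHom_univ [(Stk.uppR u 𝒮).HasRightCalculusOfFractions] (X : Stk.UppObj u 𝒮) {V' : D}
    (g : V' ⟶ X.V) {Z : Stk.UppObj u 𝒮} (g' : Z.V ⟶ V')
    (φ' : (LL u 𝒮).obj Z ⟶ (LL u 𝒮).obj X) (hπφ : (ππ u 𝒮).map φ' = g' ≫ g) :
    ∃! χ : (LL u 𝒮).obj Z ⟶ (LL u 𝒮).obj (gObj X g),
      (ππ u 𝒮).map χ = g' ∧ χ ≫ (LL u 𝒮).map (gHom X g) = φ' := by
  obtain ⟨ρ, hρ⟩ := Localization.exists_rightFraction (LL u 𝒮) (Stk.uppR u 𝒮) φ'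
  have hsi : IsIso ((LL u 𝒮).map ρ.s) :=
    Localization.inverts (LL u 𝒮) (Stk.uppR u 𝒮) ρ.s ρ.hs
  have e1 : (LL u 𝒮).map ρ.s ≫ φ' = (LL u 𝒮).map ρ.f := by
    rw [hρ]; exact ρ.map_s_comp_map (LL u 𝒮) _
  have hsb : IsIso ρ.s.bot := ρ.hs.2
  have e2 : ρ.s.bot ≫ g' ≫ g = ρ.f.bot := by
    have h3 : (ππ u 𝒮).map ((LL u 𝒮).map ρ.s) ≫ (ππ u 𝒮).map φ' =
        (ππ u 𝒮).map ((LL u 𝒮).map ρ.f) := by rw [← Functor.map_comp, e1]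
    rw [π_map, π_map, hπφ] at h3
    exact h3
  have hw : ρ.X'.φ ≫ u.map (𝒮.p.map ρ.f.top) = (ρ.s.bot ≫ g') ≫ (gObj X g).φ := by
    rw [ρ.f.w, ← e2]
    simp
  obtain ⟨f', hf't, hf'b⟩ : ∃ f' : ρ.X' ⟶ gObj X g, f'.top = ρ.f.top ∧ f'.bot = ρ.s.bot ≫ g' :=
    ⟨⟨ρ.f.top, ρ.s.bot ≫ g', hw⟩, rfl, rfl⟩
  have ef' : f' ≫ gHom X g = ρ.f := by
    apply Stk.UppObj.hom_ext
    · show f'.top ≫ 𝟙 X.x = ρ.f.top
      rw [hf't, Category.comp_id]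
    · show f'.bot ≫ g = ρ.f.bot
      rw [hf'b, Category.assoc, e2]
  have hπβ : (ππ u 𝒮).map (inv ((LL u 𝒮).map ρ.s) ≫ (LL u 𝒮).map f') = g' := by
    have a1 : (ππ u 𝒮).map ((LL u 𝒮).map ρ.s) ≫
        (ππ u 𝒮).map (inv ((LL u 𝒮).map ρ.s) ≫ (LL u 𝒮).map f') =
        (ππ u 𝒮).map ((LL u 𝒮).map f') := by
      rw [← Functor.map_comp, IsIso.hom_inv_id_assoc]
    rw [π_map, π_map, hf'b] at a1
    exact (cancel_epi ρ.s.bot).mp a1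
  have hfac : (inv ((LL u 𝒮).map ρ.s) ≫ (LL u 𝒮).map f') ≫ (LL u 𝒮).map (gHom X g) = φ' := by
    rw [Category.assoc, ← (LL u 𝒮).map_comp, ef', ← e1, IsIso.inv_hom_id_assoc]
  refine ⟨inv ((LL u 𝒮).map ρ.s) ≫ (LL u 𝒮).map f', ⟨hπβ, hfac⟩, ?_⟩
  rintro β' ⟨hβ1, hβ2⟩
  apply uniq_lift X g
  · rw [hβ1, hπβ]
  · rw [hβ2, hfac]

theorem gHom_sc [(Stk.uppR u 𝒮).HasRightCalculusOfFractions] (X : Stk.UppObj u 𝒮) {V' : D}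
    (g : V' ⟶ X.V) : (ππ u 𝒮).IsStronglyCartesian g ((LL u 𝒮).map (gHom X g)) := by
  refine { toIsHomLift := lift_L u 𝒮 (gHom X g), universal_property' := ?_ }
  intro a' g' φ' hφ'
  obtain ⟨Z, rfl⟩ := (Localization.Construction.objEquiv (Stk.uppR u 𝒮)).surjective a'
  obtain ⟨χ, ⟨h1, h2⟩, h3⟩ := gHom_univ X g g' φ'
    (map_eq_of_lift_π u 𝒮 (Z := Z) (X := X) (g' ≫ g) φ' hφ')
  refine ⟨χ, ⟨lift_of_map_eq_π u 𝒮 (Z := Z) (X := gObj X g) g' χ h1, h2⟩, ?_⟩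
  rintro χ' ⟨h1', h2'⟩
  exact h3 χ' ⟨map_eq_of_lift_π u 𝒮 (Z := Z) (X := gObj X g) g' χ' h1', h2'⟩

variable (u 𝒮)

theorem isFibered_up [𝒮.p.IsFibered]
    (hC : ∀ (I : Type) [SmallCategory I] [FinCategory I], Nonempty I → HasLimitsOfShape I C)
    (hu : ∀ (I : Type) [SmallCategory I] [FinCategory I], Nonempty I → PreservesLimitsOfShape I u) :
    (ππ u 𝒮).IsFibered := by
  haveI := Groth.Agent.H4.UppFrac.main u 𝒮 hC hu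
  apply IsFibered.of_exists_isStronglyCartesian
  intro a R f
  obtain ⟨X, rfl⟩ := (Localization.Construction.objEquiv (Stk.uppR u 𝒮)).surjective a
  exact ⟨(LL u 𝒮).obj (gObj X f), (LL u 𝒮).map (gHom X f), gHom_sc X f⟩

theorem isFibGrpd_up (h𝒮 : FibCat.IsFibGrpd 𝒮.p)
    (hC : ∀ (I : Type) [SmallCategory I] [FinCategory I], Nonempty I → HasLimitsOfShape I C)
    (hu : ∀ (I : Type) [SmallCategory I] [FinCategory I], Nonempty I → PreservesLimitsOfShape I u) :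
    FibCat.IsFibGrpd (ππ u 𝒮) := by
  haveI : 𝒮.p.IsFibered := Groth.Agent.H3.FibCatAux.isFibered_of_isFibGrpd 𝒮.p h𝒮
  haveI := Groth.Agent.H4.UppFrac.main u 𝒮 hC hu
  refine { exists_lift := ?_, isStronglyCartesian := ?_ }
  · intro a R f
    obtain ⟨X, rfl⟩ := (Localization.Construction.objEquiv (Stk.uppR u 𝒮)).surjective a
    exact ⟨(LL u 𝒮).obj (gObj X f), (LL u 𝒮).map (gHom X f), lift_L u 𝒮 (gHom X f)⟩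
  · intro b a φ
    obtain ⟨X, rfl⟩ := (Localization.Construction.objEquiv (Stk.uppR u 𝒮)).surjective a
    obtain ⟨Z, rfl⟩ := (Localization.Construction.objEquiv (Stk.uppR u 𝒮)).surjective b
    obtain ⟨φ'', hφeq⟩ : ∃ φ'' : (LL u 𝒮).obj Z ⟶ (LL u 𝒮).obj X, φ'' = φ := ⟨φ, rfl⟩
    rw [← hφeq]
    obtain ⟨ρ, hρ⟩ := Localization.exists_rightFraction (LL u 𝒮) (Stk.uppR u 𝒮) φ''
    have hsi : IsIso ((LL u 𝒮).map ρ.s) :=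
      Localization.inverts (LL u 𝒮) (Stk.uppR u 𝒮) ρ.s ρ.hs
    have e1 : (LL u 𝒮).map ρ.s ≫ φ'' = (LL u 𝒮).map ρ.f := by
      rw [hρ]; exact ρ.map_s_comp_map (LL u 𝒮) _
    have hw : ρ.X'.φ ≫ u.map (𝒮.p.map ρ.f.top) = 𝟙 _ ≫ (gObj X ρ.f.bot).φ := by
      rw [ρ.f.w]
      simp
    obtain ⟨f', hf't, hf'b⟩ : ∃ f' : ρ.X' ⟶ gObj X ρ.f.bot, f'.top = ρ.f.top ∧ f'.bot = 𝟙 _ :=
      ⟨⟨ρ.f.top, 𝟙 _, hw⟩, rfl, rfl⟩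
    have ef' : f' ≫ gHom X ρ.f.bot = ρ.f := by
      apply Stk.UppObj.hom_ext
      · show f'.top ≫ 𝟙 X.x = ρ.f.top
        rw [hf't, Category.comp_id]
      · show f'.bot ≫ ρ.f.bot = ρ.f.bot
        rw [hf'b, Category.id_comp]
    have hf'W : Stk.uppR u 𝒮 f' := by
      refine ⟨?_, ?_⟩
      · rw [hf't]; exact h𝒮.isStronglyCartesian ρ.f.top
      · rw [hf'b]; infer_instance
    have hf'i : IsIso ((LL u 𝒮).map f') :=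
      Localization.inverts (LL u 𝒮) (Stk.uppR u 𝒮) f' hf'W
    have hφ : φ'' = (inv ((LL u 𝒮).map ρ.s) ≫ (LL u 𝒮).map f') ≫ (LL u 𝒮).map (gHom X ρ.f.bot) := by
      rw [Category.assoc, ← (LL u 𝒮).map_comp, ef', ← e1, IsIso.inv_hom_id_assoc]
    rw [hφ]
    haveI := gHom_sc X ρ.f.bot
    exact sc_of_iso_comp (ππ u 𝒮) (inv ((LL u 𝒮).map ρ.s) ≫ (LL u 𝒮).map f')
      ((LL u 𝒮).map (gHom X ρ.f.bot)) ρ.f.bot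

end Groth.Agent.H4.UppFib
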