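import Mathlib
import Groth.Agent.H4.VALocal
import Groth.Agent.S8259

set_option autoImplicit false
set_option linter.style.haveILetI false
set_option linter.unusedSectionVars false
set_option linter.unusedVariables false

namespace Groth.Agent.H4.VALocPE

open CategoryTheory CategoryTheory.Limits AlgebraicGeometry TopologicalSpace Opposite
open HomogeneousLocalization
open Groth.Agent.H6.Sym Groth.Agent.H6 Groth.Agent.LD.QC Groth.Agent.H4.PBundle Groth.Agent.H4.PBundle2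
open Groth.Agent.H4.PBundle3 Groth.Agent.H4.PBLoc Groth.Agent.H4.PBLoc2 Groth.Agent.H4.PBLoc3
open Groth.Agent.H4.ConeImm
open Groth.Agent.H4.PBUniq Groth.Agent.H4.PBEx1 Groth.Agent.H4.PBEx2 Groth.Agent.H4.PBEx4
open Groth.Agent.H4.SegreCh Groth.Agent.H4.SegreVA Groth.Agent.H4.ProjPhi Groth.Agent.H4.TensVA
open Groth.Agent.H8.RelTwist Groth.Agent.H4.LocImm Groth.Agent.H4.VALocal
open scoped HomogeneousIdeal

universe u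

noncomputable section

variable {X Y P : Scheme.{u}} {𝒮 : RelProj.QCGrAlg Y} {p : P ⟶ Y}
  {chart : ∀ (U : Y.Opens) (hU : IsAffineOpen U),
    (((p ⁻¹ᵁ U : P.Opens) : Scheme.{u}) ≅ Proj (𝒮.deg U hU))}
  {O1 : P.Modules}
  {lam : ∀ (U : Y.Opens) (hU : IsAffineOpen U),
    O1 ⟶ (Scheme.Modules.pushforward (RelProj.emb p chart U hU)).obj (GrTwist.twist (𝒮.deg U hU) 1)}
  {E : Y.Modules} [E.IsQuasicoherent] {j : E ⟶ 𝒮.toModule} {L : X.Modules}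
  {V : Y.Opens}
  {P' : Scheme.{u}} {𝒮' : RelProj.QCGrAlg (V : Scheme.{u})} {p' : P' ⟶ (V : Scheme.{u})}
  {chart' : ∀ (U : (V : Scheme.{u}).Opens) (hU : IsAffineOpen U),
    (((p' ⁻¹ᵁ U : P'.Opens) : Scheme.{u}) ≅ Proj (𝒮'.deg U hU))}
  {O1' : P'.Modules}
  {lam' : ∀ (U : (V : Scheme.{u}).Opens) (hU : IsAffineOpen U),
    O1' ⟶ (Scheme.Modules.pushforward (RelProj.emb p' chart' U hU)).obj
      (GrTwist.twist (𝒮'.deg U hU) 1)}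
  {E' : (V : Scheme.{u}).Modules} [E'.IsQuasicoherent] {j' : E' ⟶ 𝒮'.toModule}

/-- the value of `v` on a section, as a section of `E`. -/
def vsec (v : E' ⟶ E.restrict V.ι) (U₀ : (V : Scheme.{u}).Opens) (e' : Γ(E', U₀)) :
    Γ(E, V.ι ''ᵁ U₀) := v.app U₀ e'

/-- the open of `P(E)` over `V` where one of the sections `φ(v e')` generates `O(1)`. -/
def GG' (p : P ⟶ Y) (chart : ∀ (U : Y.Opens) (hU : IsAffineOpen U),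
    (((p ⁻¹ᵁ U : P.Opens) : Scheme.{u}) ≅ Proj (𝒮.deg U hU))) (j : E ⟶ 𝒮.toModule)
    (v : E' ⟶ E.restrict V.ι) : P.Opens :=
  ⨆ (U₀ : (V : Scheme.{u}).affineOpens) (e' : Γ(E', U₀.1)),
    Dp p chart (V.ι ''ᵁ U₀.1) (U₀.2.image_of_isOpenImmersion V.ι)
      (QA.sec j (V.ι ''ᵁ U₀.1) (vsec v U₀.1 e'))

lemma mem_GG' (v : E' ⟶ E.restrict V.ι) (z : P) :
    z ∈ GG' p chart j v ↔ ∃ (U₀ : (V : Scheme.{u}).affineOpens) (e' : Γ(E', U₀.1)),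
      z ∈ Dp p chart (V.ι ''ᵁ U₀.1) (U₀.2.image_of_isOpenImmersion V.ι)
        (QA.sec j (V.ι ''ᵁ U₀.1) (vsec v U₀.1 e')) := by
  unfold GG'
  simp only [Opens.mem_iSup]

lemma image_ι_le (V : Y.Opens) (U₀ : (V : Scheme.{u}).Opens) : V.ι ''ᵁ U₀ ≤ V := by
  rintro _ ⟨y, -, rfl⟩
  exact y.2

lemma GG'_le (v : E' ⟶ E.restrict V.ι) : GG' p chart j v ≤ p ⁻¹ᵁ V := by
  intro z hz
  obtain ⟨U₀, e', hz⟩ := (mem_GG' v z).mp hz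
  exact p.preimage_mono (image_ι_le V U₀.1) (Dp_le p chart _ _ _ hz)

/-- every point over `V` is sent into `GG'`. -/
theorem le_preimage_GG' (hj : RelProj.IsGrSymAlg E 𝒮 j)
    (hO1 : RelProj.IsRelTwist 𝒮 p chart 1 O1 lam)
    (φ : E ⟶ (Scheme.Modules.pushforward p).obj O1)
    (hφ : ∀ (U : Y.Opens) (hU : IsAffineOpen U) (e : Γ(E, U)),
      Groth.Agent.H4.PBLoc.Reads lam U hU (QA.sec j U e) (φ.app U e))
    (q : X ⟶ Y)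
    (s : (Scheme.Modules.pullback q).obj E ⟶ L)
    (r : X ⟶ P) (hr : r ≫ p = q) (τ : (Scheme.Modules.pullback r).obj O1 ≅ L)
    (hτ : alpha φ q r hr ≫ τ.hom = s)
    (hj' : RelProj.IsGrSymAlg E' 𝒮' j')
    (hO1' : RelProj.IsRelTwist 𝒮' p' chart' 1 O1' lam')
    (φ' : E' ⟶ (Scheme.Modules.pushforward p').obj O1')
    (hφ' : ∀ (U : (V : Scheme.{u}).Opens) (hU : IsAffineOpen U) (e : Γ(E', U)),
      Groth.Agent.H4.PBLoc.Reads lam' U hU (QA.sec j' U e) (φ'.app U e))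
    (ι' : ((q ⁻¹ᵁ V : X.Opens) : Scheme.{u}) ⟶ P') (hι' : ι' ≫ p' = q ∣_ V)
    (θ' : (Scheme.Modules.pullback ι').obj O1' ≅ L.restrict (q ⁻¹ᵁ V).ι)
    (v : E' ⟶ E.restrict V.ι)
    (hv : ∀ (U₀ : (V : Scheme.{u}).Opens) (hU₀ : IsAffineOpen U₀) (e' : Γ(E', U₀))
      (hle : (q ⁻¹ᵁ V).ι ''ᵁ ((q ∣_ V) ⁻¹ᵁ U₀) ≤ q ⁻¹ᵁ (V.ι ''ᵁ U₀)),
      L.presheaf.map (homOfLE hle).op
          (sig q s (V.ι ''ᵁ U₀) (vsec v U₀ e')) =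
        (show Γ(L, (q ⁻¹ᵁ V).ι ''ᵁ ((q ∣_ V) ⁻¹ᵁ U₀)) from
          sig (q ∣_ V) (alpha φ' (q ∣_ V) ι' hι' ≫ θ'.hom) U₀ e')) :
    q ⁻¹ᵁ V ≤ r ⁻¹ᵁ GG' p chart j v := by
  classical
  subst hr
  haveI : O1.IsQuasicoherent := Groth.Agent.H8.RelTilde.relTwist_isQuasicoherent hO1
  haveI : O1'.IsQuasicoherent := Groth.Agent.H8.RelTilde.relTwist_isQuasicoherent hO1'
  have hgen : 𝒮.IsGenDegOne := genDegOne_of_isGrSymAlg hj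
  intro x hx
  obtain ⟨U₀, hU₀, hxU₀, -⟩ := Opens.isBasis_iff_nbhd.mp (V : Scheme.{u}).isBasis_affineOpens
    (show p'.base (ι'.base (⟨x, hx⟩ : ↥((r ≫ p) ⁻¹ᵁ V))) ∈ (⊤ : (V : Scheme.{u}).Opens) from trivial)
  replace hU₀ : IsAffineOpen U₀ := hU₀
  obtain ⟨z, hz⟩ := exists_emb p' chart' (ι'.base (⟨x, hx⟩ : ↥((r ≫ p) ⁻¹ᵁ V))) U₀ hU₀ hxU₀
  obtain ⟨e₀, he₀⟩ := exists_sec_basicOpen hj' U₀ hU₀ z
  have hh' : QA.sec j' U₀ e₀ ∈ 𝒮'.deg U₀ hU₀ 1 := hj'.2 U₀ hU₀ e₀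
  have hxD : ι'.base (⟨x, hx⟩ : ↥((r ≫ p) ⁻¹ᵁ V)) ∈ Dp p' chart' U₀ hU₀ (QA.sec j' U₀ e₀) :=
    ⟨z, he₀, hz⟩
  have hWι : ι' ⁻¹ᵁ Dp p' chart' U₀ hU₀ (QA.sec j' U₀ e₀) ≤ ι' ⁻¹ᵁ (p' ⁻¹ᵁ U₀) :=
    ι'.preimage_mono (Dp_le p' chart' U₀ hU₀ _)
  have hWq : ι' ⁻¹ᵁ Dp p' chart' U₀ hU₀ (QA.sec j' U₀ e₀) ≤ ((r ≫ p) ∣_ V) ⁻¹ᵁ U₀ := by
    rw [← hι']; exact hWι
  have hb₁ := isBasisOver_lsec ι' θ' hO1' U₀ hU₀ (QA.sec j' U₀ e₀) hh' (φ'.app U₀ e₀)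
    (hφ' U₀ hU₀ e₀) _ (le_refl (ι' ⁻¹ᵁ Dp p' chart' U₀ hU₀ (QA.sec j' U₀ e₀)))
  have h3 := lsec_res_eq_sig φ' ((r ≫ p) ∣_ V) (alpha φ' ((r ≫ p) ∣_ V) ι' hι' ≫ θ'.hom) ι' hι' θ' rfl
    U₀ e₀ _ hWq hWι
  rw [h3] at hb₁
  have hle : ((r ≫ p) ⁻¹ᵁ V).ι ''ᵁ (((r ≫ p) ∣_ V) ⁻¹ᵁ U₀) ≤ (r ≫ p) ⁻¹ᵁ (V.ι ''ᵁ U₀) :=
    (image_morphismRestrict_preimage (r ≫ p) V U₀).le
  have hres := restrict_res ((r ≫ p) ⁻¹ᵁ V).ι L hWq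
    (show Γ(L, ((r ≫ p) ⁻¹ᵁ V).ι ''ᵁ (((r ≫ p) ∣_ V) ⁻¹ᵁ U₀)) from
      sig ((r ≫ p) ∣_ V) (alpha φ' ((r ≫ p) ∣_ V) ι' hι' ≫ θ'.hom) U₀ e₀)
  have hb₂ := (isBasisOver_restrict_iff' ((r ≫ p) ⁻¹ᵁ V).ι L _ _ _ hres).mp hb₁
  rw [← hv U₀ hU₀ e₀ hle, res_res] at hb₂
  have hW : ((r ≫ p) ⁻¹ᵁ V).ι ''ᵁ (ι' ⁻¹ᵁ Dp p' chart' U₀ hU₀ (QA.sec j' U₀ e₀)) ≤
      (r ≫ p) ⁻¹ᵁ (V.ι ''ᵁ U₀) := (Scheme.Hom.image_mono _ hWq).trans hle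
  have hW' : ((r ≫ p) ⁻¹ᵁ V).ι ''ᵁ (ι' ⁻¹ᵁ Dp p' chart' U₀ hU₀ (QA.sec j' U₀ e₀)) ≤
      r ⁻¹ᵁ (p ⁻¹ᵁ (V.ι ''ᵁ U₀)) := hW
  have h4 := lsec_res_eq_sig φ (r ≫ p) s r rfl τ hτ (V.ι ''ᵁ U₀)
    (vsec v U₀ e₀) _ hW hW'
  have hb₃ : IsBasisOver L _ (L.presheaf.map (homOfLE hW').op
      (lsec r τ (V.ι ''ᵁ U₀) (φ.app (V.ι ''ᵁ U₀) (vsec v U₀ e₀)))) := by
    rw [h4]; exact hb₂
  have h5 := le_preimage_Dp_of_isBasisOver r τ hO1 hgen (V.ι ''ᵁ U₀)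
    (hU₀.image_of_isOpenImmersion V.ι)
    (QA.sec j (V.ι ''ᵁ U₀) (vsec v U₀ e₀))
    (hj.2 _ (hU₀.image_of_isOpenImmersion V.ι) _)
    (φ.app (V.ι ''ᵁ U₀) (vsec v U₀ e₀))
    (hφ _ (hU₀.image_of_isOpenImmersion V.ι) _) _ hW' hb₃
  have hxW : x ∈ ((r ≫ p) ⁻¹ᵁ V).ι ''ᵁ (ι' ⁻¹ᵁ Dp p' chart' U₀ hU₀ (QA.sec j' U₀ e₀)) :=
    ⟨⟨x, hx⟩, hxD, rfl⟩
  exact (mem_GG' v (r.base x)).mpr ⟨⟨U₀, hU₀⟩, e₀, h5 hxW⟩

/-- the comparison morphism `p_G^* E' ⟶ O_P(1)|_G`. -/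
def sGmap (φ : E ⟶ (Scheme.Modules.pushforward p).obj O1) (v : E' ⟶ E.restrict V.ι)
    (G : P.Opens) (hGT : G ≤ p ⁻¹ᵁ V) :
    (Scheme.Modules.pullback (p.resLE V G hGT)).obj E' ⟶ (Scheme.Modules.pullback G.ι).obj O1 :=
  (Scheme.Modules.pullback (p.resLE V G hGT)).map
      (v ≫ (Scheme.Modules.restrictFunctorIsoPullback V.ι).hom.app E) ≫
    (Scheme.Modules.pullbackComp (p.resLE V G hGT) V.ι).hom.app E ≫
    (Scheme.Modules.pullbackCongr (Scheme.Hom.resLE_comp_ι p hGT)).hom.app E ≫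
    alpha φ (G.ι ≫ p) G.ι rfl

lemma sGmap_pbSec (φ : E ⟶ (Scheme.Modules.pushforward p).obj O1) (v : E' ⟶ E.restrict V.ι)
    (G : P.Opens) (hGT : G ≤ p ⁻¹ᵁ V) (U₀ : (V : Scheme.{u}).Opens) (e' : Γ(E', U₀))
    (W : (G : Scheme.{u}).Opens) (hW : W ≤ (p.resLE V G hGT) ⁻¹ᵁ U₀)
    (hW' : W ≤ G.ι ⁻¹ᵁ (p ⁻¹ᵁ (V.ι ''ᵁ U₀))) :
    (sGmap φ v G hGT).app W (pbSec (p.resLE V G hGT) E' hW e') =
      pbSec G.ι O1 hW' (φ.app (V.ι ''ᵁ U₀) (vsec v U₀ e')) := by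
  have e₁ : U₀ ≤ V.ι ⁻¹ᵁ (V.ι ''ᵁ U₀) := (V.ι.preimage_image_eq U₀).ge
  have eW2 : W ≤ (p.resLE V G hGT ≫ V.ι) ⁻¹ᵁ (V.ι ''ᵁ U₀) :=
    hW.trans ((p.resLE V G hGT).preimage_mono e₁)
  have eW3 : W ≤ (G.ι ≫ p) ⁻¹ᵁ (V.ι ''ᵁ U₀) := hW'
  have s1 := pbSec_naturality (p.resLE V G hGT)
    (v ≫ (Scheme.Modules.restrictFunctorIsoPullback V.ι).hom.app E) hW e'
  have s2 : (v ≫ (Scheme.Modules.restrictFunctorIsoPullback V.ι).hom.app E).app U₀ e' =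
      pbSec V.ι E e₁ (vsec v U₀ e') := by
    rw [comp_app_apply, pbSec_restrict V.ι E e₁ _]
    congr 1
    exact (res_self E _ _).symm
  have s3 := pbSec_comp' (p.resLE V G hGT) V.ι E hW e₁ eW2
    (vsec v U₀ e')
  have s4 := pbSec_congr (Scheme.Hom.resLE_comp_ι p hGT) E eW2 eW3
    (vsec v U₀ e')
  have s5 := alpha_app_pbSec φ (G.ι ≫ p) G.ι rfl (V.ι ''ᵁ U₀)
    (vsec v U₀ e') W eW3 hW'
  unfold sGmap
  rw [comp_app_apply, comp_app_apply, comp_app_apply, s1, s2, s3, s4, s5]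

theorem epi_sGmap (hj : RelProj.IsGrSymAlg E 𝒮 j)
    (hO1 : RelProj.IsRelTwist 𝒮 p chart 1 O1 lam)
    (φ : E ⟶ (Scheme.Modules.pushforward p).obj O1)
    (hφ : ∀ (U : Y.Opens) (hU : IsAffineOpen U) (e : Γ(E, U)),
      Groth.Agent.H4.PBLoc.Reads lam U hU (QA.sec j U e) (φ.app U e))
    (v : E' ⟶ E.restrict V.ι) :
    Epi (sGmap φ v (GG' p chart j v) (GG'_le v)) := by
  haveI : O1.IsQuasicoherent := Groth.Agent.H8.RelTilde.relTwist_isQuasicoherent hO1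
  apply epi_of_local_lift
  intro W₀ t z hz
  obtain ⟨U₀, e', hzD⟩ := (mem_GG' v z.1).mp z.2
  have hUa : IsAffineOpen (V.ι ''ᵁ U₀.1) := U₀.2.image_of_isOpenImmersion V.ι
  have hbD := isBasisOver_of_reads hO1 (V.ι ''ᵁ U₀.1) hUa _ (hj.2 _ hUa _)
    (φ.app (V.ι ''ᵁ U₀.1) (vsec v U₀.1 e')) (hφ _ hUa _)
  have hW1D : W₀ ⊓ (GG' p chart j v).ι ⁻¹ᵁ Dp p chart (V.ι ''ᵁ U₀.1) hUa
      (QA.sec j (V.ι ''ᵁ U₀.1) (vsec v U₀.1 e')) ≤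
      (GG' p chart j v).ι ⁻¹ᵁ Dp p chart (V.ι ''ᵁ U₀.1) hUa
      (QA.sec j (V.ι ''ᵁ U₀.1) (vsec v U₀.1 e')) := inf_le_right
  have hbp := hbD.pullback (g := (GG' p chart j v).ι) hW1D
  have hW1big : W₀ ⊓ (GG' p chart j v).ι ⁻¹ᵁ Dp p chart (V.ι ''ᵁ U₀.1) hUa
      (QA.sec j (V.ι ''ᵁ U₀.1) (vsec v U₀.1 e')) ≤
      (GG' p chart j v).ι ⁻¹ᵁ (p ⁻¹ᵁ (V.ι ''ᵁ U₀.1)) :=
    hW1D.trans ((GG' p chart j v).ι.preimage_mono (Dp_le p chart _ hUa _))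
  have h1 := pbSec_res (GG' p chart j v).ι O1 hW1big hW1D le_rfl (Dp_le p chart _ hUa _)
    (φ.app (V.ι ''ᵁ U₀.1) (vsec v U₀.1 e'))
  rw [res_self] at h1
  replace hbp := (congrArg (fun t => IsBasisOver ((Scheme.Modules.pullback (GG' p chart j v).ι).obj O1)
    (W₀ ⊓ (GG' p chart j v).ι ⁻¹ᵁ Dp p chart (V.ι ''ᵁ U₀.1) hUa
      (QA.sec j (V.ι ''ᵁ U₀.1) (vsec v U₀.1 e'))) t) h1).mp hbp
  have hW1p : W₀ ⊓ (GG' p chart j v).ι ⁻¹ᵁ Dp p chart (V.ι ''ᵁ U₀.1) hUa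
      (QA.sec j (V.ι ''ᵁ U₀.1) (vsec v U₀.1 e')) ≤
      (p.resLE V (GG' p chart j v) (GG'_le v)) ⁻¹ᵁ U₀.1 := by
    intro w hw
    have hw1 : p.base ((GG' p chart j v).ι.base w) ∈ V.ι ''ᵁ U₀.1 := hW1big hw
    obtain ⟨y, hy, hyw⟩ := hw1
    have h2 : V.ι.base ((p.resLE V (GG' p chart j v) (GG'_le v)).base w) =
        p.base ((GG' p chart j v).ι.base w) :=
      congrArg (fun t : ((GG' p chart j v : P.Opens) : Scheme.{u}) ⟶ Y => t.base w)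
        (Scheme.Hom.resLE_comp_ι p (GG'_le v))
    have h3 : y = (p.resLE V (GG' p chart j v) (GG'_le v)).base w :=
      V.ι.isOpenEmbedding.injective (hyw.trans h2.symm)
    show (p.resLE V (GG' p chart j v) (GG'_le v)).base w ∈ U₀.1
    rw [← h3]; exact hy
  rw [← sGmap_pbSec φ v (GG' p chart j v) (GG'_le v) U₀.1 e' _ hW1p hW1big] at hbp
  obtain ⟨c, hc⟩ := hbp.exists_coord
    (((Scheme.Modules.pullback (GG' p chart j v).ι).obj O1).presheaf.map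
      (homOfLE (inf_le_left : W₀ ⊓ (GG' p chart j v).ι ⁻¹ᵁ Dp p chart (V.ι ''ᵁ U₀.1) hUa
      (QA.sec j (V.ι ''ᵁ U₀.1) (vsec v U₀.1 e')) ≤ W₀)).op t)
  refine ⟨_, inf_le_left, ⟨hz, hzD⟩,
    c • pbSec (p.resLE V (GG' p chart j v) (GG'_le v)) E' hW1p e', ?_⟩
  refine (Scheme.Modules.Hom.app_smul _ _ _).trans ?_
  exact hc.symm

/-- **local immersion from a local `P(E')`-immersion.** -/
theorem locImm' (hj : RelProj.IsGrSymAlg E 𝒮 j) (hP : RelProj.IsRelProj 𝒮 p chart)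
    (hO1 : RelProj.IsRelTwist 𝒮 p chart 1 O1 lam)
    (φ : E ⟶ (Scheme.Modules.pushforward p).obj O1)
    (hφ : ∀ (U : Y.Opens) (hU : IsAffineOpen U) (e : Γ(E, U)),
      Groth.Agent.H4.PBLoc.Reads lam U hU (QA.sec j U e) (φ.app U e))
    (q : X ⟶ Y) (hL : PicF.IsInvertible L)
    (s : (Scheme.Modules.pullback q).obj E ⟶ L)
    (r : X ⟶ P) (hr : r ≫ p = q) (τ : (Scheme.Modules.pullback r).obj O1 ≅ L)
    (hτ : alpha φ q r hr ≫ τ.hom = s)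
    (hE' : Coh.IsQCoh E')
    (hj' : RelProj.IsGrSymAlg E' 𝒮' j') (hP' : RelProj.IsRelProj 𝒮' p' chart')
    (hO1' : RelProj.IsRelTwist 𝒮' p' chart' 1 O1' lam')
    (φ' : E' ⟶ (Scheme.Modules.pushforward p').obj O1')
    (hφ' : ∀ (U : (V : Scheme.{u}).Opens) (hU : IsAffineOpen U) (e : Γ(E', U)),
      Groth.Agent.H4.PBLoc.Reads lam' U hU (QA.sec j' U e) (φ'.app U e))
    (ι' : ((q ⁻¹ᵁ V : X.Opens) : Scheme.{u}) ⟶ P') (hι' : ι' ≫ p' = q ∣_ V) [IsImmersion ι']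
    (θ' : (Scheme.Modules.pullback ι').obj O1' ≅ L.restrict (q ⁻¹ᵁ V).ι)
    (v : E' ⟶ E.restrict V.ι)
    (hv : ∀ (U₀ : (V : Scheme.{u}).Opens) (hU₀ : IsAffineOpen U₀) (e' : Γ(E', U₀))
      (hle : (q ⁻¹ᵁ V).ι ''ᵁ ((q ∣_ V) ⁻¹ᵁ U₀) ≤ q ⁻¹ᵁ (V.ι ''ᵁ U₀)),
      L.presheaf.map (homOfLE hle).op
          (sig q s (V.ι ''ᵁ U₀) (vsec v U₀ e')) =
        (show Γ(L, (q ⁻¹ᵁ V).ι ''ᵁ ((q ∣_ V) ⁻¹ᵁ U₀)) from
          sig (q ∣_ V) (alpha φ' (q ∣_ V) ι' hι' ≫ θ'.hom) U₀ e')) :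
    IsImmersion (r ∣_ (p ⁻¹ᵁ V)) := by
  classical
  have he := le_preimage_GG' hj hO1 φ hφ q s r hr τ hτ hj' hO1' φ' hφ' ι' hι' θ' v hv
  subst hr
  haveI : O1.IsQuasicoherent := Groth.Agent.H8.RelTilde.relTwist_isQuasicoherent hO1
  haveI : O1'.IsQuasicoherent := Groth.Agent.H8.RelTilde.relTwist_isQuasicoherent hO1'
  have hgen : 𝒮.IsGenDegOne := genDegOne_of_isGrSymAlg hj
  have hO1inv : PicF.IsInvertible O1 := relTwist_isInvertible hgen hO1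
  have hGT : GG' p chart j v ≤ p ⁻¹ᵁ V := GG'_le v
  have hN : PicF.IsInvertible ((Scheme.Modules.pullback (GG' p chart j v).ι).obj O1) :=
    isInvertible_pullback (g := (GG' p chart j v).ι) hO1inv
  have hepi := epi_sGmap hj hO1 φ hφ v
  obtain ⟨h, ⟨hh, τh, hτh⟩, -⟩ := Groth.Agent.H4.PBEx4.main E' hE' 𝒮' j' hj' p' chart' hP' O1' lam' hO1'
    φ' (fun U hU e y => hφ' U hU e y)
    (p.resLE V (GG' p chart j v) hGT) ((Scheme.Modules.pullback (GG' p chart j v).ι).obj O1) hN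
    (sGmap φ v (GG' p chart j v) hGT) hepi
  have hτh' : alpha φ' (p.resLE V (GG' p chart j v) hGT) h hh ≫ τh.hom =
      sGmap φ v (GG' p chart j v) hGT := by
    rw [← hτh]
    unfold alpha
    simp only [Category.assoc]
  have hrV : r.resLE (GG' p chart j v) ((r ≫ p) ⁻¹ᵁ V) he ≫ (GG' p chart j v).ι =
      ((r ≫ p) ⁻¹ᵁ V).ι ≫ r := Scheme.Hom.resLE_comp_ι r he
  have hpG : p.resLE V (GG' p chart j v) hGT ≫ V.ι = (GG' p chart j v).ι ≫ p :=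
    Scheme.Hom.resLE_comp_ι p hGT
  -- the comparison isomorphism
  let κ : (Scheme.Modules.pullback (r.resLE (GG' p chart j v) ((r ≫ p) ⁻¹ᵁ V) he)).obj
      ((Scheme.Modules.pullback (GG' p chart j v).ι).obj O1) ≅
      L.restrict ((r ≫ p) ⁻¹ᵁ V).ι :=
    (Scheme.Modules.pullbackComp (r.resLE (GG' p chart j v) ((r ≫ p) ⁻¹ᵁ V) he)
      (GG' p chart j v).ι).app O1 ≪≫
    (Scheme.Modules.pullbackCongr hrV).app O1 ≪≫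
    ((Scheme.Modules.pullbackComp ((r ≫ p) ⁻¹ᵁ V).ι r).app O1).symm ≪≫
    (Scheme.Modules.pullback ((r ≫ p) ⁻¹ᵁ V).ι).mapIso τ ≪≫
    ((Scheme.Modules.restrictFunctorIsoPullback ((r ≫ p) ⁻¹ᵁ V).ι).app L).symm
  have hr' : (r.resLE (GG' p chart j v) ((r ≫ p) ⁻¹ᵁ V) he ≫ h) ≫ p' = ι' ≫ p' := by
    rw [hι', Category.assoc, hh, ← cancel_mono V.ι, Category.assoc, hpG, ← Category.assoc, hrV,
      morphismRestrict_ι, Category.assoc]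
  let θ₁ : (Scheme.Modules.pullback (r.resLE (GG' p chart j v) ((r ≫ p) ⁻¹ᵁ V) he ≫ h)).obj O1' ≅
      L.restrict ((r ≫ p) ⁻¹ᵁ V).ι :=
    ((Scheme.Modules.pullbackComp (r.resLE (GG' p chart j v) ((r ≫ p) ⁻¹ᵁ V) he) h).app O1').symm ≪≫
    (Scheme.Modules.pullback (r.resLE (GG' p chart j v) ((r ≫ p) ⁻¹ᵁ V) he)).mapIso τh ≪≫ κ
  have key : r.resLE (GG' p chart j v) ((r ≫ p) ⁻¹ᵁ V) he ≫ h = ι' := by
    refine hom_eq_of_lsec hj' hP' hO1' (fun U₀ e => φ'.app U₀ e) hφ'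
      (r.resLE (GG' p chart j v) ((r ≫ p) ⁻¹ᵁ V) he ≫ h) ι' hr' θ₁ θ' ?_
    intro U₀ hU₀ e' W h₁ h₂
    have hle : ((r ≫ p) ⁻¹ᵁ V).ι ''ᵁ (((r ≫ p) ∣_ V) ⁻¹ᵁ U₀) ≤ (r ≫ p) ⁻¹ᵁ (V.ι ''ᵁ U₀) :=
      (image_morphismRestrict_preimage (r ≫ p) V U₀).le
    have hWq : W ≤ ((r ≫ p) ∣_ V) ⁻¹ᵁ U₀ := by
      rw [← hι']; exact h₂
    have hWX : ((r ≫ p) ⁻¹ᵁ V).ι ''ᵁ W ≤ (r ≫ p) ⁻¹ᵁ (V.ι ''ᵁ U₀) :=
      (Scheme.Hom.image_mono _ hWq).trans hle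
    have hWX' : ((r ≫ p) ⁻¹ᵁ V).ι ''ᵁ W ≤ r ⁻¹ᵁ (p ⁻¹ᵁ (V.ι ''ᵁ U₀)) := hWX
    -- the common value
    have hR : (L.restrict ((r ≫ p) ⁻¹ᵁ V).ι).presheaf.map (homOfLE h₂).op
        (lsec ι' θ' U₀ (φ'.app U₀ e')) =
        (show Γ(L.restrict ((r ≫ p) ⁻¹ᵁ V).ι, W) from
          L.presheaf.map (homOfLE hWX).op (sig (r ≫ p) s (V.ι ''ᵁ U₀) (vsec v U₀ e'))) := by
      have R1 := lsec_res_eq_sig φ' ((r ≫ p) ∣_ V) (alpha φ' ((r ≫ p) ∣_ V) ι' hι' ≫ θ'.hom) ι' hι'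
        θ' rfl U₀ e' W hWq h₂
      refine R1.trans ?_
      have R2 := restrict_res ((r ≫ p) ⁻¹ᵁ V).ι L hWq
        (show Γ(L, ((r ≫ p) ⁻¹ᵁ V).ι ''ᵁ (((r ≫ p) ∣_ V) ⁻¹ᵁ U₀)) from
          sig ((r ≫ p) ∣_ V) (alpha φ' ((r ≫ p) ∣_ V) ι' hι' ≫ θ'.hom) U₀ e')
      refine R2.trans ?_
      rw [← hv U₀ hU₀ e' hle, res_res]
    refine Eq.trans ?_ hR.symm
    refine (lsec_res' (r.resLE (GG' p chart j v) ((r ≫ p) ⁻¹ᵁ V) he ≫ h) θ₁ U₀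
      (φ'.app U₀ e') W h₁).trans ?_
    have hθ₁def : θ₁.hom =
        (Scheme.Modules.pullbackComp (r.resLE (GG' p chart j v) ((r ≫ p) ⁻¹ᵁ V) he) h).inv.app O1' ≫
        (Scheme.Modules.pullback (r.resLE (GG' p chart j v) ((r ≫ p) ⁻¹ᵁ V) he)).map τh.hom ≫
        κ.hom := rfl
    have hκdef : κ.hom =
        (Scheme.Modules.pullbackComp (r.resLE (GG' p chart j v) ((r ≫ p) ⁻¹ᵁ V) he)
          (GG' p chart j v).ι).hom.app O1 ≫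
        (Scheme.Modules.pullbackCongr hrV).hom.app O1 ≫
        (Scheme.Modules.pullbackComp ((r ≫ p) ⁻¹ᵁ V).ι r).inv.app O1 ≫
        (Scheme.Modules.pullback ((r ≫ p) ⁻¹ᵁ V).ι).map τ.hom ≫
        (Scheme.Modules.restrictFunctorIsoPullback ((r ≫ p) ⁻¹ᵁ V).ι).inv.app L := rfl
    have eW : W ≤ r.resLE (GG' p chart j v) ((r ≫ p) ⁻¹ᵁ V) he ⁻¹ᵁ (h ⁻¹ᵁ (p' ⁻¹ᵁ U₀)) := h₁
    have c1 := pbSec_comp (r.resLE (GG' p chart j v) ((r ≫ p) ⁻¹ᵁ V) he) h O1' eW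
      (le_refl (h ⁻¹ᵁ (p' ⁻¹ᵁ U₀))) h₁ (φ'.app U₀ e')
    have c2 := pbSec_naturality (r.resLE (GG' p chart j v) ((r ≫ p) ⁻¹ᵁ V) he) τh.hom eW
      (pbSec h O1' (le_refl (h ⁻¹ᵁ (p' ⁻¹ᵁ U₀))) (φ'.app U₀ e'))
    have hTp : h ⁻¹ᵁ (p' ⁻¹ᵁ U₀) ≤ (p.resLE V (GG' p chart j v) hGT) ⁻¹ᵁ U₀ := by
      rw [← hh]; exact le_rfl
    have hTbig : h ⁻¹ᵁ (p' ⁻¹ᵁ U₀) ≤ (GG' p chart j v).ι ⁻¹ᵁ (p ⁻¹ᵁ (V.ι ''ᵁ U₀)) := by
      intro w hw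
      have h2 : V.ι.base ((p.resLE V (GG' p chart j v) hGT).base w) =
          p.base ((GG' p chart j v).ι.base w) :=
        congrArg (fun t : ((GG' p chart j v : P.Opens) : Scheme.{u}) ⟶ Y => t.base w) hpG
      show p.base ((GG' p chart j v).ι.base w) ∈ V.ι ''ᵁ U₀
      rw [← h2]
      exact ⟨_, hTp hw, rfl⟩
    have c3 : τh.hom.app (h ⁻¹ᵁ (p' ⁻¹ᵁ U₀))
        (pbSec h O1' (le_refl (h ⁻¹ᵁ (p' ⁻¹ᵁ U₀))) (φ'.app U₀ e')) =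
        pbSec (GG' p chart j v).ι O1 hTbig (φ.app (V.ι ''ᵁ U₀) (vsec v U₀ e')) := by
      have a1 := alpha_app_pbSec φ' (p.resLE V (GG' p chart j v) hGT) h hh U₀ e' _ hTp
        (le_refl (h ⁻¹ᵁ (p' ⁻¹ᵁ U₀)))
      rw [← a1]
      have a2 := congrArg (fun t : (Scheme.Modules.pullback (p.resLE V (GG' p chart j v) hGT)).obj E' ⟶
          (Scheme.Modules.pullback (GG' p chart j v).ι).obj O1 =>
        t.app (h ⁻¹ᵁ (p' ⁻¹ᵁ U₀)) (pbSec (p.resLE V (GG' p chart j v) hGT) E' hTp e')) hτh'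
      exact a2.trans (sGmap_pbSec φ v (GG' p chart j v) hGT U₀ e' _ hTp hTbig)
    have eWV : W ≤ (r.resLE (GG' p chart j v) ((r ≫ p) ⁻¹ᵁ V) he ≫ (GG' p chart j v).ι) ⁻¹ᵁ
        (p ⁻¹ᵁ (V.ι ''ᵁ U₀)) :=
      eW.trans ((r.resLE (GG' p chart j v) ((r ≫ p) ⁻¹ᵁ V) he).preimage_mono hTbig)
    have eWV' : W ≤ (((r ≫ p) ⁻¹ᵁ V).ι ≫ r) ⁻¹ᵁ (p ⁻¹ᵁ (V.ι ''ᵁ U₀)) := by
      rw [← hrV]; exact eWV
    have eWT' : W ≤ ((r ≫ p) ⁻¹ᵁ V).ι ⁻¹ᵁ (r ⁻¹ᵁ (p ⁻¹ᵁ (V.ι ''ᵁ U₀))) := eWV'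
    have k1 := pbSec_comp' (r.resLE (GG' p chart j v) ((r ≫ p) ⁻¹ᵁ V) he) (GG' p chart j v).ι O1
      eW hTbig eWV (φ.app (V.ι ''ᵁ U₀) (vsec v U₀ e'))
    have k2 := pbSec_congr hrV O1 eWV eWV' (φ.app (V.ι ''ᵁ U₀) (vsec v U₀ e'))
    have k3 := pbSec_comp ((r ≫ p) ⁻¹ᵁ V).ι r O1 eWT' (le_refl (r ⁻¹ᵁ (p ⁻¹ᵁ (V.ι ''ᵁ U₀)))) eWV'
      (φ.app (V.ι ''ᵁ U₀) (vsec v U₀ e'))
    have k4 := pbSec_naturality ((r ≫ p) ⁻¹ᵁ V).ι τ.hom eWT'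
      (pbSec r O1 (le_refl (r ⁻¹ᵁ (p ⁻¹ᵁ (V.ι ''ᵁ U₀)))) (φ.app (V.ι ''ᵁ U₀) (vsec v U₀ e')))
    have k5 : τ.hom.app (r ⁻¹ᵁ (p ⁻¹ᵁ (V.ι ''ᵁ U₀)))
        (pbSec r O1 (le_refl (r ⁻¹ᵁ (p ⁻¹ᵁ (V.ι ''ᵁ U₀)))) (φ.app (V.ι ''ᵁ U₀) (vsec v U₀ e'))) =
        lsec r τ (V.ι ''ᵁ U₀) (φ.app (V.ι ''ᵁ U₀) (vsec v U₀ e')) := rfl
    have k6 := pbSec_restrict ((r ≫ p) ⁻¹ᵁ V).ι L eWT'
      (lsec r τ (V.ι ''ᵁ U₀) (φ.app (V.ι ''ᵁ U₀) (vsec v U₀ e')))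
    have k7 := lsec_res_eq_sig φ (r ≫ p) s r rfl τ hτ (V.ι ''ᵁ U₀) (vsec v U₀ e') _ hWX hWX'
    rw [hθ₁def, comp_app_apply, comp_app_apply, c1, c2, c3, hκdef, comp_app_apply, comp_app_apply,
      comp_app_apply, comp_app_apply, k1, k2, k3, k4, k5, k6]
    have h7 := congrArg (fun ψ : L.restrict ((r ≫ p) ⁻¹ᵁ V).ι ⟶ L.restrict ((r ≫ p) ⁻¹ᵁ V).ι =>
      ψ.app W (show Γ(L.restrict ((r ≫ p) ⁻¹ᵁ V).ι, W) from
        L.presheaf.map (homOfLE (image_le_of_le_preimage ((r ≫ p) ⁻¹ᵁ V).ι eWT')).op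
          (lsec r τ (V.ι ''ᵁ U₀) (φ.app (V.ι ''ᵁ U₀) (vsec v U₀ e')))))
      ((Scheme.Modules.restrictFunctorIsoPullback ((r ≫ p) ⁻¹ᵁ V).ι).app L).hom_inv_id
    refine h7.trans ?_
    exact k7
  haveI : IsImmersion (r.resLE (GG' p chart j v) ((r ≫ p) ⁻¹ᵁ V) he ≫ h) := by
    rw [key]; infer_instance
  haveI : IsImmersion (r.resLE (GG' p chart j v) ((r ≫ p) ⁻¹ᵁ V) he) :=
    IsImmersion.of_comp _ h
  have h2 : (r ∣_ (p ⁻¹ᵁ V)) ≫ (p ⁻¹ᵁ V).ι =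
      r.resLE (GG' p chart j v) ((r ≫ p) ⁻¹ᵁ V) he ≫ (GG' p chart j v).ι := by
    rw [morphismRestrict_ι, hrV]
    rfl
  haveI : IsImmersion ((r ∣_ (p ⁻¹ᵁ V)) ≫ (p ⁻¹ᵁ V).ι) := by
    rw [h2]
    exact (inferInstance : IsImmersion (r.resLE (GG' p chart j v) ((r ≫ p) ⁻¹ᵁ V) he ≫
      (GG' p chart j v).ι))
  exact IsImmersion.of_comp _ (p ⁻¹ᵁ V).ι


lemma restrict_smul {X U' : Scheme.{u}} (f : U' ⟶ X) [IsOpenImmersion f] (M : X.Modules)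
    (W : U'.Opens) (r : Γ(U', W)) (x : Γ(M.restrict f, W)) :
    r • x = (show Γ(M.restrict f, W) from
      ((f.appIso W).inv.hom r) • (show Γ(M, f ''ᵁ W) from x)) := rfl

lemma restrict_ι_smul {X : Scheme.{u}} (U : X.Opens) (M : X.Modules)
    (W : (U : Scheme.{u}).Opens) (r : Γ((U : Scheme.{u}), W)) (x : Γ(M.restrict U.ι, W)) :
    r • x = (show Γ(M.restrict U.ι, W) from
      (show Γ(X, U.ι ''ᵁ W) from r) • (show Γ(M, U.ι ''ᵁ W) from x)) := by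
  rw [restrict_smul]
  have h : (U.ι.appIso W).inv = 𝟙 _ := by
    rw [Scheme.Opens.ι_appIso]; rfl
  rw [h]
  rfl

section VMap

variable {X Y : Scheme.{u}} (q : X ⟶ Y) (L : X.Modules) (V : Y.Opens)
  {E' : (V : Scheme.{u}).Modules}
  (s' : (Scheme.Modules.pullback (q ∣_ V)).obj E' ⟶ L.restrict (q ⁻¹ᵁ V).ι)

/-- the section of `q_* L` over `V.ι '' U₀` attached to a section of `E'` over `U₀`. -/
def vfun (U₀ : (V : Scheme.{u}).Opens) (e' : Γ(E', U₀)) : Γ(L, q ⁻¹ᵁ (V.ι ''ᵁ U₀)) :=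
  L.presheaf.map (homOfLE (image_morphismRestrict_preimage q V U₀).ge).op
    (show Γ(L, (q ⁻¹ᵁ V).ι ''ᵁ ((q ∣_ V) ⁻¹ᵁ U₀)) from sig (q ∣_ V) s' U₀ e')

lemma vfun_add (U₀ : (V : Scheme.{u}).Opens) (e₁ e₂ : Γ(E', U₀)) :
    vfun q L V s' U₀ (e₁ + e₂) = vfun q L V s' U₀ e₁ + vfun q L V s' U₀ e₂ := by
  unfold vfun
  rw [sig_add]
  exact map_add _ _ _

lemma vfun_res (U₀ U₁ : (V : Scheme.{u}).Opens) (h : U₁ ≤ U₀) (e' : Γ(E', U₀)) :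
    vfun q L V s' U₁ (E'.presheaf.map (homOfLE h).op e') =
      L.presheaf.map (homOfLE (q.preimage_mono (V.ι.image_mono h))).op (vfun q L V s' U₀ e') := by
  unfold vfun
  rw [sig_res (q ∣_ V) s' U₀ U₁ h e']
  have h1 := restrict_res (q ⁻¹ᵁ V).ι L ((q ∣_ V).preimage_mono h)
    (show Γ(L, (q ⁻¹ᵁ V).ι ''ᵁ ((q ∣_ V) ⁻¹ᵁ U₀)) from sig (q ∣_ V) s' U₀ e')
  refine (congrArg (L.presheaf.map (homOfLE (image_morphismRestrict_preimage q V U₁).ge).op)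
    h1).trans ?_
  exact (res_res L _ _ _).trans (res_res L _ _ _).symm

lemma vfun_smul (U₀ : (V : Scheme.{u}).Opens) (a : Γ((V : Scheme.{u}), U₀)) (e' : Γ(E', U₀)) :
    vfun q L V s' U₀ (a • e') =
      (q.app (V.ι ''ᵁ U₀)).hom a • vfun q L V s' U₀ e' := by
  unfold vfun
  rw [sig_smul (q ∣_ V) s' U₀ a e']
  have h1 : ((q ∣_ V).app U₀).hom a • sig (q ∣_ V) s' U₀ e' =
      (show Γ(L.restrict (q ⁻¹ᵁ V).ι, (q ∣_ V) ⁻¹ᵁ U₀) from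
        (show Γ(X, (q ⁻¹ᵁ V).ι ''ᵁ ((q ∣_ V) ⁻¹ᵁ U₀)) from ((q ∣_ V).app U₀).hom a) •
        (show Γ(L, (q ⁻¹ᵁ V).ι ''ᵁ ((q ∣_ V) ⁻¹ᵁ U₀)) from sig (q ∣_ V) s' U₀ e')) := by
    exact restrict_ι_smul (q ⁻¹ᵁ V) L _ _ _
  rw [h1]
  refine (Scheme.Modules.map_smul L _ _ _).trans ?_
  congr 1
  have h2 := morphismRestrict_app q V U₀
  rw [h2]
  change (X.presheaf.map _).hom ((X.presheaf.map _).hom ((q.app (V.ι ''ᵁ U₀)).hom a)) = _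
  rw [← CommRingCat.comp_apply, ← Functor.map_comp]
  exact congrArg (fun t => (CommRingCat.Hom.hom t) ((q.app (V.ι ''ᵁ U₀)).hom a))
    (X.presheaf.map_id _)

/-- the comparison morphism `E' ⟶ (q_* L)|_V`. -/
def vmap : E' ⟶ ((Scheme.Modules.pushforward q).obj L).restrict V.ι :=
  homOfAffine E' (((Scheme.Modules.pushforward q).obj L).restrict V.ι)
    (fun U₀ =>
      { toFun := fun e' => (show Γ(((Scheme.Modules.pushforward q).obj L).restrict V.ι, U₀.1) from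
          vfun q L V s' U₀.1 e')
        map_add' := fun e₁ e₂ => vfun_add q L V s' U₀.1 e₁ e₂
        map_smul' := fun a e' => by
          dsimp only [RingHom.id_apply]
          rw [vfun_smul]
          refine Eq.symm ((restrict_ι_smul V ((Scheme.Modules.pushforward q).obj L) U₀.1 a _).trans ?_)
          rfl })
    (by
      intro U₀ U₁ h e'
      change _ = (show Γ(((Scheme.Modules.pushforward q).obj L).restrict V.ι, U₁.1) from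
          vfun q L V s' U₁.1 (E'.presheaf.map (homOfLE h).op e'))
      rw [vfun_res q L V s' U₀.1 U₁.1 h e']
      rfl)

lemma vmap_app (U₀ : (V : Scheme.{u}).Opens) (hU₀ : IsAffineOpen U₀) (e' : Γ(E', U₀)) :
    (vmap q L V s').app U₀ e' =
      (show Γ(((Scheme.Modules.pushforward q).obj L).restrict V.ι, U₀) from
        vfun q L V s' U₀ e') :=
  homOfAffine_app _ _ _ _ ⟨U₀, hU₀⟩ e'

end VMap

section Main

/-- **very ampleness is local on the base** (the converse direction). -/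
theorem main_rev {X Y : Scheme.{u}} (q : X ⟶ Y) [QuasiCompact q] (L : X.Modules)
    (hLinv : PicF.IsInvertible L) {ι : Type u} (U : ι → Y.Opens) (hU : ⨆ i, U i = ⊤)
    (h : ∀ i, RelProj.IsRelVeryAmple (q ∣_ (U i)) (L.restrict (q ⁻¹ᵁ (U i)).ι)) :
    RelProj.IsRelVeryAmple q L := by
  classical
  haveI hLq : L.IsQuasicoherent := qc_of_isInvertible L hLinv
  choose E' hE' 𝒮' j' hj' P' p' chart' hP' O1' lam' hO1' ι' himm hι' θ' using h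
  haveI hE'q : ∀ i, (E' i).IsQuasicoherent := hE'
  have hLj : ∀ i, PicF.IsInvertible (L.restrict (q ⁻¹ᵁ U i).ι) := fun i =>
    isInvertible_restrict (q ⁻¹ᵁ U i).ι hLinv
  -- `q` is separated
  haveI hsep : IsSeparated q := by
    apply IsZariskiLocalAtTarget.of_iSup_eq_top (P := @IsSeparated) U hU
    intro i
    haveI := himm i
    have h1 : IsSeparated (ι' i) := inferInstance
    have h2 : IsSeparated (p' i) := Groth.Agent.S8259.result (𝒮' i) (p' i) (chart' i) (hP' i)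
    rw [← hι' i]
    exact MorphismProperty.comp_mem (@IsSeparated) (ι' i) _ h1 h2
  haveI : QuasiSeparated q := inferInstance
  haveI hEq : ((Scheme.Modules.pushforward q).obj L).IsQuasicoherent := qc_pushforward q L
  have hφ' := fun i => phi_reads (hP' i) (hO1' i) (j' i) (hj' i).2
  -- the local epimorphisms
  have hs'epi : ∀ i, Epi (alpha (phi (hP' i) (hO1' i) (j' i) (hj' i).2) (q ∣_ U i) (ι' i) (hι' i) ≫
      (θ' i).some.symm.hom) := by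
    intro i
    haveI := epi_alpha (hE' i) (hj' i) (hP' i) (hO1' i) (phi (hP' i) (hO1' i) (j' i) (hj' i).2)
      (fun U hU e => hφ' i U hU e) (q ∣_ U i) (ι' i) (hι' i)
    exact epi_comp _ _
  -- the compatibility of `v`
  have hv : ∀ i (U₀ : ((U i : Y.Opens) : Scheme.{u}).Opens) (hU₀ : IsAffineOpen U₀)
      (e' : Γ(E' i, U₀))
      (hle : (q ⁻¹ᵁ U i).ι ''ᵁ ((q ∣_ U i) ⁻¹ᵁ U₀) ≤ q ⁻¹ᵁ ((U i).ι ''ᵁ U₀)),
      L.presheaf.map (homOfLE hle).op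
          (sig q ((Scheme.Modules.pullbackPushforwardAdjunction q).counit.app L) ((U i).ι ''ᵁ U₀)
            (vsec (vmap q L (U i) (alpha (phi (hP' i) (hO1' i) (j' i) (hj' i).2) (q ∣_ U i)
              (ι' i) (hι' i) ≫ (θ' i).some.symm.hom)) U₀ e')) =
        (show Γ(L, (q ⁻¹ᵁ U i).ι ''ᵁ ((q ∣_ U i) ⁻¹ᵁ U₀)) from
          sig (q ∣_ U i) (alpha (phi (hP' i) (hO1' i) (j' i) (hj' i).2) (q ∣_ U i)
              (ι' i) (hι' i) ≫ (θ' i).some.symm.hom) U₀ e') := by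
    intro i U₀ hU₀ e' hle
    have h1 : vsec (vmap q L (U i) (alpha (phi (hP' i) (hO1' i) (j' i) (hj' i).2) (q ∣_ U i)
        (ι' i) (hι' i) ≫ (θ' i).some.symm.hom)) U₀ e' =
        (show Γ((Scheme.Modules.pushforward q).obj L, (U i).ι ''ᵁ U₀) from
          vfun q L (U i) (alpha (phi (hP' i) (hO1' i) (j' i) (hj' i).2) (q ∣_ U i)
            (ι' i) (hι' i) ≫ (θ' i).some.symm.hom) U₀ e') :=
      vmap_app q L (U i) _ U₀ hU₀ e'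
    rw [h1]
    have h2 := sig_counit q L ((U i).ι ''ᵁ U₀)
      (vfun q L (U i) (alpha (phi (hP' i) (hO1' i) (j' i) (hj' i).2) (q ∣_ U i)
            (ι' i) (hι' i) ≫ (θ' i).some.symm.hom) U₀ e')
    refine (congrArg (L.presheaf.map (homOfLE hle).op) h2).trans ?_
    unfold vfun
    exact (res_res L _ _ _).trans (res_self L _ _)
  -- the counit is an epimorphism
  haveI hσepi : Epi ((Scheme.Modules.pullbackPushforwardAdjunction q).counit.app L) := by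
    apply epi_of_local_lift
    intro V₀ t x hx
    have hxS : q.base x ∈ (⨆ i, U i) := by rw [hU]; trivial
    obtain ⟨i, hxi⟩ := Opens.mem_iSup.mp hxS
    haveI := hs'epi i
    obtain ⟨U₀, hU₀, hxU₀, -⟩ := Opens.isBasis_iff_nbhd.mp
      ((U i : Y.Opens) : Scheme.{u}).isBasis_affineOpens
      (show (q ∣_ U i).base (⟨x, hxi⟩ : ↥(q ⁻¹ᵁ U i)) ∈
        (⊤ : ((U i : Y.Opens) : Scheme.{u}).Opens) from trivial)
    replace hU₀ : IsAffineOpen U₀ := hU₀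
    obtain ⟨e, V₁, hV₁, hV₁U, hxV₁, hb⟩ := exists_basis_of_epi (q ∣_ U i)
      (s := alpha (phi (hP' i) (hO1' i) (j' i) (hj' i).2) (q ∣_ U i) (ι' i) (hι' i) ≫
        (θ' i).some.symm.hom) (hLj i) (⟨x, hxi⟩ : ↥(q ⁻¹ᵁ U i)) U₀ hU₀ hxU₀
    have hle : (q ⁻¹ᵁ U i).ι ''ᵁ ((q ∣_ U i) ⁻¹ᵁ U₀) ≤ q ⁻¹ᵁ ((U i).ι ''ᵁ U₀) :=
      (image_morphismRestrict_preimage q (U i) U₀).le
    have hres := restrict_res (q ⁻¹ᵁ U i).ι L hV₁U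
      (show Γ(L, (q ⁻¹ᵁ U i).ι ''ᵁ ((q ∣_ U i) ⁻¹ᵁ U₀)) from
        sig (q ∣_ U i) (alpha (phi (hP' i) (hO1' i) (j' i) (hj' i).2) (q ∣_ U i) (ι' i) (hι' i) ≫
          (θ' i).some.symm.hom) U₀ e)
    have hb₂ := (isBasisOver_restrict_iff' (q ⁻¹ᵁ U i).ι L _ _ _ hres).mp hb
    rw [← hv i U₀ hU₀ e hle, res_res] at hb₂
    have hxW' : x ∈ (q ⁻¹ᵁ U i).ι ''ᵁ V₁ := ⟨⟨x, hxi⟩, hxV₁, rfl⟩
    have hVW : V₀ ⊓ (q ⁻¹ᵁ U i).ι ''ᵁ V₁ ≤ (q ⁻¹ᵁ U i).ι ''ᵁ V₁ := inf_le_right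
    have hVV : V₀ ⊓ (q ⁻¹ᵁ U i).ι ''ᵁ V₁ ≤ V₀ := inf_le_left
    have b := hb₂.mono hVW
    rw [res_res] at b
    obtain ⟨c, hc⟩ := b.exists_coord (L.presheaf.map (homOfLE hVV).op t)
    have hWbig : V₀ ⊓ (q ⁻¹ᵁ U i).ι ''ᵁ V₁ ≤ q ⁻¹ᵁ ((U i).ι ''ᵁ U₀) :=
      hVW.trans ((Scheme.Hom.image_mono _ hV₁U).trans hle)
    refine ⟨V₀ ⊓ (q ⁻¹ᵁ U i).ι ''ᵁ V₁, hVV, ⟨hx, hxW'⟩,
      c • pbSec q ((Scheme.Modules.pushforward q).obj L) hWbig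
        (vsec (vmap q L (U i) (alpha (phi (hP' i) (hO1' i) (j' i) (hj' i).2) (q ∣_ U i)
              (ι' i) (hι' i) ≫ (θ' i).some.symm.hom)) U₀ e), ?_⟩
    refine (Scheme.Modules.Hom.app_smul _ _ _).trans ?_
    refine Eq.trans ?_ hc.symm
    congr 1
    refine (sig_res' q ((Scheme.Modules.pullbackPushforwardAdjunction q).counit.app L)
      ((U i).ι ''ᵁ U₀) _ _ hWbig).symm
  -- the projective bundle of `q_* L`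
  obtain ⟨P, p, chart, hP⟩ :=
    Groth.Agent.S8258.result (symGrAlg ((Scheme.Modules.pushforward q).obj L))
  obtain ⟨O1, lam, hO1⟩ :=
    Groth.Agent.S8284.result (symGrAlg ((Scheme.Modules.pushforward q).obj L)) p chart hP 1
  have hk := isGrSymAlg ((Scheme.Modules.pushforward q).obj L)
  have hφ := phi_reads hP hO1 (symJ ((Scheme.Modules.pushforward q).obj L)) hk.2
  obtain ⟨r, ⟨hr, τ, hτ⟩, -⟩ := Groth.Agent.H4.PBEx4.main ((Scheme.Modules.pushforward q).obj L)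
    hEq (symGrAlg _) (symJ _) hk p chart hP O1 lam hO1
    (phi hP hO1 (symJ ((Scheme.Modules.pushforward q).obj L)) hk.2) hφ q L hLinv
    ((Scheme.Modules.pullbackPushforwardAdjunction q).counit.app L) hσepi
  have hτa : alpha (phi hP hO1 (symJ ((Scheme.Modules.pushforward q).obj L)) hk.2) q r hr ≫ τ.hom =
      (Scheme.Modules.pullbackPushforwardAdjunction q).counit.app L := by
    rw [← hτ]
    unfold alpha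
    simp only [Category.assoc]
  refine ⟨_, hEq, symGrAlg _, symJ _, hk, P, p, chart, hP, O1, lam, hO1, r, ?_, hr, ⟨τ.symm⟩⟩
  apply IsZariskiLocalAtTarget.of_iSup_eq_top (P := @IsImmersion) (fun i => p ⁻¹ᵁ U i)
  · rw [← Scheme.Hom.preimage_iSup, hU]
    rfl
  · intro i
    haveI := himm i
    exact locImm' hk hP hO1 (phi hP hO1 (symJ ((Scheme.Modules.pushforward q).obj L)) hk.2)
      (fun U hU e => hφ U hU e) q hLinv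
      ((Scheme.Modules.pullbackPushforwardAdjunction q).counit.app L) r hr τ hτa
      (hE' i) (hj' i) (hP' i) (hO1' i) (phi (hP' i) (hO1' i) (j' i) (hj' i).2)
      (fun U hU e => hφ' i U hU e) (ι' i) (hι' i) (θ' i).some.symm
      (vmap q L (U i) (alpha (phi (hP' i) (hO1' i) (j' i) (hj' i).2) (q ∣_ U i)
              (ι' i) (hι' i) ≫ (θ' i).some.symm.hom)) (hv i)

end Main

end

end Groth.Agent.H4.VALocPE
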