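import Mathlib
import Groth.Agent.H4.PullO1
import Groth.Agent.H4.SymPull
import Groth.Agent.S8258
import Groth.Agent.S8284
import Groth.Agent.Lib.Lead.QC.Pullback

set_option autoImplicit false
set_option linter.unusedSectionVars false
set_option linter.unusedVariables false
set_option linter.style.haveILetI false
universe u
open CategoryTheory CategoryTheory.Limits AlgebraicGeometry TopologicalSpace Opposite

namespace Groth.Agent.H4.VAmpleBC
noncomputable section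
open Groth.Agent.LD.QC Groth.Agent.H4.PBundle Groth.Agent.H4.PBundle2 Groth.Agent.H6.Sym Groth.Agent.H6

/-- **base change of a projective bundle with its `O(1)`**. -/
theorem exists_bundle_bc {Y Y' P : Scheme.{u}} (g : Y' ⟶ Y) (E : Y.Modules) (hE : Coh.IsQCoh E)
    (𝒮 : RelProj.QCGrAlg Y) (j : E ⟶ 𝒮.toModule) (hj : RelProj.IsGrSymAlg E 𝒮 j) (p : P ⟶ Y)
    (chart : ∀ (U : Y.Opens) (hU : IsAffineOpen U), ((p ⁻¹ᵁ U : P.Opens) : Scheme.{u}) ≅ Proj (𝒮.deg U hU))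
    (hP : RelProj.IsRelProj 𝒮 p chart) (O1 : P.Modules)
    (lam : ∀ (U : Y.Opens) (hU : IsAffineOpen U),
      O1 ⟶ (Scheme.Modules.pushforward (RelProj.emb p chart U hU)).obj (GrTwist.twist (𝒮.deg U hU) 1))
    (hO1 : RelProj.IsRelTwist 𝒮 p chart 1 O1 lam) :
    ∃ (E' : Y'.Modules) (_ : Coh.IsQCoh E') (𝒮' : RelProj.QCGrAlg Y') (j' : E' ⟶ 𝒮'.toModule)
      (_ : RelProj.IsGrSymAlg E' 𝒮' j') (P' : Scheme.{u}) (p' : P' ⟶ Y')
      (chart' : ∀ (U : Y'.Opens) (hU : IsAffineOpen U),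
        (((p' ⁻¹ᵁ U : P'.Opens) : Scheme.{u}) ≅ Proj (𝒮'.deg U hU)))
      (_ : RelProj.IsRelProj 𝒮' p' chart') (O1' : P'.Modules)
      (lam' : ∀ (U : Y'.Opens) (hU : IsAffineOpen U),
        O1' ⟶ (Scheme.Modules.pushforward (RelProj.emb p' chart' U hU)).obj
          (GrTwist.twist (𝒮'.deg U hU) 1))
      (_ : RelProj.IsRelTwist 𝒮' p' chart' 1 O1' lam') (gP : P' ⟶ P),
      IsPullback gP p' p g ∧ Nonempty ((Scheme.Modules.pullback gP).obj O1 ≅ O1') := by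
  haveI : E.IsQuasicoherent := hE
  haveI hq' : ((Scheme.Modules.pullback g).obj E).IsQuasicoherent := qc_pullback g E
  obtain ⟨P', p', chart', hP'⟩ :=
    Groth.Agent.S8258.result (symGrAlg ((Scheme.Modules.pullback g).obj E))
  obtain ⟨O1', lam', hO1'⟩ :=
    Groth.Agent.S8284.result (symGrAlg ((Scheme.Modules.pullback g).obj E)) p' chart' hP' 1
  have hj' := isGrSymAlg ((Scheme.Modules.pullback g).obj E)
  obtain ⟨uQ, gP, -, -, hh, hpb⟩ := Groth.Agent.H4.SymPull.main_S5731 g E hE 𝒮 j hj p chart hP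
    (symGrAlg ((Scheme.Modules.pullback g).obj E)) (symJ ((Scheme.Modules.pullback g).obj E)) hj'
    p' chart' hP'
  exact ⟨(Scheme.Modules.pullback g).obj E, hq', symGrAlg _, symJ _, hj', P', p', chart', hP', O1',
    lam', hO1', gP, hpb,
    Groth.Agent.H4.PullO1.nonempty_pullback_iso_of_isProjQMap hP hP' hO1 hO1' hh
      (genDegOne_of_isGrSymAlg hj)⟩

theorem veryAmple_of_comp {X Y Z : Scheme.{u}} (f : X ⟶ Y) (g : Y ⟶ Z) (L : X.Modules)
    (hva : RelProj.IsRelVeryAmple (f ≫ g) L) : RelProj.IsRelVeryAmple f L := by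
  obtain ⟨E, hE, 𝒮, j, hj, P, p, chart, hP, O1, lam, hO1, i, himm, hip, ⟨φL⟩⟩ := hva
  obtain ⟨E', hE', 𝒮', j', hj', P', p', chart', hP', O1', lam', hO1', gP, hpb, ⟨θ⟩⟩ :=
    exists_bundle_bc g E hE 𝒮 j hj p chart hP O1 lam hO1
  have h1 : hpb.lift i f hip ≫ gP = i := hpb.lift_fst _ _ _
  have h2 : hpb.lift i f hip ≫ p' = f := hpb.lift_snd _ _ _
  haveI : IsImmersion (hpb.lift i f hip ≫ gP) := by rw [h1]; exact himm
  have himm' : IsImmersion (hpb.lift i f hip) := IsImmersion.of_comp (hpb.lift i f hip) gP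
  refine ⟨E', hE', 𝒮', j', hj', P', p', chart', hP', O1', lam', hO1', hpb.lift i f hip, himm', h2, ⟨?_⟩⟩
  exact φL ≪≫ (Scheme.Modules.pullbackCongr h1.symm).app O1 ≪≫
    ((Scheme.Modules.pullbackComp (hpb.lift i f hip) gP).app O1).symm ≪≫
    (Scheme.Modules.pullback (hpb.lift i f hip)).mapIso θ

theorem veryAmple_baseChange {X Y X' Y' : Scheme.{u}} (f : X ⟶ Y) (g : Y' ⟶ Y) (g' : X' ⟶ X)
    (f' : X' ⟶ Y') (hsq : IsPullback g' f' f g) (L : X.Modules)
    (hva : RelProj.IsRelVeryAmple f L) :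
    RelProj.IsRelVeryAmple f' ((Scheme.Modules.pullback g').obj L) := by
  obtain ⟨E, hE, 𝒮, j, hj, P, p, chart, hP, O1, lam, hO1, i, himm, hip, ⟨φL⟩⟩ := hva
  obtain ⟨E', hE', 𝒮', j', hj', P', p', chart', hP', O1', lam', hO1', gP, hpb, ⟨θ⟩⟩ :=
    exists_bundle_bc g E hE 𝒮 j hj p chart hP O1 lam hO1
  have hcomm : (g' ≫ i) ≫ p = f' ≫ g := by rw [Category.assoc, hip]; exact hsq.w
  have h1 : hpb.lift (g' ≫ i) f' hcomm ≫ gP = g' ≫ i := hpb.lift_fst _ _ _
  have h2 : hpb.lift (g' ≫ i) f' hcomm ≫ p' = f' := hpb.lift_snd _ _ _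
  -- the left square is a pullback
  have hleft : IsPullback g' (hpb.lift (g' ≫ i) f' hcomm) i gP := by
    have hbig : IsPullback g' (hpb.lift (g' ≫ i) f' hcomm ≫ p') (i ≫ p) g := by
      rw [h2, hip]; exact hsq
    exact IsPullback.of_bot hbig h1.symm hpb
  have himm' : IsImmersion (hpb.lift (g' ≫ i) f' hcomm) :=
    MorphismProperty.of_isPullback (P := @IsImmersion) hleft himm
  refine ⟨E', hE', 𝒮', j', hj', P', p', chart', hP', O1', lam', hO1', hpb.lift (g' ≫ i) f' hcomm,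
    himm', h2, ⟨?_⟩⟩
  exact (Scheme.Modules.pullback g').mapIso φL ≪≫
    (Scheme.Modules.pullbackComp g' i).app O1 ≪≫
    (Scheme.Modules.pullbackCongr h1.symm).app O1 ≪≫
    ((Scheme.Modules.pullbackComp (hpb.lift (g' ≫ i) f' hcomm) gP).app O1).symm ≪≫
    (Scheme.Modules.pullback (hpb.lift (g' ≫ i) f' hcomm)).mapIso θ

end
end Groth.Agent.H4.VAmpleBC
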