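import Mathlib
import Groth.Agent.H4.SegrePair
import Groth.Agent.H4.FTImm3
import Groth.Agent.H4.FTQuot
import Groth.Agent.H4.VAmpleBC
import Groth.Agent.H4.VALocPE
import Groth.Agent.Lib.Lead.QC.RestrictOpen

set_option autoImplicit false
set_option linter.style.haveILetI false
set_option linter.unusedSectionVars false
set_option linter.unusedVariables false

namespace Groth.Agent.H4.VAComp

open CategoryTheory CategoryTheory.Limits AlgebraicGeometry TopologicalSpace Opposite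
open HomogeneousLocalization
open Groth.Agent.H6.Sym Groth.Agent.H6 Groth.Agent.LD.QC Groth.Agent.H4.PBundle Groth.Agent.H4.PBundle2
open Groth.Agent.H4.PBundle3 Groth.Agent.H4.PBLoc Groth.Agent.H4.PBLoc2 Groth.Agent.H4.PBLoc3
open Groth.Agent.H4.ConeImm
open Groth.Agent.H4.PBUniq Groth.Agent.H4.PBEx1 Groth.Agent.H4.PBEx2 Groth.Agent.H4.PBEx4
open Groth.Agent.H4.SegreCh Groth.Agent.H4.SegreVA Groth.Agent.H4.ProjPhi Groth.Agent.H4.TensVA
open Groth.Agent.H8.RelTwist Groth.Agent.H4.SegrePair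
open scoped HomogeneousIdeal

universe u

noncomputable section

/-- one step: from an immersion into `P(E)`, an epimorphism `g^*F ⟶ E ⊗ K^m` and an immersion
`Y ⟶ P(F')`, the module `(L ⊗ f^*K^m) ⊗ f^*K` is very ample for `f ≫ g`. -/
theorem step {X Y Z : Scheme.{u}} (f : X ⟶ Y) (g : Y ⟶ Z)
    (L : X.Modules) (hL : PicF.IsInvertible L)
    (K : Y.Modules) (hK : PicF.IsInvertible K) (hKva : RelProj.IsRelVeryAmple g K)
    -- the immersion into `P(E)`
    {PE : Scheme.{u}} (E : Y.Modules) (hE : Coh.IsQCoh E) (𝒯 : RelProj.QCGrAlg Y)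
    (jE : E ⟶ 𝒯.toModule) (hjE : RelProj.IsGrSymAlg E 𝒯 jE) (pE : PE ⟶ Y)
    (chartE : ∀ (U : Y.Opens) (hU : IsAffineOpen U),
        ((pE ⁻¹ᵁ U : PE.Opens) : Scheme.{u}) ≅ Proj (𝒯.deg U hU))
    (hPE : RelProj.IsRelProj 𝒯 pE chartE)
    (O1E : PE.Modules)
    (lamE : ∀ (U : Y.Opens) (hU : IsAffineOpen U),
        O1E ⟶ (Scheme.Modules.pushforward (RelProj.emb pE chartE U hU)).obj
          (GrTwist.twist (𝒯.deg U hU) 1))
    (hO1E : RelProj.IsRelTwist 𝒯 pE chartE 1 O1E lamE)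
    (i₀ : X ⟶ PE) (himm : IsImmersion i₀) (hi₀ : i₀ ≫ pE = f)
    (θL : L ≅ (Scheme.Modules.pullback i₀).obj O1E)
    (m : ℕ) (F : Z.Modules) (hF : Coh.IsQCoh F)
    (u : (Scheme.Modules.pullback g).obj F ⟶ CohB1.tensorMod E (CohB1.tensorPow K m)) (hu : Epi u) :
    RelProj.IsRelVeryAmple (f ≫ g)
      (CohB1.tensorMod (CohB1.tensorMod L ((Scheme.Modules.pullback f).obj (CohB1.tensorPow K m)))
        ((Scheme.Modules.pullback f).obj K)) := by
  classical
  haveI := himm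
  haveI := hu
  haveI : E.IsQuasicoherent := hE
  haveI : F.IsQuasicoherent := hF
  haveI hKq : K.IsQuasicoherent := qc_of_isInvertible K hK
  have hKm : PicF.IsInvertible (CohB1.tensorPow K m) := isInvertible_tensorPow hK m
  haveI hKmq : (CohB1.tensorPow K m).IsQuasicoherent := qc_of_isInvertible _ hKm
  have hfKm : PicF.IsInvertible ((Scheme.Modules.pullback f).obj (CohB1.tensorPow K m)) :=
    isInvertible_pullback (g := f) hKm
  have hLm : PicF.IsInvertible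
      (CohB1.tensorMod L ((Scheme.Modules.pullback f).obj (CohB1.tensorPow K m))) :=
    isInvertible_tensorMod hL hfKm
  have hfK : PicF.IsInvertible ((Scheme.Modules.pullback f).obj K) :=
    isInvertible_pullback (g := f) hK
  -- step (a): the immersion into `P(E ⊗ K^m)`
  have hφE := phi_reads hPE hO1E jE hjE.2
  haveI := epi_alpha hE hjE hPE hO1E (phi hPE hO1E jE hjE.2) (fun U hU e => hφE U hU e) f i₀ hi₀
  haveI : Epi (alpha (phi hPE hO1E jE hjE.2) f i₀ hi₀ ≫ θL.inv) := inferInstance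
  haveI hqm : (CohB1.tensorMod E (CohB1.tensorPow K m)).IsQuasicoherent := inferInstance
  have hjm := isGrSymAlg (CohB1.tensorMod E (CohB1.tensorPow K m))
  obtain ⟨Pm, pm, chartm, hPm⟩ :=
    Groth.Agent.S8258.result (symGrAlg (CohB1.tensorMod E (CohB1.tensorPow K m)))
  obtain ⟨O1m, lamm, hO1m⟩ :=
    Groth.Agent.S8284.result (symGrAlg (CohB1.tensorMod E (CohB1.tensorPow K m))) pm chartm hPm 1
  have hφm := phi_reads hPm hO1m (symJ (CohB1.tensorMod E (CohB1.tensorPow K m))) hjm.2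
  haveI : Epi (tsig f (alpha (phi hPE hO1E jE hjE.2) f i₀ hi₀ ≫ θL.inv)
      (𝟙 ((Scheme.Modules.pullback f).obj (CohB1.tensorPow K m)))) :=
    epi_tsig f _ _ hL hfKm
  obtain ⟨rm, ⟨hrm, τm, hτm⟩, -⟩ := Groth.Agent.H4.PBEx4.main
    (CohB1.tensorMod E (CohB1.tensorPow K m)) hqm
    (symGrAlg _) (symJ _) hjm pm chartm hPm O1m lamm hO1m
    (phi hPm hO1m (symJ (CohB1.tensorMod E (CohB1.tensorPow K m))) hjm.2) hφm f
    (CohB1.tensorMod L ((Scheme.Modules.pullback f).obj (CohB1.tensorPow K m))) hLm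
    (tsig f (alpha (phi hPE hO1E jE hjE.2) f i₀ hi₀ ≫ θL.inv)
      (𝟙 ((Scheme.Modules.pullback f).obj (CohB1.tensorPow K m)))) inferInstance
  have hτma : alpha (phi hPm hO1m (symJ (CohB1.tensorMod E (CohB1.tensorPow K m))) hjm.2) f rm hrm ≫
      τm.hom = tsig f (alpha (phi hPE hO1E jE hjE.2) f i₀ hi₀ ≫ θL.inv)
        (𝟙 ((Scheme.Modules.pullback f).obj (CohB1.tensorPow K m))) := by
    rw [← hτm]
    unfold alpha
    simp only [Category.assoc]
  haveI hrmimm : IsImmersion rm :=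
    isImmersion_of_tensor hjE hPE hO1E (phi hPE hO1E jE hjE.2) (fun U hU e => hφE U hU e) hjm hPm
      hO1m (phi hPm hO1m (symJ (CohB1.tensorMod E (CohB1.tensorPow K m))) hjm.2)
      (fun U hU e => hφm U hU e) f hL hfKm
      (alpha (phi hPE hO1E jE hjE.2) f i₀ hi₀ ≫ θL.inv)
      (𝟙 ((Scheme.Modules.pullback f).obj (CohB1.tensorPow K m))) i₀ hi₀ θL.symm rfl rm hrm τm hτma
  -- step (b): the immersion into `P(g^*F)`
  haveI hGq : ((Scheme.Modules.pullback g).obj F).IsQuasicoherent := qc_pullback g F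
  have hjG := isGrSymAlg ((Scheme.Modules.pullback g).obj F)
  obtain ⟨PG, pG, chartG, hPG⟩ :=
    Groth.Agent.S8258.result (symGrAlg ((Scheme.Modules.pullback g).obj F))
  obtain ⟨O1G, lamG, hO1G⟩ :=
    Groth.Agent.S8284.result (symGrAlg ((Scheme.Modules.pullback g).obj F)) pG chartG hPG 1
  have hφG := phi_reads hPG hO1G (symJ ((Scheme.Modules.pullback g).obj F)) hjG.2
  haveI : Epi ((Scheme.Modules.pullback f).map u) := inferInstance
  haveI : Epi ((Scheme.Modules.pullback f).map u ≫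
      tsig f (alpha (phi hPE hO1E jE hjE.2) f i₀ hi₀ ≫ θL.inv)
        (𝟙 ((Scheme.Modules.pullback f).obj (CohB1.tensorPow K m)))) := epi_comp _ _
  obtain ⟨rG, ⟨hrG, τG, hτG⟩, -⟩ := Groth.Agent.H4.PBEx4.main
    ((Scheme.Modules.pullback g).obj F) hGq
    (symGrAlg _) (symJ _) hjG pG chartG hPG O1G lamG hO1G
    (phi hPG hO1G (symJ ((Scheme.Modules.pullback g).obj F)) hjG.2) hφG f
    (CohB1.tensorMod L ((Scheme.Modules.pullback f).obj (CohB1.tensorPow K m))) hLm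
    ((Scheme.Modules.pullback f).map u ≫
      tsig f (alpha (phi hPE hO1E jE hjE.2) f i₀ hi₀ ≫ θL.inv)
        (𝟙 ((Scheme.Modules.pullback f).obj (CohB1.tensorPow K m)))) inferInstance
  have hτGa : alpha (phi hPG hO1G (symJ ((Scheme.Modules.pullback g).obj F)) hjG.2) f rG hrG ≫
      τG.hom = (Scheme.Modules.pullback f).map u ≫
      tsig f (alpha (phi hPE hO1E jE hjE.2) f i₀ hi₀ ≫ θL.inv)
        (𝟙 ((Scheme.Modules.pullback f).obj (CohB1.tensorPow K m))) := by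
    rw [← hτG]
    unfold alpha
    simp only [Category.assoc]
  haveI hrGimm : IsImmersion rG :=
    epiImm hjm hPm hO1m (phi hPm hO1m (symJ (CohB1.tensorMod E (CohB1.tensorPow K m))) hjm.2)
      (fun U hU e => hφm U hU e) hjG hPG hO1G
      (phi hPG hO1G (symJ ((Scheme.Modules.pullback g).obj F)) hjG.2) (fun U hU e => hφG U hU e)
      u f hLm
      (tsig f (alpha (phi hPE hO1E jE hjE.2) f i₀ hi₀ ≫ θL.inv)
        (𝟙 ((Scheme.Modules.pullback f).obj (CohB1.tensorPow K m)))) rm hrm τm hτma rG hrG τG hτGa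
  -- step (c): the bundle of `F` over `Z` and the base change map
  have hjF := isGrSymAlg F
  obtain ⟨PF, πF, chartF, hPF⟩ := Groth.Agent.S8258.result (symGrAlg F)
  obtain ⟨O1F, lamF, hO1F⟩ := Groth.Agent.S8284.result (symGrAlg F) πF chartF hPF 1
  have hφF := phi_reads hPF hO1F (symJ F) hjF.2
  obtain ⟨uQ, gP, -, -, hh, hpb⟩ := Groth.Agent.H4.SymPull.main_S5731 g F hF (symGrAlg F) (symJ F)
    hjF πF chartF hPF (symGrAlg ((Scheme.Modules.pullback g).obj F))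
    (symJ ((Scheme.Modules.pullback g).obj F)) hjG pG chartG hPG
  obtain ⟨θG⟩ := Groth.Agent.H4.PullO1.nonempty_pullback_iso_of_isProjQMap hPF hPG hO1F hO1G hh
    (genDegOne_of_isGrSymAlg hjF)
  -- the immersion `Y ⟶ P(F')`
  obtain ⟨F', hF', 𝒮', j', hj', P', π', chart', hP', O1', lam', hO1', ι, hιimm, hι, ⟨θK⟩⟩ := hKva
  haveI : F'.IsQuasicoherent := hF'
  haveI := hιimm
  have hφ' := phi_reads hP' hO1' j' hj'.2
  -- the product
  have hw : gP ≫ πF = (pG ≫ ι) ≫ π' := by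
    rw [Category.assoc, hι]; exact hpb.w
  have hb1 : pullback.lift gP (pG ≫ ι) hw ≫ pullback.fst πF π' = gP := pullback.lift_fst _ _ _
  have hb2 : pullback.lift gP (pG ≫ ι) hw ≫ pullback.snd πF π' = pG ≫ ι := pullback.lift_snd _ _ _
  have hsq : IsPullback (pullback.lift gP (pG ≫ ι) hw) pG (pullback.snd πF π') ι := by
    refine IsPullback.of_right ?_ hb2 (IsPullback.of_hasPullback πF π')
    rw [hb1, hι]; exact hpb
  haveI : IsImmersion (pullback.lift gP (pG ≫ ι) hw) :=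
    MorphismProperty.of_isPullback (P := @IsImmersion) hsq.flip hιimm
  have hr₁ : (rG ≫ gP) ≫ πF = f ≫ g := by
    rw [Category.assoc, hpb.w, ← Category.assoc, hrG]
  have hr₂ : (f ≫ ι) ≫ π' = f ≫ g := by rw [Category.assoc, hι]
  haveI e1 := epi_alpha hF hjF hPF hO1F (phi hPF hO1F (symJ F) hjF.2)
    (fun U hU e => hφF U hU e) (f ≫ g) (rG ≫ gP) hr₁
  haveI e2 := epi_alpha hF' hj' hP' hO1' (phi hP' hO1' j' hj'.2)
    (fun U hU e => hφ' U hU e) (f ≫ g) (f ≫ ι) hr₂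
  -- `P(F ⊗ F')`
  haveI hq12 : (CohB1.tensorMod F F').IsQuasicoherent := inferInstance
  have hj12 := isGrSymAlg (CohB1.tensorMod F F')
  obtain ⟨P12, π12, chart12, hP12⟩ := Groth.Agent.S8258.result (symGrAlg (CohB1.tensorMod F F'))
  obtain ⟨O112, lam12, hO112⟩ :=
    Groth.Agent.S8284.result (symGrAlg (CohB1.tensorMod F F')) π12 chart12 hP12 1
  have hφ12 := phi_reads hP12 hO112 (symJ (CohB1.tensorMod F F')) hj12.2
  haveI : Epi (alpha (phi hPF hO1F (symJ F) hjF.2) (f ≫ g) (rG ≫ gP) hr₁ ≫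
      (((Scheme.Modules.pullbackComp rG gP).app O1F).symm ≪≫
        (Scheme.Modules.pullback rG).mapIso θG ≪≫ τG).hom) := epi_comp _ _
  haveI : Epi (alpha (phi hP' hO1' j' hj'.2) (f ≫ g) (f ≫ ι) hr₂ ≫
      (((Scheme.Modules.pullbackComp f ι).app O1').symm ≪≫
        (Scheme.Modules.pullback f).mapIso θK.symm).hom) := epi_comp _ _
  haveI : Epi (tsig (f ≫ g)
      (alpha (phi hPF hO1F (symJ F) hjF.2) (f ≫ g) (rG ≫ gP) hr₁ ≫
        (((Scheme.Modules.pullbackComp rG gP).app O1F).symm ≪≫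
          (Scheme.Modules.pullback rG).mapIso θG ≪≫ τG).hom)
      (alpha (phi hP' hO1' j' hj'.2) (f ≫ g) (f ≫ ι) hr₂ ≫
        (((Scheme.Modules.pullbackComp f ι).app O1').symm ≪≫
          (Scheme.Modules.pullback f).mapIso θK.symm).hom)) := epi_tsig (f ≫ g) _ _ hLm hfK
  obtain ⟨r12, ⟨hr12, τ12, hτ12⟩, -⟩ := Groth.Agent.H4.PBEx4.main
    (CohB1.tensorMod F F') hq12
    (symGrAlg _) (symJ _) hj12 π12 chart12 hP12 O112 lam12 hO112
    (phi hP12 hO112 (symJ (CohB1.tensorMod F F')) hj12.2) hφ12 (f ≫ g)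
    (CohB1.tensorMod (CohB1.tensorMod L ((Scheme.Modules.pullback f).obj (CohB1.tensorPow K m)))
        ((Scheme.Modules.pullback f).obj K)) (isInvertible_tensorMod hLm hfK)
    (tsig (f ≫ g)
      (alpha (phi hPF hO1F (symJ F) hjF.2) (f ≫ g) (rG ≫ gP) hr₁ ≫
        (((Scheme.Modules.pullbackComp rG gP).app O1F).symm ≪≫
          (Scheme.Modules.pullback rG).mapIso θG ≪≫ τG).hom)
      (alpha (phi hP' hO1' j' hj'.2) (f ≫ g) (f ≫ ι) hr₂ ≫
        (((Scheme.Modules.pullbackComp f ι).app O1').symm ≪≫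
          (Scheme.Modules.pullback f).mapIso θK.symm).hom)) inferInstance
  have hτ12a : alpha (phi hP12 hO112 (symJ (CohB1.tensorMod F F')) hj12.2) (f ≫ g) r12 hr12 ≫
      τ12.hom = tsig (f ≫ g)
      (alpha (phi hPF hO1F (symJ F) hjF.2) (f ≫ g) (rG ≫ gP) hr₁ ≫
        (((Scheme.Modules.pullbackComp rG gP).app O1F).symm ≪≫
          (Scheme.Modules.pullback rG).mapIso θG ≪≫ τG).hom)
      (alpha (phi hP' hO1' j' hj'.2) (f ≫ g) (f ≫ ι) hr₂ ≫
        (((Scheme.Modules.pullbackComp f ι).app O1').symm ≪≫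
          (Scheme.Modules.pullback f).mapIso θK.symm).hom) := by
    rw [← hτ12]
    unfold alpha
    simp only [Category.assoc]
  have hi₁ : (rG ≫ pullback.lift gP (pG ≫ ι) hw) ≫ pullback.fst πF π' = rG ≫ gP := by
    rw [Category.assoc, hb1]
  have hi₂ : (rG ≫ pullback.lift gP (pG ≫ ι) hw) ≫ pullback.snd πF π' = f ≫ ι := by
    rw [Category.assoc, hb2, ← Category.assoc, hrG]
  have himm12 : IsImmersion r12 :=
    pairImm hjF hPF hO1F (phi hPF hO1F (symJ F) hjF.2) (fun U hU e => hφF U hU e)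
      hj' hP' hO1' (phi hP' hO1' j' hj'.2) (fun U hU e => hφ' U hU e)
      hj12 hP12 hO112 (phi hP12 hO112 (symJ (CohB1.tensorMod F F')) hj12.2)
      (fun U hU e => hφ12 U hU e) (f ≫ g) hLm hfK _ _
      (rG ≫ gP) hr₁ _ rfl (f ≫ ι) hr₂ _ rfl
      (rG ≫ pullback.lift gP (pG ≫ ι) hw) hi₁ hi₂ r12 hr12 τ12 hτ12a
  exact ⟨CohB1.tensorMod F F', hq12, symGrAlg _, symJ _, hj12, P12, π12, chart12, hP12, O112,
    lam12, hO112, r12, himm12, hr12, ⟨τ12.symm⟩⟩

/-- the affine case. -/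
theorem core {X Y Z : Scheme.{u}} [IsAffine Z] (f : X ⟶ Y) [QuasiCompact f]
    [LocallyOfFiniteType f] (g : Y ⟶ Z) [QuasiCompact g]
    (L : X.Modules) (hL : PicF.IsInvertible L) (hLva : RelProj.IsRelVeryAmple f L)
    (K : Y.Modules) (hK : PicF.IsInvertible K) (hKva : RelProj.IsRelVeryAmple g K) :
    ∃ n₀ : ℕ, 0 < n₀ ∧ ∀ n : ℕ, n₀ ≤ n →
      RelProj.IsRelVeryAmple (f ≫ g)
        (CohB1.tensorMod L ((Scheme.Modules.pullback f).obj (CohB1.tensorPow K n))) := by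
  haveI : IsSeparated g := by
    obtain ⟨E', hE', 𝒮, j, hj, P, p, chart, hP, O1, lam, hO1, i, himm, hi, -⟩ := hKva
    haveI := himm
    haveI : IsSeparated p := Groth.Agent.S8259.result 𝒮 p chart hP
    rw [← hi]
    infer_instance
  haveI : CompactSpace Y := QuasiCompact.compactSpace_of_compactSpace g
  haveI : Y.IsSeparated := ⟨by rw [← terminal.comp_from g]; infer_instance⟩
  obtain ⟨E, 𝒯, jE, PE, pE, chartE, O1E, lamE, i₀, hE, hEft, hjE, hPE, hO1E, himm, hi₀, ⟨θL⟩⟩ :=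
    Groth.Agent.H4.FTImm3.main (Or.inl ⟨inferInstance, inferInstance⟩) f L hL hLva
  obtain ⟨m₀, hm₀⟩ := Groth.Agent.H4.FTQuot.main (Or.inl ⟨inferInstance, inferInstance⟩) g K hK hKva
    E hE hEft
  refine ⟨m₀ + 1, Nat.succ_pos _, fun n hn => ?_⟩
  obtain ⟨m, rfl⟩ : ∃ m, n = m + 1 := ⟨n - 1, by omega⟩
  obtain ⟨F, u, hF, -, hu⟩ := hm₀ m (by omega)
  have h1 := step f g L hL K hK hKva E hE 𝒯 jE hjE pE chartE hPE O1E lamE hO1E i₀ himm hi₀ θL m F
    hF u hu
  haveI : L.IsQuasicoherent := qc_of_isInvertible L hL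
  haveI hKq : K.IsQuasicoherent := qc_of_isInvertible K hK
  have hKm : PicF.IsInvertible (CohB1.tensorPow K m) := isInvertible_tensorPow hK m
  haveI hKmq : (CohB1.tensorPow K m).IsQuasicoherent := qc_of_isInvertible _ hKm
  haveI : ((Scheme.Modules.pullback f).obj (CohB1.tensorPow K m)).IsQuasicoherent :=
    qc_pullback f _
  haveI : ((Scheme.Modules.pullback f).obj K).IsQuasicoherent := qc_pullback f _
  refine isRelVeryAmple_of_iso (f ≫ g) ?_ h1
  exact tensorAssoc L _ _ ≪≫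
    tensorIso' (Iso.refl L) (pbTensorIsoQC f (CohB1.tensorPow K m) K).symm

theorem restrict_va {X Y : Scheme.{u}} (q : X ⟶ Y) (L : X.Modules)
    (h : RelProj.IsRelVeryAmple q L) (V : Y.Opens) :
    RelProj.IsRelVeryAmple (q ∣_ V) (L.restrict (q ⁻¹ᵁ V).ι) := by
  have h1 := Groth.Agent.H4.VAmpleBC.veryAmple_baseChange q V.ι (q ⁻¹ᵁ V).ι (q ∣_ V)
    (isPullback_morphismRestrict q V).flip L h
  exact isRelVeryAmple_of_iso (q ∣_ V)
    ((Scheme.Modules.restrictFunctorIsoPullback (q ⁻¹ᵁ V).ι).app L).symm h1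

/-- restriction of `L ⊗ f^*K^n` to the preimage of an open. -/
def restrIso {X Y : Scheme.{u}} (f : X ⟶ Y) (L : X.Modules) (K : Y.Modules) (n : ℕ)
    (W : Y.Opens) :
    (CohB1.tensorMod L ((Scheme.Modules.pullback f).obj (CohB1.tensorPow K n))).restrict
        (f ⁻¹ᵁ W).ι ≅
      CohB1.tensorMod (L.restrict (f ⁻¹ᵁ W).ι)
        ((Scheme.Modules.pullback (f ∣_ W)).obj (CohB1.tensorPow (K.restrict W.ι) n)) :=
  (restrictTensorIso (f ⁻¹ᵁ W).ι L _).symm ≪≫ tensorIso' (Iso.refl _)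
    ((Scheme.Modules.restrictFunctorIsoPullback (f ⁻¹ᵁ W).ι).app _ ≪≫
      (Scheme.Modules.pullbackComp (f ⁻¹ᵁ W).ι f).app _ ≪≫
      (Scheme.Modules.pullbackCongr (morphismRestrict_ι f W).symm).app _ ≪≫
      ((Scheme.Modules.pullbackComp (f ∣_ W) W.ι).app _).symm ≪≫
      (Scheme.Modules.pullback (f ∣_ W)).mapIso
        (((Scheme.Modules.restrictFunctorIsoPullback W.ι).app _).symm ≪≫
          (restrictTensorPowIso W.ι K n).symm))

/-- **EGA II 4.4.10 (iv)**. -/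
theorem main {X Y Z : Scheme.{u}} [CompactSpace Z] (f : X ⟶ Y) [QuasiCompact f]
    [LocallyOfFiniteType f] (g : Y ⟶ Z) [QuasiCompact g]
    (L : X.Modules) (hL : PicF.IsInvertible L) (hLva : RelProj.IsRelVeryAmple f L)
    (K : Y.Modules) (hK : PicF.IsInvertible K) (hKva : RelProj.IsRelVeryAmple g K) :
    ∃ n₀ : ℕ, 0 < n₀ ∧ ∀ n : ℕ, n₀ ≤ n →
      RelProj.IsRelVeryAmple (f ≫ g)
        (CohB1.tensorMod L ((Scheme.Modules.pullback f).obj (CohB1.tensorPow K n))) := by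
  classical
  have hloc : ∀ V : Z.affineOpens, ∃ n₀ : ℕ, 0 < n₀ ∧ ∀ n : ℕ, n₀ ≤ n →
      RelProj.IsRelVeryAmple ((f ≫ g) ∣_ V.1)
        ((CohB1.tensorMod L ((Scheme.Modules.pullback f).obj (CohB1.tensorPow K n))).restrict
          ((f ≫ g) ⁻¹ᵁ V.1).ι) := by
    intro V
    haveI : IsAffine ((V.1 : Z.Opens) : Scheme.{u}) := V.2
    haveI : QuasiCompact (f ∣_ (g ⁻¹ᵁ V.1)) := inferInstance
    haveI : LocallyOfFiniteType (f ∣_ (g ⁻¹ᵁ V.1)) := inferInstance
    haveI : QuasiCompact (g ∣_ V.1) := inferInstance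
    obtain ⟨n₀, hn₀, H⟩ := core (f ∣_ (g ⁻¹ᵁ V.1)) (g ∣_ V.1)
      (L.restrict (f ⁻¹ᵁ (g ⁻¹ᵁ V.1)).ι) (isInvertible_restrict _ hL) (restrict_va f L hLva _)
      (K.restrict (g ⁻¹ᵁ V.1).ι) (isInvertible_restrict _ hK) (restrict_va g K hKva _)
    refine ⟨n₀, hn₀, fun n hn => ?_⟩
    rw [morphismRestrict_comp]
    exact isRelVeryAmple_of_iso _ (restrIso f L K n (g ⁻¹ᵁ V.1)).symm (H n hn)
  choose n₀ hn₀ H using hloc
  obtain ⟨t, ht⟩ : ∃ t : Finset Z.affineOpens, (⨆ V : ↥t, (V.1.1 : Z.Opens)) = ⊤ := by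
    obtain ⟨t, ht⟩ := isCompact_univ.elim_finite_subcover
      (fun V : Z.affineOpens => ((V.1 : Z.Opens) : Set Z)) (fun V => V.1.2)
      (fun x _ => by
        obtain ⟨V, hV, hxV, -⟩ := Opens.isBasis_iff_nbhd.mp Z.isBasis_affineOpens
          (show x ∈ (⊤ : Z.Opens) from trivial)
        exact Set.mem_iUnion.mpr ⟨⟨V, hV⟩, hxV⟩)
    refine ⟨t, eq_top_iff.mpr fun x _ => ?_⟩
    obtain ⟨V, hVt, hxV⟩ := Set.mem_iUnion₂.mp (ht (Set.mem_univ x))
    exact Opens.mem_iSup.mpr ⟨⟨V, hVt⟩, hxV⟩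
  refine ⟨t.sup n₀ + 1, Nat.succ_pos _, fun n hn => ?_⟩
  haveI : QuasiCompact (f ≫ g) := inferInstance
  have hinv : PicF.IsInvertible
      (CohB1.tensorMod L ((Scheme.Modules.pullback f).obj (CohB1.tensorPow K n))) :=
    isInvertible_tensorMod hL (isInvertible_pullback (g := f) (isInvertible_tensorPow hK n))
  refine Groth.Agent.H4.VALocPE.main_rev (f ≫ g) _ hinv (fun V : ↥t => (V.1.1 : Z.Opens)) ht
    (fun V => H V.1 n ?_)
  have h1 : n₀ V.1 ≤ t.sup n₀ := Finset.le_sup V.2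
  omega

end

end Groth.Agent.H4.VAComp
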