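import Mathlib
import Groth.Agent.H4.ProjSymL7
import Groth.Agent.H4.PBLoc2
import Groth.Agent.H4.PBundle
import Groth.Agent.H4.RelProjEx
import Groth.Agent.H4.FTImm3
import Groth.Agent.Lib.Lead.QC.SubSup
import Groth.Agent.Lib.Helper3.ZClosLib

set_option autoImplicit false
set_option linter.style.haveILetI false
set_option linter.unusedSectionVars false
set_option linter.unusedVariables false

namespace Groth.Agent.H4.VAFTIff

open CategoryTheory CategoryTheory.Limits AlgebraicGeometry TopologicalSpace Opposite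
open Groth.Agent.LD.QC Groth.Agent.H6 Groth.Agent.H6.Sym Groth.Agent.H4.PBundle Groth.Agent.H4.PBundle2
open Groth.Agent.H4.PBLoc2
open Groth.Agent.H4.ProjSymL Groth.Agent.H4.ProjSymL2 Groth.Agent.H4.ProjSymL6 Groth.Agent.H4.ProjSymL7
open Groth.Agent.H4.ProjQ
open scoped HomogeneousIdeal

universe u

noncomputable section

section Fac

variable {Y X : Scheme.{u}} {q : X ⟶ Y} {𝒮L : RelProj.QCGrAlg X}
variable {𝒯 𝒯' : RelProj.QCGrAlg Y}
  (v : RelProj.QGrHom q 𝒯 𝒮L) (w : RelProj.QGrHom q 𝒯' 𝒮L)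
  (θ : 𝒯.toQCAlg ⟶ 𝒯'.toQCAlg)
  (hvw : ∀ U : Y.Opens, IsAffineOpen U → v.app U = θ.hom.app (op U) ≫ w.app U)

include hvw in
theorem appLE_factor' (U : Y.Opens) (hU : IsAffineOpen U) (V : X.Opens) (hVU : V ≤ q ⁻¹ᵁ U)
    (y : 𝒯.presheaf.obj (op U)) :
    (v.appLE U V hVU).hom y = (w.appLE U V hVU).hom ((θ.hom.app (op U)).hom y) := by
  have h1 : v.appLE U V hVU = θ.hom.app (op U) ≫ w.appLE U V hVU := by
    rw [RelSpec.QHom.appLE_eq, hvw U hU, Category.assoc]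
    rfl
  rw [h1]
  rfl

include hvw in
theorem XFU_factor' (U : Y.Opens) (hU : IsAffineOpen U) (n : ℕ) (y : 𝒯.presheaf.obj (op U)) :
    XFU v U n y = XFU w U n ((θ.hom.app (op U)).hom y) := by
  ext x
  show x ∈ XFU v U n y ↔ x ∈ XFU w U n ((θ.hom.app (op U)).hom y)
  rw [mem_XFU, mem_XFU]
  constructor
  · rintro ⟨V, hV, hVU, hxV, hsub⟩
    refine ⟨V, hV, hVU, hxV, ?_⟩
    rw [← appLE_factor' v w θ hvw U hU V hVU y]
    exact hsub
  · rintro ⟨V, hV, hVU, hxV, hsub⟩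
    refine ⟨V, hV, hVU, hxV, ?_⟩
    rw [appLE_factor' v w θ hvw U hU V hVU y]
    exact hsub

include hvw in
/-- a family for `v = w ∘ θ` (on affine opens) pushes forward to a family for `w`. -/
theorem fam_of_factor' (hθ : RelProj.IsGradedHom θ) (h : Fam v) : Fam w := by
  obtain ⟨ι, U, hU, n, s, XT, hXT, hns, hXTeq, hcov, hT, hiii⟩ := h
  refine ⟨ι, U, hU, n, fun a => (θ.hom.app (op (U a))).hom (s a), XT, hXT,
    fun a => ⟨(hns a).1, hθ (U a) (hU a) (n a) (s a) (hns a).2⟩, ?_, hcov, hT, ?_⟩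
  · intro a
    rw [hXTeq a]
    exact XFU_factor' v w θ hvw (U a) (hU a) (n a) (s a)
  · intro a t
    obtain ⟨m, hm, s', hs', e⟩ := hiii a t
    refine ⟨m, hm, (θ.hom.app (op (U a))).hom s', hθ (U a) (hU a) _ s' hs', ?_⟩
    rw [← appLE_factor' v w θ hvw (U a) (hU a) (XT a) (hXT a) (s a),
      ← appLE_factor' v w θ hvw (U a) (hU a) (XT a) (hXT a) s']
    exact e

/-- composite of a same-base graded homomorphism and a graded `q`-morphism. -/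
def compQ (hθ : RelProj.IsGradedHom θ) : RelProj.QGrHom q 𝒯 𝒮L where
  app U := θ.hom.app (op U) ≫ w.app U
  naturality {U V} i := by
    rw [Category.assoc, w.naturality i, ← Category.assoc, ← Category.assoc]
    congr 1
    exact (θ.hom.naturality (homOfLE i).op).symm
  str_app U := by
    have h0 := NatTrans.congr_app θ.comm (op U)
    rw [NatTrans.comp_app] at h0
    rw [← Category.assoc, h0]
    exact w.str_app U
  map_mem U hU U' hU' hle d x hx := w.map_mem U hU U' hU' hle (hθ U hU d x hx)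

end Fac

section GenS

variable {S : Scheme.{u}} {F : S.Modules} {𝒯 : RelProj.QCGrAlg S}

/-- `a` is a degree-`n` polynomial expression in the sections `jF e`, `e ∈ T`. -/
inductive Gen (jF : F ⟶ 𝒯.toModule) (U : S.Opens) (T : Set Γ(F, U)) :
    ℕ → 𝒯.presheaf.obj (op U) → Prop
  | str (c : Γ(S, U)) : Gen jF U T 0 ((𝒯.str.app (op U)).hom c)
  | add {n : ℕ} {a b : 𝒯.presheaf.obj (op U)} : Gen jF U T n a → Gen jF U T n b →
      Gen jF U T n (a + b)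
  | mul {n : ℕ} {a : 𝒯.presheaf.obj (op U)} (e : Γ(F, U)) (he : e ∈ T) : Gen jF U T n a →
      Gen jF U T (n + 1) (QA.sec jF U e * a)

variable {jF : F ⟶ 𝒯.toModule}

lemma Gen.mono {U : S.Opens} {T T' : Set Γ(F, U)} (h : T ⊆ T') {n : ℕ}
    {a : 𝒯.presheaf.obj (op U)} (hg : Gen jF U T n a) : Gen jF U T' n a := by
  induction hg with
  | str c => exact Gen.str c
  | add _ _ ih1 ih2 => exact Gen.add ih1 ih2
  | mul e he _ ih => exact Gen.mul e (h he) ih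

theorem exists_gen [F.IsQuasicoherent] (hj : RelProj.IsGrSymAlg F 𝒯 jF) (U : S.Opens)
    (hU : IsAffineOpen U) (n : ℕ) (a : 𝒯.presheaf.obj (op U)) (ha : a ∈ 𝒯.deg U hU n) :
    ∃ T : Finset Γ(F, U), Gen jF U (T : Set Γ(F, U)) n a := by
  classical
  refine sym_induction hj U hU (fun n a => ∃ T : Finset Γ(F, U), Gen jF U (T : Set Γ(F, U)) n a)
    ?_ ?_ ?_ n a ha
  · intro c
    exact ⟨∅, Gen.str c⟩
  · rintro n a b ⟨T, hT⟩ ⟨T', hT'⟩
    refine ⟨T ∪ T', Gen.add (hT.mono ?_) (hT'.mono ?_)⟩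
    · intro x hx
      exact Finset.mem_coe.mpr (Finset.mem_union_left _ (Finset.mem_coe.mp hx))
    · intro x hx
      exact Finset.mem_coe.mpr (Finset.mem_union_right _ (Finset.mem_coe.mp hx))
  · rintro n e a ⟨T, hT⟩
    refine ⟨insert e T, Gen.mul e ?_ (hT.mono ?_)⟩
    · exact Finset.mem_coe.mpr (Finset.mem_insert_self e T)
    · intro x hx
      exact Finset.mem_coe.mpr (Finset.mem_insert_of_mem (Finset.mem_coe.mp hx))

theorem exists_lift_of_gen {E : S.Modules} {𝒯' : RelProj.QCGrAlg S} {jE : E ⟶ 𝒯'.toModule}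
    (hjE1 : ∀ (U : S.Opens) (hU : IsAffineOpen U) (x : Γ(E, U)), QA.sec jE U x ∈ 𝒯'.deg U hU 1)
    (ι : E ⟶ F) (θ : 𝒯'.toQCAlg ⟶ 𝒯.toQCAlg)
    (hθ : ∀ (U : S.Opens) (x : Γ(E, U)),
      (θ.hom.app (op U)).hom (QA.sec jE U x) = QA.sec jF U (ι.app U x))
    (U : S.Opens) (hU : IsAffineOpen U) (T : Set Γ(F, U))
    (hT : ∀ t ∈ T, ∃ x : Γ(E, U), ι.app U x = t) (n : ℕ) (a : 𝒯.presheaf.obj (op U))
    (hg : Gen jF U T n a) :
    ∃ y : 𝒯'.presheaf.obj (op U), y ∈ 𝒯'.deg U hU n ∧ (θ.hom.app (op U)).hom y = a := by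
  induction hg with
  | str c =>
    refine ⟨(𝒯'.str.app (op U)).hom c, 𝒯'.str_mem U hU c, ?_⟩
    have h0 := NatTrans.congr_app θ.comm (op U)
    rw [NatTrans.comp_app] at h0
    exact congrArg (fun t : Γ(S, U) ⟶ 𝒯.presheaf.obj (op U) => t.hom c) h0
  | add _ _ ih1 ih2 =>
    obtain ⟨y1, hy1, e1⟩ := ih1
    obtain ⟨y2, hy2, e2⟩ := ih2
    exact ⟨y1 + y2, add_mem hy1 hy2, by rw [map_add, e1, e2]⟩
  | @mul n a e he _ ih =>
    obtain ⟨y, hy, e1⟩ := ih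
    obtain ⟨x, hx⟩ := hT e he
    refine ⟨QA.sec jE U x * y, ?_, ?_⟩
    · have h1 := SetLike.mul_mem_graded (hjE1 U hU x) hy
      rw [add_comm] at h1
      exact h1
    · rw [map_mul, hθ U x, hx, e1]

end GenS

section Ext

variable {S : Scheme.{u}} {E : S.Modules} [E.IsQuasicoherent] {𝒯' : RelProj.QCGrAlg S}
  {jE : E ⟶ 𝒯'.toModule}

theorem ringHom_ext_sym (hj : RelProj.IsGrSymAlg E 𝒯' jE) (U : S.Opens) (hU : IsAffineOpen U)
    {R : Type u} [CommRing R] (f g : 𝒯'.presheaf.obj (op U) →+* R)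
    (h0 : ∀ c : Γ(S, U), f ((𝒯'.str.app (op U)).hom c) = g ((𝒯'.str.app (op U)).hom c))
    (h1 : ∀ e : Γ(E, U), f (QA.sec jE U e) = g (QA.sec jE U e)) : f = g := by
  ext a
  obtain ⟨y, rfl⟩ := (liftSec_bijective hj.1 U hU).2 a
  induction y using SymmetricAlgebra.induction with
  | algebraMap r => rw [liftSec_algebraMap]; exact h0 r
  | ι m => rw [liftSec_ι]; exact h1 m
  | mul a b ha hb => rw [map_mul, map_mul, map_mul, ha, hb]
  | add a b ha hb => rw [map_add, map_add, map_add, ha, hb]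

end Ext

section Main

variable {X Y P PL : Scheme.{u}}

theorem main_mpr (q : X ⟶ Y) [QuasiCompact q] [LocallyOfFiniteType q]
    (L : X.Modules) (hL : PicF.IsInvertible L) (hLq : Coh.IsQCoh L)
    (𝒮L : RelProj.QCGrAlg X) (jL : L ⟶ 𝒮L.toModule) (hjL : RelProj.IsGrSymAlg L 𝒮L jL)
    (pL : PL ⟶ X) (chartL : ∀ (U : X.Opens) (hU : IsAffineOpen U), (((pL ⁻¹ᵁ U : PL.Opens) : Scheme.{u}) ≅ Proj (𝒮L.deg U hU)))
    (hPL : RelProj.IsRelProj 𝒮L pL chartL)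
    (F : Y.Modules) (hFq : Coh.IsQCoh F) (𝒯 : RelProj.QCGrAlg Y) (jF : F ⟶ 𝒯.toModule) (h𝒯 : RelProj.IsGrSymAlg F 𝒯 jF)
    (u : RelProj.QGrHom q 𝒯 𝒮L)
    (p : P ⟶ Y) (chart : ∀ (U : Y.Opens) (hU : IsAffineOpen U), (((p ⁻¹ᵁ U : P.Opens) : Scheme.{u}) ≅ Proj (𝒯.deg U hU)))
    (hP : RelProj.IsRelProj 𝒯 p chart)
    (r : ((RelProj.domQ u pL chartL : PL.Opens) : Scheme.{u}) ⟶ P)
    (hr : RelProj.IsProjQMapOn u p chart pL chartL (RelProj.domQ u pL chartL) r)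
    (E : Y.Modules) (hEq : Coh.IsQCoh E) (ι : E ⟶ F)
    (𝒯' : RelProj.QCGrAlg Y) (jE : E ⟶ 𝒯'.toModule) (hT' : RelProj.IsGrSymAlg E 𝒯' jE)
    (u' : RelProj.QGrHom q 𝒯' 𝒮L)
    (hu' : ∀ (U : Y.Opens) (x : Γ(E, U)), (u'.app U).hom ((jE.app U) x) = (u.app U).hom ((jF.app U) ((ι.app U) x)))
    (H : ∀ (P' : Scheme.{u}) (p' : P' ⟶ Y)
        (chart' : ∀ (U : Y.Opens) (hU : IsAffineOpen U), (((p' ⁻¹ᵁ U : P'.Opens) : Scheme.{u}) ≅ Proj (𝒯'.deg U hU)))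
        (_ : RelProj.IsRelProj 𝒯' p' chart')
        (r' : ((RelProj.domQ u' pL chartL : PL.Opens) : Scheme.{u}) ⟶ P')
        (_ : RelProj.IsProjQMapOn u' p' chart' pL chartL (RelProj.domQ u' pL chartL) r'),
      RelProj.domQ u' pL chartL = ⊤ ∧ IsImmersion r') :
    IsImmersion r := by
  haveI : L.IsQuasicoherent := hLq
  haveI : F.IsQuasicoherent := hFq
  haveI : E.IsQuasicoherent := hEq
  obtain ⟨P', p', chart', hP'⟩ := Groth.Agent.H4.RelProjEx.main_S8258 𝒯'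
  obtain ⟨v, hv⟩ := exists_v u' p' chart' pL chartL hP' hPL
  have hr' := (isProjQMapOn_iff u' p' chart' pL chartL v).mpr hv
  obtain ⟨hdom', himm'⟩ := H P' p' chart' hP' v hr'
  have hfam' : Fam u' :=
    (imm_iff_family q L hL hLq 𝒯' 𝒮L jL hjL u' p' chart' hP' pL chartL hPL v hr').mp ⟨hdom', himm'⟩
  obtain ⟨ψ, hψ, -⟩ := hT'.1 𝒯.toQCAlg (ι ≫ jF)
  have hψj : ∀ (U : Y.Opens) (x : Γ(E, U)),
      (ψ.hom.app (op U)).hom (QA.sec jE U x) = QA.sec jF U (ι.app U x) := by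
    intro U x
    have h1 := congrArg (fun t : E ⟶ 𝒯.toModule => t.app U x) hψ
    exact h1
  have hψstr : ∀ (U : Y.Opens) (c : Γ(Y, U)),
      (ψ.hom.app (op U)).hom ((𝒯'.str.app (op U)).hom c) = (𝒯.str.app (op U)).hom c := by
    intro U c
    have h0 := NatTrans.congr_app ψ.comm (op U)
    rw [NatTrans.comp_app] at h0
    exact congrArg (fun t : Γ(Y, U) ⟶ 𝒯.presheaf.obj (op U) => t.hom c) h0
  have hψg : RelProj.IsGradedHom ψ := by
    intro U hU d x hx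
    refine sym_induction hT' U hU (fun n a => (ψ.hom.app (op U)).hom a ∈ 𝒯.deg U hU n)
      ?_ ?_ ?_ d x hx
    · intro c
      rw [hψstr U c]
      exact 𝒯.str_mem U hU c
    · intro n a b ha hb
      rw [map_add]
      exact add_mem ha hb
    · intro n e a ha
      rw [map_mul, hψj U e]
      have h2 : QA.sec jF U (ι.app U e) ∈ 𝒯.deg U hU 1 := h𝒯.2 U hU (ι.app U e)
      have h1 := SetLike.mul_mem_graded h2 ha
      rw [add_comm] at h1
      exact h1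
  have hvw : ∀ U : Y.Opens, IsAffineOpen U → u'.app U = ψ.hom.app (op U) ≫ u.app U := by
    intro U hU
    ext : 1
    apply ringHom_ext_sym hT' U hU
    · intro c
      have h1 := congrArg (fun t : Γ(Y, U) ⟶ 𝒮L.presheaf.obj (op (q ⁻¹ᵁ U)) => t.hom c) (u'.str_app U)
      have h2 := congrArg (fun t : Γ(Y, U) ⟶ 𝒮L.presheaf.obj (op (q ⁻¹ᵁ U)) => t.hom c) (u.str_app U)
      show (u'.app U).hom ((𝒯'.str.app (op U)).hom c) =
        (u.app U).hom ((ψ.hom.app (op U)).hom ((𝒯'.str.app (op U)).hom c))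
      rw [hψstr U c]
      exact h1.trans h2.symm
    · intro e
      show (u'.app U).hom (QA.sec jE U e) = (u.app U).hom ((ψ.hom.app (op U)).hom (QA.sec jE U e))
      rw [hψj U e]
      exact hu' U e
  have hfam : Fam u := fam_of_factor' u' u ψ hvw hψg hfam'
  exact ((imm_iff_family q L hL hLq 𝒯 𝒮L jL hjL u p chart hP pL chartL hPL r hr).mpr hfam).2

end Main

section Psi

variable {S : Scheme.{u}} {E F : S.Modules} [E.IsQuasicoherent] {𝒯 𝒯' : RelProj.QCGrAlg S}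
  {jE : E ⟶ 𝒯'.toModule} {jF : F ⟶ 𝒯.toModule}

theorem exists_psi (hT' : RelProj.IsGrSymAlg E 𝒯' jE)
    (hF1 : ∀ (U : S.Opens) (hU : IsAffineOpen U) (x : Γ(F, U)), QA.sec jF U x ∈ 𝒯.deg U hU 1)
    (ι : E ⟶ F) :
    ∃ ψ : 𝒯'.toQCAlg ⟶ 𝒯.toQCAlg,
      (∀ (U : S.Opens) (x : Γ(E, U)),
        (ψ.hom.app (op U)).hom (QA.sec jE U x) = QA.sec jF U (ι.app U x)) ∧
      (∀ (U : S.Opens) (c : Γ(S, U)),
        (ψ.hom.app (op U)).hom ((𝒯'.str.app (op U)).hom c) = (𝒯.str.app (op U)).hom c) ∧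
      RelProj.IsGradedHom ψ := by
  obtain ⟨ψ, hψ, -⟩ := hT'.1 𝒯.toQCAlg (ι ≫ jF)
  have hψj : ∀ (U : S.Opens) (x : Γ(E, U)),
      (ψ.hom.app (op U)).hom (QA.sec jE U x) = QA.sec jF U (ι.app U x) := by
    intro U x
    have h1 := congrArg (fun t : E ⟶ 𝒯.toModule => t.app U x) hψ
    exact h1
  have hψstr : ∀ (U : S.Opens) (c : Γ(S, U)),
      (ψ.hom.app (op U)).hom ((𝒯'.str.app (op U)).hom c) = (𝒯.str.app (op U)).hom c := by
    intro U c
    have h0 := NatTrans.congr_app ψ.comm (op U)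
    rw [NatTrans.comp_app] at h0
    exact congrArg (fun t : Γ(S, U) ⟶ 𝒯.presheaf.obj (op U) => t.hom c) h0
  refine ⟨ψ, hψj, hψstr, ?_⟩
  intro U hU d x hx
  refine sym_induction hT' U hU (fun n a => (ψ.hom.app (op U)).hom a ∈ 𝒯.deg U hU n)
    ?_ ?_ ?_ d x hx
  · intro c
    rw [hψstr U c]
    exact 𝒯.str_mem U hU c
  · intro n a b ha hb
    rw [map_add]
    exact add_mem ha hb
  · intro n e a ha
    rw [map_mul, hψj U e]
    have h2 : QA.sec jF U (ι.app U e) ∈ 𝒯.deg U hU 1 := hF1 U hU (ι.app U e)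
    have h1 := SetLike.mul_mem_graded h2 ha
    rw [add_comm] at h1
    exact h1

end Psi

section MainMp

variable {X Y P PL : Scheme.{u}}

theorem main_mp (hYs : (CompactSpace Y ∧ Y.IsSeparated) ∨ NoetherianSpace Y)
    (q : X ⟶ Y) [QuasiCompact q] [LocallyOfFiniteType q]
    (L : X.Modules) (hL : PicF.IsInvertible L) (hLq : Coh.IsQCoh L)
    (𝒮L : RelProj.QCGrAlg X) (jL : L ⟶ 𝒮L.toModule) (hjL : RelProj.IsGrSymAlg L 𝒮L jL)
    (pL : PL ⟶ X) (chartL : ∀ (U : X.Opens) (hU : IsAffineOpen U), (((pL ⁻¹ᵁ U : PL.Opens) : Scheme.{u}) ≅ Proj (𝒮L.deg U hU)))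
    (hPL : RelProj.IsRelProj 𝒮L pL chartL)
    (F : Y.Modules) (hFq : Coh.IsQCoh F) (𝒯 : RelProj.QCGrAlg Y) (jF : F ⟶ 𝒯.toModule) (h𝒯 : RelProj.IsGrSymAlg F 𝒯 jF)
    (u : RelProj.QGrHom q 𝒯 𝒮L)
    (hsurj : ∀ x : X, ∃ (U : Y.Opens) (hU : IsAffineOpen U) (e : Γ(F, U)) (V : X.Opens) (hV : IsAffineOpen V)
        (hVU : V ≤ q ⁻¹ᵁ U), x ∈ V ∧
          ((𝒮L.deg V hV 1 : AddSubgroup (𝒮L.presheaf.obj (op V))) : Set (𝒮L.presheaf.obj (op V))) ⊆
              (Ideal.span {(u.appLE U V hVU).hom ((jF.app U) e)} : Set (𝒮L.presheaf.obj (op V))))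
    (p : P ⟶ Y) (chart : ∀ (U : Y.Opens) (hU : IsAffineOpen U), (((p ⁻¹ᵁ U : P.Opens) : Scheme.{u}) ≅ Proj (𝒯.deg U hU)))
    (hP : RelProj.IsRelProj 𝒯 p chart)
    (r : ((RelProj.domQ u pL chartL : PL.Opens) : Scheme.{u}) ⟶ P)
    (hr : RelProj.IsProjQMapOn u p chart pL chartL (RelProj.domQ u pL chartL) r)
    (himm : IsImmersion r) :
    ∃ (E : Y.Modules) (_ : Coh.IsQCoh E) (_ : CohB1.IsFT E) (ι : E ⟶ F) (_ : ∀ U : Y.Opens, Function.Injective (ι.app U))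
        (𝒯' : RelProj.QCGrAlg Y) (jE : E ⟶ 𝒯'.toModule) (_ : RelProj.IsGrSymAlg E 𝒯' jE)
        (u' : RelProj.QGrHom q 𝒯' 𝒮L)
        (_ : ∀ (U : Y.Opens) (x : Γ(E, U)), (u'.app U).hom ((jE.app U) x) = (u.app U).hom ((jF.app U) ((ι.app U) x))),
        (∀ x : X, ∃ (U : Y.Opens) (hU : IsAffineOpen U) (e : Γ(E, U)) (V : X.Opens) (hV : IsAffineOpen V)
            (hVU : V ≤ q ⁻¹ᵁ U), x ∈ V ∧
              ((𝒮L.deg V hV 1 : AddSubgroup (𝒮L.presheaf.obj (op V))) : Set (𝒮L.presheaf.obj (op V))) ⊆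
              (Ideal.span {(u'.appLE U V hVU).hom ((jE.app U) e)} : Set (𝒮L.presheaf.obj (op V)))) ∧
        ∀ (P' : Scheme.{u}) (p' : P' ⟶ Y)
            (chart' : ∀ (U : Y.Opens) (hU : IsAffineOpen U), (((p' ⁻¹ᵁ U : P'.Opens) : Scheme.{u}) ≅ Proj (𝒯'.deg U hU)))
            (_ : RelProj.IsRelProj 𝒯' p' chart')
            (r' : ((RelProj.domQ u' pL chartL : PL.Opens) : Scheme.{u}) ⟶ P')
            (_ : RelProj.IsProjQMapOn u' p' chart' pL chartL (RelProj.domQ u' pL chartL) r'),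
          RelProj.domQ u' pL chartL = ⊤ ∧ IsImmersion r' := by
  classical
  haveI : L.IsQuasicoherent := hLq
  haveI : F.IsQuasicoherent := hFq
  haveI hYc : CompactSpace Y := by
    rcases hYs with h | h
    · exact h.1
    · haveI := h; infer_instance
  haveI hYqs : QuasiSeparatedSpace Y := by
    rcases hYs with h | h
    · haveI := h.2; infer_instance
    · haveI := h; infer_instance
  haveI : CompactSpace X := QuasiCompact.compactSpace_of_compactSpace q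
  have hF1 : ∀ (U : Y.Opens) (hU : IsAffineOpen U) (x : Γ(F, U)),
      QA.sec jF U x ∈ 𝒯.deg U hU 1 := fun U hU x => h𝒯.2 U hU x
  have hdom : RelProj.domQ u pL chartL = ⊤ := by
    rw [eq_top_iff]
    intro x' _
    obtain ⟨U, hU, e, V, hV, hVU, hxV, hsub⟩ := hsurj (pL.base x')
    exact mem_domQ_of_mem_XFU u chart chartL hL hLq hjL hP hPL r hr U hU one_pos
      (QA.sec jF U e) (hF1 U hU e) x' ((mem_XFU u U 1 _ _).mpr ⟨V, hV, hVU, hxV, hsub⟩)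
  have hfam : Fam u :=
    (imm_iff_family q L hL hLq 𝒯 𝒮L jL hjL u p chart hP pL chartL hPL r hr).mp ⟨hdom, himm⟩
  obtain ⟨ι₀, U, hU, n, s, XT, hXT, hns, hXTeq, hcov, hT, hiii⟩ := hfam
  -- finite subcover
  obtain ⟨Fin0, hFin0⟩ := isCompact_univ.elim_finite_subcover (fun a => ((XT a : X.Opens) : Set X))
    (fun a => (XT a).isOpen) (by
      intro x _
      have hx : x ∈ (⨆ a, XT a) := by rw [hcov]; trivial
      obtain ⟨a, ha⟩ := Opens.mem_iSup.mp hx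
      exact Set.mem_iUnion.mpr ⟨a, ha⟩)
  have hft : ∀ a, ∃ G : Finset (X.presheaf.obj (op (XT a))),
      letI := (q.appLE (U a) (XT a) (hXT a)).hom.toAlgebra
      Algebra.adjoin Γ(Y, U a) (G : Set (X.presheaf.obj (op (XT a)))) = ⊤ := by
    intro a
    have h1 : RingHom.FiniteType (q.appLE (U a) (XT a) (hXT a)).hom :=
      HasRingHomProperty.appLE (P := @LocallyOfFiniteType) q inferInstance ⟨U a, hU a⟩
        ⟨XT a, hT a⟩ (hXT a)
    exact h1.out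
  choose G hG using hft
  choose m hm s' hs' e using hiii
  have hTs : ∀ a, ∃ T : Finset Γ(F, U a), Gen jF (U a) (T : Set Γ(F, U a)) (n a) (s a) :=
    fun a => exists_gen h𝒯 (U a) (hU a) (n a) (s a) (hns a).2
  choose Ts hTsg using hTs
  have hTs' : ∀ a (g : X.presheaf.obj (op (XT a))), ∃ T : Finset Γ(F, U a),
      Gen jF (U a) (T : Set Γ(F, U a)) (m a g * n a) (s' a g) :=
    fun a g => exists_gen h𝒯 (U a) (hU a) (m a g * n a) (s' a g) (hs' a g)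
  choose Ts' hTsg' using hTs'
  choose Ux hUx ex Vx hVx hVUx hxVx hsubx using hsurj
  obtain ⟨Fin1, hFin1⟩ := isCompact_univ.elim_finite_subcover
    (fun x : X => ((Vx x : X.Opens) : Set X))
    (fun x => (Vx x).2) (fun x _ => Set.mem_iUnion.mpr ⟨x, hxVx x⟩)
  let Idx := Σ W : Y.affineOpens, Γ(F, W.1)
  let S0 : Finset Idx :=
    (Fin0.biUnion fun a => (Ts a ∪ (G a).biUnion (Ts' a)).image
      (fun t => (⟨⟨U a, hU a⟩, t⟩ : Idx))) ∪
    Fin1.image (fun x => (⟨⟨Ux x, hUx x⟩, ex x⟩ : Idx))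
  obtain ⟨E, ιE, hmono, hEq, hEft, hmem⟩ := exists_sub_finiteType_of_sections F
    (ι := Idx) S0 (fun k => k.1) (fun k => k.2)
  haveI := hEq
  haveI := hmono
  have hmem0 : ∀ a ∈ Fin0, ∀ t : Γ(F, U a), (t ∈ Ts a ∨ ∃ g ∈ G a, t ∈ Ts' a g) →
      ∃ x : Γ(E, U a), ιE.app (U a) x = t := by
    intro a ha t ht
    have h1 : (⟨⟨U a, hU a⟩, t⟩ : Idx) ∈ S0 := by
      refine Finset.mem_union_left _ ?_
      rw [Finset.mem_biUnion]
      refine ⟨a, ha, Finset.mem_image.mpr ⟨t, ?_, rfl⟩⟩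
      rw [Finset.mem_union, Finset.mem_biUnion]
      exact ht
    exact hmem _ h1
  have hmem1 : ∀ x ∈ Fin1, ∃ y : Γ(E, Ux x), ιE.app (Ux x) y = ex x := by
    intro x hx
    have h1 : (⟨⟨Ux x, hUx x⟩, ex x⟩ : Idx) ∈ S0 :=
      Finset.mem_union_right _ (Finset.mem_image.mpr ⟨x, hx, rfl⟩)
    exact hmem _ h1
  obtain ⟨𝒯', jE, hT'⟩ : ∃ (𝒯' : RelProj.QCGrAlg Y) (jE : E ⟶ 𝒯'.toModule),
      RelProj.IsGrSymAlg E 𝒯' jE := ⟨symGrAlg E, symJ E, isGrSymAlg E⟩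
  obtain ⟨ψ, hψj, hψstr, hψg⟩ := exists_psi hT' hF1 ιE
  have hE1 : ∀ (U : Y.Opens) (hU : IsAffineOpen U) (x : Γ(E, U)),
      QA.sec jE U x ∈ 𝒯'.deg U hU 1 := fun U hU x => hT'.2 U hU x
  let u' : RelProj.QGrHom q 𝒯' 𝒮L := compQ u ψ hψg
  have hvw : ∀ U : Y.Opens, u'.app U = ψ.hom.app (op U) ≫ u.app U := fun U => rfl
  have hu' : ∀ (U : Y.Opens) (x : Γ(E, U)),
      (u'.app U).hom ((jE.app U) x) = (u.app U).hom ((jF.app U) ((ιE.app U) x)) := by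
    intro U x
    show (u.app U).hom ((ψ.hom.app (op U)).hom (QA.sec jE U x)) = _
    rw [hψj U x]
    rfl
  -- lifts
  have hl : ∀ a : {a // a ∈ Fin0}, ∃ y ∈ 𝒯'.deg (U a.1) (hU a.1) (n a.1),
      (ψ.hom.app (op (U a.1))).hom y = s a.1 := by
    intro a
    refine exists_lift_of_gen hE1 ιE ψ hψj (U a.1) (hU a.1) _ ?_ (n a.1) (s a.1) (hTsg a.1)
    intro t ht
    exact hmem0 a.1 a.2 t (Or.inl (Finset.mem_coe.mp ht))
  choose sM hsM hψsM using hl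
  have hl' : ∀ a ∈ Fin0, ∀ g ∈ G a, ∃ y ∈ 𝒯'.deg (U a) (hU a) (m a g * n a),
      (ψ.hom.app (op (U a))).hom y = s' a g := by
    intro a ha g hg
    refine exists_lift_of_gen hE1 ιE ψ hψj (U a) (hU a) _ ?_ (m a g * n a) (s' a g) (hTsg' a g)
    intro t ht
    exact hmem0 a ha t (Or.inr ⟨g, hg, Finset.mem_coe.mp ht⟩)
  have hvs : ∀ a : {a // a ∈ Fin0}, (u'.appLE (U a.1) (XT a.1) (hXT a.1)).hom (sM a) =
      (u.appLE (U a.1) (XT a.1) (hXT a.1)).hom (s a.1) := by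
    intro a
    rw [appLE_factor u' u ψ hvw (U a.1) (XT a.1) (hXT a.1) (sM a), hψsM a]
  have hfam' : Fam u' := by
    refine ⟨{a // a ∈ Fin0}, fun a => U a.1, fun a => hU a.1, fun a => n a.1, sM,
      fun a => XT a.1, fun a => hXT a.1, fun a => ⟨(hns a.1).1, hsM a⟩, ?_, ?_,
      fun a => hT a.1, ?_⟩
    · intro a
      rw [XFU_factor u' u ψ hvw (U a.1) (n a.1) (sM a), hψsM a]
      exact hXTeq a.1
    · rw [eq_top_iff]
      intro x _
      obtain ⟨a, ha⟩ := Set.mem_iUnion.mp (hFin0 (Set.mem_univ x))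
      obtain ⟨haF, hxa⟩ := Set.mem_iUnion.mp ha
      exact Opens.mem_iSup.mpr ⟨⟨a, haF⟩, hxa⟩
    · intro a t₀
      refine cond_of_gens u' (U a.1) (hU a.1) (n a.1) (sM a) (hsM a) (XT a.1) (hXT a.1)
        ((G a.1 : Finset _) : Set (X.presheaf.obj (op (XT a.1)))) (hG a.1) ?_ t₀
      intro g hg
      have hgG : g ∈ G a.1 := hg
      obtain ⟨y, hy, ey⟩ := hl' a.1 a.2 g hgG
      refine ⟨m a.1 g, hm a.1 g, y, hy, ?_⟩
      rw [hvs a, appLE_factor u' u ψ hvw (U a.1) (XT a.1) (hXT a.1) y, ey]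
      exact e a.1 g
  refine ⟨E, hEq, hEft, ιE, fun U => Groth.Agent.H3.ZClosLib.app_injective_of_mono ιE U,
    𝒯', jE, hT', u', hu', ?_, ?_⟩
  · intro x
    obtain ⟨z, hzZ, hxz⟩ := Set.mem_iUnion₂.mp (hFin1 (Set.mem_univ x))
    obtain ⟨y, hy⟩ := hmem1 z hzZ
    refine ⟨Ux z, hUx z, y, Vx z, hVx z, hVUx z, hxz, ?_⟩
    have h1 : (u'.appLE (Ux z) (Vx z) (hVUx z)).hom (QA.sec jE (Ux z) y) =
        (u.appLE (Ux z) (Vx z) (hVUx z)).hom (QA.sec jF (Ux z) (ex z)) := by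
      rw [appLE_factor u' u ψ hvw (Ux z) (Vx z) (hVUx z)]
      have h2 := hψj (Ux z) y
      rw [hy] at h2
      exact congrArg (fun t => (u.appLE (Ux z) (Vx z) (hVUx z)).hom t) h2
    have h3 := hsubx z
    show _ ⊆ ((Ideal.span {(u'.appLE (Ux z) (Vx z) (hVUx z)).hom (QA.sec jE (Ux z) y)} :
      Ideal (𝒮L.presheaf.obj (op (Vx z)))) : Set (𝒮L.presheaf.obj (op (Vx z))))
    rw [h1]
    exact h3
  · intro P' p' chart' hP' r' hr'
    exact (imm_iff_family q L hL hLq 𝒯' 𝒮L jL hjL u' p' chart' hP' pL chartL hPL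
      r' hr').mpr hfam'

end MainMp

section MainIff

variable {X Y P PL : Scheme.{u}}

theorem main (hYs : (CompactSpace Y ∧ Y.IsSeparated) ∨ NoetherianSpace Y)
    (q : X ⟶ Y) [QuasiCompact q] [LocallyOfFiniteType q]
    (L : X.Modules) (hL : PicF.IsInvertible L) (hLq : Coh.IsQCoh L)
    (𝒮L : RelProj.QCGrAlg X) (jL : L ⟶ 𝒮L.toModule) (hjL : RelProj.IsGrSymAlg L 𝒮L jL)
    (pL : PL ⟶ X) (chartL : ∀ (U : X.Opens) (hU : IsAffineOpen U), (((pL ⁻¹ᵁ U : PL.Opens) : Scheme.{u}) ≅ Proj (𝒮L.deg U hU)))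
    (hPL : RelProj.IsRelProj 𝒮L pL chartL)
    (F : Y.Modules) (hFq : Coh.IsQCoh F) (𝒯 : RelProj.QCGrAlg Y) (jF : F ⟶ 𝒯.toModule) (h𝒯 : RelProj.IsGrSymAlg F 𝒯 jF)
    (u : RelProj.QGrHom q 𝒯 𝒮L)
    (hsurj : ∀ x : X, ∃ (U : Y.Opens) (hU : IsAffineOpen U) (e : Γ(F, U)) (V : X.Opens) (hV : IsAffineOpen V)
        (hVU : V ≤ q ⁻¹ᵁ U), x ∈ V ∧
          ((𝒮L.deg V hV 1 : AddSubgroup (𝒮L.presheaf.obj (op V))) : Set (𝒮L.presheaf.obj (op V))) ⊆
              (Ideal.span {(u.appLE U V hVU).hom ((jF.app U) e)} : Set (𝒮L.presheaf.obj (op V))))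
    (p : P ⟶ Y) (chart : ∀ (U : Y.Opens) (hU : IsAffineOpen U), (((p ⁻¹ᵁ U : P.Opens) : Scheme.{u}) ≅ Proj (𝒯.deg U hU)))
    (hP : RelProj.IsRelProj 𝒯 p chart)
    (r : ((RelProj.domQ u pL chartL : PL.Opens) : Scheme.{u}) ⟶ P)
    (hr : RelProj.IsProjQMapOn u p chart pL chartL (RelProj.domQ u pL chartL) r) :
    IsImmersion r ↔
      ∃ (E : Y.Modules) (_ : Coh.IsQCoh E) (_ : CohB1.IsFT E) (ι : E ⟶ F) (_ : ∀ U : Y.Opens, Function.Injective (ι.app U))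
        (𝒯' : RelProj.QCGrAlg Y) (jE : E ⟶ 𝒯'.toModule) (_ : RelProj.IsGrSymAlg E 𝒯' jE)
        (u' : RelProj.QGrHom q 𝒯' 𝒮L)
        (_ : ∀ (U : Y.Opens) (x : Γ(E, U)), (u'.app U).hom ((jE.app U) x) = (u.app U).hom ((jF.app U) ((ι.app U) x))),
        (∀ x : X, ∃ (U : Y.Opens) (hU : IsAffineOpen U) (e : Γ(E, U)) (V : X.Opens) (hV : IsAffineOpen V)
            (hVU : V ≤ q ⁻¹ᵁ U), x ∈ V ∧
              ((𝒮L.deg V hV 1 : AddSubgroup (𝒮L.presheaf.obj (op V))) : Set (𝒮L.presheaf.obj (op V))) ⊆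
              (Ideal.span {(u'.appLE U V hVU).hom ((jE.app U) e)} : Set (𝒮L.presheaf.obj (op V)))) ∧
        ∀ (P' : Scheme.{u}) (p' : P' ⟶ Y)
            (chart' : ∀ (U : Y.Opens) (hU : IsAffineOpen U), (((p' ⁻¹ᵁ U : P'.Opens) : Scheme.{u}) ≅ Proj (𝒯'.deg U hU)))
            (_ : RelProj.IsRelProj 𝒯' p' chart')
            (r' : ((RelProj.domQ u' pL chartL : PL.Opens) : Scheme.{u}) ⟶ P')
            (_ : RelProj.IsProjQMapOn u' p' chart' pL chartL (RelProj.domQ u' pL chartL) r'),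
          RelProj.domQ u' pL chartL = ⊤ ∧ IsImmersion r' := by
  constructor
  · intro himm
    exact main_mp hYs q L hL hLq 𝒮L jL hjL pL chartL hPL F hFq 𝒯 jF h𝒯 u hsurj p chart hP r hr himm
  · rintro ⟨E, hEq, -, ι, -, 𝒯', jE, hT', u', hu', -, H⟩
    exact main_mpr q L hL hLq 𝒮L jL hjL pL chartL hPL F hFq 𝒯 jF h𝒯 u p chart hP r hr E hEq ι 𝒯' jE
      hT' u' hu' H

end MainIff

end

end Groth.Agent.H4.VAFTIff
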