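import Mathlib
import Groth.Agent.H4.PBLoc4
import Groth.Agent.H4.FTImm3
import Groth.Agent.H4.SymPull
import Groth.Agent.H4.TensVA
import Groth.Agent.H4.PBEx4
import Groth.Agent.H4.ProjPhi
import Groth.Agent.Lib.Helper5.Lim.ModuleExactFlat
import Groth.Agent.Lib.Helper3.ZClosLib
import Groth.Agent.S8259

set_option autoImplicit false
set_option linter.style.haveILetI false
set_option linter.unusedSectionVars false
set_option linter.unusedVariables false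

namespace Groth.Agent.H4.VAFTSub

open CategoryTheory CategoryTheory.Limits AlgebraicGeometry TopologicalSpace Opposite
open Groth.Agent.LD.QC Groth.Agent.H6 Groth.Agent.H6.Sym Groth.Agent.H4.PBundle Groth.Agent.H4.PBundle2
open Groth.Agent.H4.PBLoc Groth.Agent.H4.PBLoc4
open Groth.Agent.H4.ProjSymL Groth.Agent.H4.ProjSymL2 Groth.Agent.H4.ProjSymL6
open Groth.Agent.H4.ProjPhi Groth.Agent.H4.PBEx2 Groth.Agent.H4.PBEx4 Groth.Agent.H4.SymPull
open Groth.Agent.H4.ProjBC2 Groth.Agent.H4.TensVA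
open scoped HomogeneousIdeal

universe u

noncomputable section

section QG

variable {X Y : Scheme.{u}} (q : X ⟶ Y) (L : X.Modules)
  (𝒮L : RelProj.QCGrAlg X) (jL : L ⟶ 𝒮L.toModule)
  (E : Y.Modules) [E.IsQuasicoherent] (ι : E ⟶ (Scheme.Modules.pushforward q).obj L)

/-- the map `q^* E ⟶ L ⟶ 𝒮L` adjoint to `ι : E ⟶ q_* L`. -/
def jPull : (Scheme.Modules.pullback q).obj E ⟶ 𝒮L.toModule :=
  ((Scheme.Modules.pullbackPushforwardAdjunction q).homEquiv E L).symm ι ≫ jL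

/-- the graded `q`-morphism `Sym(E) ⟶ q_* 𝒮L` extending `ι : E ⟶ q_* L`. -/
def uOf (hjL1 : ∀ (V : X.Opens) (hV : IsAffineOpen V) (m : Γ(L, V)), (jL.app V) m ∈ 𝒮L.deg V hV 1) :
    RelProj.QGrHom q (symGrAlg E) 𝒮L :=
  mkQGrHom q (symGrAlg E) 𝒮L (symPull q E 𝒮L.toQCAlg (jPull q L 𝒮L jL E ι) (isGrSymAlg E).1)
    (symPull_str q E 𝒮L.toQCAlg (jPull q L 𝒮L jL E ι) (isGrSymAlg E).1)
    (fun U hU U' hU' hle d x hx =>
      symPull_mem q E (isGrSymAlg E) (fun V hV m => hjL1 V hV _) U hU U' hU' hle hx)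

lemma uOf_sec (hjL1 : ∀ (V : X.Opens) (hV : IsAffineOpen V) (m : Γ(L, V)), (jL.app V) m ∈ 𝒮L.deg V hV 1)
    (U : Y.Opens) (x : Γ(E, U)) :
    ((uOf q L 𝒮L jL E ι hjL1).app U).hom (QA.sec (symJ E) U x) =
      QA.sec jL (q ⁻¹ᵁ U) (show Γ(L, q ⁻¹ᵁ U) from ι.app U x) := by
  have h1 := symPull_sec q E 𝒮L.toQCAlg (jPull q L 𝒮L jL E ι) (isGrSymAlg E).1 U x
  refine h1.trans ?_
  have h2 := homEquiv_symm_unitSec q ι U x
  show QA.sec jL (q ⁻¹ᵁ U) ((((Scheme.Modules.pullbackPushforwardAdjunction q).homEquiv E L).symm ι).app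
    (q ⁻¹ᵁ U) (unitSec q E U x)) = _
  rw [h2]

end QG

section Main

/-- `lsec` of the canonical section equals the adjoint of `alpha ≫ θ`. -/
lemma homEquiv_alpha_app {Y P X : Scheme.{u}} {p : P ⟶ Y}
    {O1 : P.Modules} {E : Y.Modules} [E.IsQuasicoherent]
    (φ : E ⟶ (Scheme.Modules.pushforward p).obj O1) (i : X ⟶ P) {L : X.Modules}
    (θ : (Scheme.Modules.pullback i).obj O1 ≅ L) (U : Y.Opens) (e : Γ(E, U)) :
    (show Γ(L, (i ≫ p) ⁻¹ᵁ U) from
      (((Scheme.Modules.pullbackPushforwardAdjunction (i ≫ p)).homEquiv E L)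
        (alpha φ (i ≫ p) i rfl ≫ θ.hom)).app U e) = lsec i θ U (φ.app U e) := by
  have h2 := homEquiv_symm_unitSec (i ≫ p)
    (((Scheme.Modules.pullbackPushforwardAdjunction (i ≫ p)).homEquiv E L)
        (alpha φ (i ≫ p) i rfl ≫ θ.hom)) U e
  rw [Equiv.symm_apply_apply] at h2
  refine h2.symm.trans ?_
  have h3 : unitSec (i ≫ p) E U e = pbSec (i ≫ p) E (le_refl ((i ≫ p) ⁻¹ᵁ U)) e := by
    unfold pbSec
    exact (res_self _ _ _).symm
  rw [h3]
  show θ.hom.app _ ((alpha φ (i ≫ p) i rfl).app _ (pbSec (i ≫ p) E _ e)) = _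
  rw [alpha_app_pbSec φ (i ≫ p) i rfl U e _ le_rfl le_rfl]
  rfl

theorem main {X Y PL : Scheme.{u}}
    (hYs : (CompactSpace Y ∧ Y.IsSeparated) ∨ NoetherianSpace Y) (q : X ⟶ Y) [QuasiCompact q] [LocallyOfFiniteType q]
    (L : X.Modules) (hL : PicF.IsInvertible L) (hLq : Coh.IsQCoh L)
    (𝒮L : RelProj.QCGrAlg X) (jL : L ⟶ 𝒮L.toModule) (hjL : RelProj.IsGrSymAlg L 𝒮L jL)
    (pL : PL ⟶ X) (chartL : ∀ (U : X.Opens) (hU : IsAffineOpen U), (((pL ⁻¹ᵁ U : PL.Opens) : Scheme.{u}) ≅ Proj (𝒮L.deg U hU)))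
    (hPL : RelProj.IsRelProj 𝒮L pL chartL)
    (h : RelProj.IsRelVeryAmple q L) :
    ∃ (E : Y.Modules) (_ : Coh.IsQCoh E) (_ : CohB1.IsFT E) (ι : E ⟶ (Scheme.Modules.pushforward q).obj L)
      (_ : ∀ U : Y.Opens, Function.Injective (ι.app U))
      (𝒯 : RelProj.QCGrAlg Y) (jE : E ⟶ 𝒯.toModule) (_ : RelProj.IsGrSymAlg E 𝒯 jE)
      (u : RelProj.QGrHom q 𝒯 𝒮L)
      (_ : ∀ (U : Y.Opens) (x : Γ(E, U)), (u.app U).hom ((jE.app U) x) = (jL.app (q ⁻¹ᵁ U)) ((ι.app U) x)),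
      (∀ x : X, ∃ (U : Y.Opens) (hU : IsAffineOpen U) (e : Γ(E, U)) (V : X.Opens) (hV : IsAffineOpen V)
          (hVU : V ≤ q ⁻¹ᵁ U), x ∈ V ∧
            ((𝒮L.deg V hV 1 : AddSubgroup (𝒮L.presheaf.obj (op V))) : Set (𝒮L.presheaf.obj (op V))) ⊆
              (Ideal.span {(u.appLE U V hVU).hom ((jE.app U) e)} : Set (𝒮L.presheaf.obj (op V)))) ∧
      ∀ (P : Scheme.{u}) (p : P ⟶ Y)
          (chart : ∀ (U : Y.Opens) (hU : IsAffineOpen U), (((p ⁻¹ᵁ U : P.Opens) : Scheme.{u}) ≅ Proj (𝒯.deg U hU)))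
          (_ : RelProj.IsRelProj 𝒯 p chart)
          (r : ((RelProj.domQ u pL chartL : PL.Opens) : Scheme.{u}) ⟶ P)
          (_ : RelProj.IsProjQMapOn u p chart pL chartL (RelProj.domQ u pL chartL) r),
        RelProj.domQ u pL chartL = ⊤ ∧ IsImmersion r := by
  classical
  haveI : L.IsQuasicoherent := hLq
  obtain ⟨E', 𝒯', j', P', p', chart', O1', lam', i, hE'q, hE'ft, hj', hP', hO1', himm, hi, ⟨θ0⟩⟩ :=
    Groth.Agent.H4.FTImm3.main hYs q L hL h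
  subst hi
  haveI : E'.IsQuasicoherent := hE'q
  haveI : IsImmersion i := himm
  haveI : IsSeparated p' := Groth.Agent.S8259.result 𝒯' p' chart' hP'
  haveI : IsSeparated (i ≫ p') := inferInstance
  haveI : QuasiSeparated (i ≫ p') := inferInstance
  have hqL : ((Scheme.Modules.pushforward (i ≫ p')).obj L).IsQuasicoherent := qc_pushforward (i ≫ p') L
  let θ : (Scheme.Modules.pullback i).obj O1' ≅ L := θ0.symm
  let φ' : E' ⟶ (Scheme.Modules.pushforward p').obj O1' := phi hP' hO1' j' hj'.2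
  have hφ' : ∀ (U : Y.Opens) (hU : IsAffineOpen U) (e : Γ(E', U)),
      Groth.Agent.H4.PBLoc.Reads lam' U hU (QA.sec j' U e) (φ'.app U e) :=
    fun U hU e => phi_reads hP' hO1' j' hj'.2 U hU e
  let s' : (Scheme.Modules.pullback (i ≫ p')).obj E' ⟶ L := alpha φ' (i ≫ p') i rfl ≫ θ.hom
  haveI : Epi (alpha φ' (i ≫ p') i rfl) := epi_alpha hE'q hj' hP' hO1' φ' hφ' (i ≫ p') i rfl
  haveI : Epi s' := epi_comp _ _
  let φb : E' ⟶ (Scheme.Modules.pushforward (i ≫ p')).obj L :=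
    ((Scheme.Modules.pullbackPushforwardAdjunction (i ≫ p')).homEquiv E' L) s'
  have hφb : ∀ (U : Y.Opens) (e : Γ(E', U)),
      (show Γ(L, (i ≫ p') ⁻¹ᵁ U) from φb.app U e) = lsec i θ U (φ'.app U e) :=
    fun U e => homEquiv_alpha_app φ' i θ U e
  let E : Y.Modules := Limits.image φb
  let ι : E ⟶ (Scheme.Modules.pushforward (i ≫ p')).obj L := Limits.image.ι φb
  let π : E' ⟶ E := factorThruImage φb
  have hπι : π ≫ ι = φb := Limits.image.fac φb
  haveI hEq : E.IsQuasicoherent := Groth.Agent.H5.Lim.qc_image φb hE'q hqL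
  have hEft : E.IsFiniteType := Groth.Agent.H5.Lim.isFiniteType_image φb hE'q hqL hE'ft
  haveI : Mono ι := inferInstanceAs (Mono (Limits.image.ι φb))
  have hjL1 : ∀ (V : X.Opens) (hV : IsAffineOpen V) (m : Γ(L, V)), (jL.app V) m ∈ 𝒮L.deg V hV 1 :=
    fun V hV m => hjL.2 V hV m
  let u : RelProj.QGrHom (i ≫ p') (symGrAlg E) 𝒮L := uOf (i ≫ p') L 𝒮L jL E ι hjL1
  have hu : ∀ (U : Y.Opens) (x : Γ(E, U)),
      (u.app U).hom (((symJ E).app U) x) = (jL.app ((i ≫ p') ⁻¹ᵁ U)) ((ι.app U) x) :=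
    fun U x => uOf_sec (i ≫ p') L 𝒮L jL E ι hjL1 U x
  have hπapp : ∀ (U : Y.Opens) (e : Γ(E', U)), ι.app U (π.app U e) = φb.app U e := by
    intro U e
    have := congrArg (fun t : E' ⟶ _ => t.app U e) hπι
    exact this
  have hlift : HLift1 j' lam' θ jL u := by
    intro U hU e
    refine ⟨φ'.app U e, hφ' U hU e, QA.sec (symJ E) U (π.app U e), (isGrSymAlg E).2 U hU _, ?_⟩
    refine (hu U (π.app U e)).trans ?_
    have h1 := hπapp U e
    have h2 := hφb U e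
    show QA.sec jL ((i ≫ p') ⁻¹ᵁ U) (show Γ(L, (i ≫ p') ⁻¹ᵁ U) from ι.app U (π.app U e)) = _
    rw [h1]
    exact congrArg (QA.sec jL ((i ≫ p') ⁻¹ᵁ U)) h2
  refine ⟨E, hEq, hEft, ι, fun U => Groth.Agent.H3.ZClosLib.app_injective_of_mono ι U,
    symGrAlg E, symJ E, isGrSymAlg E, u, hu, ?_, ?_⟩
  · intro x
    obtain ⟨U, hU, hxU, -⟩ := Opens.isBasis_iff_nbhd.mp Y.isBasis_affineOpens
      (show (i ≫ p').base x ∈ (⊤ : Y.Opens) from trivial)
    replace hU : IsAffineOpen U := hU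
    obtain ⟨e, V, hV, hVU, hxV, hb⟩ := exists_basis_of_epi (i ≫ p') s' hL x U hU hxU
    refine ⟨U, hU, π.app U e, V, hV, hVU, hxV, ?_⟩
    obtain ⟨N1, -⟩ := exists_N hjL V hV _ hb
    intro y hy
    obtain ⟨c, rfl⟩ := N1 1 y hy
    show _ ∈ Ideal.span _
    rw [Ideal.mem_span_singleton']
    refine ⟨(𝒮L.str.app (op V)).hom c, ?_⟩
    rw [pow_one]
    congr 1
    -- u (jE (π e)) restricted to V is jL of the basis
    have h1 : (u.app U).hom (((symJ E).app U) (π.app U e)) =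
        (jL.app ((i ≫ p') ⁻¹ᵁ U)) ((ι.app U) (π.app U e)) := hu U (π.app U e)
    have h2 : (u.appLE U V hVU).hom (((symJ E).app U) (π.app U e)) =
        (𝒮L.presheaf.map (homOfLE hVU).op).hom
          ((jL.app ((i ≫ p') ⁻¹ᵁ U)) ((ι.app U) (π.app U e))) :=
      congrArg (𝒮L.presheaf.map (homOfLE hVU).op).hom h1
    refine h2.trans ?_
    have h3 := hπapp U e
    have h4 : (show Γ(L, (i ≫ p') ⁻¹ᵁ U) from φb.app U e) = sig (i ≫ p') s' U e := by
      have h5 := homEquiv_symm_unitSec (i ≫ p') φb U e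
      have h6 : ((Scheme.Modules.pullbackPushforwardAdjunction (i ≫ p')).homEquiv E' L).symm φb = s' :=
        Equiv.symm_apply_apply _ _
      rw [h6] at h5
      refine h5.symm.trans ?_
      unfold sig pbSec
      congr 1
      exact (res_self _ _ _).symm
    show (𝒮L.presheaf.map (homOfLE hVU).op).hom
      (QA.sec jL ((i ≫ p') ⁻¹ᵁ U) (show Γ(L, (i ≫ p') ⁻¹ᵁ U) from ι.app U (π.app U e))) = _
    rw [h3, h4, QA.sec_res jL hVU]
  · intro P p chart hP r hr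
    exact main' chartL u chart hL hLq hjL hP hPL r hr hj' hP' hO1' hlift himm

end Main

end

end Groth.Agent.H4.VAFTSub
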