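import Mathlib
import Groth.Agent.H4.PBLoc3
import Groth.Agent.H4.PullO1
import Groth.Agent.H4.PBEx4
import Groth.Agent.H4.ProjPhi
import Groth.Agent.S8284

set_option autoImplicit false
set_option linter.style.haveILetI false
set_option linter.unusedSectionVars false
set_option linter.unusedVariables false

namespace Groth.Agent.H4.VAGenOne

open CategoryTheory CategoryTheory.Limits AlgebraicGeometry TopologicalSpace Opposite
open Groth.Agent.LD.QC Groth.Agent.H4.PBundle Groth.Agent.H4.PBundle2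
open Groth.Agent.H4.ProjSymL Groth.Agent.H4.ProjSymL2 Groth.Agent.H4.ProjSymL6
open Groth.Agent.H4.ProjQ Groth.Agent.H4.ProjPhi
open scoped HomogeneousIdeal

universe u

noncomputable section

/-- `L ≅ (pL⁻¹)^* O_{PL}(1)` on `PL = P(L) ≅ X`. -/
theorem nonempty_iso_inv_pullback {X PL : Scheme.{u}} (L : X.Modules) (hL : PicF.IsInvertible L)
    (hLq : Coh.IsQCoh L)
    (𝒮L : RelProj.QCGrAlg X) (jL : L ⟶ 𝒮L.toModule) (hjL : RelProj.IsGrSymAlg L 𝒮L jL)
    (pL : PL ⟶ X) (chartL : ∀ (U : X.Opens) (hU : IsAffineOpen U),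
      (((pL ⁻¹ᵁ U : PL.Opens) : Scheme.{u}) ≅ Proj (𝒮L.deg U hU)))
    (hPL : RelProj.IsRelProj 𝒮L pL chartL) [IsIso pL] (O1L : PL.Modules)
    (lamL : ∀ (U : X.Opens) (hU : IsAffineOpen U),
      O1L ⟶ (Scheme.Modules.pushforward (RelProj.emb pL chartL U hU)).obj
        (GrTwist.twist (𝒮L.deg U hU) 1))
    (hO1L : RelProj.IsRelTwist 𝒮L pL chartL 1 O1L lamL) :
    Nonempty ((Scheme.Modules.pullback (inv pL)).obj O1L ≅ L) := by
  haveI : L.IsQuasicoherent := hLq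
  let s : (Scheme.Modules.pullback (𝟙 X)).obj L ⟶ L := (Scheme.Modules.pullbackId X).hom.app L
  haveI : IsIso s := inferInstance
  obtain ⟨r, ⟨hr, τ, -⟩, -⟩ := Groth.Agent.H4.PBEx4.main L hLq 𝒮L jL hjL pL chartL hPL O1L lamL
    hO1L (phi hPL hO1L jL hjL.2) (phi_reads hPL hO1L jL hjL.2) (𝟙 X) L hL s inferInstance
  have hr' : r = inv pL := by
    rw [← cancel_mono pL, hr, IsIso.inv_hom_id]
  subst hr'
  exact ⟨τ⟩

theorem main {X Y P PL : Scheme.{u}} (f : X ⟶ Y) [QuasiCompact f]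
    (L : X.Modules) (hL : PicF.IsInvertible L) (hLq : Coh.IsQCoh L)
    (𝒮L : RelProj.QCGrAlg X) (jL : L ⟶ 𝒮L.toModule) (hjL : RelProj.IsGrSymAlg L 𝒮L jL)
    (pL : PL ⟶ X) (chartL : ∀ (U : X.Opens) (hU : IsAffineOpen U), (((pL ⁻¹ᵁ U : PL.Opens) : Scheme.{u}) ≅ Proj (𝒮L.deg U hU)))
    (hPL : RelProj.IsRelProj 𝒮L pL chartL)
    (𝒜 : RelProj.QCGrAlg Y) (h1 : 𝒜.IsGenDegOne)
    (u : RelProj.QGrHom f 𝒜 𝒮L)
    (hsurj : ∀ x : X, ∃ (U : Y.Opens) (hU : IsAffineOpen U) (e : 𝒜.presheaf.obj (op U)) (_ : e ∈ 𝒜.deg U hU 1)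
        (V : X.Opens) (hV : IsAffineOpen V) (hVU : V ≤ f ⁻¹ᵁ U), x ∈ V ∧
          ((𝒮L.deg V hV 1 : AddSubgroup (𝒮L.presheaf.obj (op V))) : Set (𝒮L.presheaf.obj (op V))) ⊆
            (Ideal.span {(u.appLE U V hVU).hom e} : Set (𝒮L.presheaf.obj (op V))))
    (p : P ⟶ Y) (chart : ∀ (U : Y.Opens) (hU : IsAffineOpen U), (((p ⁻¹ᵁ U : P.Opens) : Scheme.{u}) ≅ Proj (𝒜.deg U hU)))
    (hP : RelProj.IsRelProj 𝒜 p chart)
    (r : ((RelProj.domQ u pL chartL : PL.Opens) : Scheme.{u}) ⟶ P)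
    (hr : RelProj.IsProjQMapOn u p chart pL chartL (RelProj.domQ u pL chartL) r)
    (himm : IsImmersion r) :
    RelProj.IsRelVeryAmple f L := by
  haveI : L.IsQuasicoherent := hLq
  have hdom : RelProj.domQ u pL chartL = ⊤ := by
    rw [eq_top_iff]
    intro x' _
    obtain ⟨U, hU, e, he, V, hV, hVU, hxV, hsub⟩ := hsurj (pL.base x')
    exact mem_domQ_of_mem_XFU u chart chartL hL hLq hjL hP hPL r hr U hU one_pos e he x'
      ((mem_XFU u U 1 e _).mpr ⟨V, hV, hVU, hxV, hsub⟩)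
  haveI hι : IsIso (RelProj.domQ u pL chartL).ι := isIso_ι_of_eq_top _ hdom
  haveI : IsIso pL := main_S12143 L hL hLq 𝒮L jL hjL pL chartL hPL
  let r' : PL ⟶ P := inv (RelProj.domQ u pL chartL).ι ≫ r
  have hraq := (isProjQMapOn_iff u p chart pL chartL r).mp hr
  have hr' : RelProj.IsProjQMap u p chart pL chartL r' := by
    refine ⟨hdom, fun U hU U' hU' hle d hd g hg => ?_⟩
    have h2 := hraq U hU U' hU' hle d hd g hg
    have h3 := aq_ι u pL chartL U hU U' hU' hle hd g hg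
    show RelProj.awayEmb u pL chartL U hU U' hU' hle hd g hg ≫
      inv (RelProj.domQ u pL chartL).ι ≫ r = _
    rw [← h3, Category.assoc, IsIso.hom_inv_id_assoc, h2]
    rfl
  have hover : r ≫ p = (RelProj.domQ u pL chartL).ι ≫ pL ≫ f :=
    v_over u p chart pL chartL hP hPL r hraq
  let i : X ⟶ P := inv pL ≫ r'
  have hi : i ≫ p = f := by
    show (inv pL ≫ inv (RelProj.domQ u pL chartL).ι ≫ r) ≫ p = f
    rw [Category.assoc, Category.assoc, hover, IsIso.inv_hom_id_assoc, IsIso.inv_hom_id_assoc]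
  haveI : IsImmersion r := himm
  haveI : IsImmersion i := by
    show IsImmersion (inv pL ≫ inv (RelProj.domQ u pL chartL).ι ≫ r)
    infer_instance
  obtain ⟨O1, lam, hO1⟩ := Groth.Agent.S8284.result 𝒜 p chart hP 1
  obtain ⟨O1L, lamL, hO1L⟩ := Groth.Agent.S8284.result 𝒮L pL chartL hPL 1
  obtain ⟨κ⟩ := Groth.Agent.H4.PullO1.nonempty_pullback_iso_of_isProjQMap hP hPL hO1 hO1L hr' h1
  obtain ⟨τ⟩ := nonempty_iso_inv_pullback L hL hLq 𝒮L jL hjL pL chartL hPL O1L lamL hO1L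
  have e : L ≅ (Scheme.Modules.pullback i).obj O1 :=
    τ.symm ≪≫ (Scheme.Modules.pullback (inv pL)).mapIso κ.symm ≪≫
      (Scheme.Modules.pullbackComp (inv pL) r').app O1
  exact veryAmple_of_genDegOne f L 𝒜 h1 p chart hP O1 lam hO1 i hi e

end

end Groth.Agent.H4.VAGenOne
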