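import Mathlib
import Groth.Agent.H4.FTImm3
import Groth.Agent.Lib.Helper5.VAmple.Q
import Groth.Agent.Lib.Lead.QC.FinType

set_option autoImplicit false
set_option linter.style.haveILetI false
set_option linter.unusedSectionVars false
set_option linter.unusedVariables false

namespace Groth.Agent.H4.VAPn

open CategoryTheory CategoryTheory.Limits AlgebraicGeometry TopologicalSpace Opposite
open HomogeneousLocalization
open Groth.Agent.H6.Sym Groth.Agent.H6 Groth.Agent.LD.QC Groth.Agent.H4.PBundle Groth.Agent.H4.PBundle2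
open Groth.Agent.H4.PBundle3 Groth.Agent.H4.PBLoc Groth.Agent.H4.PBLoc2 Groth.Agent.H4.PBLoc3
open Groth.Agent.H4.ConeImm
open Groth.Agent.H4.FTImm1 Groth.Agent.H4.FTImm2
open Groth.Agent.H8.RelTwist
open scoped HomogeneousIdeal

universe u

noncomputable section

section Amk

variable {Y : Scheme.{u}} {𝒮 : RelProj.QCGrAlg Y}

lemma amk_congr (U : Y.Opens) (hU : IsAffineOpen U) (h : 𝒮.presheaf.obj (op U))
    (hh : h ∈ 𝒮.deg U hU 1) {n n' : ℕ} (hn : n = n') {c c' : 𝒮.presheaf.obj (op U)} (hcc : c = c')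
    (hc : c ∈ 𝒮.deg U hU n) (hc' : c' ∈ 𝒮.deg U hU n') :
    amk U hU h hh n c hc = amk U hU h hh n' c' hc' := by
  subst hn hcc; rfl

lemma amk_add (U : Y.Opens) (hU : IsAffineOpen U) (h : 𝒮.presheaf.obj (op U))
    (hh : h ∈ 𝒮.deg U hU 1) (n : ℕ) (a b : 𝒮.presheaf.obj (op U))
    (ha : a ∈ 𝒮.deg U hU n) (hb : b ∈ 𝒮.deg U hU n) :
    amk U hU h hh n (a + b) (add_mem ha hb) = amk U hU h hh n a ha + amk U hU h hh n b hb := by
  apply HomogeneousLocalization.val_injective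
  rw [HomogeneousLocalization.val_add]
  unfold amk
  rw [Away.val_mk, Away.val_mk, Away.val_mk, Localization.add_mk_self]

lemma amk_mul (U : Y.Opens) (hU : IsAffineOpen U) (h : 𝒮.presheaf.obj (op U))
    (hh : h ∈ 𝒮.deg U hU 1) (n m : ℕ) (a b : 𝒮.presheaf.obj (op U))
    (ha : a ∈ 𝒮.deg U hU n) (hb : b ∈ 𝒮.deg U hU m) :
    amk U hU h hh (n + m) (a * b) (SetLike.mul_mem_graded ha hb) =
      amk U hU h hh n a ha * amk U hU h hh m b hb := by
  apply HomogeneousLocalization.val_injective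
  rw [HomogeneousLocalization.val_mul]
  unfold amk
  rw [Away.val_mk, Away.val_mk, Away.val_mk, Localization.mk_mul]
  congr 1
  apply Subtype.ext
  exact pow_add h n m

lemma amk_zero (U : Y.Opens) (hU : IsAffineOpen U) (h : 𝒮.presheaf.obj (op U))
    (hh : h ∈ 𝒮.deg U hU 1) (n : ℕ) :
    amk U hU h hh n 0 (zero_mem _) = 0 := by
  apply HomogeneousLocalization.val_injective
  rw [HomogeneousLocalization.val_zero]
  unfold amk
  rw [Away.val_mk, Localization.mk_zero]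

end Amk

section Closure

variable {Y P : Scheme.{u}} {𝒮 : RelProj.QCGrAlg Y} {p : P ⟶ Y}
  {chart : ∀ (U : Y.Opens) (hU : IsAffineOpen U),
    (((p ⁻¹ᵁ U : P.Opens) : Scheme.{u}) ≅ Proj (𝒮.deg U hU))}
  {E : Y.Modules} [E.IsQuasicoherent] {j : E ⟶ 𝒮.toModule}

/-- the coordinate ring of `D₊(j e_k)` is generated by the base and the ratios `j e_l / j e_k`
when the `e_l` span `Γ(E, U)`. -/
theorem fn_mem_closure (hj : RelProj.IsGrSymAlg E 𝒮 j) (hP : RelProj.IsRelProj 𝒮 p chart)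
    (U : Y.Opens) (hU : IsAffineOpen U) {J : Type*} (e : J → Γ(E, U))
    (he : Submodule.span Γ(Y, U) (Set.range e) = ⊤) (k : J)
    (z : Away (𝒮.deg U hU) (QA.sec j U (e k))) :
    fn p chart U hU (QA.sec j U (e k)) z ∈ Subring.closure
      (Set.range (p.appLE U (Dp p chart U hU (QA.sec j U (e k)))
          (Dp_le p chart U hU (QA.sec j U (e k)))).hom ∪
        Set.range (fun l => fn p chart U hU (QA.sec j U (e k))
          (amk U hU (QA.sec j U (e k)) (hj.2 U hU (e k)) 1 (QA.sec j U (e l))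
            (hj.2 U hU (e l))))) := by
  have hh : QA.sec j U (e k) ∈ 𝒮.deg U hU 1 := hj.2 U hU (e k)
  generalize hR : Subring.closure
      (Set.range (p.appLE U (Dp p chart U hU (QA.sec j U (e k)))
          (Dp_le p chart U hU (QA.sec j U (e k)))).hom ∪
        Set.range (fun l => fn p chart U hU (QA.sec j U (e k))
          (amk U hU (QA.sec j U (e k)) (hj.2 U hU (e k)) 1 (QA.sec j U (e l))
            (hj.2 U hU (e l))))) = R
  have hstr : ∀ c : Γ(Y, U), fn p chart U hU (QA.sec j U (e k))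
      (amk U hU (QA.sec j U (e k)) hh 0 ((𝒮.str.app (op U)).hom c) (𝒮.str_mem U hU c)) ∈ R := by
    intro c
    have h1 := fn_str hP U hU (QA.sec j U (e k)) c
      (amk U hU (QA.sec j U (e k)) hh 0 ((𝒮.str.app (op U)).hom c) (𝒮.str_mem U hU c))
      (Away.val_mk _ _ _ _ _)
    rw [h1, ← hR]
    exact Subring.subset_closure (Or.inl ⟨c, rfl⟩)
  have hdeg1 : ∀ e' : Γ(E, U), fn p chart U hU (QA.sec j U (e k))
      (amk U hU (QA.sec j U (e k)) hh 1 (QA.sec j U e') (hj.2 U hU e')) ∈ R := by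
    intro e'
    have hmem : e' ∈ Submodule.span Γ(Y, U) (Set.range e) := by rw [he]; trivial
    induction hmem using Submodule.span_induction with
    | mem x hx =>
      obtain ⟨l, rfl⟩ := hx
      rw [← hR]
      exact Subring.subset_closure (Or.inr ⟨l, rfl⟩)
    | zero =>
      have h1 : amk U hU (QA.sec j U (e k)) hh 1 (QA.sec j U (0 : Γ(E, U))) (hj.2 U hU 0) = 0 :=
        (amk_congr U hU _ hh rfl (QA.sec_zero j U) _ (zero_mem _)).trans (amk_zero U hU _ hh 1)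
      rw [h1, map_zero]
      exact Subring.zero_mem R
    | add x y _ _ hx hy =>
      have h1 : amk U hU (QA.sec j U (e k)) hh 1 (QA.sec j U (x + y)) (hj.2 U hU (x + y)) =
          amk U hU (QA.sec j U (e k)) hh 1 (QA.sec j U x) (hj.2 U hU x) +
            amk U hU (QA.sec j U (e k)) hh 1 (QA.sec j U y) (hj.2 U hU y) :=
        (amk_congr U hU _ hh rfl (QA.sec_add j U x y) _
          (add_mem (hj.2 U hU x) (hj.2 U hU y))).trans (amk_add U hU _ hh 1 _ _ _ _)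
      rw [h1, map_add]
      exact Subring.add_mem R hx hy
    | smul c x _ hx =>
      have h1 : amk U hU (QA.sec j U (e k)) hh 1 (QA.sec j U (c • x)) (hj.2 U hU (c • x)) =
          amk U hU (QA.sec j U (e k)) hh 0 ((𝒮.str.app (op U)).hom c) (𝒮.str_mem U hU c) *
            amk U hU (QA.sec j U (e k)) hh 1 (QA.sec j U x) (hj.2 U hU x) :=
        (amk_congr U hU _ hh (zero_add 1).symm (QA.sec_smul j U c x) _
          (SetLike.mul_mem_graded (𝒮.str_mem U hU c) (hj.2 U hU x))).trans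
            (amk_mul U hU _ hh 0 1 _ _ _ _)
      rw [h1, map_mul]
      exact Subring.mul_mem R (hstr c) hx
  obtain ⟨n, c, hc, rfl⟩ := amk_surjective U hU (QA.sec j U (e k)) hh z
  have key := sym_induction hj U hU
    (fun n c => ∃ hc : c ∈ 𝒮.deg U hU n,
      fn p chart U hU (QA.sec j U (e k)) (amk U hU (QA.sec j U (e k)) hh n c hc) ∈ R)
    ?_ ?_ ?_ n c hc
  · obtain ⟨_, h1⟩ := key
    exact h1
  · intro c
    exact ⟨𝒮.str_mem U hU c, hstr c⟩
  · rintro n a b ⟨ha, ha'⟩ ⟨hb, hb'⟩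
    refine ⟨add_mem ha hb, ?_⟩
    rw [amk_add U hU _ hh n a b ha hb, map_add]
    exact Subring.add_mem R ha' hb'
  · rintro n e' a ⟨ha, ha'⟩
    have hmem : QA.sec j U e' * a ∈ 𝒮.deg U hU (n + 1) := by
      rw [add_comm]; exact SetLike.mul_mem_graded (hj.2 U hU e') ha
    refine ⟨hmem, ?_⟩
    have h1 : amk U hU (QA.sec j U (e k)) hh (n + 1) (QA.sec j U e' * a) hmem =
        amk U hU (QA.sec j U (e k)) hh 1 (QA.sec j U e') (hj.2 U hU e') *
          amk U hU (QA.sec j U (e k)) hh n a ha :=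
      (amk_congr U hU _ hh (add_comm n 1) rfl _
        (SetLike.mul_mem_graded (hj.2 U hU e') ha)).trans (amk_mul U hU _ hh 1 n _ _ _ _)
    rw [h1, map_mul]
    exact Subring.mul_mem R (hdeg1 e') ha'

/-- the `D₊(j e_k)` cover `p⁻¹ U` when the `e_k` span `Γ(E, U)`. -/
theorem exists_mem_Dp_of_span (hj : RelProj.IsGrSymAlg E 𝒮 j)
    (U : Y.Opens) (hU : IsAffineOpen U) {J : Type*} (e : J → Γ(E, U))
    (he : Submodule.span Γ(Y, U) (Set.range e) = ⊤) (x : P) (hx : p.base x ∈ U) :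
    ∃ k, x ∈ Dp p chart U hU (QA.sec j U (e k)) := by
  obtain ⟨z, rfl⟩ := exists_emb p chart x U hU hx
  obtain ⟨e₀, he₀⟩ := exists_sec_basicOpen hj U hU z
  by_contra hcon
  push_neg at hcon
  have hk : ∀ k, QA.sec j U (e k) ∈ (z : ProjectiveSpectrum (𝒮.deg U hU)).asHomogeneousIdeal := by
    intro k
    by_contra hk
    exact hcon k ⟨z, hk, rfl⟩
  have hall : ∀ e' : Γ(E, U),
      QA.sec j U e' ∈ (z : ProjectiveSpectrum (𝒮.deg U hU)).asHomogeneousIdeal := by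
    intro e'
    have hmem : e' ∈ Submodule.span Γ(Y, U) (Set.range e) := by rw [he]; trivial
    induction hmem using Submodule.span_induction with
    | mem x hx => obtain ⟨l, rfl⟩ := hx; exact hk l
    | zero => rw [QA.sec_zero]; exact zero_mem _
    | add x y _ _ hx hy => rw [QA.sec_add]; exact add_mem hx hy
    | smul c x _ hx => rw [QA.sec_smul]; exact Ideal.mul_mem_left _ _ hx
  exact he₀ (hall e₀)

end Closure

section Main

variable {Y P : Scheme.{u}} {𝒮 : RelProj.QCGrAlg Y} {p : P ⟶ Y}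
  {chart : ∀ (U : Y.Opens) (hU : IsAffineOpen U),
    (((p ⁻¹ᵁ U : P.Opens) : Scheme.{u}) ≅ Proj (𝒮.deg U hU))}
  {O1 : P.Modules}
  {lam : ∀ (U : Y.Opens) (hU : IsAffineOpen U),
    O1 ⟶ (Scheme.Modules.pushforward (RelProj.emb p chart U hU)).obj (GrTwist.twist (𝒮.deg U hU) 1)}
  {E : Y.Modules} [E.IsQuasicoherent] {j : E ⟶ 𝒮.toModule}

/-- an open of `p⁻¹ U` on which the section reading `h` is a basis lies in `D₊(h)`. -/
theorem le_Dp_of_isBasisOver (hO1 : RelProj.IsRelTwist 𝒮 p chart 1 O1 lam)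
    (hgen : 𝒮.IsGenDegOne) (U : Y.Opens) (hU : IsAffineOpen U) (h : 𝒮.presheaf.obj (op U))
    (hh : h ∈ 𝒮.deg U hU 1) (s : Γ(O1, p ⁻¹ᵁ U)) (hs : Groth.Agent.H4.PBLoc.Reads lam U hU h s)
    (W : P.Opens) (hW : W ≤ p ⁻¹ᵁ U)
    (hb : IsBasisOver O1 W (O1.presheaf.map (homOfLE hW).op s)) :
    W ≤ Dp p chart U hU h := by
  intro x hx
  obtain ⟨h₀, hh₀, hx₀⟩ := exists_degOne_mem_Dp (chart := chart) hgen U hU x (hW hx)
  obtain ⟨s₀, hs₀⟩ := exists_section_reads hO1 U hU h₀ hh₀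
  have eq := reads_res_eq_smul hO1 U hU h₀ h hh₀ hh s₀ s hs₀ hs
  have b₀ : IsBasisOver O1 (Dp p chart U hU h₀)
      (O1.presheaf.map (homOfLE (Dp_le p chart U hU h₀)).op s₀) :=
    isBasisOver_of_reads hO1 U hU h₀ hh₀ s₀ hs₀
  have b := hb.mono (inf_le_left : W ⊓ Dp p chart U hU h₀ ≤ W)
  have b₀' := b₀.mono (inf_le_right : W ⊓ Dp p chart U hU h₀ ≤ Dp p chart U hU h₀)
  rw [res_res] at b b₀'
  have eq' := congrArg (O1.presheaf.map
    (homOfLE (inf_le_right : W ⊓ Dp p chart U hU h₀ ≤ Dp p chart U hU h₀)).op) eq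
  rw [res_res, smul_res, res_res] at eq'
  rw [eq'] at b
  have hu := (b₀'.smul_iff _).mp b
  have hbo := P.basicOpen_of_isUnit hu
  have hxb : x ∈ P.basicOpen (fn p chart U hU h₀
      (Away.mk (𝒮.deg U hU) hh₀ 1 h (by simpa using hh))) := by
    have h1 : x ∈ P.basicOpen (P.presheaf.map
        (homOfLE (inf_le_right : W ⊓ Dp p chart U hU h₀ ≤ Dp p chart U hU h₀)).op
        (fn p chart U hU h₀ (Away.mk (𝒮.deg U hU) hh₀ 1 h (by simpa using hh)))) := by
      rw [hbo]; exact ⟨hx, hx₀⟩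
    rw [Scheme.basicOpen_res] at h1
    exact h1.2
  rw [basicOpen_fn p chart U hU h₀ h _ 1 (Away.val_mk _ _ _ _ _)] at hxb
  exact hxb.2

/-- **`P(E) ⟶ P^n_Y` is an immersion** for `E` quasi-coherent of finite type on an affine
scheme `Y`: finitely many global sections spanning `Γ(E)` give coordinates. -/
theorem exists_toPn_isImmersion [IsAffine Y] (hj : RelProj.IsGrSymAlg E 𝒮 j)
    (hP : RelProj.IsRelProj 𝒮 p chart) (hO1 : RelProj.IsRelTwist 𝒮 p chart 1 O1 lam)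
    (hFT : E.IsFiniteType) (hinv : PicF.IsInvertible O1) :
    ∃ (n : ℕ) (s : Fin (n + 1) → ProjUP.Γm O1) (hs : ProjUP.GeneratedBy O1 s),
      IsImmersion (Groth.Agent.H5.VAmple.toPn p O1 hinv s hs) := by
  classical
  have hgen : 𝒮.IsGenDegOne := genDegOne_of_isGrSymAlg hj
  have hS : IsAffineOpen (⊤ : Y.Opens) := isAffineOpen_top Y
  have hfin : Module.Finite Γ(Y, ⊤) Γ(E, ⊤) := finite_sections_of_isFiniteType E hFT hS
  obtain ⟨S0, hS0⟩ := Module.finite_def.mp hfin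
  let J := ↥(insert (0 : Γ(E, ⊤)) S0)
  haveI : Nonempty J := ⟨⟨0, Finset.mem_insert_self _ _⟩⟩
  let e : J → Γ(E, ⊤) := Subtype.val
  have he : Submodule.span Γ(Y, ⊤) (Set.range e) = ⊤ := by
    rw [eq_top_iff, ← hS0]
    apply Submodule.span_mono
    intro x hx
    exact ⟨⟨x, Finset.mem_insert_of_mem hx⟩, rfl⟩
  have htop : (⊤ : P.Opens) ≤ p ⁻¹ᵁ ⊤ := fun _ _ => trivial
  let sg : J → Γ(O1, p ⁻¹ᵁ ⊤) := fun k =>
    Groth.Agent.H4.ProjPhi.sec hO1 ⊤ hS (QA.sec j ⊤ (e k)) (hj.2 ⊤ hS (e k))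
  have hsg : ∀ k, Groth.Agent.H4.PBLoc.Reads lam ⊤ hS (QA.sec j ⊤ (e k)) (sg k) := fun k =>
    Groth.Agent.H4.ProjPhi.sec_reads hO1 ⊤ hS _ _
  let σ : J → ProjUP.Γm O1 := fun k => O1.presheaf.map (homOfLE htop).op (sg k)
  have hfam : ∀ x : P, ∃ (k : J) (V : Y.Opens) (U : P.Opens) (hUV : U ≤ p ⁻¹ᵁ V),
      IsAffineOpen V ∧ IsAffineOpen U ∧ x ∈ U ∧
      IsBasisOver O1 U (O1.presheaf.map (homOfLE (le_top : U ≤ ⊤)).op (σ k)) ∧
      CohB1.genLocus O1 (homOfSection O1 (σ k)) ⊓ p ⁻¹ᵁ V ≤ U ∧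
      ∃ T : Set Γ(P, U),
        (∀ b ∈ T, ∃ l : J, O1.presheaf.map (homOfLE (le_top : U ≤ ⊤)).op (σ l) =
          b • O1.presheaf.map (homOfLE (le_top : U ≤ ⊤)).op (σ k)) ∧
        Subring.closure (Set.range (p.appLE V U hUV).hom ∪ T) = ⊤ := ?_
  · obtain ⟨n, s, hs, himm, -⟩ :=
      Groth.Agent.H5.VAmple.exists_toPn_isImmersion_of_family p O1 hinv σ hfam
    exact ⟨n, s, hs, himm⟩
  intro x
  obtain ⟨k, hk⟩ := exists_mem_Dp_of_span (p := p) (chart := chart) hj ⊤ hS e he x trivial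
  have hhk := hj.2 ⊤ hS (e k)
  have hres : ∀ (W : P.Opens) (hW : W ≤ p ⁻¹ᵁ ⊤) (l : J),
      O1.presheaf.map (homOfLE (le_top : W ≤ ⊤)).op (σ l) =
        O1.presheaf.map (homOfLE hW).op (sg l) := fun W hW l => res_res O1 _ _ _
  refine ⟨k, ⊤, Dp p chart ⊤ hS (QA.sec j ⊤ (e k)), Dp_le p chart ⊤ hS _, hS,
    isAffineOpen_Dp p chart ⊤ hS _ Nat.one_pos hhk, hk, ?_, ?_,
    Set.range (fun l => fn p chart ⊤ hS (QA.sec j ⊤ (e k))
      (amk ⊤ hS _ hhk 1 (QA.sec j ⊤ (e l)) (hj.2 ⊤ hS (e l)))), ?_, ?_⟩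
  · rw [hres _ (Dp_le p chart ⊤ hS _)]
    exact isBasisOver_of_reads hO1 ⊤ hS _ hhk (sg k) (hsg k)
  · refine inf_le_left.trans ?_
    have hW : CohB1.genLocus O1 (homOfSection O1 (σ k)) ≤ p ⁻¹ᵁ ⊤ := fun _ _ => trivial
    apply le_Dp_of_isBasisOver hO1 hgen ⊤ hS _ hhk (sg k) (hsg k) _ hW
    have h1 := (le_genLocus_iff_isBasisOver O1 (homOfSection O1 (σ k)) _).mp le_rfl
    rw [val_homOfSection, hres _ hW] at h1
    exact h1
  · rintro b ⟨l, rfl⟩
    refine ⟨l, ?_⟩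
    rw [hres _ (Dp_le p chart ⊤ hS _), hres _ (Dp_le p chart ⊤ hS _)]
    exact reads_res_eq_smul hO1 ⊤ hS _ _ hhk (hj.2 ⊤ hS (e l)) (sg k) (sg l) (hsg k) (hsg l)
  · rw [eq_top_iff]
    intro b _
    obtain ⟨z, rfl⟩ := fn_surjective p chart ⊤ hS _ Nat.one_pos hhk b
    exact fn_mem_closure hj hP ⊤ hS e he k z

end Main

section Final

open Groth.Agent.H5.VAmple

/-- **EGA II 4.4.7 + 4.4.1 over an affine base**: very ample (`P(E)`-form) and finite type over
an affine base implies very ample in the `P^n`-form. -/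
theorem main {X S : Scheme.{u}} [IsAffine S] (f : X ⟶ S)
    [LocallyOfFiniteType f] [QuasiCompact f] (L : X.Modules) (hLinv : PicF.IsInvertible L)
    (hL : RelProj.IsRelVeryAmple f L) : RelAmple.IsRelVeryAmplePn f L := by
  obtain ⟨E, 𝒯, j, P, p, chart, O1, lam, i, hE, hFT, hj, hP, hO1, himm, hi, ⟨θ⟩⟩ :=
    Groth.Agent.H4.FTImm3.main (Or.inl ⟨inferInstance, inferInstance⟩) f L hLinv hL
  haveI : E.IsQuasicoherent := hE
  have hgen : 𝒯.IsGenDegOne := genDegOne_of_isGrSymAlg hj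
  have hinv : PicF.IsInvertible O1 := relTwist_isInvertible hgen hO1
  obtain ⟨n, s, hs, hh⟩ := exists_toPn_isImmersion hj hP hO1 hFT hinv
  haveI := himm
  haveI := hh
  obtain ⟨κ⟩ := nonempty_iso_toPn p O1 hinv s hs
  refine ⟨n, i ≫ toPn p O1 hinv s hs, inferInstance, ?_, ?_⟩
  · exact (Category.assoc _ _ _).trans ((congrArg (i ≫ ·) (toPn_snd p O1 hinv s hs)).trans hi)
  · exact ⟨θ ≪≫ (Scheme.Modules.pullback i).mapIso κ ≪≫
      (Scheme.Modules.pullbackComp i (toPn p O1 hinv s hs)).app _⟩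

end Final

end

end Groth.Agent.H4.VAPn
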