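import Mathlib
import Groth.Agent.H4.VAPn
import Groth.Agent.H4.VAmpleBC
import Groth.Agent.Lib.Lead.QC.RestrictOpen

set_option autoImplicit false
universe u
open CategoryTheory CategoryTheory.Limits AlgebraicGeometry

namespace Groth.Agent.H4.VAPnCover

theorem cover {X S : Scheme.{u}} (f : X ⟶ S)
    [LocallyOfFiniteType f] [QuasiCompact f] (L : X.Modules) (hLinv : PicF.IsInvertible L)
    (hL : RelProj.IsRelVeryAmple f L) :
    ∃ (ι : Type u) (V : ι → S.Opens), (⨆ j, V j) = ⊤ ∧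
      ∀ j, RelAmple.IsRelVeryAmplePn (f ∣_ V j) (L.restrict (f ⁻¹ᵁ V j).ι) := by
  refine ⟨S.affineOpens, fun j => j.1, iSup_affineOpens_eq_top S, fun j => ?_⟩
  haveI : IsAffine (j.1 : Scheme.{u}) := j.2
  apply Groth.Agent.H4.VAPn.main (f ∣_ j.1) (L.restrict (f ⁻¹ᵁ j.1).ι)
    (Groth.Agent.LD.QC.isInvertible_restrict (f ⁻¹ᵁ j.1).ι hLinv)
  have h1 := Groth.Agent.H4.VAmpleBC.veryAmple_baseChange f j.1.ι (f ⁻¹ᵁ j.1).ι (f ∣_ j.1)
    (isPullback_morphismRestrict f j.1).flip L hL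
  exact Groth.Agent.H4.TensVA.isRelVeryAmple_of_iso (f ∣_ j.1)
    ((Scheme.Modules.restrictFunctorIsoPullback (f ⁻¹ᵁ j.1).ι).app L).symm h1

end Groth.Agent.H4.VAPnCover
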