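import Mathlib
import Groth.Agent.H4.SegrePair
import Groth.Agent.H4.VAmpleBC

set_option autoImplicit false
set_option linter.style.haveILetI false
set_option linter.unusedSectionVars false
set_option linter.unusedVariables false

namespace Groth.Agent.H4.VAProd

open CategoryTheory CategoryTheory.Limits AlgebraicGeometry TopologicalSpace Opposite
open HomogeneousLocalization
open Groth.Agent.H6.Sym Groth.Agent.H6 Groth.Agent.LD.QC Groth.Agent.H4.PBundle Groth.Agent.H4.PBundle2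
open Groth.Agent.H4.PBundle3 Groth.Agent.H4.PBLoc Groth.Agent.H4.PBLoc2 Groth.Agent.H4.PBLoc3
open Groth.Agent.H4.ConeImm
open Groth.Agent.H4.PBUniq Groth.Agent.H4.PBEx1 Groth.Agent.H4.PBEx2 Groth.Agent.H4.PBEx4
open Groth.Agent.H4.SegreCh Groth.Agent.H4.SegreVA Groth.Agent.H4.ProjPhi Groth.Agent.H4.TensVA
open Groth.Agent.H8.RelTwist Groth.Agent.H4.SegrePair
open scoped HomogeneousIdeal

universe u

noncomputable section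

/-- **EGA II 4.4.10 (iv)**: the external tensor product of very ample modules is very ample for
the product morphism. -/
theorem main {S X₁ X₂ Y₁ Y₂ P Q : Scheme.{u}} (y₁ : Y₁ ⟶ S) (y₂ : Y₂ ⟶ S)
    (f₁ : X₁ ⟶ Y₁) (f₂ : X₂ ⟶ Y₂) (p₁ : P ⟶ X₁) (p₂ : P ⟶ X₂)
    (hP : IsPullback p₁ p₂ (f₁ ≫ y₁) (f₂ ≫ y₂))
    (q₁ : Q ⟶ Y₁) (q₂ : Q ⟶ Y₂) (hQ : IsPullback q₁ q₂ y₁ y₂) (h : P ⟶ Q)
    (hh₁ : h ≫ q₁ = p₁ ≫ f₁) (hh₂ : h ≫ q₂ = p₂ ≫ f₂)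
    (L₁ : X₁.Modules) (hL₁ : PicF.IsInvertible L₁) (hva₁ : RelProj.IsRelVeryAmple f₁ L₁)
    (L₂ : X₂.Modules) (hL₂ : PicF.IsInvertible L₂) (hva₂ : RelProj.IsRelVeryAmple f₂ L₂) :
    RelProj.IsRelVeryAmple h
      (CohB1.tensorMod ((Scheme.Modules.pullback p₁).obj L₁)
        ((Scheme.Modules.pullback p₂).obj L₂)) := by
  classical
  obtain ⟨E₁, hE₁, 𝒮₁, j₁, hj₁, B₁, π₁, chart₁, hB₁, O1₁, lam₁, hO1₁, i₁, himm₁, hi₁, ⟨θ₁⟩⟩ := hva₁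
  obtain ⟨E₂, hE₂, 𝒮₂, j₂, hj₂, B₂, π₂, chart₂, hB₂, O1₂, lam₂, hO1₂, i₂, himm₂, hi₂, ⟨θ₂⟩⟩ := hva₂
  obtain ⟨F₁, hF₁, 𝒯₁, k₁, hk₁, C₁, ρ₁, ch₁, hC₁, M₁, mu₁, hM₁, g₁, hpb₁, ⟨η₁⟩⟩ :=
    Groth.Agent.H4.VAmpleBC.exists_bundle_bc q₁ E₁ hE₁ 𝒮₁ j₁ hj₁ π₁ chart₁ hB₁ O1₁ lam₁ hO1₁
  obtain ⟨F₂, hF₂, 𝒯₂, k₂, hk₂, C₂, ρ₂, ch₂, hC₂, M₂, mu₂, hM₂, g₂, hpb₂, ⟨η₂⟩⟩ :=
    Groth.Agent.H4.VAmpleBC.exists_bundle_bc q₂ E₂ hE₂ 𝒮₂ j₂ hj₂ π₂ chart₂ hB₂ O1₂ lam₂ hO1₂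
  haveI : F₁.IsQuasicoherent := hF₁
  haveI : F₂.IsQuasicoherent := hF₂
  haveI := himm₁
  haveI := himm₂
  have hLp₁ : PicF.IsInvertible ((Scheme.Modules.pullback p₁).obj L₁) :=
    isInvertible_pullback (g := p₁) hL₁
  have hLp₂ : PicF.IsInvertible ((Scheme.Modules.pullback p₂).obj L₂) :=
    isInvertible_pullback (g := p₂) hL₂
  -- the two morphisms
  have hc₁ : (p₁ ≫ i₁) ≫ π₁ = h ≫ q₁ := by rw [Category.assoc, hi₁, hh₁]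
  have hc₂ : (p₂ ≫ i₂) ≫ π₂ = h ≫ q₂ := by rw [Category.assoc, hi₂, hh₂]
  have hr₁a : hpb₁.lift (p₁ ≫ i₁) h hc₁ ≫ g₁ = p₁ ≫ i₁ := hpb₁.lift_fst _ _ _
  have hr₁b : hpb₁.lift (p₁ ≫ i₁) h hc₁ ≫ ρ₁ = h := hpb₁.lift_snd _ _ _
  have hr₂a : hpb₂.lift (p₂ ≫ i₂) h hc₂ ≫ g₂ = p₂ ≫ i₂ := hpb₂.lift_fst _ _ _
  have hr₂b : hpb₂.lift (p₂ ≫ i₂) h hc₂ ≫ ρ₂ = h := hpb₂.lift_snd _ _ _
  -- the immersion into the product over `S`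
  have e₁ : f₁ ≫ y₁ = i₁ ≫ π₁ ≫ y₁ := by rw [← Category.assoc, hi₁]
  have e₂ : f₂ ≫ y₂ = i₂ ≫ π₂ ≫ y₂ := by rw [← Category.assoc, hi₂]
  haveI : MorphismProperty.IsStableUnderComposition @IsImmersion.{u} :=
    (inferInstance : MorphismProperty.IsMultiplicative @IsImmersion.{u}).toIsStableUnderComposition
  have hm : IsImmersion (pullback.map (f₁ ≫ y₁) (f₂ ≫ y₂) (π₁ ≫ y₁) (π₂ ≫ y₂) i₁ i₂ (𝟙 S)
      ((Category.comp_id _).trans e₁) ((Category.comp_id _).trans e₂)) :=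
    MorphismProperty.pullbackMap (P := @IsImmersion.{u}) himm₁ himm₂ e₁ e₂
  have hcc : (pullback.fst ρ₁ ρ₂ ≫ g₁) ≫ π₁ ≫ y₁ = (pullback.snd ρ₁ ρ₂ ≫ g₂) ≫ π₂ ≫ y₂ := by
    rw [Category.assoc, ← Category.assoc g₁, hpb₁.w, Category.assoc, Category.assoc,
      ← Category.assoc g₂, hpb₂.w, Category.assoc, hQ.w, ← Category.assoc, ← Category.assoc,
      pullback.condition, Category.assoc, Category.assoc]
  have hjc : pullback.lift (hpb₁.lift (p₁ ≫ i₁) h hc₁) (hpb₂.lift (p₂ ≫ i₂) h hc₂)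
        (hr₁b.trans hr₂b.symm) ≫
      pullback.lift (pullback.fst ρ₁ ρ₂ ≫ g₁) (pullback.snd ρ₁ ρ₂ ≫ g₂) hcc =
      hP.isoPullback.hom ≫ pullback.map (f₁ ≫ y₁) (f₂ ≫ y₂) (π₁ ≫ y₁) (π₂ ≫ y₂) i₁ i₂ (𝟙 S)
      ((Category.comp_id _).trans e₁) ((Category.comp_id _).trans e₂) := by
    apply pullback.hom_ext
    · rw [Category.assoc, pullback.lift_fst, ← Category.assoc, pullback.lift_fst, hr₁a,
        Category.assoc, pullback.lift_fst, ← Category.assoc, hP.isoPullback_hom_fst]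
    · rw [Category.assoc, pullback.lift_snd, ← Category.assoc, pullback.lift_snd, hr₂a,
        Category.assoc, pullback.lift_snd, ← Category.assoc, hP.isoPullback_hom_snd]
  haveI : IsImmersion (pullback.lift (hpb₁.lift (p₁ ≫ i₁) h hc₁) (hpb₂.lift (p₂ ≫ i₂) h hc₂)
      (hr₁b.trans hr₂b.symm)) := by
    haveI := hm
    haveI : IsImmersion (pullback.lift (hpb₁.lift (p₁ ≫ i₁) h hc₁) (hpb₂.lift (p₂ ≫ i₂) h hc₂)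
        (hr₁b.trans hr₂b.symm) ≫
      pullback.lift (pullback.fst ρ₁ ρ₂ ≫ g₁) (pullback.snd ρ₁ ρ₂ ≫ g₂) hcc) := by
      rw [hjc]; infer_instance
    exact IsImmersion.of_comp _ (pullback.lift (pullback.fst ρ₁ ρ₂ ≫ g₁) (pullback.snd ρ₁ ρ₂ ≫ g₂) hcc)
  -- the data for `pairImm`
  have hφ₁ := phi_reads hC₁ hM₁ k₁ hk₁.2
  have hφ₂ := phi_reads hC₂ hM₂ k₂ hk₂.2
  haveI := epi_alpha hF₁ hk₁ hC₁ hM₁ (phi hC₁ hM₁ k₁ hk₁.2) (fun U hU e => hφ₁ U hU e) h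
    (hpb₁.lift (p₁ ≫ i₁) h hc₁) hr₁b
  haveI := epi_alpha hF₂ hk₂ hC₂ hM₂ (phi hC₂ hM₂ k₂ hk₂.2) (fun U hU e => hφ₂ U hU e) h
    (hpb₂.lift (p₂ ≫ i₂) h hc₂) hr₂b
  haveI hq12 : (CohB1.tensorMod F₁ F₂).IsQuasicoherent := inferInstance
  have hj12 := isGrSymAlg (CohB1.tensorMod F₁ F₂)
  obtain ⟨P12, π12, chart12, hP12⟩ := Groth.Agent.S8258.result (symGrAlg (CohB1.tensorMod F₁ F₂))
  obtain ⟨O112, lam12, hO112⟩ :=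
    Groth.Agent.S8284.result (symGrAlg (CohB1.tensorMod F₁ F₂)) π12 chart12 hP12 1
  have hφ12 := phi_reads hP12 hO112 (symJ (CohB1.tensorMod F₁ F₂)) hj12.2
  haveI : Epi (alpha (phi hC₁ hM₁ k₁ hk₁.2) h (hpb₁.lift (p₁ ≫ i₁) h hc₁) hr₁b ≫
      ((Scheme.Modules.pullback (hpb₁.lift (p₁ ≫ i₁) h hc₁)).mapIso η₁.symm ≪≫
        (Scheme.Modules.pullbackComp (hpb₁.lift (p₁ ≫ i₁) h hc₁) g₁).app O1₁ ≪≫
        (Scheme.Modules.pullbackCongr hr₁a).app O1₁ ≪≫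
        ((Scheme.Modules.pullbackComp p₁ i₁).app O1₁).symm ≪≫
        (Scheme.Modules.pullback p₁).mapIso θ₁.symm).hom) := epi_comp _ _
  haveI : Epi (alpha (phi hC₂ hM₂ k₂ hk₂.2) h (hpb₂.lift (p₂ ≫ i₂) h hc₂) hr₂b ≫
      ((Scheme.Modules.pullback (hpb₂.lift (p₂ ≫ i₂) h hc₂)).mapIso η₂.symm ≪≫
        (Scheme.Modules.pullbackComp (hpb₂.lift (p₂ ≫ i₂) h hc₂) g₂).app O1₂ ≪≫
        (Scheme.Modules.pullbackCongr hr₂a).app O1₂ ≪≫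
        ((Scheme.Modules.pullbackComp p₂ i₂).app O1₂).symm ≪≫
        (Scheme.Modules.pullback p₂).mapIso θ₂.symm).hom) := epi_comp _ _
  haveI : Epi (tsig h
      (alpha (phi hC₁ hM₁ k₁ hk₁.2) h (hpb₁.lift (p₁ ≫ i₁) h hc₁) hr₁b ≫
      ((Scheme.Modules.pullback (hpb₁.lift (p₁ ≫ i₁) h hc₁)).mapIso η₁.symm ≪≫
        (Scheme.Modules.pullbackComp (hpb₁.lift (p₁ ≫ i₁) h hc₁) g₁).app O1₁ ≪≫
        (Scheme.Modules.pullbackCongr hr₁a).app O1₁ ≪≫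
        ((Scheme.Modules.pullbackComp p₁ i₁).app O1₁).symm ≪≫
        (Scheme.Modules.pullback p₁).mapIso θ₁.symm).hom)
      (alpha (phi hC₂ hM₂ k₂ hk₂.2) h (hpb₂.lift (p₂ ≫ i₂) h hc₂) hr₂b ≫
      ((Scheme.Modules.pullback (hpb₂.lift (p₂ ≫ i₂) h hc₂)).mapIso η₂.symm ≪≫
        (Scheme.Modules.pullbackComp (hpb₂.lift (p₂ ≫ i₂) h hc₂) g₂).app O1₂ ≪≫
        (Scheme.Modules.pullbackCongr hr₂a).app O1₂ ≪≫
        ((Scheme.Modules.pullbackComp p₂ i₂).app O1₂).symm ≪≫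
        (Scheme.Modules.pullback p₂).mapIso θ₂.symm).hom)) := epi_tsig h _ _ hLp₁ hLp₂
  obtain ⟨r12, ⟨hr12, τ12, hτ12⟩, -⟩ := Groth.Agent.H4.PBEx4.main
    (CohB1.tensorMod F₁ F₂) hq12
    (symGrAlg _) (symJ _) hj12 π12 chart12 hP12 O112 lam12 hO112
    (phi hP12 hO112 (symJ (CohB1.tensorMod F₁ F₂)) hj12.2) hφ12 h
    (CohB1.tensorMod ((Scheme.Modules.pullback p₁).obj L₁) ((Scheme.Modules.pullback p₂).obj L₂))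
    (isInvertible_tensorMod hLp₁ hLp₂)
    (tsig h
      (alpha (phi hC₁ hM₁ k₁ hk₁.2) h (hpb₁.lift (p₁ ≫ i₁) h hc₁) hr₁b ≫
      ((Scheme.Modules.pullback (hpb₁.lift (p₁ ≫ i₁) h hc₁)).mapIso η₁.symm ≪≫
        (Scheme.Modules.pullbackComp (hpb₁.lift (p₁ ≫ i₁) h hc₁) g₁).app O1₁ ≪≫
        (Scheme.Modules.pullbackCongr hr₁a).app O1₁ ≪≫
        ((Scheme.Modules.pullbackComp p₁ i₁).app O1₁).symm ≪≫
        (Scheme.Modules.pullback p₁).mapIso θ₁.symm).hom)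
      (alpha (phi hC₂ hM₂ k₂ hk₂.2) h (hpb₂.lift (p₂ ≫ i₂) h hc₂) hr₂b ≫
      ((Scheme.Modules.pullback (hpb₂.lift (p₂ ≫ i₂) h hc₂)).mapIso η₂.symm ≪≫
        (Scheme.Modules.pullbackComp (hpb₂.lift (p₂ ≫ i₂) h hc₂) g₂).app O1₂ ≪≫
        (Scheme.Modules.pullbackCongr hr₂a).app O1₂ ≪≫
        ((Scheme.Modules.pullbackComp p₂ i₂).app O1₂).symm ≪≫
        (Scheme.Modules.pullback p₂).mapIso θ₂.symm).hom)) inferInstance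
  have hτ12a : alpha (phi hP12 hO112 (symJ (CohB1.tensorMod F₁ F₂)) hj12.2) h r12 hr12 ≫
      τ12.hom = tsig h
      (alpha (phi hC₁ hM₁ k₁ hk₁.2) h (hpb₁.lift (p₁ ≫ i₁) h hc₁) hr₁b ≫
      ((Scheme.Modules.pullback (hpb₁.lift (p₁ ≫ i₁) h hc₁)).mapIso η₁.symm ≪≫
        (Scheme.Modules.pullbackComp (hpb₁.lift (p₁ ≫ i₁) h hc₁) g₁).app O1₁ ≪≫
        (Scheme.Modules.pullbackCongr hr₁a).app O1₁ ≪≫
        ((Scheme.Modules.pullbackComp p₁ i₁).app O1₁).symm ≪≫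
        (Scheme.Modules.pullback p₁).mapIso θ₁.symm).hom)
      (alpha (phi hC₂ hM₂ k₂ hk₂.2) h (hpb₂.lift (p₂ ≫ i₂) h hc₂) hr₂b ≫
      ((Scheme.Modules.pullback (hpb₂.lift (p₂ ≫ i₂) h hc₂)).mapIso η₂.symm ≪≫
        (Scheme.Modules.pullbackComp (hpb₂.lift (p₂ ≫ i₂) h hc₂) g₂).app O1₂ ≪≫
        (Scheme.Modules.pullbackCongr hr₂a).app O1₂ ≪≫
        ((Scheme.Modules.pullbackComp p₂ i₂).app O1₂).symm ≪≫
        (Scheme.Modules.pullback p₂).mapIso θ₂.symm).hom) := by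
    rw [← hτ12]
    unfold alpha
    simp only [Category.assoc]
  have himm12 : IsImmersion r12 :=
    pairImm hk₁ hC₁ hM₁ (phi hC₁ hM₁ k₁ hk₁.2) (fun U hU e => hφ₁ U hU e)
      hk₂ hC₂ hM₂ (phi hC₂ hM₂ k₂ hk₂.2) (fun U hU e => hφ₂ U hU e)
      hj12 hP12 hO112 (phi hP12 hO112 (symJ (CohB1.tensorMod F₁ F₂)) hj12.2)
      (fun U hU e => hφ12 U hU e) h hLp₁ hLp₂ _ _
      (hpb₁.lift (p₁ ≫ i₁) h hc₁) hr₁b _ rfl (hpb₂.lift (p₂ ≫ i₂) h hc₂) hr₂b _ rfl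
      (pullback.lift (hpb₁.lift (p₁ ≫ i₁) h hc₁) (hpb₂.lift (p₂ ≫ i₂) h hc₂)
        (hr₁b.trans hr₂b.symm)) (pullback.lift_fst _ _ _) (pullback.lift_snd _ _ _)
      r12 hr12 τ12 hτ12a
  exact ⟨CohB1.tensorMod F₁ F₂, hq12, symGrAlg _, symJ _, hj12, P12, π12, chart12, hP12, O112,
    lam12, hO112, r12, himm12, hr12, ⟨τ12.symm⟩⟩

end

end Groth.Agent.H4.VAProd
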