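import Mathlib
import Groth.Agent.H4.VAProd
import Groth.Agent.Lib.Lead.QC.TensorQC
import Groth.Agent.Lib.Lead.QC.Pullback
import Groth.Agent.S8286

set_option autoImplicit false
set_option linter.style.haveILetI false
set_option linter.unusedSectionVars false
set_option linter.unusedVariables false

namespace Groth.Agent.H4.VAProdFT

open CategoryTheory CategoryTheory.Limits AlgebraicGeometry TopologicalSpace Opposite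
open HomogeneousLocalization
open Groth.Agent.H6.Sym Groth.Agent.H6 Groth.Agent.LD.QC Groth.Agent.H4.PBundle Groth.Agent.H4.PBundle2
open Groth.Agent.H4.PBundle3 Groth.Agent.H4.PBLoc Groth.Agent.H4.PBLoc2 Groth.Agent.H4.PBLoc3
open Groth.Agent.H4.ConeImm
open Groth.Agent.H4.PBUniq Groth.Agent.H4.PBEx1 Groth.Agent.H4.PBEx2 Groth.Agent.H4.PBEx4
open Groth.Agent.H4.SegreCh Groth.Agent.H4.SegreVA Groth.Agent.H4.ProjPhi Groth.Agent.H4.TensVA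
open Groth.Agent.H8.RelTwist Groth.Agent.H4.SegrePair
open scoped HomogeneousIdeal

universe u

noncomputable section

/-- **base change of a projective bundle with its `O(1)`**, keeping track of finite type. -/
theorem exists_bundle_bc_ft {Y Y' P : Scheme.{u}} (g : Y' ⟶ Y) (E : Y.Modules) (hE : Coh.IsQCoh E)
    (hft : E.IsFiniteType)
    (𝒮 : RelProj.QCGrAlg Y) (j : E ⟶ 𝒮.toModule) (hj : RelProj.IsGrSymAlg E 𝒮 j) (p : P ⟶ Y)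
    (chart : ∀ (U : Y.Opens) (hU : IsAffineOpen U), ((p ⁻¹ᵁ U : P.Opens) : Scheme.{u}) ≅ Proj (𝒮.deg U hU))
    (hP : RelProj.IsRelProj 𝒮 p chart) (O1 : P.Modules)
    (lam : ∀ (U : Y.Opens) (hU : IsAffineOpen U),
      O1 ⟶ (Scheme.Modules.pushforward (RelProj.emb p chart U hU)).obj (GrTwist.twist (𝒮.deg U hU) 1))
    (hO1 : RelProj.IsRelTwist 𝒮 p chart 1 O1 lam) :
    ∃ (E' : Y'.Modules) (_ : Coh.IsQCoh E') (_ : E'.IsFiniteType)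
      (𝒮' : RelProj.QCGrAlg Y') (j' : E' ⟶ 𝒮'.toModule)
      (_ : RelProj.IsGrSymAlg E' 𝒮' j') (P' : Scheme.{u}) (p' : P' ⟶ Y')
      (chart' : ∀ (U : Y'.Opens) (hU : IsAffineOpen U),
        (((p' ⁻¹ᵁ U : P'.Opens) : Scheme.{u}) ≅ Proj (𝒮'.deg U hU)))
      (_ : RelProj.IsRelProj 𝒮' p' chart') (O1' : P'.Modules)
      (lam' : ∀ (U : Y'.Opens) (hU : IsAffineOpen U),
        O1' ⟶ (Scheme.Modules.pushforward (RelProj.emb p' chart' U hU)).obj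
          (GrTwist.twist (𝒮'.deg U hU) 1))
      (_ : RelProj.IsRelTwist 𝒮' p' chart' 1 O1' lam') (gP : P' ⟶ P),
      IsPullback gP p' p g ∧ Nonempty ((Scheme.Modules.pullback gP).obj O1 ≅ O1') := by
  haveI : E.IsQuasicoherent := hE
  haveI hq' : ((Scheme.Modules.pullback g).obj E).IsQuasicoherent := qc_pullback g E
  obtain ⟨P', p', chart', hP'⟩ :=
    Groth.Agent.S8258.result (symGrAlg ((Scheme.Modules.pullback g).obj E))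
  obtain ⟨O1', lam', hO1'⟩ :=
    Groth.Agent.S8284.result (symGrAlg ((Scheme.Modules.pullback g).obj E)) p' chart' hP' 1
  have hj' := isGrSymAlg ((Scheme.Modules.pullback g).obj E)
  obtain ⟨uQ, gP, -, -, hh, hpb⟩ := Groth.Agent.H4.SymPull.main_S5731 g E hE 𝒮 j hj p chart hP
    (symGrAlg ((Scheme.Modules.pullback g).obj E)) (symJ ((Scheme.Modules.pullback g).obj E)) hj'
    p' chart' hP'
  exact ⟨(Scheme.Modules.pullback g).obj E, hq', isFiniteType_pullback g E hft,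
    symGrAlg _, symJ _, hj', P', p', chart', hP', O1',
    lam', hO1', gP, hpb,
    Groth.Agent.H4.PullO1.nonempty_pullback_iso_of_isProjQMap hP hP' hO1 hO1' hh
      (Groth.Agent.H4.PBundle2.genDegOne_of_isGrSymAlg hj)⟩

/-- **Segre immersion with finite type tracking**: immersions `X_k → P(E_k)` over `Y_k`
(`E_k` quasi-coherent of finite type) give an immersion `X₁ ×_S X₂ → P(E)` over `Y₁ ×_S Y₂`
with `E` quasi-coherent of finite type. -/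
theorem main_ft {S X₁ X₂ Y₁ Y₂ P Q : Scheme.{u}} (y₁ : Y₁ ⟶ S) (y₂ : Y₂ ⟶ S)
    (f₁ : X₁ ⟶ Y₁) (f₂ : X₂ ⟶ Y₂) (p₁ : P ⟶ X₁) (p₂ : P ⟶ X₂)
    (hP : IsPullback p₁ p₂ (f₁ ≫ y₁) (f₂ ≫ y₂))
    (q₁ : Q ⟶ Y₁) (q₂ : Q ⟶ Y₂) (hQ : IsPullback q₁ q₂ y₁ y₂) (h : P ⟶ Q)
    (hh₁ : h ≫ q₁ = p₁ ≫ f₁) (hh₂ : h ≫ q₂ = p₂ ≫ f₂)
    (E₁ : Y₁.Modules) (hE₁ : Coh.IsQCoh E₁) (hft₁ : E₁.IsFiniteType)
    (𝒮₁ : RelProj.QCGrAlg Y₁) (j₁ : E₁ ⟶ 𝒮₁.toModule) (hj₁ : RelProj.IsGrSymAlg E₁ 𝒮₁ j₁)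
    {B₁ : Scheme.{u}} (π₁ : B₁ ⟶ Y₁)
    (chart₁ : ∀ (U : Y₁.Opens) (hU : IsAffineOpen U),
      ((π₁ ⁻¹ᵁ U : B₁.Opens) : Scheme.{u}) ≅ Proj (𝒮₁.deg U hU))
    (hB₁ : RelProj.IsRelProj 𝒮₁ π₁ chart₁) (i₁ : X₁ ⟶ B₁) (himm₁ : IsImmersion i₁)
    (hi₁ : i₁ ≫ π₁ = f₁)
    (E₂ : Y₂.Modules) (hE₂ : Coh.IsQCoh E₂) (hft₂ : E₂.IsFiniteType)
    (𝒮₂ : RelProj.QCGrAlg Y₂) (j₂ : E₂ ⟶ 𝒮₂.toModule) (hj₂ : RelProj.IsGrSymAlg E₂ 𝒮₂ j₂)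
    {B₂ : Scheme.{u}} (π₂ : B₂ ⟶ Y₂)
    (chart₂ : ∀ (U : Y₂.Opens) (hU : IsAffineOpen U),
      ((π₂ ⁻¹ᵁ U : B₂.Opens) : Scheme.{u}) ≅ Proj (𝒮₂.deg U hU))
    (hB₂ : RelProj.IsRelProj 𝒮₂ π₂ chart₂) (i₂ : X₂ ⟶ B₂) (himm₂ : IsImmersion i₂)
    (hi₂ : i₂ ≫ π₂ = f₂) :
    ∃ (E : Q.Modules) (_ : Coh.IsQCoh E) (_ : E.IsFiniteType) (𝒮 : RelProj.QCGrAlg Q)
      (j : E ⟶ 𝒮.toModule) (_ : RelProj.IsGrSymAlg E 𝒮 j) (B : Scheme.{u}) (π : B ⟶ Q)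
      (chart : ∀ (U : Q.Opens) (hU : IsAffineOpen U),
        ((π ⁻¹ᵁ U : B.Opens) : Scheme.{u}) ≅ Proj (𝒮.deg U hU))
      (_ : RelProj.IsRelProj 𝒮 π chart) (r : P ⟶ B), IsImmersion r ∧ r ≫ π = h := by
  obtain ⟨O1₁, lam₁, hO1₁⟩ := Groth.Agent.S8284.result 𝒮₁ π₁ chart₁ hB₁ 1
  obtain ⟨O1₂, lam₂, hO1₂⟩ := Groth.Agent.S8284.result 𝒮₂ π₂ chart₂ hB₂ 1
  have hO1inv₁ : PicF.IsInvertible O1₁ :=
    Groth.Agent.S8286.result 𝒮₁ (Groth.Agent.H4.PBundle2.genDegOne_of_isGrSymAlg hj₁) π₁ chart₁ hB₁ 1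
      O1₁ lam₁ hO1₁
  have hO1inv₂ : PicF.IsInvertible O1₂ :=
    Groth.Agent.S8286.result 𝒮₂ (Groth.Agent.H4.PBundle2.genDegOne_of_isGrSymAlg hj₂) π₂ chart₂ hB₂ 1
      O1₂ lam₂ hO1₂
  obtain ⟨L₁, hLdef₁⟩ : ∃ L : X₁.Modules, L = (Scheme.Modules.pullback i₁).obj O1₁ := ⟨_, rfl⟩
  obtain ⟨L₂, hLdef₂⟩ : ∃ L : X₂.Modules, L = (Scheme.Modules.pullback i₂).obj O1₂ := ⟨_, rfl⟩
  have hL₁ : PicF.IsInvertible L₁ := by rw [hLdef₁]; exact isInvertible_pullback (g := i₁) hO1inv₁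
  have hL₂ : PicF.IsInvertible L₂ := by rw [hLdef₂]; exact isInvertible_pullback (g := i₂) hO1inv₂
  have θ₁ : L₁ ≅ (Scheme.Modules.pullback i₁).obj O1₁ := eqToIso hLdef₁
  have θ₂ : L₂ ≅ (Scheme.Modules.pullback i₂).obj O1₂ := eqToIso hLdef₂
  classical
  obtain ⟨F₁, hF₁, hFft₁, 𝒯₁, k₁, hk₁, C₁, ρ₁, ch₁, hC₁, M₁, mu₁, hM₁, g₁, hpb₁, ⟨η₁⟩⟩ :=
    exists_bundle_bc_ft q₁ E₁ hE₁ hft₁ 𝒮₁ j₁ hj₁ π₁ chart₁ hB₁ O1₁ lam₁ hO1₁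
  obtain ⟨F₂, hF₂, hFft₂, 𝒯₂, k₂, hk₂, C₂, ρ₂, ch₂, hC₂, M₂, mu₂, hM₂, g₂, hpb₂, ⟨η₂⟩⟩ :=
    exists_bundle_bc_ft q₂ E₂ hE₂ hft₂ 𝒮₂ j₂ hj₂ π₂ chart₂ hB₂ O1₂ lam₂ hO1₂
  haveI : F₁.IsQuasicoherent := hF₁
  haveI : F₂.IsQuasicoherent := hF₂
  haveI := himm₁
  haveI := himm₂
  have hLp₁ : PicF.IsInvertible ((Scheme.Modules.pullback p₁).obj L₁) :=
    isInvertible_pullback (g := p₁) hL₁
  have hLp₂ : PicF.IsInvertible ((Scheme.Modules.pullback p₂).obj L₂) :=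
    isInvertible_pullback (g := p₂) hL₂
  -- the two morphisms
  have hc₁ : (p₁ ≫ i₁) ≫ π₁ = h ≫ q₁ := by rw [Category.assoc, hi₁, hh₁]
  have hc₂ : (p₂ ≫ i₂) ≫ π₂ = h ≫ q₂ := by rw [Category.assoc, hi₂, hh₂]
  have hr₁a : hpb₁.lift (p₁ ≫ i₁) h hc₁ ≫ g₁ = p₁ ≫ i₁ := hpb₁.lift_fst _ _ _
  have hr₁b : hpb₁.lift (p₁ ≫ i₁) h hc₁ ≫ ρ₁ = h := hpb₁.lift_snd _ _ _
  have hr₂a : hpb₂.lift (p₂ ≫ i₂) h hc₂ ≫ g₂ = p₂ ≫ i₂ := hpb₂.lift_fst _ _ _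
  have hr₂b : hpb₂.lift (p₂ ≫ i₂) h hc₂ ≫ ρ₂ = h := hpb₂.lift_snd _ _ _
  -- the immersion into the product over `S`
  have e₁ : f₁ ≫ y₁ = i₁ ≫ π₁ ≫ y₁ := by rw [← Category.assoc, hi₁]
  have e₂ : f₂ ≫ y₂ = i₂ ≫ π₂ ≫ y₂ := by rw [← Category.assoc, hi₂]
  haveI : MorphismProperty.IsStableUnderComposition @IsImmersion.{u} :=
    (inferInstance : MorphismProperty.IsMultiplicative @IsImmersion.{u}).toIsStableUnderComposition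
  have hm : IsImmersion (pullback.map (f₁ ≫ y₁) (f₂ ≫ y₂) (π₁ ≫ y₁) (π₂ ≫ y₂) i₁ i₂ (𝟙 S)
      ((Category.comp_id _).trans e₁) ((Category.comp_id _).trans e₂)) :=
    MorphismProperty.pullbackMap (P := @IsImmersion.{u}) himm₁ himm₂ e₁ e₂
  have hcc : (pullback.fst ρ₁ ρ₂ ≫ g₁) ≫ π₁ ≫ y₁ = (pullback.snd ρ₁ ρ₂ ≫ g₂) ≫ π₂ ≫ y₂ := by
    rw [Category.assoc, ← Category.assoc g₁, hpb₁.w, Category.assoc, Category.assoc,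
      ← Category.assoc g₂, hpb₂.w, Category.assoc, hQ.w, ← Category.assoc, ← Category.assoc,
      pullback.condition, Category.assoc, Category.assoc]
  have hjc : pullback.lift (hpb₁.lift (p₁ ≫ i₁) h hc₁) (hpb₂.lift (p₂ ≫ i₂) h hc₂)
        (hr₁b.trans hr₂b.symm) ≫
      pullback.lift (pullback.fst ρ₁ ρ₂ ≫ g₁) (pullback.snd ρ₁ ρ₂ ≫ g₂) hcc =
      hP.isoPullback.hom ≫ pullback.map (f₁ ≫ y₁) (f₂ ≫ y₂) (π₁ ≫ y₁) (π₂ ≫ y₂) i₁ i₂ (𝟙 S)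
      ((Category.comp_id _).trans e₁) ((Category.comp_id _).trans e₂) := by
    apply pullback.hom_ext
    · rw [Category.assoc, pullback.lift_fst, ← Category.assoc, pullback.lift_fst, hr₁a,
        Category.assoc, pullback.lift_fst, ← Category.assoc, hP.isoPullback_hom_fst]
    · rw [Category.assoc, pullback.lift_snd, ← Category.assoc, pullback.lift_snd, hr₂a,
        Category.assoc, pullback.lift_snd, ← Category.assoc, hP.isoPullback_hom_snd]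
  haveI : IsImmersion (pullback.lift (hpb₁.lift (p₁ ≫ i₁) h hc₁) (hpb₂.lift (p₂ ≫ i₂) h hc₂)
      (hr₁b.trans hr₂b.symm)) := by
    haveI := hm
    haveI : IsImmersion (pullback.lift (hpb₁.lift (p₁ ≫ i₁) h hc₁) (hpb₂.lift (p₂ ≫ i₂) h hc₂)
        (hr₁b.trans hr₂b.symm) ≫
      pullback.lift (pullback.fst ρ₁ ρ₂ ≫ g₁) (pullback.snd ρ₁ ρ₂ ≫ g₂) hcc) := by
      rw [hjc]; infer_instance
    exact IsImmersion.of_comp _ (pullback.lift (pullback.fst ρ₁ ρ₂ ≫ g₁) (pullback.snd ρ₁ ρ₂ ≫ g₂) hcc)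
  -- the data for `pairImm`
  have hφ₁ := phi_reads hC₁ hM₁ k₁ hk₁.2
  have hφ₂ := phi_reads hC₂ hM₂ k₂ hk₂.2
  haveI := epi_alpha hF₁ hk₁ hC₁ hM₁ (phi hC₁ hM₁ k₁ hk₁.2) (fun U hU e => hφ₁ U hU e) h
    (hpb₁.lift (p₁ ≫ i₁) h hc₁) hr₁b
  haveI := epi_alpha hF₂ hk₂ hC₂ hM₂ (phi hC₂ hM₂ k₂ hk₂.2) (fun U hU e => hφ₂ U hU e) h
    (hpb₂.lift (p₂ ≫ i₂) h hc₂) hr₂b
  haveI hq12 : (CohB1.tensorMod F₁ F₂).IsQuasicoherent := inferInstance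
  have hj12 := isGrSymAlg (CohB1.tensorMod F₁ F₂)
  obtain ⟨P12, π12, chart12, hP12⟩ := Groth.Agent.S8258.result (symGrAlg (CohB1.tensorMod F₁ F₂))
  obtain ⟨O112, lam12, hO112⟩ :=
    Groth.Agent.S8284.result (symGrAlg (CohB1.tensorMod F₁ F₂)) π12 chart12 hP12 1
  have hφ12 := phi_reads hP12 hO112 (symJ (CohB1.tensorMod F₁ F₂)) hj12.2
  haveI : Epi (alpha (phi hC₁ hM₁ k₁ hk₁.2) h (hpb₁.lift (p₁ ≫ i₁) h hc₁) hr₁b ≫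
      ((Scheme.Modules.pullback (hpb₁.lift (p₁ ≫ i₁) h hc₁)).mapIso η₁.symm ≪≫
        (Scheme.Modules.pullbackComp (hpb₁.lift (p₁ ≫ i₁) h hc₁) g₁).app O1₁ ≪≫
        (Scheme.Modules.pullbackCongr hr₁a).app O1₁ ≪≫
        ((Scheme.Modules.pullbackComp p₁ i₁).app O1₁).symm ≪≫
        (Scheme.Modules.pullback p₁).mapIso θ₁.symm).hom) := epi_comp _ _
  haveI : Epi (alpha (phi hC₂ hM₂ k₂ hk₂.2) h (hpb₂.lift (p₂ ≫ i₂) h hc₂) hr₂b ≫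
      ((Scheme.Modules.pullback (hpb₂.lift (p₂ ≫ i₂) h hc₂)).mapIso η₂.symm ≪≫
        (Scheme.Modules.pullbackComp (hpb₂.lift (p₂ ≫ i₂) h hc₂) g₂).app O1₂ ≪≫
        (Scheme.Modules.pullbackCongr hr₂a).app O1₂ ≪≫
        ((Scheme.Modules.pullbackComp p₂ i₂).app O1₂).symm ≪≫
        (Scheme.Modules.pullback p₂).mapIso θ₂.symm).hom) := epi_comp _ _
  haveI : Epi (tsig h
      (alpha (phi hC₁ hM₁ k₁ hk₁.2) h (hpb₁.lift (p₁ ≫ i₁) h hc₁) hr₁b ≫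
      ((Scheme.Modules.pullback (hpb₁.lift (p₁ ≫ i₁) h hc₁)).mapIso η₁.symm ≪≫
        (Scheme.Modules.pullbackComp (hpb₁.lift (p₁ ≫ i₁) h hc₁) g₁).app O1₁ ≪≫
        (Scheme.Modules.pullbackCongr hr₁a).app O1₁ ≪≫
        ((Scheme.Modules.pullbackComp p₁ i₁).app O1₁).symm ≪≫
        (Scheme.Modules.pullback p₁).mapIso θ₁.symm).hom)
      (alpha (phi hC₂ hM₂ k₂ hk₂.2) h (hpb₂.lift (p₂ ≫ i₂) h hc₂) hr₂b ≫
      ((Scheme.Modules.pullback (hpb₂.lift (p₂ ≫ i₂) h hc₂)).mapIso η₂.symm ≪≫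
        (Scheme.Modules.pullbackComp (hpb₂.lift (p₂ ≫ i₂) h hc₂) g₂).app O1₂ ≪≫
        (Scheme.Modules.pullbackCongr hr₂a).app O1₂ ≪≫
        ((Scheme.Modules.pullbackComp p₂ i₂).app O1₂).symm ≪≫
        (Scheme.Modules.pullback p₂).mapIso θ₂.symm).hom)) := epi_tsig h _ _ hLp₁ hLp₂
  obtain ⟨r12, ⟨hr12, τ12, hτ12⟩, -⟩ := Groth.Agent.H4.PBEx4.main
    (CohB1.tensorMod F₁ F₂) hq12
    (symGrAlg _) (symJ _) hj12 π12 chart12 hP12 O112 lam12 hO112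
    (phi hP12 hO112 (symJ (CohB1.tensorMod F₁ F₂)) hj12.2) hφ12 h
    (CohB1.tensorMod ((Scheme.Modules.pullback p₁).obj L₁) ((Scheme.Modules.pullback p₂).obj L₂))
    (isInvertible_tensorMod hLp₁ hLp₂)
    (tsig h
      (alpha (phi hC₁ hM₁ k₁ hk₁.2) h (hpb₁.lift (p₁ ≫ i₁) h hc₁) hr₁b ≫
      ((Scheme.Modules.pullback (hpb₁.lift (p₁ ≫ i₁) h hc₁)).mapIso η₁.symm ≪≫
        (Scheme.Modules.pullbackComp (hpb₁.lift (p₁ ≫ i₁) h hc₁) g₁).app O1₁ ≪≫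
        (Scheme.Modules.pullbackCongr hr₁a).app O1₁ ≪≫
        ((Scheme.Modules.pullbackComp p₁ i₁).app O1₁).symm ≪≫
        (Scheme.Modules.pullback p₁).mapIso θ₁.symm).hom)
      (alpha (phi hC₂ hM₂ k₂ hk₂.2) h (hpb₂.lift (p₂ ≫ i₂) h hc₂) hr₂b ≫
      ((Scheme.Modules.pullback (hpb₂.lift (p₂ ≫ i₂) h hc₂)).mapIso η₂.symm ≪≫
        (Scheme.Modules.pullbackComp (hpb₂.lift (p₂ ≫ i₂) h hc₂) g₂).app O1₂ ≪≫
        (Scheme.Modules.pullbackCongr hr₂a).app O1₂ ≪≫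
        ((Scheme.Modules.pullbackComp p₂ i₂).app O1₂).symm ≪≫
        (Scheme.Modules.pullback p₂).mapIso θ₂.symm).hom)) inferInstance
  have hτ12a : alpha (phi hP12 hO112 (symJ (CohB1.tensorMod F₁ F₂)) hj12.2) h r12 hr12 ≫
      τ12.hom = tsig h
      (alpha (phi hC₁ hM₁ k₁ hk₁.2) h (hpb₁.lift (p₁ ≫ i₁) h hc₁) hr₁b ≫
      ((Scheme.Modules.pullback (hpb₁.lift (p₁ ≫ i₁) h hc₁)).mapIso η₁.symm ≪≫
        (Scheme.Modules.pullbackComp (hpb₁.lift (p₁ ≫ i₁) h hc₁) g₁).app O1₁ ≪≫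
        (Scheme.Modules.pullbackCongr hr₁a).app O1₁ ≪≫
        ((Scheme.Modules.pullbackComp p₁ i₁).app O1₁).symm ≪≫
        (Scheme.Modules.pullback p₁).mapIso θ₁.symm).hom)
      (alpha (phi hC₂ hM₂ k₂ hk₂.2) h (hpb₂.lift (p₂ ≫ i₂) h hc₂) hr₂b ≫
      ((Scheme.Modules.pullback (hpb₂.lift (p₂ ≫ i₂) h hc₂)).mapIso η₂.symm ≪≫
        (Scheme.Modules.pullbackComp (hpb₂.lift (p₂ ≫ i₂) h hc₂) g₂).app O1₂ ≪≫
        (Scheme.Modules.pullbackCongr hr₂a).app O1₂ ≪≫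
        ((Scheme.Modules.pullbackComp p₂ i₂).app O1₂).symm ≪≫
        (Scheme.Modules.pullback p₂).mapIso θ₂.symm).hom) := by
    rw [← hτ12]
    unfold alpha
    simp only [Category.assoc]
  have himm12 : IsImmersion r12 :=
    pairImm hk₁ hC₁ hM₁ (phi hC₁ hM₁ k₁ hk₁.2) (fun U hU e => hφ₁ U hU e)
      hk₂ hC₂ hM₂ (phi hC₂ hM₂ k₂ hk₂.2) (fun U hU e => hφ₂ U hU e)
      hj12 hP12 hO112 (phi hP12 hO112 (symJ (CohB1.tensorMod F₁ F₂)) hj12.2)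
      (fun U hU e => hφ12 U hU e) h hLp₁ hLp₂ _ _
      (hpb₁.lift (p₁ ≫ i₁) h hc₁) hr₁b _ rfl (hpb₂.lift (p₂ ≫ i₂) h hc₂) hr₂b _ rfl
      (pullback.lift (hpb₁.lift (p₁ ≫ i₁) h hc₁) (hpb₂.lift (p₂ ≫ i₂) h hc₂)
        (hr₁b.trans hr₂b.symm)) (pullback.lift_fst _ _ _) (pullback.lift_snd _ _ _)
      r12 hr12 τ12 hτ12a
  exact ⟨CohB1.tensorMod F₁ F₂, hq12, tensorMod_isFiniteType F₁ F₂ hFft₁ hFft₂, symGrAlg _, symJ _,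
    hj12, P12, π12, chart12, hP12, r12, himm12, hr12⟩

end

end Groth.Agent.H4.VAProdFT
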