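import Mathlib
import Groth.Agent.H4.VAFTSub
import Groth.Agent.H4.ProjQ
import Groth.Agent.H4.ProjSymL
import Groth.Agent.S12686
import Groth.Agent.S5729
import Groth.Agent.S8258
import Groth.Agent.Lib.Lead.QC.Push
import Groth.Agent.Lib.Lead.QC.TensorPow

set_option autoImplicit false
set_option linter.style.haveILetI false
set_option linter.unusedSectionVars false
set_option linter.unusedVariables false
universe u
open CategoryTheory CategoryTheory.Limits AlgebraicGeometry TopologicalSpace Opposite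
open Groth.Agent.LD.QC Groth.Agent.H6 Groth.Agent.H6.Sym Groth.Agent.H4.PBundle
open Groth.Agent.H4.VAFTSub Groth.Agent.H4.ProjSymL
open scoped HomogeneousIdeal

namespace Groth.Agent.H4.VAProj
noncomputable section

theorem isProjective_of_veryAmple_ft {X Y : Scheme.{u}} (f : X ⟶ Y) [IsProper f]
    (L : X.Modules) (hL : PicF.IsInvertible L) (hva : RelProj.IsRelVeryAmple f L)
    (hft : CohB1.IsFT ((Scheme.Modules.pushforward f).obj L)) : RelProj.IsProjective f := by
  have hLq : Coh.IsQCoh L := qc_of_isInvertible L hL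
  haveI : L.IsQuasicoherent := hLq
  haveI hEq : ((Scheme.Modules.pushforward f).obj L).IsQuasicoherent := qc_pushforward f L
  obtain ⟨PL, pL, chartL, hPL⟩ := Groth.Agent.S8258.result (symGrAlg L)
  have hjL := isGrSymAlg L
  have hjL1 : ∀ (V : X.Opens) (hV : IsAffineOpen V) (m : Γ(L, V)),
      ((symJ L).app V) m ∈ (symGrAlg L).deg V hV 1 := fun V hV m => hjL.2 V hV m
  obtain ⟨u, hu⟩ : ∃ u : RelProj.QGrHom f (symGrAlg ((Scheme.Modules.pushforward f).obj L))
      (symGrAlg L), ∀ (U : Y.Opens) (x : Γ((Scheme.Modules.pushforward f).obj L, U)),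
      (u.app U).hom (((symJ ((Scheme.Modules.pushforward f).obj L)).app U) x) =
        ((symJ L).app (f ⁻¹ᵁ U)) x :=
    ⟨uOf f L (symGrAlg L) (symJ L) ((Scheme.Modules.pushforward f).obj L) (𝟙 _) hjL1,
      fun U x => uOf_sec f L (symGrAlg L) (symJ L) ((Scheme.Modules.pushforward f).obj L) (𝟙 _)
        hjL1 U x⟩
  obtain ⟨P, p, chart, hP⟩ :=
    Groth.Agent.S8258.result (symGrAlg ((Scheme.Modules.pushforward f).obj L))
  obtain ⟨r, hr⟩ := Groth.Agent.H4.ProjQ.exists_v u p chart pL chartL hP hPL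
  have hr' : RelProj.IsProjQMapOn u p chart pL chartL (RelProj.domQ u pL chartL) r :=
    (Groth.Agent.H4.ProjQ.isProjQMapOn_iff u p chart pL chartL r).mpr hr
  obtain ⟨htop, himm⟩ := Groth.Agent.S12686.result f L hL hLq (symGrAlg L) (symJ L) hjL pL chartL
    hPL hEq (symGrAlg ((Scheme.Modules.pushforward f).obj L))
    (symJ ((Scheme.Modules.pushforward f).obj L))
    (isGrSymAlg ((Scheme.Modules.pushforward f).obj L)) u hu p chart hP r hr' hva
  haveI : IsIso pL := main_S12143 L hL hLq _ _ hjL pL chartL hPL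
  haveI : IsIso (RelProj.domQ u pL chartL).ι := Groth.Agent.H4.ProjQ.isIso_ι_of_eq_top _ htop
  have hover := Groth.Agent.H4.ProjQ.v_over u p chart pL chartL hP hPL r hr
  haveI := himm
  have hip : (inv pL ≫ inv (RelProj.domQ u pL chartL).ι ≫ r) ≫ p = f := by
    rw [Category.assoc, Category.assoc, hover, IsIso.inv_hom_id_assoc, IsIso.inv_hom_id_assoc]
  haveI : IsSeparated p := Groth.Agent.S8259.result _ p chart hP
  haveI : IsProper ((inv pL ≫ inv (RelProj.domQ u pL chartL).ι ≫ r) ≫ p) := by
    rw [hip]; infer_instance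
  haveI : IsProper (inv pL ≫ inv (RelProj.domQ u pL chartL).ι ≫ r) := IsProper.of_comp _ p
  have hcl : IsClosed (Set.range (inv pL ≫ inv (RelProj.domQ u pL chartL).ι ≫ r)) := by
    rw [← Set.image_univ]
    exact (inv pL ≫ inv (RelProj.domQ u pL chartL).ι ≫ r).isClosedMap _ isClosed_univ
  exact (Groth.Agent.S5729.result f).mpr
    ⟨(Scheme.Modules.pushforward f).obj L, symGrAlg ((Scheme.Modules.pushforward f).obj L),
      symJ ((Scheme.Modules.pushforward f).obj L), P, p, chart,
      inv pL ≫ inv (RelProj.domQ u pL chartL).ι ≫ r, hEq, hft,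
      isGrSymAlg ((Scheme.Modules.pushforward f).obj L), hP,
      IsClosedImmersion.of_isPreimmersion _ hcl, hip⟩

end

end Groth.Agent.H4.VAProj
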