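import Mathlib
import Groth.Agent.H4.PBundle4
import Groth.Agent.H4.GlueDisj
import Groth.Agent.S8258
import Groth.Agent.S5734
import Groth.Agent.Lib.Lead.QC.PullInv

set_option autoImplicit false
set_option linter.unusedSectionVars false
set_option linter.unusedVariables false
set_option linter.style.haveILetI false
universe u
open CategoryTheory CategoryTheory.Limits AlgebraicGeometry TopologicalSpace Opposite
open scoped HomogeneousIdeal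

namespace Groth.Agent.H4.VAmpleCoprod

open Groth.Agent.LD Groth.Agent.LD.QC Groth.Agent.H6.Sym Groth.Agent.H6
  Groth.Agent.H4.PBundle Groth.Agent.H4.PBundle2

/-- very ampleness restricts along an immersion into the source. -/
theorem veryAmple_comp {X₀ X Y : Scheme.{u}} (f : X ⟶ Y) (L : X.Modules)
    (h : RelProj.IsRelVeryAmple f L) (j : X₀ ⟶ X) [IsImmersion j] :
    RelProj.IsRelVeryAmple (j ≫ f) ((Scheme.Modules.pullback j).obj L) := by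
  obtain ⟨E, hE, 𝒮, jE, hj, P, p, chart, hP, O1, lam, hO1, i, hi, hip, ⟨e⟩⟩ := h
  haveI := hi
  refine ⟨E, hE, 𝒮, jE, hj, P, p, chart, hP, O1, lam, hO1, j ≫ i, inferInstance, ?_, ⟨?_⟩⟩
  · rw [Category.assoc, hip]
  · exact (Scheme.Modules.pullback j).mapIso e ≪≫ (Scheme.Modules.pullbackComp j i).app O1

theorem veryAmple_coprod {X X' Y : Scheme.{u}} (f'' : X ⨿ X' ⟶ Y) (L'' : (X ⨿ X').Modules)
    (hL'' : PicF.IsInvertible L'')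
    (h₁ : RelProj.IsRelVeryAmple (coprod.inl ≫ f'')
      ((Scheme.Modules.pullback (coprod.inl : X ⟶ X ⨿ X')).obj L''))
    (h₂ : RelProj.IsRelVeryAmple (coprod.inr ≫ f'')
      ((Scheme.Modules.pullback (coprod.inr : X' ⟶ X ⨿ X')).obj L'')) :
    RelProj.IsRelVeryAmple f'' L'' := by
  classical
  obtain ⟨E₁, hE₁, 𝒮₁, jE₁, hj₁, P₁, p₁, chart₁, hP₁, O1₁, lam₁, hO1₁, i₁, hi₁, hip₁, ⟨e₁⟩⟩ := h₁
  obtain ⟨E₂, hE₂, 𝒮₂, jE₂, hj₂, P₂, p₂, chart₂, hP₂, O1₂, lam₂, hO1₂, i₂, hi₂, hip₂, ⟨e₂⟩⟩ := h₂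
  haveI : E₁.IsQuasicoherent := hE₁
  haveI : E₂.IsQuasicoherent := hE₂
  let E : Y.Modules := E₁ ⊞ E₂
  haveI hE : E.IsQuasicoherent := Groth.Agent.LD.SC.qc_biprod E₁ E₂ hE₁ hE₂
  let 𝒯 : RelProj.QCGrAlg Y := symGrAlg E
  let j : E ⟶ 𝒯.toModule := symJ E
  have hT : RelProj.IsGrSymAlg E 𝒯 j := isGrSymAlg E
  -- the first projection
  let u₁ : E ⟶ 𝒮₁.toModule := biprod.fst ≫ jE₁
  have hu1₁ : ∀ (U : Y.Opens) (hU : IsAffineOpen U) (x : Γ(E, U)), (u₁.app U) x ∈ 𝒮₁.deg U hU 1 :=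
    fun U hU x => hj₁.2 U hU ((biprod.fst : E ⟶ E₁).app U x)
  have husurj₁ : ∀ (U : Y.Opens) (hU : IsAffineOpen U) (s : 𝒮₁.presheaf.obj (op U)),
      s ∈ 𝒮₁.deg U hU 1 → ∃ x : Γ(E, U), (u₁.app U) x = s := by
    intro U hU s hs
    obtain ⟨e, he⟩ := exists_sec_eq_of_mem_deg_one hj₁ U hU hs
    refine ⟨(biprod.inl : E₁ ⟶ E).app U e, ?_⟩
    have h1 : (biprod.inl : E₁ ⟶ E) ≫ u₁ = jE₁ := by
      change biprod.inl ≫ biprod.fst ≫ jE₁ = jE₁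
      rw [biprod.inl_fst_assoc]
    have h2 := congr($(congrArg (fun f : E₁ ⟶ 𝒮₁.toModule => f.app U) h1) e)
    exact h2.trans he
  let π₁ : 𝒯.toQCAlg ⟶ 𝒮₁.toQCAlg := symLift E 𝒮₁.toQCAlg u₁
  have hπ₁ : RelProj.IsGradedHom π₁ := symLift_graded E 𝒮₁ u₁ hu1₁
  have hjπ₁ : j ≫ RelSpec.QCAlg.Hom.toModuleMap π₁ = biprod.fst ≫ jE₁ :=
    symJ_symLift E 𝒮₁.toQCAlg u₁
  have hirr₁ : ∀ (U : Y.Opens) (hU : IsAffineOpen U),
      (𝒮₁.deg U hU)₊ ≤ ((𝒯.deg U hU)₊).map (RelProj.gradedHomAt π₁ hπ₁ U hU) :=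
    symLift_irr E 𝒮₁ (genDegOne_of_isGrSymAlg hj₁) u₁ hu1₁ husurj₁
  -- the second projection
  let u₂ : E ⟶ 𝒮₂.toModule := biprod.snd ≫ jE₂
  have hu1₂ : ∀ (U : Y.Opens) (hU : IsAffineOpen U) (x : Γ(E, U)), (u₂.app U) x ∈ 𝒮₂.deg U hU 1 :=
    fun U hU x => hj₂.2 U hU ((biprod.snd : E ⟶ E₂).app U x)
  have husurj₂ : ∀ (U : Y.Opens) (hU : IsAffineOpen U) (s : 𝒮₂.presheaf.obj (op U)),
      s ∈ 𝒮₂.deg U hU 1 → ∃ x : Γ(E, U), (u₂.app U) x = s := by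
    intro U hU s hs
    obtain ⟨e, he⟩ := exists_sec_eq_of_mem_deg_one hj₂ U hU hs
    refine ⟨(biprod.inr : E₂ ⟶ E).app U e, ?_⟩
    have h1 : (biprod.inr : E₂ ⟶ E) ≫ u₂ = jE₂ := by
      change biprod.inr ≫ biprod.snd ≫ jE₂ = jE₂
      rw [biprod.inr_snd_assoc]
    have h2 := congr($(congrArg (fun f : E₂ ⟶ 𝒮₂.toModule => f.app U) h1) e)
    exact h2.trans he
  let π₂ : 𝒯.toQCAlg ⟶ 𝒮₂.toQCAlg := symLift E 𝒮₂.toQCAlg u₂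
  have hπ₂ : RelProj.IsGradedHom π₂ := symLift_graded E 𝒮₂ u₂ hu1₂
  have hjπ₂ : j ≫ RelSpec.QCAlg.Hom.toModuleMap π₂ = biprod.snd ≫ jE₂ :=
    symJ_symLift E 𝒮₂.toQCAlg u₂
  have hirr₂ : ∀ (U : Y.Opens) (hU : IsAffineOpen U),
      (𝒮₂.deg U hU)₊ ≤ ((𝒯.deg U hU)₊).map (RelProj.gradedHomAt π₂ hπ₂ U hU) :=
    symLift_irr E 𝒮₂ (genDegOne_of_isGrSymAlg hj₂) u₂ hu1₂ husurj₂
  -- the projective bundle of the sum
  obtain ⟨PT, pT, chartT, hPT⟩ := Groth.Agent.S8258.result 𝒯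
  obtain ⟨O1T, lamT, hO1T⟩ := Groth.Agent.S8284.result 𝒯 pT chartT hPT 1
  obtain ⟨⟨g₁, hg₁, -⟩, hover₁⟩ := Groth.Agent.S8262.result π₁ hπ₁ hirr₁ pT p₁ chartT chart₁ hPT hP₁
  obtain ⟨⟨g₂, hg₂, -⟩, hover₂⟩ := Groth.Agent.S8262.result π₂ hπ₂ hirr₂ pT p₂ chartT chart₂ hPT hP₂
  haveI hci : IsClosedImmersion (coprod.desc g₁ g₂) :=
    Groth.Agent.S5734.result E₁ E₂ hE₁ hE₂ 𝒮₁ 𝒮₂ 𝒯 jE₁ hj₁ jE₂ hj₂ j hT π₁ hπ₁ hjπ₁ π₂ hπ₂ hjπ₂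
      hirr₁ hirr₂ pT p₁ p₂ chartT chart₁ chart₂ hPT hP₁ hP₂ g₁ hg₁ g₂ hg₂
  obtain ⟨τ₁⟩ := Groth.Agent.H8.RelTwist.nonempty_pullback_iso hPT hP₁ hg₁ (symGr_genDegOne E)
    hO1T hO1₁
  obtain ⟨τ₂⟩ := Groth.Agent.H8.RelTwist.nonempty_pullback_iso hPT hP₂ hg₂ (symGr_genDegOne E)
    hO1T hO1₂
  haveI : IsImmersion (coprod.map i₁ i₂) :=
    IsZariskiLocalAtTarget.coprodMap (P := @IsImmersion) i₁ i₂ hi₁ hi₂
  let ι : X ⨿ X' ⟶ PT := coprod.map i₁ i₂ ≫ coprod.desc g₁ g₂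
  have hι₁ : i₁ ≫ g₁ = coprod.inl ≫ ι := by
    change _ = coprod.inl ≫ coprod.map i₁ i₂ ≫ coprod.desc g₁ g₂
    rw [coprod.inl_map_assoc, coprod.inl_desc]
  have hι₂ : i₂ ≫ g₂ = coprod.inr ≫ ι := by
    change _ = coprod.inr ≫ coprod.map i₁ i₂ ≫ coprod.desc g₁ g₂
    rw [coprod.inr_map_assoc, coprod.inr_desc]
  have hιp : ι ≫ pT = f'' := by
    apply coprod.hom_ext
    · rw [← Category.assoc, ← hι₁, Category.assoc, hover₁ g₁ hg₁, hip₁]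
    · rw [← Category.assoc, ← hι₂, Category.assoc, hover₂ g₂ hg₂, hip₂]
  let G : (X ⨿ X').Modules := (Scheme.Modules.pullback ι).obj O1T
  have hO1T' : PicF.IsInvertible O1T :=
    Groth.Agent.H8.RelTwist.relTwist_isInvertible (symGr_genDegOne E) hO1T
  have hG : PicF.IsInvertible G := isInvertible_pullback ι hO1T'
  have a₁ : L''.restrict (coprod.inl : X ⟶ X ⨿ X') ≅ G.restrict (coprod.inl : X ⟶ X ⨿ X') :=
    (Scheme.Modules.restrictFunctorIsoPullback (coprod.inl : X ⟶ X ⨿ X')).app L'' ≪≫ e₁ ≪≫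
      (Scheme.Modules.pullback i₁).mapIso τ₁.symm ≪≫ (Scheme.Modules.pullbackComp i₁ g₁).app O1T ≪≫
      (Scheme.Modules.pullbackCongr hι₁).app O1T ≪≫
      ((Scheme.Modules.pullbackComp (coprod.inl : X ⟶ X ⨿ X') ι).app O1T).symm ≪≫
      ((Scheme.Modules.restrictFunctorIsoPullback (coprod.inl : X ⟶ X ⨿ X')).app G).symm
  have a₂ : L''.restrict (coprod.inr : X' ⟶ X ⨿ X') ≅ G.restrict (coprod.inr : X' ⟶ X ⨿ X') :=
    (Scheme.Modules.restrictFunctorIsoPullback (coprod.inr : X' ⟶ X ⨿ X')).app L'' ≪≫ e₂ ≪≫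
      (Scheme.Modules.pullback i₂).mapIso τ₂.symm ≪≫ (Scheme.Modules.pullbackComp i₂ g₂).app O1T ≪≫
      (Scheme.Modules.pullbackCongr hι₂).app O1T ≪≫
      ((Scheme.Modules.pullbackComp (coprod.inr : X' ⟶ X ⨿ X') ι).app O1T).symm ≪≫
      ((Scheme.Modules.restrictFunctorIsoPullback (coprod.inr : X' ⟶ X ⨿ X')).app G).symm
  have hd : (coprod.inl : X ⟶ X ⨿ X').opensRange ⊓ (coprod.inr : X' ⟶ X ⨿ X').opensRange = ⊥ := by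
    ext x
    simp only [Opens.coe_inf, Scheme.Hom.coe_opensRange, Opens.coe_bot]
    exact Iff.of_eq (congrArg (x ∈ ·) (isCompl_range_inl_inr X X').inf_eq_bot)
  have hc : (coprod.inl : X ⟶ X ⨿ X').opensRange ⊔ (coprod.inr : X' ⟶ X ⨿ X').opensRange = ⊤ := by
    ext x
    simp only [Opens.coe_sup, Scheme.Hom.coe_opensRange, Opens.coe_top]
    exact Iff.of_eq (congrArg (x ∈ ·) (isCompl_range_inl_inr X X').sup_eq_top)
  obtain ⟨ε⟩ := Groth.Agent.H4.GlueDisj.nonempty_iso_of_disjoint_cover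
    (coprod.inl : X ⟶ X ⨿ X') (coprod.inr : X' ⟶ X ⨿ X') hd hc L'' G hL'' hG a₁ a₂
  exact ⟨E, hE, 𝒯, j, hT, PT, pT, chartT, hPT, O1T, lamT, hO1T, ι, inferInstance, hιp, ⟨ε⟩⟩

end Groth.Agent.H4.VAmpleCoprod
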