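import Mathlib
import Groth.Agent.H4.ProjPhi
import Groth.Agent.S5732
import Groth.Agent.S12143
import Groth.Agent.S8258
import Groth.Agent.S8284
import Groth.Agent.Lib.Helper8.RelTwist.Inv
import Groth.Agent.Lib.Lead.QC.PullInv
import Groth.Agent.Lib.Lead.QC.FiniteFree
import Groth.Agent.Lib.Helper2.EulerPbD

set_option autoImplicit false
set_option linter.unusedSectionVars false
set_option linter.unusedVariables false
set_option linter.style.haveILetI false
universe u
open CategoryTheory CategoryTheory.Limits AlgebraicGeometry TopologicalSpace Opposite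
open scoped HomogeneousIdeal

namespace Groth.Agent.H4.VAmpleId
noncomputable section

open Groth.Agent.LD.QC Groth.Agent.H4.PBundle Groth.Agent.H4.PBundle2 Groth.Agent.H4.PBundle3
open Groth.Agent.H8.RelTwist Groth.Agent.H4.ProjPhi Groth.Agent.H6.Sym Groth.Agent.H6

theorem main (Y : Scheme.{u}) (L : Y.Modules) (hL : PicF.IsInvertible L) :
    RelProj.IsRelVeryAmple (𝟙 Y) L := by
  haveI hq : L.IsQuasicoherent := qc_of_isInvertible L hL
  obtain ⟨P, p, chart, hP⟩ := Groth.Agent.S8258.result (symGrAlg L)
  obtain ⟨O1, lam, hO1⟩ := Groth.Agent.S8284.result (symGrAlg L) p chart hP 1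
  have hj := isGrSymAlg L
  haveI : IsIso p := Groth.Agent.S12143.result L hL hq (symGrAlg L) (symJ L) hj p chart hP
  let φ := phi hP hO1 (symJ L) hj.2
  let a := ((Scheme.Modules.pullbackPushforwardAdjunction p).homEquiv L O1).symm φ
  haveI : Epi a := Groth.Agent.S5732.result L hq (symGrAlg L) (symJ L) hj p chart hP O1 lam hO1 φ
    (phi_reads hP hO1 (symJ L) hj.2)
  have h1 : PicF.IsInvertible ((Scheme.Modules.pullback p).obj L) := isInvertible_pullback p hL
  have h2 : PicF.IsInvertible O1 := relTwist_isInvertible (genDegOne_of_isGrSymAlg hj) hO1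
  haveI : IsIso a := Groth.Agent.H2.Euler.isIso_of_epi_of_isFinLocFreeOfRank 1
    ((isInvertible_iff _).mp h1) ((isInvertible_iff _).mp h2) a
  refine ⟨L, hq, symGrAlg L, symJ L, hj, P, p, chart, hP, O1, lam, hO1, inv p, inferInstance,
    IsIso.inv_hom_id p, ⟨?_⟩⟩
  exact ((Scheme.Modules.pullbackId Y).app L).symm ≪≫
    (Scheme.Modules.pullbackCongr (IsIso.inv_hom_id p).symm).app L ≪≫
    ((Scheme.Modules.pullbackComp (inv p) p).app L).symm ≪≫
    (Scheme.Modules.pullback (inv p)).mapIso (asIso a)

end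
end Groth.Agent.H4.VAmpleId
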