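import Mathlib
import Groth.Agent.H4.ProjPhi
import Groth.Agent.H4.ProjSymL
import Groth.Agent.S5732
import Groth.Agent.S8258
import Groth.Agent.S8284
import Groth.Agent.Lib.Helper8.RelTwist.Inv
import Groth.Agent.Lib.Lead.QC.PullInv
import Groth.Agent.Lib.Lead.QC.FiniteFree
import Groth.Agent.Lib.Lead.QC.Push
import Groth.Agent.Lib.Helper2.EulerPbD

set_option autoImplicit false
set_option linter.unusedSectionVars false
set_option linter.unusedVariables false
set_option linter.style.haveILetI false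
universe u
open CategoryTheory CategoryTheory.Limits AlgebraicGeometry TopologicalSpace Opposite
open scoped HomogeneousIdeal

namespace Groth.Agent.H4.VAmpleOpenImm
noncomputable section

open Groth.Agent.LD.QC Groth.Agent.H4.PBundle Groth.Agent.H4.PBundle2 Groth.Agent.H4.PBundle3
open Groth.Agent.H8.RelTwist Groth.Agent.H4.ProjPhi Groth.Agent.H6.Sym Groth.Agent.H6
open Groth.Agent.H4.ProjSymL

/-- a local basis of `L` gives a local basis of `f_* L` over opens inside the range of the open
immersion `f`. -/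
lemma isBasisOver_pushforward {X Y : Scheme.{u}} (f : X ⟶ Y) [IsOpenImmersion f] (L : X.Modules)
    (U : Y.Opens) (hU : U ≤ f.opensRange) (e : Γ(L, f ⁻¹ᵁ U)) (he : IsBasisOver L (f ⁻¹ᵁ U) e) :
    IsBasisOver ((Scheme.Modules.pushforward f).obj L) U
      (show Γ((Scheme.Modules.pushforward f).obj L, U) from e) := by
  intro V hV
  haveI : IsIso (f.app V) := f.isIso_app V (hV.trans hU)
  have hb : Function.Bijective (f.app V).hom :=
    (ConcreteCategory.isIso_iff_bijective (f.app V)).mp inferInstance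
  exact (he (f ⁻¹ᵁ V) (f.preimage_mono hV)).comp hb

theorem isIso_restrict_opensRange {X Y P : Scheme.{u}} (f : X ⟶ Y) [IsOpenImmersion f]
    [QuasiCompact f] (L : X.Modules) (hL : PicF.IsInvertible L)
    [((Scheme.Modules.pushforward f).obj L).IsQuasicoherent]
    (p : P ⟶ Y)
    (chart : ∀ (U : Y.Opens) (hU : IsAffineOpen U), (((p ⁻¹ᵁ U : P.Opens) : Scheme.{u}) ≅
      Proj ((symGrAlg ((Scheme.Modules.pushforward f).obj L)).deg U hU)))
    (hP : RelProj.IsRelProj (symGrAlg ((Scheme.Modules.pushforward f).obj L)) p chart) :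
    IsIso (p ∣_ f.opensRange) := by
  set E := (Scheme.Modules.pushforward f).obj L with hE
  have hj := isGrSymAlg E
  have hcov : ∀ y : f.opensRange, ∃ (U : Y.Opens), IsAffineOpen U ∧ y.1 ∈ U ∧ U ≤ f.opensRange ∧
      ∃ e : Γ(E, U), IsBasisOver E U e := by
    rintro ⟨y, x, rfl⟩
    obtain ⟨U₀, e₀, hx, he₀⟩ := (isInvertible_iff_exists_isBasisOver L).mp hL x
    have hx' : f x ∈ f ''ᵁ U₀ := ⟨x, hx, rfl⟩
    obtain ⟨U, hU, hxU, hle⟩ := Opens.isBasis_iff_nbhd.mp Y.isBasis_affineOpens hx'
    have hUr : U ≤ f.opensRange := hle.trans (f.image_le_opensRange U₀)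
    have hpre : f ⁻¹ᵁ U ≤ U₀ := by
      intro z hz
      obtain ⟨z', hz', hzz⟩ := hle hz
      have : z' = z := f.isOpenEmbedding.injective hzz
      exact this ▸ hz'
    exact ⟨U, hU, hxU, hUr, _, isBasisOver_pushforward f L U hUr _ (he₀.mono hpre)⟩
  choose U hU hxU hUr e he using hcov
  let U' : f.opensRange → (f.opensRange : Scheme.{u}).Opens := fun y => f.opensRange.ι ⁻¹ᵁ (U y)
  have hsup : iSup U' = ⊤ := by
    rw [eq_top_iff]
    intro y _
    exact Opens.mem_iSup.mpr ⟨y, hxU y⟩
  rw [← MorphismProperty.isomorphisms.iff]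
  refine IsZariskiLocalAtTarget.of_iSup_eq_top (P := MorphismProperty.isomorphisms Scheme.{u})
    U' hsup (fun y => ?_)
  rw [(MorphismProperty.isomorphisms Scheme.{u}).arrow_mk_iso_iff
    (morphismRestrictRestrict p f.opensRange (U' y))]
  have himg : f.opensRange.ι ''ᵁ (U' y) = U y := by
    apply le_antisymm
    · rintro _ ⟨z, hz, rfl⟩
      exact hz
    · intro z hz
      exact ⟨⟨z, hUr y hz⟩, hz, rfl⟩
  rw [himg, MorphismProperty.isomorphisms.iff]
  exact isIso_restrict_of (symGrAlg E) p chart hP (U y) (hU y)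
    (isIso_chart_of_basis E (symGrAlg E) (symJ E) hj (U y) (hU y) (e y) (he y))


theorem main {X Y : Scheme.{u}} (f : X ⟶ Y) [IsOpenImmersion f] [QuasiCompact f]
    (L : X.Modules) (hL : PicF.IsInvertible L) : RelProj.IsRelVeryAmple f L := by
  haveI hq : L.IsQuasicoherent := qc_of_isInvertible L hL
  haveI hEq : ((Scheme.Modules.pushforward f).obj L).IsQuasicoherent := qc_pushforward f L
  set E := (Scheme.Modules.pushforward f).obj L with hE
  obtain ⟨P, p, chart, hP⟩ := Groth.Agent.S8258.result (symGrAlg E)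
  obtain ⟨O1, lam, hO1⟩ := Groth.Agent.S8284.result (symGrAlg E) p chart hP 1
  have hj := isGrSymAlg E
  haveI : IsIso (p ∣_ f.opensRange) := isIso_restrict_opensRange f L hL p chart hP
  let i : X ⟶ P := f.isoOpensRange.hom ≫ inv (p ∣_ f.opensRange) ≫ (p ⁻¹ᵁ f.opensRange).ι
  have hi : i ≫ p = f := by
    show (f.isoOpensRange.hom ≫ inv (p ∣_ f.opensRange) ≫ (p ⁻¹ᵁ f.opensRange).ι) ≫ p = f
    rw [Category.assoc, Category.assoc, ← morphismRestrict_ι, IsIso.inv_hom_id_assoc,
      Scheme.Hom.isoOpensRange_hom_ι]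
  let φ := phi hP hO1 (symJ E) hj.2
  let a := ((Scheme.Modules.pullbackPushforwardAdjunction p).homEquiv E O1).symm φ
  haveI : Epi a := Groth.Agent.S5732.result E hEq (symGrAlg E) (symJ E) hj p chart hP O1 lam hO1 φ
    (phi_reads hP hO1 (symJ E) hj.2)
  -- `L ≅ f^* E`
  let e1 : L ≅ (Scheme.Modules.pullback f).obj E :=
    (asIso ((Scheme.Modules.restrictAdjunction f).counit.app L)).symm ≪≫
      (Scheme.Modules.restrictFunctorIsoPullback f).app E
  let e2 : (Scheme.Modules.pullback f).obj E ≅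
      (Scheme.Modules.pullback i).obj ((Scheme.Modules.pullback p).obj E) :=
    (Scheme.Modules.pullbackCongr hi.symm).app E ≪≫ ((Scheme.Modules.pullbackComp i p).app E).symm
  let b : L ⟶ (Scheme.Modules.pullback i).obj O1 :=
    e1.hom ≫ e2.hom ≫ (Scheme.Modules.pullback i).map a
  haveI : Epi ((Scheme.Modules.pullback i).map a) := inferInstance
  haveI : Epi b := epi_comp _ _
  have h2 : PicF.IsInvertible ((Scheme.Modules.pullback i).obj O1) :=
    isInvertible_pullback i (relTwist_isInvertible (genDegOne_of_isGrSymAlg hj) hO1)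
  haveI : IsIso b := Groth.Agent.H2.Euler.isIso_of_epi_of_isFinLocFreeOfRank 1
    ((isInvertible_iff _).mp hL) ((isInvertible_iff _).mp h2) b
  exact ⟨E, hEq, symGrAlg E, symJ E, hj, P, p, chart, hP, O1, lam, hO1, i, inferInstance, hi,
    ⟨asIso b⟩⟩

end
end Groth.Agent.H4.VAmpleOpenImm
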