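import Mathlib
import Groth.Agent.H4.VAmpleRel
import Groth.Agent.Lib.Helper8.GTW.Ample
import Groth.Agent.Lib.Helper8.RelTwist.Inv
import Groth.Agent.Lib.Lead.QC.LocalBase2
import Groth.Agent.S8260
import Groth.Agent.S4380
import Groth.Agent.S4381

set_option autoImplicit false
set_option linter.unusedSectionVars false
set_option linter.unusedVariables false
set_option linter.style.haveILetI false
universe u
open CategoryTheory CategoryTheory.Limits AlgebraicGeometry TopologicalSpace Opposite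
open scoped HomogeneousIdeal

namespace Groth.Agent.H4.VAmpleRel3
noncomputable section

open Groth.Agent.LD Groth.Agent.LD.QC Groth.Agent.H8.GTW Groth.Agent.H8.RelTwist
  Groth.Agent.H8.RelTilde Groth.Agent.H8.ProjTilde

section Abs
variable {A σ : Type u} [CommRing A] [SetLike σ A] [AddSubgroupClass σ A] {𝒜 : ℕ → σ} [GradedRing 𝒜]

open GrTwist

/-- the morphism `O ⟶ O(n)` attached to `g ∈ 𝒜 n`. -/
def homOfElt {n : ℕ} (g : 𝒜 n) : unitMod (Proj 𝒜) ⟶ twist 𝒜 (n : ℤ) :=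
  homOfSection (twist 𝒜 (n : ℤ)) (show Γ(twist 𝒜 (n : ℤ), ⊤) from globalOf 𝒜 g)

theorem basicOpen_le_genLocus_homOfElt {n : ℕ} (g : 𝒜 n) :
    Proj.basicOpen 𝒜 (g : A) ≤ CohB1.genLocus (twist 𝒜 (n : ℤ)) (homOfElt g) := by
  rw [le_genLocus_iff_isBasisOver, homOfElt, val_homOfSection]
  exact (isUnitSec_globalOf g (le_refl (ProjectiveSpectrum.basicOpen 𝒜 (g : A)))).isBasisOver

theorem genLocus_homOfElt_le {n : ℕ}
    (hc : ∀ y : Proj 𝒜, ∃ g' : 𝒜 n, y ∈ Proj.basicOpen 𝒜 (g' : A)) (g : 𝒜 n) :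
    CohB1.genLocus (twist 𝒜 (n : ℤ)) (homOfElt g) ≤ Proj.basicOpen 𝒜 (g : A) := by
  intro (y : ProjectiveSpectrum 𝒜) hy
  obtain ⟨U, hyU, hU⟩ := (mem_genLocus_iff (X := Proj 𝒜) _ _ y).mp hy
  obtain ⟨g', hyg⟩ := hc y
  rw [homOfElt, val_homOfSection] at hU
  have hV : U ⊓ Proj.basicOpen 𝒜 (g' : A) ≤ U := inf_le_left
  obtain ⟨a, ha⟩ := (hU (U ⊓ Proj.basicOpen 𝒜 (g' : A)) hV).2
    (show Γ(twist 𝒜 (n : ℤ), U ⊓ Proj.basicOpen 𝒜 (g' : A)) from
      resSec (le_top : U ⊓ Proj.basicOpen 𝒜 (g' : A) ≤ ⊤) (globalOf 𝒜 g'))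
  let y' : (U ⊓ Proj.basicOpen 𝒜 (g' : A) : (Proj 𝒜).Opens) := ⟨y, hyU, hyg⟩
  have h1 := congrArg (fun t : Γ(twist 𝒜 (n : ℤ), U ⊓ Proj.basicOpen 𝒜 (g' : A)) =>
    (((show sectN (𝒜 := 𝒜) (n : ℤ) (op (U ⊓ Proj.basicOpen 𝒜 (g' : A))) from t).1 y' :
      twistAt 𝒜 n y) : Loc 𝒜 y)) ha
  simp only [smul_sec_val, res_sec_val] at h1
  have h2 : ((resSec (le_top : U ⊓ Proj.basicOpen 𝒜 (g' : A) ≤ ⊤) (globalOf 𝒜 g')).1 y').1 =
      algebraMap A (Loc 𝒜 y) (g' : A) :=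
    (globalOf_val g' ⟨y, trivial⟩).trans (Localization.mk_one_eq_algebraMap _)
  have h3 : ((globalOf 𝒜 g).1 ⟨y'.1, trivial⟩).1 = algebraMap A (Loc 𝒜 y) (g : A) :=
    (globalOf_val g ⟨y, trivial⟩).trans (Localization.mk_one_eq_algebraMap _)
  have h1' : ((show O (𝒜 := 𝒜) (op (U ⊓ Proj.basicOpen 𝒜 (g' : A))) from a).1 y').val *
      algebraMap A (Loc 𝒜 y) (g : A) = algebraMap A (Loc 𝒜 y) (g' : A) := by
    rw [← h2, ← h3]; exact h1
  have hgu : IsUnit (algebraMap A (Loc 𝒜 y) (g' : A)) := by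
    rw [IsLocalization.AtPrime.isUnit_to_map_iff (Loc 𝒜 y) y.asHomogeneousIdeal.toIdeal]
    exact hyg
  rw [← h1'] at hgu
  have hfu := isUnit_of_mul_isUnit_right hgu
  rw [IsLocalization.AtPrime.isUnit_to_map_iff (Loc 𝒜 y) y.asHomogeneousIdeal.toIdeal] at hfu
  exact hfu

theorem isInvertible_twist_of_cover {n : ℕ}
    (hc : ∀ y : Proj 𝒜, ∃ g' : 𝒜 n, y ∈ Proj.basicOpen 𝒜 (g' : A)) :
    PicF.IsInvertible (twist 𝒜 (n : ℤ)) := by
  rw [isInvertible_iff_exists_isBasisOver]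
  intro x
  obtain ⟨g, hxg⟩ := hc x
  exact ⟨Proj.basicOpen 𝒜 (g : A), _, hxg,
    (isUnitSec_globalOf g (le_refl (ProjectiveSpectrum.basicOpen 𝒜 (g : A)))).isBasisOver⟩

/-- `O(n)` is ample as soon as `Proj` is quasi-compact and covered by the `D₊(g)`, `g ∈ 𝒜 n`,
`n > 0`. -/
theorem isAmple_twist_of_cover [CompactSpace (Proj 𝒜)] {n : ℕ} (hn : 0 < n)
    (hc : ∀ y : Proj 𝒜, ∃ g' : 𝒜 n, y ∈ Proj.basicOpen 𝒜 (g' : A)) :
    CohB1.IsAmple (twist 𝒜 (n : ℤ)) := by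
  have hinv := isInvertible_twist_of_cover hc
  refine ⟨hinv, inferInstance, fun x => ?_⟩
  obtain ⟨g, hxg⟩ := hc x
  let σ1 : unitMod (Proj 𝒜) ⟶ twist 𝒜 (n : ℤ) := homOfElt g
  have hσ : CohB1.genLocus (twist 𝒜 (n : ℤ)) σ1 = Proj.basicOpen 𝒜 (g : A) :=
    le_antisymm (genLocus_homOfElt_le hc g) (basicOpen_le_genLocus_homOfElt g)
  have hσ1 : CohB1.genLocus _ (SecTwist.powHom σ1 (0 + 1)) = Proj.basicOpen 𝒜 (g : A) := by
    change CohB1.genLocus _ (SecTwist.tmulHom (𝟙 _) σ1) = _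
    rw [genLocus_tmulHom (isInvertible_unit _) hinv, genLocus_id, top_inf_eq, hσ]
  refine ⟨0, SecTwist.powHom σ1 (0 + 1), ?_, ?_⟩
  · rw [hσ1]; exact hxg
  · rw [hσ1]; exact Proj.isAffineOpen_basicOpen 𝒜 (g : A) g.2 hn

/-- for a graded ring of finite type over its degree-zero part, `Proj` is quasi-compact and there
is `d₀ > 0` such that for every `q > 0` it is covered by the `D₊(g)`, `g ∈ 𝒜 (d₀ q)`. -/
theorem exists_deg_cover [Algebra.FiniteType (𝒜 0) A] :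
    CompactSpace (Proj 𝒜) ∧ ∃ d₀ : ℕ, 0 < d₀ ∧ ∀ q : ℕ, 0 < q → ∀ y : Proj 𝒜,
      ∃ g' : 𝒜 (d₀ * q), y ∈ Proj.basicOpen 𝒜 (g' : A) := by
  classical
  obtain ⟨x, hx, hx'⟩ := GradedAlgebra.exists_finset_adjoin_eq_top_and_homogeneous_ne_zero 𝒜
  choose d hd hxd using hx'
  have hcov := Proj.iSup_basicOpen_eq_top' 𝒜 (ι := x) (↑) (fun i ↦ ⟨_, hxd _ i.2⟩) (by simpa using hx)
  refine ⟨?_, ?_⟩
  · rw [← isCompact_univ_iff]
    have h : (Set.univ : Set (Proj 𝒜)) =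
        ⋃ i : x, ((Proj.basicOpen 𝒜 (i : A) : (Proj 𝒜).Opens) : Set (Proj 𝒜)) := by
      have := congrArg (fun O : (Proj 𝒜).Opens => (O : Set (Proj 𝒜))) hcov
      simp only [Opens.coe_iSup, Opens.coe_top] at this
      exact this.symm
    rw [h]
    exact isCompact_iUnion fun i =>
      (Proj.isAffineOpen_basicOpen 𝒜 (i : A) (hxd _ i.2) (Nat.pos_of_ne_zero (hd _ i.2))).isCompact
  · refine ⟨∏ i : x, d i.1 i.2, Finset.prod_pos fun i _ => Nat.pos_of_ne_zero (hd _ i.2), ?_⟩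
    intro q hq y
    have hy : y ∈ (⊤ : (Proj 𝒜).Opens) := trivial
    rw [← hcov] at hy
    obtain ⟨i, hi⟩ := Opens.mem_iSup.mp hy
    obtain ⟨m, hm⟩ : d i.1 i.2 ∣ ∏ i : x, d i.1 i.2 := Finset.dvd_prod_of_mem _ (Finset.mem_univ i)
    have hm0 : 0 < m := by
      rcases Nat.eq_zero_or_pos m with rfl | h
      · rw [mul_zero] at hm
        exact absurd hm (Finset.prod_pos fun i _ => Nat.pos_of_ne_zero (hd _ i.2)).ne'
      · exact h
    have hmem : (i : A) ^ (m * q) ∈ 𝒜 ((∏ i : x, d i.1 i.2) * q) := by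
      have := SetLike.pow_mem_graded (m * q) (hxd _ i.2)
      rw [smul_eq_mul] at this
      rw [hm]
      convert this using 2
      ring
    refine ⟨⟨(i : A) ^ (m * q), hmem⟩, ?_⟩
    change y ∈ Proj.basicOpen 𝒜 ((i : A) ^ (m * q))
    rw [Proj.basicOpen_pow 𝒜 _ (m * q) (Nat.mul_pos hm0 hq)]
    exact hi

end Abs

section Rel

theorem main_S5724 {Y X : Scheme.{u}} [CompactSpace Y] (𝒮 : RelProj.QCGrAlg Y)
    (hft : ∀ (U : Y.Opens) (hU : IsAffineOpen U), (𝒮.str.app (op U)).hom.FiniteType)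
    (f : X ⟶ Y)
    (chart : ∀ (U : Y.Opens) (hU : IsAffineOpen U), ((f ⁻¹ᵁ U : X.Opens) : Scheme.{u}) ≅ Proj (𝒮.deg U hU))
    (hX : RelProj.IsRelProj 𝒮 f chart) :
    ∃ d : ℕ, 0 < d ∧ ∀ (L : X.Modules)
      (lam : ∀ (U : Y.Opens) (hU : IsAffineOpen U),
        L ⟶ (Scheme.Modules.pushforward (RelProj.emb f chart U hU)).obj (GrTwist.twist (𝒮.deg U hU) (d : ℤ))),
      RelProj.IsRelTwist 𝒮 f chart (d : ℤ) L lam → PicF.IsInvertible L ∧ RelAmple.IsRelAmple f L := by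
  classical
  haveI hqc : QuasiCompact f := (Groth.Agent.S8260.main' 𝒮 hft f chart hX).2
  -- algebra finite type over degree zero
  have hFT : ∀ (U : Y.Opens) (hU : IsAffineOpen U),
      Algebra.FiniteType (𝒮.deg U hU 0) (𝒮.presheaf.obj (op U)) := by
    intro U hU
    have hcomp : (𝒮.str.app (op U)).hom =
        (algebraMap (𝒮.deg U hU 0) (𝒮.presheaf.obj (op U))).comp (𝒮.strZero U hU).hom := by
      ext r; rfl
    have h1 : (algebraMap (𝒮.deg U hU 0) (𝒮.presheaf.obj (op U))).FiniteType := by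
      have := hft U hU
      rw [hcomp] at this
      exact RingHom.FiniteType.of_comp_finiteType this
    exact h1
  have key : ∀ (U : Y.Opens) (hU : IsAffineOpen U), ∃ d₀ : ℕ, 0 < d₀ ∧
      CompactSpace (Proj (𝒮.deg U hU)) ∧
      ∀ q : ℕ, 0 < q → ∀ y : Proj (𝒮.deg U hU),
        ∃ g' : 𝒮.deg U hU (d₀ * q), y ∈ Proj.basicOpen (𝒮.deg U hU) (g' : 𝒮.presheaf.obj (op U)) := by
    intro U hU
    haveI := hFT U hU
    obtain ⟨hc, d₀, hd₀, h⟩ := exists_deg_cover (𝒜 := 𝒮.deg U hU)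
    exact ⟨d₀, hd₀, hc, h⟩
  choose dd hdd hcpt hcov using key
  -- finite affine cover
  obtain ⟨t, ht⟩ := isCompact_univ.elim_finite_subcover
    (fun U : Y.affineOpens => ((U.1 : Y.Opens) : Set Y)) (fun U => U.1.isOpen)
    (fun y _ => by
      have hy : y ∈ (⊤ : Y.Opens) := trivial
      rw [← iSup_affineOpens_eq_top Y] at hy
      obtain ⟨U, hU⟩ := Opens.mem_iSup.mp hy
      exact Set.mem_iUnion.mpr ⟨U, hU⟩)
  have hcover : ∀ y : Y, ∃ U : Y.affineOpens, U ∈ t ∧ y ∈ U.1 := by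
    intro y
    obtain ⟨U, hU⟩ := Set.mem_iUnion.mp (ht (Set.mem_univ y))
    obtain ⟨hUt, hyU⟩ := Set.mem_iUnion.mp hU
    exact ⟨U, hUt, hyU⟩
  have hdpos : 0 < ∏ U ∈ t, dd U.1 U.2 := Finset.prod_pos fun U _ => hdd U.1 U.2
  refine ⟨∏ U ∈ t, dd U.1 U.2, hdpos, ?_⟩
  intro L lam hL
  -- the chartwise statements
  have hchart : ∀ (U : Y.Opens) (hU : IsAffineOpen U), (⟨U, hU⟩ : Y.affineOpens) ∈ t →
      PicF.IsInvertible (GrTwist.twist (𝒮.deg U hU) ((∏ U ∈ t, dd U.1 U.2 : ℕ) : ℤ)) ∧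
      CohB1.IsAmple (GrTwist.twist (𝒮.deg U hU) ((∏ U ∈ t, dd U.1 U.2 : ℕ) : ℤ)) := by
    intro U hU hUt
    obtain ⟨q, hq⟩ : dd U hU ∣ ∏ U ∈ t, dd U.1 U.2 :=
      Finset.dvd_prod_of_mem (fun U : Y.affineOpens => dd U.1 U.2) hUt
    have hq0 : 0 < q := by
      rcases Nat.eq_zero_or_pos q with rfl | h
      · rw [mul_zero] at hq
        exact absurd hq hdpos.ne'
      · exact h
    haveI := hcpt U hU
    rw [hq]
    exact ⟨isInvertible_twist_of_cover (hcov U hU q hq0),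
      isAmple_twist_of_cover (Nat.mul_pos (hdd U hU) hq0) (hcov U hU q hq0)⟩
  have hiso : ∀ (U : Y.Opens) (hU : IsAffineOpen U), Nonempty (L.restrict (RelProj.emb f chart U hU) ≅
      GrTwist.twist (𝒮.deg U hU) ((∏ U ∈ t, dd U.1 U.2 : ℕ) : ℤ)) := by
    intro U hU
    haveI := isIso_adj_relTwist hL U hU
    exact ⟨asIso (adj (RelProj.emb f chart U hU) L _ (lam U hU))⟩
  constructor
  · rw [isInvertible_iff_exists_isBasisOver]
    intro x
    obtain ⟨⟨U, hU0⟩, hUt, hxU⟩ := hcover (f x)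
    have hU : IsAffineOpen U := hU0
    have hx' : x ∈ (RelProj.emb f chart U hU).opensRange := by
      rw [opensRange_emb]; exact hxU
    obtain ⟨z, rfl⟩ := hx'
    obtain ⟨e⟩ := hiso U hU
    have hinv : PicF.IsInvertible (L.restrict (RelProj.emb f chart U hU)) :=
      isInvertible_of_iso e.symm (hchart U hU hUt).1
    exact exists_isBasisOver_of_restrict _ L hinv z
  · refine (Groth.Agent.S4380.result f L (ι := {U : Y.affineOpens // U ∈ t})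
      (fun U => U.1.1) ?_).mpr ?_
    · rw [eq_top_iff]
      intro y _
      obtain ⟨U, hUt, hyU⟩ := hcover y
      exact Opens.mem_iSup.mpr ⟨⟨U, hUt⟩, hyU⟩
    · rintro ⟨⟨U, hU0⟩, hUt⟩
      have hU : IsAffineOpen U := hU0
      haveI : IsAffine ((U : Y.Opens) : Scheme.{u}) := hU
      refine (Groth.Agent.S4381.result (f ∣_ U) _).mpr ?_
      obtain ⟨e⟩ := hiso U hU
      have h1 : CohB1.IsAmple (L.restrict (RelProj.emb f chart U hU)) :=
        isAmple_of_iso e.symm (hchart U hU hUt).2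
      exact isAmple_restrict_of_opensRange_eq (f ⁻¹ᵁ U).ι (RelProj.emb f chart U hU)
        (by rw [Scheme.Opens.opensRange_ι, opensRange_emb]) L h1

end Rel

end
end Groth.Agent.H4.VAmpleRel3
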