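import Mathlib
import Groth.Agent.H4.PBundle3
import Groth.Agent.Lib.Lead.QC.AmpleFinite
import Groth.Agent.Lib.Lead.QC.RestrictOpen
import Groth.Agent.Lib.Lead.QC.SpanEpi

set_option autoImplicit false
set_option linter.unusedSectionVars false
set_option linter.unusedVariables false
set_option linter.style.haveILetI false
universe u
open CategoryTheory CategoryTheory.Limits AlgebraicGeometry TopologicalSpace Opposite
open scoped HomogeneousIdeal

namespace Groth.Agent.H4.VAmpleSec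
noncomputable section

open Groth.Agent.H6.Sym Groth.Agent.H6 Groth.Agent.LD.QC Groth.Agent.H4.PBundle Groth.Agent.H4.PBundle2
  Groth.Agent.H4.PBundle3
open Groth.Agent.H8.RelTwist Groth.Agent.H8.RelTilde Groth.Agent.H8.GTW Groth.Agent.H8.ProjTilde

/-- a relatively very ample module is invertible. -/
theorem isInvertible_of_veryAmple {X Y : Scheme.{u}} (q : X ⟶ Y) (L : X.Modules)
    (h : RelProj.IsRelVeryAmple q L) : PicF.IsInvertible L := by
  obtain ⟨E, hE, 𝒮, j, hj, P, p, chart, hP, O1, lam, hO1, i, hi, hq, ⟨ι⟩⟩ := h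
  haveI : E.IsQuasicoherent := hE
  have h1 : PicF.IsInvertible O1 := relTwist_isInvertible (genDegOne_of_isGrSymAlg hj) hO1
  have h2 := isInvertible_pullback i h1
  rw [isInvertible_iff_exists_isBasisOver] at h2 ⊢
  intro x
  obtain ⟨V, e, hxV, he⟩ := h2 x
  exact ⟨V, ι.inv.app V e, hxV, he.map_of_bijective ι.inv (fun W' _ => app_bijective_of_isIso ι.inv W')⟩

/-- over an affine base, a relatively very ample module is generated by its global sections. -/
theorem exists_global_section {X Y : Scheme.{u}} [IsAffine Y] (q : X ⟶ Y) (L : X.Modules)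
    (h : RelProj.IsRelVeryAmple q L) (x : X) :
    ∃ t : Γ(L, ⊤), x ∈ CohB1.genLocus L (homOfSection L t) := by
  obtain ⟨E, hE, 𝒮, j, hj, P, p, chart, hP, O1, lam, hO1, i, hi, hq, ⟨ι⟩⟩ := h
  subst hq
  haveI : E.IsQuasicoherent := hE
  haveI : O1.IsQuasicoherent := relTwist_isQuasicoherent hO1
  have hU : IsAffineOpen (⊤ : Y.Opens) := isAffineOpen_top Y
  have hx' : i.base x ∈ (RelProj.emb p chart ⊤ hU).opensRange := by
    rw [opensRange_emb 𝒮 p chart ⊤ hU]; trivial
  obtain ⟨z, hz⟩ := hx'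
  obtain ⟨e, he⟩ := exists_sec_basicOpen hj ⊤ hU z
  have hg : QA.sec j ⊤ e ∈ 𝒮.deg ⊤ hU 1 := hj.2 ⊤ hU e
  obtain ⟨s, hs⟩ := exists_section_reads hO1 ⊤ hU (QA.sec j ⊤ e) hg
  have hb := isBasisOver_of_reads hO1 ⊤ hU (QA.sec j ⊤ e) hg s hs
  have hWU := image_basicOpen_le (p := p) (chart := chart) ⊤ hU (QA.sec j ⊤ e)
  have hbi := hb.pullback (g := i) (U' := i ⁻¹ᵁ (RelProj.emb p chart ⊤ hU ''ᵁ
      (Proj.basicOpen (𝒮.deg ⊤ hU) (QA.sec j ⊤ e)))) le_rfl
  have e1 := pbSec_res i O1 (le_refl (i ⁻¹ᵁ (p ⁻¹ᵁ ⊤))) (le_refl (i ⁻¹ᵁ (RelProj.emb p chart ⊤ hU ''ᵁ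
      (Proj.basicOpen (𝒮.deg ⊤ hU) (QA.sec j ⊤ e))))) (i.preimage_mono hWU) hWU s
  rw [e1] at hbi
  have hbL := hbi.map_of_bijective ι.inv (fun W' _ => app_bijective_of_isIso ι.inv W')
  rw [app_res] at hbL
  have hxW : x ∈ i ⁻¹ᵁ (RelProj.emb p chart ⊤ hU ''ᵁ
      (Proj.basicOpen (𝒮.deg ⊤ hU) (QA.sec j ⊤ e))) := ⟨z, he, hz⟩
  have htop : (⊤ : X.Opens) ≤ i ⁻¹ᵁ (p ⁻¹ᵁ ⊤) := fun _ _ => trivial
  refine ⟨L.presheaf.map (homOfLE htop).op (ι.inv.app (i ⁻¹ᵁ (p ⁻¹ᵁ ⊤)) (pbSec i O1 le_rfl s)), ?_⟩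
  refine (le_genLocus_iff_isBasisOver L _ _).mpr ?_ hxW
  rw [val_homOfSection]
  change IsBasisOver L _ (L.presheaf.map _ (L.presheaf.map _ _))
  rw [res_res]
  exact hbL

section Field
variable {X : Scheme.{u}} (M : X.Modules) (hM : PicF.IsInvertible M)

lemma homOfSection_add (t t' : Γ(M, ⊤)) :
    homOfSection M (t + t') = homOfSection M t + homOfSection M t' := by
  apply unitHom_ext
  rw [sectionOfHom_homOfSection]
  change _ = sectionOfHom (homOfSection M t) + sectionOfHom (homOfSection M t')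
  rw [sectionOfHom_homOfSection, sectionOfHom_homOfSection]

include hM in
lemma genLocus_smul_le' (r : Γ(X, ⊤)) (t : Γ(M, ⊤)) :
    CohB1.genLocus M (homOfSection M (r • t)) ≤ CohB1.genLocus M (homOfSection M t) := by
  intro y hy
  obtain ⟨U, e, hyU, he⟩ := (isInvertible_iff_exists_isBasisOver M).mp hM y
  obtain ⟨g, hg⟩ := he.exists_coord (SecTwist.val (homOfSection M t) U)
  have hrg : SecTwist.val (homOfSection M (r • t)) U =
      (X.presheaf.map (homOfLE (le_top : U ≤ ⊤)).op r * g) • e := by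
    rw [val_homOfSection, smul_res, mul_smul, ← hg, val_homOfSection]
  have h1 := genLocus_inf_eq_basicOpen (homOfSection M (r • t)) he _ hrg
  have h2 := genLocus_inf_eq_basicOpen (homOfSection M t) he g hg
  have h3 : y ∈ X.basicOpen (X.presheaf.map (homOfLE (le_top : U ≤ ⊤)).op r * g) := by
    rw [← h1]; exact ⟨hy, hyU⟩
  rw [Scheme.basicOpen_mul] at h3
  have h4 : y ∈ CohB1.genLocus M (homOfSection M t) ⊓ U := by rw [h2]; exact h3.2
  exact h4.1

end Field

theorem main_S19593 (k : Type u) [Field k] [Infinite k] (Y : Scheme.{u})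
    (f : Y ⟶ Spec (CommRingCat.of k))
    (A : Y.Modules) (hA : RelProj.IsRelVeryAmple f A)
    (ι : Type) [Finite ι] (y : ι → ↥Y) :
    ∃ s : Coh.structureModule Y ⟶ A, ∀ i : ι, y i ∈ CohB1.genLocus A s := by
  classical
  have hinv : PicF.IsInvertible A := isInvertible_of_veryAmple f A hA
  let ρ : k →+* Γ(Y, ⊤) := (f.appTop.hom).comp (Scheme.ΓSpecIso (CommRingCat.of k)).inv.hom
  letI : Module k Γ(A, ⊤) := Module.compHom _ ρ
  let V : ι → Submodule k Γ(A, ⊤) := fun i =>
    { carrier := {t | y i ∉ CohB1.genLocus A (homOfSection A t)}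
      add_mem' := by
        intro a b ha hb hab
        rw [homOfSection_add] at hab
        rcases genLocus_add_le A hinv _ _ hab with h | h
        · exact ha h
        · exact hb h
      zero_mem' := by
        intro h0
        rw [homOfSection_zero, genLocus_zero A hinv] at h0
        exact h0
      smul_mem' := by
        intro c t ht hct
        exact ht (genLocus_smul_le' A hinv (ρ c) t hct) }
  have hV : ∀ i, V i ≠ ⊤ := by
    intro i hi
    obtain ⟨t, ht⟩ := exists_global_section f A hA (y i)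
    have : t ∈ V i := by rw [hi]; trivial
    exact this ht
  obtain ⟨t, ht⟩ := Submodule.exists_forall_notMem_of_forall_ne_top V hV
  refine ⟨homOfSection A t, fun i => ?_⟩
  by_contra h
  exact ht i h

end
end Groth.Agent.H4.VAmpleSec
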