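import Groth.Prelude.Def_HTop
import Groth.Agent.S7469
import Groth.Agent.S7470

set_option autoImplicit false

namespace Groth.Agent.H4.VCover

open CategoryTheory CategoryTheory.Limits AlgebraicGeometry HTop TopologicalSpace

universe w u

/-- the family of a finite family of opens -/
@[simps]
def opensFamily (Z : Scheme.{u}) (n : ℕ) (W : Fin n → Z.Opens) : PreZeroHypercover.{0} Z where
  I₀ := Fin n
  X k := (W k : Scheme.{u})
  f k := (W k).ι

theorem isStandardV_opensFamily (Z : Scheme.{u}) [IsAffine Z] (n : ℕ) (W : Fin n → Z.Opens)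
    (hW : ∀ k, IsAffineOpen (W k)) (hcov : ∀ z : Z, ∃ k, z ∈ W k) :
    IsStandardV (opensFamily Z n W) := by
  refine ⟨inferInstance, inferInstanceAs (Finite (Fin n)), fun k => hW k, ?_⟩
  intro V _ _ φ
  obtain ⟨k, hk⟩ := hcov (φ (IsLocalRing.closedPoint V))
  have htop : φ ⁻¹ᵁ W k = ⊤ := Scheme.preimage_eq_top_of_closedPoint_mem φ hk
  have hrange : Set.range φ ⊆ Set.range (W k).ι := by
    rintro _ ⟨x, rfl⟩
    rw [Scheme.Opens.range_ι]
    have : x ∈ φ ⁻¹ᵁ W k := by rw [htop]; trivial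
    exact this
  let g' : Spec V ⟶ (W k : Scheme.{u}) := IsOpenImmersion.lift (W k).ι φ hrange
  have hg' : g' ≫ (W k).ι = φ := IsOpenImmersion.lift_fac _ _ _
  refine ⟨V, inferInstance, inferInstance, 𝟙 V, ⟨Function.injective_id, ?_⟩, k, g', ?_⟩
  · exact ⟨fun a ha => ha⟩
  · change g' ≫ (W k).ι = _
    rw [hg', Spec.map_id, Category.id_comp]

/-- the core lemma: a V covering can be refined by a standard V covering over any affine scheme -/
theorem exists_standardV_refinesOver {T : Scheme.{u}} (E : PreZeroHypercover.{w} T) (hE : IsVCover E)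
    (Z : Scheme.{u}) [IsAffine Z] (h : Z ⟶ T) :
    ∃ C : PreZeroHypercover.{0} Z, IsStandardV C ∧ RefinesOver h C E := by
  -- choose affine neighbourhoods
  have hex : ∀ z : Z, ∃ (U : T.affineOpens) (W : Z.Opens), IsAffineOpen W ∧ z ∈ W ∧
      W ≤ h ⁻¹ᵁ (U : T.Opens) := by
    intro z
    obtain ⟨U, hU, hzU, -⟩ := exists_isAffineOpen_mem_and_subset (x := h z) (U := ⊤) trivial
    obtain ⟨W, hW, hzW, hWle⟩ := exists_isAffineOpen_mem_and_subset (x := z) (U := h ⁻¹ᵁ U) hzU
    exact ⟨⟨U, hU⟩, W, hW, hzW, hWle⟩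
  choose U W hW hzW hWle using hex
  obtain ⟨t, ht⟩ := isCompact_univ.elim_finite_subcover (fun z => (W z : Set Z))
    (fun z => (W z).2) (fun z _ => Set.mem_iUnion.mpr ⟨z, hzW z⟩)
  let n := t.card
  let e : Fin n ≃ t := t.equivFin.symm
  let W' : Fin n → Z.Opens := fun k => W (e k)
  let U' : Fin n → T.affineOpens := fun k => U (e k)
  have hcov : ∀ z : Z, ∃ k, z ∈ W' k := by
    intro z
    have := ht (Set.mem_univ z)
    simp only [Set.mem_iUnion] at this
    obtain ⟨z', hz't, hz⟩ := this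
    exact ⟨e.symm ⟨z', hz't⟩, by simpa [W'] using hz⟩
  have hF : ∀ k, ∃ F : PreZeroHypercover.{0} ((U' k : T.Opens) : Scheme.{u}),
      IsStandardV F ∧ RefinesOver (U' k : T.Opens).ι F E := fun k => hE (U' k)
  choose F hFV hFR using hF
  let g : ∀ k, (W' k : Scheme.{u}) ⟶ ((U' k : T.Opens) : Scheme.{u}) := fun k =>
    h.resLE (U' k : T.Opens) (W' k) (hWle (e k))
  have hg : ∀ k, g k ≫ (U' k : T.Opens).ι = (W' k).ι ≫ h := fun k => Scheme.Hom.resLE_comp_ι _ _
  have haff : ∀ k, IsAffine (W' k : Scheme.{u}) := fun k => hW (e k)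
  let G : ∀ k : (opensFamily Z n W').I₀, PreZeroHypercover.{0} ((opensFamily Z n W').X k) :=
    fun k => (F k).pullback₁ (g k)
  have hG : ∀ k, IsStandardV (G k) := fun k => by
    haveI := haff k
    exact Groth.Agent.S7469.result (g k) (F k) (hFV k)
  refine ⟨(opensFamily Z n W').bind G,
    Groth.Agent.S7470.result _ (isStandardV_opensFamily Z n W' (fun k => hW (e k)) hcov) G hG, ?_⟩
  rintro ⟨(k : Fin n), (j : (F k).I₀)⟩
  obtain ⟨i, r, hr⟩ := hFR k j
  refine ⟨i, pullback.snd (g k) ((F k).f j) ≫ r, ?_⟩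
  change _ = (pullback.fst (g k) ((F k).f j) ≫ (W' k).ι) ≫ h
  have e1 : (pullback.snd (g k) ((F k).f j) ≫ r) ≫ E.f i =
      pullback.snd (g k) ((F k).f j) ≫ ((F k).f j ≫ (U' k : T.Opens).ι) := by
    rw [Category.assoc, hr]
  have e2 : pullback.snd (g k) ((F k).f j) ≫ ((F k).f j ≫ (U' k : T.Opens).ι) =
      pullback.fst (g k) ((F k).f j) ≫ (g k ≫ (U' k : T.Opens).ι) := by
    rw [← Category.assoc, ← pullback.condition, Category.assoc]
  have e3 : pullback.fst (g k) ((F k).f j) ≫ (g k ≫ (U' k : T.Opens).ι) =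
      (pullback.fst (g k) ((F k).f j) ≫ (W' k).ι) ≫ h := by
    rw [hg k, Category.assoc]
  exact e1.trans (e2.trans e3)

end Groth.Agent.H4.VCover
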