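import Mathlib
import Groth.Prelude.Def_EtMil
import Groth.Agent.S6900

open TensorProduct

universe u

namespace Groth.Agent.H4.ValEtale

section val

variable (V : Type u) [CommRing V] [IsDomain V] [ValuationRing V] (p : Ideal V) [p.IsPrime]

theorem exists_mem_of_mem_maximalIdeal (a : Localization.AtPrime p)
    (ha : a ∈ IsLocalRing.maximalIdeal (Localization.AtPrime p)) :
    ∃ x ∈ p, algebraMap V (Localization.AtPrime p) x = a := by
  obtain ⟨x, s, rfl⟩ := IsLocalization.exists_mk'_eq p.primeCompl a
  have hx : x ∈ p :=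
    (IsLocalization.AtPrime.mk'_mem_maximal_iff (Localization.AtPrime p) p x s).mp ha
  rcases ValuationRing.dvd_total x (s : V) with h | h
  · obtain ⟨c, hc⟩ := h
    have : (s : V) ∈ p := by rw [hc]; exact p.mul_mem_right c hx
    exact absurd this s.2
  · obtain ⟨y, hy⟩ := h
    have h2 : (s : V) * y ∈ p := by rw [← hy]; exact hx
    have hyp : y ∈ p := ((inferInstance : p.IsPrime).mem_or_mem h2).resolve_left s.2
    refine ⟨y, hyp, ?_⟩
    rw [IsLocalization.eq_mk'_iff_mul_eq, ← map_mul, hy, mul_comm]

theorem fibreSquare :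
    EtMil.IsFibreSquare V (V ⧸ p) (Localization.AtPrime p) p.ResidueField := by
  refine ⟨IsLocalRing.residue_surjective, ?_⟩
  intro b a' hba
  obtain ⟨v₀, rfl⟩ := Ideal.Quotient.mk_surjective b
  have h1 : a' - algebraMap V (Localization.AtPrime p) v₀ ∈
      IsLocalRing.maximalIdeal (Localization.AtPrime p) := by
    rw [← IsLocalRing.residue_eq_zero_iff, map_sub, sub_eq_zero]
    have e1 : algebraMap (V ⧸ p) p.ResidueField (Ideal.Quotient.mk p v₀) =
        IsLocalRing.residue _ (algebraMap V (Localization.AtPrime p) v₀) := by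
      rw [Ideal.algebraMap_quotient_residueField_mk]
      rfl
    have e2 : algebraMap (Localization.AtPrime p) p.ResidueField a' =
        IsLocalRing.residue _ a' := rfl
    exact e2.symm.trans (hba.symm.trans e1)
  obtain ⟨x, hx, hxa⟩ := exists_mem_of_mem_maximalIdeal V p _ h1
  refine ⟨v₀ + x, ⟨?_, ?_⟩, ?_⟩
  · show Ideal.Quotient.mk p (v₀ + x) = Ideal.Quotient.mk p v₀
    rw [map_add, Ideal.Quotient.eq_zero_iff_mem.mpr hx, add_zero]
  · rw [map_add, hxa]; ring
  · rintro y ⟨-, hy2⟩
    apply IsLocalization.injective (Localization.AtPrime p) p.primeCompl_le_nonZeroDivisors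
    rw [hy2, map_add, hxa]; ring

end val

section pushouts

theorem pushout_residue {R S : Type u} [CommRing R] [CommRing S] [IsLocalRing R] [IsLocalRing S]
    [Algebra R S] [IsLocalHom (algebraMap R S)] [Algebra.Etale R S] :
    Algebra.IsPushout R S (IsLocalRing.ResidueField R) (IsLocalRing.ResidueField S) := by
  have hmax : (IsLocalRing.maximalIdeal R).map (algebraMap R S) = IsLocalRing.maximalIdeal S :=
    Algebra.FormallyUnramified.map_maximalIdeal
  let e₀ : (S ⧸ (IsLocalRing.maximalIdeal R).map (algebraMap R S)) ≃ₐ[S]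
      S ⊗[R] (R ⧸ IsLocalRing.maximalIdeal R) :=
    Algebra.TensorProduct.quotIdealMapEquivTensorQuot S (IsLocalRing.maximalIdeal R)
  let e₁ : (S ⧸ (IsLocalRing.maximalIdeal R).map (algebraMap R S)) ≃ₐ[S]
      (S ⧸ IsLocalRing.maximalIdeal S) := Ideal.quotientEquivAlgOfEq S hmax
  let e : S ⊗[R] (IsLocalRing.ResidueField R) ≃ₐ[S] IsLocalRing.ResidueField S :=
    e₀.symm.trans e₁
  constructor
  refine IsBaseChange.of_equiv e.toLinearEquiv (fun x => ?_)
  obtain ⟨r, rfl⟩ := IsLocalRing.residue_surjective x
  have h1 : e₀.symm ((1 : S) ⊗ₜ[R] (Ideal.Quotient.mk (IsLocalRing.maximalIdeal R) r)) =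
      Ideal.Quotient.mk _ (algebraMap R S r) := by
    rw [AlgEquiv.symm_apply_eq, Algebra.TensorProduct.quotIdealMapEquivTensorQuot_mk,
      Algebra.algebraMap_eq_smul_one, TensorProduct.smul_tmul]
    congr 1
    rw [Algebra.smul_def, mul_one]
    rfl
  show e₁ (e₀.symm ((1 : S) ⊗ₜ[R] (Ideal.Quotient.mk (IsLocalRing.maximalIdeal R) r))) = _
  rw [h1]
  rfl

theorem exists_mul_eq {E F : Type u} [CommRing E] [IsDomain E] [CommRing F] [IsDomain F]
    [Algebra E F] (hinj : Function.Injective (algebraMap E F)) [Algebra.Etale E F]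
    (b : F) (hb : b ≠ 0) : ∃ (g : F) (e : E), e ≠ 0 ∧ b * g = algebraMap E F e := by
  let T : Submonoid F := Algebra.algebraMapSubmonoid F (nonZeroDivisors E)
  have hT : T ≤ nonZeroDivisors F := by
    rintro _ ⟨e, he, rfl⟩
    exact mem_nonZeroDivisors_of_ne_zero
      ((map_ne_zero_iff _ hinj).mpr (nonZeroDivisors.ne_zero he))
  haveI : IsDomain (Localization T) := IsLocalization.isDomain_of_le_nonZeroDivisors (Localization T) hT
  haveI hpo : Algebra.IsPushout E F (FractionRing E) (Localization T) :=
    Algebra.isPushout_of_isLocalization (nonZeroDivisors E) _ _ _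
  haveI hpo' : Algebra.IsPushout E (FractionRing E) F (Localization T) := hpo.symm
  haveI : Algebra.Etale (FractionRing E) (Localization T) :=
    Algebra.Etale.of_equiv (Algebra.IsPushout.equiv E (FractionRing E) F (Localization T))
  haveI : Module.Finite (FractionRing E) (Localization T) :=
    Algebra.FormallyUnramified.finite_of_free _ _
  haveI : IsArtinianRing (Localization T) := IsArtinianRing.of_finite (FractionRing E) _
  have hfield : IsField (Localization T) := IsArtinianRing.isField_of_isDomain _
  have hinjT : Function.Injective (algebraMap F (Localization T)) :=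
    IsLocalization.injective (Localization T) hT
  have hb' : algebraMap F (Localization T) b ≠ 0 := (map_ne_zero_iff _ hinjT).mpr hb
  obtain ⟨u, hu⟩ := hfield.mul_inv_cancel hb'
  obtain ⟨g, t, rfl⟩ := IsLocalization.exists_mk'_eq T u
  rw [IsLocalization.mul_mk'_eq_mk'_of_mul, IsLocalization.mk'_eq_iff_eq_mul, one_mul] at hu
  have hbg : b * g = (t : F) := hinjT hu
  obtain ⟨e, he, het⟩ := t.2
  exact ⟨g, e, nonZeroDivisors.ne_zero he, hbg.trans het.symm⟩

theorem isLocalization_of_etale {E F kF : Type u} [CommRing E] [IsDomain E] [CommRing F]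
    [IsDomain F] [Algebra E F] (hinj : Function.Injective (algebraMap E F)) [Algebra.Etale E F]
    [Field kF] [Algebra F kF] [IsFractionRing F kF] :
    IsLocalization (Algebra.algebraMapSubmonoid F (nonZeroDivisors E)) kF := by
  have hinjF : Function.Injective (algebraMap F kF) := IsFractionRing.injective F kF
  refine (isLocalization_iff _ _).mpr ⟨?_, ?_, ?_⟩
  · rintro ⟨_, e, he, rfl⟩
    apply IsUnit.mk0
    exact (map_ne_zero_iff _ hinjF).mpr
      ((map_ne_zero_iff _ hinj).mpr (nonZeroDivisors.ne_zero he))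
  · intro z
    obtain ⟨a, b, hb, rfl⟩ := IsFractionRing.div_surjective (A := F) z
    obtain ⟨g, e, he, hbg⟩ := exists_mul_eq hinj b (nonZeroDivisors.ne_zero hb)
    refine ⟨(a * g, ⟨algebraMap E F e, e, mem_nonZeroDivisors_of_ne_zero he, rfl⟩), ?_⟩
    show algebraMap F kF a / algebraMap F kF b * algebraMap F kF (algebraMap E F e) =
      algebraMap F kF (a * g)
    have hb0 : algebraMap F kF b ≠ 0 :=
      (map_ne_zero_iff _ hinjF).mpr (nonZeroDivisors.ne_zero hb)
    rw [← hbg, map_mul, map_mul]
    field_simp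
  · intro x y hxy
    exact ⟨1, by rw [hinjF hxy]⟩

end pushouts

theorem etale_of_valuationRing {V W : Type u} [CommRing V] [IsDomain V] [ValuationRing V]
    [CommRing W] [IsDomain W] [ValuationRing W] [Algebra V W]
    (P : Ideal W) [P.IsPrime]
    (hA : (Localization.localRingHom (P.comap (algebraMap V W)) P (algebraMap V W) rfl).Etale)
    (hB : (Ideal.quotientMap P (algebraMap V W)
      (le_refl (P.comap (algebraMap V W)))).Etale) :
    Algebra.Etale V W := by
  let p : Ideal V := P.under V
  haveI : p.IsPrime := inferInstanceAs (P.under V).IsPrime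
  haveI : P.LiesOver p := inferInstanceAs (P.LiesOver (P.under V))
  letI : Algebra (Localization.AtPrime p) (Localization.AtPrime P) :=
    Localization.AtPrime.algebraOfLiesOver p P
  haveI hA' : Algebra.Etale (Localization.AtPrime p) (Localization.AtPrime P) := hA
  haveI hB' : Algebra.Etale (V ⧸ p) (W ⧸ P) := RingHom.etale_algebraMap.mp hB
  letI : Algebra (V ⧸ p) P.ResidueField :=
    ((algebraMap (W ⧸ P) P.ResidueField).comp (algebraMap (V ⧸ p) (W ⧸ P))).toAlgebra
  haveI : IsScalarTower (V ⧸ p) (W ⧸ P) P.ResidueField := IsScalarTower.of_algebraMap_eq' rfl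
  haveI : IsScalarTower (V ⧸ p) p.ResidueField P.ResidueField :=
    IsScalarTower.of_algebraMap_eq (fun x => by
      obtain ⟨v, rfl⟩ := Ideal.Quotient.mk_surjective x
      show algebraMap (W ⧸ P) P.ResidueField
          (algebraMap (V ⧸ p) (W ⧸ P) (Ideal.Quotient.mk p v)) =
        algebraMap p.ResidueField P.ResidueField
          (algebraMap (V ⧸ p) p.ResidueField (Ideal.Quotient.mk p v))
      rw [Ideal.Quotient.algebraMap_mk_of_liesOver, Ideal.algebraMap_quotient_residueField_mk,
        Ideal.algebraMap_quotient_residueField_mk,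
        ← IsScalarTower.algebraMap_apply V p.ResidueField P.ResidueField,
        ← IsScalarTower.algebraMap_apply V W P.ResidueField])
  have hsq := fibreSquare V p
  have hsq' := fibreSquare W P
  haveI : Algebra.IsPushout (Localization.AtPrime p) (Localization.AtPrime P)
      p.ResidueField P.ResidueField := pushout_residue
  haveI : Algebra.IsPushout (V ⧸ p) (W ⧸ P) p.ResidueField P.ResidueField := by
    haveI : IsLocalization (Algebra.algebraMapSubmonoid (W ⧸ P) (nonZeroDivisors (V ⧸ p)))
        P.ResidueField :=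
      isLocalization_of_etale (FaithfulSMul.algebraMap_injective (V ⧸ p) (W ⧸ P))
    exact Algebra.isPushout_of_isLocalization (nonZeroDivisors (V ⧸ p)) _ _ _
  exact ((Groth.Agent.S6900.result V (V ⧸ p) (Localization.AtPrime p) p.ResidueField hsq
    W (W ⧸ P) (Localization.AtPrime P) P.ResidueField hsq').2.2.2.2).mpr ⟨hB', hA'⟩

theorem main
    {K L Γ₀ Γ₁ : Type u} [Field K] [Field L] [Algebra K L]
    [LinearOrderedCommGroupWithZero Γ₀] [LinearOrderedCommGroupWithZero Γ₁]
    (vK : Valuation K Γ₀) (vL : Valuation L Γ₁) [vK.HasExtension vL]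
    (P : Ideal vL.valuationSubring) [P.IsPrime]
    (hA : (Localization.localRingHom (Ideal.comap (algebraMap vK.valuationSubring vL.valuationSubring) P) P
      (algebraMap vK.valuationSubring vL.valuationSubring) rfl).Etale)
    (hB : (Ideal.quotientMap P (algebraMap vK.valuationSubring vL.valuationSubring)
      (le_refl (Ideal.comap (algebraMap vK.valuationSubring vL.valuationSubring) P))).Etale) :
    Algebra.Etale vK.valuationSubring vL.valuationSubring :=
  etale_of_valuationRing P hA hB

end Groth.Agent.H4.ValEtale
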