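import Mathlib

set_option autoImplicit false
universe v u v' u'
open CategoryTheory CategoryTheory.Limits CategoryTheory.Pretriangulated CategoryTheory.Triangulated

namespace Groth.Agent.H4.VerdierT

section

variable {C : Type u} [Category.{v} C] [Preadditive C] [HasZeroObject C] [HasShift C ℤ]
    [∀ n : ℤ, (shiftFunctor C n).Additive] [Pretriangulated C] [IsTriangulated C]
    (t : TStructure C) (hb : ∀ X : C, t.bounded X)
    (D : ObjectProperty C) [D.IsTriangulated] [D.IsClosedUnderIsomorphisms]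
    (h1 : ∀ X : C, D X → ∀ n : ℤ, D ((t.truncGELE n n).obj X))
    (h2 : ∀ (X Y Z : C) (f : X ⟶ Y) (g : Y ⟶ Z) (h : Z ⟶ X⟦(1 : ℤ)⟧),
      Triangle.mk f g h ∈ distTriang C → t.heart X → t.heart Y → t.heart Z → D Y → D X ∧ D Z)

include hb h1 in
lemma truncLT_mem (N : C) (hN : D N) (n : ℤ) : D ((t.truncLT n).obj N) := by
  obtain ⟨⟨a, ha⟩, -⟩ := hb N
  by_cases hna : n ≤ a
  · have : t.IsGE N n := t.isGE_of_ge N n a hna
    exact D.prop_of_isZero (t.isZero_truncLT_obj_of_isGE n N)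
  · have han : a ≤ n := by lia
    induction n, han using Int.le_induction with
    | base => exact D.prop_of_isZero (t.isZero_truncLT_obj_of_isGE a N)
    | succ n han ih =>
      have ih' : D ((t.truncLT n).obj N) := by
        by_cases hna' : n ≤ a
        · have : t.IsGE N n := t.isGE_of_ge N n a hna'
          exact D.prop_of_isZero (t.isZero_truncLT_obj_of_isGE n N)
        · exact ih hna'
      have hiso : IsIso ((t.truncLT n).map ((t.truncLTι (n + 1)).app N)) :=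
        t.isIso_truncLT_map_truncLTι_app n (n + 1) (by lia) N
      have h₁ : D ((t.truncLT n).obj ((t.truncLT (n + 1)).obj N)) :=
        D.prop_of_iso (asIso ((t.truncLT n).map ((t.truncLTι (n + 1)).app N))).symm ih'
      have h₃ : D ((t.truncGE n).obj ((t.truncLT (n + 1)).obj N)) := h1 N hN n
      exact D.ext_of_isTriangulatedClosed₂ _
        (t.triangleLTGE_distinguished n ((t.truncLT (n + 1)).obj N)) h₁ h₃

include hb h1 in
lemma truncGE_mem (N : C) (hN : D N) (n : ℤ) : D ((t.truncGE n).obj N) :=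
  D.ext_of_isTriangulatedClosed₃ _ (t.triangleLTGE_distinguished n N)
    (truncLT_mem t hb D h1 N hN n) hN

include hb h1 h2 in
lemma lemmaA {M N P : C} (u : M ⟶ N) (v : N ⟶ P) (w : P ⟶ M⟦(1:ℤ)⟧)
    (hT : Triangle.mk u v w ∈ distTriang C) (hM : t.IsLE M 0) (hP : t.IsGE P 0) (hN : D N) :
    D M := by
  have hφ : IsIso ((t.truncLT 0).map u) :=
    t.isIso₁_truncLT_map_of_isGE _ hT 0 hP
  have hLM : D ((t.truncLT 0).obj M) :=
    D.prop_of_iso (asIso ((t.truncLT 0).map u)).symm (truncLT_mem t hb D h1 N hN 0)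
  obtain ⟨Z, g, k, hT1, hZ⟩ := (t.isIso_truncLT_map_iff u 0).1 hφ
  have hDZ : D Z := D.ext_of_isTriangulatedClosed₃ _ hT1 hLM hN
  have oct1 := someOctahedron rfl (t.triangleLTGE_distinguished 0 M) hT hT1
  have hH_le : t.IsLE ((t.truncGE 0).obj M) 0 := inferInstance
  have hH_ge : t.IsGE ((t.truncGE 0).obj M) 0 := inferInstance
  let m₁ : (t.truncGE 0).obj M ⟶ Z := oct1.m₁
  have hHZ_le : t.IsLE ((t.truncLE 0).obj Z) 0 := inferInstance
  have hHZ_ge : t.IsGE ((t.truncLE 0).obj Z) 0 := inferInstance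
  have hDHZ : D ((t.truncLE 0).obj Z) :=
    D.prop_of_iso (asIso ((t.truncGEπ 0).app ((t.truncLE 0).obj Z))).symm (h1 Z hDZ 0)
  let j : (t.truncGE 0).obj M ⟶ (t.truncLE 0).obj Z := t.liftTruncLE m₁ 0
  have hj : j ≫ (t.truncLEι 0).app Z = m₁ := t.liftTruncLE_ι m₁ 0
  obtain ⟨K, c, d, hTj⟩ := distinguished_cocone_triangle j
  have oct2 := someOctahedron hj hTj (t.triangleLEGE_distinguished 0 1 (by lia) Z) oct1.mem
  have hK_le : t.IsLE K 0 := by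
    refine t.isLE₂ _ (rot_of_distTriang _ hTj) 0 hHZ_le ?_
    have : t.IsLE (((t.truncGE 0).obj M)⟦(1:ℤ)⟧) (-1) := t.isLE_shift _ 0 1 (-1)
    exact t.isLE_of_le (((t.truncGE 0).obj M)⟦(1:ℤ)⟧) (-1) 0
  have hK_ge : t.IsGE K 0 := by
    refine t.isGE₂ _ (inv_rot_of_distTriang _ oct2.mem) 0 ?_ hP
    have : t.IsGE (((t.truncGE 1).obj Z)⟦(-1:ℤ)⟧) 2 := t.isGE_shift _ 1 (-1) 2
    exact t.isGE_of_ge (((t.truncGE 1).obj Z)⟦(-1:ℤ)⟧) 0 2
  have hDH : D ((t.truncGE 0).obj M) :=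
    (h2 _ _ _ j c d hTj ((t.mem_heart_iff _).2 ⟨hH_le, hH_ge⟩)
      ((t.mem_heart_iff _).2 ⟨hHZ_le, hHZ_ge⟩) ((t.mem_heart_iff _).2 ⟨hK_le, hK_ge⟩) hDHZ).1
  exact D.ext_of_isTriangulatedClosed₂ _ (t.triangleLTGE_distinguished 0 M) hLM hDH

include hb h1 h2 in
lemma main_aux {X' X N : C} (s : X' ⟶ X) (a : X ⟶ N) (b : N ⟶ X'⟦(1:ℤ)⟧)
    (hT : Triangle.mk s a b ∈ distTriang C) (hX : t.IsLE X 0) (hN : D N) :
    D ((t.truncGE 1).obj X') := by
  obtain ⟨M, c, d, hTM⟩ := distinguished_cocone_triangle ((t.truncLTι 1).app X' ≫ s)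
  have oct := someOctahedron rfl (t.triangleLTGE_distinguished 1 X') hT hTM
  have hM : t.IsLE M 0 := by
    refine t.isLE₂ _ (rot_of_distTriang _ hTM) 0 hX ?_
    have h0 : t.IsLE ((t.truncLT 1).obj X') 0 := t.isLE_truncLT_obj X' 1 0
    have : t.IsLE (((t.truncLT 1).obj X')⟦(1:ℤ)⟧) (-1) := t.isLE_shift _ 0 1 (-1)
    exact t.isLE_of_le (((t.truncLT 1).obj X')⟦(1:ℤ)⟧) (-1) 0
  have hP : t.IsGE (((t.truncGE 1).obj X')⟦(1:ℤ)⟧) 0 := t.isGE_shift _ 1 1 0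
  have hDM : D M := lemmaA t hb D h1 h2 _ _ _ (rot_of_distTriang _ oct.mem) hM hP hN
  exact D.ext_of_isTriangulatedClosed₁ _ oct.mem hDM hN

variable {E : Type u'} [Category.{v'} E] [Preadditive E] [HasZeroObject E] [HasShift E ℤ]
    [∀ n : ℤ, (shiftFunctor E n).Additive] [Pretriangulated E]
    (q : C ⥤ E) [q.CommShift ℤ] [q.IsTriangulated] [q.IsLocalization D.trW]

include hb h1 h2 in
lemma hom_zero {X Y : C} (hX : t.IsLE X 0) (hY : t.IsGE Y 1) (f : q.obj X ⟶ q.obj Y) : f = 0 := by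
  obtain ⟨φ, rfl⟩ := Localization.exists_rightFraction q D.trW f
  obtain ⟨N, a, b, hT, hN⟩ := (D.trW_iff φ.s).1 φ.hs
  have hD := main_aux t hb D h1 h2 φ.s a b hT hX hN
  have hi : D.trW ((t.truncLTι 1).app φ.X') :=
    ObjectProperty.trW.mk D (t.triangleLTGE_distinguished 1 φ.X') hD
  have : IsIso (q.map ((t.truncLTι 1).app φ.X')) := Localization.inverts q D.trW _ hi
  have h0 : t.IsLE ((t.truncLT 1).obj φ.X') 0 := t.isLE_truncLT_obj φ.X' 1 0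
  have hz : (t.truncLTι 1).app φ.X' ≫ φ.f = 0 :=
    t.zero_of_isLE_of_isGE _ 0 1 (by lia) h0 hY
  have hqf : q.map φ.f = 0 := by
    rw [← cancel_epi (q.map ((t.truncLTι 1).app φ.X')), ← q.map_comp, hz, q.map_zero, comp_zero]
  have : IsIso (q.map φ.s) := Localization.inverts q D.trW _ φ.hs
  rw [← cancel_epi (q.map φ.s), MorphismProperty.RightFraction.map_s_comp_map, hqf, comp_zero]

set_option backward.isDefEq.respectTransparency.types false in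
set_option backward.defeqAttrib.useBackward true in
/-- The induced t-structure on the Verdier quotient. -/
def quotT : TStructure E where
  le n := fun Y => ∃ X : C, t.le n X ∧ Nonempty (q.obj X ≅ Y)
  ge n := fun Y => ∃ X : C, t.ge n X ∧ Nonempty (q.obj X ≅ Y)
  le_isClosedUnderIsomorphisms n := ⟨fun e ⟨X, hX, ⟨i⟩⟩ => ⟨X, hX, ⟨i ≪≫ e⟩⟩⟩
  ge_isClosedUnderIsomorphisms n := ⟨fun e ⟨X, hX, ⟨i⟩⟩ => ⟨X, hX, ⟨i ≪≫ e⟩⟩⟩
  le_shift n a n' h Y := by
    rintro ⟨X, hX, ⟨i⟩⟩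
    exact ⟨X⟦a⟧, t.le_shift n a n' h X hX,
      ⟨(q.commShiftIso a).app X ≪≫ (shiftFunctor E a).mapIso i⟩⟩
  ge_shift n a n' h Y := by
    rintro ⟨X, hX, ⟨i⟩⟩
    exact ⟨X⟦a⟧, t.ge_shift n a n' h X hX,
      ⟨(q.commShiftIso a).app X ≪≫ (shiftFunctor E a).mapIso i⟩⟩
  zero' X Y f := by
    rintro ⟨X₀, hX₀, ⟨i⟩⟩ ⟨Y₀, hY₀, ⟨j⟩⟩
    have hz := hom_zero t hb D h1 h2 q ((t.le_iff_isLE _ _).1 hX₀) ((t.ge_iff_isGE _ _).1 hY₀)
      (i.hom ≫ f ≫ j.inv)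
    have : f = i.inv ≫ (i.hom ≫ f ≫ j.inv) ≫ j.hom := by simp
    rw [this, hz, zero_comp, comp_zero]
  le_zero_le := fun Y ⟨X, hX, hi⟩ => ⟨X, t.le_zero_le X hX, hi⟩
  ge_one_le := fun Y ⟨X, hX, hi⟩ => ⟨X, t.ge_one_le X hX, hi⟩
  exists_triangle_zero_one A := by
    have := Localization.essSurj q D.trW
    obtain ⟨X, ⟨e⟩⟩ : ∃ X, Nonempty (q.obj X ≅ A) := ⟨q.objPreimage A, ⟨q.objObjPreimageIso A⟩⟩
    obtain ⟨X₀, X₁, h₀, h₁, f, g, h, hT⟩ := t.exists_triangle_zero_one X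
    have hqT := q.map_distinguished _ hT
    refine ⟨q.obj X₀, q.obj X₁, ⟨X₀, h₀, ⟨Iso.refl _⟩⟩, ⟨X₁, h₁, ⟨Iso.refl _⟩⟩,
      q.map f ≫ e.hom, e.inv ≫ q.map g, q.map h ≫ (q.commShiftIso (1:ℤ)).hom.app X₀, ?_⟩
    refine isomorphic_distinguished _ hqT _
      (Triangle.isoMk _ _ (Iso.refl _) e.symm (Iso.refl _) ?_ ?_ ?_)
    all_goals simp

lemma tstructure_ext {t₁ t₂ : TStructure E} (hle : t₁.le = t₂.le) (hge : t₁.ge = t₂.ge) :
    t₁ = t₂ := by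
  cases t₁; cases t₂
  simp only at hle hge
  subst hle hge
  rfl

include hb h1 h2 in
theorem main :
    ∃ t' : TStructure E,
      (∀ (X : C) (n : ℤ), t.IsLE X n → t'.IsLE (q.obj X) n) ∧
      (∀ (X : C) (n : ℤ), t.IsGE X n → t'.IsGE (q.obj X) n) ∧
      (∀ (Y : E) (n : ℤ), t'.IsLE Y n ↔ ∃ X : C, t.IsLE X n ∧ Nonempty (q.obj X ≅ Y)) ∧
      (∀ (Y : E) (n : ℤ), t'.IsGE Y n ↔ ∃ X : C, t.IsGE X n ∧ Nonempty (q.obj X ≅ Y)) ∧
      ∀ t'' : TStructure E,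
        (∀ (X : C) (n : ℤ), t.IsLE X n → t''.IsLE (q.obj X) n) →
        (∀ (X : C) (n : ℤ), t.IsGE X n → t''.IsGE (q.obj X) n) → t'' = t' := by
  have hle : ∀ (Y : E) (n : ℤ), (quotT t hb D h1 h2 q).IsLE Y n ↔
      ∃ X : C, t.IsLE X n ∧ Nonempty (q.obj X ≅ Y) := by
    intro Y n
    rw [← TStructure.le_iff_isLE]
    constructor
    · rintro ⟨X, hX, hi⟩
      exact ⟨X, (t.le_iff_isLE _ _).1 hX, hi⟩
    · rintro ⟨X, hX, hi⟩
      exact ⟨X, (t.le_iff_isLE _ _).2 hX, hi⟩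
  have hge : ∀ (Y : E) (n : ℤ), (quotT t hb D h1 h2 q).IsGE Y n ↔
      ∃ X : C, t.IsGE X n ∧ Nonempty (q.obj X ≅ Y) := by
    intro Y n
    rw [← TStructure.ge_iff_isGE]
    constructor
    · rintro ⟨X, hX, hi⟩
      exact ⟨X, (t.ge_iff_isGE _ _).1 hX, hi⟩
    · rintro ⟨X, hX, hi⟩
      exact ⟨X, (t.ge_iff_isGE _ _).2 hX, hi⟩
  refine ⟨quotT t hb D h1 h2 q, fun X n hX => (hle _ _).2 ⟨X, hX, ⟨Iso.refl _⟩⟩,
    fun X n hX => (hge _ _).2 ⟨X, hX, ⟨Iso.refl _⟩⟩, hle, hge, ?_⟩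
  intro t'' hl'' hg''
  have sub_le : ∀ (Y : E) (n : ℤ), (quotT t hb D h1 h2 q).IsLE Y n → t''.IsLE Y n := by
    intro Y n hY
    obtain ⟨X, hX, ⟨i⟩⟩ := (hle Y n).1 hY
    have := hl'' X n hX
    exact t''.isLE_of_iso i n
  have sub_ge : ∀ (Y : E) (n : ℤ), (quotT t hb D h1 h2 q).IsGE Y n → t''.IsGE Y n := by
    intro Y n hY
    obtain ⟨X, hX, ⟨i⟩⟩ := (hge Y n).1 hY
    have := hg'' X n hX
    exact t''.isGE_of_iso i n
  apply tstructure_ext
  · funext n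
    ext Y
    rw [TStructure.le_iff_isLE, TStructure.le_iff_isLE]
    constructor
    · intro hY
      rw [(quotT t hb D h1 h2 q).isLE_iff_orthogonal n (n + 1) rfl]
      intro Z f hZ
      have := sub_ge Z (n + 1) hZ
      exact t''.zero_of_isLE_of_isGE f n (n + 1) (by lia) hY this
    · exact sub_le Y n
  · funext n
    ext Y
    rw [TStructure.ge_iff_isGE, TStructure.ge_iff_isGE]
    constructor
    · intro hY
      rw [(quotT t hb D h1 h2 q).isGE_iff_orthogonal (n - 1) n (by lia)]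
      intro Z f hZ
      have := sub_le Z (n - 1) hZ
      exact t''.zero_of_isLE_of_isGE f (n - 1) n (by lia) this hY
    · exact sub_ge Y n

end

end Groth.Agent.H4.VerdierT
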