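import Mathlib
import Groth.Prelude.Def_ProEtW

set_option linter.unusedSectionVars false
set_option linter.unusedVariables false
set_option linter.style.haveILetI false
set_option autoImplicit false

open TensorProduct

namespace Groth.Agent.H4.WContrLoc
universe u

section FlatProd
variable {R : Type*} [CommRing R] {M₁ M₂ : Type*} [AddCommGroup M₁] [AddCommGroup M₂]
  [Module R M₁] [Module R M₂]

lemma flat_prod [Module.Flat R M₁] [Module.Flat R M₂] : Module.Flat R (M₁ × M₂) := by
  rw [Module.Flat.iff_lTensor_preserves_injective_linearMap]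
  intro N N' _ _ _ _ f hf
  have h1 := Module.Flat.lTensor_preserves_injective_linearMap (M := M₁) f hf
  have h2 := Module.Flat.lTensor_preserves_injective_linearMap (M := M₂) f hf
  have key : (TensorProduct.prodLeft R R M₁ M₂ N').toLinearMap ∘ₗ f.lTensor (M₁ × M₂) =
      (LinearMap.prodMap (f.lTensor M₁) (f.lTensor M₂)) ∘ₗ
        (TensorProduct.prodLeft R R M₁ M₂ N).toLinearMap := by
    apply TensorProduct.ext'
    rintro ⟨m₁, m₂⟩ n
    simp
  intro x y hxy
  have h3 := congrArg (TensorProduct.prodLeft R R M₁ M₂ N') hxy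
  have e1 := LinearMap.congr_fun key x
  have e2 := LinearMap.congr_fun key y
  simp only [LinearMap.comp_apply, LinearEquiv.coe_coe] at e1 e2
  rw [e1, e2] at h3
  have hinj : Function.Injective (LinearMap.prodMap (f.lTensor M₁) (f.lTensor M₂)) := by
    intro a b hab
    simp only [LinearMap.prodMap_apply, Prod.mk.injEq] at hab
    exact Prod.ext (h1 hab.1) (h2 hab.2)
  exact (TensorProduct.prodLeft R R M₁ M₂ N).injective (hinj h3)

end FlatProd

section FlatTarget

lemma flat_prod_target {T X₁ X₂ : Type*} [CommRing T] [CommRing X₁] [CommRing X₂]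
    (μ : T →+* X₁ × X₂)
    (h₁ : ((RingHom.fst X₁ X₂).comp μ).Flat) (h₂ : ((RingHom.snd X₁ X₂).comp μ).Flat) :
    μ.Flat := by
  letI a₁ : Algebra T X₁ := ((RingHom.fst X₁ X₂).comp μ).toAlgebra
  letI a₂ : Algebra T X₂ := ((RingHom.snd X₁ X₂).comp μ).toAlgebra
  haveI f₁ : Module.Flat T X₁ := h₁
  haveI f₂ : Module.Flat T X₂ := h₂
  have hprod : Module.Flat T (X₁ × X₂) := flat_prod
  have halg : (Prod.algebra T X₁ X₂ : Algebra T (X₁ × X₂)) = μ.toAlgebra :=
    Algebra.algebra_ext _ _ (fun t => rfl)
  show @Module.Flat T (X₁ × X₂) _ _ μ.toAlgebra.toModule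
  rw [← halg]
  exact hprod

lemma flat_fst (X₁ X₂ : Type*) [CommRing X₁] [CommRing X₂] : (RingHom.fst X₁ X₂).Flat := by
  letI := (RingHom.fst X₁ X₂).toAlgebra
  show Module.Flat (X₁ × X₂) X₁
  have hsm : ∀ (c : X₁ × X₂) (x : X₁), c • x = c.1 * x := fun c x => rfl
  let i : X₁ →ₗ[X₁ × X₂] (X₁ × X₂) :=
    { toFun := fun x => (x, 0)
      map_add' := fun x y => by simp
      map_smul' := fun c x => by
        rw [hsm]
        ext <;> simp }
  let r : (X₁ × X₂) →ₗ[X₁ × X₂] X₁ :=
    { toFun := fun y => y.1
      map_add' := fun x y => rfl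
      map_smul' := fun c x => by
        rw [hsm]; rfl }
  exact Module.Flat.of_retract i r (LinearMap.ext fun x => rfl)

lemma flat_snd (X₁ X₂ : Type*) [CommRing X₁] [CommRing X₂] : (RingHom.snd X₁ X₂).Flat := by
  letI := (RingHom.snd X₁ X₂).toAlgebra
  show Module.Flat (X₁ × X₂) X₂
  have hsm : ∀ (c : X₁ × X₂) (x : X₂), c • x = c.2 * x := fun c x => rfl
  let i : X₂ →ₗ[X₁ × X₂] (X₁ × X₂) :=
    { toFun := fun x => (0, x)
      map_add' := fun x y => by simp
      map_smul' := fun c x => by
        rw [hsm]
        ext <;> simp }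
  let r : (X₁ × X₂) →ₗ[X₁ × X₂] X₂ :=
    { toFun := fun y => y.2
      map_add' := fun x y => rfl
      map_smul' := fun c x => by
        rw [hsm]; rfl }
  exact Module.Flat.of_retract i r (LinearMap.ext fun x => rfl)

end FlatTarget

section WE
variable (A : Type*) [CommRing A]

lemma weaklyEtale_prod (X₁ X₂ : Type*) [CommRing X₁] [CommRing X₂] [Algebra A X₁] [Algebra A X₂]
    [Algebra.WeaklyEtale A X₁] [Algebra.WeaklyEtale A X₂] : Algebra.WeaklyEtale A (X₁ × X₂) := by
  refine ⟨flat_prod, ?_⟩
  apply flat_prod_target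
  · have h : (AlgHom.fst A X₁ X₂).comp (Algebra.TensorProduct.lmul' A (S := X₁ × X₂)) =
        (Algebra.TensorProduct.lmul' A (S := X₁)).comp
          (Algebra.TensorProduct.map (AlgHom.fst A X₁ X₂) (AlgHom.fst A X₁ X₂)) := by
      ext <;> simp
    have h' : (RingHom.fst X₁ X₂).comp (Algebra.TensorProduct.lmul' A (S := X₁ × X₂)).toRingHom =
        ((Algebra.TensorProduct.lmul' A (S := X₁)).toRingHom).comp
          (Algebra.TensorProduct.map (AlgHom.fst A X₁ X₂) (AlgHom.fst A X₁ X₂)).toRingHom :=
      congrArg AlgHom.toRingHom h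
    rw [h']
    exact RingHom.Flat.comp (RingHom.Flat.tensorProductMap (flat_fst X₁ X₂) (flat_fst X₁ X₂))
      (Algebra.WeaklyEtale.flat_lmul' A X₁)
  · have h : (AlgHom.snd A X₁ X₂).comp (Algebra.TensorProduct.lmul' A (S := X₁ × X₂)) =
        (Algebra.TensorProduct.lmul' A (S := X₂)).comp
          (Algebra.TensorProduct.map (AlgHom.snd A X₁ X₂) (AlgHom.snd A X₁ X₂)) := by
      ext <;> simp
    have h' : (RingHom.snd X₁ X₂).comp (Algebra.TensorProduct.lmul' A (S := X₁ × X₂)).toRingHom =
        ((Algebra.TensorProduct.lmul' A (S := X₂)).toRingHom).comp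
          (Algebra.TensorProduct.map (AlgHom.snd A X₁ X₂) (AlgHom.snd A X₁ X₂)).toRingHom :=
      congrArg AlgHom.toRingHom h
    rw [h']
    exact RingHom.Flat.comp (RingHom.Flat.tensorProductMap (flat_snd X₁ X₂) (flat_snd X₁ X₂))
      (Algebra.WeaklyEtale.flat_lmul' A X₂)

lemma lmul'_bijective_of_isLocalization (B : Type*) [CommRing B] [Algebra A B]
    (S : Submonoid A) [IsLocalization S B] :
    Function.Bijective (Algebra.TensorProduct.lmul' A (S := B)) := by
  have key : ∀ t : B ⊗[A] B, (Algebra.TensorProduct.lmul' A (S := B) t) ⊗ₜ[A] (1 : B) = t := by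
    intro t
    induction t using TensorProduct.induction_on with
    | zero => simp
    | tmul x y =>
      obtain ⟨⟨a, s⟩, hy⟩ := IsLocalization.surj S y
      simp only at hy
      set w := IsLocalization.mk' B (1 : A) s with hw
      have hsw : algebraMap A B (s : A) * w = 1 := by
        rw [hw, mul_comm, IsLocalization.mk'_spec, map_one]
      rw [Algebra.TensorProduct.lmul'_apply_tmul]
      have e1 : x = (s : A) • (x * w) := by
        rw [Algebra.smul_def, mul_left_comm, hsw, mul_one]
      have e2 : (s : A) • y = a • (1 : B) := by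
        rw [Algebra.smul_def, Algebra.smul_def, mul_one, mul_comm, hy]
      have e3 : x * y = a • (x * w) := by
        rw [Algebra.smul_def, ← hy]
        calc x * y = x * y * (algebraMap A B (s : A) * w) := by rw [hsw, mul_one]
          _ = y * algebraMap A B (s : A) * (x * w) := by ring
      calc (x * y) ⊗ₜ[A] (1 : B) = (a • (x * w)) ⊗ₜ[A] (1 : B) := by rw [e3]
        _ = (x * w) ⊗ₜ[A] (a • (1 : B)) := TensorProduct.smul_tmul _ _ _
        _ = (x * w) ⊗ₜ[A] ((s : A) • y) := by rw [e2]
        _ = ((s : A) • (x * w)) ⊗ₜ[A] y := (TensorProduct.smul_tmul _ _ _).symm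
        _ = x ⊗ₜ[A] y := by rw [← e1]
    | add x y hx hy => rw [map_add, TensorProduct.add_tmul, hx, hy]
  constructor
  · intro t t' h
    rw [← key t, ← key t', h]
  · intro z
    exact ⟨z ⊗ₜ 1, by simp⟩

lemma weaklyEtale_of_isLocalization (B : Type*) [CommRing B] [Algebra A B]
    (S : Submonoid A) [IsLocalization S B] : Algebra.WeaklyEtale A B :=
  ⟨IsLocalization.flat B S, RingHom.Flat.of_bijective (lmul'_bijective_of_isLocalization A B S)⟩

end WE

section Main
open ProEtW

theorem main (A B : Type u) [CommRing A] [CommRing B]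
    [Algebra A B] (S : Submonoid A) [IsLocalization S B] (E : Finset A)
    (hB : Set.range (PrimeSpectrum.comap (algebraMap A B)) =
      {x | ∃ z : PrimeSpectrum A, z ∈ PrimeSpectrum.zeroLocus (R := A) E ∧ x ⤳ z})
    (hA : EtPBC.IsWContractible A) : EtPBC.IsWContractible B := by
  intro B' _ _ hff hwe
  letI algAB' : Algebra A B' := ((algebraMap B B').comp (algebraMap A B)).toAlgebra
  haveI : IsScalarTower A B B' := IsScalarTower.of_algebraMap_eq (fun _ => rfl)
  haveI weAB : Algebra.WeaklyEtale A B := weaklyEtale_of_isLocalization A B S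
  haveI weAB' : Algebra.WeaklyEtale A B' := Algebra.WeaklyEtale.trans A B B'
  haveI : ∀ f : ↥E, Algebra.Etale A (Localization.Away (f : A)) :=
    fun f => Algebra.Etale.of_isLocalizationAway (f : A)
  haveI : Algebra.Etale A (Π f : ↥E, Localization.Away (f : A)) := inferInstance
  haveI : Algebra.WeaklyEtale A (Π f : ↥E, Localization.Away (f : A)) := inferInstance
  haveI weC : Algebra.WeaklyEtale A ((Π f : ↥E, Localization.Away (f : A)) × B') :=
    weaklyEtale_prod A _ B'
  -- f ∈ E lies in every maximal ideal of B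
  have hjac : ∀ f ∈ E, ∀ n : Ideal B, n.IsMaximal → algebraMap A B f ∈ n := by
    intro f hf n hn
    have hx : PrimeSpectrum.comap (algebraMap A B) ⟨n, hn.isPrime⟩ ∈
        Set.range (PrimeSpectrum.comap (algebraMap A B)) := ⟨_, rfl⟩
    rw [hB] at hx
    obtain ⟨z, hz, hxz⟩ := hx
    have hz' : z ∈ Set.range (PrimeSpectrum.comap (algebraMap A B)) := by
      rw [hB]; exact ⟨z, hz, specializes_rfl⟩
    obtain ⟨n', rfl⟩ := hz'
    have hle : n.comap (algebraMap A B) ≤ n'.asIdeal.comap (algebraMap A B) :=
      (PrimeSpectrum.le_iff_specializes _ _).2 hxz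
    have hle2 : n ≤ n'.asIdeal := by
      rw [← IsLocalization.map_under S B n, ← IsLocalization.map_under S B n'.asIdeal]
      exact Ideal.map_mono hle
    have heq : n = n'.asIdeal := hn.eq_of_le n'.2.ne_top hle2
    rw [heq]
    exact hz (Finset.mem_coe.2 hf)
  -- faithfully flat
  haveI ffC : Module.FaithfullyFlat A ((Π f : ↥E, Localization.Away (f : A)) × B') := by
    apply Module.FaithfullyFlat.of_comap_surjective
    intro p
    by_cases hp : p ∈ Set.range (PrimeSpectrum.comap (algebraMap A B))
    · obtain ⟨q, rfl⟩ := hp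
      obtain ⟨q', rfl⟩ := PrimeSpectrum.comap_surjective_of_faithfullyFlat (A := B) (B := B') q
      exact ⟨PrimeSpectrum.comap (RingHom.snd (Π f : ↥E, Localization.Away (f : A)) B') q',
        PrimeSpectrum.ext (Ideal.ext fun a => Iff.rfl)⟩
    · rw [hB] at hp
      have : ∃ f ∈ E, f ∉ p.asIdeal := by
        by_contra hcon
        push Not at hcon
        exact hp ⟨p, fun f hf => hcon f (Finset.mem_coe.1 hf), specializes_rfl⟩
      obtain ⟨f, hfE, hfp⟩ := this
      obtain ⟨q, hq⟩ : p ∈ Set.range
          (PrimeSpectrum.comap (algebraMap A (Localization.Away f))) := by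
        rw [PrimeSpectrum.localization_away_comap_range (Localization.Away f) f]; exact hfp
      refine ⟨PrimeSpectrum.comap ((Pi.evalRingHom (fun f : ↥E => Localization.Away (f : A))
        ⟨f, hfE⟩).comp (RingHom.fst (Π f : ↥E, Localization.Away (f : A)) B')) q, ?_⟩
      rw [← hq]
      exact PrimeSpectrum.ext (Ideal.ext fun a => Iff.rfl)
  obtain ⟨ρ⟩ := hA ((Π f : ↥E, Localization.Away (f : A)) × B') ffC weC
  classical
  -- the composite to B
  let ρB : ((Π f : ↥E, Localization.Away (f : A)) × B') →+* B :=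
    (algebraMap A B).comp ρ.toRingHom
  have hρsmul : ∀ (a : A) (c : (Π f : ↥E, Localization.Away (f : A)) × B'),
      ρB (a • c) = algebraMap A B a * ρB c := by
    intro a c
    show algebraMap A B (ρ (a • c)) = algebraMap A B a * algebraMap A B (ρ c)
    rw [map_smul, smul_eq_mul, map_mul]
  -- idempotents
  have hzero : ∀ i : ↥E, ρB (Pi.single i 1, 0) = 0 := by
    intro i
    set e : (Π f : ↥E, Localization.Away (f : A)) × B' := (Pi.single i 1, 0) with he
    set g : (Π f : ↥E, Localization.Away (f : A)) × B' :=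
      (Pi.single i (IsLocalization.Away.invSelf (S := Localization.Away (i : A)) (i : A)), 0)
      with hg
    have h1 : ((i : A) • e) * g = e := by
      rw [he, hg]
      refine Prod.ext ?_ (by simp)
      funext j
      by_cases hj : j = i
      · subst hj
        simp [Algebra.smul_def, IsLocalization.Away.mul_invSelf]
      · simp [Pi.single_eq_of_ne hj]
    have hee : e * e = e := by
      rw [he]
      refine Prod.ext ?_ (by simp)
      funext j
      by_cases hj : j = i
      · subst hj; simp
      · simp [Pi.single_eq_of_ne hj]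
    have h2 : ρB e = algebraMap A B (i : A) * ρB (e * g) := by
      rw [← hρsmul, ← smul_mul_assoc, h1]
    have hidem : ρB e * ρB e = ρB e := by rw [← map_mul, hee]
    -- 1 - ρB e is a unit
    have hunit : IsUnit (1 - ρB e) := by
      by_contra hnu
      have hne : Ideal.span {1 - ρB e} ≠ ⊤ := fun h => hnu (Ideal.span_singleton_eq_top.1 h)
      obtain ⟨n, hn, hle⟩ := Ideal.exists_le_maximal _ hne
      have h3 : 1 - ρB e ∈ n := hle (Ideal.mem_span_singleton_self _)
      have h4 : ρB e ∈ n := by
        rw [h2]; exact Ideal.mul_mem_right _ _ (hjac i i.2 n hn)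
      have : (1 : B) ∈ n := by
        have := Ideal.add_mem _ h3 h4
        rwa [sub_add_cancel] at this
      exact hn.ne_top ((Ideal.eq_top_iff_one _).2 this)
    have h5 : (1 - ρB e) * ρB e = 0 := by rw [sub_mul, one_mul, hidem, sub_self]
    exact (hunit.mul_right_eq_zero).1 h5
  have hone : ρB (0, 1) = 1 := by
    have hsum : ((1 : (Π f : ↥E, Localization.Away (f : A)) × B')) =
        (∑ i : ↥E, ((Pi.single i 1, 0) : (Π f : ↥E, Localization.Away (f : A)) × B')) +
          (0, 1) := by
      refine Prod.ext ?_ ?_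
      · rw [Prod.fst_add, Prod.fst_sum]
        simp only [Prod.fst_one, add_zero]
        exact (Finset.univ_sum_single (1 : Π f : ↥E, Localization.Away (f : A))).symm
      · rw [Prod.snd_add, Prod.snd_sum]
        simp
    have := congrArg ρB hsum
    rw [map_one, map_add, map_sum, Finset.sum_congr rfl (fun i _ => hzero i),
      Finset.sum_const_zero, zero_add] at this
    exact this.symm
  -- the retraction
  let r : B' →+* B :=
    { toFun := fun b' => ρB (0, b')
      map_one' := hone
      map_mul' := fun x y => by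
        rw [← map_mul]; congr 1; simp
      map_zero' := by
        show ρB (0, 0) = 0
        exact map_zero ρB
      map_add' := fun x y => by
        rw [← map_add]; congr 1; simp }
  have hr : r.comp (algebraMap B B') = RingHom.id B := by
    apply IsLocalization.ringHom_ext S
    ext a
    show ρB (0, algebraMap B B' (algebraMap A B a)) = algebraMap A B a
    have : ((0, algebraMap B B' (algebraMap A B a)) :
        (Π f : ↥E, Localization.Away (f : A)) × B') = a • (0, 1) := by
      refine Prod.ext (by simp) ?_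
      show algebraMap B B' (algebraMap A B a) = a • (1 : B')
      rw [Algebra.smul_def, mul_one]; rfl
    rw [this, hρsmul, hone, mul_one]
  exact ⟨{ r with commutes' := fun b => RingHom.congr_fun hr b }⟩

end Main

end Groth.Agent.H4.WContrLoc
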