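import Mathlib

/-! Weakly étale morphisms of schemes: affine description (helper4) -/

set_option autoImplicit false
universe u
open AlgebraicGeometry CategoryTheory Limits MorphismProperty TensorProduct

namespace Groth.Agent.H4.WEtSch

set_option backward.isDefEq.respectTransparency.types false in
lemma weaklyEtale_SpecMap_iff {R S : CommRingCat.{u}} (φ : R ⟶ S) :
    WeaklyEtale (Spec.map φ) ↔ (letI := φ.hom.toAlgebra; Algebra.WeaklyEtale R S) := by
  algebraize [φ.hom]
  rw [weaklyEtale_iff, Algebra.weaklyEtale_iff]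
  have h1 : Flat (Spec.map φ) ↔ Module.Flat R S := by
    rw [HasRingHomProperty.Spec_iff (P := @Flat)]; rfl
  have h2 : Flat (pullback.diagonal (Spec.map φ)) ↔ (Algebra.TensorProduct.lmul' R (S := S)).Flat := by
    have : φ = CommRingCat.ofHom (algebraMap R S) := rfl
    rw [this, AlgebraicGeometry.diagonal_SpecMap R S,
      MorphismProperty.cancel_right_of_respectsIso (P := @Flat),
      HasRingHomProperty.Spec_iff (P := @Flat)]
    rfl
  rw [h1, h2]

set_option backward.isDefEq.respectTransparency.types false in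
lemma weaklyEtale_resLE_iff {X S : Scheme.{u}} (f : X ⟶ S) (U : X.Opens) (V : S.Opens)
    (hU : IsAffineOpen U) (hV : IsAffineOpen V) (hUV : U ≤ f ⁻¹ᵁ V) :
    WeaklyEtale (f.resLE V U hUV) ↔
      (letI := (f.appLE V U hUV).hom.toAlgebra; Algebra.WeaklyEtale Γ(S, V) Γ(X, U)) := by
  rw [← weaklyEtale_SpecMap_iff]
  have e := Scheme.Opens.toSpecΓ_SpecMap_appLE f V U hUV
  have i1 : IsIso U.toSpecΓ := hU.isoSpec_hom ▸ inferInstance
  have i2 : IsIso V.toSpecΓ := hV.isoSpec_hom ▸ inferInstance
  rw [← MorphismProperty.cancel_right_of_respectsIso (P := @WeaklyEtale) (f.resLE V U hUV) V.toSpecΓ,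
    ← e, MorphismProperty.cancel_left_of_respectsIso (P := @WeaklyEtale)]

end Groth.Agent.H4.WEtSch
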