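import Mathlib
import Groth.Prelude.Def_ProEtW

set_option linter.unusedSectionVars false
set_option linter.unusedVariables false
set_option linter.style.haveILetI false
set_option autoImplicit false

open ProEtW Topology

namespace Groth.Agent.H4.WLocalSep
universe u

section WLocal
variable {A : Type u} [CommRing A]

/-- generalizations of a closed set of closed points form a closed set -/
lemma isClosed_gen (hA : IsWLocal (PrimeSpectrum A)) (I : Ideal A)
    (hI : ∀ x ∈ PrimeSpectrum.zeroLocus (I : Set A), IsClosed ({x} : Set (PrimeSpectrum A))) :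
    IsClosed {p : PrimeSpectrum A | ∃ n ∈ PrimeSpectrum.zeroLocus (I : Set A), p ⤳ n} := by
  let S : Submonoid A :=
    { carrier := {s | ∀ n ∈ PrimeSpectrum.zeroLocus (I : Set A), s ∉ n.asIdeal}
      one_mem' := fun n _ => n.2.one_notMem
      mul_mem' := fun {a b} ha hb n hn => n.2.mul_notMem (ha n hn) (hb n hn) }
  have hrange : {p : PrimeSpectrum A | ∃ n ∈ PrimeSpectrum.zeroLocus (I : Set A), p ⤳ n} =
      Set.range (PrimeSpectrum.comap (algebraMap A (Localization S))) := by
    rw [PrimeSpectrum.localization_comap_range (Localization S) S]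
    ext p
    simp only [Set.mem_ofPred_eq]
    constructor
    · rintro ⟨n, hn, hpn⟩
      rw [Set.disjoint_left]
      intro s hs hsp
      exact hs n hn ((PrimeSpectrum.le_iff_specializes p n).2 hpn hsp)
    · intro hdis
      by_contra hcon
      push Not at hcon
      have htop : p.asIdeal ⊔ I = ⊤ := by
        by_contra hne
        obtain ⟨m, hm, hle⟩ := Ideal.exists_le_maximal _ hne
        let n : PrimeSpectrum A := ⟨m, hm.isPrime⟩
        have hn : n ∈ PrimeSpectrum.zeroLocus (I : Set A) :=
          fun x hx => hle (Ideal.mem_sup_right hx)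
        exact hcon n hn ((PrimeSpectrum.le_iff_specializes p n).1
          (fun x hx => hle (Ideal.mem_sup_left hx)))
      obtain ⟨a, ha, i, hi, hai⟩ := Submodule.mem_sup.1 ((Ideal.eq_top_iff_one _).1 htop)
      have haS : a ∈ S := by
        intro n hn han
        have : (1 : A) ∈ n.asIdeal := by rw [← hai]; exact Ideal.add_mem _ han (hn hi)
        exact n.2.one_notMem this
      exact Set.disjoint_left.1 hdis haS ha
  rw [hrange]
  apply PrimeSpectrum.isClosed_range_of_stableUnderSpecialization
  rw [← hrange]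
  rintro p p' hpp' ⟨n, hn, hpn⟩
  obtain ⟨y, ⟨hy1, hy2⟩, huniq⟩ := hA.2.2 p'
  obtain ⟨z, _, hz⟩ := hA.2.2 p
  have h1 : n = z := hz n ⟨hI n hn, hpn⟩
  have h2 : y = z := hz y ⟨hy1, hpp'.trans hy2⟩
  exact ⟨n, hn, by rw [h1, ← h2]; exact hy2⟩

lemma exists_clopen (hA : IsWLocal (PrimeSpectrum A)) (x x' : PrimeSpectrum A)
    (hx : IsClosed ({x} : Set (PrimeSpectrum A))) (hx' : IsClosed ({x'} : Set (PrimeSpectrum A)))
    (hne : x ≠ x') :
    ∃ U : Set (PrimeSpectrum A), IsClopen U ∧ x ∈ U ∧ x' ∉ U := by
  have hX0c : IsClosed {y : PrimeSpectrum A | IsClosed ({y} : Set (PrimeSpectrum A))} := hA.2.1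
  set J := PrimeSpectrum.vanishingIdeal
    {y : PrimeSpectrum A | IsClosed ({y} : Set (PrimeSpectrum A))} with hJ
  have hVJ : PrimeSpectrum.zeroLocus (J : Set A) =
      {y : PrimeSpectrum A | IsClosed ({y} : Set (PrimeSpectrum A))} := by
    rw [hJ, PrimeSpectrum.zeroLocus_vanishingIdeal_eq_closure, hX0c.closure_eq]
  have hJrad : J.IsRadical := PrimeSpectrum.isRadical_vanishingIdeal _
  have hJle : ∀ y : PrimeSpectrum A, IsClosed ({y} : Set (PrimeSpectrum A)) → J ≤ y.asIdeal := by
    intro y hy
    have : y ∈ PrimeSpectrum.zeroLocus (J : Set A) := by rw [hVJ]; exact hy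
    exact this
  have hm : x.asIdeal.IsMaximal := (PrimeSpectrum.isClosed_singleton_iff_isMaximal x).1 hx
  have hm' : x'.asIdeal.IsMaximal := (PrimeSpectrum.isClosed_singleton_iff_isMaximal x').1 hx'
  have hnle : ¬ x.asIdeal ≤ x'.asIdeal :=
    fun h => hne (PrimeSpectrum.ext (hm.eq_of_le hm'.ne_top h))
  obtain ⟨a, hax, hax'⟩ := Set.not_subset.1 hnle
  obtain ⟨n, b, hnb⟩ : ∃ (n : ℕ) (b : A), a ^ n * (1 - a * b) ∈ J := by
    by_contra hcon
    push Not at hcon
    let T : Submonoid A :=
      { carrier := {t | ∃ (n : ℕ) (b : A), t = a ^ n * (1 - a * b)}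
        one_mem' := ⟨0, 0, by simp⟩
        mul_mem' := by
          rintro _ _ ⟨n, b, rfl⟩ ⟨n', b', rfl⟩
          exact ⟨n + n', b + b' - a * b * b', by ring⟩ }
    have hdis : Disjoint (J : Set A) (T : Set A) := by
      rw [Set.disjoint_left]
      rintro t htJ ⟨n, b, rfl⟩
      exact hcon n b htJ
    obtain ⟨P, hP, hJP, hPT⟩ := Ideal.exists_le_prime_disjoint J T hdis
    let y : PrimeSpectrum A := ⟨P, hP⟩
    have hy : IsClosed ({y} : Set (PrimeSpectrum A)) := by
      have : y ∈ PrimeSpectrum.zeroLocus (J : Set A) := hJP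
      rw [hVJ] at this
      exact this
    have hPmax : P.IsMaximal := (PrimeSpectrum.isClosed_singleton_iff_isMaximal y).1 hy
    have haP : a ∉ P := fun h => Set.disjoint_left.1 hPT h ⟨1, 0, by simp⟩
    obtain ⟨b, i, hi, hbi⟩ := hPmax.exists_inv haP
    have : 1 - a * b ∈ P := by
      have : 1 - a * b = i := by rw [← hbi]; ring
      rw [this]; exact hi
    exact Set.disjoint_left.1 hPT this ⟨0, b, by simp⟩
  have hab : a * (1 - a * b) ∈ J := by
    apply hJrad
    refine ⟨n + 1, ?_⟩
    have : (a * (1 - a * b)) ^ (n + 1) = a ^ n * (1 - a * b) * (a * (1 - a * b) ^ n) := by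
      generalize 1 - a * b = c
      ring
    rw [this]
    exact Ideal.mul_mem_right _ _ hnb
  -- the two closed sets of closed points
  have hZ : ∀ c : A, ∀ y ∈ PrimeSpectrum.zeroLocus ((J ⊔ Ideal.span {c} : Ideal A) : Set A),
      IsClosed ({y} : Set (PrimeSpectrum A)) := by
    intro c y hy
    have : y ∈ PrimeSpectrum.zeroLocus (J : Set A) := fun t ht => hy (Ideal.mem_sup_left ht)
    rw [hVJ] at this
    exact this
  have hmemZ : ∀ (c : A) (y : PrimeSpectrum A), IsClosed ({y} : Set (PrimeSpectrum A)) →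
      c ∈ y.asIdeal → y ∈ PrimeSpectrum.zeroLocus ((J ⊔ Ideal.span {c} : Ideal A) : Set A) := by
    intro c y hy hc
    have : J ⊔ Ideal.span {c} ≤ y.asIdeal :=
      sup_le (hJle y hy) ((Ideal.span_singleton_le_iff_mem _).2 hc)
    exact this
  have hcZ : ∀ (c : A) (y : PrimeSpectrum A),
      y ∈ PrimeSpectrum.zeroLocus ((J ⊔ Ideal.span {c} : Ideal A) : Set A) → c ∈ y.asIdeal := by
    intro c y hy
    exact hy (Ideal.mem_sup_right (Ideal.mem_span_singleton_self c))
  have hG := isClosed_gen hA (J ⊔ Ideal.span {a}) (hZ a)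
  have hG' := isClosed_gen hA (J ⊔ Ideal.span {1 - a * b}) (hZ (1 - a * b))
  refine ⟨_, ⟨hG, ?_⟩, ⟨x, hmemZ a x hx hax, specializes_rfl⟩, ?_⟩
  · -- open: complement is the other set
    have hcompl : {p : PrimeSpectrum A | ∃ n ∈ PrimeSpectrum.zeroLocus
        ((J ⊔ Ideal.span {a} : Ideal A) : Set A), p ⤳ n}ᶜ =
        {p : PrimeSpectrum A | ∃ n ∈ PrimeSpectrum.zeroLocus
        ((J ⊔ Ideal.span {1 - a * b} : Ideal A) : Set A), p ⤳ n} := by
      ext p
      simp only [Set.mem_compl_iff, Set.mem_ofPred_eq]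
      obtain ⟨z, ⟨hz1, hz2⟩, hz⟩ := hA.2.2 p
      constructor
      · intro hnot
        have hz3 : a * (1 - a * b) ∈ z.asIdeal := hJle z hz1 hab
        rcases z.2.mem_or_mem hz3 with h | h
        · exact absurd ⟨z, hmemZ a z hz1 h, hz2⟩ hnot
        · exact ⟨z, hmemZ _ z hz1 h, hz2⟩
      · rintro ⟨n, hn, hpn⟩ ⟨n', hn', hpn'⟩
        have e1 : n = z := hz n ⟨hZ _ n hn, hpn⟩
        have e2 : n' = z := hz n' ⟨hZ _ n' hn', hpn'⟩
        have h1 := hcZ _ n hn
        have h2 := hcZ _ n' hn'
        rw [e1] at h1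
        rw [e2] at h2
        have : (1 : A) ∈ z.asIdeal := by
          have : (1 : A) = (1 - a * b) + a * b := by ring
          rw [this]
          exact Ideal.add_mem _ h1 (Ideal.mul_mem_right _ _ h2)
        exact z.2.one_notMem this
    rw [← isClosed_compl_iff, hcompl]
    exact hG'
  · rintro ⟨n, hn, hx'n⟩
    have : n = x' := by
      have := (specializes_iff_mem_closure.1 hx'n)
      rw [hx'.closure_eq] at this
      exact this
    rw [this] at hn
    exact hax' (hcZ a x' hn)

lemma sep_closed (hA : IsWLocal (PrimeSpectrum A)) (x x' : PrimeSpectrum A)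
    (hx : IsClosed ({x} : Set (PrimeSpectrum A))) (hx' : IsClosed ({x'} : Set (PrimeSpectrum A)))
    (h : ConnectedComponents.mk x = ConnectedComponents.mk x') : x = x' := by
  by_contra hne
  obtain ⟨U, hU, hxU, hx'U⟩ := exists_clopen hA x x' hx hx' hne
  exact hx'U (hU.connectedComponent_subset hxU (ConnectedComponents.coe_eq_coe'.1 h.symm))

lemma spec_mk {X : Type*} [TopologicalSpace X] {y y0 : X} (h : y ⤳ y0) :
    ConnectedComponents.mk y0 = ConnectedComponents.mk y := by
  apply ConnectedComponents.coe_eq_coe'.2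
  have h1 : IsPreconnected (closure ({y} : Set X)) := isPreconnected_singleton.closure
  exact h1.subset_connectedComponent (subset_closure rfl) (specializes_iff_mem_closure.1 h)

end WLocal

section Main
variable (A B : Type u) [CommRing A] [CommRing B] [Algebra A B]

theorem main
    (h1 : EtPBC.IdentifiesLocalRings A B) (h2 : IsWLocal (PrimeSpectrum A))
    (h3 : IsWLocal (PrimeSpectrum B))
    (h4 : IsWLocalMap (PrimeSpectrum.comap (algebraMap A B)))
    (h5 : Function.Bijective
      (PrimeSpectrum.continuous_comap (algebraMap A B)).connectedComponentsMap) :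
    Function.Bijective (algebraMap A B) := by
  have hfc : Continuous (PrimeSpectrum.comap (algebraMap A B)) := PrimeSpectrum.continuous_comap _
  obtain ⟨hsp, hcl⟩ := h4
  -- closed points lift
  have lift_closed : ∀ x : PrimeSpectrum A, IsClosed ({x} : Set (PrimeSpectrum A)) →
      ∃ y : PrimeSpectrum B, IsClosed ({y} : Set (PrimeSpectrum B)) ∧
        PrimeSpectrum.comap (algebraMap A B) y = x := by
    intro x hx
    obtain ⟨c, hc⟩ := h5.2 (ConnectedComponents.mk x)
    obtain ⟨y, rfl⟩ := ConnectedComponents.surjective_coe c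
    obtain ⟨y0, ⟨hy0, hyy0⟩, -⟩ := h3.2.2 y
    refine ⟨y0, hy0, ?_⟩
    have e1 : ConnectedComponents.mk y0 = ConnectedComponents.mk y := spec_mk hyy0
    have e2 : ConnectedComponents.mk (PrimeSpectrum.comap (algebraMap A B) y0) =
        ConnectedComponents.mk x := by
      rw [← hc, ← e1]; rfl
    exact sep_closed h2 _ _ (hcl y0 hy0) hx e2
  have inj_closed : ∀ y y' : PrimeSpectrum B, IsClosed ({y} : Set (PrimeSpectrum B)) →
      IsClosed ({y'} : Set (PrimeSpectrum B)) →
      PrimeSpectrum.comap (algebraMap A B) y = PrimeSpectrum.comap (algebraMap A B) y' →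
      y = y' := by
    intro y y' hy hy' h
    apply sep_closed h3 y y' hy hy'
    apply h5.1
    show ConnectedComponents.mk (PrimeSpectrum.comap (algebraMap A B) y) =
      ConnectedComponents.mk (PrimeSpectrum.comap (algebraMap A B) y')
    rw [h]
  have key : ∀ q q' : PrimeSpectrum B, IsClosed ({q} : Set (PrimeSpectrum B)) →
      (PrimeSpectrum.comap (algebraMap A B) q').asIdeal ≤
        (PrimeSpectrum.comap (algebraMap A B) q).asIdeal → q'.asIdeal ≤ q.asIdeal := by
    intro q q' hq hle
    obtain ⟨q0, ⟨hq0, hq'q0⟩, -⟩ := h3.2.2 q'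
    have s1 : PrimeSpectrum.comap (algebraMap A B) q' ⤳ PrimeSpectrum.comap (algebraMap A B) q0 :=
      hq'q0.map hfc
    have s2 : PrimeSpectrum.comap (algebraMap A B) q' ⤳ PrimeSpectrum.comap (algebraMap A B) q :=
      (PrimeSpectrum.le_iff_specializes _ _).1 hle
    obtain ⟨z, -, hz⟩ := h2.2.2 (PrimeSpectrum.comap (algebraMap A B) q')
    have e1 := hz _ ⟨hcl q0 hq0, s1⟩
    have e2 := hz _ ⟨hcl q hq, s2⟩
    have e3 : q0 = q := inj_closed q0 q hq0 hq (e1.trans e2.symm)
    rw [e3] at hq'q0
    exact (PrimeSpectrum.le_iff_specializes _ _).2 hq'q0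
  constructor
  · -- injective
    rw [injective_iff_map_eq_zero]
    intro a ha
    let I : Ideal A :=
      { carrier := {s | s * a = 0}
        add_mem' := fun {s t} hs ht => by
          show (s + t) * a = 0
          rw [add_mul, hs, ht, add_zero]
        zero_mem' := zero_mul a
        smul_mem' := fun c s hs => by
          show (c • s) * a = 0
          rw [smul_eq_mul, mul_assoc, hs, mul_zero] }
    by_contra hne
    have hI : I ≠ ⊤ := by
      intro h
      have : (1 : A) ∈ I := by rw [h]; trivial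
      exact hne (by simpa [I] using this)
    obtain ⟨m, hm, hle⟩ := Ideal.exists_le_maximal I hI
    obtain ⟨y, hy, hfy⟩ := lift_closed ⟨m, hm.isPrime⟩
      ((PrimeSpectrum.isClosed_singleton_iff_isMaximal _).2 hm)
    have hpm : y.asIdeal.comap (algebraMap A B) = m := congrArg PrimeSpectrum.asIdeal hfy
    have hinj := (h1 y).1
    have h0 : algebraMap A (Localization.AtPrime (y.asIdeal.comap (algebraMap A B))) a = 0 := by
      apply hinj
      rw [Localization.localRingHom_to_map, ha, map_zero, map_zero]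
    obtain ⟨s, hs⟩ := (IsLocalization.map_eq_zero_iff
      (y.asIdeal.comap (algebraMap A B)).primeCompl _ a).1 h0
    have : (s : A) ∈ m := hle hs
    rw [← hpm] at this
    exact s.2 this
  · -- surjective
    intro b
    let I : Ideal A :=
      { carrier := {s | ∃ a : A, algebraMap A B a = algebraMap A B s * b}
        add_mem' := by
          rintro s t ⟨a, ha⟩ ⟨a', ha'⟩
          exact ⟨a + a', by rw [map_add, map_add, add_mul, ha, ha']⟩
        zero_mem' := ⟨0, by simp⟩
        smul_mem' := by
          rintro c s ⟨a, ha⟩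
          exact ⟨c * a, by rw [smul_eq_mul, map_mul, map_mul, mul_assoc, ha]⟩ }
    by_contra hne
    have hI : I ≠ ⊤ := by
      intro h
      have : (1 : A) ∈ I := by rw [h]; trivial
      obtain ⟨a, ha⟩ := this
      exact hne ⟨a, by rw [ha, map_one, one_mul]⟩
    obtain ⟨m, hm, hle⟩ := Ideal.exists_le_maximal I hI
    obtain ⟨y, hy, hfy⟩ := lift_closed ⟨m, hm.isPrime⟩
      ((PrimeSpectrum.isClosed_singleton_iff_isMaximal _).2 hm)
    have hpm : y.asIdeal.comap (algebraMap A B) = m := congrArg PrimeSpectrum.asIdeal hfy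
    obtain ⟨z, hz⟩ := (h1 y).2 (algebraMap B (Localization.AtPrime y.asIdeal) b)
    obtain ⟨a, s, rfl⟩ := IsLocalization.exists_mk'_eq
      (y.asIdeal.comap (algebraMap A B)).primeCompl z
    rw [Localization.localRingHom_mk', IsLocalization.mk'_eq_iff_eq_mul, ← map_mul] at hz
    obtain ⟨t, ht⟩ := (IsLocalization.eq_iff_exists y.asIdeal.primeCompl _).1 hz
    -- t is invertible up to the image of A \ p
    have hinv : ∃ (b' : B) (s' : A), s' ∉ y.asIdeal.comap (algebraMap A B) ∧
        (t : B) * b' = algebraMap A B s' := by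
      by_contra hcon
      push Not at hcon
      have hdis : Disjoint ((Ideal.span {(t : B)} : Ideal B) : Set B)
          ((Submonoid.map (algebraMap A B)
            (y.asIdeal.comap (algebraMap A B)).primeCompl : Submonoid B) : Set B) := by
        rw [Set.disjoint_left]
        rintro w hw ⟨s', hs', rfl⟩
        obtain ⟨b', hb'⟩ := Ideal.mem_span_singleton'.1 hw
        exact hcon b' s' hs' (by rw [← hb', mul_comm])
      obtain ⟨Q, hQ, htQ, hQdis⟩ := Ideal.exists_le_prime_disjoint _ _ hdis
      have hQle : (PrimeSpectrum.comap (algebraMap A B) ⟨Q, hQ⟩).asIdeal ≤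
          (PrimeSpectrum.comap (algebraMap A B) y).asIdeal := by
        intro s' hs'
        by_contra hs'n
        exact Set.disjoint_left.1 hQdis hs' ⟨s', hs'n, rfl⟩
      have hQy : Q ≤ y.asIdeal := key y ⟨Q, hQ⟩ hy hQle
      exact t.2 (hQy (htQ (Ideal.mem_span_singleton_self _)))
    obtain ⟨b', s', hs', hb'⟩ := hinv
    have hmem : s' * (s : A) ∈ I := by
      refine ⟨s' * a, ?_⟩
      have e : (t : B) * algebraMap A B a = (t : B) * (b * algebraMap A B (s : A)) := ht
      calc algebraMap A B (s' * a) = (t : B) * b' * algebraMap A B a := by rw [map_mul, hb']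
        _ = b' * ((t : B) * algebraMap A B a) := by ring
        _ = b' * ((t : B) * (b * algebraMap A B (s : A))) := by rw [e]
        _ = ((t : B) * b') * algebraMap A B (s : A) * b := by ring
        _ = algebraMap A B (s' * (s : A)) * b := by rw [hb', map_mul]
    have hle' : I ≤ y.asIdeal.comap (algebraMap A B) := by rw [hpm]; exact hle
    have : s' * (s : A) ∈ y.asIdeal.comap (algebraMap A B) := hle' hmem
    rcases (Ideal.IsPrime.mem_or_mem inferInstance this) with h | h
    · exact hs' h
    · exact s.2 h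

end Main

end Groth.Agent.H4.WLocalSep
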