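import Mathlib
import Groth.Agent.H4.WRe

/-! helper4: Weil restriction of closed subschemes: finite locally free pointed schemes. -/

set_option autoImplicit false

universe u

open CategoryTheory CategoryTheory.Limits AlgebraicGeometry MonoidalCategory
  CartesianMonoidalCategory

namespace Groth.Agent.H4.WRf

lemma projective_app_of_finite_flat {A S : Scheme.{u}} (h : A ⟶ S) [IsFinite h] [Flat h]
    [LocallyOfFinitePresentation h] (U : S.Opens) (hU : IsAffineOpen U) :
    @Module.Projective Γ(S, U) _ Γ(A, h ⁻¹ᵁ U) _ (h.app U).hom.toAlgebra.toModule := by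
  have hV : IsAffineOpen (h ⁻¹ᵁ U) := hU.preimage h
  have h1 : (h.app U).hom.Finite := IsFinite.finite_app h U hU
  have h2 : (h.appLE U (h ⁻¹ᵁ U) le_rfl).hom.Flat :=
    HasRingHomProperty.appLE (P := @Flat) h inferInstance ⟨U, hU⟩ ⟨_, hV⟩ le_rfl
  have h3 : (h.appLE U (h ⁻¹ᵁ U) le_rfl).hom.FinitePresentation :=
    HasRingHomProperty.appLE (P := @LocallyOfFinitePresentation) h inferInstance ⟨U, hU⟩
      ⟨_, hV⟩ le_rfl
  rw [Scheme.Hom.appLE_eq_app] at h2 h3
  letI := (h.app U).hom.toAlgebra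
  haveI : Module.Finite Γ(S, U) Γ(A, h ⁻¹ᵁ U) := h1
  haveI : Module.Flat Γ(S, U) Γ(A, h ⁻¹ᵁ U) := h2
  haveI : Algebra.FinitePresentation Γ(S, U) Γ(A, h ⁻¹ᵁ U) := h3
  haveI := Module.FinitePresentation.of_finite_of_finitePresentation (R := Γ(S, U))
    (S := Γ(A, h ⁻¹ᵁ U))
  exact Module.Flat.projective_of_finitePresentation

/-- for an action of a pointed scheme `(F, e)` with `e` surjective, the locus in `F ×_S X` where
`g · x = x` is a closed subscheme. -/
lemma isClosedImmersion_equalizer_of_pointed {S : Scheme.{u}} (F X : Over S)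
    (e : 𝟙_ (Over S) ⟶ F) (act : F ⊗ X ⟶ X) (he : (e ▷ X) ≫ act = (λ_ X).hom)
    [Surjective e.left] :
    IsClosedImmersion (equalizer.ι act.left (snd F X).left) := by
  have hσ'1 : lift (toUnit X ≫ e) (𝟙 X) ≫ snd F X = 𝟙 X := lift_snd _ _
  have hσ'e : lift (toUnit X ≫ e) (𝟙 X) = (λ_ X).inv ≫ (e ▷ X) := by
    apply CartesianMonoidalCategory.hom_ext
    · rw [lift_fst, Category.assoc, whiskerRight_fst, ← Category.assoc,
        toUnit_unique ((λ_ X).inv ≫ fst _ _) (toUnit X)]
    · rw [lift_snd, Category.assoc, whiskerRight_snd, ← leftUnitor_hom, Iso.inv_hom_id]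
  have hσ'2 : lift (toUnit X ≫ e) (𝟙 X) ≫ act = 𝟙 X := by
    rw [hσ'e, Category.assoc, he, Iso.inv_hom_id]
  obtain ⟨σ, hσa, hσs, hσf⟩ : ∃ σ : X.left ⟶ (F ⊗ X).left, σ ≫ act.left = 𝟙 _ ∧
      σ ≫ (snd F X).left = 𝟙 _ ∧ σ ≫ (fst F X).left = X.hom ≫ e.left :=
    ⟨(lift (toUnit X ≫ e) (𝟙 X)).left, congrArg (fun m => Over.Hom.left m) hσ'2,
      congrArg (fun m => Over.Hom.left m) hσ'1,
      congrArg (fun m => Over.Hom.left m) (lift_fst (toUnit X ≫ e) (𝟙 X))⟩
  have hpb : IsPullback σ X.hom (fst F X).left e.left := by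
    have t : IsPullback (snd F X).left (fst F X).left X.hom F.hom :=
      (IsPullback.of_hasPullback F.hom X.hom).flip
    have he1 : e.left ≫ F.hom = 𝟙 S := Over.w e
    have s : IsPullback (σ ≫ (snd F X).left) X.hom X.hom (e.left ≫ F.hom) := by
      rw [hσs, he1]
      exact IsPullback.of_id_fst
    exact IsPullback.of_right s hσf t
  have hsurj : Surjective σ :=
    MorphismProperty.of_isPullback (P := @Surjective) hpb.flip inferInstance
  have hwsurj : Function.Surjective (equalizer.ι act.left (snd F X).left) := by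
    intro p
    obtain ⟨x, rfl⟩ := hsurj.surj p
    refine ⟨(equalizer.lift σ (hσa.trans hσs.symm)) x, ?_⟩
    rw [← Scheme.Hom.comp_apply, equalizer.lift_ι]
  apply IsClosedImmersion.of_isPreimmersion
  rw [Set.range_eq_univ.2 hwsurj]
  exact isClosed_univ

end Groth.Agent.H4.WRf
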