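import Mathlib
import Groth.Agent.H4.WRj

/-! helper4: finite flat morphisms of finite presentation have projective coordinate rings over
affine opens (local model for Weil restriction along finite locally free morphisms). -/

set_option autoImplicit false

universe u

open CategoryTheory CategoryTheory.Limits AlgebraicGeometry

namespace Groth.Agent.H4.WRk

lemma projective_app_of_finite_flat {A S : Scheme.{u}} (h : A ⟶ S) [IsFinite h] [Flat h]
    [LocallyOfFinitePresentation h] (U : S.Opens) (hU : IsAffineOpen U) :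
    @Module.Projective Γ(S, U) _ Γ(A, h ⁻¹ᵁ U) _ (h.app U).hom.toAlgebra.toModule := by
  have h1 : (h.app U).hom.Finite := IsFinite.finite_app h U hU
  have h2 : (h.app U).hom.Flat := by
    rw [Scheme.Hom.app_eq_appLE]
    exact HasRingHomProperty.appLE @Flat h inferInstance ⟨U, hU⟩ ⟨h ⁻¹ᵁ U, hU.preimage h⟩ le_rfl
  have h3 : (h.app U).hom.FinitePresentation := by
    rw [Scheme.Hom.app_eq_appLE]
    exact HasRingHomProperty.appLE @LocallyOfFinitePresentation h inferInstance ⟨U, hU⟩
      ⟨h ⁻¹ᵁ U, hU.preimage h⟩ le_rfl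
  letI := (h.app U).hom.toAlgebra
  haveI : Module.Finite Γ(S, U) Γ(A, h ⁻¹ᵁ U) := h1
  haveI : Module.Flat Γ(S, U) Γ(A, h ⁻¹ᵁ U) := h2
  haveI : Algebra.FinitePresentation Γ(S, U) Γ(A, h ⁻¹ᵁ U) := h3
  haveI := Module.FinitePresentation.of_finite_of_finitePresentation Γ(S, U) Γ(A, h ⁻¹ᵁ U)
  exact Module.Flat.projective_of_finitePresentation

/-- the local hypothesis of `weil_rep` for the base change of a finite flat morphism of finite
presentation -/
theorem loc_model_finite_flat {A S Y P : Scheme.{u}} (h : A ⟶ S) [IsFinite h] [Flat h]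
    [LocallyOfFinitePresentation h] (k : Y ⟶ S) (fst : P ⟶ A)
    (π : P ⟶ Y) (hP : IsPullback fst π h k) (y : Y) :
    ∃ (V PV : Scheme.{u}) (j : V ⟶ Y) (fP : PV ⟶ P) (πV : PV ⟶ V),
      IsOpenImmersion j ∧ y ∈ Set.range j ∧ IsAffine V ∧ IsAffine PV ∧ IsPullback fP πV π j ∧
      @Module.Projective Γ(V, ⊤) _ Γ(PV, ⊤) _ πV.appTop.hom.toAlgebra.toModule := by
  obtain ⟨_, ⟨U, hU, rfl⟩, hyU, -⟩ := S.isBasis_affineOpens.exists_subset_of_mem_open
    (Set.mem_univ (k y)) isOpen_univ
  exact Groth.Agent.H4.WRd.loc_model h k fst π hP U hU (projective_app_of_finite_flat h U hU) y hyU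

end Groth.Agent.H4.WRk
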