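import Mathlib
import Groth.Prelude.Def_Flatn
import Groth.Prelude.Def_Flat
import Groth.Prelude.Def_WeilRes
import Groth.Agent.H4.HomJ
import Groth.Agent.H4.WSd

/-! helper4: representability of `Mor_S(Z, X)` under a weaker "finite sets in affine opens"
hypothesis, and the Weil restriction along a finite locally free universal homeomorphism. -/

set_option autoImplicit false

universe u

open CategoryTheory CategoryTheory.Limits AlgebraicGeometry Opposite

noncomputable section

namespace Groth.Agent.H4.WSi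

open Groth.Agent.H4.HomG Groth.Agent.H4.HomH Groth.Agent.H4.HomI Groth.Agent.H4.HomJ

section Main

variable {Z X S : Scheme.{u}} (g : Z ⟶ S) (f : X ⟶ S)

/-- variant of `HomJ.main` where the affine-open hypothesis is only required for the images of
the fibres of the base changes of `g`. -/
theorem main' (hg : Mor2.IsFinLocFree g)
    (hAF : ∀ (T : Scheme.{u}) (t : T ⟶ S) (φ : pullback t g ⟶ X) (p : T),
      ∃ U : X.Opens, IsAffineOpen U ∧ ∀ w : ↥(pullback t g), (pullback.fst t g) w = p → φ w ∈ U) :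
    (Flatn.morS g f).IsRepresentable := by
  haveI : IsFinite g := hg.1
  choose W hW using exists_piece g f hg
  have R := fun idx => (hW idx).some
  let F : Sheaf Scheme.zariskiTopology (Type u) := ⟨lft (Flatn.morS g f), isSheaf_lft g f⟩
  let ff : ∀ idx : Idx f, yoneda.obj (W idx).left ⟶ F.1 := fun idx =>
    (lftRep _ (R idx)).toIso.hom ≫ kapNat g f idx.1.1.ι (g ∣_ idx.1.1) (g ⁻¹ᵁ idx.1.1).ι
      (isPullback_morphismRestrict g idx.1.1).flip idx.1.2.ι
      (f.resLE idx.1.1 idx.1.2 idx.2.2.2) (Scheme.Hom.resLE_comp_ι f idx.2.2.2)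
  have hff : ∀ idx, IsOpenImmersion.presheaf (ff idx) := by
    intro idx
    exact (MorphismProperty.cancel_left_of_respectsIso _ _ _).mpr
      (kapNat_isOpenImmersion g f idx.1.1 idx.1.2 (g ∣_ idx.1.1) (g ⁻¹ᵁ idx.1.1).ι
        (isPullback_morphismRestrict g idx.1.1).flip
        (f.resLE idx.1.1 idx.1.2 idx.2.2.2) (Scheme.Hom.resLE_comp_ι f idx.2.2.2))
  haveI : Presheaf.IsLocallySurjective Scheme.zariskiTopology (Sigma.desc ff) := by
    refine ⟨fun {T} y => ?_⟩
    obtain ⟨t, φ, h, rfl⟩ := exists_mkL g f y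
    have hpt : ∀ p : T, ∃ (idx : Idx f) (T₀ : T.Opens) (b : (T₀ : Scheme.{u}) ⟶ (W idx).left),
        p ∈ T₀ ∧ (ff idx).app (op (T₀ : Scheme.{u})) b =
          F.1.map T₀.ι.op (mkL g f t φ h) := by
      intro p
      have hfin : ((pullback.fst t g) ⁻¹' {p}).Finite :=
        (pullback.fst t g).finite_preimage_singleton p
      haveI : Finite ↥((pullback.fst t g) ⁻¹' {p}) := hfin.to_subtype
      obtain ⟨d, ⟨e⟩⟩ := Finite.exists_equiv_fin ↥((pullback.fst t g) ⁻¹' {p})
      have hfx : ∀ w : ↥(pullback t g), (pullback.fst t g) w = p → f (φ w) = t p := by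
        intro w hw
        rw [← Scheme.Hom.comp_apply, h, ← pullback.condition, Scheme.Hom.comp_apply, hw]
      obtain ⟨U', hU', hxU''⟩ := hAF T t φ p
      have hxU' : ∀ k, φ (e.symm k).1 ∈ U' := fun k => hxU'' _ (e.symm k).2
      obtain ⟨V₀, hV₀, hpV₀, -⟩ := exists_isAffineOpen_mem_and_subset (x := t p)
        (U := (⊤ : S.Opens)) trivial
      obtain ⟨U₀, hU₀, -, hle2, hxU₀⟩ := exists_affine_le_of_finite U' hU' (f ⁻¹ᵁ V₀)
        (fun k => φ (e.symm k).1) hxU' (fun k => by
          show f (φ (e.symm k).1) ∈ V₀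
          rw [hfx _ (e.symm k).2]
          exact hpV₀)
      let idx : Idx f := ⟨(V₀, U₀), hV₀, hU₀, hle2⟩
      have hpT : p ∈ T0 g idx.1.1 idx.1.2 t φ := by
        refine ⟨hpV₀, fun w hw => ?_⟩
        have h1 := hxU₀ (e ⟨w, hw⟩)
        simp only [Equiv.symm_apply_apply] at h1
        exact h1
      obtain ⟨y₀, hy₀⟩ := exists_kap_eq_T0 g f idx.1.1 idx.1.2 (g ∣_ idx.1.1)
        (g ⁻¹ᵁ idx.1.1).ι (isPullback_morphismRestrict g idx.1.1).flip
        (f.resLE idx.1.1 idx.1.2 idx.2.2.2) (Scheme.Hom.resLE_comp_ι f idx.2.2.2) t φ h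
      refine ⟨idx, T0 g idx.1.1 idx.1.2 t φ, (lftRep _ (R idx)).homEquiv.symm y₀, hpT, ?_⟩
      have e1 : (lftRep _ (R idx)).homEquiv ((lftRep _ (R idx)).homEquiv.symm y₀) = y₀ :=
        Equiv.apply_symm_apply _ _
      exact (congrArg (kap g f idx.1.1.ι (g ∣_ idx.1.1) (g ⁻¹ᵁ idx.1.1).ι
        (isPullback_morphismRestrict g idx.1.1).flip idx.1.2.ι
        (f.resLE idx.1.1 idx.1.2 idx.2.2.2) (Scheme.Hom.resLE_comp_ι f idx.2.2.2)) e1).trans hy₀
    choose idx T₀ b hp hb using hpt
    have hcov : TopologicalSpace.IsOpenCover T₀ := by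
      rw [TopologicalSpace.IsOpenCover, eq_top_iff]
      intro p _
      exact TopologicalSpace.Opens.mem_iSup.mpr ⟨p, hp p⟩
    refine GrothendieckTopology.superset_covering _ ?_
      (Scheme.Cover.mem_grothendieckTopology (T.openCoverOfIsOpenCover T₀ hcov))
    rw [Sieve.ofArrows, Sieve.generate_le_iff]
    rintro T' a ⟨p⟩
    refine ⟨(Sigma.ι (fun idx => yoneda.obj (W idx).left) (idx p)).app _ (b p), ?_⟩
    have := congrArg (fun m => m.app (op (T₀ p : Scheme.{u})) (b p)) (Sigma.ι_desc ff (idx p))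
    exact this.trans (hb p)
  have hrep : F.1.IsRepresentable := Scheme.LocalRepresentability.isRepresentable hff
  obtain ⟨W', ⟨R'⟩⟩ := hrep.has_representation
  obtain ⟨W₀, hW₀⟩ := rep_of_lft_rep (Flatn.morS g f) R'
  exact ⟨W₀, hW₀⟩

/-- for a universal homeomorphism `g` the functor `Mor_S(Z, X)` is representable for every
`X`. -/
theorem main_univHomeo (hg : Mor2.IsFinLocFree g) (hu : FlatMor.IsUnivHomeo g) :
    (Flatn.morS g f).IsRepresentable := by
  refine main' g f hg (fun T t φ p => ?_)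
  have hh : IsHomeomorph (pullback.fst t g) :=
    hu (pullback.snd t g) t (pullback.fst t g) (IsPullback.of_hasPullback t g)
  obtain ⟨w₀, hw₀⟩ := hh.surjective p
  obtain ⟨U, hU, hwU, -⟩ := exists_isAffineOpen_mem_and_subset (x := φ w₀)
    (U := (⊤ : X.Opens)) trivial
  refine ⟨U, hU, fun w hw => ?_⟩
  have : w = w₀ := hh.injective (hw.trans hw₀.symm)
  rw [this]
  exact hwU

end Main

open Groth.Agent.H4 Groth.Agent.H4.WSd

/-- `WeilRep` data gives Mathlib representability data for the Weil restriction functor. -/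
def repOfWeilRep {S S' : Scheme.{u}} {φ : S' ⟶ S} {X' : Over S'} {R : Over S}
    (W : WeilRep φ X' R) : (WeilRes.functor φ X').RepresentableBy R where
  homEquiv {T} := W.e T
  homEquiv_comp {T T'} t g := W.he T T' t g

/-- Weil restriction along a finite locally free universal homeomorphism exists. -/
theorem exists_isWeilRes {S S' : Scheme.{u}} (φ : S' ⟶ S) (hφ : Mor2.IsFinLocFree φ)
    (hu : FlatMor.IsUnivHomeo φ) (X' : Over S') :
    ∃ (R : Over S) (q : Red.bc φ R ⟶ X'), WeilRes.IsWeilRes φ X' R q := by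
  haveI : IsFinite φ := hφ.1
  obtain ⟨M₁, ⟨R₁⟩⟩ := (main_univHomeo φ (X'.hom ≫ φ) hφ hu).has_representation
  obtain ⟨M₂, -, -, -, ⟨R₂⟩⟩ := HgB.main_global' φ φ hφ
  let W : WeilRep φ X'
      (Over.mk (pullback.fst (Model.p φ X' R₁ R₂).left (Model.s φ R₂).left ≫ M₁.hom)) :=
    Model.weilRep φ X' R₁ R₂ _ (pullback.fst _ _) (pullback.snd _ _) rfl
      (IsPullback.of_hasPullback _ _)
  exact ⟨_, _, WeilRes.IsWeilRes.of_representableBy (repOfWeilRep W)⟩

end Groth.Agent.H4.WSi

end
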