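import Mathlib

set_option autoImplicit false

open scoped commutatorElement

namespace Groth.Agent.H4.WdA

variable {H : Type*} [Group H]

/-- set of commutators of elements of `S` with elements of `T`. -/
def wSet (S T : Set H) : Set H := {x | ∃ a ∈ S, ∃ b ∈ T, ⁅a, b⁆ = x}

lemma wSet_conj (S T : Set H) (hS : ∀ g : H, ∀ s ∈ S, g * s * g⁻¹ ∈ S)
    (hT : ∀ g : H, ∀ t ∈ T, g * t * g⁻¹ ∈ T) :
    ∀ g : H, ∀ x ∈ wSet S T, g * x * g⁻¹ ∈ wSet S T := by
  rintro g _ ⟨a, ha, b, hb, rfl⟩
  exact ⟨_, hS g a ha, _, hT g b hb, by rw [conjugate_commutatorElement]⟩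

lemma closure_normal_of_conj (S : Set H) (hS : ∀ g : H, ∀ s ∈ S, g * s * g⁻¹ ∈ S) :
    (Subgroup.closure S).Normal := by
  refine ⟨fun n hn g => ?_⟩
  induction hn using Subgroup.closure_induction with
  | mem x hx => exact Subgroup.subset_closure (hS g x hx)
  | one => simp
  | mul x y _ _ hx hy =>
    have : g * (x * y) * g⁻¹ = (g * x * g⁻¹) * (g * y * g⁻¹) := by group
    rw [this]; exact Subgroup.mul_mem _ hx hy
  | inv x _ hx =>
    have : g * x⁻¹ * g⁻¹ = (g * x * g⁻¹)⁻¹ := by group
    rw [this]; exact Subgroup.inv_mem _ hx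

lemma commutator_closure_le (S T : Set H) (hS : ∀ g : H, ∀ s ∈ S, g * s * g⁻¹ ∈ S)
    (hT : ∀ g : H, ∀ t ∈ T, g * t * g⁻¹ ∈ T) :
    ⁅Subgroup.closure S, Subgroup.closure T⁆ ≤ Subgroup.closure (wSet S T) := by
  haveI hNn : (Subgroup.closure (wSet S T)).Normal :=
    closure_normal_of_conj _ (wSet_conj S T hS hT)
  rw [Subgroup.commutator_le]
  intro x hx y hy
  obtain ⟨π, hπ⟩ : ∃ π : H →* H ⧸ Subgroup.closure (wSet S T),
      ∀ z, π z = 1 ↔ z ∈ Subgroup.closure (wSet S T) :=
    ⟨QuotientGroup.mk' _, fun z => QuotientGroup.eq_one_iff z⟩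
  have h1 : ∀ s ∈ S, ∀ t ∈ T, Commute (π s) (π t) := by
    intro s hs t ht
    have h0 : ⁅s, t⁆ ∈ Subgroup.closure (wSet S T) :=
      Subgroup.subset_closure ⟨s, hs, t, ht, rfl⟩
    have h2 : π ⁅s, t⁆ = 1 := (hπ _).mpr h0
    rw [map_commutatorElement, commutatorElement_eq_one_iff_commute] at h2
    exact h2
  have h3 : ∀ t ∈ T, Commute (π x) (π t) := by
    intro t ht
    induction hx using Subgroup.closure_induction with
    | mem s hs => exact h1 s hs t ht
    | one => rw [map_one]; exact Commute.one_left _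
    | mul a b _ _ ha hb => rw [map_mul]; exact ha.mul_left hb
    | inv a _ ha => rw [map_inv]; exact ha.inv_left
  have h4 : Commute (π x) (π y) := by
    induction hy using Subgroup.closure_induction with
    | mem t ht => exact h3 t ht
    | one => rw [map_one]; exact Commute.one_right _
    | mul a b _ _ ha hb => rw [map_mul]; exact ha.mul_right hb
    | inv a _ ha => rw [map_inv]; exact ha.inv_right
  have h5 : π ⁅x, y⁆ = 1 := by
    rw [map_commutatorElement, commutatorElement_eq_one_iff_commute]; exact h4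
  exact (hπ _).mp h5

lemma commutator_closure_eq (S T : Set H) (hS : ∀ g : H, ∀ s ∈ S, g * s * g⁻¹ ∈ S)
    (hT : ∀ g : H, ∀ t ∈ T, g * t * g⁻¹ ∈ T) :
    ⁅Subgroup.closure S, Subgroup.closure T⁆ = Subgroup.closure (wSet S T) := by
  apply le_antisymm (commutator_closure_le S T hS hT)
  rw [Subgroup.closure_le]
  rintro _ ⟨a, ha, b, hb, rfl⟩
  exact Subgroup.commutator_mem_commutator (Subgroup.subset_closure ha)
    (Subgroup.subset_closure hb)

/-- values of the iterated commutator word of the derived series. -/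
def dSet (H : Type*) [Group H] : ℕ → Set H
  | 0 => Set.univ
  | n + 1 => wSet (dSet H n) (dSet H n)

/-- values of the iterated commutator word of the lower central series. -/
def lSet (H : Type*) [Group H] : ℕ → Set H
  | 0 => Set.univ
  | n + 1 => wSet (lSet H n) Set.univ

lemma dSet_conj (n : ℕ) : ∀ g : H, ∀ s ∈ dSet H n, g * s * g⁻¹ ∈ dSet H n := by
  induction n with
  | zero => intro g s _; exact Set.mem_univ _
  | succ n ih => exact wSet_conj _ _ ih ih

lemma lSet_conj (n : ℕ) : ∀ g : H, ∀ s ∈ lSet H n, g * s * g⁻¹ ∈ lSet H n := by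
  induction n with
  | zero => intro g s _; exact Set.mem_univ _
  | succ n ih => exact wSet_conj _ _ ih (fun _ _ _ => Set.mem_univ _)

theorem derivedSeries_eq_closure (n : ℕ) :
    derivedSeries H n = Subgroup.closure (dSet H n) := by
  induction n with
  | zero => simp [dSet]
  | succ n ih =>
    rw [derivedSeries_succ, ih]
    exact commutator_closure_eq _ _ (dSet_conj n) (dSet_conj n)

theorem lowerCentralSeries_eq_closure (n : ℕ) :
    (⊤ : Subgroup H).lowerCentralSeries n = Subgroup.closure (lSet H n) := by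
  induction n with
  | zero => simp [lSet]
  | succ n ih =>
    rw [Subgroup.lowerCentralSeries_succ, ih]
    have := commutator_closure_eq (lSet H n) Set.univ (lSet_conj n)
      (fun _ _ _ => Set.mem_univ _)
    rw [Subgroup.closure_univ] at this
    exact this

end Groth.Agent.H4.WdA
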