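import Mathlib
import Groth.Agent.H4.WdA

set_option autoImplicit false

open CategoryTheory MonoidalCategory CartesianMonoidalCategory MonObj GrpObj
open scoped commutatorElement

namespace Groth.Agent.H4.WdB

open Groth.Agent.H4

universe v u

variable {C : Type u} [Category.{v} C] [CartesianMonoidalCategory C]

lemma comp_commutator {G : C} [GrpObj G] {T P : C} (c : T ⟶ P) (a b : P ⟶ G) :
    c ≫ ⁅a, b⁆ = ⁅c ≫ a, c ≫ b⁆ := by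
  simp only [commutatorElement_def, MonObj.comp_mul, GrpObj.comp_inv]

lemma range_comm {G : C} [GrpObj G] {P₁ P₂ : C} (w₁ : P₁ ⟶ G) (w₂ : P₂ ⟶ G) (T : C) :
    WdA.wSet (Set.range (fun a : T ⟶ P₁ => a ≫ w₁)) (Set.range (fun b : T ⟶ P₂ => b ≫ w₂))
      = Set.range (fun c : T ⟶ P₁ ⊗ P₂ => c ≫ ⁅fst P₁ P₂ ≫ w₁, snd P₁ P₂ ≫ w₂⁆) := by
  ext x
  constructor
  · rintro ⟨_, ⟨a, rfl⟩, _, ⟨b, rfl⟩, rfl⟩
    refine ⟨lift a b, ?_⟩
    simp only [comp_commutator, lift_fst_assoc, lift_snd_assoc]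
  · rintro ⟨c, rfl⟩
    refine ⟨_, ⟨c ≫ fst _ _, rfl⟩, _, ⟨c ≫ snd _ _, rfl⟩, ?_⟩
    simp only [comp_commutator, Category.assoc]

theorem exists_dWord (G : C) [GrpObj G] (PP : C → Prop) (hG : PP G)
    (hP : ∀ X Y, PP X → PP Y → PP (X ⊗ Y)) (n : ℕ) :
    ∃ (P : C) (w : P ⟶ G), PP P ∧
      ∀ T : C, WdA.dSet (T ⟶ G) n = Set.range (fun a : T ⟶ P => a ≫ w) := by
  induction n with
  | zero =>
    refine ⟨G, 𝟙 G, hG, fun T => ?_⟩
    ext x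
    simp [WdA.dSet]
  | succ n ih =>
    obtain ⟨P, w, hP', hw⟩ := ih
    refine ⟨P ⊗ P, ⁅fst P P ≫ w, snd P P ≫ w⁆, hP P P hP' hP', fun T => ?_⟩
    show WdA.wSet (WdA.dSet (T ⟶ G) n) (WdA.dSet (T ⟶ G) n) = _
    rw [hw T]
    exact range_comm w w T

theorem exists_lWord (G : C) [GrpObj G] (PP : C → Prop) (hG : PP G)
    (hP : ∀ X Y, PP X → PP Y → PP (X ⊗ Y)) (n : ℕ) :
    ∃ (P : C) (w : P ⟶ G), PP P ∧
      ∀ T : C, WdA.lSet (T ⟶ G) n = Set.range (fun a : T ⟶ P => a ≫ w) := by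
  induction n with
  | zero =>
    refine ⟨G, 𝟙 G, hG, fun T => ?_⟩
    ext x
    simp [WdA.lSet]
  | succ n ih =>
    obtain ⟨P, w, hP', hw⟩ := ih
    refine ⟨P ⊗ G, ⁅fst P G ≫ w, snd P G ≫ 𝟙 G⁆, hP P G hP' hG, fun T => ?_⟩
    show WdA.wSet (WdA.lSet (T ⟶ G) n) Set.univ = _
    rw [hw T]
    have h2 : (Set.univ : Set (T ⟶ G)) = Set.range (fun b : T ⟶ G => b ≫ 𝟙 G) := by
      ext x; simp
    rw [h2]
    exact range_comm w (𝟙 G) T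

end Groth.Agent.H4.WdB
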