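import Mathlib
import Groth.Agent.H4.SmRed

set_option autoImplicit false
universe u

open AlgebraicGeometry CategoryTheory CategoryTheory.Limits

namespace Groth.Agent.H4.WdC

variable (k : Type u) [Field k] (Ω : Type u) [Field Ω] [Algebra k Ω] [IsAlgClosed Ω]

/-- a maximal ideal of a f.t. `k`-algebra is the kernel of a `k`-hom to `Ω`. -/
lemma exists_algHom_ker (B : Type u) [CommRing B] [Algebra k B] [Algebra.FiniteType k B]
    (m : Ideal B) [hm : m.IsMaximal] : ∃ χ : B →ₐ[k] Ω, ∀ b, χ b = 0 ↔ b ∈ m := by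
  letI := Ideal.Quotient.field m
  haveI : Module.Finite k (B ⧸ m) := finite_of_finite_type_of_isJacobsonRing k (B ⧸ m)
  let θ : (B ⧸ m) →ₐ[k] Ω := IsAlgClosed.lift
  have hinj : Function.Injective θ := θ.toRingHom.injective
  refine ⟨θ.comp (Ideal.Quotient.mkₐ k m), fun b => ?_⟩
  rw [AlgHom.comp_apply, map_eq_zero_iff θ hinj, Ideal.Quotient.mkₐ_eq_mk,
    Ideal.Quotient.eq_zero_iff_mem]

lemma eq_zero_of_forall_algHom (B : Type u) [CommRing B] [Algebra k B] [Algebra.FiniteType k B]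
    [IsReduced B] (b : B) (h : ∀ χ : B →ₐ[k] Ω, χ b = 0) : b = 0 := by
  haveI : IsJacobsonRing B := isJacobsonRing_of_finiteType (A := k) (B := B)
  have h1 : b ∈ (⊥ : Ideal B).jacobson := by
    rw [Ideal.jacobson, Ideal.mem_sInf]
    rintro m ⟨-, hm⟩
    haveI := hm
    obtain ⟨χ, hχ⟩ := exists_algHom_ker k Ω B m
    exact (hχ b).1 (h χ)
  rw [IsJacobsonRing.out inferInstance Ideal.isRadical_bot] at h1
  exact h1

/-- morphisms from `Spec B` (`B` f.t. reduced over `k`) to an affine scheme are determined by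
their values on `Ω`-points. -/
lemma affine_hom_ext (B : Type u) [CommRing B] [Algebra k B] [Algebra.FiniteType k B]
    [IsReduced B] {V : Scheme.{u}} [IsAffine V] (f g : Spec (CommRingCat.of B) ⟶ V)
    (h : ∀ χ : B →ₐ[k] Ω, Spec.map (CommRingCat.ofHom χ.toRingHom) ≫ f =
      Spec.map (CommRingCat.ofHom χ.toRingHom) ≫ g) : f = g := by
  apply ext_of_isAffine
  ext c
  have hinj : Function.Injective (Scheme.ΓSpecIso (CommRingCat.of B)).hom.hom :=
    (ConcreteCategory.bijective_of_isIso (Scheme.ΓSpecIso (CommRingCat.of B)).hom).1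
  apply hinj
  apply eq_of_sub_eq_zero
  apply eq_zero_of_forall_algHom k Ω B
  intro χ
  rw [map_sub, sub_eq_zero]
  have h1 : ∀ z, χ ((Scheme.ΓSpecIso (CommRingCat.of B)).hom.hom z) =
      (Scheme.ΓSpecIso (CommRingCat.of Ω)).hom.hom
        ((Spec.map (CommRingCat.ofHom χ.toRingHom)).appTop.hom z) := by
    intro z
    have nat := Scheme.ΓSpecIso_naturality (CommRingCat.ofHom χ.toRingHom)
    have := congrArg (fun φ => φ.hom z) nat
    exact this.symm
  rw [h1, h1]
  congr 1
  have h2 := congrArg (fun φ => φ.appTop.hom c) (h χ)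
  simpa [Scheme.Hom.comp_appTop] using h2

/-- morphisms from `Spec B` (`B` smooth over `k`) to any scheme are determined by
their values on `Ω`-points. -/
lemma spec_hom_ext (B : Type u) [CommRing B] [Algebra k B] [Algebra.Smooth k B]
    {Y : Scheme.{u}} (f g : Spec (CommRingCat.of B) ⟶ Y)
    (h : ∀ χ : B →ₐ[k] Ω, Spec.map (CommRingCat.ofHom χ.toRingHom) ≫ f =
      Spec.map (CommRingCat.ofHom χ.toRingHom) ≫ g) : f = g := by
  apply Scheme.hom_ext_of_forall
  intro x
  obtain ⟨m, hm, hxm⟩ := Ideal.exists_le_maximal (x : PrimeSpectrum B).asIdeal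
    (x : PrimeSpectrum B).2.ne_top
  haveI := hm
  obtain ⟨χ, hχ⟩ := exists_algHom_ker k Ω B m
  let pt : PrimeSpectrum Ω := ⟨⊥, Ideal.isPrime_bot⟩
  let x₀ : Spec (CommRingCat.of B) := Spec.map (CommRingCat.ofHom χ.toRingHom) pt
  have hspec : x ⤳ x₀ := by
    refine (PrimeSpectrum.le_iff_specializes (R := B) x x₀).mp ?_
    show (x : PrimeSpectrum B).asIdeal ≤ (x₀ : PrimeSpectrum B).asIdeal
    intro b hb
    show χ b ∈ pt.asIdeal
    rw [(hχ b).2 (hxm hb)]
    exact zero_mem _
  have hfg : f x₀ = g x₀ := by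
    show (Spec.map (CommRingCat.ofHom χ.toRingHom) ≫ f) pt =
      (Spec.map (CommRingCat.ofHom χ.toRingHom) ≫ g) pt
    rw [h χ]
  obtain ⟨V, hV, hyV⟩ : ∃ V : Y.Opens, IsAffineOpen V ∧ f x₀ ∈ V :=
    ⟨_, isAffineOpen_opensRange (Y.affineCover.f _), Y.affineCover.covers _⟩
  let W : (Spec (CommRingCat.of B)).Opens := f ⁻¹ᵁ V ⊓ g ⁻¹ᵁ V
  have hx₀W : x₀ ∈ W :=
    TopologicalSpace.Opens.mem_inf.mpr ⟨hyV, by show g x₀ ∈ V; rw [← hfg]; exact hyV⟩
  have hxW : x ∈ W := hspec.mem_open W.2 hx₀W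
  obtain ⟨_, ⟨b, rfl⟩, hb1, hb2⟩ :=
    (PrimeSpectrum.isTopologicalBasis_basic_opens (R := B)).exists_subset_of_mem_open
      (show x ∈ (W : Set ↥(Spec (CommRingCat.of B))) from hxW) W.2
  let ιb : Spec (CommRingCat.of (Localization.Away b)) ⟶ Spec (CommRingCat.of B) :=
    Spec.map (CommRingCat.ofHom (algebraMap B (Localization.Away b)))
  have hιb : ιb.opensRange = PrimeSpectrum.basicOpen b :=
    Scheme.Hom.opensRange_localizationAway (R := CommRingCat.of B) b
  have key : ιb ≫ f = ιb ≫ g := by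
    have hrf : Set.range (ιb ≫ f).base ⊆ Set.range V.ι.base := by
      rintro _ ⟨z, rfl⟩
      rw [Scheme.Opens.range_ι]
      have hz : ιb z ∈ ιb.opensRange := ⟨z, rfl⟩
      rw [hιb] at hz
      exact (TopologicalSpace.Opens.mem_inf.mp (hb2 hz)).1
    have hrg : Set.range (ιb ≫ g).base ⊆ Set.range V.ι.base := by
      rintro _ ⟨z, rfl⟩
      rw [Scheme.Opens.range_ι]
      have hz : ιb z ∈ ιb.opensRange := ⟨z, rfl⟩
      rw [hιb] at hz
      exact (TopologicalSpace.Opens.mem_inf.mp (hb2 hz)).2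
    let f' := IsOpenImmersion.lift V.ι (ιb ≫ f) hrf
    let g' := IsOpenImmersion.lift V.ι (ιb ≫ g) hrg
    have hf' : f' ≫ V.ι = ιb ≫ f := IsOpenImmersion.lift_fac _ _ _
    have hg' : g' ≫ V.ι = ιb ≫ g := IsOpenImmersion.lift_fac _ _ _
    haveI : IsAffine (V : Scheme) := hV
    haveI : Algebra.Smooth B (Localization.Away b) := Algebra.Smooth.of_isLocalization_Away b
    haveI : Algebra.Smooth k (Localization.Away b) :=
      Algebra.Smooth.comp k B (Localization.Away b)
    haveI : IsReduced (Localization.Away b) :=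
      Groth.Agent.H4.SmRed.isReduced_of_smooth k (Localization.Away b)
    have hfg' : f' = g' := by
      apply affine_hom_ext k Ω (Localization.Away b)
      intro χ'
      rw [← cancel_mono V.ι, Category.assoc, Category.assoc, hf', hg']
      have h3 := h (χ'.comp (IsScalarTower.toAlgHom k B (Localization.Away b)))
      have e : Spec.map (CommRingCat.ofHom
          (χ'.comp (IsScalarTower.toAlgHom k B (Localization.Away b))).toRingHom)
          = Spec.map (CommRingCat.ofHom χ'.toRingHom) ≫ ιb := by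
        rw [← Spec.map_comp]; rfl
      rw [e, Category.assoc, Category.assoc] at h3
      exact h3
    rw [← hf', ← hg', hfg']
  refine ⟨ιb.opensRange, by rw [hιb]; exact hb1, ?_⟩
  rw [← cancel_epi ιb.isoOpensRange.hom, ← Category.assoc, ← Category.assoc,
    Scheme.Hom.isoOpensRange_hom_ι]
  exact key

/-- Morphisms from a smooth `k`-scheme are determined by their values on `Ω`-points
(`Ω` an algebraically closed extension of `k`). -/
theorem hom_ext_of_geom_points {X Y : Scheme.{u}} (p : X ⟶ Spec (CommRingCat.of k)) [Smooth p]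
    (f g : X ⟶ Y)
    (h : ∀ a : Spec (CommRingCat.of Ω) ⟶ X,
      a ≫ p = Spec.map (CommRingCat.ofHom (algebraMap k Ω)) → a ≫ f = a ≫ g) : f = g := by
  apply Scheme.hom_ext_of_forall
  intro x
  obtain ⟨U, hU, hxU⟩ : ∃ U : X.Opens, IsAffineOpen U ∧ x ∈ U :=
    ⟨_, isAffineOpen_opensRange (X.affineCover.f _), X.affineCover.covers _⟩
  refine ⟨U, hxU, ?_⟩
  let φ : CommRingCat.of k ⟶ Γ(X, U) := Spec.preimage (hU.fromSpec ≫ p)
  have hφ : Spec.map φ = hU.fromSpec ≫ p := Spec.map_preimage _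
  have hsm : Smooth (Spec.map φ) := by rw [hφ]; infer_instance
  rw [HasRingHomProperty.Spec_iff (P := @Smooth)] at hsm
  letI : Algebra k Γ(X, U) := φ.hom.toAlgebra
  haveI : Algebra.Smooth k Γ(X, U) := hsm
  have key : hU.fromSpec ≫ f = hU.fromSpec ≫ g := by
    apply spec_hom_ext k Ω Γ(X, U)
    intro χ
    rw [← Category.assoc, ← Category.assoc]
    apply h
    rw [Category.assoc, ← hφ, ← Spec.map_comp]
    congr 1
    ext z
    exact χ.commutes z
  rw [← cancel_epi hU.isoSpec.inv, ← Category.assoc, ← Category.assoc, hU.isoSpec_inv_ι]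
  exact key

end Groth.Agent.H4.WdC
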