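import Mathlib
import Groth.Prelude.Def_CohSite

open CategoryTheory Limits Opposite

namespace Groth.Agent.H4.WeakContrAB4

universe u

variable {C : Type u} [SmallCategory C] (J : GrothendieckTopology C)

lemma surj_of_epi {U : C} (hU : CohSite.IsWeaklyContractible J U)
    {F G : Sheaf J AddCommGrpCat.{u}} (φ : F ⟶ G) [Epi φ] :
    Function.Surjective (φ.hom.app (op U)).hom := by
  haveI : Sheaf.IsLocallySurjective φ := (Sheaf.isLocallySurjective_iff_epi' AddCommGrpCat.{u} φ).2 inferInstance
  haveI : Sheaf.IsLocallySurjective ((sheafCompose J (forget AddCommGrpCat.{u})).map φ) :=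
    inferInstance
  have hepi : Epi ((sheafCompose J (forget AddCommGrpCat.{u})).map φ) := inferInstance
  have := hU _ _ ((sheafCompose J (forget AddCommGrpCat.{u})).map φ) hepi
  exact this

/-- evaluation at `U` on sheaves. -/
noncomputable abbrev E (U : C) : Sheaf J AddCommGrpCat.{u} ⥤ AddCommGrpCat.{u} :=
  sheafToPresheaf J AddCommGrpCat.{u} ⋙ (evaluation _ _).obj (op U)

lemma epi_of_surj_on_basis (B : Set C)
    (hcov : ∀ V : C, ∃ (ι : Type u) (U : ι → C) (f : ∀ i, U i ⟶ V),
      (∀ i, U i ∈ B) ∧ Sieve.ofArrows U f ∈ J V)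
    {F G : Sheaf J AddCommGrpCat.{u}} (φ : F ⟶ G)
    (h : ∀ U ∈ B, Function.Surjective (φ.hom.app (op U)).hom) : Epi φ := by
  haveI : Sheaf.IsLocallySurjective φ := by
    constructor
    intro V s
    obtain ⟨ι, U, f, hU, hmem⟩ := hcov V
    refine J.superset_covering ?_ hmem
    rintro W g ⟨Z, a, b, ⟨i⟩, rfl⟩
    apply Sieve.downward_closed
    obtain ⟨t, ht⟩ := h (U i) (hU i) (G.obj.map (f i).op s)
    exact ⟨t, ht⟩
  infer_instance

theorem main (B : Set C) (hB : ∀ U ∈ B, CohSite.IsWeaklyContractible J U)
    (hcov : ∀ V : C, ∃ (ι : Type u) (U : ι → C) (f : ∀ i, U i ⟶ V),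
      (∀ i, U i ∈ B) ∧ Sieve.ofArrows U f ∈ J V) :
    AB4Star (Sheaf J AddCommGrpCat.{u}) := by
  constructor
  intro α
  apply +allowSynthFailures hasExactLimitsOfShape_of_preservesEpi
  constructor
  intro X Y f hf
  apply epi_of_surj_on_basis J B hcov
  intro U hU
  have hfi : ∀ i : Discrete α, Epi (f.app i) := fun i => inferInstance
  have key : (E J U).map (limMap f) ≫ (preservesLimitIso (E J U) Y).hom =
      (preservesLimitIso (E J U) X).hom ≫ limMap (Functor.whiskerRight f (E J U)) := by
    apply limit.hom_ext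
    intro j
    simp only [Category.assoc, preservesLimitIso_hom_π, limMap_π, preservesLimitIso_hom_π_assoc,
      Functor.whiskerRight_app, ← Functor.map_comp]
  have hepi2 : Epi (Functor.whiskerRight f (E J U)) := by
    haveI : ∀ i, Epi ((Functor.whiskerRight f (E J U)).app i) := by
      intro i
      rw [AddCommGrpCat.epi_iff_surjective]
      exact surj_of_epi J (hB U hU) (f.app i)
    exact NatTrans.epi_of_epi_app _
  have hepi3 : Epi (limMap (Functor.whiskerRight f (E J U))) := by
    have : Epi (lim.map (Functor.whiskerRight f (E J U))) := inferInstance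
    exact this
  have hepi4 : Epi ((E J U).map (limMap f)) := by
    have h1 : (E J U).map (limMap f) =
        ((preservesLimitIso (E J U) X).hom ≫ limMap (Functor.whiskerRight f (E J U))) ≫
          (preservesLimitIso (E J U) Y).inv := by
      rw [← key, Category.assoc, Iso.hom_inv_id, Category.comp_id]
    rw [h1]
    infer_instance
  exact (AddCommGrpCat.epi_iff_surjective _).1 hepi4

end Groth.Agent.H4.WeakContrAB4
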