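import Mathlib
import Groth.Prelude.Def_Flat
import Groth.Agent.H4.AWN
import Groth.Agent.H4.UHApprox

set_option autoImplicit false
universe u
open CategoryTheory CategoryTheory.Limits AlgebraicGeometry TensorProduct

namespace Groth.Agent.H4.WeakNorm

open Groth.Agent.S7405 Groth.Agent.H4.UHCrit Groth.Agent.H4.UHTower Groth.Agent.H4.AWN
  Groth.Agent.H4.UHApprox

section Ext
variable {E B Ω : Type u} [CommRing E] [CommRing B] [Algebra E B] [Field Ω] [IsAlgClosed Ω]

lemma exists_extension (hint : (algebraMap E B).IsIntegral)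
    (hinj : Function.Injective (algebraMap E B)) (f : E →+* Ω) :
    ∃ g : B →+* Ω, g.comp (algebraMap E B) = f := by
  letI := f.toAlgebra
  haveI : (RingHom.ker f).IsPrime := RingHom.ker_isPrime f
  haveI : Algebra.IsIntegral E B := ⟨hint⟩
  obtain ⟨Q, -, hQ, hQc⟩ := Ideal.exists_ideal_over_prime_of_isIntegral
    (S := B) (RingHom.ker f) (⊥ : Ideal B) (by
      have : (⊥ : Ideal B).comap (algebraMap E B) = RingHom.ker (algebraMap E B) := rfl
      rw [this, (RingHom.injective_iff_ker_eq_bot _).mp hinj]; exact bot_le)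
  haveI := hQ
  obtain ⟨g⟩ := exists_algHom_to_algClosed (A := E) (C := B) (K := Ω) hint Q hQc
  exact ⟨g.toRingHom, RingHom.ext fun e => g.commutes e⟩

end Ext

section Gen
variable {T₀ : Type u} [CommRing T₀]

lemma isNilpotent_of_forall_algClosed (x : T₀)
    (h : ∀ (Ω : Type u) [Field Ω] [IsAlgClosed Ω] (j : T₀ →+* Ω), j x = 0) : IsNilpotent x := by
  rw [nilpotent_iff_mem_prime]
  intro q hq
  haveI := hq
  have h0 := h (AlgebraicClosure q.ResidueField)
    ((algebraMap q.ResidueField (AlgebraicClosure q.ResidueField)).comp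
      (algebraMap T₀ q.ResidueField))
  have h1 : algebraMap T₀ q.ResidueField x = 0 :=
    (algebraMap q.ResidueField (AlgebraicClosure q.ResidueField)).injective
      (by rw [map_zero]; exact h0)
  exact (Ideal.algebraMap_residueField_eq_zero).mp h1

end Gen

section Key
variable {A B : Type u} [CommRing A] [CommRing B] [Algebra A B]

lemma map_eq_zero_of_nilpotent (E : Subalgebra A B) (hint : (algebraMap E B).IsIntegral) (e : E)
    (h : IsNilpotent ((e : B) ⊗ₜ[A] (1 : B) - (1 : B) ⊗ₜ[A] (e : B)))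
    {Ω : Type u} [Field Ω] [IsAlgClosed Ω] (j : E ⊗[A] E →+* Ω) :
    j ((1 : E) ⊗ₜ[A] e - e ⊗ₜ[A] (1 : E)) = 0 := by
  let f₁ : E →+* Ω := j.comp Algebra.TensorProduct.includeLeftRingHom
  let f₂ : E →+* Ω :=
    j.comp (Algebra.TensorProduct.includeRight (R := A) (A := E) (B := E)).toRingHom
  obtain ⟨g₁, hg₁⟩ := exists_extension hint Subtype.val_injective f₁
  obtain ⟨g₂, hg₂⟩ := exists_extension hint Subtype.val_injective f₂
  letI : Algebra A Ω := (j.comp (algebraMap A (E ⊗[A] E))).toAlgebra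
  have hg₁' : ∀ x : E, g₁ (x : B) = j (x ⊗ₜ[A] 1) := fun x => congrArg (fun φ => φ x) hg₁
  have hg₂' : ∀ x : E, g₂ (x : B) = j (1 ⊗ₜ[A] x) := fun x => congrArg (fun φ => φ x) hg₂
  let G₁ : B →ₐ[A] Ω := { g₁ with
    commutes' := fun a => by
      show g₁ (algebraMap A B a) = j (algebraMap A (E ⊗[A] E) a)
      have : algebraMap A B a = ((algebraMap A E a : E) : B) := rfl
      rw [this, hg₁', Algebra.TensorProduct.algebraMap_apply] }
  let G₂ : B →ₐ[A] Ω := { g₂ with
    commutes' := fun a => by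
      show g₂ (algebraMap A B a) = j (algebraMap A (E ⊗[A] E) a)
      have : algebraMap A B a = ((algebraMap A E a : E) : B) := rfl
      rw [this, hg₂', Algebra.TensorProduct.algebraMap_apply]
      congr 1
      rw [Algebra.algebraMap_eq_smul_one, TensorProduct.smul_tmul, ← Algebra.algebraMap_eq_smul_one] }
  let G := Algebra.TensorProduct.productMap G₁ G₂
  have hG : IsNilpotent (G ((e : B) ⊗ₜ[A] (1 : B) - (1 : B) ⊗ₜ[A] (e : B))) := h.map G
  have hG' : G ((e : B) ⊗ₜ[A] (1 : B) - (1 : B) ⊗ₜ[A] (e : B)) = j (e ⊗ₜ[A] 1) - j (1 ⊗ₜ[A] e) := by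
    rw [map_sub, Algebra.TensorProduct.productMap_apply_tmul,
      Algebra.TensorProduct.productMap_apply_tmul, map_one, map_one, mul_one, one_mul]
    show g₁ e - g₂ e = _
    rw [hg₁', hg₂']
  rw [hG'] at hG
  rw [map_sub, ← neg_sub, hG.eq_zero, neg_zero]

/-- nilpotence descends from `B ⊗ B` to `E ⊗ E` for integral `E ⊆ B` -/
lemma isNilpotent_of_map (E : Subalgebra A B) (hint : (algebraMap E B).IsIntegral) (e : E)
    (h : IsNilpotent ((e : B) ⊗ₜ[A] (1 : B) - (1 : B) ⊗ₜ[A] (e : B))) :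
    IsNilpotent ((1 : E) ⊗ₜ[A] e - e ⊗ₜ[A] (1 : E)) :=
  isNilpotent_of_forall_algClosed _ fun _ _ _ j => map_eq_zero_of_nilpotent E hint e h j

end Key


end Groth.Agent.H4.WeakNorm
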