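import Mathlib
import Groth.Prelude.Def_Flat
import Groth.Agent.H4.WeakNorm

set_option autoImplicit false
universe u
open CategoryTheory CategoryTheory.Limits AlgebraicGeometry TensorProduct

namespace Groth.Agent.H4.WeakNorm2

open Groth.Agent.S7405 Groth.Agent.H4.UHCrit Groth.Agent.H4.UHTower Groth.Agent.H4.AWN
  Groth.Agent.H4.UHApprox Groth.Agent.H4.WeakNorm

theorem weakNorm_equalizer (A B : Type u) [CommRing A] [CommRing B] [Algebra A B]
    (hinj : Function.Injective (algebraMap A B)) [Algebra.IsIntegral A B] :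
    ∃ E : Subalgebra A B, (∀ b : B, b ∈ E ↔ IsNilpotent (b ⊗ₜ[A] (1 : B) - (1 : B) ⊗ₜ[A] b)) ∧
      FlatMor.IsUnivHomeo (Spec.map (CommRingCat.ofHom (algebraMap A E))) ∧
      ∀ C : Subalgebra A B, FlatMor.IsUnivHomeo (Spec.map (CommRingCat.ofHom (algebraMap A C))) → C ≤ E := by
  let N : Ideal (B ⊗[A] B) := nilradical (B ⊗[A] B)
  let p₁ : B →ₐ[A] (B ⊗[A] B) ⧸ N := (Ideal.Quotient.mkₐ A N).comp Algebra.TensorProduct.includeLeft
  let p₂ : B →ₐ[A] (B ⊗[A] B) ⧸ N := (Ideal.Quotient.mkₐ A N).comp Algebra.TensorProduct.includeRight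
  let E : Subalgebra A B := AlgHom.equalizer p₁ p₂
  have hE : ∀ b : B, b ∈ E ↔ IsNilpotent (b ⊗ₜ[A] (1 : B) - (1 : B) ⊗ₜ[A] b) := by
    intro b
    rw [AlgHom.mem_equalizer]
    simp only [p₁, p₂, AlgHom.comp_apply, Ideal.Quotient.mkₐ_eq_mk,
      Algebra.TensorProduct.includeLeft_apply, Algebra.TensorProduct.includeRight_apply]
    rw [Ideal.Quotient.eq]
    exact mem_nilradical
  have hker : RingHom.ker (algebraMap A B) ≤ nilradical A := by
    rw [(RingHom.injective_iff_ker_eq_bot _).mp hinj]; exact bot_le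
  refine ⟨E, hE, ?_, ?_⟩
  · rw [uh_sub_iff hker E]
    have hintE : (algebraMap A E).IsIntegral := by
      intro e
      exact (isIntegral_algHom_iff E.val Subtype.val_injective).mp (Algebra.IsIntegral.isIntegral _)
    refine ⟨hintE, ?_⟩
    apply ui_of_generators Set.univ (Algebra.adjoin_univ _ _)
    intro e _
    apply isNilpotent_of_map E ?_ e ((hE e).mp e.2)
    intro b
    exact (Algebra.IsIntegral.isIntegral (R := A) b).tower_top
  · intro C hC c hc
    rw [hE]
    have hui := ((uh_alg_iff A C).mp hC).2.1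
    have h1 : IsNilpotent ((⟨c, hc⟩ : C) ⊗ₜ[A] (1 : C) - (1 : C) ⊗ₜ[A] (⟨c, hc⟩ : C)) := by
      apply hui
      rw [map_sub, Algebra.TensorProduct.lmul'_apply_tmul, Algebra.TensorProduct.lmul'_apply_tmul,
        mul_one, one_mul, sub_self]
    have := h1.map (Algebra.TensorProduct.map C.val C.val)
    simpa using this

end Groth.Agent.H4.WeakNorm2
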