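import Mathlib

set_option autoImplicit false
set_option linter.unusedSectionVars false
set_option linter.unusedVariables false
set_option linter.style.haveILetI false
universe u v
open Polynomial WeierstrassCurve

namespace Groth.Agent.H4.WeierJ

section

variable {K : Type v} [Field K]

/-- étale-local isomorphism of two Weierstrass curves, with a compatible `K`-point. -/
def Good {R : Type u} [CommRing R] (φ : R →+* K) (W₁ W₂ : WeierstrassCurve R) : Prop :=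
  ∃ (B : Type u) (_ : CommRing B) (_ : Algebra R B), Algebra.Etale R B ∧
    (∃ ψ : B →+* K, ψ.comp (algebraMap R B) = φ) ∧
    ∃ C : VariableChange B, C • (W₁.map (algebraMap R B)) = W₂.map (algebraMap R B)

variable {R : Type u} [CommRing R] {φ : R →+* K} {W₁ W₂ : WeierstrassCurve R}

theorem good_of_smul (φ : R →+* K) (C : VariableChange R) (h : C • W₁ = W₂) : Good φ W₁ W₂ := by
  refine ⟨R, inferInstance, inferInstance, inferInstance, ⟨φ, ?_⟩, C, ?_⟩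
  · ext a; rfl
  · show C • W₁.map (RingHom.id R) = W₂.map (RingHom.id R)
    rw [WeierstrassCurve.map_id, WeierstrassCurve.map_id]; exact h

theorem Good.symm (h : Good φ W₁ W₂) : Good φ W₂ W₁ := by
  obtain ⟨B, _, _, hB, hψ, C, hC⟩ := h
  exact ⟨B, inferInstance, inferInstance, hB, hψ, C⁻¹, by rw [← hC, inv_smul_smul]⟩

theorem Good.smul_left (C₁ : VariableChange R) (h : Good φ (C₁ • W₁) W₂) : Good φ W₁ W₂ := by
  obtain ⟨B, _, _, hB, hψ, C, hC⟩ := h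
  refine ⟨B, inferInstance, inferInstance, hB, hψ, C * C₁.map (algebraMap R B), ?_⟩
  rw [mul_smul, map_variableChange]; exact hC

theorem Good.smul_right (C₂ : VariableChange R) (h : Good φ W₁ (C₂ • W₂)) : Good φ W₁ W₂ := by
  obtain ⟨B, _, _, hB, hψ, C, hC⟩ := h
  refine ⟨B, inferInstance, inferInstance, hB, hψ, (C₂.map (algebraMap R B))⁻¹ * C, ?_⟩
  rw [mul_smul, hC, ← map_variableChange, inv_smul_smul]

theorem Good.trans_etale (R' : Type u) [CommRing R'] [Algebra R R'] [Algebra.Etale R R']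
    (φ' : R' →+* K) (hφ' : φ'.comp (algebraMap R R') = φ)
    (h : Good φ' (W₁.map (algebraMap R R')) (W₂.map (algebraMap R R'))) : Good φ W₁ W₂ := by
  obtain ⟨B, _, _, hB, ⟨ψ, hψ⟩, C, hC⟩ := h
  letI : Algebra R B := ((algebraMap R' B).comp (algebraMap R R')).toAlgebra
  haveI : IsScalarTower R R' B := IsScalarTower.of_algebraMap_eq (fun _ => rfl)
  haveI := hB
  haveI : Algebra.Etale R B := Algebra.Etale.comp R R' B
  have e : ∀ W : WeierstrassCurve R, W.map (algebraMap R B) =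
      (W.map (algebraMap R R')).map (algebraMap R' B) :=
    fun W => (WeierstrassCurve.map_map W (algebraMap R R') (algebraMap R' B)).symm
  refine ⟨B, inferInstance, inferInstance, inferInstance, ⟨ψ, ?_⟩, C, ?_⟩
  · rw [← hφ', ← hψ]; rfl
  · rw [e, e]; exact hC

theorem Good.step (φ : R →+* K) (W₁ W₂ : WeierstrassCurve R) (P : StandardEtalePair R) (x : K)
    (hx : eval₂ φ x P.f = 0) (hg : eval₂ φ x P.g ≠ 0)
    (H : ∀ (R' : Type u) [CommRing R'] [Algebra R R'] (φ' : R' →+* K),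
      φ'.comp (algebraMap R R') = φ → ∀ z : R', aeval z P.f = 0 → IsUnit (aeval z P.g) →
      Good φ' (W₁.map (algebraMap R R')) (W₂.map (algebraMap R R'))) : Good φ W₁ W₂ := by
  letI : Algebra R K := φ.toAlgebra
  have hmap : P.HasMap x :=
    ⟨by rw [aeval_def]; exact hx, by rw [aeval_def]; exact isUnit_iff_ne_zero.2 hg⟩
  let ψ : P.Ring →ₐ[R] K := P.lift x hmap
  have hψ : (ψ : P.Ring →+* K).comp (algebraMap R P.Ring) = φ := by
    ext a; exact ψ.commutes a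
  exact Good.trans_etale P.Ring (ψ : P.Ring →+* K) hψ
    (H P.Ring (ψ : P.Ring →+* K) hψ P.X P.hasMap_X.1 P.hasMap_X.2)

theorem Good.localize (φ : R →+* K) (W₁ W₂ : WeierstrassCurve R) (a : R) (ha : φ a ≠ 0)
    (H : ∀ (R' : Type u) [CommRing R'] [Algebra R R'] (φ' : R' →+* K),
      φ'.comp (algebraMap R R') = φ → IsUnit (algebraMap R R' a) →
      Good φ' (W₁.map (algebraMap R R')) (W₂.map (algebraMap R R'))) : Good φ W₁ W₂ := by
  have hu : IsUnit (φ a) := isUnit_iff_ne_zero.2 ha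
  let φ' : Localization.Away a →+* K := IsLocalization.Away.lift a hu
  have hφ' : φ'.comp (algebraMap R (Localization.Away a)) = φ := IsLocalization.Away.lift_comp a hu
  exact Good.trans_etale (Localization.Away a) φ' hφ'
    (H _ φ' hφ' (IsLocalization.Away.algebraMap_isUnit a))

theorem qderiv (b c : R) : derivative (X ^ 2 + (C b * X + C c) : R[X]) = C 2 * X + C b := by
  simp only [derivative_add, derivative_X_pow, derivative_mul, derivative_C, derivative_X,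
    zero_mul, zero_add, mul_one, add_zero]
  norm_num

/-- the standard étale pair of a monic quadratic, localized at its derivative times `h`. -/
noncomputable def qpair (b c : R) (h : R[X]) : StandardEtalePair R where
  f := X ^ 2 + (C b * X + C c)
  monic_f := monic_X_pow_add (lt_of_le_of_lt degree_linear_le
    (by exact_mod_cast (Nat.one_lt_two)))
  g := (C 2 * X + C b) * h
  cond := ⟨h, 0, 1, by rw [qderiv]; ring⟩

theorem Good.quad (φ : R →+* K) (W₁ W₂ : WeierstrassCurve R) (b c : R) (h : R[X]) (x : K)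
    (hx : x ^ 2 + (φ b * x + φ c) = 0) (hd : 2 * x + φ b ≠ 0) (hh : eval₂ φ x h ≠ 0)
    (H : ∀ (R' : Type u) [CommRing R'] [Algebra R R'] (φ' : R' →+* K),
      φ'.comp (algebraMap R R') = φ → ∀ z : R',
        z ^ 2 + (algebraMap R R' b * z + algebraMap R R' c) = 0 →
        IsUnit (2 * z + algebraMap R R' b) → IsUnit (aeval z h) →
        Good φ' (W₁.map (algebraMap R R')) (W₂.map (algebraMap R R'))) : Good φ W₁ W₂ := by
  refine Good.step φ W₁ W₂ (qpair b c h) x ?_ ?_ ?_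
  · simp only [qpair, eval₂_add, eval₂_mul, eval₂_pow, eval₂_X, eval₂_C]; exact hx
  · simp only [qpair, eval₂_add, eval₂_mul, eval₂_X, eval₂_C, map_ofNat, eval₂_ofNat]
    exact mul_ne_zero hd hh
  · intro R' _ _ φ' hφ' z hz hu
    simp only [qpair, map_add, map_mul, map_pow, aeval_X, aeval_C] at hz
    simp only [qpair, map_add, map_mul, aeval_X, aeval_C, map_ofNat] at hu
    exact H R' φ' hφ' z hz (IsUnit.mul_iff.1 hu).1 (IsUnit.mul_iff.1 hu).2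

/-- hypotheses on a pair of curves: unit invariants and equal `j`. -/
structure SameJ (W₁ W₂ : WeierstrassCurve R) : Prop where
  d₁ : IsUnit W₁.Δ
  d₂ : IsUnit W₂.Δ
  c₄₁ : IsUnit W₁.c₄
  c₄₂ : IsUnit W₂.c₄
  c₆₁ : IsUnit W₁.c₆
  c₆₂ : IsUnit W₂.c₆
  eq4 : W₁.c₄ ^ 3 * W₂.Δ = W₂.c₄ ^ 3 * W₁.Δ

theorem SameJ.eq6 (h : SameJ W₁ W₂) : W₁.c₆ ^ 2 * W₂.Δ = W₂.c₆ ^ 2 * W₁.Δ := by
  linear_combination W₂.Δ * W₁.c_relation - W₁.Δ * W₂.c_relation + h.eq4

theorem SameJ.symm (h : SameJ W₁ W₂) : SameJ W₂ W₁ :=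
  ⟨h.d₂, h.d₁, h.c₄₂, h.c₄₁, h.c₆₂, h.c₆₁, h.eq4.symm⟩

theorem SameJ.map {S : Type u} [CommRing S] (h : SameJ W₁ W₂) (f : R →+* S) :
    SameJ (W₁.map f) (W₂.map f) where
  d₁ := by rw [map_Δ]; exact h.d₁.map f
  d₂ := by rw [map_Δ]; exact h.d₂.map f
  c₄₁ := by rw [map_c₄]; exact h.c₄₁.map f
  c₄₂ := by rw [map_c₄]; exact h.c₄₂.map f
  c₆₁ := by rw [map_c₆]; exact h.c₆₁.map f
  c₆₂ := by rw [map_c₆]; exact h.c₆₂.map f
  eq4 := by
    simp only [map_c₄, map_Δ, ← map_pow, ← map_mul]; rw [h.eq4]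

theorem SameJ.smul_left (h : SameJ W₁ W₂) (C : VariableChange R) : SameJ (C • W₁) W₂ where
  d₁ := by rw [variableChange_Δ]; exact (C.u⁻¹.isUnit.pow 12).mul h.d₁
  d₂ := h.d₂
  c₄₁ := by rw [variableChange_c₄]; exact (C.u⁻¹.isUnit.pow 4).mul h.c₄₁
  c₄₂ := h.c₄₂
  c₆₁ := by rw [variableChange_c₆]; exact (C.u⁻¹.isUnit.pow 6).mul h.c₆₁
  c₆₂ := h.c₆₂
  eq4 := by
    rw [variableChange_c₄, variableChange_Δ]
    linear_combination (↑C.u⁻¹ : R) ^ 12 * h.eq4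

theorem SameJ.smul_right (h : SameJ W₁ W₂) (C : VariableChange R) : SameJ W₁ (C • W₂) :=
  (h.symm.smul_left C).symm

theorem sameJ_of_j (W₁ W₂ : WeierstrassCurve R) [W₁.IsElliptic] [W₂.IsElliptic]
    (hj : W₁.j = W₂.j) (h0 : IsUnit W₁.j) (h1728 : IsUnit (W₁.j - 1728)) : SameJ W₁ W₂ := by
  have hinv : ∀ (W : WeierstrassCurve R) [W.IsElliptic], (↑W.Δ'⁻¹ : R) * W.Δ = 1 := by
    intro W _
    rw [← W.coe_Δ']; exact Units.inv_mul _
  have key : ∀ (W : WeierstrassCurve R) [W.IsElliptic], IsUnit W.j → IsUnit (W.j - 1728) →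
      IsUnit W.c₄ ∧ IsUnit W.c₆ := by
    intro W _ hj0 hj1
    constructor
    · have h := hj0
      rw [WeierstrassCurve.j] at h
      exact (isUnit_pow_iff (by norm_num)).1 (IsUnit.mul_iff.1 h).2
    · have e : W.j - 1728 = ↑W.Δ'⁻¹ * W.c₆ ^ 2 := by
        rw [WeierstrassCurve.j]
        linear_combination (-(↑W.Δ'⁻¹ : R)) * W.c_relation + 1728 * hinv W
      rw [e] at hj1
      exact (isUnit_pow_iff (by norm_num)).1 (IsUnit.mul_iff.1 hj1).2
  have k1 := key W₁ h0 h1728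
  have k2 := key W₂ (hj ▸ h0) (hj ▸ h1728)
  refine ⟨W₁.isUnit_Δ, W₂.isUnit_Δ, k1.1, k2.1, k1.2, k2.2, ?_⟩
  have hj' : (↑W₁.Δ'⁻¹ : R) * W₁.c₄ ^ 3 = ↑W₂.Δ'⁻¹ * W₂.c₄ ^ 3 := hj
  linear_combination W₁.Δ * W₂.Δ * hj' - W₁.c₄ ^ 3 * W₂.Δ * hinv W₁ + W₂.c₄ ^ 3 * W₁.Δ * hinv W₂

/-- rigidity: with `6` invertible a Weierstrass curve is determined by `a₁, a₂, a₃, c₄, c₆`. -/
theorem ext_of_six (W W' : WeierstrassCurve R) (h6 : IsUnit (6 : R)) (h1 : W.a₁ = W'.a₁)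
    (h2 : W.a₂ = W'.a₂) (h3 : W.a₃ = W'.a₃) (hc4 : W.c₄ = W'.c₄) (hc6 : W.c₆ = W'.c₆) :
    W = W' := by
  have h2u : IsUnit (2 : R) := by
    have : (6 : R) = 2 * 3 := by norm_num
    rw [this] at h6
    exact isUnit_of_mul_isUnit_left h6
  have h3u : IsUnit (3 : R) := by
    have : (6 : R) = 2 * 3 := by norm_num
    rw [this] at h6
    exact isUnit_of_mul_isUnit_right h6
  have h48 : IsUnit (48 : R) := by
    have : (48 : R) = 2 ^ 4 * 3 := by norm_num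
    rw [this]; exact (h2u.pow 4).mul h3u
  have h864 : IsUnit (864 : R) := by
    have : (864 : R) = 2 ^ 5 * 3 ^ 3 := by norm_num
    rw [this]; exact (h2u.pow 5).mul (h3u.pow 3)
  have h4 : W.a₄ = W'.a₄ := by
    have : (48 : R) * (W.a₄ - W'.a₄) = 0 := by
      simp only [c₄, b₂, b₄, h1, h2, h3] at hc4
      linear_combination (-1 : R) * hc4
    exact sub_eq_zero.1 (h48.mul_right_eq_zero.1 this)
  have h6' : W.a₆ = W'.a₆ := by
    have : (864 : R) * (W.a₆ - W'.a₆) = 0 := by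
      simp only [c₆, b₂, b₄, b₆, h1, h2, h3, h4] at hc6
      linear_combination (-1 : R) * hc6
    exact sub_eq_zero.1 (h864.mul_right_eq_zero.1 this)
  exact WeierstrassCurve.ext h1 h2 h3 h4 h6'

/-- criterion for `C • W = W'` without inverses. -/
theorem smul_eq_of (C : VariableChange R) (W W' : WeierstrassCurve R)
    (h1 : W.a₁ + 2 * C.s = C.u * W'.a₁)
    (h2 : W.a₂ - C.s * W.a₁ + 3 * C.r - C.s ^ 2 = (C.u : R) ^ 2 * W'.a₂)
    (h3 : W.a₃ + C.r * W.a₁ + 2 * C.t = (C.u : R) ^ 3 * W'.a₃)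
    (h4 : W.a₄ - C.s * W.a₃ + 2 * C.r * W.a₂ - (C.t + C.r * C.s) * W.a₁ + 3 * C.r ^ 2
      - 2 * C.s * C.t = (C.u : R) ^ 4 * W'.a₄)
    (h6 : W.a₆ + C.r * W.a₄ + C.r ^ 2 * W.a₂ + C.r ^ 3 - C.t * W.a₃ - C.t ^ 2
      - C.r * C.t * W.a₁ = (C.u : R) ^ 6 * W'.a₆) : C • W = W' := by
  ext
  · rw [variableChange_a₁, h1, ← mul_assoc, Units.inv_mul, one_mul]
  · rw [variableChange_a₂, h2, ← mul_assoc, ← mul_pow, Units.inv_mul, one_pow, one_mul]
  · rw [variableChange_a₃, h3, ← mul_assoc, ← mul_pow, Units.inv_mul, one_pow, one_mul]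
  · rw [variableChange_a₄, h4, ← mul_assoc, ← mul_pow, Units.inv_mul, one_pow, one_mul]
  · rw [variableChange_a₆, h6, ← mul_assoc, ← mul_pow, Units.inv_mul, one_pow, one_mul]

theorem exists_s (φ : R →+* K) (W : WeierstrassCurve R) (hc : IsUnit W.c₄) :
    ∃ s : R, φ (W.a₁ + 2 * s) ≠ 0 := by
  by_cases h1 : φ W.a₁ = 0
  · refine ⟨1, ?_⟩
    intro h
    have h2 : φ 2 = 0 := by
      have := h
      rw [mul_one, map_add, h1, zero_add] at this
      exact this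
    have e : W.c₄ = W.a₁ ^ 4 + 2 * (4 * W.a₁ ^ 2 * W.a₂ + 8 * W.a₂ ^ 2
        - 12 * (2 * W.a₄ + W.a₁ * W.a₃)) := by
      simp only [c₄, b₂, b₄]; ring
    have : φ W.c₄ = 0 := by
      rw [e, map_add, map_pow, map_mul, h1, h2]; simp
    exact (hc.map φ).ne_zero this
  · exact ⟨0, by simpa using h1⟩

theorem mform (W : WeierstrassCurve R) (s : R) (hu : IsUnit (W.a₁ + 2 * s)) :
    ∃ C : VariableChange R, (C • W).a₁ = 1 ∧ (C • W).a₃ = 0 := by
  have h1 : (↑hu.unit⁻¹ : R) * (W.a₁ + 2 * s) = 1 := hu.val_inv_mul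
  refine ⟨⟨hu.unit, -W.a₃ * ↑hu.unit⁻¹, s, -s * W.a₃ * ↑hu.unit⁻¹⟩, ?_, ?_⟩
  · rw [variableChange_a₁]
    exact h1
  · rw [variableChange_a₃]
    show (↑hu.unit⁻¹ : R) ^ 3 * (W.a₃ + (-W.a₃ * ↑hu.unit⁻¹) * W.a₁
      + 2 * (-s * W.a₃ * ↑hu.unit⁻¹)) = 0
    linear_combination (-(↑hu.unit⁻¹ : R) ^ 3 * W.a₃) * h1

theorem nform_left (φ : R →+* K) (W₁ W₂ : WeierstrassCurve R) (h1 : W₁.a₁ = 1)
    (h3 : W₁.a₃ = 0) (h12 : φ 12 = 0) (hc : IsUnit W₁.c₄)
    (H : ∀ (R' : Type u) [CommRing R'] [Algebra R R'] (φ' : R' →+* K),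
      φ'.comp (algebraMap R R') = φ → ∀ C : VariableChange R',
        (C • W₁.map (algebraMap R R')).a₁ = 1 → (C • W₁.map (algebraMap R R')).a₃ = 0 →
        (C • W₁.map (algebraMap R R')).a₄ = 0 →
        Good φ' (C • W₁.map (algebraMap R R')) (W₂.map (algebraMap R R'))) :
    Good φ W₁ W₂ := by
  have hb : φ W₁.b₂ ≠ 0 := by
    intro hb0
    have e : W₁.c₄ = W₁.b₂ ^ 2 - 12 * (2 * W₁.b₄) := by simp only [c₄]; ring
    have : φ W₁.c₄ = 0 := by
      rw [e, map_sub, map_pow, map_mul, hb0, h12]; simp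
    exact (hc.map φ).ne_zero this
  refine Good.quad φ W₁ W₂ (-W₁.b₂) (12 * W₁.a₄) (C W₁.b₂ - X) 0 ?_ ?_ ?_ ?_
  · rw [map_mul, h12]; simp
  · simpa using hb
  · simpa using hb
  · intro R' _ _ φ' hφ' V hV hd hw
    have hw' : IsUnit (algebraMap R R' W₁.b₂ - V) := by simpa using hw
    have hb2 : algebraMap R R' W₁.b₂ = 1 + 4 * algebraMap R R' W₁.a₂ := by
      simp only [b₂, h1, map_add, map_mul, map_pow, map_one, map_ofNat]; ring
    set bb : R' := algebraMap R R' W₁.b₂ with hbb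
    set a4 : R' := algebraMap R R' W₁.a₄ with ha4
    set a2 : R' := algebraMap R R' W₁.a₂ with ha2
    set w : R' := bb - V with hwdef
    set t : R' := a4 * ↑hw'.unit⁻¹ with htdef
    have ht : t * w = a4 := by
      rw [htdef, mul_assoc, hw'.val_inv_mul, mul_one]
    have hV1 : V ^ 2 - bb * V + 12 * a4 = 0 := by
      have := hV
      simp only [map_neg, map_mul, map_ofNat] at this
      linear_combination this
    have hV' : w ^ 2 - bb * w + 12 * a4 = 0 := by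
      rw [hwdef]; linear_combination hV1
    have hE : (12 * t ^ 2 - bb * t + a4) * w ^ 2 = 0 := by
      linear_combination (12 * (t * w + a4) - bb * w) * ht + a4 * hV'
    have hE0 : 12 * t ^ 2 - bb * t + a4 = 0 := (hw'.pow 2).mul_left_eq_zero.1 hE
    let C₀ : VariableChange R' := ⟨1, -2 * t, 0, t⟩
    have e1 : (C₀ • W₁.map (algebraMap R R')).a₁ = 1 := by
      rw [variableChange_a₁]
      simp [C₀, h1]
    have e3 : (C₀ • W₁.map (algebraMap R R')).a₃ = 0 := by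
      rw [variableChange_a₃]
      simp [C₀, h1, h3]
    have e4 : (C₀ • W₁.map (algebraMap R R')).a₄ = 0 := by
      rw [variableChange_a₄]
      simp only [C₀, map_a₁, map_a₂, map_a₃, map_a₄, h1, h3, map_one, map_zero, inv_one,
        Units.val_one, one_pow, one_mul, mul_zero, mul_one, add_zero, sub_zero, zero_mul]
      rw [hb2] at hE0
      linear_combination hE0
    exact Good.smul_left C₀ (H R' φ' hφ' C₀ e1 e3 e4)

theorem nn [IsAlgClosed K] (φ : R →+* K) (W₁ W₂ : WeierstrassCurve R)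
    (h11 : W₁.a₁ = 1) (h13 : W₁.a₃ = 0) (h14 : W₁.a₄ = 0)
    (h21 : W₂.a₁ = 1) (h23 : W₂.a₃ = 0) (h24 : W₂.a₄ = 0)
    (hS : SameJ W₁ W₂) (h432 : φ 432 = 0) : Good φ W₁ W₂ := by
  have hc1 : W₁.c₄ = (1 + 4 * W₁.a₂) ^ 2 := by
    simp only [c₄, b₂, b₄, h11, h13, h14]; ring
  have hc2 : W₂.c₄ = (1 + 4 * W₂.a₂) ^ 2 := by
    simp only [c₄, b₂, b₄, h21, h23, h24]; ring
  have hΔ1 : W₁.Δ = -(1 + 4 * W₁.a₂) ^ 3 * W₁.a₆ - 432 * W₁.a₆ ^ 2 := by
    simp only [Δ, b₂, b₄, b₆, b₈, h11, h13, h14]; ring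
  have hΔ2 : W₂.Δ = -(1 + 4 * W₂.a₂) ^ 3 * W₂.a₆ - 432 * W₂.a₆ ^ 2 := by
    simp only [Δ, b₂, b₄, b₆, b₈, h21, h23, h24]; ring
  have hp : IsUnit (1 + 4 * W₁.a₂) := by
    have := hS.c₄₁; rw [hc1] at this
    exact (isUnit_pow_iff (by norm_num)).1 this
  have hq : IsUnit (1 + 4 * W₂.a₂) := by
    have := hS.c₄₂; rw [hc2] at this
    exact (isUnit_pow_iff (by norm_num)).1 this
  set p : R := 1 + 4 * W₁.a₂ with hpdef
  set q : R := 1 + 4 * W₂.a₂ with hqdef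
  set w : R := p ^ 3 * q ^ 3 + 432 * (W₁.a₆ * q ^ 3 + W₂.a₆ * p ^ 3) with hwdef
  have hw0 : (W₂.a₆ * p ^ 3 - W₁.a₆ * q ^ 3) * w = 0 := by
    have := hS.eq4
    rw [hc1, hc2, hΔ1, hΔ2] at this
    rw [hwdef]
    linear_combination (-1 : R) * this
  have hφw : φ w ≠ 0 := by
    rw [hwdef, map_add, map_mul (f := φ) 432, h432, zero_mul, add_zero, map_mul, map_pow, map_pow]
    exact mul_ne_zero (pow_ne_zero _ (hp.map φ).ne_zero) (pow_ne_zero _ (hq.map φ).ne_zero)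
  refine Good.localize φ W₁ W₂ w hφw ?_
  intro R₁ _ _ φ₁ hφ₁ huw
  set f := algebraMap R R₁ with hf
  have hPQ : f W₂.a₆ * f p ^ 3 = f W₁.a₆ * f q ^ 3 := by
    have := congrArg f hw0
    rw [map_mul, map_zero] at this
    have h2 := huw.mul_left_eq_zero.1 this
    rw [map_sub, map_mul, map_mul, map_pow, map_pow] at h2
    exact sub_eq_zero.1 h2
  have hfq : IsUnit (f q) := hq.map f
  have hfp : f p = 1 + 4 * f W₁.a₂ := by
    rw [hpdef]; simp only [map_add, map_mul, map_one, map_ofNat]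
  have hfq' : f q = 1 + 4 * f W₂.a₂ := by
    rw [hqdef]; simp only [map_add, map_mul, map_one, map_ofNat]
  set kap : R₁ := (f W₁.a₂ - f W₂.a₂) * ↑hfq.unit⁻¹ with hkap
  have hκ : kap * f q = f W₁.a₂ - f W₂.a₂ := by
    rw [hkap, mul_assoc, hfq.val_inv_mul, mul_one]
  -- the K-point
  have hdeg : (X ^ 2 + (C 1 * X + C (-(φ₁ kap))) : K[X]).degree ≠ 0 := by
    rw [degree_add_eq_left_of_degree_lt]
    · rw [degree_X_pow]; norm_num
    · rw [degree_X_pow]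
      exact lt_of_le_of_lt degree_linear_le (by exact_mod_cast Nat.one_lt_two)
  obtain ⟨x, hx⟩ := IsAlgClosed.exists_root _ hdeg
  have hx' : x ^ 2 + (φ₁ 1 * x + φ₁ (-kap)) = 0 := by
    have := hx
    simp only [IsRoot.def, eval_add, eval_mul, eval_pow, eval_X, eval_C] at this
    rw [map_one, map_neg]; exact this
  have hφp : φ₁ (f p) ≠ 0 := by
    have : φ₁ (f p) = φ p := by rw [← hφ₁]; rfl
    rw [this]; exact (hp.map φ).ne_zero
  have hd : 2 * x + φ₁ 1 ≠ 0 := by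
    intro h0
    rw [map_one] at h0
    have hx2 : x ^ 2 + x = φ₁ kap := by
      rw [map_one, map_neg] at hx'; linear_combination hx'
    have h1 : φ₁ ((4 * kap + 1) * f q) = 0 := by
      rw [map_mul, map_add, map_mul, map_one, map_ofNat, ← hx2]
      have : (4 : K) * (x ^ 2 + x) + 1 = (2 * x + 1) ^ 2 := by ring
      rw [this, h0]; simp
    have h2 : (4 * kap + 1) * f q = f p := by
      rw [hfp]; linear_combination 4 * hκ + hfq'
    rw [h2] at h1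
    exact hφp h1
  refine Good.quad φ₁ (W₁.map f) (W₂.map f) 1 (-kap) 1 x hx' hd (by simp) ?_
  intro R₂ _ _ φ₂ hφ₂ s hs hus _
  set g := algebraMap R₁ R₂ with hg
  have hs' : s ^ 2 + s - g kap = 0 := by
    have := hs
    rw [map_one, map_neg] at this
    linear_combination this
  have hus' : IsUnit (2 * s + 1) := by
    have := hus
    rwa [map_one] at this
  have hκ' : g kap * g (f q) = g (f W₁.a₂) - g (f W₂.a₂) := by
    rw [← map_mul, hκ, map_sub]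
  have hgq : g (f q) = 1 + 4 * g (f W₂.a₂) := by
    rw [hfq']; simp only [map_add, map_mul, map_one, map_ofNat]
  have hgp : g (f p) = 1 + 4 * g (f W₁.a₂) := by
    rw [hfp]; simp only [map_add, map_mul, map_one, map_ofNat]
  have hm : (2 * s + 1) ^ 2 * g (f q) = g (f p) := by
    rw [hgp]
    linear_combination (4 * g (f q)) * hs' + 4 * hκ' + hgq
  have hPQ' : g (f W₂.a₆) * g (f p) ^ 3 = g (f W₁.a₆) * g (f q) ^ 3 := by
    have := congrArg g hPQ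
    simpa only [map_mul, map_pow] using this
  have h6 : g (f W₁.a₆) = (2 * s + 1) ^ 6 * g (f W₂.a₆) := by
    have hgqu : IsUnit (g (f q) ^ 3) := (hfq.map g).pow 3
    have : (g (f W₁.a₆) - (2 * s + 1) ^ 6 * g (f W₂.a₆)) * g (f q) ^ 3 = 0 := by
      linear_combination (-1 : R₂) * hPQ' - g (f W₂.a₆) * (((2 * s + 1) ^ 2 * g (f q)) ^ 2
        + ((2 * s + 1) ^ 2 * g (f q)) * g (f p) + g (f p) ^ 2) * hm
    exact sub_eq_zero.1 (hgqu.mul_left_eq_zero.1 this)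
  refine good_of_smul φ₂ ⟨hus'.unit, 0, s, 0⟩ ?_
  refine smul_eq_of _ _ _ ?_ ?_ ?_ ?_ ?_
  · simp only [map_a₁, h11, h21, map_one, IsUnit.unit_spec]; ring
  · simp only [map_a₁, map_a₂, h11, h21, map_one, IsUnit.unit_spec]
    linear_combination (-(1 + 4 * g (f W₂.a₂))) * hs' - hκ' + g kap * hgq
  · simp only [map_a₁, map_a₃, h13, h23, map_zero, IsUnit.unit_spec]; ring
  · simp only [map_a₁, map_a₂, map_a₃, map_a₄, h13, h23, h14, h24, map_zero, IsUnit.unit_spec]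
    ring
  · simp only [map_a₁, map_a₂, map_a₃, map_a₄, map_a₆, h13, h14, h24, map_zero,
      IsUnit.unit_spec]
    linear_combination h6

theorem mm [IsAlgClosed K] (φ : R →+* K) (W₁ W₂ : WeierstrassCurve R) (hS : SameJ W₁ W₂)
    (h11 : W₁.a₁ = 1) (h13 : W₁.a₃ = 0) (h21 : W₂.a₁ = 1) (h23 : W₂.a₃ = 0)
    (h6 : φ 6 = 0) : Good φ W₁ W₂ := by
  have h12 : φ 12 = 0 := by
    have : (12 : R) = 6 * 2 := by norm_num
    rw [this, map_mul, h6, zero_mul]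
  refine nform_left φ W₁ W₂ h11 h13 h12 hS.c₄₁ ?_
  intro R₁ _ _ φ₁ hφ₁ C₁ e1 e3 e4
  apply Good.symm
  have h12₁ : φ₁ 12 = 0 := by
    have := h12; rw [← hφ₁] at this; simpa [map_ofNat] using this
  have hS₁ : SameJ (W₂.map (algebraMap R R₁)) (C₁ • W₁.map (algebraMap R R₁)) :=
    ((hS.map _).smul_left C₁).symm
  refine nform_left φ₁ (W₂.map (algebraMap R R₁)) (C₁ • W₁.map (algebraMap R R₁))
    (by rw [map_a₁, h21, map_one]) (by rw [map_a₃, h23, map_zero]) h12₁ hS₁.c₄₁ ?_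
  intro R₂ _ _ φ₂ hφ₂ C₂ f1 f3 f4
  apply Good.symm
  have h432 : φ₂ 432 = 0 := by
    have h1 : φ₂ 12 = 0 := by
      have := h12₁; rw [← hφ₂] at this; simpa [map_ofNat] using this
    have : (432 : R₂) = 12 * 36 := by norm_num
    rw [this, map_mul, h1, zero_mul]
  have hS₂ : SameJ ((C₁ • W₁.map (algebraMap R R₁)).map (algebraMap R₁ R₂))
      (C₂ • (W₂.map (algebraMap R R₁)).map (algebraMap R₁ R₂)) :=
    (hS₁.symm.map _).smul_right C₂
  exact nn φ₂ _ _ (by rw [map_a₁, e1, map_one]) (by rw [map_a₃, e3, map_zero])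
    (by rw [map_a₄, e4, map_zero]) f1 f3 f4 hS₂ h432

theorem caseBC [IsAlgClosed K] (φ : R →+* K) (W₁ W₂ : WeierstrassCurve R) (hS : SameJ W₁ W₂)
    (h6 : φ 6 = 0) : Good φ W₁ W₂ := by
  obtain ⟨s₁, hs₁⟩ := exists_s φ W₁ hS.c₄₁
  obtain ⟨s₂, hs₂⟩ := exists_s φ W₂ hS.c₄₂
  refine Good.localize φ W₁ W₂ ((W₁.a₁ + 2 * s₁) * (W₂.a₁ + 2 * s₂))
    (by rw [map_mul]; exact mul_ne_zero hs₁ hs₂) ?_
  intro R₁ _ _ φ₁ hφ₁ hu
  rw [map_mul] at hu
  have hu₁ : IsUnit ((W₁.map (algebraMap R R₁)).a₁ + 2 * algebraMap R R₁ s₁) := by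
    have := (IsUnit.mul_iff.1 hu).1
    simpa [map_ofNat] using this
  have hu₂ : IsUnit ((W₂.map (algebraMap R R₁)).a₁ + 2 * algebraMap R R₁ s₂) := by
    have := (IsUnit.mul_iff.1 hu).2
    simpa [map_ofNat] using this
  obtain ⟨C₁, h11, h13⟩ := mform _ _ hu₁
  obtain ⟨C₂, h21, h23⟩ := mform _ _ hu₂
  refine Good.smul_left C₁ (Good.smul_right C₂ ?_)
  have hS₁ : SameJ (C₁ • W₁.map (algebraMap R R₁)) (C₂ • W₂.map (algebraMap R R₁)) :=
    ((hS.map _).smul_left C₁).smul_right C₂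
  have h6₁ : φ₁ 6 = 0 := by
    have := h6; rw [← hφ₁] at this; simpa [map_ofNat] using this
  exact mm φ₁ _ _ hS₁ h11 h13 h21 h23 h6₁

theorem caseA' [IsAlgClosed K] (φ : R →+* K) (W₁ W₂ : WeierstrassCurve R) (hS : SameJ W₁ W₂)
    (h6 : IsUnit (6 : R)) : Good φ W₁ W₂ := by
  obtain ⟨i4, hi4⟩ := hS.c₄₁.exists_right_inv
  obtain ⟨i6, hi6⟩ := hS.c₆₂.exists_right_inv
  set lam : R := W₁.c₆ * W₂.c₄ * i4 * i6 with hlam
  have hl1 : lam * (W₁.c₄ * W₂.c₆) = W₁.c₆ * W₂.c₄ := by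
    rw [hlam]
    linear_combination (W₁.c₆ * W₂.c₄ * W₂.c₆ * i6) * hi4 + (W₁.c₆ * W₂.c₄) * hi6
  have hstar : W₁.c₆ ^ 2 * W₂.c₄ ^ 3 = W₁.c₄ ^ 3 * W₂.c₆ ^ 2 := by
    have : (W₁.c₆ ^ 2 * W₂.c₄ ^ 3 - W₁.c₄ ^ 3 * W₂.c₆ ^ 2) * W₁.Δ = 0 := by
      linear_combination (-W₁.c₆ ^ 2) * hS.eq4 + W₁.c₄ ^ 3 * hS.eq6
    exact sub_eq_zero.1 (hS.d₁.mul_left_eq_zero.1 this)
  have hu46 : IsUnit (W₁.c₄ * W₂.c₆) := hS.c₄₁.mul hS.c₆₂
  have h_i : lam ^ 2 * W₂.c₄ = W₁.c₄ := by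
    have : (lam ^ 2 * W₂.c₄ - W₁.c₄) * (W₁.c₄ * W₂.c₆) ^ 2 = 0 := by
      linear_combination W₂.c₄ * (lam * (W₁.c₄ * W₂.c₆) + W₁.c₆ * W₂.c₄) * hl1 + hstar
    exact sub_eq_zero.1 ((hu46.pow 2).mul_left_eq_zero.1 this)
  have h_ii : lam ^ 3 * W₂.c₆ = W₁.c₆ := by
    have : (lam ^ 3 * W₂.c₆ - W₁.c₆) * (W₁.c₄ * W₂.c₆) = 0 := by
      linear_combination lam ^ 2 * W₂.c₆ * hl1 + W₁.c₆ * W₂.c₆ * h_i
    exact sub_eq_zero.1 (hu46.mul_left_eq_zero.1 this)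
  have hlu : IsUnit lam := by
    have : IsUnit (lam * (W₁.c₄ * W₂.c₆)) := by rw [hl1]; exact hS.c₆₁.mul hS.c₄₂
    exact isUnit_of_mul_isUnit_left this
  obtain ⟨x, hx⟩ := IsAlgClosed.exists_eq_mul_self (φ lam)
  have hxne : x ≠ 0 := by
    rintro rfl
    rw [mul_zero] at hx
    exact (hlu.map φ).ne_zero hx
  have h2ne : (2 : K) ≠ 0 := by
    intro h2
    have h6' : φ 6 ≠ 0 := (h6.map φ).ne_zero
    apply h6'
    rw [map_ofNat]
    have : (6 : K) = 2 * 3 := by norm_num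
    rw [this, h2, zero_mul]
  refine Good.quad φ W₁ W₂ 0 (-lam) 1 x ?_ ?_ (by simp) ?_
  · rw [map_zero, map_neg, hx]; ring
  · rw [map_zero, add_zero]; exact mul_ne_zero h2ne hxne
  intro R₁ _ _ φ₁ hφ₁ z hz huz _
  set g := algebraMap R R₁ with hg
  have hz2 : z ^ 2 = g lam := by
    have := hz
    rw [map_zero, map_neg] at this
    linear_combination this
  have hzu : IsUnit z := by
    have := huz
    rw [map_zero, add_zero] at this
    exact isUnit_of_mul_isUnit_right this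
  have h6g : IsUnit (6 : R₁) := by
    have := h6.map g
    rwa [map_ofNat] at this
  obtain ⟨j6, hj6⟩ := h6g.exists_right_inv
  set V₁ := W₁.map g with hV₁
  set V₂ := W₂.map g with hV₂
  set s : R₁ := (z * V₂.a₁ - V₁.a₁) * (3 * j6) with hsdef
  set r : R₁ := (z ^ 2 * V₂.a₂ - V₁.a₂ + s * V₁.a₁ + s ^ 2) * (2 * j6) with hrdef
  set t : R₁ := (z ^ 3 * V₂.a₃ - V₁.a₃ - r * V₁.a₁) * (3 * j6) with htdef
  have e1 : V₁.a₁ + 2 * s = z * V₂.a₁ := by
    rw [hsdef]; linear_combination (z * V₂.a₁ - V₁.a₁) * hj6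
  have e2 : V₁.a₂ - s * V₁.a₁ + 3 * r - s ^ 2 = z ^ 2 * V₂.a₂ := by
    rw [hrdef]; linear_combination (z ^ 2 * V₂.a₂ - V₁.a₂ + s * V₁.a₁ + s ^ 2) * hj6
  have e3 : V₁.a₃ + r * V₁.a₁ + 2 * t = z ^ 3 * V₂.a₃ := by
    rw [htdef]; linear_combination (z ^ 3 * V₂.a₃ - V₁.a₃ - r * V₁.a₁) * hj6
  have e4 : V₁.c₄ = z ^ 4 * V₂.c₄ := by
    rw [hV₁, hV₂, map_c₄, map_c₄, ← h_i, map_mul, map_pow, ← hz2]; ring
  have e6 : V₁.c₆ = z ^ 6 * V₂.c₆ := by
    rw [hV₁, hV₂, map_c₆, map_c₆, ← h_ii, map_mul, map_pow, ← hz2]; ring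
  refine good_of_smul φ₁ ⟨hzu.unit, r, s, t⟩ ?_
  refine ext_of_six _ _ h6g ?_ ?_ ?_ ?_ ?_
  · rw [variableChange_a₁]
    show (↑hzu.unit⁻¹ : R₁) * (V₁.a₁ + 2 * s) = V₂.a₁
    rw [e1, ← mul_assoc, hzu.val_inv_mul, one_mul]
  · rw [variableChange_a₂]
    show (↑hzu.unit⁻¹ : R₁) ^ 2 * (V₁.a₂ - s * V₁.a₁ + 3 * r - s ^ 2) = V₂.a₂
    rw [e2, ← mul_assoc, ← mul_pow, hzu.val_inv_mul, one_pow, one_mul]
  · rw [variableChange_a₃]
    show (↑hzu.unit⁻¹ : R₁) ^ 3 * (V₁.a₃ + r * V₁.a₁ + 2 * t) = V₂.a₃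
    rw [e3, ← mul_assoc, ← mul_pow, hzu.val_inv_mul, one_pow, one_mul]
  · rw [variableChange_c₄]
    show (↑hzu.unit⁻¹ : R₁) ^ 4 * V₁.c₄ = V₂.c₄
    rw [e4, ← mul_assoc, ← mul_pow, hzu.val_inv_mul, one_pow, one_mul]
  · rw [variableChange_c₆]
    show (↑hzu.unit⁻¹ : R₁) ^ 6 * V₁.c₆ = V₂.c₆
    rw [e6, ← mul_assoc, ← mul_pow, hzu.val_inv_mul, one_pow, one_mul]

theorem caseA [IsAlgClosed K] (φ : R →+* K) (W₁ W₂ : WeierstrassCurve R) (hS : SameJ W₁ W₂)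
    (h6 : φ 6 ≠ 0) : Good φ W₁ W₂ := by
  refine Good.localize φ W₁ W₂ 6 h6 ?_
  intro R₁ _ _ φ₁ hφ₁ hu6
  have hu6' : IsUnit (6 : R₁) := by rwa [map_ofNat] at hu6
  exact caseA' φ₁ _ _ (hS.map _) hu6'

end

theorem main (A : Type u) [CommRing A]
    (W₁ W₂ : WeierstrassCurve A) [W₁.IsElliptic] [W₂.IsElliptic] (hj : W₁.j = W₂.j)
    (h0 : IsUnit W₁.j) (h1728 : IsUnit (W₁.j - 1728)) (p : PrimeSpectrum A) :
    ∃ (B : Type u) (_ : CommRing B) (_ : Algebra A B), Algebra.Etale A B ∧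
      p ∈ Set.range (PrimeSpectrum.comap (algebraMap A B)) ∧
      ∃ C : WeierstrassCurve.VariableChange B,
        C • (W₁.map (algebraMap A B)) = W₂.map (algebraMap A B) := by
  let κ := p.asIdeal.ResidueField
  let K := AlgebraicClosure κ
  let φ : A →+* K := (algebraMap κ K).comp (algebraMap A κ)
  have hker : RingHom.ker φ = p.asIdeal := by
    rw [← RingHom.comap_ker, (RingHom.injective_iff_ker_eq_bot _).1 (algebraMap κ K).injective,
      ← RingHom.ker_eq_comap_bot, Ideal.ker_algebraMap_residueField]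
  have hS := sameJ_of_j W₁ W₂ hj h0 h1728
  have hG : Good φ W₁ W₂ := by
    by_cases h6 : φ 6 = 0
    · exact caseBC φ W₁ W₂ hS h6
    · exact caseA φ W₁ W₂ hS h6
  obtain ⟨B, _, _, hB, ⟨ψ, hψ⟩, C, hC⟩ := hG
  refine ⟨B, inferInstance, inferInstance, hB, ⟨⟨RingHom.ker ψ, RingHom.ker_isPrime ψ⟩, ?_⟩,
    C, hC⟩
  ext1
  show (RingHom.ker ψ).comap (algebraMap A B) = p.asIdeal
  rw [RingHom.comap_ker, hψ, hker]

end Groth.Agent.H4.WeierJ
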