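import Mathlib
import Groth.Agent.H4.MonicFree

set_option autoImplicit false
universe u
open Groth.Agent.H4.MonicFree

namespace Groth.Agent.H4.WildQuotLen

section core

theorem core {R A : Type u} [CommRing R] [IsLocalRing R] [CommRing A] [Algebra R A]
    (p : ℕ) (hp1 : 1 < p) (n m : ℕ) (b : Module.Basis (Fin m) R A)
    (u : Fin n → A) (a x : Fin n → R)
    (hrel : ∀ i, u i ^ p = algebraMap R A (a i ^ (p - 1)) * u i + algebraMap R A (x i))
    (hamax : ∀ i, a i ∈ IsLocalRing.maximalIdeal R)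
    (hxmax : ∀ i, x i ∈ IsLocalRing.maximalIdeal R)
    (hgen : ∀ t : A, t ∈ Algebra.adjoin R (Set.range u))
    (hspan : ∀ i, a i ∈ Ideal.span (Set.range x))
    (σ : A ≃ₐ[R] A) (hσ : ∀ i, σ (u i) = u i + algebraMap R A (a i)) :
    Ideal.span (Set.range fun t : A => σ t - t) ≤ Ideal.span (Set.range u) ^ p ∧
    Module.length A (A ⧸ Ideal.span (Set.range fun t : A => σ t - t)) =
      (m : ℕ∞) * Module.length R (R ⧸ Ideal.span (Set.range a)) := by
  classical
  have hp0 : 0 < p := by omega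
  haveI : Module.Finite R A := Module.Finite.of_basis b
  haveI : Algebra.IsIntegral R A := Algebra.IsIntegral.of_finite R A
  have hu𝔪 : ∀ 𝔪 : Ideal A, 𝔪.IsMaximal → ∀ i, u i ∈ 𝔪 := by
    intro 𝔪 h𝔪 i
    haveI := h𝔪
    have hP : (𝔪.comap (algebraMap R A)).IsMaximal :=
      Ideal.isMaximal_comap_of_isIntegral_of_isMaximal (R := R) 𝔪
    have hPeq : 𝔪.comap (algebraMap R A) = IsLocalRing.maximalIdeal R :=
      IsLocalRing.eq_maximalIdeal hP
    have hin : ∀ g : R, g ∈ IsLocalRing.maximalIdeal R → algebraMap R A g ∈ 𝔪 := by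
      intro g hg
      have h0 : g ∈ 𝔪.comap (algebraMap R A) := by
        rw [hPeq]; exact hg
      exact h0
    have h1 : u i ^ p ∈ 𝔪 := by
      rw [hrel i]
      refine add_mem (Ideal.mul_mem_right _ _ ?_) (hin _ (hxmax i))
      rw [map_pow]
      exact Ideal.pow_mem_of_mem _ (hin _ (hamax i)) _ (by omega)
    exact h𝔪.isPrime.mem_of_pow_mem p h1
  have hsurj : ∀ 𝔪 : Ideal A, 𝔪.IsMaximal →
      Function.Surjective (algebraMap R (A ⧸ 𝔪)) := by
    intro 𝔪 h𝔪 y
    obtain ⟨t, rfl⟩ := Ideal.Quotient.mk_surjective y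
    have h0 : ∀ t ∈ Algebra.adjoin R (Set.range u),
        Ideal.Quotient.mk 𝔪 t ∈ (algebraMap R (A ⧸ 𝔪)).range := by
      intro t ht
      induction ht using Algebra.adjoin_induction with
      | mem y hy =>
        obtain ⟨i, rfl⟩ := hy
        rw [Ideal.Quotient.eq_zero_iff_mem.2 (hu𝔪 𝔪 h𝔪 i)]
        exact zero_mem _
      | algebraMap r => exact ⟨r, rfl⟩
      | add x y _ _ hx hy => rw [map_add]; exact add_mem hx hy
      | mul x y _ _ hx hy => rw [map_mul]; exact mul_mem hx hy
    exact h0 t (hgen t)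
  let Ja : Ideal A := Ideal.map (algebraMap R A) (Ideal.span (Set.range a))
  have key : ∀ x y x' y' : A, x' + y' - (x + y) = (x' - x) + (y' - y) := by
    intros; ring
  have key2 : ∀ s t s' t' : A, s' * t' - s * t = s' * (t' - t) + (s' - s) * t := by
    intros; ring
  have hI : Ideal.span (Set.range fun t : A => σ t - t) = Ja := by
    apply le_antisymm
    · refine Ideal.span_le.2 ?_
      rintro _ ⟨t, rfl⟩
      show σ t - t ∈ Ja
      have h0 : ∀ t ∈ Algebra.adjoin R (Set.range u), σ t - t ∈ Ja := by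
        intro t ht
        induction ht using Algebra.adjoin_induction with
        | mem y hy =>
          obtain ⟨i, rfl⟩ := hy
          rw [hσ i, add_sub_cancel_left]
          exact Ideal.mem_map_of_mem _ (Ideal.subset_span ⟨i, rfl⟩)
        | algebraMap r =>
          rw [σ.commutes, sub_self]
          exact zero_mem _
        | add x y _ _ hx hy =>
          rw [map_add, key]
          exact add_mem hx hy
        | mul x y _ _ hx hy =>
          rw [map_mul, key2]
          exact add_mem (Ideal.mul_mem_left _ _ hy) (Ideal.mul_mem_right _ _ hx)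
      exact h0 t (hgen t)
    · refine Ideal.map_le_iff_le_comap.2 (Ideal.span_le.2 ?_)
      rintro _ ⟨i, rfl⟩
      show algebraMap R A (a i) ∈ Ideal.span (Set.range fun t : A => σ t - t)
      have h0 : algebraMap R A (a i) = σ (u i) - u i := by
        rw [hσ i]; ring
      rw [h0]
      exact Ideal.subset_span ⟨u i, rfl⟩
  let m' : Ideal A := Ideal.span (Set.range u)
  have hum : ∀ i, u i ∈ m' := fun i => Ideal.subset_span ⟨i, rfl⟩
  have hx_m : ∀ i, algebraMap R A (x i) ∈ m' := by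
    intro i
    have h0 : algebraMap R A (x i) = u i ^ p - algebraMap R A (a i ^ (p - 1)) * u i := by
      rw [hrel i]; ring
    rw [h0]
    exact sub_mem (Ideal.pow_mem_of_mem _ (hum i) _ hp0) (Ideal.mul_mem_left _ _ (hum i))
  have hspanX : ∀ (J : Ideal A), (∀ i, algebraMap R A (x i) ∈ J) →
      ∀ i, algebraMap R A (a i) ∈ J := by
    intro J hJ i
    have h2 : Ideal.span (Set.range x) ≤ J.comap (algebraMap R A) := by
      refine Ideal.span_le.2 ?_
      rintro _ ⟨j, rfl⟩
      exact hJ j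
    exact h2 (hspan i)
  have ha_m : ∀ i, algebraMap R A (a i) ∈ m' := hspanX m' hx_m
  have hx_mp : ∀ i, algebraMap R A (x i) ∈ m' ^ p := by
    intro i
    have h0 : algebraMap R A (x i) = u i ^ p - algebraMap R A (a i) ^ (p - 1) * u i := by
      rw [hrel i, map_pow]; ring
    rw [h0]
    refine sub_mem (Ideal.pow_mem_pow (hum i) p) ?_
    have h3 : algebraMap R A (a i) ^ (p - 1) * u i ∈ m' ^ (p - 1) * m' :=
      Ideal.mul_mem_mul (Ideal.pow_mem_pow (ha_m i) _) (hum i)
    have h4 : m' ^ (p - 1) * m' = m' ^ p := by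
      have h5 := pow_succ m' (p - 1)
      rw [Nat.sub_add_cancel hp0] at h5
      exact h5.symm
    rw [h4] at h3
    exact h3
  have ha_mp : ∀ i, algebraMap R A (a i) ∈ m' ^ p := hspanX (m' ^ p) hx_mp
  have hJa_le : Ja ≤ m' ^ p := by
    refine Ideal.map_le_iff_le_comap.2 (Ideal.span_le.2 ?_)
    rintro _ ⟨i, rfl⟩
    exact ha_mp i
  refine ⟨by rw [hI]; exact hJa_le, ?_⟩
  rw [hI]
  rw [length_eq_restrict hsurj (A ⧸ Ja)]
  let 𝔞 : Ideal R := Ideal.span (Set.range a)
  let e : (A ⧸ Ja) ≃ₗ[R] (Fin m → R ⧸ 𝔞) :=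
    (Submodule.Quotient.restrictScalarsEquiv R Ja).symm ≪≫ₗ
    (Submodule.quotEquivOfEq _ _ (Ideal.smul_top_eq_map 𝔞).symm) ≪≫ₗ
    (TensorProduct.quotTensorEquivQuotSMul A 𝔞).symm ≪≫ₗ
    (LinearEquiv.lTensor (R ⧸ 𝔞) b.equivFun) ≪≫ₗ
    (TensorProduct.piScalarRight R R (R ⧸ 𝔞) (Fin m))
  rw [e.length_eq, Module.length_pi, ENat.card_eq_coe_fintype_card, Fintype.card_fin]

end core

section main
variable (p : ℕ) [hp : Fact p.Prime] (k : Type u) [Field k] (n : ℕ)
  (a : Fin n → MvPowerSeries (Fin n) k)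

/-- the polynomial `T^p - a_i^(p-1) T - x_i` -/
noncomputable def fpoly (i : Fin n) : Polynomial (MvPowerSeries (Fin n) k) :=
  Polynomial.X ^ p -
    (Polynomial.C (a i ^ (p - 1)) * Polynomial.X + Polynomial.C (MvPowerSeries.X i))

lemma fpoly_monic (i : Fin n) : (fpoly p k n a i).Monic := by
  have h1 : 1 < p := hp.out.one_lt
  apply Polynomial.monic_X_pow_sub
  exact lt_of_le_of_lt Polynomial.degree_linear_le (by exact_mod_cast h1)

lemma fpoly_natDegree (i : Fin n) : (fpoly p k n a i).natDegree = p := by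
  have h1 : 1 < p := hp.out.one_lt
  unfold fpoly
  have h2 : (Polynomial.C (a i ^ (p - 1)) * Polynomial.X + Polynomial.C (MvPowerSeries.X i) :
      Polynomial (MvPowerSeries (Fin n) k)).natDegree <
      (Polynomial.X ^ p : Polynomial (MvPowerSeries (Fin n) k)).natDegree := by
    rw [Polynomial.natDegree_X_pow]
    exact lt_of_le_of_lt Polynomial.natDegree_linear_le h1
  rw [Polynomial.natDegree_sub_eq_left_of_natDegree_lt h2, Polynomial.natDegree_X_pow]

lemma aeval_fpoly (i : Fin n) :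
    Polynomial.aeval (MvPolynomial.X i : MvPolynomial (Fin n) (MvPowerSeries (Fin n) k))
      (fpoly p k n a i) =
    MvPolynomial.X i ^ p - MvPolynomial.C (a i ^ (p - 1)) * MvPolynomial.X i -
      MvPolynomial.C (MvPowerSeries.X i) := by
  unfold fpoly
  simp only [map_sub, map_add, map_mul, map_pow, Polynomial.aeval_X, Polynomial.aeval_C,
    MvPolynomial.algebraMap_eq]
  ring

local notation "RR" => MvPowerSeries (Fin n) k
local notation "AA" => QQ (fpoly p k n a)

theorem main_aux (hn : 2 ≤ n) (ham : ∀ i, MvPowerSeries.constantCoeff (a i) = 0)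
    (σ : AA ≃ₐ[RR] AA)
    (hσ : ∀ i, σ (Ideal.Quotient.mk (relIdeal (fpoly p k n a)) (MvPolynomial.X i)) =
      Ideal.Quotient.mk (relIdeal (fpoly p k n a)) (MvPolynomial.X i) + algebraMap RR AA (a i)) :
    Ideal.span (Set.range fun t : AA => σ t - t) ≤
      Ideal.span (Set.range fun i : Fin n =>
        (Ideal.Quotient.mk (relIdeal (fpoly p k n a)) (MvPolynomial.X i) : AA)) ^ p ∧
    Module.length AA (AA ⧸ Ideal.span (Set.range fun t : AA => σ t - t)) =
      (p ^ n : ℕ∞) * Module.length RR (RR ⧸ Ideal.span (Set.range a)) := by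
  classical
  haveI : NeZero n := ⟨by omega⟩
  have hp1 : 1 < p := hp.out.one_lt
  obtain ⟨b⟩ := exists_basis n RR (fpoly p k n a) (fpoly_monic p k n a) (fun _ => p)
    (fpoly_natDegree p k n a)
  have hmaxR : ∀ g : RR, MvPowerSeries.constantCoeff g = 0 →
      g ∈ IsLocalRing.maximalIdeal RR := by
    intro g hg
    rw [IsLocalRing.mem_maximalIdeal, mem_nonunits_iff, MvPowerSeries.isUnit_iff_constantCoeff, hg]
    exact not_isUnit_zero
  have hrel : ∀ i, (Ideal.Quotient.mk (relIdeal (fpoly p k n a)) (MvPolynomial.X i) : AA) ^ p =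
      algebraMap RR AA (a i ^ (p - 1)) *
        (Ideal.Quotient.mk (relIdeal (fpoly p k n a)) (MvPolynomial.X i) : AA) +
      algebraMap RR AA (MvPowerSeries.X i) := by
    intro i
    have h1 : Ideal.Quotient.mk (relIdeal (fpoly p k n a))
        (Polynomial.aeval (MvPolynomial.X i) (fpoly p k n a i)) = 0 :=
      Ideal.Quotient.eq_zero_iff_mem.2 (aeval_mem_relIdeal _ i)
    rw [aeval_fpoly, map_sub, map_sub, map_mul, map_pow, sub_sub, sub_eq_zero] at h1
    exact h1
  have hgen : ∀ t : AA, t ∈ Algebra.adjoin RR (Set.range fun i : Fin n =>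
      (Ideal.Quotient.mk (relIdeal (fpoly p k n a)) (MvPolynomial.X i) : AA)) := by
    intro t
    obtain ⟨q, rfl⟩ := Ideal.Quotient.mk_surjective t
    induction q using MvPolynomial.induction_on with
    | C r => exact Subalgebra.algebraMap_mem _ r
    | add q1 q2 h1 h2 => rw [map_add]; exact add_mem h1 h2
    | mul_X q i h =>
      rw [map_mul]
      exact mul_mem h (Algebra.subset_adjoin ⟨i, rfl⟩)
  have h := core (R := RR) (A := AA) p hp1 n (∏ _i : Fin n, p) b
    (fun i : Fin n => (Ideal.Quotient.mk (relIdeal (fpoly p k n a)) (MvPolynomial.X i) : AA))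
    a (fun i => MvPowerSeries.X i) hrel (fun i => hmaxR _ (ham i))
    (fun i => hmaxR _ (MvPowerSeries.constantCoeff_X i)) hgen
    (fun i => mem_span_X (a i) (ham i)) σ hσ
  refine ⟨h.1, ?_⟩
  rw [h.2]
  congr 1
  simp [Finset.prod_const]

theorem main (hn : 2 ≤ n) (ham : ∀ i, MvPowerSeries.constantCoeff (a i) = 0)
    (I : Ideal (MvPolynomial (Fin n) RR)) (hI : I = relIdeal (fpoly p k n a))
    (σ : (MvPolynomial (Fin n) RR ⧸ I) ≃ₐ[RR] (MvPolynomial (Fin n) RR ⧸ I))
    (hσ : ∀ i, σ (Ideal.Quotient.mk I (MvPolynomial.X i)) =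
      Ideal.Quotient.mk I (MvPolynomial.X i) +
        algebraMap RR (MvPolynomial (Fin n) RR ⧸ I) (a i)) :
    Ideal.span (Set.range fun t : MvPolynomial (Fin n) RR ⧸ I => σ t - t) ≤
      Ideal.span (Set.range fun i : Fin n =>
        (Ideal.Quotient.mk I (MvPolynomial.X i) : MvPolynomial (Fin n) RR ⧸ I)) ^ p ∧
    Module.length (MvPolynomial (Fin n) RR ⧸ I) ((MvPolynomial (Fin n) RR ⧸ I) ⧸
        Ideal.span (Set.range fun t : MvPolynomial (Fin n) RR ⧸ I => σ t - t)) =
      (p ^ n : ℕ∞) * Module.length RR (RR ⧸ Ideal.span (Set.range a)) := by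
  subst hI
  exact main_aux p k n a hn ham σ hσ

end main

end Groth.Agent.H4.WildQuotLen
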