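import Mathlib
import Groth.Agent.Lib.Helper2.DimFG

open MvPolynomial IsLocalRing

namespace Groth.Agent.H4.WqA

noncomputable section

variable {R : Type*} [CommRing R] {n : ℕ} (p : ℕ) (a x : Fin n → R)

/-- the relations `u_i ^ p - a_i ^ (p-1) u_i - x_i` -/
def rel (i : Fin n) : MvPolynomial (Fin n) R :=
  X i ^ p - C (a i ^ (p - 1)) * X i - C (x i)

def relI : Ideal (MvPolynomial (Fin n) R) := Ideal.span (Set.range (rel p a x))

abbrev QA := MvPolynomial (Fin n) R ⧸ relI p a x

def uu (i : Fin n) : QA p a x := Ideal.Quotient.mk _ (X i)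

def MM : Ideal (QA p a x) := Ideal.span (Set.range (uu p a x))

lemma MM_eq : MM p a x = Ideal.map (Ideal.Quotient.mk (relI p a x))
    (Ideal.span (Set.range (X : Fin n → MvPolynomial (Fin n) R))) := by
  rw [Ideal.map_span, ← Set.range_comp]; rfl

lemma algebraMap_eq (r : R) : algebraMap R (QA p a x) r = Ideal.Quotient.mk _ (C r) := rfl

lemma u_pow (i : Fin n) : uu p a x i ^ p =
    algebraMap R (QA p a x) (a i ^ (p - 1)) * uu p a x i + algebraMap R (QA p a x) (x i) := by
  have h : Ideal.Quotient.mk (relI p a x) (rel p a x i) = 0 :=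
    Ideal.Quotient.eq_zero_iff_mem.2 (Ideal.subset_span ⟨i, rfl⟩)
  simp only [rel, map_sub, map_mul, map_pow] at h
  rw [algebraMap_eq, algebraMap_eq, uu]
  simp only [map_pow]
  linear_combination h

lemma isIntegral_uu (hp : 2 ≤ p) (i : Fin n) : IsIntegral R (uu p a x i) := by
  refine ⟨Polynomial.X ^ p - (Polynomial.C (a i ^ (p - 1)) * Polynomial.X + Polynomial.C (x i)),
    ?_, ?_⟩
  · apply Polynomial.monic_X_pow_sub
    exact lt_of_le_of_lt Polynomial.degree_linear_le (by exact_mod_cast (by omega : 1 < p))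
  · simp only [Polynomial.eval₂_sub, Polynomial.eval₂_add, Polynomial.eval₂_mul,
      Polynomial.eval₂_pow, Polynomial.eval₂_X, Polynomial.eval₂_C]
    rw [u_pow]; ring

lemma isIntegral_QA (hp : 2 ≤ p) : Algebra.IsIntegral R (QA p a x) := by
  refine ⟨fun y => ?_⟩
  obtain ⟨q, rfl⟩ := Ideal.Quotient.mk_surjective y
  induction q using MvPolynomial.induction_on with
  | C r => exact isIntegral_algebraMap (x := r)
  | add q1 q2 h1 h2 => rw [map_add]; exact h1.add h2
  | mul_X q i h => rw [map_mul]; exact h.mul (isIntegral_uu p a x hp i)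

lemma algebraMap_injective [IsDomain R] (hp : 2 ≤ p) :
    Function.Injective (algebraMap R (QA p a x)) := by
  classical
  let K := AlgebraicClosure (FractionRing R)
  have hroot : ∀ i, ∃ υ : K,
      υ ^ p - algebraMap R K (a i ^ (p - 1)) * υ - algebraMap R K (x i) = 0 := by
    intro i
    let F : Polynomial K := Polynomial.X ^ p -
      (Polynomial.C (algebraMap R K (a i ^ (p - 1))) * Polynomial.X +
        Polynomial.C (algebraMap R K (x i)))
    have hlt : (Polynomial.C (algebraMap R K (a i ^ (p - 1))) * Polynomial.X +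
        Polynomial.C (algebraMap R K (x i))).degree < (Polynomial.X ^ p : Polynomial K).degree := by
      rw [Polynomial.degree_X_pow]
      exact lt_of_le_of_lt Polynomial.degree_linear_le (by exact_mod_cast (by omega : 1 < p))
    have hF : F.degree ≠ 0 := by
      rw [Polynomial.degree_sub_eq_left_of_degree_lt hlt, Polynomial.degree_X_pow]
      exact_mod_cast (by omega : p ≠ 0)
    obtain ⟨υ, hυ⟩ := IsAlgClosed.exists_root F hF
    refine ⟨υ, ?_⟩
    have := hυ
    simp only [F, Polynomial.IsRoot, Polynomial.eval_sub, Polynomial.eval_add, Polynomial.eval_mul,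
      Polynomial.eval_pow, Polynomial.eval_X, Polynomial.eval_C] at this
    linear_combination this
  choose υ hυ using hroot
  let g : MvPolynomial (Fin n) R →ₐ[R] K := MvPolynomial.aeval υ
  have hle : relI p a x ≤ RingHom.ker g.toRingHom := by
    rw [relI, Ideal.span_le]
    rintro _ ⟨i, rfl⟩
    change g (rel p a x i) = 0
    simp only [rel, g, map_sub, map_mul, map_pow, aeval_X, aeval_C]
    have h5 := hυ i
    rw [map_pow] at h5
    exact h5
  have hg : ∀ q ∈ relI p a x, g q = 0 := fun q hq => hle hq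
  let gbar : QA p a x →ₐ[R] K := Ideal.Quotient.liftₐ (relI p a x) g hg
  have hinjK : Function.Injective (algebraMap R K) := by
    rw [IsScalarTower.algebraMap_eq R (FractionRing R) K]
    exact (algebraMap (FractionRing R) K).injective.comp (IsFractionRing.injective R (FractionRing R))
  intro r s h
  apply hinjK
  rw [← gbar.commutes r, ← gbar.commutes s, h]

lemma MM_le_of_isMaximal [IsLocalRing R] (hp : 2 ≤ p) (ha : ∀ i, a i ∈ maximalIdeal R)
    (hx : ∀ i, x i ∈ maximalIdeal R) (𝔫 : Ideal (QA p a x)) [h𝔫 : 𝔫.IsMaximal] :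
    MM p a x ≤ 𝔫 := by
  haveI := isIntegral_QA p a x hp
  have hc : (𝔫.comap (algebraMap R (QA p a x))) = maximalIdeal R :=
    IsLocalRing.eq_maximalIdeal (Ideal.isMaximal_comap_of_isIntegral_of_isMaximal 𝔫)
  have hmem : ∀ r ∈ maximalIdeal R, algebraMap R (QA p a x) r ∈ 𝔫 := fun r hr => by
    rw [← hc] at hr; exact hr
  rw [MM, Ideal.span_le]
  rintro _ ⟨i, rfl⟩
  apply h𝔫.isPrime.mem_of_pow_mem p
  rw [u_pow]
  exact 𝔫.add_mem (𝔫.mul_mem_right _ (hmem _ (Ideal.pow_mem_of_mem _ (ha i) _ (by omega))))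
    (hmem _ (hx i))

lemma le_MM_of_MM_le [IsLocalRing R] (hp : 2 ≤ p)
    (hspan : Ideal.span (Set.range x) = maximalIdeal R)
    (𝔫 : Ideal (QA p a x)) (h1 : 𝔫 ≠ ⊤) (h2 : MM p a x ≤ 𝔫) : 𝔫 ≤ MM p a x := by
  have hdec : ∀ y : QA p a x, ∃ r : R, y - algebraMap R _ r ∈ MM p a x := by
    intro y
    obtain ⟨q, rfl⟩ := Ideal.Quotient.mk_surjective y
    induction q using MvPolynomial.induction_on with
    | C r => exact ⟨r, by rw [algebraMap_eq, sub_self]; exact zero_mem _⟩
    | add q1 q2 h1 h2 =>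
      obtain ⟨r1, h1⟩ := h1
      obtain ⟨r2, h2⟩ := h2
      refine ⟨r1 + r2, ?_⟩
      rw [map_add, map_add]
      have := add_mem h1 h2
      convert this using 1
      ring
    | mul_X q i h =>
      refine ⟨0, ?_⟩
      rw [map_zero, sub_zero, map_mul]
      exact Ideal.mul_mem_left _ _ (Ideal.subset_span ⟨i, rfl⟩)
  intro y hy
  obtain ⟨r, hr⟩ := hdec y
  have hr𝔫 : algebraMap R (QA p a x) r ∈ 𝔫 := by
    have := 𝔫.sub_mem hy (h2 hr)
    simpa using this
  have hrm : r ∈ maximalIdeal R := by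
    by_contra hnot
    have hu : IsUnit r := by
      rwa [mem_maximalIdeal, mem_nonunits_iff, not_not] at hnot
    exact h1 (Ideal.eq_top_of_isUnit_mem _ hr𝔫 (hu.map _))
  have hx_mem : ∀ i, algebraMap R (QA p a x) (x i) ∈ MM p a x := by
    intro i
    have h3 := u_pow p a x i
    have h4 : algebraMap R (QA p a x) (x i) =
        uu p a x i ^ p - algebraMap R (QA p a x) (a i ^ (p - 1)) * uu p a x i := by
      rw [h3]; ring
    rw [h4]
    have hu : uu p a x i ∈ MM p a x := Ideal.subset_span ⟨i, rfl⟩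
    exact sub_mem (Ideal.pow_mem_of_mem _ hu p (by omega)) (Ideal.mul_mem_left _ _ hu)
  have halg : algebraMap R (QA p a x) r ∈ MM p a x := by
    rw [← hspan] at hrm
    have hle : Ideal.map (algebraMap R (QA p a x)) (Ideal.span (Set.range x)) ≤ MM p a x := by
      rw [Ideal.map_span, Ideal.span_le]
      rintro _ ⟨_, ⟨i, rfl⟩, rfl⟩
      exact hx_mem i
    exact hle (Ideal.mem_map_of_mem _ hrm)
  have hy' : y = (y - algebraMap R (QA p a x) r) + algebraMap R (QA p a x) r := by ring
  rw [hy']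
  exact add_mem hr halg

theorem general [IsDomain R] [IsLocalRing R] [IsNoetherianRing R] (hp : 2 ≤ p)
    (hspan : Ideal.span (Set.range x) = maximalIdeal R) (ha : ∀ i, a i ∈ maximalIdeal R)
    (hdim : (n : WithBot ℕ∞) ≤ ringKrullDim R) :
    IsRegularLocalRing (QA p a x) ∧ (MM p a x).IsMaximal := by
  haveI := isIntegral_QA p a x hp
  have hinj := algebraMap_injective p a x hp
  haveI : Nontrivial (QA p a x) := hinj.nontrivial
  have hx : ∀ i, x i ∈ maximalIdeal R := fun i => hspan ▸ Ideal.subset_span ⟨i, rfl⟩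
  obtain ⟨𝔫, h𝔫⟩ := Ideal.exists_maximal (QA p a x)
  have hM𝔫 : ∀ 𝔪 : Ideal (QA p a x), 𝔪.IsMaximal → 𝔪 = MM p a x := fun 𝔪 h => by
    haveI := h
    exact le_antisymm (le_MM_of_MM_le p a x hp hspan 𝔪 h.ne_top
      (MM_le_of_isMaximal p a x hp ha hx 𝔪)) (MM_le_of_isMaximal p a x hp ha hx 𝔪)
  have hMmax : (MM p a x).IsMaximal := hM𝔫 𝔫 h𝔫 ▸ h𝔫
  haveI : IsLocalRing (QA p a x) :=
    IsLocalRing.of_unique_max_ideal
      (⟨MM p a x, hMmax, fun 𝔪 h => hM𝔫 𝔪 h⟩ : ∃! I : Ideal (QA p a x), I.IsMaximal)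
  refine ⟨?_, hMmax⟩
  apply IsRegularLocalRing.of_spanFinrank_maximalIdeal_le
  have hmax : maximalIdeal (QA p a x) = MM p a x := (IsLocalRing.eq_maximalIdeal hMmax).symm
  rw [hmax, Groth.Agent.H2.DimFG.ringKrullDim_eq_of_integral_injective R (QA p a x) hinj]
  refine le_trans ?_ hdim
  have hle : (MM p a x).spanFinrank ≤ n := by
    refine (Submodule.spanFinrank_span_le_ncard_of_finite (Set.finite_range _)).trans ?_
    calc (Set.range (uu p a x)).ncard ≤ Nat.card (Fin n) := by
          rw [← Set.image_univ]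
          refine (Set.ncard_image_le (Set.finite_univ)).trans ?_
          rw [Set.ncard_univ]
      _ = n := by simp
  exact_mod_cast hle

end

end Groth.Agent.H4.WqA
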