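import Mathlib
import Groth.Agent.H4.WqA

set_option autoImplicit false
open MvPolynomial Groth.Agent.H4.WqA

namespace Groth.Agent.H4.WqAut

noncomputable section

variable {R : Type*} [CommRing R] {n : ℕ} (p : ℕ) [hpp : Fact p.Prime] (a x : Fin n → R)
  [CharP (QA p a x) p]

/-- the prime field inside `A`. -/
def cc : ZMod p →+* QA p a x := ZMod.castHom (dvd_refl p) (QA p a x)

/-- image of `a i` in `A`. -/
def al (i : Fin n) : QA p a x := algebraMap R (QA p a x) (a i)

lemma cc_pow (t : ZMod p) : cc p a x t ^ p = cc p a x t := by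
  rw [← map_pow, ZMod.pow_card]

lemma hom_cc (f : QA p a x →ₐ[R] QA p a x) (t : ZMod p) : f (cc p a x t) = cc p a x t := by
  have := RingHom.ext_zmod ((f : QA p a x →+* QA p a x).comp (cc p a x)) (cc p a x)
  exact RingHom.congr_fun this t

lemma al_pow (i : Fin n) : algebraMap R (QA p a x) (a i ^ (p - 1)) * al p a x i = al p a x i ^ p := by
  rw [map_pow]
  exact pow_sub_one_mul hpp.out.ne_zero _

lemma shift_rel (i : Fin n) (t : ZMod p) :
    (uu p a x i + cc p a x t * al p a x i) ^ p =
      algebraMap R (QA p a x) (a i ^ (p - 1)) * (uu p a x i + cc p a x t * al p a x i)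
        + algebraMap R (QA p a x) (x i) := by
  rw [add_pow_char, mul_pow, cc_pow, u_pow, ← al_pow]
  ring

lemma aeval_rel (j : Fin n → ZMod p) (i : Fin n) :
    (MvPolynomial.aeval fun i => uu p a x i + cc p a x (j i) * al p a x i :
      MvPolynomial (Fin n) R →ₐ[R] QA p a x) (rel p a x i) = 0 := by
  unfold rel
  rw [map_sub, map_sub, map_mul, map_pow, aeval_X, aeval_C, aeval_C, shift_rel]
  ring

/-- the substitution `u_i ↦ u_i + j_i a_i`. -/
def shiftHom (j : Fin n → ZMod p) : QA p a x →ₐ[R] QA p a x :=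
  Ideal.Quotient.liftₐ (relI p a x)
    (MvPolynomial.aeval fun i => uu p a x i + cc p a x (j i) * al p a x i) (by
      have hle : relI p a x ≤ RingHom.ker
          ((MvPolynomial.aeval fun i => uu p a x i + cc p a x (j i) * al p a x i :
            MvPolynomial (Fin n) R →ₐ[R] QA p a x) : MvPolynomial (Fin n) R →+* QA p a x) := by
        refine Ideal.span_le.2 ?_
        rintro _ ⟨i, rfl⟩
        rw [SetLike.mem_coe, RingHom.mem_ker]
        exact aeval_rel p a x j i
      intro q hq
      exact (RingHom.mem_ker).1 (hle hq))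

lemma shiftHom_u (j : Fin n → ZMod p) (i : Fin n) :
    shiftHom p a x j (uu p a x i) = uu p a x i + cc p a x (j i) * al p a x i := by
  unfold shiftHom uu
  rw [Ideal.Quotient.liftₐ_apply, Ideal.Quotient.lift_mk]
  simp

lemma hom_ext' {f g : QA p a x →ₐ[R] QA p a x} (h : ∀ i, f (uu p a x i) = g (uu p a x i)) :
    f = g := by
  apply Ideal.Quotient.algHom_ext
  apply MvPolynomial.algHom_ext
  intro i
  exact h i

lemma shift_comp (j j' : Fin n → ZMod p) :
    (shiftHom p a x j).comp (shiftHom p a x j') = shiftHom p a x (j + j') := by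
  apply hom_ext'
  intro i
  rw [AlgHom.comp_apply, shiftHom_u, map_add, map_mul, shiftHom_u, hom_cc, shiftHom_u]
  have : shiftHom p a x j (al p a x i) = al p a x i := AlgHom.commutes _ _
  rw [this, Pi.add_apply, map_add]
  ring

lemma shift_zero : shiftHom p a x 0 = AlgHom.id R (QA p a x) := by
  apply hom_ext'
  intro i
  rw [shiftHom_u]
  simp

/-- the automorphism `u_i ↦ u_i + j_i a_i`. -/
def shiftEquiv (j : Fin n → ZMod p) : QA p a x ≃ₐ[R] QA p a x :=
  AlgEquiv.ofAlgHom (shiftHom p a x j) (shiftHom p a x (-j))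
    (by rw [shift_comp, add_neg_cancel, shift_zero])
    (by rw [shift_comp, neg_add_cancel, shift_zero])

lemma shiftEquiv_apply (j : Fin n → ZMod p) (y : QA p a x) :
    shiftEquiv p a x j y = shiftHom p a x j y := rfl

lemma shiftEquiv_mul (j j' : Fin n → ZMod p) :
    shiftEquiv p a x j * shiftEquiv p a x j' = shiftEquiv p a x (j + j') := by
  ext y
  rw [AlgEquiv.mul_apply, shiftEquiv_apply, shiftEquiv_apply, shiftEquiv_apply, ← shift_comp]
  rfl

lemma shiftEquiv_zero : shiftEquiv p a x 0 = 1 := by
  ext y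
  rw [shiftEquiv_apply, shift_zero]
  rfl

lemma shiftEquiv_pow (j : Fin n → ZMod p) (m : ℕ) :
    shiftEquiv p a x j ^ m = shiftEquiv p a x (m • j) := by
  induction m with
  | zero => rw [pow_zero, zero_smul, shiftEquiv_zero]
  | succ m ih => rw [pow_succ, ih, shiftEquiv_mul, succ_nsmul]

lemma shiftEquiv_pow_p (j : Fin n → ZMod p) : shiftEquiv p a x j ^ p = 1 := by
  rw [shiftEquiv_pow]
  have : p • j = 0 := by
    funext i
    simp
  rw [this, shiftEquiv_zero]

variable [IsDomain (QA p a x)]

lemma cc_injective : Function.Injective (cc p a x) := RingHom.injective _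

/-- roots of `T^p - α^(p-1) T`. -/
lemma root_char (β : QA p a x) (hβ : β ≠ 0) (w : QA p a x) (hw : w ^ p = β ^ (p - 1) * w) :
    ∃ t : ZMod p, w = cc p a x t * β := by
  classical
  have hp2 : 2 ≤ p := hpp.out.two_le
  set h : Polynomial (QA p a x) :=
    Polynomial.X ^ p - Polynomial.C (β ^ (p - 1)) * Polynomial.X with hh
  have hdeg : (Polynomial.C (β ^ (p - 1)) * Polynomial.X : Polynomial (QA p a x)).degree
      < (p : WithBot ℕ) :=
    lt_of_le_of_lt (Polynomial.degree_C_mul_X_le _) (by exact_mod_cast (by omega : 1 < p))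
  have hmonic : h.Monic := Polynomial.monic_X_pow_sub hdeg
  have hne : h ≠ 0 := hmonic.ne_zero
  have hnat : h.natDegree = p := by
    rw [hh, Polynomial.natDegree_sub_eq_left_of_natDegree_lt]
    · exact Polynomial.natDegree_X_pow p
    · rw [Polynomial.natDegree_X_pow]
      exact lt_of_le_of_lt ((Polynomial.natDegree_C_mul_le _ _).trans Polynomial.natDegree_X_le) (by omega)
  have hroot : ∀ z : QA p a x, z ^ p = β ^ (p - 1) * z → z ∈ h.roots.toFinset := by
    intro z hz
    rw [Multiset.mem_toFinset, Polynomial.mem_roots hne, Polynomial.IsRoot, hh]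
    simp only [Polynomial.eval_sub, Polynomial.eval_pow, Polynomial.eval_X, Polynomial.eval_mul,
      Polynomial.eval_C]
    rw [hz, sub_self]
  set S : Finset (QA p a x) := Finset.univ.image (fun t : ZMod p => cc p a x t * β) with hS
  have hinj : Function.Injective (fun t : ZMod p => cc p a x t * β) := by
    intro t t' htt
    exact cc_injective p a x (mul_right_cancel₀ hβ htt)
  have hcard : S.card = p := by
    rw [hS, Finset.card_image_of_injective _ hinj, Finset.card_univ, ZMod.card]
  have hsub : S ⊆ h.roots.toFinset := by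
    intro z hz
    rw [hS, Finset.mem_image] at hz
    obtain ⟨t, -, rfl⟩ := hz
    apply hroot
    rw [mul_pow, cc_pow]
    have : β ^ p = β ^ (p - 1) * β := (pow_sub_one_mul hpp.out.ne_zero β).symm
    rw [this]; ring
  have hle : h.roots.toFinset.card ≤ S.card := by
    rw [hcard]
    calc h.roots.toFinset.card ≤ Multiset.card h.roots := Multiset.toFinset_card_le _
      _ ≤ h.natDegree := Polynomial.card_roots' h
      _ = p := hnat
  have heq : S = h.roots.toFinset := Finset.eq_of_subset_of_card_le hsub hle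
  have hwS : w ∈ S := heq ▸ hroot w hw
  rw [hS, Finset.mem_image] at hwS
  obtain ⟨t, -, ht⟩ := hwS
  exact ⟨t, ht.symm⟩

variable (hinj : Function.Injective (algebraMap R (QA p a x))) (ha : ∀ i, a i ≠ 0)
include hinj ha

lemma al_ne_zero (i : Fin n) : al p a x i ≠ 0 := by
  unfold al
  rw [Ne, ← map_zero (algebraMap R (QA p a x))]
  exact fun h => ha i (hinj h)

lemma shiftEquiv_injective : Function.Injective (shiftEquiv p a x) := by
  intro j j' hjj
  funext i
  have h1 : shiftEquiv p a x j (uu p a x i) = shiftEquiv p a x j' (uu p a x i) := by rw [hjj]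
  rw [shiftEquiv_apply, shiftEquiv_apply, shiftHom_u, shiftHom_u] at h1
  have h2 : cc p a x (j i) * al p a x i = cc p a x (j' i) * al p a x i := add_left_cancel h1
  exact cc_injective p a x (mul_right_cancel₀ (al_ne_zero p a x hinj ha i) h2)

lemma shiftEquiv_surjective : Function.Surjective (shiftEquiv p a x) := by
  intro σ
  have key : ∀ i, ∃ t : ZMod p, σ (uu p a x i) - uu p a x i = cc p a x t * al p a x i := by
    intro i
    apply root_char p a x _ (al_ne_zero p a x hinj ha i)
    have h1 : σ (uu p a x i) ^ p = algebraMap R (QA p a x) (a i ^ (p - 1)) * σ (uu p a x i)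
        + algebraMap R (QA p a x) (x i) := by
      rw [← map_pow, u_pow, map_add, map_mul, AlgEquiv.commutes, AlgEquiv.commutes]
    rw [sub_pow_char, h1, u_pow, map_pow]
    unfold al
    ring
  choose j hj using key
  refine ⟨j, ?_⟩
  ext y
  rw [shiftEquiv_apply]
  have : shiftHom p a x j = (σ : QA p a x →ₐ[R] QA p a x) := by
    apply hom_ext'
    intro i
    rw [shiftHom_u, ← hj i]
    simp
  rw [this]
  rfl

theorem card_aut : Nat.card (QA p a x ≃ₐ[R] QA p a x) = p ^ n := by
  have e : (Fin n → ZMod p) ≃ (QA p a x ≃ₐ[R] QA p a x) :=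
    Equiv.ofBijective (shiftEquiv p a x)
      ⟨shiftEquiv_injective p a x hinj ha, shiftEquiv_surjective p a x hinj ha⟩
  rw [← Nat.card_congr e, Nat.card_eq_fintype_card, Fintype.card_pi_const, ZMod.card]

theorem aut_comm (σ τ : QA p a x ≃ₐ[R] QA p a x) : σ * τ = τ * σ := by
  obtain ⟨j, rfl⟩ := shiftEquiv_surjective p a x hinj ha σ
  obtain ⟨j', rfl⟩ := shiftEquiv_surjective p a x hinj ha τ
  rw [shiftEquiv_mul, shiftEquiv_mul, add_comm]

theorem aut_pow (σ : QA p a x ≃ₐ[R] QA p a x) : σ ^ p = 1 := by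
  obtain ⟨j, rfl⟩ := shiftEquiv_surjective p a x hinj ha σ
  exact shiftEquiv_pow_p p a x j

end

end Groth.Agent.H4.WqAut
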