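import Mathlib
import Groth.Agent.H4.WqA

set_option autoImplicit false
open MvPolynomial Groth.Agent.H4.WqA

namespace Groth.Agent.H4.WqSpan

noncomputable section

variable {R : Type*} [CommRing R] {n : ℕ} (p : ℕ) (a x : Fin n → R)

/-- standard monomials. -/
def mono (e : Fin n → Fin p) : QA p a x := ∏ i, uu p a x i ^ (e i).val

lemma mono_update (e : Fin n → Fin p) (i : Fin n) (w : ℕ) (hw : w < p) :
    mono p a x (Function.update e i ⟨w, hw⟩) =
      uu p a x i ^ w * ∏ l ∈ Finset.univ.erase i, uu p a x l ^ (e l).val := by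
  classical
  unfold mono
  rw [← Finset.mul_prod_erase Finset.univ _ (Finset.mem_univ i), Function.update_self]
  congr 1
  apply Finset.prod_congr rfl
  intro l hl
  rw [Function.update_of_ne (Finset.ne_of_mem_erase hl)]

lemma mono_eq (e : Fin n → Fin p) (i : Fin n) :
    mono p a x e = uu p a x i ^ (e i).val * ∏ l ∈ Finset.univ.erase i, uu p a x l ^ (e l).val := by
  classical
  have h := mono_update p a x e i (e i).val (e i).isLt
  rwa [show (⟨(e i).val, (e i).isLt⟩ : Fin p) = e i from rfl, Function.update_eq_self] at h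

/-- the span of the standard monomials. -/
def SS : Submodule R (QA p a x) := Submodule.span R (Set.range (mono p a x))

lemma mono_mem (e : Fin n → Fin p) : mono p a x e ∈ SS p a x := Submodule.subset_span ⟨e, rfl⟩

lemma mono_mul_u (hp : 2 ≤ p) (e : Fin n → Fin p) (i : Fin n) :
    mono p a x e * uu p a x i ∈ SS p a x := by
  classical
  rw [mono_eq p a x e i]
  set P := ∏ l ∈ Finset.univ.erase i, uu p a x l ^ (e l).val with hP
  have hv := (e i).isLt
  by_cases h : (e i).val + 1 < p
  · have := mono_update p a x e i ((e i).val + 1) h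
    rw [← hP] at this
    have e1 : uu p a x i ^ (e i).val * P * uu p a x i = uu p a x i ^ ((e i).val + 1) * P := by
      rw [pow_succ]; ring
    rw [e1, ← this]
    exact mono_mem p a x _
  · have hv' : (e i).val + 1 = p := by omega
    have e0 : uu p a x i ^ p = uu p a x i ^ (e i).val * uu p a x i := by
      rw [← pow_succ]; exact congrArg _ hv'.symm
    have e1 : uu p a x i ^ (e i).val * P * uu p a x i = uu p a x i ^ p * P := by
      rw [e0]; ring
    rw [e1, u_pow]
    have m1 := mono_update p a x e i 1 (by omega)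
    have m0 := mono_update p a x e i 0 (by omega)
    rw [← hP] at m1 m0
    have e2 : (algebraMap R (QA p a x) (a i ^ (p - 1)) * uu p a x i + algebraMap R (QA p a x) (x i)) * P
        = (a i ^ (p - 1)) • (uu p a x i ^ 1 * P) + (x i) • (uu p a x i ^ 0 * P) := by
      have s1 : (a i ^ (p - 1)) • (uu p a x i ^ 1 * P) =
          algebraMap R (QA p a x) (a i ^ (p - 1)) * (uu p a x i ^ 1 * P) := @Algebra.smul_def R (QA p a x) _ _ _ _ _
      have s2 : (x i) • (uu p a x i ^ 0 * P) =
          algebraMap R (QA p a x) (x i) * (uu p a x i ^ 0 * P) := @Algebra.smul_def R (QA p a x) _ _ _ _ _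
      rw [s1, s2, pow_one, pow_zero]; ring
    rw [e2, ← m1, ← m0]
    exact Submodule.add_mem _ (Submodule.smul_mem _ _ (mono_mem p a x _))
      (Submodule.smul_mem _ _ (mono_mem p a x _))

lemma mul_u_mem (hp : 2 ≤ p) (i : Fin n) (y : QA p a x) (hy : y ∈ SS p a x) :
    y * uu p a x i ∈ SS p a x := by
  unfold SS at hy
  induction hy using Submodule.span_induction with
  | mem z hz =>
    obtain ⟨e, rfl⟩ := hz
    exact mono_mul_u p a x hp e i
  | zero => rw [zero_mul]; exact Submodule.zero_mem _
  | add y z _ _ hy hz => rw [add_mul]; exact Submodule.add_mem _ hy hz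
  | smul r y _ hy => rw [smul_mul_assoc]; exact Submodule.smul_mem _ _ hy

theorem SS_eq_top (hp : 2 ≤ p) : SS p a x = ⊤ := by
  rw [eq_top_iff]
  rintro y -
  obtain ⟨q, rfl⟩ := Ideal.Quotient.mk_surjective y
  induction q using MvPolynomial.induction_on with
  | C r =>
    have h1 : (Ideal.Quotient.mk (relI p a x)) (C r) = r • mono p a x (fun _ => ⟨0, by omega⟩) := by
      have s : r • mono p a x (fun _ => ⟨0, by omega⟩) =
          algebraMap R (QA p a x) r * mono p a x (fun _ => ⟨0, by omega⟩) := @Algebra.smul_def R (QA p a x) _ _ _ _ _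
      rw [s]
      simp only [mono, pow_zero, Finset.prod_const_one, mul_one]
      rfl
    rw [h1]
    exact Submodule.smul_mem _ _ (mono_mem p a x _)
  | add q1 q2 h1 h2 => rw [map_add]; exact Submodule.add_mem _ h1 h2
  | mul_X q i h =>
    rw [map_mul]
    exact mul_u_mem p a x hp i _ h

end

end Groth.Agent.H4.WqSpan
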