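import Mathlib
import Groth.Agent.H4.WqA
import Groth.Agent.H4.WqAut
import Groth.Agent.H4.WqSpan

set_option autoImplicit false
open MvPolynomial Groth.Agent.H4.WqA Groth.Agent.H4.WqAut Groth.Agent.H4.WqSpan

namespace Groth.Agent.H4.WqTr

noncomputable section

/-- power sums over the prime field. -/
lemma sum_pow_zmod (p : ℕ) [hpp : Fact p.Prime] (s : ℕ) (hs : s < p) :
    ∑ t : ZMod p, t ^ s = if s = p - 1 then -1 else 0 := by
  have hp2 : 2 ≤ p := hpp.out.two_le
  split_ifs with h
  · have h1 : ∀ t : ZMod p, t ^ s = 1 - (if t = 0 then 1 else 0) := by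
      intro t
      split_ifs with ht
      · rw [ht, zero_pow (by omega), sub_self]
      · rw [h, ZMod.pow_card_sub_one_eq_one ht, sub_zero]
    simp only [h1, Finset.sum_sub_distrib, Finset.sum_const, Finset.card_univ, ZMod.card,
      Finset.sum_ite_eq', Finset.mem_univ, if_true, nsmul_eq_mul, CharP.cast_eq_zero, zero_mul,
      zero_sub, mul_one]
  · exact FiniteField.sum_pow_lt_card_sub_one (K := ZMod p) s (by rw [ZMod.card]; omega)

/-- integrally closed descent along a multiple. -/
theorem mem_range_of_mul {R A : Type*} [CommRing R] [IsDomain R] [IsIntegrallyClosed R]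
    [CommRing A] [IsDomain A] [Algebra R A]
    (hinj : Function.Injective (algebraMap R A)) (b : A) (hb : IsIntegral R b) (N r : R)
    (hN : N ≠ 0) (h : b * algebraMap R A N = algebraMap R A r) :
    b ∈ Set.range (algebraMap R A) := by
  let K := FractionRing R
  let L := FractionRing A
  let g : R →ₐ[R] L := Algebra.ofId R L
  have hgapp : ∀ s : R, g s = algebraMap A L (algebraMap R A s) := by
    intro s
    show algebraMap R L s = _
    rw [IsScalarTower.algebraMap_apply R A L]
  have hg : Function.Injective g := by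
    intro s t hst
    apply hinj
    apply IsFractionRing.injective A L
    rw [← hgapp, ← hgapp, hst]
  let φ : K →ₐ[R] L := IsFractionRing.liftAlgHom (K := K) hg
  have hφ : ∀ s : R, φ (algebraMap R K s) = algebraMap A L (algebraMap R A s) := by
    intro s
    show IsFractionRing.lift hg (algebraMap R K s) = _
    rw [IsFractionRing.lift_algebraMap]
    exact hgapp s
  set κ : K := algebraMap R K r / algebraMap R K N with hκdef
  have hNL : algebraMap A L (algebraMap R A N) ≠ 0 := by
    rw [Ne, ← map_zero (algebraMap A L)]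
    intro h0
    have := IsFractionRing.injective A L h0
    rw [← map_zero (algebraMap R A)] at this
    exact hN (hinj this)
  have hκ : φ κ = algebraMap A L b := by
    rw [hκdef, map_div₀, hφ, hφ, ← h, map_mul, mul_div_assoc, div_self hNL, mul_one]
  have hint : IsIntegral R κ := by
    rw [← isIntegral_algHom_iff φ (φ : K →+* L).injective, hκ]
    exact hb.map (IsScalarTower.toAlgHom R A L)
  obtain ⟨r', hr'⟩ := IsIntegrallyClosed.algebraMap_eq_of_integral hint
  refine ⟨r', ?_⟩
  apply IsFractionRing.injective A L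
  rw [← hκ, ← hr', hφ]

variable {R : Type*} [CommRing R] {n : ℕ} (p : ℕ) [hpp : Fact p.Prime] (a x : Fin n → R)
  [CharP (QA p a x) p]

lemma sum_shift_pow (v β : QA p a x) (m : ℕ) (hm : m < p) :
    ∑ t : ZMod p, (v + cc p a x t * β) ^ m = if m = p - 1 then - β ^ (p - 1) else 0 := by
  have hp2 : 2 ≤ p := hpp.out.two_le
  have h1 : ∀ t : ZMod p, (v + cc p a x t * β) ^ m =
      ∑ l ∈ Finset.range (m + 1),
        v ^ l * β ^ (m - l) * (m.choose l : QA p a x) * cc p a x (t ^ (m - l)) := by
    intro t
    rw [add_pow]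
    refine Finset.sum_congr rfl fun l _ => ?_
    rw [mul_pow, map_pow]; ring
  simp only [h1]
  rw [Finset.sum_comm]
  have h2 : ∀ l ∈ Finset.range (m + 1),
      ∑ t : ZMod p, v ^ l * β ^ (m - l) * (m.choose l : QA p a x) * cc p a x (t ^ (m - l)) =
        v ^ l * β ^ (m - l) * (m.choose l : QA p a x) *
          cc p a x (if m - l = p - 1 then -1 else 0) := by
    intro l _
    rw [← Finset.mul_sum, ← map_sum, sum_pow_zmod p (m - l) (by omega)]
  rw [Finset.sum_congr rfl h2]
  split_ifs with hmp
  · rw [Finset.sum_eq_single 0]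
    · rw [if_pos (by omega), pow_zero, one_mul, Nat.sub_zero, Nat.choose_zero_right, Nat.cast_one,
        mul_one, map_neg, map_one, hmp]
      ring
    · intro l _ hl
      rw [if_neg (by omega)]; simp
    · intro h; exact absurd (Finset.mem_range.2 (Nat.succ_pos m)) h
  · apply Finset.sum_eq_zero
    intro l _
    rw [if_neg (by omega)]; simp

/-- the trace over the group of substitutions. -/
def Tr (y : QA p a x) : QA p a x := ∑ j : Fin n → ZMod p, shiftHom p a x j y

lemma Tr_mono (e : Fin n → Fin p) :
    Tr p a x (mono p a x e) =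
      ∏ i, (if (e i).val = p - 1 then - al p a x i ^ (p - 1) else 0) := by
  classical
  unfold Tr
  have h1 : ∀ j : Fin n → ZMod p, shiftHom p a x j (mono p a x e) =
      ∏ i, (uu p a x i + cc p a x (j i) * al p a x i) ^ (e i).val := by
    intro j
    unfold mono
    rw [map_prod]
    refine Finset.prod_congr rfl fun i _ => ?_
    rw [map_pow, shiftHom_u]
  simp only [h1]
  have h2 := Finset.prod_univ_sum (fun _ : Fin n => (Finset.univ : Finset (ZMod p)))
    (fun i t => (uu p a x i + cc p a x t * al p a x i) ^ (e i).val)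
  rw [Fintype.piFinset_univ] at h2
  rw [← h2]
  refine Finset.prod_congr rfl fun i _ => ?_
  exact sum_shift_pow p a x _ _ _ (e i).isLt

lemma Tr_mem (hp : 2 ≤ p) (y : QA p a x) :
    Tr p a x y ∈ Set.range (algebraMap R (QA p a x)) := by
  have hy : y ∈ SS p a x := by rw [SS_eq_top p a x hp]; trivial
  unfold SS at hy
  induction hy using Submodule.span_induction with
  | mem z hz =>
    obtain ⟨e, rfl⟩ := hz
    rw [Tr_mono]
    refine ⟨∏ i, (if (e i).val = p - 1 then - a i ^ (p - 1) else 0), ?_⟩
    rw [map_prod]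
    refine Finset.prod_congr rfl fun i _ => ?_
    split_ifs <;> simp [al]
  | zero => exact ⟨0, by simp [Tr]⟩
  | add y z _ _ hy hz =>
    obtain ⟨r, hr⟩ := hy
    obtain ⟨s, hs⟩ := hz
    refine ⟨r + s, ?_⟩
    rw [map_add, hr, hs]
    simp only [Tr, map_add, Finset.sum_add_distrib]
  | smul r y _ hy =>
    obtain ⟨s, hs⟩ := hy
    refine ⟨r * s, ?_⟩
    have e1 : r • y = algebraMap R (QA p a x) r * y := @Algebra.smul_def R (QA p a x) _ _ _ _ _
    rw [e1, map_mul, hs]
    simp only [Tr, map_mul, AlgHom.commutes, Finset.mul_sum]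

variable [IsDomain R] [IsIntegrallyClosed R] [IsDomain (QA p a x)]

theorem fixed_mem (hinj : Function.Injective (algebraMap R (QA p a x))) (ha : ∀ i, a i ≠ 0)
    (b : QA p a x) (hb : ∀ σ : QA p a x ≃ₐ[R] QA p a x, σ b = b) :
    b ∈ Set.range (algebraMap R (QA p a x)) := by
  have hp : 2 ≤ p := hpp.out.two_le
  set top : Fin n → Fin p := fun _ => ⟨p - 1, by omega⟩ with htop
  have h1 : Tr p a x (b * mono p a x top) = b * Tr p a x (mono p a x top) := by
    unfold Tr
    rw [Finset.mul_sum]
    refine Finset.sum_congr rfl fun j _ => ?_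
    rw [map_mul]
    congr 1
    exact hb (shiftEquiv p a x j)
  rw [Tr_mono] at h1
  obtain ⟨r, hr⟩ := Tr_mem p a x hp (b * mono p a x top)
  set N : R := ∏ i : Fin n, - a i ^ (p - 1) with hNdef
  have hN : N ≠ 0 := by
    rw [hNdef, Finset.prod_ne_zero_iff]
    intro i _
    exact neg_ne_zero.2 (pow_ne_zero _ (ha i))
  have h2 : b * algebraMap R (QA p a x) N = algebraMap R (QA p a x) r := by
    rw [hr, h1]
    congr 1
    rw [hNdef, map_prod]
    refine Finset.prod_congr rfl fun i _ => ?_
    simp [htop, al]
  exact mem_range_of_mul hinj b ((isIntegral_QA p a x hp).isIntegral b) N r hN h2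

end

end Groth.Agent.H4.WqTr
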