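import Mathlib
universe u
open CategoryTheory CategoryTheory.Limits AlgebraicGeometry TopologicalSpace Opposite

namespace Groth.Agent.H4.XsAffA

/-- graph sublemma: the graph avoids the non-vanishing locus of `p^*a₀ · q^*r - 1`. -/
theorem graph_notMem_basicOpen {U' Z X T : Scheme.{u}} (γ : U' ⟶ Z) (p : Z ⟶ X) (q : Z ⟶ T)
    (V : X.Opens) (a₀ : Γ(X, V)) (r : Γ(T, ⊤))
    (h1 : (γ ≫ p).app V a₀ *
      U'.presheaf.map (homOfLE (le_top : (γ ≫ p) ⁻¹ᵁ V ≤ ⊤)).op ((γ ≫ q).appTop r) = 1) (w : U') :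
    γ w ∉ Z.basicOpen (p.app V a₀ *
      Z.presheaf.map (homOfLE (le_top : p ⁻¹ᵁ V ≤ ⊤)).op (q.appTop r) - 1) := by
  intro hw
  have h2 : w ∈ γ ⁻¹ᵁ Z.basicOpen (p.app V a₀ *
      Z.presheaf.map (homOfLE (le_top : p ⁻¹ᵁ V ≤ ⊤)).op (q.appTop r) - 1) := hw
  rw [Scheme.preimage_basicOpen] at h2
  have h3 : γ.app (p ⁻¹ᵁ V) (p.app V a₀ *
      Z.presheaf.map (homOfLE (le_top : p ⁻¹ᵁ V ≤ ⊤)).op (q.appTop r) - 1) = 0 := by
    rw [map_sub, map_mul, map_one, sub_eq_zero]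
    refine Eq.trans ?_ h1
    congr 1
    have := congr($(γ.naturality (homOfLE (le_top : p ⁻¹ᵁ V ≤ ⊤)).op) (q.appTop r))
    exact this
  rw [h3, Scheme.basicOpen_zero] at h2
  exact h2

/-- in a local-ring stalk: if `b` vanishes at `z` then `a * b - 1` is invertible at `z`. -/
theorem mem_basicOpen_mul_sub_one {Z : Scheme.{u}} {W : Z.Opens} (a b : Γ(Z, W)) (z : Z) (hz : z ∈ W)
    (hb : z ∉ Z.basicOpen b) : z ∈ Z.basicOpen (a * b - 1) := by
  rw [Scheme.mem_basicOpen _ _ _ hz] at hb ⊢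
  rw [map_sub, map_mul, map_one]
  have h1 : ¬ IsUnit (Z.presheaf.germ W z hz a * Z.presheaf.germ W z hz b) := by
    intro h
    exact hb (isUnit_of_mul_isUnit_right h)
  have h2 := IsLocalRing.isUnit_one_sub_self_of_mem_nonunits _ h1
  have h3 : Z.presheaf.germ W z hz a * Z.presheaf.germ W z hz b - 1 =
      - (1 - Z.presheaf.germ W z hz a * Z.presheaf.germ W z hz b) := by ring
  rw [h3]
  exact h2.neg

/-- **Key scheme-theoretic lemma.** `f : X ⟶ Y` universally closed with affine target, `j : U' ⟶ X`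
with `U'` quasi-compact; opens `V i` covering `X` with functions `a i` on `V i` and global functions
`g i` on `U'` such that `j^*(a i) * g i = 1` over `j ⁻¹ V i`.  Then the `g i` generate the unit
ideal of `Γ(U', ⊤)`. -/
theorem span_eq_top_of_graph {X Y U' : Scheme.{u}} (f : X ⟶ Y) [UniversallyClosed f] [IsAffine Y]
    [CompactSpace U'] (j : U' ⟶ X) {ι : Type*} (V : ι → X.Opens) (hV : ∀ x : X, ∃ i, x ∈ V i)
    (a : ∀ i, Γ(X, V i)) (g : ι → Γ(U', ⊤))
    (hag : ∀ i, j.app (V i) (a i) *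
      U'.presheaf.map (homOfLE (le_top : j ⁻¹ᵁ V i ≤ ⊤)).op (g i) = 1) :
    Ideal.span (Set.range g) = ⊤ := by
  by_contra hne
  obtain ⟨𝔪, h𝔪, hle⟩ := Ideal.exists_le_maximal _ hne
  let T : Scheme.{u} := Spec Γ(U', ⊤)
  let φ : U' ⟶ T := U'.toSpecΓ
  let ψ : T ⟶ Y := Spec.map (j ≫ f).appTop ≫ Y.isoSpec.inv
  have hφψ : j ≫ f = φ ≫ ψ := by
    have h1 := Scheme.toSpecΓ_naturality (j ≫ f)
    rw [← cancel_mono Y.isoSpec.hom]
    simp only [ψ, φ, Category.assoc, Iso.inv_hom_id, Category.comp_id]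
    exact h1
  let γ : U' ⟶ pullback f ψ := pullback.lift j φ hφψ
  have hγ1 : γ ≫ pullback.fst f ψ = j := pullback.lift_fst _ _ _
  have hγ2 : γ ≫ pullback.snd f ψ = φ := pullback.lift_snd _ _ _
  have hcl : IsClosedMap (pullback.snd f ψ) := (pullback.snd f ψ).isClosedMap
  have hC : IsClosed ((pullback.snd f ψ) '' closure (Set.range γ)) := hcl _ isClosed_closure
  have hdense : DenseRange φ := φ.denseRange
  have hsub : Set.range φ ⊆ (pullback.snd f ψ) '' closure (Set.range γ) := by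
    rintro _ ⟨w, rfl⟩
    refine ⟨γ w, subset_closure ⟨w, rfl⟩, ?_⟩
    rw [← Scheme.Hom.comp_apply, hγ2]
  have huniv : (pullback.snd f ψ) '' closure (Set.range γ) = Set.univ := by
    have h1 := hdense.closure_range
    exact Set.eq_univ_of_univ_subset (h1 ▸ closure_minimal hsub hC)
  let t₀ : T := ⟨𝔪, h𝔪.isPrime⟩
  obtain ⟨z, hzC, hzt⟩ : t₀ ∈ (pullback.snd f ψ) '' closure (Set.range γ) := by
    rw [huniv]; trivial
  obtain ⟨i, hi⟩ := hV (pullback.fst f ψ z)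
  let r : Γ(T, ⊤) := (Scheme.ΓSpecIso _).inv (g i)
  have hgi : g i ∈ 𝔪 := hle (Ideal.subset_span ⟨i, rfl⟩)
  have hzb : z ∉ (pullback f ψ).basicOpen ((pullback f ψ).presheaf.map
      (homOfLE (le_top : pullback.fst f ψ ⁻¹ᵁ V i ≤ ⊤)).op ((pullback.snd f ψ).appTop r)) := by
    rw [Scheme.basicOpen_res]
    rintro ⟨-, h⟩
    have h1 : z ∈ (pullback.snd f ψ) ⁻¹ᵁ T.basicOpen r := by
      rw [Scheme.preimage_basicOpen_top]; exact h
    have h2 : pullback.snd f ψ z ∈ T.basicOpen r := h1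
    rw [hzt, basicOpen_eq_of_affine] at h2
    exact h2 hgi
  have hz1 := mem_basicOpen_mul_sub_one ((pullback.fst f ψ).app (V i) (a i)) _ z hi hzb
  obtain ⟨_, hw1, ⟨w, rfl⟩⟩ := mem_closure_iff.mp hzC _ ((pullback f ψ).basicOpen _).isOpen hz1
  refine graph_notMem_basicOpen γ (pullback.fst f ψ) (pullback.snd f ψ) (V i) (a i) r ?_ w hw1
  have key : ∀ (j' : U' ⟶ X) (φ' : U' ⟶ T), j' = j → φ' = φ → j'.app (V i) (a i) *
      U'.presheaf.map (homOfLE (le_top : j' ⁻¹ᵁ V i ≤ ⊤)).op (φ'.appTop r) = 1 := by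
    rintro _ _ rfl rfl
    have h1 : φ.appTop r = g i := by
      have h0 : φ.appTop = (Scheme.ΓSpecIso Γ(U', ⊤)).hom := Scheme.toSpecΓ_appTop U'
      rw [h0]
      exact Iso.inv_hom_id_apply (C := CommRingCat) _ _
    rw [h1]
    exact hag i
  exact key _ _ hγ1 hγ2

end Groth.Agent.H4.XsAffA
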