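import Mathlib
import Groth.Agent.Lib.Lead.QC.RestrictOpen
import Groth.Agent.Lib.Lead.QC.Mon
import Groth.Agent.H4.XsAffA
import Groth.Prelude.Def_LCI2
universe u
open CategoryTheory CategoryTheory.Limits AlgebraicGeometry TopologicalSpace Opposite
open Groth.Agent.LD.QC

namespace Groth.Agent.H4.XsAffB

/-- **Affine base.** `f : X ⟶ Y` universally closed, `Y` affine, `L` ample: `X_s` is affine. -/
theorem isAffineOpen_genLocus_of_affine_base {X Y : Scheme.{u}} (f : X ⟶ Y) [UniversallyClosed f]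
    [IsAffine Y] (L : X.Modules) (hL : CohB1.IsAmple L) (s : unitMod X ⟶ L) :
    IsAffineOpen (CohB1.genLocus L s) := by
  obtain ⟨hinv, hcpt, hpt⟩ := hL
  haveI := hcpt
  choose n τ hxτ hτaff using hpt
  have hσ : ∀ x, IsBasisOver (CohB1.tensorPow L (n x + 1)) (CohB1.genLocus L s)
      (SecTwist.val (SecTwist.powHom s (n x + 1)) (CohB1.genLocus L s)) := by
    intro x
    rw [← le_genLocus_iff_isBasisOver, genLocus_powHom_succ hinv]
  have hτb : ∀ x, IsBasisOver (CohB1.tensorPow L (n x + 1)) (CohB1.genLocus _ (τ x))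
      (SecTwist.val (τ x) (CohB1.genLocus _ (τ x))) := by
    intro x
    rw [← le_genLocus_iff_isBasisOver]
  choose g hg using fun x => (hσ x).exists_coord (SecTwist.val (τ x) (CohB1.genLocus L s))
  choose a ha using fun x => (hτb x).exists_coord
    (SecTwist.val (SecTwist.powHom s (n x + 1)) (CohB1.genLocus _ (τ x)))
  have hD1 : ∀ x, CohB1.genLocus _ (τ x) ⊓ CohB1.genLocus L s = X.basicOpen (g x) := fun x =>
    genLocus_inf_eq_basicOpen (τ x) (hσ x) (g x) (hg x)
  have hD2 : ∀ x, CohB1.genLocus L s ⊓ CohB1.genLocus _ (τ x) = X.basicOpen (a x) := fun x => by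
    have := genLocus_inf_eq_basicOpen (SecTwist.powHom s (n x + 1)) (hτb x) (a x) (ha x)
    rwa [genLocus_powHom_succ hinv] at this
  have haff : ∀ x, IsAffineOpen (X.basicOpen (g x)) := by
    intro x
    rw [← hD1 x, inf_comm, hD2 x]
    exact (hτaff x).basicOpen (a x)
  have hprod : ∀ x (O : X.Opens) (h1 : O ≤ CohB1.genLocus _ (τ x)) (h2 : O ≤ CohB1.genLocus L s),
      X.presheaf.map (homOfLE h1).op (a x) * X.presheaf.map (homOfLE h2).op (g x) = 1 := by
    intro x O h1 h2
    have hb := (hσ x).mono h2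
    apply hb.coord_injective
    rw [one_smul, mul_smul]
    have e1 : X.presheaf.map (homOfLE h2).op (g x) •
        (CohB1.tensorPow L (n x + 1)).presheaf.map (homOfLE h2).op
          (SecTwist.val (SecTwist.powHom s (n x + 1)) (CohB1.genLocus L s)) =
        (CohB1.tensorPow L (n x + 1)).presheaf.map (homOfLE h2).op
          (g x • SecTwist.val (SecTwist.powHom s (n x + 1)) (CohB1.genLocus L s)) :=
      (Scheme.Modules.map_smul (CohB1.tensorPow L (n x + 1)) (homOfLE h2) (g x) _).symm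
    have e3 : (CohB1.tensorPow L (n x + 1)).presheaf.map (homOfLE h2).op
          (g x • SecTwist.val (SecTwist.powHom s (n x + 1)) (CohB1.genLocus L s)) =
        SecTwist.val (τ x) O :=
      (congrArg ((CohB1.tensorPow L (n x + 1)).presheaf.map (homOfLE h2).op) (hg x).symm).trans
        (val_res (τ x) h2)
    rw [e1, e3, ← val_res (τ x) h1]
    have e2 : X.presheaf.map (homOfLE h1).op (a x) •
        (CohB1.tensorPow L (n x + 1)).presheaf.map (homOfLE h1).op
          (SecTwist.val (τ x) (CohB1.genLocus _ (τ x))) =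
        (CohB1.tensorPow L (n x + 1)).presheaf.map (homOfLE h1).op
          (a x • SecTwist.val (τ x) (CohB1.genLocus _ (τ x))) :=
      (Scheme.Modules.map_smul (CohB1.tensorPow L (n x + 1)) (homOfLE h1) (a x) _).symm
    have e4 : (CohB1.tensorPow L (n x + 1)).presheaf.map (homOfLE h1).op
          (a x • SecTwist.val (τ x) (CohB1.genLocus _ (τ x))) =
        SecTwist.val (SecTwist.powHom s (n x + 1)) O :=
      (congrArg ((CohB1.tensorPow L (n x + 1)).presheaf.map (homOfLE h1).op) (ha x).symm).trans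
        (val_res _ h1)
    rw [e2, e4, val_res]
  -- `X_s` is quasi-compact
  have hUcpt : IsCompact ((CohB1.genLocus L s : X.Opens) : Set X) := by
    obtain ⟨t0, ht0⟩ := isCompact_univ.elim_finite_subcover
      (fun x : X => ((CohB1.genLocus _ (τ x) : X.Opens) : Set X))
      (fun x => (CohB1.genLocus _ (τ x)).2) (fun x _ => Set.mem_iUnion.mpr ⟨x, hxτ x⟩)
    have hcov : ((CohB1.genLocus L s : X.Opens) : Set X) =
        ⋃ x ∈ t0, ((X.basicOpen (g x) : X.Opens) : Set X) := by
      ext y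
      simp only [Set.mem_iUnion, SetLike.mem_coe, exists_prop]
      constructor
      · intro hy
        obtain ⟨x, hx, hyx⟩ := Set.mem_iUnion₂.mp (ht0 (Set.mem_univ y))
        refine ⟨x, hx, ?_⟩
        rw [← hD1 x]
        exact ⟨hyx, hy⟩
      · rintro ⟨x, -, hyx⟩
        rw [← hD1 x] at hyx
        exact hyx.2
    rw [hcov]
    exact t0.isCompact_biUnion (fun x _ => (haff x).isCompact)
  haveI : CompactSpace (CohB1.genLocus L s : X.Opens).toScheme :=
    isCompact_iff_compactSpace.mp hUcpt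
  have hspan' : Ideal.span (Set.range fun x : X =>
      (CohB1.genLocus L s).topIso.inv (g x)) = ⊤ := by
    refine Groth.Agent.H4.XsAffA.span_eq_top_of_graph f (CohB1.genLocus L s).ι
      (fun x : X => CohB1.genLocus _ (τ x)) (fun x => ⟨x, hxτ x⟩) a _ ?_
    intro x
    have hO1 : (CohB1.genLocus L s).ι ''ᵁ ((CohB1.genLocus L s).ι ⁻¹ᵁ CohB1.genLocus _ (τ x)) ≤
        CohB1.genLocus _ (τ x) := by
      rintro _ ⟨y, hy, rfl⟩; exact hy
    have hO2 : (CohB1.genLocus L s).ι ''ᵁ ((CohB1.genLocus L s).ι ⁻¹ᵁ CohB1.genLocus _ (τ x)) ≤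
        CohB1.genLocus L s := by
      rintro _ ⟨y, hy, rfl⟩; exact y.2
    have key := hprod x _ hO1 hO2
    refine Eq.trans ?_ key
    congr 1
    change X.presheaf.map _ (X.presheaf.map _ (g x)) = _
    rw [← CommRingCat.comp_apply, ← Functor.map_comp]
    rfl
  have hspan : Ideal.span (Set.range g) = ⊤ := by
    have h1 := congrArg (Ideal.map (CohB1.genLocus L s).topIso.hom.hom) hspan'
    rw [Ideal.map_span, Ideal.map_top, ← Set.range_comp] at h1
    convert h1 using 3
    ext x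
    exact (Iso.inv_hom_id_apply (C := CommRingCat) (CohB1.genLocus L s).topIso (g x)).symm
  exact isAffineOpen_of_isAffineOpen_basicOpen _ (Set.range g) hspan
    (by rintro _ ⟨x, rfl⟩; exact haff x)

/-- **S9694.** -/
theorem main {X S : Scheme.{u}} (f : X ⟶ S) [UniversallyClosed f]
    (L : X.Modules) (hL : RelAmple.IsRelAmple f L) (s : Coh.structureModule X ⟶ L) :
    IsAffineHom ((CohB1.genLocus L s).ι ≫ f) := by
  refine ⟨fun V hV => ?_⟩
  haveI : IsAffine (V : Scheme) := hV
  haveI : UniversallyClosed (f ∣_ V) := IsZariskiLocalAtTarget.restrict ‹_› V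
  have hamp := hL.2 ⟨V, hV⟩
  have h1 := isAffineOpen_genLocus_of_affine_base (f ∣_ V) (L.restrict (f ⁻¹ᵁ V).ι) hamp
    (resSec (f ⁻¹ᵁ V).ι s)
  rw [genLocus_resSec] at h1
  have h2 : IsAffineOpen ((f ⁻¹ᵁ V) ⊓ CohB1.genLocus L s) := by
    have h3 := h1.image_of_isOpenImmersion (f ⁻¹ᵁ V).ι
    rwa [Scheme.Hom.image_preimage_eq_opensRange_inf, Scheme.Opens.opensRange_ι] at h3
  rw [← Scheme.Hom.isAffineOpen_iff_of_isOpenImmersion (CohB1.genLocus L s).ι]
  have h4 : (CohB1.genLocus L s).ι ''ᵁ (((CohB1.genLocus L s).ι ≫ f) ⁻¹ᵁ V) =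
      (f ⁻¹ᵁ V) ⊓ CohB1.genLocus L s := by
    change (CohB1.genLocus L s).ι ''ᵁ ((CohB1.genLocus L s).ι ⁻¹ᵁ (f ⁻¹ᵁ V)) = _
    rw [Scheme.Hom.image_preimage_eq_opensRange_inf, Scheme.Opens.opensRange_ι, inf_comm]
  rw [h4]
  exact h2

end Groth.Agent.H4.XsAffB
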