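import Mathlib
import Groth.Agent.Lib.Lead.QC.PullAmple
import Groth.Agent.Lib.Lead.QC.RestrictOpen
import Groth.Agent.Lib.Lead.QC.Mon
import Groth.Agent.Lib.Lead.QC.AmpleFamily
import Groth.Agent.S2331
universe u
open CategoryTheory CategoryTheory.Limits AlgebraicGeometry TopologicalSpace Opposite
open Groth.Agent.LD.QC

namespace Groth.Agent.H4.YTriv

variable {X X' : Scheme.{u}}

/-- a section `O ⟶ L` is an isomorphism iff its generating locus is everything. -/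
theorem isIso_iff_genLocus_eq_top {L : X.Modules} (s : unitMod X ⟶ L) :
    IsIso s ↔ CohB1.genLocus L s = ⊤ := by
  rw [← top_le_iff, le_genLocus_iff]
  constructor
  · intro h V _
    exact app_bijective_of_isIso s V
  · intro h
    rw [Scheme.Modules.Hom.isIso_iff_isIso_app]
    intro W
    rw [ConcreteCategory.isIso_iff_bijective]
    exact h W le_top

/-- `pbHom g s` is the pullback of `s` precomposed with the comparison `O_{X'} ⟶ g^* O_X`. -/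
theorem pbHom_eq (g : X' ⟶ X) {M : X.Modules} (s : unitMod X ⟶ M) :
    pbHom g s = pbHom g (𝟙 (unitMod X)) ≫ (Scheme.Modules.pullback g).map s := by
  apply unitHom_ext
  have e1 : sectionOfHom (pbHom g s) = SecTwist.val (pbHom g s) ⊤ := rfl
  have e2 : sectionOfHom (pbHom g (𝟙 (unitMod X)) ≫ (Scheme.Modules.pullback g).map s) =
      ((Scheme.Modules.pullback g).map s).app ⊤ (SecTwist.val (pbHom g (𝟙 (unitMod X))) ⊤) := rfl
  have htop : (⊤ : X'.Opens) ≤ g ⁻¹ᵁ (⊤ : X.Opens) := fun _ _ => trivial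
  rw [e1, e2, val_pbHom g s htop, val_pbHom g (𝟙 (unitMod X)) htop]
  exact (pbSec_naturality g s htop (SecTwist.val (𝟙 (unitMod X)) ⊤)).symm

instance isIso_pbHom_id (g : X' ⟶ X) : IsIso (pbHom g (𝟙 (unitMod X))) := by
  rw [isIso_iff_genLocus_eq_top, genLocus_pbHom g (isInvertible_unit X), genLocus_id]
  rfl

/-- **Criterion for a trivialisation.** For an invertible `M` and `s : O_X ⟶ M`, the pullback
`g^* s` is an isomorphism iff `g` maps into `X_s`. -/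
theorem isIso_pullback_map_iff (g : X' ⟶ X) {M : X.Modules} (hM : PicF.IsInvertible M)
    (s : unitMod X ⟶ M) :
    IsIso ((Scheme.Modules.pullback g).map s) ↔ ∀ x' : X', g x' ∈ CohB1.genLocus M s := by
  have h1 : IsIso ((Scheme.Modules.pullback g).map s) ↔ IsIso (pbHom g s) := by
    rw [pbHom_eq]
    constructor
    · intro h; infer_instance
    · intro h
      exact IsIso.of_isIso_comp_left (pbHom g (𝟙 (unitMod X))) _
  rw [h1, isIso_iff_genLocus_eq_top, genLocus_pbHom g hM, eq_top_iff]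
  constructor
  · intro h x'
    exact h (show x' ∈ (⊤ : X'.Opens) from trivial)
  · intro h x' _
    exact h x'

/-- **S17892**: composition of `Y`-blow-ups. -/
theorem main {X Y : Scheme.{u}} (f : Y ⟶ X)
    [CompactSpace X] [QuasiSeparatedSpace X] [CompactSpace Y] [QuasiSeparatedSpace Y] [IsAffineHom f]
    {Xᵢ Xⱼ : Scheme.{u}} (fᵢ : Y ⟶ Xᵢ) (gᵢ : Xᵢ ⟶ X) (fⱼ : Y ⟶ Xⱼ) (gᵢⱼ : Xⱼ ⟶ Xᵢ)
    (hᵢ : IsSchemeTheoreticallyDominant fᵢ ∧ IsProper gᵢ ∧ fᵢ ≫ gᵢ = f ∧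
        ∃ (L : Xᵢ.Modules) (ε : Coh.structureModule Xᵢ ⟶ L),
          RelAmple.IsRelAmple gᵢ L ∧ IsIso ((Scheme.Modules.pullback fᵢ).map ε))
    (hⱼ : IsSchemeTheoreticallyDominant fⱼ ∧ IsProper gᵢⱼ ∧ fⱼ ≫ gᵢⱼ = fᵢ ∧
        ∃ (L : Xⱼ.Modules) (ε : Coh.structureModule Xⱼ ⟶ L),
          RelAmple.IsRelAmple gᵢⱼ L ∧ IsIso ((Scheme.Modules.pullback fⱼ).map ε)) :
    IsSchemeTheoreticallyDominant fⱼ ∧ IsProper (gᵢⱼ ≫ gᵢ) ∧ fⱼ ≫ (gᵢⱼ ≫ gᵢ) = f ∧
        ∃ (L : Xⱼ.Modules) (ε : Coh.structureModule Xⱼ ⟶ L),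
          RelAmple.IsRelAmple (gᵢⱼ ≫ gᵢ) L ∧ IsIso ((Scheme.Modules.pullback fⱼ).map ε) := by
  obtain ⟨hdomi, hpropi, hfi, Li, εi, hLi, hεi⟩ := hᵢ
  obtain ⟨hdomj, hpropj, hfj, Lj, εj, hLj, hεj⟩ := hⱼ
  haveI := hpropi
  haveI := hpropj
  obtain ⟨n₀, hn₀, hn⟩ := Groth.Agent.S2331.result gᵢⱼ gᵢ Lj Li hLj hLi
  have hinvi := isInvertible_of_isRelAmple gᵢ Li hLi
  have hinvj := isInvertible_of_isRelAmple gᵢⱼ Lj hLj
  have hinvp := isInvertible_pullback gᵢⱼ (isInvertible_tensorPow hinvi n₀)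
  refine ⟨hdomj, inferInstance, by rw [← Category.assoc, hfj, hfi], _,
    SecTwist.tmulHom εj (pbHom gᵢⱼ (SecTwist.powHom εi n₀)), hn n₀ le_rfl, ?_⟩
  rw [isIso_pullback_map_iff fⱼ (isInvertible_tensorMod hinvj hinvp)]
  intro y
  rw [genLocus_tmulHom hinvj hinvp, genLocus_pbHom gᵢⱼ (isInvertible_tensorPow hinvi n₀)]
  refine ⟨(isIso_pullback_map_iff fⱼ hinvj εj).mp hεj y, ?_⟩
  apply le_genLocus_powHom hinvi εi n₀
  have h1 := (isIso_pullback_map_iff fᵢ hinvi εi).mp hεi y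
  rw [← hfj, Scheme.Hom.comp_apply] at h1
  exact h1

end Groth.Agent.H4.YTriv
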