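import Mathlib
import Groth.Agent.H4.YTriv
import Groth.Agent.Lib.Lead.QC.PullRel
import Groth.Agent.S2332
import Groth.Agent.H4.ChowA
universe u
open CategoryTheory CategoryTheory.Limits AlgebraicGeometry TopologicalSpace Opposite
open Groth.Agent.LD.QC Groth.Agent.H4.YTriv

namespace Groth.Agent.H4.YBlow

/-- pullback of an ample module along an affine morphism from a quasi-compact scheme is ample. -/
theorem isAmple_pullback_of_isAffineHom {X X' : Scheme.{u}} (g : X' ⟶ X) [IsAffineHom g]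
    [CompactSpace X'] (L : X.Modules) (hL : CohB1.IsAmple L) :
    CohB1.IsAmple ((Scheme.Modules.pullback g).obj L) :=
  isAmple_pullback_of_affine_nhds g L hL (fun x' => by
    obtain ⟨W, hW, hx, -⟩ := exists_isAffineOpen_mem_and_subset (x := g x') (U := ⊤) trivial
    exact ⟨W, g ⁻¹ᵁ W, hx, hW.preimage g, le_rfl⟩)

set_option backward.isDefEq.respectTransparency.types false in
theorem isAffineHom_morphismRestrict {X Y : Scheme.{u}} (g : X ⟶ Y) [IsAffineHom g] (U : Y.Opens) :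
    IsAffineHom (g ∣_ U) :=
  IsZariskiLocalAtTarget.restrict ‹_› _

/-- pullback of a relatively ample module along an affine morphism is relatively ample. -/
theorem isRelAmple_pullback_of_isAffineHom {X X' Y : Scheme.{u}} (f : X ⟶ Y) (g : X' ⟶ X)
    [IsAffineHom g] [QuasiCompact f] (L : X.Modules) (hL : RelAmple.IsRelAmple f L) :
    RelAmple.IsRelAmple (g ≫ f) ((Scheme.Modules.pullback g).obj L) := by
  apply isRelAmple_pullback_of_forall
  intro V
  haveI : IsAffineHom (g ∣_ (f ⁻¹ᵁ V.1)) := isAffineHom_morphismRestrict g _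
  haveI : CompactSpace ((g ⁻¹ᵁ (f ⁻¹ᵁ V.1) : X'.Opens) : Scheme.{u}) := by
    apply isCompact_iff_compactSpace.mp
    exact QuasiCompact.isCompact_preimage (f := g ≫ f) _ V.1.2 V.2.isCompact
  exact isAmple_pullback_of_isAffineHom _ _ (hL.2 V)

/-- **S17891**: two `Y`-blow-ups are dominated by a third. -/
theorem main17891 {X Y : Scheme.{u}} (f : Y ⟶ X)
    [CompactSpace X] [QuasiSeparatedSpace X] [CompactSpace Y] [QuasiSeparatedSpace Y] [IsAffineHom f]
    {X₁ X₂ : Scheme.{u}} (f₁ : Y ⟶ X₁) (g₁ : X₁ ⟶ X) (f₂ : Y ⟶ X₂) (g₂ : X₂ ⟶ X)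
    (h₁ : IsSchemeTheoreticallyDominant f₁ ∧ IsProper g₁ ∧ f₁ ≫ g₁ = f ∧
        ∃ (L : X₁.Modules) (ε : Coh.structureModule X₁ ⟶ L),
          RelAmple.IsRelAmple g₁ L ∧ IsIso ((Scheme.Modules.pullback f₁).map ε))
    (h₂ : IsSchemeTheoreticallyDominant f₂ ∧ IsProper g₂ ∧ f₂ ≫ g₂ = f ∧
        ∃ (L : X₂.Modules) (ε : Coh.structureModule X₂ ⟶ L),
          RelAmple.IsRelAmple g₂ L ∧ IsIso ((Scheme.Modules.pullback f₂).map ε)) :
    ∃ (X₃ : Scheme.{u}) (f₃ : Y ⟶ X₃) (g₃ : X₃ ⟶ X) (d₁ : X₃ ⟶ X₁) (d₂ : X₃ ⟶ X₂),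
      (IsSchemeTheoreticallyDominant f₃ ∧ IsProper g₃ ∧ f₃ ≫ g₃ = f ∧
        ∃ (L : X₃.Modules) (ε : Coh.structureModule X₃ ⟶ L),
          RelAmple.IsRelAmple g₃ L ∧ IsIso ((Scheme.Modules.pullback f₃).map ε)) ∧
      f₃ ≫ d₁ = f₁ ∧ d₁ ≫ g₁ = g₃ ∧ f₃ ≫ d₂ = f₂ ∧ d₂ ≫ g₂ = g₃ := by
  obtain ⟨hdom1, hprop1, hf1, L1, ε1, hL1, hε1⟩ := h₁
  obtain ⟨hdom2, hprop2, hf2, L2, ε2, hL2, hε2⟩ := h₂
  haveI := hprop1
  haveI := hprop2
  have hinv1 := isInvertible_of_isRelAmple g₁ L1 hL1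
  have hinv2 := isInvertible_of_isRelAmple g₂ L2 hL2
  let h : Y ⟶ pullback g₁ g₂ := pullback.lift f₁ f₂ (hf1.trans hf2.symm)
  have hh1 : h ≫ pullback.fst g₁ g₂ = f₁ := pullback.lift_fst _ _ _
  have hh2 : h ≫ pullback.snd g₁ g₂ = f₂ := pullback.lift_snd _ _ _
  have hA : RelAmple.IsRelAmple (pullback.snd g₁ g₂)
      ((Scheme.Modules.pullback (pullback.fst g₁ g₂)).obj L1) :=
    Groth.Agent.S2332.result g₁ g₂ L1 hL1
  obtain ⟨n₀, hn₀, hn⟩ := Groth.Agent.S2331.result (pullback.snd g₁ g₂) g₂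
    ((Scheme.Modules.pullback (pullback.fst g₁ g₂)).obj L1) L2 hA hL2
  have hN := hn n₀ le_rfl
  have hinvA := isInvertible_pullback (pullback.fst g₁ g₂) hinv1
  have hinvB := isInvertible_pullback (pullback.snd g₁ g₂) (isInvertible_tensorPow hinv2 n₀)
  have hinvN := isInvertible_tensorMod hinvA hinvB
  haveI : QuasiCompact (h ≫ (pullback.snd g₁ g₂ ≫ g₂)) := by
    rw [← Category.assoc, hh2, hf2]; infer_instance
  haveI : QuasiCompact h := QuasiCompact.of_comp h (pullback.snd g₁ g₂ ≫ g₂)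
  have hL3 := isRelAmple_pullback_of_isAffineHom (pullback.snd g₁ g₂ ≫ g₂) h.imageι _ hN
  have hti : h.toImage ≫ h.imageι = h := Scheme.Hom.toImage_imageι h
  refine ⟨h.image, h.toImage, h.imageι ≫ (pullback.snd g₁ g₂ ≫ g₂),
    h.imageι ≫ pullback.fst g₁ g₂, h.imageι ≫ pullback.snd g₁ g₂,
    ⟨Groth.Agent.H4.ChowA.sd_toImage h, inferInstance, ?_, _,
      pbHom h.imageι (SecTwist.tmulHom (pbHom (pullback.fst g₁ g₂) ε1)
        (pbHom (pullback.snd g₁ g₂) (SecTwist.powHom ε2 n₀))), hL3, ?_⟩, ?_, ?_, ?_, ?_⟩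
  · rw [← Category.assoc, hti, ← Category.assoc, hh2, hf2]
  · rw [isIso_pullback_map_iff h.toImage (isInvertible_pullback h.imageι hinvN)]
    intro y
    have key : h y ∈ CohB1.genLocus _ (SecTwist.tmulHom (pbHom (pullback.fst g₁ g₂) ε1)
        (pbHom (pullback.snd g₁ g₂) (SecTwist.powHom ε2 n₀))) := by
      rw [genLocus_tmulHom hinvA hinvB,
        genLocus_pbHom _ hinv1, genLocus_pbHom _ (isInvertible_tensorPow hinv2 n₀)]
      constructor
      · have e1 : pullback.fst g₁ g₂ (h y) = f₁ y := by rw [← Scheme.Hom.comp_apply, hh1]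
        have k1 := (isIso_pullback_map_iff f₁ hinv1 ε1).mp hε1 y
        rw [← e1] at k1
        exact k1
      · have e2 : pullback.snd g₁ g₂ (h y) = f₂ y := by rw [← Scheme.Hom.comp_apply, hh2]
        have k2 := le_genLocus_powHom hinv2 ε2 n₀ ((isIso_pullback_map_iff f₂ hinv2 ε2).mp hε2 y)
        rw [← e2] at k2
        exact k2
    have e : h.imageι (h.toImage y) = h y := by rw [← Scheme.Hom.comp_apply, hti]
    rw [genLocus_pbHom h.imageι hinvN]
    rw [← e] at key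
    exact key
  · rw [← Category.assoc, hti, hh1]
  · rw [Category.assoc, pullback.condition]
  · rw [← Category.assoc, hti, hh2]
  · rw [Category.assoc]

end Groth.Agent.H4.YBlow
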